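import Cfsg.Agent.Lib.KBCheck

/-! The presentation `⟨a, b | a², b⁴, (ab)⁵, (ab²)⁵⟩` of the alternating group of degree 6. -/

set_option autoImplicit false

namespace Cfsg.Agent.Lib.A6Pres

open Cfsg.Agent.Lib.KBCheck

/-- The defining relators. -/
def rels : Set (FreeGroup (Fin 2)) :=
  {FreeGroup.of (0 : Fin 2) ^ 2, FreeGroup.of (1 : Fin 2) ^ 4, (FreeGroup.of (0 : Fin 2) * FreeGroup.of 1) ^ 5,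
    (FreeGroup.of (0 : Fin 2) * FreeGroup.of 1 ^ 2) ^ 5}

def baseRules : List Rule := [([0, 0], []), ([1, 1, 1, 1], []), ([0, 1, 0, 1, 0, 1, 0, 1, 0, 1], []), ([0, 1, 1, 0, 1, 1, 0, 1, 1, 0, 1, 1, 0, 1, 1], [])]
def certA : List (ℕ × ℕ × ℕ) := [(0, 2, 1), (0, 3, 1), (2, 1, 9), (2, 3, 8), (3, 1, 13), (0, 6, 1), (0, 8, 1), (1, 4, 3), (1, 5, 2), (2, 6, 8), (2, 7, 7), (2, 8, 8), (3, 8, 12), (4, 4, 8), (4, 7, 6), (4, 7, 8), (5, 8, 11), (7, 5, 11), (7, 8, 10), (8, 5, 10), (8, 8, 9), (7, 13, 12), (7, 20, 12), (7, 22, 11), (13, 17, 6), (14, 6, 11), (14, 14, 11), (14, 15, 10), (14, 18, 9), (16, 9, 8), (17, 13, 6), (17, 18, 3), (18, 4, 10), (18, 5, 10), (18, 10, 10), (18, 13, 9), (18, 19, 10), (18, 22, 9), (20, 9, 7), (20, 17,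 7), (23, 20, 8), (1, 37, 2), (1, 38, 2), (1, 38, 3), (1, 40, 3), (5, 37, 12), (11, 30, 5), (11, 36, 4), (13, 34, 6), (13, 37, 5), (13, 38, 5), (13, 40, 5), (13, 41, 6), (13, 43, 5), (14, 25, 11), (14, 30, 10), (15, 27, 10), (15, 37, 8), (15, 38, 8), (16, 27, 9), (16, 28, 9), (16, 34, 8), (16, 38, 7), (16, 40, 7), (17, 32, 4), (17, 36, 3), (17, 39, 3), (18, 26, 9), (18, 31, 9), (18, 37, 9), (20, 28, 8), (20, 34, 7), (21, 26, 8), (21, 31, 8), (22, 41, 8), (22, 43, 8), (23, 26, 7), (23, 31, 7), (23, 43, 8), (24, 26, 6), (24, 31, 6), (24, 43, 7), (25, 39, 9), (26, 25, 11), (26, 27, 11), (26, 28, 11), (26, 34, 10), (26, 37, 9), (26, 38, 9), (26, 39, 11), (26, 40, 9), (27, 34, 10), (28, 22, 10), (28, 30, 8), (28, 36, 7),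 (28, 39, 7), (29, 30, 12), (29, 38, 11), (29, 44, 11), (30, 1, 17), (30, 19, 17), (30, 37, 17), (30, 38, 17), (30, 39, 10), (30, 40, 17), (32, 30, 11), (32, 43, 10), (33, 38, 10), (33, 40, 10), (34, 36, 8), (36, 15, 9), (36, 18, 8), (36, 34, 7), (38, 27, 14), (39, 14, 13), (39, 25, 13), (39, 29, 12), (39, 36, 11), (40, 29, 8), (0, 98, 1), (0, 104, 1), (0, 121, 1), (0, 122, 1), (1, 70, 3), (1, 88, 3), (1, 91, 3), (1, 103, 2), (1, 107, 2), (1, 113, 3), (1, 118, 3), (1, 119, 3), (2, 96, 6)]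
def finalRules : List Rule := run 60 baseRules certA
def nfsA : List (List ℕ) := [[], [0], [1], [0, 1], [1, 0], [1, 1], [0, 1, 0], [0, 1, 1], [1, 0, 1], [1, 1, 0], [1, 1, 1], [0, 1, 0, 1], [0, 1, 1, 0], [0, 1, 1, 1], [1, 0, 1, 0], [1, 0, 1, 1], [1, 1, 0, 1], [1, 1, 1, 0], [0, 1, 0, 1, 0], [0, 1, 0, 1, 1], [0, 1, 1, 0, 1], [0, 1, 1, 1, 0], [1, 0, 1, 0, 1], [1, 0, 1, 1, 0], [1, 0, 1, 1, 1], [1, 1, 0, 1, 0], [1, 1, 0, 1, 1], [1, 1, 1, 0, 1], [0, 1, 0, 1, 0, 1], [0, 1, 0, 1, 1, 0], [0, 1, 0, 1, 1, 1], [0, 1, 1, 0, 1, 0], [0, 1, 1, 0, 1, 1], [0, 1, 1, 1, 0, 1], [1, 0, 1, 0, 1, 0], [1, 0, 1, 0, 1, 1], [1, 0, 1, 1, 0, 1], [1, 0, 1, 1, 1, 0], [1, 1, 0, 1, 0, 1], [1, 1, 0, 1, 1, 0], [1, 1, 0, 1, 1, 1], [1, 1, 1, 0, 1, 0], [1,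 1, 1, 0, 1, 1], [0, 1, 0, 1, 0, 1, 0], [0, 1, 0, 1, 0, 1, 1], [0, 1, 0, 1, 1, 0, 1], [0, 1, 0, 1, 1, 1, 0], [0, 1, 1, 0, 1, 0, 1], [0, 1, 1, 0, 1, 1, 0], [0, 1, 1, 0, 1, 1, 1], [0, 1, 1, 1, 0, 1, 0], [0, 1, 1, 1, 0, 1, 1], [1, 0, 1, 0, 1, 1, 0], [1, 0, 1, 0, 1, 1, 1], [1, 0, 1, 1, 0, 1, 0], [1, 0, 1, 1, 0, 1, 1], [1, 0, 1, 1, 1, 0, 1], [1, 1, 0, 1, 0, 1, 0], [1, 1, 0, 1, 0, 1, 1], [1, 1, 0, 1, 1, 0, 1], [1, 1, 0, 1, 1, 1, 0], [1, 1, 1, 0, 1, 0, 1], [1, 1, 1, 0, 1, 1, 0], [0, 1, 0, 1, 0, 1, 1, 0], [0, 1, 0, 1, 0, 1, 1, 1], [0, 1, 0, 1, 1, 0, 1, 0], [0, 1, 0, 1, 1, 0, 1, 1], [0, 1, 0, 1, 1, 1, 0, 1], [0, 1, 1, 0, 1, 0, 1, 0], [0, 1, 1, 0, 1, 0, 1, 1], [0, 1, 1, 0, 1, 1, 0, 1], [0, 1, 1, 0, 1, 1, 1, 0], [0, 1, 1, 1, 0,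 1, 0, 1], [0, 1, 1, 1, 0, 1, 1, 0], [1, 0, 1, 0, 1, 1, 0, 1], [1, 0, 1, 0, 1, 1, 1, 0], [1, 0, 1, 1, 0, 1, 0, 1], [1, 0, 1, 1, 0, 1, 1, 0], [1, 0, 1, 1, 0, 1, 1, 1], [1, 0, 1, 1, 1, 0, 1, 0], [1, 0, 1, 1, 1, 0, 1, 1], [1, 1, 0, 1, 0, 1, 1, 0], [1, 1, 0, 1, 0, 1, 1, 1], [1, 1, 0, 1, 1, 0, 1, 0], [1, 1, 0, 1, 1, 1, 0, 1], [1, 1, 1, 0, 1, 0, 1, 0], [1, 1, 1, 0, 1, 0, 1, 1], [1, 1, 1, 0, 1, 1, 0, 1], [0, 1, 0, 1, 0, 1, 1, 0, 1], [0, 1, 0, 1, 0, 1, 1, 1, 0], [0, 1, 0, 1, 1, 0, 1, 0, 1], [0, 1, 0, 1, 1, 0, 1, 1, 0], [0, 1, 0, 1, 1, 0, 1, 1, 1], [0, 1, 0, 1, 1, 1, 0, 1, 0], [0, 1, 0, 1, 1, 1, 0, 1, 1], [0, 1, 1, 0, 1, 0, 1, 1, 0], [0, 1, 1, 0, 1, 0, 1, 1, 1], [0, 1, 1, 0, 1, 1, 0, 1, 0], [0, 1, 1, 0, 1, 1, 1, 0, 1], [0, 1,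 1, 1, 0, 1, 0, 1, 0], [0, 1, 1, 1, 0, 1, 0, 1, 1], [0, 1, 1, 1, 0, 1, 1, 0, 1], [1, 0, 1, 0, 1, 1, 0, 1, 0], [1, 0, 1, 0, 1, 1, 0, 1, 1], [1, 0, 1, 0, 1, 1, 1, 0, 1], [1, 0, 1, 1, 0, 1, 0, 1, 0], [1, 0, 1, 1, 0, 1, 0, 1, 1], [1, 0, 1, 1, 0, 1, 1, 0, 1], [1, 0, 1, 1, 0, 1, 1, 1, 0], [1, 0, 1, 1, 1, 0, 1, 0, 1], [1, 0, 1, 1, 1, 0, 1, 1, 0], [1, 1, 0, 1, 0, 1, 1, 0, 1], [1, 1, 0, 1, 0, 1, 1, 1, 0], [1, 1, 0, 1, 1, 0, 1, 0, 1], [1, 1, 0, 1, 1, 1, 0, 1, 0], [1, 1, 0, 1, 1, 1, 0, 1, 1], [1, 1, 1, 0, 1, 0, 1, 1, 0], [1, 1, 1, 0, 1, 0, 1, 1, 1], [1, 1, 1, 0, 1, 1, 0, 1, 0], [0, 1, 0, 1, 0, 1, 1, 0, 1, 0], [0, 1, 0, 1, 0, 1, 1, 0, 1, 1], [0, 1, 0, 1, 0, 1, 1, 1, 0, 1], [0, 1, 0, 1, 1, 0, 1, 0, 1, 0], [0, 1, 0, 1, 1, 0, 1, 0,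 1, 1], [0, 1, 0, 1, 1, 0, 1, 1, 0, 1], [0, 1, 0, 1, 1, 0, 1, 1, 1, 0], [0, 1, 0, 1, 1, 1, 0, 1, 0, 1], [0, 1, 0, 1, 1, 1, 0, 1, 1, 0], [0, 1, 1, 0, 1, 0, 1, 1, 0, 1], [0, 1, 1, 0, 1, 0, 1, 1, 1, 0], [0, 1, 1, 0, 1, 1, 0, 1, 0, 1], [0, 1, 1, 0, 1, 1, 1, 0, 1, 0], [0, 1, 1, 0, 1, 1, 1, 0, 1, 1], [0, 1, 1, 1, 0, 1, 0, 1, 1, 0], [0, 1, 1, 1, 0, 1, 0, 1, 1, 1], [0, 1, 1, 1, 0, 1, 1, 0, 1, 0], [1, 0, 1, 0, 1, 1, 0, 1, 0, 1], [1, 0, 1, 0, 1, 1, 0, 1, 1, 0], [1, 0, 1, 0, 1, 1, 0, 1, 1, 1], [1, 0, 1, 0, 1, 1, 1, 0, 1, 0], [1, 0, 1, 0, 1, 1, 1, 0, 1, 1], [1, 0, 1, 1, 0, 1, 0, 1, 1, 0], [1, 0, 1, 1, 0, 1, 0, 1, 1, 1], [1, 0, 1, 1, 0, 1, 1, 0, 1, 0], [1, 0, 1, 1, 0, 1, 1, 1, 0, 1], [1, 0, 1, 1, 1, 0, 1, 0, 1, 0], [1, 0, 1, 1, 1,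 0, 1, 0, 1, 1], [1, 0, 1, 1, 1, 0, 1, 1, 0, 1], [1, 1, 0, 1, 0, 1, 1, 0, 1, 0], [1, 1, 0, 1, 0, 1, 1, 0, 1, 1], [1, 1, 0, 1, 0, 1, 1, 1, 0, 1], [1, 1, 0, 1, 1, 0, 1, 0, 1, 0], [1, 1, 0, 1, 1, 0, 1, 0, 1, 1], [1, 1, 0, 1, 1, 1, 0, 1, 0, 1], [1, 1, 0, 1, 1, 1, 0, 1, 1, 0], [1, 1, 1, 0, 1, 0, 1, 1, 0, 1], [1, 1, 1, 0, 1, 0, 1, 1, 1, 0], [1, 1, 1, 0, 1, 1, 0, 1, 0, 1], [0, 1, 0, 1, 0, 1, 1, 0, 1, 1, 0], [0, 1, 0, 1, 0, 1, 1, 0, 1, 1, 1], [0, 1, 0, 1, 0, 1, 1, 1, 0, 1, 0], [0, 1, 0, 1, 0, 1, 1, 1, 0, 1, 1], [0, 1, 0, 1, 1, 0, 1, 0, 1, 1, 0], [0, 1, 0, 1, 1, 0, 1, 0, 1, 1, 1], [0, 1, 0, 1, 1, 0, 1, 1, 1, 0, 1], [0, 1, 0, 1, 1, 1, 0, 1, 0, 1, 0], [0, 1, 0, 1, 1, 1, 0, 1, 0, 1, 1], [0, 1, 0, 1, 1, 1, 0, 1, 1, 0, 1], [0, 1,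 1, 0, 1, 0, 1, 1, 0, 1, 0], [0, 1, 1, 0, 1, 0, 1, 1, 0, 1, 1], [0, 1, 1, 0, 1, 0, 1, 1, 1, 0, 1], [0, 1, 1, 0, 1, 1, 0, 1, 0, 1, 0], [0, 1, 1, 0, 1, 1, 0, 1, 0, 1, 1], [0, 1, 1, 0, 1, 1, 1, 0, 1, 0, 1], [0, 1, 1, 0, 1, 1, 1, 0, 1, 1, 0], [0, 1, 1, 1, 0, 1, 0, 1, 1, 0, 1], [0, 1, 1, 1, 0, 1, 0, 1, 1, 1, 0], [0, 1, 1, 1, 0, 1, 1, 0, 1, 0, 1], [1, 0, 1, 0, 1, 1, 0, 1, 0, 1, 1], [1, 0, 1, 0, 1, 1, 0, 1, 1, 0, 1], [1, 0, 1, 0, 1, 1, 0, 1, 1, 1, 0], [1, 0, 1, 0, 1, 1, 1, 0, 1, 0, 1], [1, 0, 1, 0, 1, 1, 1, 0, 1, 1, 0], [1, 0, 1, 1, 0, 1, 0, 1, 1, 0, 1], [1, 0, 1, 1, 0, 1, 0, 1, 1, 1, 0], [1, 0, 1, 1, 0, 1, 1, 0, 1, 0, 1], [1, 0, 1, 1, 0, 1, 1, 1, 0, 1, 0], [1, 0, 1, 1, 0, 1, 1, 1, 0, 1, 1], [1, 0, 1, 1, 1, 0, 1, 0, 1, 1, 0],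 [1, 0, 1, 1, 1, 0, 1, 0, 1, 1, 1], [1, 0, 1, 1, 1, 0, 1, 1, 0, 1, 0], [1, 1, 0, 1, 0, 1, 1, 0, 1, 0, 1], [1, 1, 0, 1, 0, 1, 1, 0, 1, 1, 0], [1, 1, 0, 1, 0, 1, 1, 0, 1, 1, 1], [1, 1, 0, 1, 0, 1, 1, 1, 0, 1, 0], [1, 1, 0, 1, 0, 1, 1, 1, 0, 1, 1], [1, 1, 0, 1, 1, 0, 1, 0, 1, 1, 0], [1, 1, 0, 1, 1, 0, 1, 0, 1, 1, 1], [1, 1, 0, 1, 1, 1, 0, 1, 0, 1, 0], [1, 1, 0, 1, 1, 1, 0, 1, 0, 1, 1], [1, 1, 0, 1, 1, 1, 0, 1, 1, 0, 1], [1, 1, 1, 0, 1, 0, 1, 1, 0, 1, 0], [1, 1, 1, 0, 1, 0, 1, 1, 0, 1, 1], [1, 1, 1, 0, 1, 0, 1, 1, 1, 0, 1], [1, 1, 1, 0, 1, 1, 0, 1, 0, 1, 0], [1, 1, 1, 0, 1, 1, 0, 1, 0, 1, 1], [0, 1, 0, 1, 0, 1, 1, 0, 1, 1, 0, 1], [0, 1, 0, 1, 0, 1, 1, 0, 1, 1, 1, 0], [0, 1, 0, 1, 0, 1, 1, 1, 0, 1, 0, 1], [0, 1, 0, 1, 1,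 0, 1, 0, 1, 1, 0, 1], [0, 1, 0, 1, 1, 0, 1, 0, 1, 1, 1, 0], [0, 1, 0, 1, 1, 0, 1, 1, 1, 0, 1, 0], [0, 1, 0, 1, 1, 0, 1, 1, 1, 0, 1, 1], [0, 1, 0, 1, 1, 1, 0, 1, 0, 1, 1, 0], [0, 1, 0, 1, 1, 1, 0, 1, 0, 1, 1, 1], [0, 1, 0, 1, 1, 1, 0, 1, 1, 0, 1, 0], [0, 1, 1, 0, 1, 0, 1, 1, 0, 1, 0, 1], [0, 1, 1, 0, 1, 0, 1, 1, 0, 1, 1, 0], [0, 1, 1, 0, 1, 0, 1, 1, 0, 1, 1, 1], [0, 1, 1, 0, 1, 0, 1, 1, 1, 0, 1, 0], [0, 1, 1, 0, 1, 0, 1, 1, 1, 0, 1, 1], [0, 1, 1, 0, 1, 1, 0, 1, 0, 1, 1, 0], [0, 1, 1, 0, 1, 1, 1, 0, 1, 0, 1, 1], [0, 1, 1, 0, 1, 1, 1, 0, 1, 1, 0, 1], [0, 1, 1, 1, 0, 1, 0, 1, 1, 0, 1, 0], [0, 1, 1, 1, 0, 1, 0, 1, 1, 1, 0, 1], [0, 1, 1, 1, 0, 1, 1, 0, 1, 0, 1, 0], [0, 1, 1, 1, 0, 1, 1, 0, 1, 0, 1, 1], [1, 0, 1, 0, 1, 1,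 0, 1, 0, 1, 1, 0], [1, 0, 1, 0, 1, 1, 0, 1, 0, 1, 1, 1], [1, 0, 1, 0, 1, 1, 1, 0, 1, 0, 1, 0], [1, 0, 1, 0, 1, 1, 1, 0, 1, 0, 1, 1], [1, 0, 1, 0, 1, 1, 1, 0, 1, 1, 0, 1], [1, 0, 1, 1, 0, 1, 0, 1, 1, 0, 1, 0], [1, 0, 1, 1, 0, 1, 0, 1, 1, 0, 1, 1], [1, 0, 1, 1, 0, 1, 0, 1, 1, 1, 0, 1], [1, 0, 1, 1, 0, 1, 1, 0, 1, 0, 1, 0], [1, 0, 1, 1, 0, 1, 1, 0, 1, 0, 1, 1], [1, 0, 1, 1, 0, 1, 1, 1, 0, 1, 0, 1], [1, 0, 1, 1, 0, 1, 1, 1, 0, 1, 1, 0], [1, 0, 1, 1, 1, 0, 1, 0, 1, 1, 0, 1], [1, 1, 0, 1, 0, 1, 1, 0, 1, 0, 1, 1], [1, 1, 0, 1, 0, 1, 1, 0, 1, 1, 0, 1], [1, 1, 0, 1, 0, 1, 1, 0, 1, 1, 1, 0], [1, 1, 0, 1, 0, 1, 1, 1, 0, 1, 0, 1], [1, 1, 0, 1, 0, 1, 1, 1, 0, 1, 1, 0], [1, 1, 0, 1, 1, 0, 1, 0, 1, 1, 0, 1], [1, 1, 0, 1, 1, 1, 0,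 1, 0, 1, 1, 0], [1, 1, 0, 1, 1, 1, 0, 1, 0, 1, 1, 1], [1, 1, 0, 1, 1, 1, 0, 1, 1, 0, 1, 0], [1, 1, 1, 0, 1, 0, 1, 1, 0, 1, 0, 1], [1, 1, 1, 0, 1, 0, 1, 1, 0, 1, 1, 1], [1, 1, 1, 0, 1, 0, 1, 1, 1, 0, 1, 1], [1, 1, 1, 0, 1, 1, 0, 1, 0, 1, 1, 0], [1, 1, 1, 0, 1, 1, 0, 1, 0, 1, 1, 1], [0, 1, 0, 1, 0, 1, 1, 1, 0, 1, 0, 1, 0], [0, 1, 0, 1, 0, 1, 1, 1, 0, 1, 0, 1, 1], [0, 1, 0, 1, 1, 0, 1, 0, 1, 1, 0, 1, 0], [0, 1, 0, 1, 1, 0, 1, 0, 1, 1, 0, 1, 1], [0, 1, 0, 1, 1, 0, 1, 0, 1, 1, 1, 0, 1], [0, 1, 0, 1, 1, 0, 1, 1, 1, 0, 1, 0, 1], [0, 1, 0, 1, 1, 0, 1, 1, 1, 0, 1, 1, 0], [0, 1, 0, 1, 1, 1, 0, 1, 0, 1, 1, 0, 1], [0, 1, 1, 0, 1, 0, 1, 1, 0, 1, 0, 1, 1], [0, 1, 1, 0, 1, 0, 1, 1, 0, 1, 1, 0, 1], [0, 1, 1, 0, 1, 0, 1, 1, 0, 1, 1,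 1, 0], [0, 1, 1, 0, 1, 0, 1, 1, 1, 0, 1, 0, 1], [0, 1, 1, 0, 1, 0, 1, 1, 1, 0, 1, 1, 0], [0, 1, 1, 0, 1, 1, 0, 1, 0, 1, 1, 0, 1], [0, 1, 1, 0, 1, 1, 1, 0, 1, 0, 1, 1, 0], [0, 1, 1, 0, 1, 1, 1, 0, 1, 0, 1, 1, 1], [0, 1, 1, 0, 1, 1, 1, 0, 1, 1, 0, 1, 0], [0, 1, 1, 1, 0, 1, 0, 1, 1, 0, 1, 0, 1], [0, 1, 1, 1, 0, 1, 0, 1, 1, 1, 0, 1, 1], [0, 1, 1, 1, 0, 1, 1, 0, 1, 0, 1, 1, 0], [0, 1, 1, 1, 0, 1, 1, 0, 1, 0, 1, 1, 1], [1, 0, 1, 0, 1, 1, 0, 1, 0, 1, 1, 1, 0], [1, 0, 1, 0, 1, 1, 1, 0, 1, 0, 1, 1, 0], [1, 0, 1, 0, 1, 1, 1, 0, 1, 0, 1, 1, 1], [1, 0, 1, 0, 1, 1, 1, 0, 1, 1, 0, 1, 0], [1, 0, 1, 1, 0, 1, 0, 1, 1, 0, 1, 1, 0], [1, 0, 1, 1, 0, 1, 0, 1, 1, 0, 1, 1, 1], [1, 0, 1, 1, 0, 1, 0, 1, 1, 1, 0, 1, 0], [1, 0, 1, 1, 0, 1, 0,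 1, 1, 1, 0, 1, 1], [1, 0, 1, 1, 0, 1, 1, 0, 1, 0, 1, 1, 0], [1, 0, 1, 1, 0, 1, 1, 1, 0, 1, 1, 0, 1], [1, 0, 1, 1, 1, 0, 1, 0, 1, 1, 0, 1, 0], [1, 1, 0, 1, 0, 1, 1, 0, 1, 0, 1, 1, 0], [1, 1, 0, 1, 0, 1, 1, 0, 1, 0, 1, 1, 1], [1, 1, 0, 1, 0, 1, 1, 1, 0, 1, 0, 1, 0], [1, 1, 0, 1, 1, 0, 1, 0, 1, 1, 0, 1, 0], [1, 1, 0, 1, 1, 0, 1, 0, 1, 1, 0, 1, 1], [1, 1, 0, 1, 1, 1, 0, 1, 0, 1, 1, 0, 1], [1, 1, 1, 0, 1, 0, 1, 1, 0, 1, 0, 1, 1], [1, 1, 1, 0, 1, 0, 1, 1, 0, 1, 1, 1, 0], [1, 1, 1, 0, 1, 0, 1, 1, 1, 0, 1, 1, 0], [1, 1, 1, 0, 1, 1, 0, 1, 0, 1, 1, 0, 1], [0, 1, 0, 1, 0, 1, 1, 1, 0, 1, 0, 1, 1, 0], [0, 1, 0, 1, 0, 1, 1, 1, 0, 1, 0, 1, 1, 1], [0, 1, 0, 1, 1, 0, 1, 0, 1, 1, 0, 1, 1, 0], [0, 1, 0, 1, 1, 0, 1, 0, 1, 1, 0, 1, 1, 1],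 [0, 1, 0, 1, 1, 0, 1, 0, 1, 1, 1, 0, 1, 0], [0, 1, 0, 1, 1, 0, 1, 0, 1, 1, 1, 0, 1, 1], [0, 1, 0, 1, 1, 0, 1, 1, 1, 0, 1, 1, 0, 1], [0, 1, 0, 1, 1, 1, 0, 1, 0, 1, 1, 0, 1, 0], [0, 1, 1, 0, 1, 0, 1, 1, 0, 1, 0, 1, 1, 0], [0, 1, 1, 0, 1, 0, 1, 1, 0, 1, 0, 1, 1, 1], [0, 1, 1, 0, 1, 0, 1, 1, 1, 0, 1, 0, 1, 0], [0, 1, 1, 0, 1, 1, 0, 1, 0, 1, 1, 0, 1, 0], [0, 1, 1, 0, 1, 1, 0, 1, 0, 1, 1, 0, 1, 1], [0, 1, 1, 0, 1, 1, 1, 0, 1, 0, 1, 1, 0, 1], [0, 1, 1, 1, 0, 1, 0, 1, 1, 0, 1, 0, 1, 1], [0, 1, 1, 1, 0, 1, 0, 1, 1, 1, 0, 1, 1, 0], [0, 1, 1, 1, 0, 1, 1, 0, 1, 0, 1, 1, 0, 1], [1, 0, 1, 0, 1, 1, 0, 1, 0, 1, 1, 1, 0, 1], [1, 0, 1, 0, 1, 1, 1, 0, 1, 0, 1, 1, 0, 1], [1, 0, 1, 1, 0, 1, 0, 1, 1, 0, 1, 1, 0, 1], [1, 0, 1, 1, 0, 1, 0,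 1, 1, 0, 1, 1, 1, 0], [1, 0, 1, 1, 0, 1, 0, 1, 1, 1, 0, 1, 0, 1], [1, 0, 1, 1, 0, 1, 0, 1, 1, 1, 0, 1, 1, 0], [1, 0, 1, 1, 0, 1, 1, 0, 1, 0, 1, 1, 0, 1], [1, 0, 1, 1, 0, 1, 1, 1, 0, 1, 1, 0, 1, 0], [1, 0, 1, 1, 1, 0, 1, 0, 1, 1, 0, 1, 0, 1], [1, 1, 0, 1, 0, 1, 1, 0, 1, 0, 1, 1, 1, 0], [1, 1, 0, 1, 1, 0, 1, 0, 1, 1, 0, 1, 1, 1], [1, 1, 0, 1, 1, 1, 0, 1, 0, 1, 1, 0, 1, 0], [1, 1, 1, 0, 1, 0, 1, 1, 0, 1, 0, 1, 1, 0], [1, 1, 1, 0, 1, 1, 0, 1, 0, 1, 1, 0, 1, 0], [1, 1, 1, 0, 1, 1, 0, 1, 0, 1, 1, 0, 1, 1], [0, 1, 0, 1, 0, 1, 1, 1, 0, 1, 0, 1, 1, 0, 1], [0, 1, 0, 1, 1, 0, 1, 0, 1, 1, 0, 1, 1, 0, 1], [0, 1, 0, 1, 1, 0, 1, 0, 1, 1, 0, 1, 1, 1, 0], [0, 1, 0, 1, 1, 0, 1, 0, 1, 1, 1, 0, 1, 0, 1], [0, 1, 0, 1, 1, 0, 1, 0, 1, 1,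 1, 0, 1, 1, 0], [0, 1, 0, 1, 1, 0, 1, 1, 1, 0, 1, 1, 0, 1, 0], [0, 1, 0, 1, 1, 1, 0, 1, 0, 1, 1, 0, 1, 0, 1], [0, 1, 1, 0, 1, 0, 1, 1, 0, 1, 0, 1, 1, 1, 0], [0, 1, 1, 0, 1, 1, 0, 1, 0, 1, 1, 0, 1, 1, 1], [0, 1, 1, 0, 1, 1, 1, 0, 1, 0, 1, 1, 0, 1, 0], [0, 1, 1, 1, 0, 1, 0, 1, 1, 0, 1, 0, 1, 1, 0], [0, 1, 1, 1, 0, 1, 1, 0, 1, 0, 1, 1, 0, 1, 0], [0, 1, 1, 1, 0, 1, 1, 0, 1, 0, 1, 1, 0, 1, 1], [1, 0, 1, 0, 1, 1, 0, 1, 0, 1, 1, 1, 0, 1, 0], [1, 0, 1, 0, 1, 1, 0, 1, 0, 1, 1, 1, 0, 1, 1], [1, 0, 1, 0, 1, 1, 1, 0, 1, 0, 1, 1, 0, 1, 0], [1, 0, 1, 1, 0, 1, 0, 1, 1, 1, 0, 1, 0, 1, 0], [1, 0, 1, 1, 0, 1, 1, 0, 1, 0, 1, 1, 0, 1, 0], [1, 0, 1, 1, 0, 1, 1, 0, 1, 0, 1, 1, 0, 1, 1], [1, 0, 1, 1, 1, 0, 1, 0, 1, 1, 0, 1, 0, 1, 1], [1,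 1, 0, 1, 0, 1, 1, 0, 1, 0, 1, 1, 1, 0, 1], [1, 1, 0, 1, 1, 0, 1, 0, 1, 1, 0, 1, 1, 1, 0], [1, 1, 0, 1, 1, 1, 0, 1, 0, 1, 1, 0, 1, 0, 1], [0, 1, 0, 1, 0, 1, 1, 1, 0, 1, 0, 1, 1, 0, 1, 0], [0, 1, 0, 1, 1, 0, 1, 0, 1, 1, 1, 0, 1, 0, 1, 0], [0, 1, 0, 1, 1, 1, 0, 1, 0, 1, 1, 0, 1, 0, 1, 1], [0, 1, 1, 0, 1, 0, 1, 1, 0, 1, 0, 1, 1, 1, 0, 1], [1, 0, 1, 1, 1, 0, 1, 0, 1, 1, 0, 1, 0, 1, 1, 0], [1, 1, 0, 1, 0, 1, 1, 0, 1, 0, 1, 1, 1, 0, 1, 0], [1, 1, 0, 1, 0, 1, 1, 0, 1, 0, 1, 1, 1, 0, 1, 1], [1, 1, 0, 1, 1, 1, 0, 1, 0, 1, 1, 0, 1, 0, 1, 1]]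
def invA : List (ℕ × List ℕ) := [(0,[0]),(1,[1,1,1])]

lemma check_A : check 60 finalRules [0,1] invA nfsA = true := by decide +kernel

def xA : alternatingGroup (Fin 6) := ⟨Equiv.swap (0 : Fin 6) 1 * Equiv.swap (2 : Fin 6) 3, Equiv.Perm.mem_alternatingGroup.2 (by decide)⟩
def yA : alternatingGroup (Fin 6) := ⟨Equiv.swap (0 : Fin 6) 1 * Equiv.swap (1 : Fin 6) 2 * Equiv.swap (2 : Fin 6) 4 * Equiv.swap (3 : Fin 6) 5, Equiv.Perm.mem_alternatingGroup.2 (by decide)⟩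
def gA (n : ℕ) : alternatingGroup (Fin 6) := if n = 0 then xA else yA

lemma nodup_A : (nfsA.map (fun u => ev gA u)).Nodup := by decide +kernel

lemma r1 : xA ^ 2 = 1 := by decide +kernel
lemma r2 : yA ^ 4 = 1 := by decide +kernel
lemma r3 : (xA * yA) ^ 5 = 1 := by decide +kernel
lemma r4 : (xA * yA ^ 2) ^ 5 = 1 := by decide +kernel

theorem nonempty_mulEquiv : Nonempty (PresentedGroup rels ≃* alternatingGroup (Fin 6)) := by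
  set R := rels with hR
  let x : PresentedGroup R := PresentedGroup.of 0
  let y : PresentedGroup R := PresentedGroup.of 1
  have hx : x ^ 2 = 1 := by
    have : PresentedGroup.mk R (FreeGroup.of (0 : Fin 2) ^ 2) = 1 :=
      PresentedGroup.one_of_mem (by simp [hR, rels])
    rw [map_pow] at this
    exact this
  have hy : y ^ 4 = 1 := by
    have : PresentedGroup.mk R (FreeGroup.of (1 : Fin 2) ^ 4) = 1 :=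
      PresentedGroup.one_of_mem (by simp [hR, rels])
    rw [map_pow] at this
    exact this
  have hxy : (x * y) ^ 5 = 1 := by
    have : PresentedGroup.mk R ((FreeGroup.of (0 : Fin 2) * FreeGroup.of 1) ^ 5) = 1 :=
      PresentedGroup.one_of_mem (by simp [hR, rels])
    rw [map_pow, map_mul] at this
    exact this
  have hxy2 : (x * y ^ 2) ^ 5 = 1 := by
    have : PresentedGroup.mk R ((FreeGroup.of (0 : Fin 2) * FreeGroup.of 1 ^ 2) ^ 5) = 1 :=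
      PresentedGroup.one_of_mem (by simp [hR, rels])
    rw [map_pow, map_mul, map_pow] at this
    exact this
  let f : ℕ → PresentedGroup R := fun n => if n = 0 then x else y
  have hbase : Valid f baseRules := by
    intro r hr
    simp only [baseRules, List.mem_cons, List.not_mem_nil, or_false] at hr
    rcases hr with rfl | rfl | rfl | rfl
    · simpa [ev, f, pow_succ, mul_assoc] using hx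
    · simpa [ev, f, pow_succ, mul_assoc] using hy
    · simpa [ev, f, pow_succ, mul_assoc] using hxy
    · simpa [ev, f, pow_succ, mul_assoc] using hxy2
  have hfinal : Valid f finalRules := valid_run f _ _ hbase
  have hgen : Subgroup.closure (f '' {g | g ∈ [0, 1]}) = ⊤ := by
    rw [eq_top_iff, ← PresentedGroup.closure_range_of]
    apply Subgroup.closure_mono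
    rintro _ ⟨i, rfl⟩
    fin_cases i
    · exact ⟨0, by simp, rfl⟩
    · exact ⟨1, by simp, rfl⟩
  let φ : PresentedGroup R →* alternatingGroup (Fin 6) :=
    PresentedGroup.toGroup (f := fun i : Fin 2 => gA i.val) (by
      intro r hr
      simp only [hR, rels, Set.mem_insert_iff, Set.mem_singleton_iff] at hr
      rcases hr with rfl | rfl | rfl | rfl
      · simpa [gA] using r1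
      · simpa [gA] using r2
      · simpa [gA] using r3
      · simpa [gA] using r4)
  have hφf : ∀ n, φ (f n) = gA n := by
    intro n
    by_cases h : n = 0
    · subst h
      exact PresentedGroup.toGroup.of _
    · simp only [f, if_neg h]
      have : gA n = gA 1 := by simp [gA, h]
      rw [this]
      exact PresentedGroup.toGroup.of _
  have hφev : ∀ u, φ (ev f u) = ev gA u := by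
    intro u
    induction u with
    | nil => simp [ev]
    | cons a t ih => rw [ev_cons, ev_cons, map_mul, ih, hφf]
  have hcard : Nat.card (alternatingGroup (Fin 6)) = nfsA.length := by
    have h1 := two_mul_nat_card_alternatingGroup (α := Fin 6)
    rw [Nat.card_perm, Nat.card_fin] at h1
    have h2 : Nat.factorial 6 = 720 := rfl
    have h3 : nfsA.length = 360 := by decide +kernel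
    omega
  have hnd : (nfsA.map (fun u => φ (ev f u))).Nodup := by
    have : (fun u => φ (ev f u)) = fun u => ev gA u := funext hφev
    rw [this]
    exact nodup_A
  exact ⟨MulEquiv.ofBijective φ (bijective_of_nodup f hfinal check_A hgen φ hcard hnd)⟩

end Cfsg.Agent.Lib.A6Pres
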