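import Mathlib

/-! Linear algebra for `3`-closures of affine groups. -/

set_option autoImplicit false

namespace Cfsg.Agent.Lib.Aff3

open Module

section
variable {K V : Type*} [Field K] [AddCommGroup V] [Module K V]

theorem basis_sumExtend_inl {ι : Type*} {v : ι → V} (hs : LinearIndependent K v) (i : ι) :
    Basis.sumExtend hs (Sum.inl i) = v i := by
  classical
  simp only [Basis.sumExtend, Basis.reindex_apply, Basis.coe_extend]
  rfl

/-- The general linear group is transitive on linearly independent families of a given length. -/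
theorem exists_equiv_of_linearIndependent [FiniteDimensional K V] {k : ℕ} (u v : Fin k → V)
    (hu : LinearIndependent K u) (hv : LinearIndependent K v) :
    ∃ A : V ≃ₗ[K] V, ∀ i, A (u i) = v i := by
  classical
  let bu := Basis.sumExtend hu
  let bv := Basis.sumExtend hv
  haveI : Finite (Fin k ⊕ Basis.sumExtendIndex hu) := Module.Finite.finite_basis bu
  haveI : Finite (Fin k ⊕ Basis.sumExtendIndex hv) := Module.Finite.finite_basis bv
  have h1 : Nat.card (Fin k ⊕ Basis.sumExtendIndex hu) = Nat.card (Fin k ⊕ Basis.sumExtendIndex hv) := by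
    rw [← Module.finrank_eq_nat_card_basis bu, ← Module.finrank_eq_nat_card_basis bv]
  haveI : Finite (Basis.sumExtendIndex hu) := Finite.of_injective _ (Sum.inr_injective (α := Fin k))
  haveI : Finite (Basis.sumExtendIndex hv) := Finite.of_injective _ (Sum.inr_injective (α := Fin k))
  have h2 : Nat.card (Basis.sumExtendIndex hu) = Nat.card (Basis.sumExtendIndex hv) := by
    rw [Nat.card_sum, Nat.card_sum] at h1
    omega
  obtain ⟨e⟩ := Finite.card_eq.1 h2
  refine ⟨bu.equiv bv (Equiv.sumCongr (Equiv.refl _) e), fun i => ?_⟩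
  have := bu.equiv_apply (Sum.inl i) bv (Equiv.sumCongr (Equiv.refl _) e)
  simp only [Equiv.sumCongr_apply, Sum.map_inl, Equiv.refl_apply] at this
  rw [basis_sumExtend_inl hu, basis_sumExtend_inl hv] at this
  exact this

theorem exists_equiv_one [FiniteDimensional K V] (x y : V) (hx : x ≠ 0) (hy : y ≠ 0) :
    ∃ A : V ≃ₗ[K] V, A x = y := by
  obtain ⟨A, hA⟩ := exists_equiv_of_linearIndependent (K := K) (k := 1) (fun _ => x) (fun _ => y)
    (LinearIndependent.of_subsingleton 0 hx) (LinearIndependent.of_subsingleton 0 hy)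
  exact ⟨A, hA 0⟩

end

section
variable {p : ℕ} [Fact p.Prime] {V : Type*} [AddCommGroup V] [Module (ZMod p) V]

/-- A map which agrees on every triple of points with an affine map is affine, in odd
characteristic. -/
theorem linear_of_triples (hp : p ≠ 2) (σ : V → V)
    (h : ∀ x y z : V, ∃ (A : V →ₗ[ZMod p] V) (b : V),
      σ x = A x + b ∧ σ y = A y + b ∧ σ z = A z + b) :
    ∃ f : V →ₗ[ZMod p] V, ∀ x, σ x = f x + σ 0 := by
  have h2 : (2 : ZMod p) ≠ 0 := by
    intro h20
    have h3 : ((2 : ℕ) : ZMod p) = 0 := by exact_mod_cast h20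
    rw [ZMod.natCast_eq_zero_iff] at h3
    exact hp ((Nat.prime_dvd_prime_iff_eq Fact.out Nat.prime_two).1 h3)
  have hsmul : ∀ (c : ZMod p) (x : V), σ (c • x) - σ 0 = c • (σ x - σ 0) := by
    intro c x
    obtain ⟨A, b, h0, h1, h3⟩ := h 0 x (c • x)
    rw [map_zero, zero_add] at h0
    rw [h3, h1, h0, map_smul]
    abel_nf
  have hadd : ∀ x y : V, σ (x + y) - σ 0 = (σ x - σ 0) + (σ y - σ 0) := by
    intro x y
    obtain ⟨A, b, h0, h1, h3⟩ := h x y ((2 : ZMod p)⁻¹ • (x + y))
    have h4 : σ (x + y) - σ 0 = (2 : ZMod p) • (σ ((2 : ZMod p)⁻¹ • (x + y)) - σ 0) := by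
      rw [← hsmul, smul_smul, mul_inv_cancel₀ h2, one_smul]
    rw [h4, h3, map_smul, map_add, h0, h1, smul_sub, smul_add, smul_smul, mul_inv_cancel₀ h2,
      one_smul]
    have h5 : ∀ w : V, (2 : ZMod p) • w = w + w := by
      intro w
      rw [two_smul]
    rw [h5, h5]
    abel
  refine ⟨{ toFun := fun x => σ x - σ 0, map_add' := hadd, map_smul' := ?_ }, fun x => ?_⟩
  · intro c x
    exact hsmul c x
  · simp

end

end Cfsg.Agent.Lib.Aff3

namespace Cfsg.Agent.Lib.Aff3

section
variable {V : Type*} [AddCommGroup V] [Module (ZMod 2) V]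

theorem add_self_zmod_two (w : V) : w + w = 0 := by
  have h : (1 + 1 : ZMod 2) • w = 0 := by
    rw [show (1 + 1 : ZMod 2) = 0 by decide, zero_smul]
  rwa [add_smul, one_smul] at h

theorem linearIndependent_pair_zmod_two (x y : V) (hx : x ≠ 0) (hy : y ≠ 0) (hxy : x ≠ y) :
    LinearIndependent (ZMod 2) ![x, y] := by
  rw [LinearIndependent.pair_iff]
  intro s t h
  have hs : ∀ s : ZMod 2, s = 0 ∨ s = 1 := by decide
  rcases hs s with rfl | rfl <;> rcases hs t with rfl | rfl
  · exact ⟨rfl, rfl⟩
  · simp at h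
    exact absurd h hy
  · simp at h
    exact absurd h hx
  · simp only [one_smul] at h
    exfalso
    apply hxy
    have h2 := add_self_zmod_two y
    calc x = x + y + y := by rw [add_assoc, h2, add_zero]
      _ = y := by rw [h, zero_add]

end

end Cfsg.Agent.Lib.Aff3
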