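import Mathlib
import Cfsg.Prelude
import Cfsg.Agent.Lib.H5Basic
import Cfsg.Agent.Lib.FitCore
import Cfsg.Agent.Lib.SolvCore
import Cfsg.Agent.Lib.SchurZ2
import Cfsg.Agent.Lib.PComps

/-! Groups with the order and the element orders of an alternating group. -/

set_option autoImplicit false

namespace Cfsg.Agent.Lib.H5AltSpec

open Nat

section NumberTheory

lemma centralBinom_le_of_one_prime (n : ℕ) (hn : 2 < n) (q : ℕ)
    (hq : ∀ p : ℕ, p.Prime → n < p → p ≤ 2 * n → p = q) :
    centralBinom n ≤ (2 * n) * ((2 * n) ^ sqrt (2 * n) * 4 ^ (2 * n / 3)) := by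
  have n_pos : 0 < n := (Nat.zero_le _).trans_lt hn
  have n2_pos : 1 ≤ 2 * n := mul_pos (zero_lt_two' ℕ) n_pos
  let T := Finset.range (2 * n / 3 + 1)
  let f : ℕ → ℕ := fun x => x ^ n.centralBinom.factorization x
  have hsub : T ⊆ Finset.range (2 * n + 1) := by
    intro x hx
    simp only [T, Finset.mem_range] at hx ⊢
    omega
  have hf1 : ∀ x ∈ Finset.range (2 * n + 1) \ T, x ≠ q → f x = 1 := by
    intro x hx hxq
    simp only [T, Finset.mem_sdiff, Finset.mem_range, not_lt] at hx
    obtain ⟨hx1, hx2⟩ := hx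
    by_cases hprime : x.Prime
    · have hxn : x ≤ n := by
        by_contra h
        exact hxq (hq x hprime (by omega) (by omega))
      have h2x : 2 * n < 3 * x := by omega
      simp only [f]
      rw [factorization_centralBinom_of_two_mul_self_lt_three_mul hn hxn h2x, Nat.pow_zero]
    · simp only [f]
      rw [factorization_eq_zero_of_not_prime n.centralBinom hprime, Nat.pow_zero]
  have hprod : ∏ x ∈ Finset.range (2 * n + 1) \ T, f x ≤ 2 * n := by
    by_cases hqm : q ∈ Finset.range (2 * n + 1) \ T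
    · rw [Finset.prod_eq_single_of_mem q hqm (fun x hx hxq => hf1 x hx hxq)]
      exact pow_factorization_choose_le (mul_pos two_pos n_pos)
    · rw [Finset.prod_eq_one]
      · exact n2_pos
      · intro x hx
        apply hf1 x hx
        rintro rfl
        exact hqm hx
  have hT : ∏ x ∈ T, f x ≤ (2 * n) ^ sqrt (2 * n) * 4 ^ (2 * n / 3) := by
    let S := {p ∈ Finset.range (2 * n / 3 + 1) | Nat.Prime p}
    have : ∏ x ∈ S, f x = ∏ x ∈ Finset.range (2 * n / 3 + 1), f x := by
      refine Finset.prod_filter_of_ne fun p _ h => ?_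
      contrapose h; dsimp only [f]
      rw [factorization_eq_zero_of_not_prime n.centralBinom h, _root_.pow_zero]
    show ∏ x ∈ Finset.range (2 * n / 3 + 1), f x ≤ _
    rw [← this, ← Finset.prod_filter_mul_prod_filter_not S (· ≤ sqrt (2 * n))]
    apply mul_le_mul'
    · refine (Finset.prod_le_prod' fun p _ => (?_ : f p ≤ 2 * n)).trans ?_
      · exact pow_factorization_choose_le (mul_pos two_pos n_pos)
      have : (Finset.Icc 1 (sqrt (2 * n))).card = sqrt (2 * n) := by rw [card_Icc, Nat.add_sub_cancel]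
      rw [Finset.prod_const]
      refine pow_right_mono₀ n2_pos ((Finset.card_le_card fun x hx => ?_).trans this.le)
      obtain ⟨h1, h2⟩ := Finset.mem_filter.1 hx
      exact Finset.mem_Icc.mpr ⟨(Finset.mem_filter.1 h1).2.one_lt.le, h2⟩
    · refine le_trans ?_ (primorial_le_four_pow (2 * n / 3))
      refine (Finset.prod_le_prod' fun p hp => (?_ : f p ≤ p)).trans ?_
      · obtain ⟨h1, h2⟩ := Finset.mem_filter.1 hp
        refine (pow_right_mono₀ (Finset.mem_filter.1 h1).2.one_lt.le ?_).trans (pow_one p).le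
        exact Nat.factorization_choose_le_one (sqrt_lt'.mp <| not_le.1 h2)
      refine Finset.prod_le_prod_of_subset_of_one_le' (Finset.filter_subset _ _) ?_
      exact fun p hp _ => (Finset.mem_filter.1 hp).2.one_lt.le
  have hall : ∏ x ∈ Finset.range (2 * n + 1), f x = centralBinom n := n.prod_pow_factorization_centralBinom
  rw [← hall, ← Finset.prod_sdiff hsub]
  exact Nat.mul_le_mul hprod hT

lemma twelve_le (j : ℕ) (hj : 7 ≤ j) : 12 * (j + 1) ≤ 2 ^ j := by
  induction j, hj using Nat.le_induction with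
  | base => norm_num
  | succ j _ ih =>
    rw [pow_succ]
    omega

lemma key_ineq (n : ℕ) (hn : 8192 ≤ n) :
    n * ((2 * n) * ((2 * n) ^ sqrt (2 * n) * 4 ^ (2 * n / 3))) ≤ 4 ^ n := by
  set m := 2 * n with hm
  set s := sqrt m with hs
  have hm0 : m ≠ 0 := by omega
  set j := Nat.log 4 m with hj
  have h1 : 4 ^ j ≤ m := Nat.pow_log_le_self 4 hm0
  have h2 : m < 4 ^ (j + 1) := Nat.lt_pow_succ_log_self (by norm_num) m
  have hj7 : 7 ≤ j := by
    apply Nat.le_log_of_pow_le (by norm_num)
    omega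
  have h3 : 2 ^ j ≤ s := by
    rw [hs, Nat.le_sqrt]
    calc 2 ^ j * 2 ^ j = 4 ^ j := by
          rw [← mul_pow]; norm_num
      _ ≤ m := h1
  have h4 : 12 * (j + 1) ≤ s := (twelve_le j hj7).trans h3
  have hss : s * s ≤ m := Nat.sqrt_le m
  have hs2 : 2 ≤ s := by omega
  have h5 : 3 * ((j + 1) * (s + 2)) ≤ n := by
    have h6 : (j + 1) * (s + 2) ≤ (j + 1) * (2 * s) := Nat.mul_le_mul_left _ (by omega)
    have h7 : 12 * (j + 1) * s ≤ s * s := Nat.mul_le_mul_right _ h4
    have h8 : 6 * ((j + 1) * (2 * s)) = 12 * (j + 1) * s * 1 := by ring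
    nlinarith
  calc n * (m * (m ^ s * 4 ^ (m / 3))) ≤ m * (m * (m ^ s * 4 ^ (m / 3))) := by
        apply Nat.mul_le_mul_right; omega
    _ = m ^ (s + 2) * 4 ^ (m / 3) := by ring
    _ ≤ (4 ^ (j + 1)) ^ (s + 2) * 4 ^ (m / 3) := by
        apply Nat.mul_le_mul_right
        exact Nat.pow_le_pow_left h2.le _
    _ = 4 ^ ((j + 1) * (s + 2) + m / 3) := by rw [← pow_mul, pow_add]
    _ ≤ 4 ^ n := by
        apply Nat.pow_le_pow_right (by norm_num)
        omega

theorem two_primes_large (n : ℕ) (hn : 8192 ≤ n) :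
    ∃ p r : ℕ, p.Prime ∧ r.Prime ∧ n < p ∧ p < r ∧ r ≤ 2 * n := by
  obtain ⟨q, hq, hnq, hq2⟩ := Nat.exists_prime_lt_and_le_two_mul n (by omega)
  by_contra hcon
  push Not at hcon
  have huniq : ∀ p : ℕ, p.Prime → n < p → p ≤ 2 * n → p = q := by
    intro p hp hnp hp2
    by_contra hne
    rcases lt_or_gt_of_ne hne with h | h
    · exact absurd hq2 (not_le.2 (hcon p q hp hq hnp h))
    · exact absurd hp2 (not_le.2 (hcon q p hq hp hnq h))
  have h1 := centralBinom_le_of_one_prime n (by omega) q huniq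
  have h2 := Nat.four_pow_lt_mul_centralBinom n (by omega)
  have h3 := key_ineq n hn
  have h4 : n * centralBinom n ≤ n * ((2 * n) * ((2 * n) ^ sqrt (2 * n) * 4 ^ (2 * n / 3))) :=
    Nat.mul_le_mul_left _ h1
  omega

lemma two_primes_step {n : ℕ} (q p₁ p₂ : ℕ) (h1 : p₁.Prime) (h2 : p₂.Prime) (h12 : p₁ < p₂) (h3 : p₂ ≤ 2 * q)
    (H : n < q → ∃ p r : ℕ, p.Prime ∧ r.Prime ∧ n < p ∧ p < r ∧ r ≤ 2 * n) (hn : n < p₁) :
    ∃ p r : ℕ, p.Prime ∧ r.Prime ∧ n < p ∧ p < r ∧ r ≤ 2 * n := by
  by_cases h : n < q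
  · exact H h
  · exact ⟨p₁, p₂, h1, h2, hn, h12, by omega⟩

theorem two_primes (n : ℕ) (hn : 6 ≤ n) :
    ∃ p r : ℕ, p.Prime ∧ r.Prime ∧ n < p ∧ p < r ∧ r ≤ 2 * n := by
  by_cases h8 : 8192 ≤ n
  · exact two_primes_large n h8
  have h : n < 9973 := by omega
  clear h8
  refine two_primes_step 8713 9973 17419 (by norm_num) (by norm_num) (by norm_num) (by norm_num) ?_ h
  clear h; intro h
  refine two_primes_step 5003 8713 9973 (by norm_num) (by norm_num) (by norm_num) (by norm_num) ?_ h
  clear h; intro h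
  refine two_primes_step 4357 5003 8713 (by norm_num) (by norm_num) (by norm_num) (by norm_num) ?_ h
  clear h; intro h
  refine two_primes_step 2503 4357 5003 (by norm_num) (by norm_num) (by norm_num) (by norm_num) ?_ h
  clear h; intro h
  refine two_primes_step 2179 2503 4357 (by norm_num) (by norm_num) (by norm_num) (by norm_num) ?_ h
  clear h; intro h
  refine two_primes_step 1259 2179 2503 (by norm_num) (by norm_num) (by norm_num) (by norm_num) ?_ h
  clear h; intro h
  refine two_primes_step 1093 1259 2179 (by norm_num) (by norm_num) (by norm_num) (by norm_num) ?_ h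
  clear h; intro h
  refine two_primes_step 631 1093 1259 (by norm_num) (by norm_num) (by norm_num) (by norm_num) ?_ h
  clear h; intro h
  refine two_primes_step 547 631 1093 (by norm_num) (by norm_num) (by norm_num) (by norm_num) ?_ h
  clear h; intro h
  refine two_primes_step 317 547 631 (by norm_num) (by norm_num) (by norm_num) (by norm_num) ?_ h
  clear h; intro h
  refine two_primes_step 277 317 547 (by norm_num) (by norm_num) (by norm_num) (by norm_num) ?_ h
  clear h; intro h
  refine two_primes_step 163 277 317 (by norm_num) (by norm_num) (by norm_num) (by norm_num) ?_ h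
  clear h; intro h
  refine two_primes_step 139 163 277 (by norm_num) (by norm_num) (by norm_num) (by norm_num) ?_ h
  clear h; intro h
  refine two_primes_step 83 139 163 (by norm_num) (by norm_num) (by norm_num) (by norm_num) ?_ h
  clear h; intro h
  refine two_primes_step 73 83 139 (by norm_num) (by norm_num) (by norm_num) (by norm_num) ?_ h
  clear h; intro h
  refine two_primes_step 43 73 83 (by norm_num) (by norm_num) (by norm_num) (by norm_num) ?_ h
  clear h; intro h
  refine two_primes_step 37 43 73 (by norm_num) (by norm_num) (by norm_num) (by norm_num) ?_ h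
  clear h; intro h
  refine two_primes_step 23 37 43 (by norm_num) (by norm_num) (by norm_num) (by norm_num) ?_ h
  clear h; intro h
  refine two_primes_step 19 23 37 (by norm_num) (by norm_num) (by norm_num) (by norm_num) ?_ h
  clear h; intro h
  refine two_primes_step 13 19 23 (by norm_num) (by norm_num) (by norm_num) (by norm_num) ?_ h
  clear h; intro h
  refine two_primes_step 11 13 19 (by norm_num) (by norm_num) (by norm_num) (by norm_num) ?_ h
  clear h; intro h
  refine two_primes_step 7 11 13 (by norm_num) (by norm_num) (by norm_num) (by norm_num) ?_ h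
  clear h; intro h
  exact ⟨7, 11, by norm_num, by norm_num, by omega, by norm_num, by omega⟩

/-- Two primes in the interval `(n/2, n]`. -/
theorem two_primes_half (n : ℕ) (hn : 11 ≤ n) :
    ∃ p r : ℕ, p.Prime ∧ r.Prime ∧ p < r ∧ n < 2 * p ∧ r ≤ n := by
  by_cases h11 : n = 11
  · exact ⟨7, 11, by norm_num, by norm_num, by norm_num, by omega, by omega⟩
  · obtain ⟨p, r, hp, hr, h1, h2, h3⟩ := two_primes (n / 2) (by omega)
    exact ⟨p, r, hp, hr, h2, by omega, by omega⟩

end NumberTheory


section Perm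

lemma exists_mem_dvd_of_dvd_lcm {q : ℕ} (hq : q.Prime) (m : Multiset ℕ) (h : q ∣ m.lcm) :
    ∃ x ∈ m, q ∣ x := by
  induction m using Multiset.induction_on with
  | empty =>
    exfalso
    simp at h
    exact hq.one_lt.ne' h
  | cons a s ih =>
    rw [Multiset.lcm_cons] at h
    rcases (Nat.Prime.dvd_lcm hq).1 h with h1 | h1
    · exact ⟨a, Multiset.mem_cons_self a s, h1⟩
    · obtain ⟨x, hx, hqx⟩ := ih h1
      exact ⟨x, Multiset.mem_cons_of_mem hx, hqx⟩

/-- A permutation of `n` letters has no order `p * r` if `n < p + r`. -/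
theorem no_order_mul {n p r : ℕ} (hp : p.Prime) (hr : r.Prime) (hne : p ≠ r) (hn : n < p + r)
    (σ : Equiv.Perm (Fin n)) : orderOf σ ≠ p * r := by
  intro h
  have hl : σ.cycleType.lcm = p * r := by rw [Equiv.Perm.lcm_cycleType, h]
  obtain ⟨a, ha, hpa⟩ := exists_mem_dvd_of_dvd_lcm hp σ.cycleType (by rw [hl]; exact dvd_mul_right _ _)
  obtain ⟨b, hb, hrb⟩ := exists_mem_dvd_of_dvd_lcm hr σ.cycleType (by rw [hl]; exact dvd_mul_left _ _)
  have ha2 := Equiv.Perm.two_le_of_mem_cycleType ha
  have hb2 := Equiv.Perm.two_le_of_mem_cycleType hb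
  have hsum : σ.cycleType.sum ≤ n := by
    rw [Equiv.Perm.sum_cycleType]
    calc σ.support.card ≤ Fintype.card (Fin n) := Finset.card_le_univ _
      _ = n := Fintype.card_fin n
  have hpa' : p ≤ a := Nat.le_of_dvd (by omega) hpa
  have hrb' : r ≤ b := Nat.le_of_dvd (by omega) hrb
  by_cases hab : a = b
  · subst hab
    have hcop : Nat.Coprime p r := (Nat.coprime_primes hp hr).2 hne
    have hd : p * r ∣ a := hcop.mul_dvd_of_dvd_of_dvd hpa hrb
    have h1 : p * r ≤ a := Nat.le_of_dvd (by omega) hd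
    have h2 : a ≤ σ.cycleType.sum := Multiset.le_sum_of_mem ha
    have h3 : p + r ≤ p * r := by
      have := hp.two_le
      have := hr.two_le
      nlinarith
    omega
  · have hb' : b ∈ σ.cycleType.erase a := (Multiset.mem_erase_of_ne (Ne.symm hab)).2 hb
    have h1 : σ.cycleType.sum = a + (σ.cycleType.erase a).sum := by
      conv_lhs => rw [← Multiset.cons_erase ha]
      rw [Multiset.sum_cons]
    have h2 : b ≤ (σ.cycleType.erase a).sum := Multiset.le_sum_of_mem hb'
    omega

end Perm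

section Groups

variable {G : Type*} [Group G] [Finite G]

/-- A fixed point argument: if `K` is normal with `p ∣ |K|`, `r ∤ |K|`, `r ∣ |G|`, and `r` divides
no `p ^ a - 1` with `p ^ a ∣ |G|`, then `G` has an element of order `p * r`. -/
theorem exists_order_mul {p r : ℕ} (hp : p.Prime) (hr : r.Prime) (hne : p ≠ r)
    (K : Subgroup G) (hK : K.Normal) (hpK : p ∣ Nat.card K) (hrK : ¬ r ∣ Nat.card K)
    (hrG : r ∣ Nat.card G) (hcond : ∀ a : ℕ, 0 < a → p ^ a ∣ Nat.card G → ¬ r ∣ p ^ a - 1) :
    ∃ g : G, orderOf g = p * r := by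
  classical
  haveI := Fact.mk hp
  haveI := Fact.mk hr
  obtain ⟨y, hy⟩ := exists_prime_orderOf_dvd_card' r hrG
  have hA : Nat.card (Subgroup.zpowers y) = r := by rw [Nat.card_zpowers, hy]
  haveI : IsCyclic (Subgroup.zpowers y) := inferInstance
  obtain ⟨P, hP⟩ := SchurZ2.exists_invariant_sylow (Subgroup.zpowers y) K
    (by rw [Subgroup.normalizer_eq_top_iff.2 hK]; exact le_top)
    (by rw [hA]; exact ((Nat.Prime.coprime_iff_not_dvd hr).2 hrK).symm)
    (Or.inr inferInstance) p
  set P' : Subgroup G := (P : Subgroup K).map K.subtype with hP'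
  have hyN : y ∈ Subgroup.normalizer (P' : Set G) := hP (Subgroup.mem_zpowers y)
  rw [Subgroup.mem_normalizer_iff] at hyN
  have hcardP' : Nat.card P' = p ^ (Nat.card K).factorization p := by
    rw [hP', Subgroup.card_map_of_injective K.subtype_injective, Sylow.card_eq_multiplicity]
  set a := (Nat.card K).factorization p with ha
  have ha0 : 0 < a := hp.factorization_pos_of_dvd Nat.card_pos.ne' hpK
  have hpaG : p ^ a ∣ Nat.card G := by
    rw [← hcardP']
    exact Subgroup.card_subgroup_dvd_card P'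
  have hrP : ¬ r ∣ p ^ a - 1 := hcond a ha0 hpaG
  -- the action on nontrivial elements
  let T := {z : P' // z ≠ 1}
  letI : Fintype P' := Fintype.ofFinite _
  letI : Fintype T := Fintype.ofFinite _
  let f : Function.End T := fun t =>
    ⟨⟨y * (t.1 : G) * y⁻¹, (hyN _).1 t.1.2⟩, by
      intro h
      apply t.2
      have h1 : y * (t.1 : G) * y⁻¹ = 1 := congrArg Subtype.val h
      have h2 : (t.1 : G) = 1 := by
        have := congrArg (fun w => y⁻¹ * w * y) h1
        simpa [mul_assoc] using this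
      exact Subtype.ext h2⟩
  have hfk : ∀ (k : ℕ) (t : T), (((f ^ k) t : T).1 : G) = y ^ k * (t.1 : G) * (y ^ k)⁻¹ := by
    intro k
    induction k with
    | zero => intro t; simp [pow_zero]; rfl
    | succ k ih =>
      intro t
      rw [_root_.pow_succ' f k]
      show y * (((f ^ k) t : T).1 : G) * y⁻¹ = _
      rw [ih, _root_.pow_succ' y k]
      group
  have hfr : f ^ r ^ 1 = 1 := by
    funext t
    apply Subtype.ext
    apply Subtype.ext
    rw [pow_one, hfk, ← hy, pow_orderOf_eq_one]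
    simp only [one_mul, inv_one, mul_one]
    rfl
  have hmod := Equiv.Perm.card_fixedPoints_modEq (α := T) (f := f) (p := r) (n := 1) hfr
  have hcardT : Fintype.card T = p ^ a - 1 := by
    have h1 : Fintype.card P' = p ^ a := by
      rw [← Nat.card_eq_fintype_card, hcardP']
    rw [← h1]
    rw [Fintype.card_subtype_compl]
    simp
  have hfix : Nonempty f.fixedPoints := by
    by_contra hno
    rw [not_nonempty_iff] at hno
    have h0 : Fintype.card f.fixedPoints = 0 := Fintype.card_eq_zero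
    rw [h0, hcardT] at hmod
    exact hrP ((Nat.modEq_zero_iff_dvd).1 hmod)
  obtain ⟨⟨t, ht⟩⟩ := hfix
  have hfixz : y * (t.1 : G) * y⁻¹ = (t.1 : G) := congrArg (fun u : T => (u.1 : G)) ht
  set z : G := (t.1 : G) with hz
  have hcomm : Commute z y := by
    show z * y = y * z
    calc z * y = (y * z * y⁻¹) * y := by rw [hfixz]
      _ = y * z := by group
  have hz1 : z ≠ 1 := fun h => t.2 (Subtype.ext h)
  have hPp : IsPGroup p P' :=
    (P.isPGroup').map K.subtype
  obtain ⟨m, hm⟩ := (IsPGroup.iff_orderOf.1 hPp) t.1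
  have hm' : orderOf z = p ^ m := by rw [hz, Subgroup.orderOf_coe]; exact hm
  have hm0 : m ≠ 0 := by
    rintro rfl
    rw [pow_zero, orderOf_eq_one_iff] at hm'
    exact hz1 hm'
  have hpz : p ∣ orderOf z := by
    rw [hm']
    exact dvd_pow_self p hm0
  have hoz : orderOf z ≠ 0 := by rw [hm']; exact (pow_pos hp.pos m).ne'
  have hx := orderOf_pow_orderOf_div hoz hpz
  refine ⟨z ^ (orderOf z / p) * y, ?_⟩
  rw [Commute.orderOf_mul_eq_mul_orderOf_of_coprime (hcomm.pow_left _), hx, hy]
  rw [hx, hy]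
  exact (Nat.coprime_primes hp hr).2 hne

/-- Lemma: a simple section. -/
theorem simple_section {p r : ℕ} (hp : p.Prime) (hr : r.Prime) (hne : p ≠ r)
    (hpG : p ∣ Nat.card G) (hpp : ¬ p ^ 2 ∣ Nat.card G)
    (hiff : ∀ K : Subgroup G, K.Normal → (p ∣ Nat.card K ↔ r ∣ Nat.card K)) :
    ∃ (N H : Subgroup G) (_ : N.Normal), H.Normal ∧ N < H ∧
      IsSimpleGroup (↥H ⧸ N.subgroupOf H) ∧ ¬ IsMulCommutative (↥H ⧸ N.subgroupOf H) ∧
      ∀ l : ℕ, l.Prime → (∀ K : Subgroup G, K.Normal → (p ∣ Nat.card K ↔ l ∣ Nat.card K)) →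
        l ∣ Nat.card (↥H ⧸ N.subgroupOf H) := by
  classical
  haveI := Fact.mk hp
  obtain ⟨H, hHmin⟩ := Set.Finite.exists_minimal
    (Set.toFinite {K : Subgroup G | K.Normal ∧ p ∣ Nat.card K})
    ⟨⊤, inferInstance, by rwa [Subgroup.card_top]⟩
  obtain ⟨⟨hHn, hpH⟩, hHle⟩ := hHmin
  haveI := hHn
  let O : Subgroup H := Cfsg.pPrimeCore p H
  have hOchar : O.Characteristic := PComps.pPrimeCore_characteristic
  let N : Subgroup G := O.map H.subtype
  have hNn : N.Normal := FitCore.map_subtype_normal_of_char H O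
  haveI := hNn
  have hNH : N ≤ H := Subgroup.map_subtype_le O
  have hNcard : Nat.card N = Nat.card O := Subgroup.card_map_of_injective H.subtype_injective
  have hpN : ¬ p ∣ Nat.card N := by
    rw [hNcard]
    exact FitCore.not_dvd_card_pPrimeCore p hp
  have hne' : N ≠ H := by
    intro h
    apply hpN
    rw [h]
    exact hpH
  have hlt : N < H := lt_of_le_of_ne hNH hne'
  -- normal subgroups of `H` prime to `p` lie in `N`
  have hb : ∀ L : Subgroup G, L ≤ H → H ≤ Subgroup.normalizer (L : Set G) → ¬ p ∣ Nat.card L → L ≤ N := by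
    intro L hLH hHL hpL
    haveI hLn : (L.subgroupOf H).Normal := (Subgroup.normal_subgroupOf_iff_le_normalizer hLH).2 hHL
    have h1 : L.subgroupOf H ≤ O := by
      apply SolvCore.le_pPrimeCore _ hLn
      rwa [Nat.card_congr (Subgroup.subgroupOfEquivOfLe hLH).toEquiv]
    intro x hx
    exact ⟨⟨x, hLH hx⟩, h1 hx, rfl⟩
  -- the key claim
  have hkey : ∀ L : Subgroup G, N ≤ L → L ≤ H → H ≤ Subgroup.normalizer (L : Set G) → ¬ L ≤ N → L = H := by
    intro L hNL hLH hHL hLN
    obtain ⟨L₀, hL₀L, hL₀min⟩ := Set.Finite.exists_le_minimal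
      (Set.toFinite {L : Subgroup G | N ≤ L ∧ L ≤ H ∧ H ≤ Subgroup.normalizer (L : Set G) ∧ ¬ L ≤ N})
      (show L ∈ _ from ⟨hNL, hLH, hHL, hLN⟩)
    obtain ⟨⟨h1, h2, h3, h4⟩, h5⟩ := hL₀min
    have hpL₀ : p ∣ Nat.card L₀ := by
      by_contra hcon
      exact h4 (hb L₀ h2 h3 hcon)
    have hconj : ∀ g : G, L₀.map (MulAut.conj g).toMonoidHom = L₀ := by
      intro g
      set L₁ := L₀.map (MulAut.conj g).toMonoidHom with hL₁
      have hmem : ∀ x, x ∈ L₁ ↔ g⁻¹ * x * g ∈ L₀ := by
        intro x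
        constructor
        · rintro ⟨w, hw, rfl⟩
          simpa [mul_assoc] using hw
        · intro hx
          refine ⟨_, hx, ?_⟩
          simp [mul_assoc]
      have hcard1 : Nat.card L₁ = Nat.card L₀ :=
        Subgroup.card_map_of_injective (MulAut.conj g).injective
      have hNL₁ : N ≤ L₁ := by
        intro n hn
        rw [hmem]
        apply h1
        have := hNn.conj_mem n hn g⁻¹
        simpa using this
      have hL₁H : L₁ ≤ H := by
        intro x hx
        rw [hmem] at hx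
        have := hHn.conj_mem _ (h2 hx) g
        simpa [mul_assoc] using this
      have hHL₁ : H ≤ Subgroup.normalizer (L₁ : Set G) := by
        intro h hh
        rw [Subgroup.mem_normalizer_iff]
        intro x
        have hh' : g⁻¹ * h * g ∈ H := by
          have := hHn.conj_mem h hh g⁻¹
          simpa using this
        have h6 := h3 hh'
        rw [Subgroup.mem_normalizer_iff] at h6
        have h7 := h6 (g⁻¹ * x * g)
        change _ ↔ _ at h7
        rw [hmem, hmem]
        have e : g⁻¹ * (h * x * h⁻¹) * g = g⁻¹ * h * g * (g⁻¹ * x * g) * (g⁻¹ * h * g)⁻¹ := by group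
        rw [e]
        exact h7
      have hL₁N : ¬ L₁ ≤ N := by
        intro hle
        apply h4
        intro x hx
        have hx1 : g * x * g⁻¹ ∈ L₁ := by
          rw [hmem]
          simpa [mul_assoc] using hx
        have := hNn.conj_mem _ (hle hx1) g⁻¹
        simpa [mul_assoc] using this
      by_contra hcon
      by_cases hI : L₀ ⊓ L₁ ≤ N
      · -- the order contradiction
        have hpI : ¬ p ∣ Nat.card (L₀ ⊓ L₁ : Subgroup G) := by
          intro h
          exact hpN (h.trans (Subgroup.card_dvd_of_le hI))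
        have hc := SchurZ2.card_sup_mul_card_inf L₀ L₁ (hL₁H.trans h3)
        apply hpp
        have hd : p ^ 2 ∣ Nat.card (L₀ ⊔ L₁ : Subgroup G) * Nat.card (L₀ ⊓ L₁ : Subgroup G) := by
          rw [hc, hcard1, pow_two]
          exact mul_dvd_mul hpL₀ hpL₀
        have hcop : Nat.Coprime (p ^ 2) (Nat.card (L₀ ⊓ L₁ : Subgroup G)) :=
          Nat.Coprime.pow_left 2 ((Nat.Prime.coprime_iff_not_dvd hp).2 hpI)
        exact (hcop.dvd_of_dvd_mul_right hd).trans (Subgroup.card_subgroup_dvd_card _)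
      · have hImem : (L₀ ⊓ L₁) ∈ {L : Subgroup G | N ≤ L ∧ L ≤ H ∧ H ≤ Subgroup.normalizer (L : Set G) ∧ ¬ L ≤ N} := by
          refine ⟨le_inf h1 hNL₁, inf_le_left.trans h2, ?_, hI⟩
          intro h hh
          rw [Subgroup.mem_normalizer_iff]
          intro x
          have e1 := h3 hh
          have e2 := hHL₁ hh
          rw [Subgroup.mem_normalizer_iff] at e1 e2
          have e3 := e1 x
          have e4 := e2 x
          simp only [SetLike.mem_coe, Subgroup.mem_inf] at e3 e4 ⊢
          rw [e3, e4]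
        have hle : L₀ ≤ L₀ ⊓ L₁ := h5 hImem inf_le_left
        have hle2 : L₀ ≤ L₁ := hle.trans inf_le_right
        exact hcon (Subgroup.eq_of_le_of_card_ge hle2 hcard1.le).symm
    have hL₀n : L₀.Normal := by
      refine ⟨fun n hn g => ?_⟩
      rw [← hconj g]
      exact ⟨n, hn, rfl⟩
    have hHL₀ : H ≤ L₀ := hHle ⟨hL₀n, hpL₀⟩ h2
    exact le_antisymm hLH (hHL₀.trans hL₀L)
  -- orders
  have hcard : Nat.card H = Nat.card N * Nat.card (↥H ⧸ N.subgroupOf H) := by
    rw [← H5Basic.card_mul_relIndex_of_le hNH]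
    rfl
  have hdivl : ∀ l : ℕ, l.Prime → (∀ K : Subgroup G, K.Normal → (p ∣ Nat.card K ↔ l ∣ Nat.card K)) →
      l ∣ Nat.card (↥H ⧸ N.subgroupOf H) := by
    intro l hl hK
    have h1 : l ∣ Nat.card H := (hK H hHn).1 hpH
    have h2 : ¬ l ∣ Nat.card N := fun h => hpN ((hK N hNn).2 h)
    rw [hcard] at h1
    exact (hl.dvd_mul.1 h1).resolve_left h2
  have hsimple : IsSimpleGroup (↥H ⧸ N.subgroupOf H) := by
    haveI : Nontrivial (↥H ⧸ N.subgroupOf H) := by
      obtain ⟨x, hxH, hxN⟩ := SetLike.exists_of_lt hlt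
      refine ⟨⟨(QuotientGroup.mk' _ ⟨x, hxH⟩), 1, ?_⟩⟩
      intro h
      apply hxN
      exact (QuotientGroup.eq_one_iff (⟨x, hxH⟩ : H)).1 h
    refine ⟨fun A hA => ?_⟩
    let B : Subgroup H := A.comap (QuotientGroup.mk' (N.subgroupOf H))
    haveI hBn : B.Normal := hA.comap _
    let L : Subgroup G := B.map H.subtype
    have hLmem : ∀ h : H, (h : G) ∈ L ↔ QuotientGroup.mk' (N.subgroupOf H) h ∈ A := by
      intro h
      constructor
      · rintro ⟨b, hb', hbh⟩
        have : b = h := Subtype.ext hbh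
        rw [← this]
        exact hb'
      · intro hh
        exact ⟨h, hh, rfl⟩
    have hNL : N ≤ L := by
      intro n hn
      have e := (hLmem ⟨n, hNH hn⟩).2
      apply e
      have : QuotientGroup.mk' (N.subgroupOf H) ⟨n, hNH hn⟩ = 1 :=
        (QuotientGroup.eq_one_iff _).2 hn
      rw [this]
      exact one_mem A
    have hLH : L ≤ H := Subgroup.map_subtype_le B
    have hHL : H ≤ Subgroup.normalizer (L : Set G) := by
      have h1 := Subgroup.le_normalizer_map (H := B) H.subtype
      have h2 : Subgroup.normalizer (B : Set H) = ⊤ := Subgroup.normalizer_eq_top_iff.2 hBn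
      rw [h2] at h1
      intro h hh
      apply h1
      exact ⟨⟨h, hh⟩, Subgroup.mem_top _, rfl⟩
    by_cases hLN : L ≤ N
    · left
      rw [eq_bot_iff]
      intro q hq
      obtain ⟨h, rfl⟩ := QuotientGroup.mk_surjective q
      have e : (h : G) ∈ L := (hLmem h).2 hq
      exact (QuotientGroup.eq_one_iff _).2 (hLN e)
    · right
      have e := hkey L hNL hLH hHL hLN
      rw [eq_top_iff]
      intro q _
      obtain ⟨h, rfl⟩ := QuotientGroup.mk_surjective q
      have e1 : (h : G) ∈ L := by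
        rw [e]
        exact h.2
      exact (hLmem h).1 e1
  have hnc : ¬ IsMulCommutative (↥H ⧸ N.subgroupOf H) := by
    intro hc
    have hcomm : ∀ a b : ↥H ⧸ N.subgroupOf H, a * b = b * a := fun a b => hc.is_comm.comm a b
    letI : CommGroup (↥H ⧸ N.subgroupOf H) := { (inferInstance : Group (↥H ⧸ N.subgroupOf H)) with mul_comm := hcomm }
    have hprime : (Nat.card (↥H ⧸ N.subgroupOf H)).Prime := IsSimpleGroup.prime_card
    have h1 : p ∣ Nat.card (↥H ⧸ N.subgroupOf H) := hdivl p hp (fun K _ => Iff.rfl)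
    have h2 : r ∣ Nat.card (↥H ⧸ N.subgroupOf H) := hdivl r hr hiff
    have h3 := (Nat.prime_dvd_prime_iff_eq hp hprime).1 h1
    have h4 := (Nat.prime_dvd_prime_iff_eq hr hprime).1 h2
    exact hne (h3.trans h4.symm)
  exact ⟨N, H, hNn, hHn, hlt, hsimple, hnc, hdivl⟩

end Groups

section Alt

variable {G : Type*} [Group G] [Finite G] {n : ℕ}

lemma no_order_of_spec (hspec : Set.range (orderOf : G → ℕ) = Set.range (orderOf : ↥(alternatingGroup (Fin n)) → ℕ))
    {p r : ℕ} (hp : p.Prime) (hr : r.Prime) (hne : p ≠ r) (hn : n < p + r) (g : G) :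
    orderOf g ≠ p * r := by
  intro h
  have h1 : orderOf g ∈ Set.range (orderOf : ↥(alternatingGroup (Fin n)) → ℕ) := by
    rw [← hspec]
    exact ⟨g, rfl⟩
  obtain ⟨a, ha⟩ := h1
  apply no_order_mul hp hr hne hn (a : Equiv.Perm (Fin n))
  rw [Subgroup.orderOf_coe, ha, h]

lemma two_mul_card (hn : 2 ≤ n) (hcard : Nat.card G = Nat.card ↥(alternatingGroup (Fin n))) :
    2 * Nat.card G = n.factorial := by
  haveI : Nontrivial (Fin n) := Fin.nontrivial_iff_two_le.2 hn
  rw [hcard, two_mul_nat_card_alternatingGroup, Nat.card_perm, Nat.card_eq_fintype_card, Fintype.card_fin]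

lemma dvd_card_of_le (hn : 2 ≤ n) (hcard : Nat.card G = Nat.card ↥(alternatingGroup (Fin n)))
    {p : ℕ} (hp : p.Prime) (hp2 : p ≠ 2) (hpn : p ≤ n) : p ∣ Nat.card G := by
  have h := two_mul_card hn hcard
  have h1 : p ∣ n.factorial := (Nat.Prime.dvd_factorial hp).2 hpn
  rw [← h] at h1
  exact (hp.dvd_mul.1 h1).resolve_left (fun h2 => hp2 ((Nat.prime_dvd_prime_iff_eq hp Nat.prime_two).1 h2))

lemma not_sq_dvd (hn : 2 ≤ n) (hcard : Nat.card G = Nat.card ↥(alternatingGroup (Fin n)))
    {p : ℕ} (hp : p.Prime) (h2p : n < 2 * p) : ¬ p ^ 2 ∣ Nat.card G := by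
  intro h
  have h1 : p ^ 2 ∣ n.factorial := by
    rw [← two_mul_card hn hcard]
    exact h.trans (dvd_mul_left _ _)
  have hlog : Nat.log p n < 2 := by
    apply Nat.log_lt_of_lt_pow (by omega)
    have := hp.two_le
    nlinarith
  rw [hp.pow_dvd_factorial_iff hlog] at h1
  simp at h1
  have : n / p < 2 := Nat.div_lt_of_lt_mul (by rwa [mul_comm])
  omega

/-- The conclusion for primes between `n / 2` and `n`. -/
theorem alt_section (hn : 11 ≤ n)
    (hcard : Nat.card G = Nat.card ↥(alternatingGroup (Fin n)))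
    (hspec : Set.range (orderOf : G → ℕ) = Set.range (orderOf : ↥(alternatingGroup (Fin n)) → ℕ)) :
    ∃ (N H : Subgroup G) (_ : N.Normal), H.Normal ∧ N < H ∧
      IsSimpleGroup (↥H ⧸ N.subgroupOf H) ∧ ¬ IsMulCommutative (↥H ⧸ N.subgroupOf H) ∧
      ∀ p : ℕ, p.Prime → n < 2 * p → p ≤ n → p ∣ Nat.card (↥H ⧸ N.subgroupOf H) := by
  obtain ⟨p, r, hp, hr, hpr, h2p, hrn⟩ := two_primes_half n hn
  have hodd : ∀ {l : ℕ}, l.Prime → n < 2 * l → Odd l := by
    intro l hl h2l
    rcases hl.eq_two_or_odd' with h | h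
    · omega
    · exact h
  have hone : ∀ {a b : ℕ}, a.Prime → b.Prime → a ≠ b → n < 2 * a → a ≤ n → n < 2 * b → b ≤ n →
      ∀ K : Subgroup G, K.Normal → a ∣ Nat.card K → b ∣ Nat.card K := by
    intro a b ha hb hab h2a han h2b hbn K hK haK
    by_contra hbK
    have ho2 := hodd ha h2a
    have ho3 := hodd hb h2b
    have hb2 : b ≠ 2 := fun h => by omega
    obtain ⟨g, hg⟩ := exists_order_mul ha hb hab K hK haK hbK
      (dvd_card_of_le (by omega) hcard hb hb2 hbn) (by
        intro e he hd hdvd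
        have hcop : e = 1 := by
          by_contra hne1
          have he2 : 2 ≤ e := by omega
          exact not_sq_dvd (by omega) hcard ha h2a ((pow_dvd_pow a he2).trans hd)
        subst hcop
        rw [pow_one] at hdvd
        have hapos := ha.two_le
        have hbpos := hb.two_le
        obtain ⟨c, hc⟩ := hdvd
        have hc1 : a - 1 = b * c := hc
        have : c ≠ 0 := by
          rintro rfl
          omega
        have hc2 : c < 2 := by
          by_contra hh
          have : 2 ≤ c := by omega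
          have : b * 2 ≤ b * c := Nat.mul_le_mul_left _ this
          omega
        have hc3 : c = 1 := by omega
        subst hc3
        obtain ⟨u, hu⟩ := ho2
        obtain ⟨v, hv⟩ := ho3
        omega)
    exact no_order_of_spec hspec ha hb hab (by omega) g hg
  have hiff : ∀ l : ℕ, l.Prime → n < 2 * l → l ≤ n → ∀ K : Subgroup G, K.Normal → (p ∣ Nat.card K ↔ l ∣ Nat.card K) := by
    intro l hl h2l hln K hK
    by_cases hpl : p = l
    · rw [hpl]
    · exact ⟨hone hp hl hpl h2p (by omega) h2l hln K hK, hone hl hp (Ne.symm hpl) h2l hln h2p (by omega) K hK⟩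
  have h2r : n < 2 * r := by omega
  have hp2 : p ≠ 2 := fun h => by omega
  obtain ⟨N, H, hN, hH, hlt, hs, hnc, hdiv⟩ := simple_section hp hr hpr.ne
    (dvd_card_of_le (by omega) hcard hp hp2 (by omega))
    (not_sq_dvd (by omega) hcard hp h2p) (hiff r hr h2r hrn)
  exact ⟨N, H, hN, hH, hlt, hs, hnc, fun l hl h2l hln => hdiv l hl (hiff l hl h2l hln)⟩

theorem not_solvable_of_section (N H : Subgroup G) (hN : N.Normal) (hs : IsSimpleGroup (↥H ⧸ N.subgroupOf H))
    (hnc : ¬ IsMulCommutative (↥H ⧸ N.subgroupOf H)) : ¬ Group.IsSolvable G := by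
  intro hsolv
  haveI := hN
  haveI : Group.IsSolvable H := inferInstance
  have hQ : Group.IsSolvable (↥H ⧸ N.subgroupOf H) := inferInstance
  apply hnc
  exact ⟨⟨IsSimpleGroup.comm_iff_isSolvable.2 hQ⟩⟩

/-- Small degrees: the pair of primes given explicitly. -/
theorem alt_section_small {p r : ℕ} (hp : p.Prime) (hr : r.Prime) (hne : p ≠ r)
    (hpG : p ∣ Nat.card G) (hrG : r ∣ Nat.card G) (hpp : ¬ p ^ 2 ∣ Nat.card G)
    (hno : ∀ g : G, orderOf g ≠ p * r)
    (h1 : ∀ a : ℕ, 0 < a → p ^ a ∣ Nat.card G → ¬ r ∣ p ^ a - 1)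
    (h2 : ∀ a : ℕ, 0 < a → r ^ a ∣ Nat.card G → ¬ p ∣ r ^ a - 1) : ¬ Group.IsSolvable G := by
  intro hsolv
  obtain ⟨N, H, hN, hH, hlt, hs, hnc, -⟩ := simple_section hp hr hne hpG hpp (by
    intro K hK
    constructor
    · intro hpK
      by_contra hrK
      obtain ⟨g, hg⟩ := exists_order_mul hp hr hne K hK hpK hrK hrG h1
      exact hno g hg
    · intro hrK
      by_contra hpK
      obtain ⟨g, hg⟩ := exists_order_mul hr hp hne.symm K hK hrK hpK hpG h2
      exact hno g (by rw [hg, mul_comm]))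
  haveI := hN
  haveI : Group.IsSolvable H := inferInstance
  have hQ : Group.IsSolvable (↥H ⧸ N.subgroupOf H) := inferInstance
  apply hnc
  exact ⟨⟨IsSimpleGroup.comm_iff_isSolvable.2 hQ⟩⟩

theorem small_aux {p r m : ℕ} (hp : p.Prime) (hr : r.Prime) (hne : p ≠ r) (hn2 : 2 ≤ n) (hp2 : p ≠ 2)
    (hr2 : r ≠ 2) (hpn : p ≤ n) (hrn : r ≤ n) (h2p : n < 2 * p) (hnpr : n < p + r)
    (hcard : Nat.card G = Nat.card ↥(alternatingGroup (Fin n)))
    (hspec : Set.range (orderOf : G → ℕ) = Set.range (orderOf : ↥(alternatingGroup (Fin n)) → ℕ))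
    (hm : Nat.card G = m) (h3 : ¬ r ^ 3 ∣ m) (h11 : ¬ r ∣ p - 1) (h12 : ¬ p ∣ r - 1)
    (h13 : ¬ p ∣ r ^ 2 - 1) : ¬ Group.IsSolvable G := by
  have hpp := not_sq_dvd hn2 hcard hp h2p
  refine alt_section_small hp hr hne (dvd_card_of_le hn2 hcard hp hp2 hpn)
    (dvd_card_of_le hn2 hcard hr hr2 hrn) hpp (no_order_of_spec hspec hp hr hne hnpr) ?_ ?_
  · intro a ha hd
    have : a = 1 := by
      by_contra hne1
      exact hpp ((pow_dvd_pow p (by omega)).trans hd)
    subst this
    simpa using h11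
  · intro a ha hd
    have hle : a < 3 := by
      by_contra hcon
      rw [hm] at hd
      exact h3 ((pow_dvd_pow r (by omega)).trans hd)
    interval_cases a
    · simpa using h12
    · exact h13

end Alt

end Cfsg.Agent.Lib.H5AltSpec
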