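import Mathlib
import Cfsg.Agent.Lib.H5AltSpec

/-! Element orders in alternating groups via cycle types. -/

namespace Cfsg.Agent.Lib.AltOrders

open Equiv.Perm

/-- Realizing a cycle type in the alternating group. -/
theorem exists_alt_of_multiset {n : ℕ} (m : Multiset ℕ) (hsum : m.sum ≤ n) (h2 : ∀ a ∈ m, 2 ≤ a)
    (hpar : Even (m.sum + Multiset.card m)) :
    ∃ σ : alternatingGroup (Fin n), orderOf σ = m.lcm := by
  obtain ⟨g, hg⟩ := (Equiv.Perm.exists_with_cycleType_iff (α := Fin n)).2 ⟨by simpa using hsum, h2⟩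
  have hs : Equiv.Perm.sign g = 1 := by
    rw [Equiv.Perm.sign_of_cycleType, hg, hpar.neg_one_pow]
  refine ⟨⟨g, Equiv.Perm.mem_alternatingGroup.2 hs⟩, ?_⟩
  rw [Subgroup.orderOf_mk, ← Equiv.Perm.lcm_cycleType, hg]

/-- Cycle type facts for an element of the alternating group. -/
theorem facts {n : ℕ} (σ : alternatingGroup (Fin n)) :
    (σ : Equiv.Perm (Fin n)).cycleType.sum ≤ n ∧
      (∀ a ∈ (σ : Equiv.Perm (Fin n)).cycleType, 2 ≤ a) ∧
      Even ((σ : Equiv.Perm (Fin n)).cycleType.sum + Multiset.card (σ : Equiv.Perm (Fin n)).cycleType) ∧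
      (σ : Equiv.Perm (Fin n)).cycleType.lcm = orderOf σ := by
  refine ⟨?_, fun a ha => Equiv.Perm.two_le_of_mem_cycleType ha, ?_, ?_⟩
  · rw [Equiv.Perm.sum_cycleType]
    calc (σ : Equiv.Perm (Fin n)).support.card ≤ Fintype.card (Fin n) := Finset.card_le_univ _
      _ = n := Fintype.card_fin n
  · have h := Equiv.Perm.mem_alternatingGroup.1 σ.2
    rw [Equiv.Perm.sign_of_cycleType] at h
    by_contra hodd
    rw [Nat.not_even_iff_odd] at hodd
    rw [hodd.neg_one_pow] at h
    exact absurd h (by decide)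
  · rw [Equiv.Perm.lcm_cycleType, Subgroup.orderOf_coe]

/-- All odd parts force an even value. -/
theorem even_of_all_odd (m : Multiset ℕ) (h : ∀ a ∈ m, Odd a) : Even (m.sum + Multiset.card m) := by
  induction m using Multiset.induction_on with
  | empty => simp
  | cons a s ih =>
    have h1 : Odd a := h a (Multiset.mem_cons_self a s)
    have h2 := ih (fun x hx => h x (Multiset.mem_cons_of_mem hx))
    rw [Multiset.sum_cons, Multiset.card_cons]
    have : a + s.sum + (Multiset.card s + 1) = (a + 1) + (s.sum + Multiset.card s) := by ring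
    rw [this]
    exact (h1.add_one).add h2

theorem dvd_two_mul_cases {a r : ℕ} (hr : r.Prime) (h : a ∣ 2 * r) : a = 1 ∨ a = 2 ∨ a = r ∨ a = 2 * r := by
  obtain ⟨a₁, a₂, h1, h2, rfl⟩ := (Nat.dvd_mul).1 h
  have h3 : a₁ = 1 ∨ a₁ = 2 := (Nat.dvd_prime Nat.prime_two).1 h1
  have h4 : a₂ = 1 ∨ a₂ = r := (Nat.dvd_prime hr).1 h2
  rcases h3 with rfl | rfl <;> rcases h4 with rfl | rfl <;> simp

/-- The key lower bound for an even permutation of order `2 r`. -/
theorem le_of_two_mul {n r : ℕ} (hr : r.Prime) (hr2 : r ≠ 2) (σ : alternatingGroup (Fin n))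
    (hσ : orderOf σ = 2 * r) : r + 4 ≤ n := by
  obtain ⟨hsum, h2, hpar, hl⟩ := facts σ
  set m := (σ : Equiv.Perm (Fin n)).cycleType with hm
  rw [hσ] at hl
  have hr3 : 3 ≤ r := by
    have := hr.two_le
    omega
  have hrodd : Odd r := hr.odd_of_ne_two hr2
  have hmem : ∀ a ∈ m, a = 2 ∨ a = r ∨ a = 2 * r := by
    intro a ha
    have h1 : a ∣ 2 * r := by rw [← hl]; exact Multiset.dvd_lcm ha
    have h3 := h2 a ha
    rcases dvd_two_mul_cases hr h1 with h | h | h | h
    · omega
    · exact Or.inl h
    · exact Or.inr (Or.inl h)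
    · exact Or.inr (Or.inr h)
  -- an even element after removing an even element
  have hother : ∀ x ∈ m, Even x → ∃ y ∈ m.erase x, Even y := by
    intro x hx hxe
    by_contra hno
    push Not at hno
    have h1 : Even ((m.erase x).sum + Multiset.card (m.erase x)) :=
      even_of_all_odd _ (fun a ha => Nat.not_even_iff_odd.1 (hno a ha))
    have h3 : m = x ::ₘ m.erase x := (Multiset.cons_erase hx).symm
    have h4 : m.sum + Multiset.card m = x + 1 + ((m.erase x).sum + Multiset.card (m.erase x)) := by
      conv_lhs => rw [h3]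
      rw [Multiset.sum_cons, Multiset.card_cons]
      ring
    rw [h4] at hpar
    have h5 : Even (x + 1) := (Nat.even_add.1 hpar).2 h1
    exact (Nat.not_even_iff_odd.2 hxe.add_one) h5
  by_cases hc : 2 * r ∈ m
  · obtain ⟨y, hy, hye⟩ := hother _ hc (even_two_mul r)
    have h3 : m = (2 * r) ::ₘ m.erase (2 * r) := (Multiset.cons_erase hc).symm
    have h4 : m.sum = 2 * r + (m.erase (2 * r)).sum := by
      conv_lhs => rw [h3]
      rw [Multiset.sum_cons]
    have h5 : y ≤ (m.erase (2 * r)).sum := Multiset.le_sum_of_mem hy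
    have h6 := h2 y (Multiset.mem_of_mem_erase hy)
    omega
  · -- `r ∈ m` and `2 ∈ m` twice
    obtain ⟨x, hx, hrx⟩ := Cfsg.Agent.Lib.H5AltSpec.exists_mem_dvd_of_dvd_lcm hr m (by rw [hl]; exact dvd_mul_left _ _)
    have hrm : r ∈ m := by
      rcases hmem x hx with h | h | h
      · exfalso
        rw [h] at hrx
        have := Nat.le_of_dvd (by norm_num) hrx
        omega
      · rwa [h] at hx
      · rw [h] at hx
        exact absurd hx hc
    obtain ⟨x', hx', h2x⟩ := Cfsg.Agent.Lib.H5AltSpec.exists_mem_dvd_of_dvd_lcm Nat.prime_two m (by rw [hl]; exact dvd_mul_right _ _)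
    have h2eq : ∀ a ∈ m, Even a → a = 2 := by
      intro a ha hae
      rcases hmem a ha with h | h | h
      · exact h
      · rw [h] at hae
        exact absurd hae (Nat.not_even_iff_odd.2 hrodd)
      · rw [h] at ha
        exact absurd ha hc
    have hx2 : x' = 2 := h2eq x' hx' (even_iff_two_dvd.2 h2x)
    subst hx2
    obtain ⟨y, hy, hye⟩ := hother _ hx' even_two
    have hy2 : y = 2 := h2eq y (Multiset.mem_of_mem_erase hy) hye
    subst hy2
    have hrm' : r ∈ (m.erase 2).erase 2 :=
      (Multiset.mem_erase_of_ne hr2).2 ((Multiset.mem_erase_of_ne hr2).2 hrm)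
    have h3 : m = 2 ::ₘ m.erase 2 := (Multiset.cons_erase hx').symm
    have h4 : m.erase 2 = 2 ::ₘ (m.erase 2).erase 2 := (Multiset.cons_erase hy).symm
    have h5 : m.sum = 2 + (2 + ((m.erase 2).erase 2).sum) := by
      conv_lhs => rw [h3, h4]
      rw [Multiset.sum_cons, Multiset.sum_cons]
    have h6 : r ≤ ((m.erase 2).erase 2).sum := Multiset.le_sum_of_mem hrm'
    omega

/-- Checker for spectra of alternating groups. -/
def chk (S : ℕ → Bool) : ℕ → ℕ → ℕ → ℕ → Bool
  | 0, _, acc, par => (par % 2 == 1) || S acc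
  | (f + 1), b, acc, par =>
    ((par % 2 == 1) || S acc) &&
      (List.range (b + 1)).all fun k => (k < 2) || chk S f (b - k) (Nat.lcm acc k) (par + k + 1)

theorem chk_spec (S : ℕ → Bool) (m : Multiset ℕ) (h2 : ∀ a ∈ m, 2 ≤ a) :
    ∀ (f b acc par : ℕ), m.sum ≤ b → Multiset.card m ≤ f → chk S f b acc par = true →
      Even (par + m.sum + Multiset.card m) → S (Nat.lcm acc m.lcm) = true := by
  induction m using Multiset.induction_on with
  | empty =>
    intro f b acc par _ _ hc hev
    have h1 : par % 2 = 0 := by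
      simpa [Nat.even_iff] using hev
    have h3 : S acc = true := by
      cases f with
      | zero => simpa [chk, h1] using hc
      | succ f =>
        simp only [chk, Bool.and_eq_true] at hc
        simpa [h1] using hc.1
    simpa using h3
  | cons a s ih =>
    intro f b acc par hb hf hc hev
    have ha := h2 a (Multiset.mem_cons_self a s)
    rw [Multiset.sum_cons] at hb
    rw [Multiset.card_cons] at hf
    cases f with
    | zero => omega
    | succ f =>
      simp only [chk, Bool.and_eq_true, List.all_eq_true, List.mem_range] at hc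
      have h3 := hc.2 a (by omega)
      have h4 : ¬ a < 2 := by omega
      simp only [Bool.or_eq_true, decide_eq_true_eq, h4, false_or] at h3
      have h5 := ih (fun x hx => h2 x (Multiset.mem_cons_of_mem hx)) f (b - a) (Nat.lcm acc a) (par + a + 1)
        (by omega) (by omega) h3 (by
          rw [Multiset.sum_cons, Multiset.card_cons] at hev
          have : par + a + 1 + s.sum + Multiset.card s = par + (a + s.sum) + (Multiset.card s + 1) := by ring
          rwa [this])
      rw [Multiset.lcm_cons]
      rwa [show GCDMonoid.lcm a s.lcm = Nat.lcm a s.lcm from rfl, ← Nat.lcm_assoc]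

end Cfsg.Agent.Lib.AltOrders
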