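import Mathlib

/-! Finite sets with a group action: marks determine the isomorphism type. -/

set_option autoImplicit false
set_option linter.all false

namespace Cfsg.Agent.Lib.BisetGSet

open MulAction

universe v

section Basic

variable {H : Type*} [Group H]

/-- The elements fixed by a subgroup. -/
def fix (K : Subgroup H) (X : Type*) [MulAction H X] : Set X := {x | ∀ g ∈ K, g • x = x}

/-- The number of fixed points. -/
noncomputable def mark (K : Subgroup H) (X : Type*) [MulAction H X] : ℕ := (fix K X).ncard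

theorem mem_fix {K : Subgroup H} {X : Type*} [MulAction H X] {x : X} :
    x ∈ fix K X ↔ K ≤ stabilizer H x :=
  ⟨fun h g hg => h g hg, fun h g hg => h hg⟩

theorem mark_pos {K : Subgroup H} {X : Type*} [MulAction H X] [Finite X] {x : X} (h : K ≤ stabilizer H x) :
    0 < mark K X :=
  (Set.ncard_pos (Set.toFinite _)).2 ⟨x, mem_fix.2 h⟩

theorem exists_of_mark_pos {K : Subgroup H} {X : Type*} [MulAction H X] (h : 0 < mark K X) :
    ∃ x : X, K ≤ stabilizer H x := by
  have hne : (fix K X).ncard ≠ 0 := h.ne'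
  obtain ⟨x, hx⟩ := Set.nonempty_of_ncard_ne_zero hne
  exact ⟨x, mem_fix.1 hx⟩

end Basic

section Orbit

variable {H : Type*} [Group H]

theorem orb_smul {X : Type*} [MulAction H X] {x z : X} (h : H) : h • z ∈ orbit H x ↔ z ∈ orbit H x := by
  constructor
  · rintro ⟨g, hg⟩
    refine ⟨h⁻¹ * g, ?_⟩
    show (h⁻¹ * g) • x = z
    rw [mul_smul]
    have hg' : g • x = h • z := hg
    rw [hg', inv_smul_smul]
  · rintro ⟨g, hg⟩
    refine ⟨h * g, ?_⟩
    show (h * g) • x = h • z
    rw [mul_smul]
    have hg' : g • x = z := hg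
    rw [hg']

/-- The complement of an orbit. -/
def complOrbit {X : Type*} [MulAction H X] (x : X) : SubMulAction H X where
  carrier := (orbit H x)ᶜ
  smul_mem' := by
    intro h z hz hm
    exact hz ((orb_smul h).1 hm)

theorem mem_complOrbit {X : Type*} [MulAction H X] {x z : X} : z ∈ complOrbit (H := H) x ↔ z ∉ orbit H x := Iff.rfl

theorem stabilizer_coe {X : Type*} [MulAction H X] (U : SubMulAction H X) (z : U) :
    stabilizer H z = stabilizer H (z : X) := by
  ext g
  simp only [mem_stabilizer_iff]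
  exact ⟨fun h => congrArg Subtype.val h, fun h => Subtype.ext h⟩

end Orbit

section Iso

variable {H : Type*} [Group H] [Finite H]

theorem mark_sub {X : Type*} [MulAction H X] (U : SubMulAction H X) (K : Subgroup H) :
    mark K U = (fix K X ∩ U).ncard := by
  have himg : (Subtype.val '' (fix K U) : Set X) = fix K X ∩ U := by
    ext z
    constructor
    · rintro ⟨w, hw, rfl⟩
      refine ⟨fun g hg => ?_, w.2⟩
      exact congrArg Subtype.val (hw g hg)
    · rintro ⟨hz, hzU⟩
      refine ⟨⟨z, hzU⟩, fun g hg => Subtype.ext (hz g hg), rfl⟩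
  rw [← himg, Set.ncard_image_of_injective _ Subtype.val_injective]
  rfl

/-- Marks on a family containing all stabilizers determine the isomorphism type. -/
theorem iso_family (𝒦 : Set (Subgroup H)) (n : ℕ) :
    ∀ (X Y : Type v) [MulAction H X] [MulAction H Y] [Finite X] [Finite Y], Nat.card X = n →
      (∀ x : X, stabilizer H x ∈ 𝒦) → (∀ y : Y, stabilizer H y ∈ 𝒦) →
      (∀ K ∈ 𝒦, mark K X = mark K Y) →
      ∃ f : X ≃ Y, ∀ (h : H) (x : X), f (h • x) = h • f x := by
  classical
  induction n using Nat.strong_induction_on with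
  | _ n ih =>
    intro X Y _ _ _ _ hn hX hY hm
    by_cases hXe : IsEmpty X
    · have hYe : IsEmpty Y := by
        refine ⟨fun y => ?_⟩
        have h1 : 0 < mark (stabilizer H y) Y := mark_pos le_rfl
        rw [← hm _ (hY y)] at h1
        obtain ⟨x, -⟩ := exists_of_mark_pos h1
        exact hXe.false x
      exact ⟨Equiv.equivOfIsEmpty X Y, fun _ x => (hXe.false x).elim⟩
    rw [not_isEmpty_iff] at hXe
    obtain ⟨x₀, hx₀⟩ := Finite.exists_max (fun x : X => Nat.card (stabilizer H x))
    set K := stabilizer H x₀ with hK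
    have hpos : 0 < mark K Y := by
      rw [← hm _ (hX x₀)]
      exact mark_pos le_rfl
    obtain ⟨y₀, hy₀⟩ := exists_of_mark_pos hpos
    have hL : K = stabilizer H y₀ := by
      have h1 : 0 < mark (stabilizer H y₀) X := by
        rw [hm _ (hY y₀)]
        exact mark_pos le_rfl
      obtain ⟨x₁, hx₁⟩ := exists_of_mark_pos h1
      have h2 := hx₀ x₁
      exact Subgroup.eq_of_le_of_card_ge hy₀
        ((Subgroup.card_le_of_le hx₁).trans h2)
    -- the map between orbits
    have hst : ∀ (g g' : H), g • x₀ = g' • x₀ → g • y₀ = g' • y₀ := by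
      intro g g' e
      have h1 : g'⁻¹ * g ∈ stabilizer H x₀ := by
        rw [mem_stabilizer_iff, mul_smul, e, inv_smul_smul]
      have h2 : g'⁻¹ * g ∈ stabilizer H y₀ := by rw [← hL]; exact h1
      rw [mem_stabilizer_iff, mul_smul] at h2
      calc g • y₀ = g' • (g'⁻¹ • g • y₀) := by rw [smul_inv_smul]
        _ = g' • y₀ := by rw [h2]
    have hst' : ∀ (g g' : H), g • y₀ = g' • y₀ → g • x₀ = g' • x₀ := by
      intro g g' e
      have h1 : g'⁻¹ * g ∈ stabilizer H y₀ := by
        rw [mem_stabilizer_iff, mul_smul, e, inv_smul_smul]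
      have h2 : g'⁻¹ * g ∈ stabilizer H x₀ := by rw [hK.symm, hL]; exact h1
      rw [mem_stabilizer_iff, mul_smul] at h2
      calc g • x₀ = g' • (g'⁻¹ • g • x₀) := by rw [smul_inv_smul]
        _ = g' • x₀ := by rw [h2]
    let oe : ∀ z : X, z ∈ orbit H x₀ → H := fun z hz => Classical.choose hz
    have hoe : ∀ z hz, oe z hz • x₀ = z := fun z hz => Classical.choose_spec hz
    let oe' : ∀ z : Y, z ∈ orbit H y₀ → H := fun z hz => Classical.choose hz
    have hoe' : ∀ z hz, oe' z hz • y₀ = z := fun z hz => Classical.choose_spec hz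
    -- the complements
    let X' := complOrbit (H := H) x₀
    let Y' := complOrbit (H := H) y₀
    have hcard : Nat.card X' < n := by
      rw [← hn]
      exact Finite.card_subtype_lt (p := fun z => z ∈ X') (x := x₀) (fun hc => hc (mem_orbit_self x₀))
    have hXst : ∀ z : X', stabilizer H z ∈ 𝒦 := fun z => by
      rw [stabilizer_coe]
      exact hX z
    have hYst : ∀ z : Y', stabilizer H z ∈ 𝒦 := fun z => by
      rw [stabilizer_coe]
      exact hY z
    have hmm : ∀ L ∈ 𝒦, mark L X' = mark L Y' := by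
      intro L hL𝒦
      rw [mark_sub, mark_sub]
      have h1 : (fix L X ∩ orbit H x₀).ncard = (fix L Y ∩ orbit H y₀).ncard := by
        refine Set.ncard_congr (fun z hz => oe z hz.2 • y₀) ?_ ?_ ?_
        · rintro z ⟨hz1, hz2⟩
          refine ⟨fun g hg => ?_, mem_orbit _ _⟩
          rw [← mul_smul]
          apply hst
          rw [mul_smul, hoe, hz1 g hg]
        · rintro z z' ⟨_, hz⟩ ⟨_, hz'⟩ e
          have := hst' _ _ e
          rwa [hoe, hoe] at this
        · rintro w ⟨hw1, hw2⟩
          refine ⟨oe' w hw2 • x₀, ⟨fun g hg => ?_, mem_orbit _ _⟩, ?_⟩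
          · rw [← mul_smul]
            apply hst'
            rw [mul_smul, hoe', hw1 g hg]
          · apply (hst _ _ (hoe _ _)).trans
            exact hoe' w hw2
      have h2 : (fix L X ∩ orbit H x₀).ncard + (fix L X \ orbit H x₀).ncard = (fix L X).ncard :=
        Set.ncard_inter_add_ncard_diff_eq_ncard _ _ (Set.toFinite _)
      have h3 : (fix L Y ∩ orbit H y₀).ncard + (fix L Y \ orbit H y₀).ncard = (fix L Y).ncard :=
        Set.ncard_inter_add_ncard_diff_eq_ncard _ _ (Set.toFinite _)
      have h4 : (fix L X).ncard = (fix L Y).ncard := hm L hL𝒦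
      have e1 : fix L X ∩ (X' : Set X) = fix L X \ orbit H x₀ := rfl
      have e2 : fix L Y ∩ (Y' : Set Y) = fix L Y \ orbit H y₀ := rfl
      rw [e1, e2]
      omega
    obtain ⟨f', hf'⟩ := ih _ hcard X' Y' rfl hXst hYst hmm
    -- assemble
    let F : X → Y := fun z => if hz : z ∈ orbit H x₀ then oe z hz • y₀ else (f' ⟨z, hz⟩ : Y')
    have hF1 : ∀ z (hz : z ∈ orbit H x₀), F z = oe z hz • y₀ := fun z hz => dif_pos hz
    have hF2 : ∀ z (hz : z ∉ orbit H x₀), F z = (f' ⟨z, hz⟩ : Y') := fun z hz => dif_neg hz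
    have hFinj : Function.Injective F := by
      intro a b e
      by_cases ha : a ∈ orbit H x₀ <;> by_cases hb : b ∈ orbit H x₀
      · rw [hF1 a ha, hF1 b hb] at e
        have := hst' _ _ e
        rwa [hoe, hoe] at this
      · rw [hF1 a ha, hF2 b hb] at e
        exact absurd (e ▸ mem_orbit y₀ _ : ((f' ⟨b, hb⟩ : Y') : Y) ∈ orbit H y₀) (f' ⟨b, hb⟩).2
      · rw [hF2 a ha, hF1 b hb] at e
        exact absurd (e.symm ▸ mem_orbit y₀ _ : ((f' ⟨a, ha⟩ : Y') : Y) ∈ orbit H y₀) (f' ⟨a, ha⟩).2
      · rw [hF2 a ha, hF2 b hb] at e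
        have := f'.injective (Subtype.ext e)
        exact congrArg Subtype.val this
    have hFsurj : Function.Surjective F := by
      intro w
      by_cases hw : w ∈ orbit H y₀
      · have hm' : oe' w hw • x₀ ∈ orbit H x₀ := mem_orbit _ _
        refine ⟨oe' w hw • x₀, ?_⟩
        rw [hF1 _ hm']
        exact (hst _ _ (hoe _ hm')).trans (hoe' w hw)
      · obtain ⟨z, hz⟩ := f'.surjective ⟨w, hw⟩
        refine ⟨z, ?_⟩
        rw [hF2 _ z.2]
        exact congrArg Subtype.val hz
    refine ⟨Equiv.ofBijective F ⟨hFinj, hFsurj⟩, fun h z => ?_⟩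
    show F (h • z) = h • F z
    by_cases hz : z ∈ orbit H x₀
    · have hz' : h • z ∈ orbit H x₀ := (orb_smul h).2 hz
      rw [hF1 _ hz', hF1 z hz, ← mul_smul]
      apply hst
      rw [hoe, mul_smul, hoe]
    · have hz' : h • z ∉ orbit H x₀ := fun hc => hz ((orb_smul h).1 hc)
      rw [hF2 _ hz', hF2 z hz]
      have := hf' h ⟨z, hz⟩
      exact congrArg Subtype.val this

/-- Equal marks give an isomorphism. -/
theorem iso_of_marks {X Y : Type v} [MulAction H X] [MulAction H Y] [Finite X] [Finite Y]
    (hm : ∀ K : Subgroup H, mark K X = mark K Y) :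
    ∃ f : X ≃ Y, ∀ (h : H) (x : X), f (h • x) = h • f x :=
  iso_family Set.univ _ X Y rfl (fun _ => trivial) (fun _ => trivial) (fun K _ => hm K)

end Iso

section Cong

variable {H : Type*} [Group H] [Finite H]

/-- A set on which the stabilizers are all equal to `D` has size divisible by the index of `D`. -/
theorem card_dvd_of_stabilizer {U : Type*} [MulAction H U] [Finite U] (D : Subgroup H)
    (h : ∀ u : U, stabilizer H u = D) : Nat.card (H ⧸ D) ∣ Nat.card U := by
  classical
  haveI : Fintype (orbitRel.Quotient H U) := Fintype.ofFinite _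
  rw [Nat.card_congr (selfEquivSigmaOrbitsQuotientStabilizer H U), Nat.card_sigma]
  refine Finset.dvd_sum fun ω _ => ?_
  rw [h]

/-- The marks above a normal subgroup acting trivially determine the cardinality modulo its index. -/
theorem cong_of_marks (D : Subgroup H) [hD : D.Normal] {A B : Type v} [MulAction H A] [MulAction H B]
    [Finite A] [Finite B] (hA : ∀ a : A, D ≤ stabilizer H a) (hB : ∀ b : B, D ≤ stabilizer H b)
    (hm : ∀ K : Subgroup H, D ≤ K → K ≠ D → mark K A = mark K B) :
    ((Nat.card (H ⧸ D) : ℕ) : ℤ) ∣ (Nat.card A : ℤ) - (Nat.card B : ℤ) := by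
  classical
  have hinv : ∀ {Z : Type v} [MulAction H Z] (h : H) (z : Z),
      stabilizer H (h • z) = D ↔ stabilizer H z = D := by
    intro Z _ h z
    have key : ∀ (h : H) (z : Z), stabilizer H z = D → stabilizer H (h • z) = D := by
      intro h z e
      ext g
      rw [mem_stabilizer_iff]
      constructor
      · intro hg
        have h1 : h⁻¹ * g * h ∈ stabilizer H z := by
          rw [mem_stabilizer_iff, mul_smul, mul_smul, hg, inv_smul_smul]
        rw [e] at h1
        have h2 := hD.conj_mem _ h1 h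
        have e2 : h * (h⁻¹ * g * h) * h⁻¹ = g := by group
        rwa [e2] at h2
      · intro hg
        have h1 : h⁻¹ * g * h⁻¹⁻¹ ∈ D := hD.conj_mem _ hg h⁻¹
        rw [← e, mem_stabilizer_iff] at h1
        rw [inv_inv, mul_smul, mul_smul] at h1
        calc g • h • z = h • (h⁻¹ • g • h • z) := by rw [smul_inv_smul]
          _ = h • z := by rw [h1]
    refine ⟨fun e => ?_, key h z⟩
    have := key h⁻¹ _ e
    rwa [inv_smul_smul] at this
  have hparts : ∀ {Z : Type v} [MulAction H Z] [Finite Z], (∀ z : Z, D ≤ stabilizer H z) →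
      ∃ U : SubMulAction H Z, (∀ z : Z, z ∈ U ↔ stabilizer H z ≠ D) ∧
        (∀ K : Subgroup H, D ≤ K → K ≠ D → mark K U = mark K Z) ∧
        ((Nat.card (H ⧸ D) : ℕ) : ℤ) ∣ (Nat.card Z : ℤ) - (Nat.card U : ℤ) := by
    intro Z _ _ hZ
    let U : SubMulAction H Z :=
      { carrier := {z | stabilizer H z ≠ D}
        smul_mem' := fun h z hz hc => hz ((hinv h z).1 hc) }
    let V : SubMulAction H Z :=
      { carrier := {z | stabilizer H z = D}
        smul_mem' := fun h z hz => (hinv h z).2 hz }
    refine ⟨U, fun z => Iff.rfl, ?_, ?_⟩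
    · intro K hK hne
      rw [mark_sub]
      have : fix K Z ∩ (U : Set Z) = fix K Z := by
        refine Set.inter_eq_left.2 fun z hz hc => ?_
        have h1 : K ≤ stabilizer H z := mem_fix.1 hz
        have hc' : stabilizer H z = D := hc
        rw [hc'] at h1
        exact hne (le_antisymm h1 hK)
      rw [this]
      rfl
    · have h1 : Nat.card (H ⧸ D) ∣ Nat.card V := by
        refine card_dvd_of_stabilizer D fun u => ?_
        rw [stabilizer_coe]
        exact u.2
      have h2 : (U : Set Z)ᶜ = (V : Set Z) := by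
        ext z
        simp only [Set.mem_compl_iff]
        exact not_not
      have h3 : (U : Set Z).ncard + ((U : Set Z)ᶜ).ncard = Nat.card Z :=
        Set.ncard_add_ncard_compl _ (Set.toFinite _) (Set.toFinite _)
      rw [h2] at h3
      have h4 : Nat.card U = (U : Set Z).ncard := Nat.card_coe_set_eq (U : Set Z)
      have h5 : Nat.card V = (V : Set Z).ncard := Nat.card_coe_set_eq (V : Set Z)
      rw [h4, ← h3, ← h5]
      push_cast
      have : ((U : Set Z).ncard : ℤ) + (Nat.card V : ℤ) - ((U : Set Z).ncard : ℤ) = (Nat.card V : ℤ) := by ring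
      rw [this]
      exact_mod_cast h1
  obtain ⟨U, hU, hUm, hUd⟩ := hparts hA
  obtain ⟨V, hV, hVm, hVd⟩ := hparts hB
  obtain ⟨f, -⟩ := iso_family {K | D ≤ K ∧ K ≠ D} _ U V rfl
    (fun z => ⟨by rw [stabilizer_coe]; exact hA z, by rw [stabilizer_coe]; exact (hU z).1 z.2⟩)
    (fun z => ⟨by rw [stabilizer_coe]; exact hB z, by rw [stabilizer_coe]; exact (hV z).1 z.2⟩)
    (fun K hK => by rw [hUm K hK.1 hK.2, hVm K hK.1 hK.2]; exact hm K hK.1 hK.2)
  have hc : Nat.card U = Nat.card V := Nat.card_congr f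
  have : (Nat.card A : ℤ) - (Nat.card B : ℤ) =
      ((Nat.card A : ℤ) - (Nat.card U : ℤ)) - ((Nat.card B : ℤ) - (Nat.card V : ℤ)) := by
    rw [hc]
    ring
  rw [this]
  exact dvd_sub hUd hVd

end Cong

end Cfsg.Agent.Lib.BisetGSet
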