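import Mathlib
import Cfsg.Agent.Lib.BisetGSet
import Cfsg.Agent.Lib.FusionSat

/-! Graphs of maps of a fusion system, as subgroups of `S × S`. -/

set_option autoImplicit false
set_option linter.all false

namespace Cfsg.Agent.Lib.BisetGraph

open Cfsg Cfsg.FusionSystem MulAction Cfsg.Agent.Lib.BisetGSet Cfsg.Agent.Lib.FusionBasic

universe u v w

variable {Ω : Type u} [Group Ω] {S : Subgroup Ω}

/-- The graph of a map. -/
def graph {P : Subgroup Ω} (φ : P →* Ω) : Subgroup (↥S × ↥S) where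
  carrier := {g | ∃ h : ((g.1 : S) : Ω) ∈ P, φ ⟨g.1, h⟩ = g.2}
  one_mem' := ⟨P.one_mem, by
    have e : φ ⟨((1 : ↥S × ↥S).1 : Ω), P.one_mem⟩ = φ 1 := rfl
    rw [e, map_one]
    rfl⟩
  mul_mem' := by
    rintro a b ⟨ha, ea⟩ ⟨hb, eb⟩
    refine ⟨P.mul_mem ha hb, ?_⟩
    have e : φ ⟨(((a * b).1 : S) : Ω), P.mul_mem ha hb⟩ = φ (⟨_, ha⟩ * ⟨_, hb⟩) := rfl
    rw [e, map_mul, ea, eb]
    rfl
  inv_mem' := by
    rintro a ⟨ha, ea⟩
    refine ⟨P.inv_mem ha, ?_⟩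
    have e : φ ⟨((a⁻¹.1 : S) : Ω), P.inv_mem ha⟩ = φ (⟨_, ha⟩⁻¹) := rfl
    rw [e, map_inv, ea]
    rfl

theorem mem_graph {P : Subgroup Ω} {φ : P →* Ω} {g : ↥S × ↥S} :
    g ∈ (graph φ : Subgroup (↥S × ↥S)) ↔ ∃ h : ((g.1 : S) : Ω) ∈ P, φ ⟨g.1, h⟩ = g.2 := Iff.rfl

/-- Subgroups of `S × S` which are graphs of maps of the system. -/
def IsFG (F : FusionSystem S) (D : Subgroup (↥S × ↥S)) : Prop :=
  ∃ (P : Subgroup Ω) (φ : P →* Ω), φ ∈ F.Hom P ∧ D = graph φ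

/-- The first projection, as a subgroup of `Ω`. -/
def dom (D : Subgroup (↥S × ↥S)) : Subgroup Ω := (D.map (MonoidHom.fst ↥S ↥S)).map S.subtype

theorem mem_dom {D : Subgroup (↥S × ↥S)} {x : Ω} : x ∈ dom D ↔ ∃ g ∈ D, ((g.1 : S) : Ω) = x := by
  constructor
  · rintro ⟨_, ⟨g, hg, rfl⟩, rfl⟩
    exact ⟨g, hg, rfl⟩
  · rintro ⟨g, hg, rfl⟩
    exact ⟨_, ⟨g, hg, rfl⟩, rfl⟩

theorem dom_le (D : Subgroup (↥S × ↥S)) : dom D ≤ S := by
  rintro _ ⟨x, -, rfl⟩
  exact x.2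

/-- The element of the graph above a point. -/
def pt {F : FusionSystem S} {P : Subgroup Ω} {φ : P →* Ω} (hφ : φ ∈ F.Hom P) (x : P) : ↥S × ↥S :=
  (⟨x, source_le F hφ x.2⟩, ⟨φ x, map_mem_S F hφ x⟩)

theorem pt_mem {F : FusionSystem S} {P : Subgroup Ω} {φ : P →* Ω} (hφ : φ ∈ F.Hom P) (x : P) :
    pt hφ x ∈ (graph φ : Subgroup (↥S × ↥S)) := ⟨x.2, rfl⟩

theorem dom_graph {F : FusionSystem S} {P : Subgroup Ω} {φ : P →* Ω} (hφ : φ ∈ F.Hom P) :
    dom (graph φ : Subgroup (↥S × ↥S)) = P := by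
  ext x
  rw [mem_dom]
  constructor
  · rintro ⟨g, ⟨h, -⟩, rfl⟩
    exact h
  · intro hx
    exact ⟨pt hφ ⟨x, hx⟩, pt_mem hφ _, rfl⟩

/-- Same class. -/
def Rel (F : FusionSystem S) (D E : Subgroup (↥S × ↥S)) : Prop := F.IsConj (dom D) (dom E)

theorem isFG_of_le {F : FusionSystem S} {D E : Subgroup (↥S × ↥S)} (h : IsFG F D) (hE : E ≤ D) : IsFG F E := by
  obtain ⟨P, φ, hφ, rfl⟩ := h
  have hdom : dom E ≤ P := by
    intro x hx
    obtain ⟨g, hg, rfl⟩ := mem_dom.1 hx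
    exact (hE hg).1
  refine ⟨dom E, φ.comp (Subgroup.inclusion hdom), restrict_mem F hφ hdom, ?_⟩
  ext g
  constructor
  · intro hg
    obtain ⟨h1, h2⟩ := hE hg
    exact ⟨mem_dom.2 ⟨g, hg, rfl⟩, h2⟩
  · rintro ⟨h1, h2⟩
    obtain ⟨g', hg', e⟩ := mem_dom.1 h1
    obtain ⟨h3, h4⟩ := hE hg'
    have e1 : g'.1 = g.1 := Subtype.ext e
    have e2 : g'.2 = g.2 := by
      apply Subtype.ext
      rw [← h4, ← h2]
      show φ _ = φ _
      congr 1
      exact Subtype.ext e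
    have : g' = g := Prod.ext e1 e2
    rwa [← this]

/-- The order of a graph. -/
theorem card_dom_of_isFG {F : FusionSystem S} {D : Subgroup (↥S × ↥S)} (h : IsFG F D) :
    Nat.card (dom D) = Nat.card D := by
  obtain ⟨P, φ, hφ, rfl⟩ := h
  rw [dom_graph hφ]
  refine Nat.card_congr ⟨fun x => ⟨pt hφ x, pt_mem hφ x⟩, fun g => ⟨_, g.2.1⟩, ?_, ?_⟩
  · intro x
    rfl
  · rintro ⟨g, hg⟩
    apply Subtype.ext
    apply Prod.ext
    · rfl
    · exact Subtype.ext hg.2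

section Pair

variable {H : Type w} [Group H]

/-- Two homomorphisms into `S × S` related through maps of the system. -/
structure MapPair (F : FusionSystem S) (u v : H →* ↥S × ↥S) where
  U₁ : Subgroup Ω
  U₂ : Subgroup Ω
  f₁ : U₁ →* Ω
  f₂ : U₂ →* Ω
  h₁ : f₁ ∈ F.Hom U₁
  h₂ : f₂ ∈ F.Hom U₂
  hu₁ : ∀ h, (((u h).1 : S) : Ω) ∈ U₁
  hu₂ : ∀ h, (((u h).2 : S) : Ω) ∈ U₂
  hv₁ : ∀ h, f₁ ⟨(u h).1, hu₁ h⟩ = (((v h).1 : S) : Ω)
  hv₂ : ∀ h, f₂ ⟨(u h).2, hu₂ h⟩ = (((v h).2 : S) : Ω)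

variable {F : FusionSystem S} {u v : H →* ↥S × ↥S}

theorem MapPair.isFG (m : MapPair F u v) (K : Subgroup H) (hK : IsFG F (K.map u)) :
    IsFG F (K.map v) ∧ Rel F (K.map u) (K.map v) := by
  obtain ⟨P, φ, hφ, e⟩ := hK
  have hmem : ∀ x : P, ∃ k ∈ K, u k = pt hφ x := by
    intro x
    have h1 : pt hφ x ∈ K.map u := by
      rw [e]
      exact pt_mem hφ x
    obtain ⟨k, hk, ek⟩ := h1
    exact ⟨k, hk, ek⟩
  have hku : ∀ k ∈ K, ∃ h : (((u k).1 : S) : Ω) ∈ P, φ ⟨(u k).1, h⟩ = (u k).2 := by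
    intro k hk
    have h1 : u k ∈ K.map u := ⟨k, hk, rfl⟩
    rw [e] at h1
    exact h1
  have hP₁ : P ≤ m.U₁ := by
    intro x hx
    obtain ⟨k, -, ek⟩ := hmem ⟨x, hx⟩
    have := m.hu₁ k
    rw [ek] at this
    exact this
  have hφ₂ : ∀ x : P, φ x ∈ m.U₂ := by
    intro x
    obtain ⟨k, -, ek⟩ := hmem x
    have := m.hu₂ k
    rw [ek] at this
    exact this
  set f₁' : P →* Ω := m.f₁.comp (Subgroup.inclusion hP₁) with hf₁'
  have hf₁'mem : f₁' ∈ F.Hom P := restrict_mem F m.h₁ hP₁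
  obtain ⟨ψ, hψ, hψ1, hψ2, hψ3⟩ := exists_inverse F hf₁'mem (Q := f₁'.range) rfl
  obtain ⟨χ₁, hχ₁, eχ₁⟩ := exists_comp F hψ hφ hψ2
  have hχv : ∀ y : f₁'.range, χ₁ y ∈ m.U₂ := by
    intro y
    rw [eχ₁]
    exact hφ₂ _
  obtain ⟨χ₂, hχ₂, eχ₂⟩ := exists_comp F hχ₁ m.h₂ hχv
  have hmv : K.map v = graph χ₂ := by
    ext ⟨a, b⟩
    constructor
    · rintro ⟨k, hk, ek⟩
      obtain ⟨h1, h2⟩ := hku k hk
      have ha : ((a : S) : Ω) = f₁' ⟨_, h1⟩ := by
        have e1 : (v k).1 = a := congrArg Prod.fst ek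
        rw [← e1, ← m.hv₁ k]
        rfl
      have hb : ((b : S) : Ω) = m.f₂ ⟨(u k).2, m.hu₂ k⟩ := by
        have e1 : (v k).2 = b := congrArg Prod.snd ek
        rw [← e1, m.hv₂ k]
      have hr : ((a : S) : Ω) ∈ f₁'.range := ⟨_, ha.symm⟩
      refine ⟨hr, ?_⟩
      show χ₂ ⟨a, hr⟩ = b
      rw [eχ₂, hb]
      congr 1
      apply Subtype.ext
      show χ₁ ⟨a, hr⟩ = _
      rw [eχ₁]
      have e3 : (⟨ψ ⟨a, hr⟩, hψ2 ⟨a, hr⟩⟩ : P) = ⟨_, h1⟩ := by
        apply Subtype.ext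
        have := hψ1 ⟨_, h1⟩ (by rw [← ha]; exact hr)
        rw [← this]
        exact congrArg ψ (Subtype.ext ha)
      rw [e3, h2]
    · rintro ⟨ha, hb⟩
      obtain ⟨x, hx⟩ := ha
      obtain ⟨k, hk, ek⟩ := hmem x
      refine ⟨k, hk, ?_⟩
      have hk1 : (((u k).1 : S) : Ω) = x := by rw [ek]; rfl
      have hk2 : (((u k).2 : S) : Ω) = φ x := by rw [ek]; rfl
      apply Prod.ext
      · apply Subtype.ext
        rw [← m.hv₁ k]
        show _ = ((a : S) : Ω)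
        rw [← hx]
        show _ = m.f₁ _
        congr 1
        exact Subtype.ext hk1
      · apply Subtype.ext
        rw [← m.hv₂ k]
        show _ = ((b : S) : Ω)
        have hb' : χ₂ ⟨a, ⟨x, hx⟩⟩ = b := hb
        rw [← hb', eχ₂]
        congr 1
        apply Subtype.ext
        show _ = χ₁ _
        rw [eχ₁, hk2]
        congr 1
        apply Subtype.ext
        have := hψ1 x (by rw [hx]; exact ⟨x, hx⟩)
        rw [← this]
        exact congrArg ψ (Subtype.ext hx)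
  refine ⟨⟨_, χ₂, hχ₂, hmv⟩, ?_⟩
  show F.IsConj (dom (K.map u)) (dom (K.map v))
  rw [e, hmv, dom_graph hφ, dom_graph hχ₂]
  exact ⟨f₁', hf₁'mem, rfl⟩

/-- The reverse pair. -/
theorem MapPair.exists_symm (m : MapPair F u v) : Nonempty (MapPair F v u) := by
  obtain ⟨ψ₁, hψ₁, h₁1, -⟩ := exists_inverse F m.h₁ (Q := m.f₁.range) rfl
  obtain ⟨ψ₂, hψ₂, h₂1, -⟩ := exists_inverse F m.h₂ (Q := m.f₂.range) rfl
  have hr₁ : ∀ h, (((v h).1 : S) : Ω) ∈ m.f₁.range := fun h => ⟨_, m.hv₁ h⟩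
  have hr₂ : ∀ h, (((v h).2 : S) : Ω) ∈ m.f₂.range := fun h => ⟨_, m.hv₂ h⟩
  refine ⟨⟨m.f₁.range, m.f₂.range, ψ₁, ψ₂, hψ₁, hψ₂, hr₁, hr₂, ?_, ?_⟩⟩
  · intro h
    have := h₁1 ⟨_, m.hu₁ h⟩ ⟨_, rfl⟩
    rw [← this]
    exact congrArg ψ₁ (Subtype.ext (m.hv₁ h).symm)
  · intro h
    have := h₂1 ⟨_, m.hu₂ h⟩ ⟨_, rfl⟩
    rw [← this]
    exact congrArg ψ₂ (Subtype.ext (m.hv₂ h).symm)

end Pair

section Good

/-- Stabilizers are graphs, and marks depend only on the class above a given order. -/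
def GoodAbove (F : FusionSystem S) (X : Type*) [MulAction (↥S × ↥S) X] (k : ℕ) : Prop :=
  (∀ x : X, IsFG F (stabilizer (↥S × ↥S) x)) ∧
    ∀ D E : Subgroup (↥S × ↥S), IsFG F D → IsFG F E → k < Nat.card D → Rel F D E → mark D X = mark E X

theorem mark_eq_zero {H : Type*} [Group H] {K : Subgroup H} {X : Type*} [MulAction H X]
    (h : ∀ x : X, ¬ K ≤ stabilizer H x) : mark K X = 0 := by
  by_contra hc
  obtain ⟨x, hx⟩ := exists_of_mark_pos (Nat.pos_of_ne_zero hc)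
  exact h x hx

variable {H : Type w} [Group H] {F : FusionSystem S} {u v : H →* ↥S × ↥S}

theorem mark_map_eq {X : Type*} [MulAction (↥S × ↥S) X] {k : ℕ} (hX : GoodAbove F X k)
    (m : MapPair F u v) (K : Subgroup H) (hk : k < Nat.card (K.map u)) :
    mark (K.map u) X = mark (K.map v) X := by
  by_cases hK : IsFG F (K.map u)
  · obtain ⟨h1, h2⟩ := m.isFG K hK
    exact hX.2 _ _ hK h1 hk h2
  · rw [mark_eq_zero (K := K.map u), mark_eq_zero (K := K.map v)]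
    · intro x hx
      obtain ⟨m'⟩ := m.exists_symm
      exact hK (m'.isFG K (isFG_of_le (hX.1 x) hx)).1
    · intro x hx
      exact hK (isFG_of_le (hX.1 x) hx)

end Good

section Twist

variable {H : Type w} [Group H] {G : Type v} [Group G]

/-- A set with action through a homomorphism. -/
def Tw (_u : H →* G) (X : Type*) := X

noncomputable instance (u : H →* G) (X : Type*) [MulAction G X] : MulAction H (Tw u X) :=
  MulAction.compHom X u

theorem mark_tw (u : H →* G) {X : Type*} [MulAction G X] (K : Subgroup H) :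
    mark K (Tw u X) = mark (K.map u) X := by
  have : fix K (Tw u X) = (fix (K.map u) X : Set X) := by
    ext x
    constructor
    · rintro h _ ⟨g, hg, rfl⟩
      exact h g hg
    · intro h g hg
      exact h _ ⟨g, hg, rfl⟩
  unfold mark
  rw [this]
  rfl

/-- The fixed points of a normal subgroup, as an invariant set. -/
def fixSub (D : Subgroup H) [hD : D.Normal] (Z : Type*) [MulAction H Z] : SubMulAction H Z where
  carrier := fix D Z
  smul_mem' := by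
    intro h z hz d hd
    have h1 : h⁻¹ * d * h ∈ D := by
      have := hD.conj_mem d hd h⁻¹
      rwa [inv_inv] at this
    have h2 := hz _ h1
    calc d • h • z = h • ((h⁻¹ * d * h) • z) := by
          rw [mul_smul, mul_smul, smul_inv_smul]
      _ = h • z := by rw [h2]

theorem cong_uv [Finite H] (u v : H →* G) (D : Subgroup H) [hD : D.Normal] {X : Type w} [MulAction G X] [Finite X]
    (hm : ∀ K : Subgroup H, D ≤ K → K ≠ D → mark (K.map u) X = mark (K.map v) X) :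
    ((Nat.card (H ⧸ D) : ℕ) : ℤ) ∣ (mark (D.map u) X : ℤ) - (mark (D.map v) X : ℤ) := by
  haveI : Finite (Tw u X) := ‹Finite X›
  haveI : Finite (Tw v X) := ‹Finite X›
  have hmk : ∀ (Z : Type w) [MulAction H Z] (K : Subgroup H), D ≤ K → mark K (fixSub D Z) = mark K Z := by
    intro Z _ K hK
    rw [mark_sub]
    have : fix K Z ∩ (fixSub D Z : Set Z) = fix K Z := by
      refine Set.inter_eq_left.2 fun z hz d hd => hz d (hK hd)
      
    rw [this]
    rfl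
  have hcard : ∀ (Z : Type w) [MulAction H Z], Nat.card (fixSub D Z) = mark D Z := fun Z _ =>
    Nat.card_coe_set_eq (fix D Z)
  have := cong_of_marks D (A := fixSub D (Tw u X)) (B := fixSub D (Tw v X))
    (fun a d hd => by
      rw [mem_stabilizer_iff]
      exact Subtype.ext (a.2 d hd))
    (fun a d hd => by
      rw [mem_stabilizer_iff]
      exact Subtype.ext (a.2 d hd))
    (fun K hK hne => by
      rw [hmk _ K hK, hmk _ K hK, mark_tw, mark_tw]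
      exact hm K hK hne)
  rwa [hcard, hcard, mark_tw, mark_tw] at this

end Twist

end Cfsg.Agent.Lib.BisetGraph
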