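import Mathlib
import Cfsg.Agent.Lib.BisetGraph

/-! Congruences between the marks of a graph and of the identity of a fully normalized subgroup. -/

set_option autoImplicit false
set_option linter.all false

namespace Cfsg.Agent.Lib.BisetCong

open Cfsg Cfsg.FusionSystem MulAction Cfsg.Agent.Lib.BisetGSet Cfsg.Agent.Lib.FusionBasic
  Cfsg.Agent.Lib.BisetGraph Cfsg.Agent.Lib.FusionSat

universe u v

section General

variable {G : Type u} [Group G]

/-- The conjugate of a subgroup. -/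
abbrev cj (g : G) (D : Subgroup G) : Subgroup G := D.map (MulAut.conj g).toMonoidHom

theorem mem_cj {g x : G} {D : Subgroup G} : x ∈ cj g D ↔ g⁻¹ * x * g ∈ D := by
  constructor
  · rintro ⟨d, hd, rfl⟩
    have e : g⁻¹ * (MulAut.conj g).toMonoidHom d * g = d := by
      show g⁻¹ * (g * d * g⁻¹) * g = d
      group
    rwa [e]
  · intro h
    refine ⟨_, h, ?_⟩
    show g * (g⁻¹ * x * g) * g⁻¹ = x
    group

theorem card_cj (g : G) (D : Subgroup G) : Nat.card (cj g D) = Nat.card D :=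
  Nat.card_congr (D.equivMapOfInjective _ (MulAut.conj g).injective).symm.toEquiv

theorem mark_cj (g : G) (D : Subgroup G) (X : Type*) [MulAction G X] : mark (cj g D) X = mark D X := by
  have himg : fix (cj g D) X = (fun x => g • x) '' fix D X := by
    ext y
    constructor
    · intro hy
      refine ⟨g⁻¹ • y, fun d hd => ?_, smul_inv_smul g y⟩
      have h1 : g * d * g⁻¹ ∈ cj g D := ⟨d, hd, rfl⟩
      have h2 := hy _ h1
      rw [mul_smul, mul_smul] at h2
      have e3 : d • g⁻¹ • y = g⁻¹ • (g • d • g⁻¹ • y) := by rw [inv_smul_smul]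
      rw [e3, h2]
    · rintro ⟨x, hx, rfl⟩ c hc
      have h1 := mem_cj.1 hc
      have h2 := hx _ h1
      rw [mul_smul, mul_smul] at h2
      show c • g • x = g • x
      calc c • g • x = g • (g⁻¹ • c • g • x) := by rw [smul_inv_smul]
        _ = g • x := by rw [h2]
  unfold mark
  rw [himg, Set.ncard_image_of_injective _ (MulAction.injective g)]

theorem stabilizer_quotient_eq (D : Subgroup G) (q : G ⧸ D) : ∃ g : G, stabilizer G q = cj g D := by
  obtain ⟨g, rfl⟩ := QuotientGroup.mk_surjective q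
  refine ⟨g, ?_⟩
  have e : ((g : G) : G ⧸ D) = g • ((1 : G) : G ⧸ D) := by
    show _ = ((g * 1 : G) : G ⧸ D)
    rw [mul_one]
  rw [e, stabilizer_smul_eq_stabilizer_map_conj, stabilizer_quotient]

/-- Fixed points of `D` on `G / D`. -/
noncomputable def nn (D : Subgroup G) : ℕ := mark D (G ⧸ D)

theorem nn_pos [Finite G] (D : Subgroup G) : 0 < nn D := by
  refine mark_pos (x := ((1 : G) : G ⧸ D)) ?_
  rw [stabilizer_quotient]

theorem nn_le [Finite G] (D : Subgroup G) : nn D ≤ Nat.card G := by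
  have h1 : nn D ≤ Nat.card (G ⧸ D) := by
    show (fix D (G ⧸ D)).ncard ≤ _
    have := Set.ncard_le_card (fix D (G ⧸ D))
    exact this
  have h2 : Nat.card (G ⧸ D) ≤ Nat.card G :=
    Nat.card_le_card_of_surjective _ (QuotientGroup.mk_surjective)
  omega

theorem nn_eq [Finite G] (D : Subgroup G) :
    nn D = Nat.card (↥(Subgroup.normalizer (D : Set G)) ⧸ D.subgroupOf (Subgroup.normalizer (D : Set G))) := by
  set N := Subgroup.normalizer (D : Set G) with hN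
  have hle : D ≤ N := Subgroup.le_normalizer
  let e : N ⧸ D.subgroupOf N → G ⧸ D := fun q => Quotient.liftOn' q (fun n => ((n : G) : G ⧸ D)) (fun a b hab => by
    rw [QuotientGroup.leftRel_apply, Subgroup.mem_subgroupOf] at hab
    exact QuotientGroup.eq.2 hab)
  have einj : Function.Injective e := by
    intro x y hxy
    obtain ⟨a, rfl⟩ := QuotientGroup.mk_surjective x
    obtain ⟨b, rfl⟩ := QuotientGroup.mk_surjective y
    have h1 : ((a : G) : G ⧸ D) = ((b : G) : G ⧸ D) := hxy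
    exact QuotientGroup.eq.2 (Subgroup.mem_subgroupOf.2 (QuotientGroup.eq.1 h1))
  have hr : fix D (G ⧸ D) = Set.range e := by
    ext q
    obtain ⟨g, rfl⟩ := QuotientGroup.mk_surjective q
    constructor
    · intro hq
      have hd : ∀ d ∈ D, g⁻¹ * d * g ∈ D := by
        intro d hd
        have h1 := hq d hd
        have h2 : ((d * g : G) : G ⧸ D) = ((g : G) : G ⧸ D) := h1
        rw [QuotientGroup.eq] at h2
        have e2 : (d * g)⁻¹ * g = g⁻¹ * d⁻¹ * g := by group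
        rw [e2] at h2
        have h3 := D.inv_mem h2
        have e3 : (g⁻¹ * d⁻¹ * g)⁻¹ = g⁻¹ * d * g := by group
        rwa [e3] at h3
      have hgN : g⁻¹ ∈ N := by
        rw [hN, Subgroup.mem_normalizer_iff]
        intro d
        constructor
        · intro hd1
          have := hd d hd1
          rwa [inv_inv]
        · intro hd1
          have hd2 : g⁻¹ * d * g ∈ D := by
            rwa [inv_inv] at hd1
          -- use finiteness
          let f : D → D := fun c => ⟨g⁻¹ * c * g, hd c c.2⟩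
          have hinj : Function.Injective f := by
            intro a b hab
            have := congrArg Subtype.val hab
            exact Subtype.ext (by simpa [f] using this)
          obtain ⟨c, hc⟩ := (Finite.injective_iff_surjective.1 hinj) ⟨_, hd2⟩
          have h3 : g⁻¹ * (c : G) * g = g⁻¹ * d * g := congrArg Subtype.val hc
          have h4 : (c : G) = d := by simpa using h3
          rw [← h4]
          exact c.2
      have hgN' : g ∈ N := by simpa using N.inv_mem hgN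
      exact ⟨((⟨g, hgN'⟩ : N) : N ⧸ D.subgroupOf N), rfl⟩
    · rintro ⟨q', hq'⟩ d hd
      obtain ⟨n, rfl⟩ := QuotientGroup.mk_surjective q'
      have hq2 : ((n : G) : G ⧸ D) = ((g : G) : G ⧸ D) := hq'
      rw [← hq2]
      show ((d * n : G) : G ⧸ D) = ((n : G) : G ⧸ D)
      rw [QuotientGroup.eq]
      have e2 : (d * (n : G))⁻¹ * n = (n : G)⁻¹ * d⁻¹ * n := by group
      rw [e2]
      have h1 : (n : G)⁻¹ ∈ N := N.inv_mem n.2
      have h2 := (Subgroup.mem_normalizer_iff.1 h1 d⁻¹).1 (D.inv_mem hd)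
      simpa using h2
  show (fix D (G ⧸ D)).ncard = _
  rw [hr, ← Nat.card_coe_set_eq]
  exact Nat.card_range_of_injective einj

end General

section Main

variable {Ω : Type u} [Group Ω] {S : Subgroup Ω} {p : ℕ} [Fact p.Prime]

/-- The comparison homomorphism on the normalizer of a graph. -/
theorem exists_lambda [Finite S] (hS : IsPGroup p S) {F : FusionSystem S} (hF : F.IsSaturated p)
    {P P₀ : Subgroup Ω} {θ : P →* Ω} (hθ : θ ∈ F.Hom P) (hP₀ : F.IsFullyNormalized P₀)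
    (hconj : F.IsConj P P₀) :
    ∃ v : ↥(Subgroup.normalizer ((graph θ : Subgroup (↥S × ↥S)) : Set (↥S × ↥S))) →* ↥S × ↥S,
      Nonempty (MapPair F (Subgroup.normalizer ((graph θ : Subgroup (↥S × ↥S)) : Set (↥S × ↥S))).subtype v) ∧
      (((graph θ : Subgroup (↥S × ↥S))).subgroupOf
        (Subgroup.normalizer ((graph θ : Subgroup (↥S × ↥S)) : Set (↥S × ↥S)))).map v =
        (graph P₀.subtype : Subgroup (↥S × ↥S)) := by
  classical
  set D : Subgroup (↥S × ↥S) := graph θ with hD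
  set H := Subgroup.normalizer (D : Set (↥S × ↥S)) with hH
  have hPS : P ≤ S := source_le F hθ
  obtain ⟨αt, hαt, hα1, hα2, hα3⟩ := IsSaturated.exists_normalizer_map hS hF hP₀ hconj
  obtain ⟨ψ, hψ, hψ1, hψ2, hψ3⟩ := exists_inverse F hθ (Q := θ.range) rfl
  have hPN : P ≤ normalizerIn S P := fun x hx =>
    ⟨hPS hx, Subgroup.le_normalizer hx⟩
  obtain ⟨β, hβ, eβ⟩ := exists_comp F hψ hαt (fun y => hPN (hψ2 y))
  have hβr : β.range = P₀ := by
    ext y
    constructor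
    · rintro ⟨z, rfl⟩
      rw [eβ]
      exact hα2 _ (hψ2 z) _
    · intro hy
      obtain ⟨x, hx, hN, e⟩ := hα3 y hy
      have hm : θ ⟨x, hx⟩ ∈ θ.range := ⟨_, rfl⟩
      refine ⟨⟨θ ⟨x, hx⟩, hm⟩, ?_⟩
      rw [eβ, ← e]
      exact congrArg αt (Subtype.ext (hψ1 ⟨x, hx⟩ hm))
  obtain ⟨-, hrec⟩ := (IsSaturated.fullyNormalized hS hF hP₀).2
  obtain ⟨βt, hβt, eβt⟩ := hrec _ β hβ hβr
  -- conjugation by elements of the normalizer
  have hg1 : ∀ h ∈ H, ∀ x : P, ((h.1 : S) : Ω) * x * ((h.1 : S) : Ω)⁻¹ ∈ P := by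
    intro h hh x
    have h1 := (Subgroup.mem_normalizer_iff.1 hh (pt hθ x)).1 (pt_mem hθ x)
    exact h1.1
  have hg2 : ∀ h ∈ H, ∀ x : P, ∀ hx : ((h.1 : S) : Ω) * x * ((h.1 : S) : Ω)⁻¹ ∈ P,
      θ ⟨((h.1 : S) : Ω) * x * ((h.1 : S) : Ω)⁻¹, hx⟩ = ((h.2 : S) : Ω) * θ x * ((h.2 : S) : Ω)⁻¹ := by
    intro h hh x hx
    have h1 := (Subgroup.mem_normalizer_iff.1 hh (pt hθ x)).1 (pt_mem hθ x)
    obtain ⟨h2, h3⟩ := h1
    exact h3
  have hfst : ∀ h ∈ H, ((h.1 : S) : Ω) ∈ normalizerIn S P := by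
    intro h hh
    refine ⟨h.1.2, Subgroup.mem_normalizer_iff.2 fun x => ⟨fun hx => hg1 h hh ⟨x, hx⟩, fun hx => ?_⟩⟩
    have h1 := hg1 h⁻¹ (H.inv_mem hh) ⟨_, hx⟩
    have e : (((h⁻¹).1 : S) : Ω) * (((h.1 : S) : Ω) * x * ((h.1 : S) : Ω)⁻¹) * (((h⁻¹).1 : S) : Ω)⁻¹ = x := by
      show ((h.1 : S) : Ω)⁻¹ * (((h.1 : S) : Ω) * x * ((h.1 : S) : Ω)⁻¹) * ((h.1 : S) : Ω)⁻¹⁻¹ = x
      group
    rwa [e] at h1
  have hsnd : ∀ h ∈ H, ((h.2 : S) : Ω) ∈ extender S θ.range β := by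
    intro h hh
    have hhalf : ∀ h ∈ H, ∀ y ∈ θ.range, ((h.2 : S) : Ω) * y * ((h.2 : S) : Ω)⁻¹ ∈ θ.range := by
      rintro h hh _ ⟨x, rfl⟩
      exact ⟨_, hg2 h hh x (hg1 h hh x)⟩
    refine mem_extender_iff.2 ⟨h.2.2, Subgroup.mem_normalizer_iff.2 fun y =>
      ⟨fun hy => hhalf h hh y hy, fun hy => ?_⟩, ?_⟩
    · have h1 := hhalf h⁻¹ (H.inv_mem hh) _ hy
      have e : (((h⁻¹).2 : S) : Ω) * (((h.2 : S) : Ω) * y * ((h.2 : S) : Ω)⁻¹) * (((h⁻¹).2 : S) : Ω)⁻¹ = y := by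
        show ((h.2 : S) : Ω)⁻¹ * (((h.2 : S) : Ω) * y * ((h.2 : S) : Ω)⁻¹) * ((h.2 : S) : Ω)⁻¹⁻¹ = y
        group
      rwa [e] at h1
    · have hn := hfst h hh
      refine ⟨αt ⟨_, hn⟩, map_mem_S F hαt _, ?_⟩
      rintro ⟨_, x, rfl⟩ hx
      have hax := hg1 h hh x
      have e1 : (⟨((h.2 : S) : Ω) * θ x * ((h.2 : S) : Ω)⁻¹, hx⟩ : θ.range) =
          ⟨θ ⟨_, hax⟩, ⟨_, rfl⟩⟩ := Subtype.ext (hg2 h hh x hax).symm
      show β ⟨((h.2 : S) : Ω) * θ x * ((h.2 : S) : Ω)⁻¹, hx⟩ = _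
      rw [e1, eβ, eβ]
      have e2 : (⟨ψ ⟨θ ⟨_, hax⟩, ⟨_, rfl⟩⟩, hPN (hψ2 _)⟩ : normalizerIn S P) =
          ⟨_, hn⟩ * ⟨x, hPN x.2⟩ * (⟨_, hn⟩)⁻¹ := by
        apply Subtype.ext
        exact hψ1 ⟨_, hax⟩ ⟨_, rfl⟩
      have e3 : (⟨ψ ⟨θ x, ⟨x, rfl⟩⟩, hPN (hψ2 _)⟩ : normalizerIn S P) = ⟨x, hPN x.2⟩ := by
        apply Subtype.ext
        exact hψ1 x ⟨_, rfl⟩
      rw [e2, e3, map_mul, map_mul, map_inv]
  let v : ↥H →* ↥S × ↥S :=
    { toFun := fun h => (⟨αt ⟨_, hfst h.1 h.2⟩, map_mem_S F hαt _⟩, ⟨βt ⟨_, hsnd h.1 h.2⟩, map_mem_S F hβt _⟩)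
      map_one' := by
        apply Prod.ext
        · apply Subtype.ext
          show αt ⟨_, hfst _ (H.one_mem)⟩ = 1
          exact map_one αt
        · apply Subtype.ext
          show βt ⟨_, hsnd _ (H.one_mem)⟩ = 1
          exact map_one βt
      map_mul' := by
        intro a b
        apply Prod.ext
        · apply Subtype.ext
          show αt (⟨_, hfst a.1 a.2⟩ * ⟨_, hfst b.1 b.2⟩) = αt _ * αt _
          exact map_mul αt _ _
        · apply Subtype.ext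
          show βt (⟨_, hsnd a.1 a.2⟩ * ⟨_, hsnd b.1 b.2⟩) = βt _ * βt _
          exact map_mul βt _ _ }
  refine ⟨v, ⟨⟨_, _, αt, βt, hαt, hβt, fun h => hfst h.1 h.2, fun h => hsnd h.1 h.2, fun h => rfl, fun h => rfl⟩⟩, ?_⟩
  ext ⟨c, d⟩
  constructor
  · rintro ⟨⟨h, hh⟩, hhD, e⟩
    have hhD' : h ∈ D := hhD
    obtain ⟨h1, h2⟩ := hhD'
    have ec : (c : Ω) = αt ⟨_, hfst h hh⟩ := (congrArg (fun w => ((w.1 : S) : Ω)) e).symm
    have ed : (d : Ω) = βt ⟨_, hsnd h hh⟩ := (congrArg (fun w => ((w.2 : S) : Ω)) e).symm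
    have hr : ((h.2 : S) : Ω) ∈ θ.range := ⟨_, h2⟩
    have e4 : βt ⟨_, hsnd h hh⟩ = αt ⟨_, hfst h hh⟩ := by
      rw [eβt _ hr, eβ]
      apply congrArg αt
      apply Subtype.ext
      show ψ _ = _
      have := hψ1 ⟨_, h1⟩ ⟨_, rfl⟩
      rw [← this]
      exact congrArg ψ (Subtype.ext h2.symm)
    have hcP : (c : Ω) ∈ P₀ := by
      rw [ec]
      exact hα2 _ h1 _
    refine ⟨hcP, ?_⟩
    show (c : Ω) = d
    rw [ec, ed, e4]
  · rintro ⟨hc, hd⟩
    have hcd : (c : Ω) = d := hd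
    obtain ⟨x, hx, hN, e⟩ := hα3 _ hc
    have hh : pt hθ ⟨x, hx⟩ ∈ H := Subgroup.le_normalizer (pt_mem hθ ⟨x, hx⟩)
    refine ⟨⟨pt hθ ⟨x, hx⟩, hh⟩, pt_mem hθ ⟨x, hx⟩, ?_⟩
    apply Prod.ext
    · apply Subtype.ext
      show αt ⟨x, _⟩ = c
      exact e
    · apply Subtype.ext
      show βt _ = d
      rw [← hcd, ← e]
      have hr : (((pt hθ ⟨x, hx⟩).2 : S) : Ω) ∈ θ.range := ⟨⟨x, hx⟩, rfl⟩
      rw [eβt _ hr, eβ]
      apply congrArg αt
      apply Subtype.ext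
      exact hψ1 ⟨x, hx⟩ ⟨_, rfl⟩

theorem cong_aux [Finite S] {F : FusionSystem S}
    {X : Type u} [MulAction (↥S × ↥S) X] [Finite X] {k : ℕ} (hX : GoodAbove F X k)
    (D : Subgroup (↥S × ↥S)) (v : ↥(Subgroup.normalizer (D : Set (↥S × ↥S))) →* ↥S × ↥S)
    (m : MapPair F (Subgroup.normalizer (D : Set (↥S × ↥S))).subtype v) (hk : k ≤ Nat.card D) :
    ((nn D : ℕ) : ℤ) ∣ (mark D X : ℤ) - (mark ((D.subgroupOf (Subgroup.normalizer (D : Set (↥S × ↥S)))).map v) X : ℤ) := by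
  have hle : D ≤ (Subgroup.normalizer (D : Set (↥S × ↥S))) := Subgroup.le_normalizer
  have hsub : (D.subgroupOf (Subgroup.normalizer (D : Set (↥S × ↥S)))).map (Subgroup.normalizer (D : Set (↥S × ↥S))).subtype = D := by
    rw [Subgroup.map_subgroupOf_eq_of_le hle]
  haveI hnorm : (D.subgroupOf (Subgroup.normalizer (D : Set (↥S × ↥S)))).Normal := by
    refine ⟨fun n hn g => ?_⟩
    rw [Subgroup.mem_subgroupOf] at hn ⊢
    exact (Subgroup.mem_normalizer_iff.1 g.2 n).1 hn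
  haveI : Finite (↥S × ↥S) := inferInstance
  have := cong_uv (Subgroup.normalizer (D : Set (↥S × ↥S))).subtype v (D.subgroupOf (Subgroup.normalizer (D : Set (↥S × ↥S)))) (X := X) (fun K hK hne => by
    refine mark_map_eq hX m K ?_
    have h1 : Nat.card (K.map (Subgroup.normalizer (D : Set (↥S × ↥S))).subtype) = Nat.card K :=
      Nat.card_congr (K.equivMapOfInjective _ (Subgroup.normalizer (D : Set (↥S × ↥S))).subtype_injective).symm.toEquiv
    have h2 : Nat.card (D.subgroupOf (Subgroup.normalizer (D : Set (↥S × ↥S)))) = Nat.card D := by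
      conv_rhs => rw [← hsub]
      exact Nat.card_congr (((D.subgroupOf (Subgroup.normalizer (D : Set (↥S × ↥S)))).equivMapOfInjective _ (Subgroup.normalizer (D : Set (↥S × ↥S))).subtype_injective)).toEquiv
    have h3 : Nat.card (D.subgroupOf (Subgroup.normalizer (D : Set (↥S × ↥S)))) < Nat.card K := by
      refine lt_of_le_of_ne (Subgroup.card_le_of_le hK) fun e => hne ?_
      exact (Subgroup.eq_of_le_of_card_ge hK e.ge).symm
    omega)
  rw [hsub, ← nn_eq] at this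
  exact this

theorem cong_step [Finite S] (hS : IsPGroup p S) {F : FusionSystem S} (hF : F.IsSaturated p)
    {X : Type u} [MulAction (↥S × ↥S) X] [Finite X] {k : ℕ} (hX : GoodAbove F X k)
    {P P₀ : Subgroup Ω} {θ : P →* Ω} (hθ : θ ∈ F.Hom P) (hP₀ : F.IsFullyNormalized P₀)
    (hconj : F.IsConj P P₀) (hk : k ≤ Nat.card (graph θ : Subgroup (↥S × ↥S))) :
    ((nn (graph θ : Subgroup (↥S × ↥S)) : ℕ) : ℤ) ∣
      (mark (graph θ : Subgroup (↥S × ↥S)) X : ℤ) - (mark (graph P₀.subtype : Subgroup (↥S × ↥S)) X : ℤ) := by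
  obtain ⟨v, ⟨m⟩, hv⟩ := exists_lambda hS hF hθ hP₀ hconj
  have := cong_aux hX _ v m hk
  rwa [hv] at this

end Main

end Cfsg.Agent.Lib.BisetCong
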