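import Mathlib
import Cfsg.Agent.Lib.BisetCong

/-! Existence of a stable set with a free right action, for a saturated system. -/

set_option autoImplicit false
set_option linter.all false

namespace Cfsg.Agent.Lib.BisetExist

open Cfsg Cfsg.FusionSystem MulAction Cfsg.Agent.Lib.BisetGSet Cfsg.Agent.Lib.FusionBasic
  Cfsg.Agent.Lib.BisetGraph Cfsg.Agent.Lib.FusionSat Cfsg.Agent.Lib.BisetCong Cfsg.Agent.Lib.FusionAut

universe u

section Add

variable {G : Type u} [Group G]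

theorem mark_sum (K : Subgroup G) (X Y : Type u) [MulAction G X] [MulAction G Y] [Finite X] [Finite Y] :
    mark K (X ⊕ Y) = mark K X + mark K Y := by
  have h : fix K (X ⊕ Y) = Sum.inl '' fix K X ∪ Sum.inr '' fix K Y := by
    ext z
    constructor
    · intro hz
      rcases z with x | y
      · exact Or.inl ⟨x, fun g hg => Sum.inl_injective (hz g hg), rfl⟩
      · exact Or.inr ⟨y, fun g hg => Sum.inr_injective (hz g hg), rfl⟩
    · rintro (⟨x, hx, rfl⟩ | ⟨y, hy, rfl⟩) g hg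
      · exact congrArg Sum.inl (hx g hg)
      · exact congrArg Sum.inr (hy g hg)
  unfold mark
  rw [h, Set.ncard_union_eq _ (Set.toFinite _) (Set.toFinite _),
    Set.ncard_image_of_injective _ Sum.inl_injective, Set.ncard_image_of_injective _ Sum.inr_injective]
  refine Set.disjoint_left.2 ?_
  rintro _ ⟨x, _, rfl⟩ ⟨y, _, hy⟩
  cases hy

theorem stab_inl {X Y : Type u} [MulAction G X] [MulAction G Y] (x : X) :
    stabilizer G (Sum.inl x : X ⊕ Y) = stabilizer G x := by
  ext g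
  simp only [mem_stabilizer_iff]
  exact ⟨fun h => Sum.inl_injective h, fun h => congrArg Sum.inl h⟩

theorem stab_inr {X Y : Type u} [MulAction G X] [MulAction G Y] (y : Y) :
    stabilizer G (Sum.inr y : X ⊕ Y) = stabilizer G y := by
  ext g
  simp only [mem_stabilizer_iff]
  exact ⟨fun h => Sum.inr_injective h, fun h => congrArg Sum.inr h⟩

theorem mark_congr {X Y : Type*} [MulAction G X] [MulAction G Y] (f : X ≃ Y)
    (hf : ∀ (h : G) (x : X), f (h • x) = h • f x) (K : Subgroup G) : mark K X = mark K Y := by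
  have h : fix K Y = f '' fix K X := by
    ext y
    constructor
    · intro hy
      refine ⟨f.symm y, fun g hg => f.injective ?_, by simp⟩
      rw [hf, Equiv.apply_symm_apply, hy g hg]
    · rintro ⟨x, hx, rfl⟩ g hg
      rw [← hf, hx g hg]
  unfold mark
  rw [h, Set.ncard_image_of_injective _ f.injective]

theorem mark_quot_cj (g : G) (D K : Subgroup G) : mark K (G ⧸ cj g D) = mark K (G ⧸ D) := by
  let f : G ⧸ D → G ⧸ cj g D := fun q => Quotient.liftOn' q (fun x => ((x * g⁻¹ : G) : G ⧸ cj g D))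
    (fun a b hab => by
      rw [QuotientGroup.leftRel_apply] at hab
      refine QuotientGroup.eq.2 (mem_cj.2 ?_)
      have e : g⁻¹ * ((a * g⁻¹)⁻¹ * (b * g⁻¹)) * g = a⁻¹ * b := by group
      rwa [e])
  have hf : ∀ x : G, f (x : G ⧸ D) = ((x * g⁻¹ : G) : G ⧸ cj g D) := fun _ => rfl
  have hinj : Function.Injective f := by
    intro x y hxy
    obtain ⟨a, rfl⟩ := QuotientGroup.mk_surjective x
    obtain ⟨b, rfl⟩ := QuotientGroup.mk_surjective y
    rw [hf, hf] at hxy
    have h1 := mem_cj.1 (QuotientGroup.eq.1 hxy)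
    have e : g⁻¹ * ((a * g⁻¹)⁻¹ * (b * g⁻¹)) * g = a⁻¹ * b := by group
    rw [e] at h1
    exact QuotientGroup.eq.2 h1
  have hsurj : Function.Surjective f := by
    intro q
    obtain ⟨a, rfl⟩ := QuotientGroup.mk_surjective q
    refine ⟨((a * g : G) : G ⧸ D), ?_⟩
    rw [hf]
    congr 1
    group
  refine (mark_congr (Equiv.ofBijective f ⟨hinj, hsurj⟩) ?_ K).symm
  intro h x
  obtain ⟨a, rfl⟩ := QuotientGroup.mk_surjective x
  show f ((h * a : G) : G ⧸ D) = h • f (a : G ⧸ D)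
  rw [hf, hf]
  show _ = ((h * (a * g⁻¹) : G) : G ⧸ cj g D)
  rw [mul_assoc]

theorem nn_cj (g : G) (D : Subgroup G) : nn (cj g D) = nn D := by
  unfold nn
  rw [mark_quot_cj, mark_cj]

theorem mark_quot_zero_of_lt [Finite G] {D E : Subgroup G} (h : Nat.card D < Nat.card E) : mark E (G ⧸ D) = 0 := by
  refine mark_eq_zero fun x hx => ?_
  obtain ⟨g, hg⟩ := stabilizer_quotient_eq D x
  rw [hg] at hx
  have := Subgroup.card_le_of_le hx
  rw [card_cj] at this
  omega

theorem mark_quot_zero_of_not_conj [Finite G] {D E : Subgroup G} (hc : Nat.card E = Nat.card D)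
    (h : ¬ ∃ g, E = cj g D) : mark E (G ⧸ D) = 0 := by
  refine mark_eq_zero fun x hx => ?_
  obtain ⟨g, hg⟩ := stabilizer_quotient_eq D x
  rw [hg] at hx
  refine h ⟨g, Subgroup.eq_of_le_of_card_ge hx ?_⟩
  rw [card_cj, hc]

/-- Adding orbits until the marks reach their targets. -/
theorem add_copies [Finite G] (𝒞 : Set (Subgroup G)) (h𝒞 : 𝒞.Finite) (M : Subgroup G → ℕ) (W k : ℕ)
    (hconj : ∀ D ∈ 𝒞, ∀ g : G, cj g D ∈ 𝒞 ∧ M (cj g D) = M D)
    (hcard : ∀ D ∈ 𝒞, Nat.card D = k) (hW : ∀ D ∈ 𝒞, W ∣ Nat.card (G ⧸ D)) (m : ℕ) :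
    ∀ (X : Type u) [MulAction G X] [Finite X],
      (∑ D ∈ h𝒞.toFinset, (M D - mark D X)) = m →
      (∀ D ∈ 𝒞, mark D X ≤ M D ∧ nn D ∣ M D - mark D X) →
      ∃ (X' : Type u) (_ : MulAction G X') (_ : Finite X'),
        (∀ D ∈ 𝒞, mark D X' = M D) ∧ (∀ E : Subgroup G, k < Nat.card E → mark E X' = mark E X) ∧
        (∀ x' : X', (∃ x : X, stabilizer G x' = stabilizer G x) ∨ ∃ D ∈ 𝒞, ∃ g, stabilizer G x' = cj g D) ∧
        ∃ c, Nat.card X' = Nat.card X + W * c := by
  classical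
  induction m using Nat.strong_induction_on with
  | _ m ih =>
    intro X _ _ hm hg
    by_cases hall : ∀ D ∈ 𝒞, mark D X = M D
    · exact ⟨X, inferInstance, inferInstance, hall, fun _ _ => rfl, fun x' => Or.inl ⟨x', rfl⟩, 0, by simp⟩
    push Not at hall
    obtain ⟨D₀, hD₀, hne⟩ := hall
    obtain ⟨hle₀, hdvd₀⟩ := hg D₀ hD₀
    have hn₀ : 0 < nn D₀ := nn_pos D₀
    have hlt₀ : mark D₀ X < M D₀ := lt_of_le_of_ne hle₀ hne
    have hn₁ : nn D₀ ≤ M D₀ - mark D₀ X := Nat.le_of_dvd (by omega) hdvd₀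
    have hcases : ∀ E ∈ 𝒞, (∃ g, E = cj g D₀) ∨ mark E (G ⧸ D₀) = 0 := by
      intro E hE
      by_cases h : ∃ g, E = cj g D₀
      · exact Or.inl h
      · exact Or.inr (mark_quot_zero_of_not_conj (by rw [hcard E hE, hcard D₀ hD₀]) h)
    have hmark : ∀ E : Subgroup G, mark E (X ⊕ (G ⧸ D₀)) = mark E X + mark E (G ⧸ D₀) := fun E => mark_sum E _ _
    have hnew : ∀ E ∈ 𝒞, mark E (X ⊕ (G ⧸ D₀)) ≤ M E ∧ nn E ∣ M E - mark E (X ⊕ (G ⧸ D₀)) := by
      intro E hE
      rcases hcases E hE with ⟨g, rfl⟩ | h0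
      · rw [hmark, mark_cj, mark_cj, nn_cj, (hconj D₀ hD₀ g).2]
        show mark D₀ X + nn D₀ ≤ M D₀ ∧ nn D₀ ∣ M D₀ - (mark D₀ X + nn D₀)
        refine ⟨by omega, ?_⟩
        have e : M D₀ - (mark D₀ X + nn D₀) = (M D₀ - mark D₀ X) - nn D₀ := by omega
        rw [e]
        exact Nat.dvd_sub hdvd₀ dvd_rfl
      · rw [hmark, h0, add_zero]
        exact hg E hE
    have hlt : (∑ D ∈ h𝒞.toFinset, (M D - mark D (X ⊕ (G ⧸ D₀)))) < m := by
      rw [← hm]
      refine Finset.sum_lt_sum (fun E _ => ?_) ⟨D₀, h𝒞.mem_toFinset.2 hD₀, ?_⟩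
      · rw [hmark]
        omega
      · rw [hmark]
        have : mark D₀ (G ⧸ D₀) = nn D₀ := rfl
        omega
    obtain ⟨X', i1, i2, h1, h2, h3, c, h4⟩ := ih _ hlt (X ⊕ (G ⧸ D₀)) rfl hnew
    refine ⟨X', i1, i2, h1, fun E hE => ?_, fun x' => ?_, ?_⟩
    · rw [h2 E hE, hmark, mark_quot_zero_of_lt (by rw [hcard D₀ hD₀]; exact hE), add_zero]
    · rcases h3 x' with ⟨x | y, e⟩ | h
      · rw [stab_inl] at e
        exact Or.inl ⟨x, e⟩
      · rw [stab_inr] at e
        obtain ⟨g, hg'⟩ := stabilizer_quotient_eq D₀ y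
        exact Or.inr ⟨D₀, hD₀, g, e.trans hg'⟩
      · exact Or.inr h
    · obtain ⟨d, hd⟩ := hW D₀ hD₀
      refine ⟨d + c, ?_⟩
      rw [h4, Nat.card_sum, hd, mul_add, add_assoc]

end Add

section Main

variable {Ω : Type u} [Group Ω] {S : Subgroup Ω} {p : ℕ} [hp : Fact p.Prime]

theorem isFG_cj {F : FusionSystem S} {D : Subgroup (↥S × ↥S)} (hD : IsFG F D) (g : ↥S × ↥S) :
    IsFG F (cj g D) ∧ Rel F D (cj g D) := by
  let m : MapPair F (MonoidHom.id (↥S × ↥S)) (MulAut.conj g).toMonoidHom :=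
    { U₁ := S
      U₂ := S
      f₁ := conjHom S g.1
      f₂ := conjHom S g.2
      h₁ := F.conj_mem le_rfl g.1.2
      h₂ := F.conj_mem le_rfl g.2.2
      hu₁ := fun h => h.1.2
      hu₂ := fun h => h.2.2
      hv₁ := fun h => rfl
      hv₂ := fun h => rfl }
  have := m.isFG D (by rwa [Subgroup.map_id])
  rwa [Subgroup.map_id] at this

/-- A fully normalized representative of the class. -/
noncomputable def pick (F : FusionSystem S) (Q : Subgroup Ω) : Subgroup Ω :=
  Classical.epsilon (fun R => F.IsConj Q R ∧ F.IsFullyNormalized R)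

theorem pick_spec [Finite S] (F : FusionSystem S) {Q : Subgroup Ω} (hQ : Q ≤ S) :
    F.IsConj Q (pick F Q) ∧ F.IsFullyNormalized (pick F Q) :=
  Classical.epsilon_spec (exists_isConj_fullyNormalized F hQ)

theorem pick_eq {F : FusionSystem S} {Q Q' : Subgroup Ω} (h : F.IsConj Q Q') : pick F Q = pick F Q' := by
  unfold pick
  congr 1
  ext R
  exact ⟨fun ⟨a, b⟩ => ⟨isConj_trans F (isConj_symm F h) a, b⟩, fun ⟨a, b⟩ => ⟨isConj_trans F h a, b⟩⟩

/-- Passing from one level to the next one. -/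
theorem step [Finite S] (hS : IsPGroup p S) {F : FusionSystem S} (hF : F.IsSaturated p) {k : ℕ}
    (hk : k + 1 < Nat.card S) (X : Type u) [MulAction (↥S × ↥S) X] [Finite X]
    (hX : GoodAbove F X (k + 1)) :
    ∃ (X' : Type u) (_ : MulAction (↥S × ↥S) X') (_ : Finite X'), GoodAbove F X' k ∧
      ∃ c, Nat.card X' = Nat.card X + (Nat.card S * p) * c := by
  classical
  have hpp : p.Prime := hp.out
  haveI : Finite (Subgroup (↥S × ↥S)) := Finite.of_injective (fun H => (H : Set (↥S × ↥S))) SetLike.coe_injective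
  let 𝒞 : Set (Subgroup (↥S × ↥S)) := {D | IsFG F D ∧ Nat.card D = k + 1}
  let L : ℕ := (Nat.card (↥S × ↥S)).factorial * Nat.card X
  let M : Subgroup (↥S × ↥S) → ℕ := fun D => mark (graph (pick F (dom D)).subtype : Subgroup (↥S × ↥S)) X + L
  have hconj : ∀ D ∈ 𝒞, ∀ g : ↥S × ↥S, cj g D ∈ 𝒞 ∧ M (cj g D) = M D := by
    intro D hD g
    obtain ⟨h1, h2⟩ := isFG_cj hD.1 g
    refine ⟨⟨h1, by rw [card_cj]; exact hD.2⟩, ?_⟩
    show mark (graph (pick F (dom (cj g D))).subtype : Subgroup (↥S × ↥S)) X + L = mark (graph (pick F (dom D)).subtype : Subgroup (↥S × ↥S)) X + L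
    rw [pick_eq (F := F) h2]
  have hW : ∀ D ∈ 𝒞, Nat.card S * p ∣ Nat.card ((↥S × ↥S) ⧸ D) := by
    rintro D ⟨hD, hcD⟩
    have h1 : Nat.card (dom D) ∣ Nat.card S := Subgroup.card_dvd_of_le (dom_le D)
    rw [card_dom_of_isFG hD, hcD] at h1
    obtain ⟨t, ht⟩ := h1
    have ht1 : t ≠ 1 := by
      rintro rfl
      omega
    have hdiv : p ∣ t := by
      have hdt : t ∣ Nat.card S := ⟨k + 1, by rw [ht]; ring⟩
      obtain ⟨n, hn⟩ := IsPGroup.iff_card.mp hS
      rw [hn] at hdt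
      obtain ⟨j, -, rfl⟩ := (Nat.dvd_prime_pow hpp).1 hdt
      have hj : j ≠ 0 := by
        rintro rfl
        exact ht1 (pow_zero p)
      exact dvd_pow_self p hj
    have hl : Nat.card D * Nat.card ((↥S × ↥S) ⧸ D) = Nat.card (↥S × ↥S) := by
      have := Subgroup.card_mul_index D
      rwa [Subgroup.index_eq_card] at this
    rw [Nat.card_prod, hcD, ht] at hl
    have hl2 : (k + 1) * Nat.card ((↥S × ↥S) ⧸ D) = (k + 1) * ((k + 1) * t * t) := by
      rw [hl]
      ring
    have hl3 := Nat.eq_of_mul_eq_mul_left (Nat.succ_pos k) hl2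
    rw [hl3, ht]
    exact Nat.mul_dvd_mul_left _ hdiv
  have hgood : ∀ D ∈ 𝒞, mark D X ≤ M D ∧ nn D ∣ M D - mark D X := by
    rintro D ⟨⟨P, θ, hθ, rfl⟩, hcD⟩
    have hPS : P ≤ S := source_le F hθ
    obtain ⟨hc, hfn⟩ := pick_spec F hPS
    have hcong := cong_step hS hF hX hθ hfn hc (le_of_eq hcD.symm)
    have hMv : M (graph θ) = mark (graph (pick F P).subtype : Subgroup (↥S × ↥S)) X + L := by
      show mark (graph (pick F (dom (graph θ : Subgroup (↥S × ↥S)))).subtype : Subgroup (↥S × ↥S)) X + L = _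
      rw [dom_graph hθ]
    have hmX : mark (graph θ : Subgroup (↥S × ↥S)) X ≤ Nat.card X := Set.ncard_le_card _
    have hLge : Nat.card X ≤ L := Nat.le_mul_of_pos_left _ (Nat.factorial_pos _)
    have hnL : nn (graph θ : Subgroup (↥S × ↥S)) ∣ L :=
      Dvd.dvd.mul_right (Nat.dvd_factorial (nn_pos _) (nn_le _)) _
    rw [hMv]
    refine ⟨by omega, ?_⟩
    have hsub : ((mark (graph (pick F P).subtype : Subgroup (↥S × ↥S)) X + L - mark (graph θ : Subgroup (↥S × ↥S)) X : ℕ) : ℤ) =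
        (L : ℤ) - ((mark (graph θ : Subgroup (↥S × ↥S)) X : ℤ) - (mark (graph (pick F P).subtype : Subgroup (↥S × ↥S)) X : ℤ)) := by
      rw [Nat.cast_sub (by omega)]
      push_cast
      ring
    apply Int.natCast_dvd_natCast.1
    rw [hsub]
    exact dvd_sub (Int.natCast_dvd_natCast.2 hnL) hcong
  obtain ⟨X', i1, i2, h1, h2, h3, c, h4⟩ := add_copies 𝒞 (Set.toFinite _) M (Nat.card S * p) (k + 1) hconj
    (fun D hD => hD.2) hW _ X rfl hgood
  refine ⟨X', i1, i2, ⟨?_, ?_⟩, c, h4⟩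
  · intro x'
    rcases h3 x' with ⟨x, e⟩ | ⟨D, hD, g, e⟩
    · rw [e]
      exact hX.1 x
    · rw [e]
      exact (isFG_cj hD.1 g).1
  · intro D E hD hE hk' hrel
    have hcardeq : Nat.card D = Nat.card E := by
      rw [← card_dom_of_isFG hD, ← card_dom_of_isFG hE]
      exact card_eq_of_isConj F hrel
    by_cases hd : Nat.card D = k + 1
    · rw [h1 D ⟨hD, hd⟩, h1 E ⟨hE, hcardeq ▸ hd⟩]
      show mark (graph (pick F (dom D)).subtype : Subgroup (↥S × ↥S)) X + L = mark (graph (pick F (dom E)).subtype : Subgroup (↥S × ↥S)) X + L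
      rw [pick_eq (F := F) hrel]
    · have h5 : k + 1 < Nat.card D := by omega
      rw [h2 D h5, h2 E (hcardeq ▸ h5)]
      exact hX.2 D E hD hE h5 hrel

end Main

section Top

variable {Ω : Type u} [Group Ω] {S : Subgroup Ω} (F : FusionSystem S) (R : Subgroup (F.autGroup S))

/-- The starting set. -/
def TopSet : Type u := Quotient (QuotientGroup.rightRel R) × ↥S

noncomputable instance : MulAction (↥S × ↥S) (TopSet F R) where
  smul g z := (z.1, (((Quotient.out z.1 : F.autGroup S) : MulAut ↥S) g.1) * z.2 * g.2⁻¹)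
  one_smul z := by
    apply Prod.ext
    · rfl
    · show ((Quotient.out z.1 : F.autGroup S) : MulAut ↥S) (1 : ↥S) * z.2 * (1 : ↥S)⁻¹ = z.2
      simp
  mul_smul g h z := by
    apply Prod.ext
    · rfl
    · show ((Quotient.out z.1 : F.autGroup S) : MulAut ↥S) (g.1 * h.1) * z.2 * (g.2 * h.2)⁻¹ =
        ((Quotient.out z.1 : F.autGroup S) : MulAut ↥S) g.1 * (((Quotient.out z.1 : F.autGroup S) : MulAut ↥S) h.1 * z.2 * h.2⁻¹) * g.2⁻¹
      simp [map_mul, mul_assoc]

theorem top_isFG (z : TopSet F R) : IsFG F (stabilizer (↥S × ↥S) z) := by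
  set α : MulAut ↥S := ((Quotient.out z.1 : F.autGroup S) : MulAut ↥S) with hαd
  have hα : S.subtype.comp α.toMonoidHom ∈ F.Hom S := (mem_autGroup_iff F le_rfl).1 (Quotient.out z.1).2
  set s : ↥S := z.2 with hs
  have hc := F.conj_mem (P := S) le_rfl (S.inv_mem s.2)
  obtain ⟨χ, hχ, eχ⟩ := exists_comp F hα hc (fun x => (α x).2)
  refine ⟨S, χ, hχ, ?_⟩
  ext ⟨a, b⟩
  rw [mem_stabilizer_iff]
  constructor
  · intro h
    have h2 : α a * s * b⁻¹ = s := congrArg Prod.snd h
    refine ⟨a.2, ?_⟩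
    rw [eχ]
    have h3 : α a = s * b * s⁻¹ := by
      have : α a = (α a * s * b⁻¹) * b * s⁻¹ := by group
      rw [this, h2]
    show (s : Ω)⁻¹ * ((α a : ↥S) : Ω) * ((s : Ω)⁻¹)⁻¹ = b
    rw [h3]
    simp [mul_assoc]
  · rintro ⟨_, h⟩
    rw [eχ] at h
    have h3 : (s : Ω)⁻¹ * ((α a : ↥S) : Ω) * ((s : Ω)⁻¹)⁻¹ = (b : Ω) := h
    have h4 : s⁻¹ * α a * s = b := Subtype.ext (by simpa using h3)
    apply Prod.ext
    · rfl
    · show α a * s * b⁻¹ = s
      rw [← h4]
      group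

variable [Finite S]

theorem top_mark (hR : ∀ γ : F.autGroup S, γ ∈ R ↔ ∃ g ∈ S, ∀ x : ↥S, (((γ : MulAut ↥S) x : ↥S) : Ω) = g * x * g⁻¹)
    {D : Subgroup (↥S × ↥S)} (hD : IsFG F D) (hc : Nat.card S ≤ Nat.card D) :
    mark D (TopSet F R) = Nat.card (Subgroup.center ↥S) := by
  classical
  obtain ⟨P, φ, hφ, rfl⟩ := hD
  have hPS : P ≤ S := source_le F hφ
  have hcard : Nat.card (graph φ : Subgroup (↥S × ↥S)) = Nat.card P := by
    rw [← card_dom_of_isFG ⟨P, φ, hφ, rfl⟩, dom_graph hφ]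
  rw [hcard] at hc
  have hPeq : P = S := Subgroup.eq_of_le_of_card_ge hPS hc
  subst hPeq
  -- `φ` as an automorphism
  let φ' : ↥P →* ↥P := φ.codRestrict P (map_mem_S F hφ)
  have hφ'inj : Function.Injective φ' := by
    intro a b hab
    exact F.injective_of_mem hφ (congrArg Subtype.val hab)
  let α : MulAut ↥P := MulEquiv.ofBijective φ' (Finite.injective_iff_bijective.1 hφ'inj)
  have hαv : ∀ x : ↥P, ((α x : ↥P) : Ω) = φ x := fun _ => rfl
  have hαmem : α ∈ F.autGroup P :=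
    (mem_autGroup_iff F le_rfl).2 (hom_of_eq hφ fun x => rfl)
  let a₀' : F.autGroup P := ⟨α, hαmem⟩
  let q₀ : Quotient (QuotientGroup.rightRel R) := Quotient.mk _ a₀'
  let a₀ : F.autGroup P := Quotient.out q₀
  have hrel : (QuotientGroup.rightRel R) a₀ a₀' := by
    have h1 : (Quotient.mk _ a₀ : Quotient (QuotientGroup.rightRel R)) = q₀ := Quotient.out_eq q₀
    exact Quotient.exact h1
  rw [QuotientGroup.rightRel_apply] at hrel
  obtain ⟨t₁, ht₁, ht₁x⟩ := (hR _).1 hrel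
  let t₀ : ↥P := ⟨t₁⁻¹, P.inv_mem ht₁⟩
  have ha₀ : ∀ x : ↥P, (a₀ : MulAut ↥P) x = t₀ * α x * t₀⁻¹ := by
    intro x
    apply Subtype.ext
    have h2 := ht₁x ((a₀ : MulAut ↥P) x)
    have e : ((a₀' * a₀⁻¹ : F.autGroup P) : MulAut ↥P) ((a₀ : MulAut ↥P) x) = α x := by
      show α ((((a₀ : MulAut ↥P))⁻¹) ((a₀ : MulAut ↥P) x)) = α x
      rw [MulAut.inv_apply_self]
    rw [e] at h2
    show (((a₀ : MulAut ↥P) x : ↥P) : Ω) = t₁⁻¹ * ((α x : ↥P) : Ω) * t₁⁻¹⁻¹
    rw [h2]
    group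
  -- the fixed points
  have hfixiff : ∀ z : TopSet F R, z ∈ fix (graph φ : Subgroup (↥P × ↥P)) (TopSet F R) ↔
      ∀ x : ↥P, ((Quotient.out z.1 : F.autGroup P) : MulAut ↥P) x = z.2 * α x * z.2⁻¹ := by
    intro z
    constructor
    · intro hz x
      have hm : ((x, α x) : ↥P × ↥P) ∈ (graph φ : Subgroup (↥P × ↥P)) := ⟨x.2, rfl⟩
      have h1 := hz _ hm
      have h2 : ((Quotient.out z.1 : F.autGroup P) : MulAut ↥P) x * z.2 * (α x)⁻¹ = z.2 := congrArg Prod.snd h1
      have : ((Quotient.out z.1 : F.autGroup P) : MulAut ↥P) x =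
          (((Quotient.out z.1 : F.autGroup P) : MulAut ↥P) x * z.2 * (α x)⁻¹) * α x * z.2⁻¹ := by group
      rw [this, h2]
    · rintro hz ⟨a, b⟩ ⟨_, hb⟩
      have hb' : α a = b := Subtype.ext hb
      apply Prod.ext
      · rfl
      · show ((Quotient.out z.1 : F.autGroup P) : MulAut ↥P) a * z.2 * b⁻¹ = z.2
        rw [hz a, ← hb']
        group
  let ff : Subgroup.center ↥P → TopSet F R := fun w => (q₀, t₀ * w)
  have himg : fix (graph φ : Subgroup (↥P × ↥P)) (TopSet F R) = ff '' Set.univ := by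
    ext z
    rw [hfixiff]
    constructor
    · intro hz
      have hq : z.1 = q₀ := by
        have h1 : (Quotient.mk _ (Quotient.out z.1) : Quotient (QuotientGroup.rightRel R)) = z.1 := Quotient.out_eq _
        rw [← h1]
        apply Quotient.sound
        show (QuotientGroup.rightRel R) (Quotient.out z.1) a₀'
        rw [QuotientGroup.rightRel_apply]
        refine (hR _).2 ⟨(z.2⁻¹ : ↥P), (z.2⁻¹ : ↥P).2, fun x => ?_⟩
        have e : ((a₀' * (Quotient.out z.1)⁻¹ : F.autGroup P) : MulAut ↥P) x =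
            α (((Quotient.out z.1 : F.autGroup P) : MulAut ↥P)⁻¹ x) := rfl
        rw [e]
        set w := ((Quotient.out z.1 : F.autGroup P) : MulAut ↥P)⁻¹ x with hw
        have h2 := hz w
        have h3 : ((Quotient.out z.1 : F.autGroup P) : MulAut ↥P) w = x := by
          rw [hw]
          exact MulAut.apply_inv_self _ _ _ 
        rw [h3] at h2
        rw [h2]
        simp [mul_assoc]
      have hcent : t₀⁻¹ * z.2 ∈ Subgroup.center ↥P := by
        rw [Subgroup.mem_center_iff]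
        intro y
        have hy : ∃ x, α x = y := α.surjective y
        obtain ⟨x, rfl⟩ := hy
        have h2 := hz x
        rw [hq] at h2
        have h3 : t₀ * α x * t₀⁻¹ = z.2 * α x * z.2⁻¹ := (ha₀ x).symm.trans h2
        have h4 : t₀⁻¹ * z.2 * α x * (t₀⁻¹ * z.2)⁻¹ = α x := by
          have e : t₀⁻¹ * z.2 * α x * (t₀⁻¹ * z.2)⁻¹ = t₀⁻¹ * (z.2 * α x * z.2⁻¹) * t₀ := by group
          rw [e, ← h3]
          group
        have e5 : α x * (t₀⁻¹ * z.2) = (t₀⁻¹ * z.2 * α x * (t₀⁻¹ * z.2)⁻¹) * (t₀⁻¹ * z.2) := by rw [h4]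
        rw [e5]
        group
      refine ⟨⟨_, hcent⟩, trivial, ?_⟩
      apply Prod.ext
      · exact hq.symm
      · show t₀ * (t₀⁻¹ * z.2) = z.2
        group
    · rintro ⟨w, -, rfl⟩ x
      show ((Quotient.out q₀ : F.autGroup P) : MulAut ↥P) x = t₀ * (w : ↥P) * α x * (t₀ * (w : ↥P))⁻¹
      have h1 : ((Quotient.out q₀ : F.autGroup P) : MulAut ↥P) x = t₀ * α x * t₀⁻¹ := ha₀ x
      rw [h1]
      have hw := (Subgroup.mem_center_iff.1 w.2) (α x)
      have : t₀ * (w : ↥P) * α x * (t₀ * (w : ↥P))⁻¹ = t₀ * ((w : ↥P) * α x) * (w : ↥P)⁻¹ * t₀⁻¹ := by group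
      rw [this, ← hw]
      group
  have hffinj : Function.Injective ff := by
    intro w w' e
    have e2 : t₀ * (w : ↥P) = t₀ * (w' : ↥P) := congrArg Prod.snd e
    exact Subtype.ext (mul_left_cancel e2)
  unfold mark
  rw [himg, Set.ncard_image_of_injective _ hffinj, Set.ncard_univ]

end Top

section Final

variable {Ω : Type u} [Group Ω] {S : Subgroup Ω} {p : ℕ} [hp : Fact p.Prime]

theorem exists_top [Finite S] (hS : IsPGroup p S) {F : FusionSystem S} (hF : F.IsSaturated p) :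
    ∃ (X : Type u) (_ : MulAction (↥S × ↥S) X) (_ : Finite X), GoodAbove F X (Nat.card S - 1) ∧
      ∃ N : ℕ, N.Coprime p ∧ Nat.card X = Nat.card S * N := by
  classical
  have hpp : p.Prime := hp.out
  have hfn : F.IsFullyNormalized S := ⟨le_rfl, fun Q hQ => by
    rw [eq_of_isConj_self hQ]⟩
  obtain ⟨-, R, hR⟩ := (IsSaturated.fullyNormalized hS hF hfn).1
  haveI : Finite (MulAut S) := mulAut_finite
  have hRm : ∀ γ : F.autGroup S, γ ∈ (R : Subgroup (F.autGroup S)) ↔
      ∃ g ∈ S, ∀ x : ↥S, (((γ : MulAut ↥S) x : ↥S) : Ω) = g * x * g⁻¹ := by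
    intro γ
    rw [hR, Subgroup.mem_subgroupOf, mem_autInducedBy_iff]
  haveI : Finite (Quotient (QuotientGroup.rightRel (R : Subgroup (F.autGroup S)))) := Quotient.finite _
  haveI hfin : Finite (TopSet F (R : Subgroup (F.autGroup S))) := by
    unfold TopSet
    infer_instance
  refine ⟨TopSet F R, inferInstance, hfin, ⟨top_isFG F _, ?_⟩, (R : Subgroup (F.autGroup S)).index, ?_, ?_⟩
  · intro D E hD hE hk hrel
    have hpos : 0 < Nat.card S := Nat.card_pos
    have hcardeq : Nat.card D = Nat.card E := by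
      rw [← card_dom_of_isFG hD, ← card_dom_of_isFG hE]
      exact card_eq_of_isConj F hrel
    rw [top_mark F _ hRm hD (by omega), top_mark F _ hRm hE (by omega)]
  · have := Sylow.not_dvd_index R
    exact ((Nat.Prime.coprime_iff_not_dvd hpp).2 this).symm
  · have h1 : Nat.card (Quotient (QuotientGroup.rightRel (R : Subgroup (F.autGroup S)))) =
        (R : Subgroup (F.autGroup S)).index := by
      rw [Subgroup.index_eq_card]
      exact Nat.card_congr (QuotientGroup.quotientRightRelEquivQuotientLeftRel _)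
    show Nat.card (_ × _) = _
    rw [Nat.card_prod, h1, mul_comm]

/-- The stable set: stabilizers are graphs of maps of the system, the number of fixed points of a
graph depends only on the class of its source, and the number of right orbits is prime to `p`. -/
theorem exists_char [Finite S] (hS : IsPGroup p S) {F : FusionSystem S} (hF : F.IsSaturated p) :
    ∃ (X : Type u) (_ : MulAction (↥S × ↥S) X) (_ : Finite X), GoodAbove F X 0 ∧
      ∃ N : ℕ, N.Coprime p ∧ Nat.card X = Nat.card S * N := by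
  have key : ∀ j : ℕ, j ≤ Nat.card S - 1 → ∃ (X : Type u) (_ : MulAction (↥S × ↥S) X) (_ : Finite X),
      GoodAbove F X (Nat.card S - 1 - j) ∧ ∃ N : ℕ, N.Coprime p ∧ Nat.card X = Nat.card S * N := by
    intro j
    induction j with
    | zero =>
      intro _
      exact exists_top hS hF
    | succ j ih =>
      intro hj
      obtain ⟨X, i1, i2, h1, N, hN, hc⟩ := ih (by omega)
      have e : Nat.card S - 1 - j = (Nat.card S - 1 - (j + 1)) + 1 := by omega
      rw [e] at h1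
      have hlt : (Nat.card S - 1 - (j + 1)) + 1 < Nat.card S := by omega
      obtain ⟨X', i1', i2', h2, c, hc'⟩ := step hS hF hlt X h1
      refine ⟨X', i1', i2', h2, N + p * c, ?_, ?_⟩
      · exact (Nat.coprime_add_mul_left_left N p c).2 hN
      · rw [hc', hc, mul_add, mul_assoc]
  have := key (Nat.card S - 1) le_rfl
  rwa [Nat.sub_self] at this

end Final

end Cfsg.Agent.Lib.BisetExist
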