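import Cfsg.Agent.Lib.FusionLift
import Cfsg.Agent.Lib.PResidual

/-!
The Alperin principle for predicates on maps; elementary facts on the hyperfocal subgroup.
-/

set_option autoImplicit false

namespace Cfsg.Agent.Lib.FusionHyp

open Cfsg Cfsg.FusionSystem Cfsg.Agent.Lib.FusionBasic Cfsg.Agent.Lib.FusionAut
  Cfsg.Agent.Lib.FusionSat Cfsg.Agent.Lib.FusionAlperin Cfsg.Agent.Lib.FusionNormal
  Cfsg.Agent.Lib.SylowIn Cfsg.Agent.Lib.FusionPuig Cfsg.Agent.Lib.FusionCentric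
  Cfsg.Agent.Lib.PResidual

open scoped Pointwise commutatorElement

variable {Ω : Type*} [Group Ω] {S : Subgroup Ω} {p : ℕ} [Fact p.Prime]

/-- The subsystem of the maps of `F` satisfying a predicate closed under the operations. -/
def subsystemOf (F : FusionSystem S) (Pr : ∀ {R : Subgroup Ω}, (R →* Ω) → Prop)
    (hconj : ∀ {R : Subgroup Ω} {g : Ω}, R ≤ S → g ∈ S → Pr (conjHom R g))
    (hcomp : ∀ {P Q : Subgroup Ω} {φ : P →* Ω} {ψ : Q →* Ω}, φ ∈ F.Hom P → ψ ∈ F.Hom Q →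
      (h : ∀ x : P, φ x ∈ Q) → Pr φ → Pr ψ → Pr (ψ.comp (φ.codRestrict Q h)))
    (hinv : ∀ {P : Subgroup Ω} {φ : P →* Ω}, φ ∈ F.Hom P → Pr φ → ∀ ψ ∈ F.Hom φ.range,
      (∀ x : P, ψ ⟨φ x, ⟨x, rfl⟩⟩ = (x : Ω)) → Pr ψ) : FusionSystem S where
  Hom R := {φ | φ ∈ F.Hom R ∧ Pr φ}
  le_of_mem h := F.le_of_mem h.1
  injective_of_mem h := F.injective_of_mem h.1
  conj_mem hP hg := ⟨F.conj_mem hP hg, hconj hP hg⟩
  comp_mem h₁ h₂ h := ⟨F.comp_mem h₁.1 h₂.1 h, hcomp h₁.1 h₂.1 h h₁.2 h₂.2⟩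
  inv_mem h := by
    obtain ⟨ψ, hψ, e⟩ := F.inv_mem h.1
    exact ⟨ψ, ⟨hψ, hinv h.1 h.2 ψ hψ e⟩, e⟩

/-- The Alperin principle: a predicate on maps closed under the operations of a fusion system and
holding on the automorphisms of `S` and of the essential subgroups holds on every map. -/
theorem alperin_pred [Finite S] (hS : IsPGroup p S) {F : FusionSystem S} (hF : F.IsSaturated p)
    (Pr : ∀ {R : Subgroup Ω}, (R →* Ω) → Prop)
    (hconj : ∀ {R : Subgroup Ω} {g : Ω}, R ≤ S → g ∈ S → Pr (conjHom R g))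
    (hcomp : ∀ {P Q : Subgroup Ω} {φ : P →* Ω} {ψ : Q →* Ω}, φ ∈ F.Hom P → ψ ∈ F.Hom Q →
      (h : ∀ x : P, φ x ∈ Q) → Pr φ → Pr ψ → Pr (ψ.comp (φ.codRestrict Q h)))
    (hinv : ∀ {P : Subgroup Ω} {φ : P →* Ω}, φ ∈ F.Hom P → Pr φ → ∀ ψ ∈ F.Hom φ.range,
      (∀ x : P, ψ ⟨φ x, ⟨x, rfl⟩⟩ = (x : Ω)) → Pr ψ)
    (hauto : ∀ P : Subgroup Ω, (P = S ∨ F.IsEssential p P) → ∀ α ∈ F.autGroup P,
      Pr (P.subtype.comp α.toMonoidHom))
    {P : Subgroup Ω} {φ : P →* Ω} (hφ : φ ∈ F.Hom P) : Pr φ := by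
  have h := alperin hS hF (subsystemOf F Pr hconj hcomp hinv) (fun R hR α hα => by
    have hRS : R ≤ S := by
      rcases hR with rfl | h
      · exact le_rfl
      · exact h.1.1
    rw [mem_autGroup_iff _ hRS]
    exact ⟨(mem_autGroup_iff F hRS).mp hα, hauto R hR α hα⟩) P hφ
  exact h.2

/-- Generators of the hyperfocal subgroup. -/
theorem mem_hyp_of_residual {F : FusionSystem S} {P : Subgroup Ω} (hP : P ≤ S) (α : F.autGroup P)
    (hα : α ∈ pResidual p (F.autGroup P)) (x : P) :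
    (x : Ω)⁻¹ * ((α : MulAut P) x : P) ∈ F.hyperfocalSubgroup p :=
  Subgroup.subset_closure ⟨P, α, x, hP, hα, rfl⟩

theorem hyp_le (F : FusionSystem S) : F.hyperfocalSubgroup p ≤ S := by
  rw [hyperfocalSubgroup, Subgroup.closure_le]
  rintro _ ⟨P, α, x, hP, -, rfl⟩
  exact S.mul_mem (S.inv_mem (hP x.2)) (hP ((α : MulAut P) x).2)

/-- Homomorphisms carry `O^p` into `O^p`. -/
theorem pResidual_map_mem {G H : Type*} [Group G] [Group H] (f : G →* H) {x : G}
    (hx : x ∈ pResidual p G) : f x ∈ pResidual p H := by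
  unfold pResidual at hx
  induction hx using Subgroup.closure_induction with
  | mem g hg =>
    exact Subgroup.subset_closure (Nat.Coprime.coprime_dvd_left (orderOf_map_dvd f g) hg)
  | one =>
    rw [map_one]
    exact one_mem _
  | mul a b _ _ ha hb =>
    rw [map_mul]
    exact mul_mem ha hb
  | inv a _ ha =>
    rw [map_inv]
    exact inv_mem ha

/-- Transport of `Aut_F` along an isomorphism of the system. -/
noncomputable def autGroupCongr {F : FusionSystem S} {P Q : Subgroup Ω} {θ : Q →* Ω}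
    (hθ : θ ∈ F.Hom Q) (hr : θ.range = P) : F.autGroup Q →* F.autGroup P where
  toFun β := ⟨MulAut.congr (isoOfRange hθ hr) β, congr_mem_autGroup hθ hr β.2⟩
  map_one' := by
    apply Subtype.ext
    exact map_one (MulAut.congr (isoOfRange hθ hr))
  map_mul' a b := by
    apply Subtype.ext
    exact map_mul (MulAut.congr (isoOfRange hθ hr)) a.1 b.1

theorem autGroupCongr_apply {F : FusionSystem S} {P Q : Subgroup Ω} {θ : Q →* Ω}
    (hθ : θ ∈ F.Hom Q) (hr : θ.range = P) (β : F.autGroup Q) (x : Q) (h : θ x ∈ P) :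
    ((autGroupCongr hθ hr β : MulAut P) ⟨θ x, h⟩ : P) = (⟨θ (β.1 x), hr ▸ ⟨_, rfl⟩⟩ : P) := by
  apply Subtype.ext
  show ((isoOfRange hθ hr) (β.1 ((isoOfRange hθ hr).symm ⟨θ x, h⟩)) : P) = (θ (β.1 x) : Ω)
  have e : (isoOfRange hθ hr).symm ⟨θ x, h⟩ = x := by
    rw [MulEquiv.symm_apply_eq]
    exact Subtype.ext rfl
  rw [e]
  rfl

/-- The image of a generator of the hyperfocal subgroup under a map of the system defined on the
source is a generator. -/
theorem map_gen_mem_hyp {F : FusionSystem S} {Q : Subgroup Ω} {θ : Q →* Ω}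
    (hθ : θ ∈ F.Hom Q) (β : F.autGroup Q) (hβ : β ∈ pResidual p (F.autGroup Q)) (x : Q) :
    (θ x)⁻¹ * θ (β.1 x) ∈ F.hyperfocalSubgroup p := by
  have hm : θ x ∈ θ.range := ⟨x, rfl⟩
  have h1 := mem_hyp_of_residual (p := p) (range_le F hθ) (autGroupCongr hθ rfl β)
    (pResidual_map_mem _ hβ) ⟨θ x, hm⟩
  rw [autGroupCongr_apply hθ rfl β x hm] at h1
  exact h1

/-- `S` normalizes the hyperfocal subgroup. -/
theorem conj_mem_hyp {F : FusionSystem S} {s : Ω} (hs : s ∈ S) {y : Ω}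
    (hy : y ∈ F.hyperfocalSubgroup p) : s * y * s⁻¹ ∈ F.hyperfocalSubgroup p := by
  unfold hyperfocalSubgroup at hy
  induction hy using Subgroup.closure_induction with
  | mem g hg =>
    obtain ⟨P, α, x, hP, hα, rfl⟩ := hg
    have h := map_gen_mem_hyp (p := p) (F.conj_mem hP hs) α hα x
    have e : s * ((x : Ω)⁻¹ * ((α : MulAut P) x : P)) * s⁻¹ =
        (conjHom P s x)⁻¹ * conjHom P s (α.1 x) := by
      show _ = (s * (x : Ω) * s⁻¹)⁻¹ * (s * ((α : MulAut P) x : P) * s⁻¹)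
      group
    rw [e]
    exact h
  | one =>
    simp
  | mul a b _ _ ha hb =>
    have e : s * (a * b) * s⁻¹ = (s * a * s⁻¹) * (s * b * s⁻¹) := by group
    rw [e]
    exact mul_mem ha hb
  | inv a _ ha =>
    have e : s * a⁻¹ * s⁻¹ = (s * a * s⁻¹)⁻¹ := by group
    rw [e]
    exact inv_mem ha

/-- An automorphism of a fully automized subgroup decomposes into an element of `O^p` and an
automorphism induced by `S`. -/
theorem autGroup_decomp {F : FusionSystem S} {P : Subgroup Ω} [Finite P]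
    (hA : F.IsFullyAutomized p P) {α : MulAut P} (hα : α ∈ F.autGroup P) :
    ∃ (ρ : F.autGroup P) (c : MulAut P) (s : Ω), ρ ∈ pResidual p (F.autGroup P) ∧ s ∈ S ∧
      (∀ x : P, ((c x : P) : Ω) = s * x * s⁻¹) ∧ α = ρ.1 * c := by
  have hfin : Finite (MulAut P) := mulAut_finite
  obtain ⟨-, R, hR⟩ := hA
  have h1 := pResidual_sup_sylow R
  haveI := pResidual_normal p (F.autGroup P)
  have h2 : (⟨α, hα⟩ : F.autGroup P) ∈
      ((pResidual p (F.autGroup P) ⊔ (R : Subgroup _) : Subgroup _) : Set (F.autGroup P)) := by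
    rw [h1]
    exact Subgroup.mem_top _
  rw [Subgroup.normal_mul] at h2
  obtain ⟨ρ, hρ, c, hc, e⟩ := h2
  have hc2 : c ∈ (R : Subgroup _) := hc
  rw [hR] at hc2
  have hc := hc2
  obtain ⟨s, hs, hcs⟩ := mem_autInducedBy_iff.mp hc
  refine ⟨ρ, c.1, s, hρ, hs, hcs, ?_⟩
  have := congrArg Subtype.val e
  exact this.symm

/-- A subgroup-membership predicate preserved by all automorphisms as soon as it is by those of
`O^p(Aut)` and by `S`: the hyperfocal subgroup is strongly closed. -/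
theorem hyp_stronglyClosed [Finite S] (hS : IsPGroup p S) {F : FusionSystem S}
    (hF : F.IsSaturated p) : F.StronglyClosed (F.hyperfocalSubgroup p) := by
  set T := F.hyperfocalSubgroup p with hT
  have hconj : ∀ {g x : Ω}, g ∈ S → (x ∈ T ↔ g * x * g⁻¹ ∈ T) := by
    intro g x hg
    refine ⟨fun h => conj_mem_hyp hg h, fun h => ?_⟩
    have := conj_mem_hyp (S.inv_mem hg) h
    have e : g⁻¹ * (g * x * g⁻¹) * g⁻¹⁻¹ = x := by group
    rwa [e] at this
  have hmain : ∀ {R : Subgroup Ω} {φ : R →* Ω}, φ ∈ F.Hom R → ∀ x : R, (x : Ω) ∈ T ↔ φ x ∈ T := by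
    intro R φ hφ
    refine alperin_pred hS hF (fun {R} φ => ∀ x : R, (x : Ω) ∈ T ↔ φ x ∈ T) ?_ ?_ ?_ ?_ hφ
    · intro R g _ hg x
      exact hconj hg
    · intro P Q φ ψ _ _ h h1 h2 x
      exact (h1 x).trans (h2 ⟨φ x, h x⟩)
    · rintro P φ - h1 ψ - e ⟨_, x, rfl⟩
      have e2 := e x
      show φ x ∈ T ↔ ψ ⟨φ x, ⟨x, rfl⟩⟩ ∈ T
      rw [e2]
      exact (h1 x).symm
    · intro P hP α hα x
      have hPS : P ≤ S := by
        rcases hP with rfl | h
        · exact le_rfl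
        · exact h.1.1
      have hfinP : Finite P := finite_of_le hPS
      have hA : F.IsFullyAutomized p P := by
        rcases hP with rfl | h
        · exact IsSaturated.fullyAutomized_self hF
        · exact (IsSaturated.fullyNormalized hS hF h.2.1).1
      obtain ⟨ρ, c, s, hρ, hs, hcs, e⟩ := autGroup_decomp hA hα
      have h1 : (x : Ω) ∈ T ↔ ((c x : P) : Ω) ∈ T := by
        rw [hcs]
        exact hconj hs
      have h2 : ∀ y : P, (y : Ω) ∈ T ↔ ((ρ.1 y : P) : Ω) ∈ T := by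
        intro y
        have h3 := mem_hyp_of_residual (p := p) hPS ρ hρ y
        constructor
        · intro hy
          have := T.mul_mem hy h3
          simpa using this
        · intro hy
          have := T.mul_mem hy (T.inv_mem h3)
          simpa using this
      refine h1.trans ((h2 _).trans ?_)
      rw [e]
      rfl
  exact ⟨hyp_le F, fun R hR φ hφ x => (hmain hφ x).mp (hR x.2)⟩

/-- Generators of the focal subgroup. -/
theorem mem_foc {F : FusionSystem S} {P : Subgroup Ω} {φ : P →* Ω} (hφ : φ ∈ F.Hom P) (x : P) :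
    (x : Ω)⁻¹ * φ x ∈ F.focalSubgroup :=
  Subgroup.subset_closure ⟨P, φ, x, hφ, rfl⟩

/-- The hyperfocal subgroup lies in the focal subgroup. -/
theorem hyp_le_foc (F : FusionSystem S) : F.hyperfocalSubgroup p ≤ F.focalSubgroup := by
  rw [hyperfocalSubgroup, Subgroup.closure_le]
  rintro _ ⟨P, α, x, hP, -, rfl⟩
  exact mem_foc ((mem_autGroup_iff F hP).mp α.2) x

/-- The derived subgroup lies in the focal subgroup. -/
theorem commutator_le_foc (F : FusionSystem S) : ⁅S, S⁆ ≤ F.focalSubgroup := by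
  rw [Subgroup.commutator_le]
  intro a ha b hb
  have h := mem_foc (F.conj_mem (le_refl S) hb) ⟨a⁻¹, S.inv_mem ha⟩
  have e : ⁅a, b⁆ = ((⟨a⁻¹, S.inv_mem ha⟩ : S) : Ω)⁻¹ * conjHom S b ⟨a⁻¹, S.inv_mem ha⟩ := by
    show a * b * a⁻¹ * b⁻¹ = (a⁻¹)⁻¹ * (b * a⁻¹ * b⁻¹)
    group
  rw [e]
  exact h

/-- `foc(F) = hyp(F) S'`. -/
theorem foc_eq [Finite S] (hS : IsPGroup p S) {F : FusionSystem S} (hF : F.IsSaturated p) :
    F.focalSubgroup = F.hyperfocalSubgroup p ⊔ ⁅S, S⁆ := by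
  apply le_antisymm
  · set T := F.hyperfocalSubgroup p ⊔ ⁅S, S⁆ with hT
    rw [focalSubgroup, Subgroup.closure_le]
    rintro _ ⟨P, φ, x, hφ, rfl⟩
    refine alperin_pred hS hF (fun {R} φ => ∀ x : R, (x : Ω)⁻¹ * φ x ∈ T) ?_ ?_ ?_ ?_ hφ x
    · intro R g hR hg x
      have : (x : Ω)⁻¹ * conjHom R g x = ⁅(x : Ω)⁻¹, g⁆ := by
        show (x : Ω)⁻¹ * (g * x * g⁻¹) = (x : Ω)⁻¹ * g * (x : Ω)⁻¹⁻¹ * g⁻¹
        group
      rw [this]
      exact Subgroup.mem_sup_right
        (Subgroup.commutator_mem_commutator (S.inv_mem (hR x.2)) hg)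
    · intro P Q φ ψ _ _ h h1 h2 x
      have e : (x : Ω)⁻¹ * (ψ.comp (φ.codRestrict Q h)) x =
          ((x : Ω)⁻¹ * φ x) * ((φ x)⁻¹ * ψ ⟨φ x, h x⟩) := by
        show (x : Ω)⁻¹ * ψ ⟨φ x, h x⟩ = _
        group
      rw [e]
      exact T.mul_mem (h1 x) (h2 ⟨φ x, h x⟩)
    · rintro P φ - h1 ψ - e ⟨_, x, rfl⟩
      show (φ x)⁻¹ * ψ ⟨φ x, ⟨x, rfl⟩⟩ ∈ T
      rw [e]
      have := T.inv_mem (h1 x)
      simpa using this
    · intro P hP α hα x
      have hPS : P ≤ S := by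
        rcases hP with rfl | h
        · exact le_rfl
        · exact h.1.1
      have hfinP : Finite P := finite_of_le hPS
      have hA : F.IsFullyAutomized p P := by
        rcases hP with rfl | h
        · exact IsSaturated.fullyAutomized_self hF
        · exact (IsSaturated.fullyNormalized hS hF h.2.1).1
      obtain ⟨ρ, c, s, hρ, hs, hcs, e⟩ := autGroup_decomp hA hα
      have e2 : ((α x : P) : Ω) = ((ρ.1 (c x) : P) : Ω) := by
        rw [e]
        rfl
      have h1 := mem_hyp_of_residual (p := p) hPS ρ hρ (c x)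
      have h2 : (x : Ω)⁻¹ * ((c x : P) : Ω) = ⁅(x : Ω)⁻¹, s⁆ := by
        rw [hcs]
        show (x : Ω)⁻¹ * (s * x * s⁻¹) = (x : Ω)⁻¹ * s * (x : Ω)⁻¹⁻¹ * s⁻¹
        group
      show (x : Ω)⁻¹ * ((α x : P) : Ω) ∈ T
      rw [e2]
      have e3 : (x : Ω)⁻¹ * ((ρ.1 (c x) : P) : Ω) =
          ((x : Ω)⁻¹ * ((c x : P) : Ω)) * (((c x : P) : Ω)⁻¹ * ((ρ.1 (c x) : P) : Ω)) := by group
      rw [e3, h2]
      exact T.mul_mem (Subgroup.mem_sup_right
        (Subgroup.commutator_mem_commutator (S.inv_mem (hPS x.2)) hs)) (Subgroup.mem_sup_left h1)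
  · exact sup_le (hyp_le_foc F) (commutator_le_foc F)

end Cfsg.Agent.Lib.FusionHyp
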