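import Mathlib
import Cfsg.Agent.Lib.BisetExist
import Cfsg.Agent.Lib.FusionHyp

/-! The transfer attached to a set with commuting left and free right actions. -/

set_option autoImplicit false
set_option linter.all false

namespace Cfsg.Agent.Lib.BisetTransfer

open Cfsg Cfsg.FusionSystem MulAction Cfsg.Agent.Lib.BisetGSet Cfsg.Agent.Lib.FusionBasic
  Cfsg.Agent.Lib.BisetGraph Cfsg.Agent.Lib.BisetExist

universe u

section Cycle

variable {Y : Type*} [Fintype Y] {A : Type*} [CommGroup A]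

/-- Products along cycles. -/
theorem prod_of_cycle_one (σ : Equiv.Perm Y) (c : Y → A)
    (h : ∀ (y : Y) (n : ℕ), (σ ^ n) y = y → ∏ j ∈ Finset.range n, c ((σ ^ j) y) = 1) :
    ∏ y, c y = 1 := by
  classical
  let P : Y → ℕ → A := fun a n => ∏ j ∈ Finset.range n, c ((σ ^ j) a)
  have hadd : ∀ (a : Y) (m n : ℕ), P a (m + n) = P a m * P ((σ ^ m) a) n := by
    intro a m n
    show ∏ j ∈ Finset.range (m + n), c ((σ ^ j) a) = _
    rw [Finset.prod_range_add]
    congr 1
    refine Finset.prod_congr rfl fun j _ => ?_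
    rw [pow_add, Equiv.Perm.mul_apply]
    congr 1
    show (σ ^ m) ((σ ^ j) a) = (σ ^ j) ((σ ^ m) a)
    rw [← Equiv.Perm.mul_apply, ← Equiv.Perm.mul_apply, ← pow_add, ← pow_add, add_comm]
  have hwd0 : ∀ (a : Y) (m n : ℕ), m ≤ n → (σ ^ n) a = (σ ^ m) a → P a n = P a m := by
    intro a m n hmn e
    obtain ⟨k, rfl⟩ := Nat.exists_eq_add_of_le hmn
    rw [hadd]
    have e2 : (σ ^ k) ((σ ^ m) a) = (σ ^ m) a := by
      rw [← Equiv.Perm.mul_apply, ← pow_add, add_comm]
      exact e
    have := h _ k e2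
    show P a m * ∏ j ∈ Finset.range k, c ((σ ^ j) ((σ ^ m) a)) = _
    rw [this, mul_one]
  have hwd : ∀ (a : Y) (m n : ℕ), (σ ^ n) a = (σ ^ m) a → P a n = P a m := by
    intro a m n e
    rcases le_total m n with hmn | hnm
    · exact hwd0 a m n hmn e
    · exact (hwd0 a n m hnm e.symm).symm
  let st : Setoid Y := Equiv.Perm.SameCycle.setoid σ
  let r : Y → Y := fun y => Quotient.out (Quotient.mk st y)
  have hr : ∀ y, ∃ n : ℕ, (σ ^ n) (r y) = y := by
    intro y
    have h1 : st.r (r y) y := Quotient.exact (Quotient.out_eq (Quotient.mk st y))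
    have h2 : σ.SameCycle (r y) y := h1
    obtain ⟨n, -, hn⟩ := h2.exists_pow_eq'
    exact ⟨n, hn⟩
  have hrσ : ∀ y, r (σ y) = r y := by
    intro y
    show Quotient.out (Quotient.mk st (σ y)) = Quotient.out (Quotient.mk st y)
    congr 1
    apply Quotient.sound
    show σ.SameCycle (σ y) y
    exact (Equiv.Perm.sameCycle_apply_left).2 (Equiv.Perm.SameCycle.refl _ _)
  let nn : Y → ℕ := fun y => Classical.choose (hr y)
  have hnn : ∀ y, (σ ^ nn y) (r y) = y := fun y => Classical.choose_spec (hr y)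
  let d : Y → A := fun y => P (r y) (nn y)
  have hd : ∀ y, d (σ y) = d y * c y := by
    intro y
    have h1 : (σ ^ (nn y + 1)) (r y) = (σ ^ nn (σ y)) (r y) := by
      have h2 := hnn (σ y)
      rw [hrσ] at h2
      rw [h2, pow_succ', Equiv.Perm.mul_apply, hnn]
    have h3 := hwd (r y) _ _ h1
    show P (r (σ y)) (nn (σ y)) = P (r y) (nn y) * c y
    rw [hrσ, ← h3]
    show ∏ j ∈ Finset.range (nn y + 1), c ((σ ^ j) (r y)) = _
    rw [Finset.prod_range_succ, hnn]
  have h1 : ∏ y, d (σ y) = ∏ y, d y := Equiv.prod_comp σ d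
  have h2 : ∏ y, d (σ y) = (∏ y, d y) * ∏ y, c y := by
    rw [← Finset.prod_mul_distrib]
    exact Finset.prod_congr rfl fun y _ => hd y
  rw [h2] at h1
  exact mul_left_cancel (a := ∏ y, d y) (by rw [h1, mul_one])

theorem prod_of_cycle (σ : Equiv.Perm Y) (c : Y → A) (w : A)
    (h : ∀ (y : Y) (n : ℕ), (σ ^ n) y = y → ∏ j ∈ Finset.range n, c ((σ ^ j) y) = w ^ n) :
    ∏ y, c y = w ^ Fintype.card Y := by
  have h1 := prod_of_cycle_one σ (fun y => c y * w⁻¹) (fun y n hn => by
    rw [Finset.prod_mul_distrib, h y n hn, Finset.prod_const, Finset.card_range, inv_pow, mul_inv_cancel])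
  rw [Finset.prod_mul_distrib, Finset.prod_const, Finset.card_univ, inv_pow] at h1
  exact mul_inv_eq_one.1 h1

end Cycle

section Bis

variable (T : Type u) [Group T] (X : Type u) [MulAction (T × T) X]

variable {T X}

/-- The left action. -/
def L (x : T) (ω : X) : X := (x, (1 : T)) • ω

/-- The right action. -/
def rr (s : T) (ω : X) : X := ((1 : T), s⁻¹) • ω

theorem rr_one (ω : X) : rr (1 : T) ω = ω := by
  show ((1 : T), (1 : T)⁻¹) • ω = ω
  rw [inv_one]
  exact one_smul _ ω

theorem rr_rr (s t : T) (ω : X) : rr s (rr t ω) = rr (t * s) ω := by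
  show ((1 : T), s⁻¹) • ((1 : T), t⁻¹) • ω = ((1 : T), (t * s)⁻¹) • ω
  rw [smul_smul, Prod.mk_mul_mk, mul_one, mul_inv_rev]

theorem L_rr (x s : T) (ω : X) : L x (rr s ω) = rr s (L x ω) := by
  show (x, (1 : T)) • ((1 : T), s⁻¹) • ω = ((1 : T), s⁻¹) • (x, (1 : T)) • ω
  rw [smul_smul, smul_smul, Prod.mk_mul_mk, Prod.mk_mul_mk]
  simp

theorem L_mul (x y : T) (ω : X) : L (x * y) ω = L x (L y ω) := by
  show (x * y, (1 : T)) • ω = (x, (1 : T)) • (y, (1 : T)) • ω
  rw [smul_smul, Prod.mk_mul_mk, mul_one]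

theorem L_one (ω : X) : L (1 : T) ω = ω := one_smul _ ω

variable (T X)

/-- Right orbits are the same. -/
def rrSetoid : Setoid X where
  r a b := ∃ s : T, b = rr s a
  iseqv :=
    { refl := fun a => ⟨1, (rr_one a).symm⟩
      symm := by
        rintro a b ⟨s, rfl⟩
        refine ⟨s⁻¹, ?_⟩
        rw [rr_rr, mul_inv_cancel, rr_one]
      trans := by
        rintro a b c ⟨s, rfl⟩ ⟨t, rfl⟩
        exact ⟨s * t, rr_rr _ _ _⟩ }

/-- The right orbits. -/
def OrbY : Type u := Quotient (rrSetoid T X)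

noncomputable instance [Finite X] : Fintype (OrbY T X) :=
  @Fintype.ofFinite _ (Quotient.finite _)

variable {T X}

/-- The chosen representative. -/
noncomputable def rep (y : OrbY T X) : X := Quotient.out y

/-- The orbit of a point. -/
def mkY (ω : X) : OrbY T X := Quotient.mk (rrSetoid T X) ω

theorem mkY_rep (y : OrbY T X) : mkY (rep y) = y := Quotient.out_eq y

theorem mkY_rr (s : T) (ω : X) : (mkY (rr s ω) : OrbY T X) = mkY ω :=
  Quotient.sound (s := rrSetoid T X) (Setoid.symm' _ ⟨s, rfl⟩)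

theorem exists_cf (ω : X) : ∃ s : T, ω = rr s (rep (mkY ω : OrbY T X)) :=
  Quotient.exact (s := rrSetoid T X) (mkY_rep (mkY ω : OrbY T X))

/-- The coordinate. -/
noncomputable def cf (ω : X) : T := Classical.choose (exists_cf (T := T) ω)

theorem hcf (ω : X) : ω = rr (cf (T := T) ω) (rep (mkY ω : OrbY T X)) := Classical.choose_spec (exists_cf ω)

/-- The action on right orbits. -/
noncomputable def lft (x : T) (y : OrbY T X) : OrbY T X := mkY (L x (rep y))

/-- The cocycle. -/
noncomputable def cc (x : T) (y : OrbY T X) : T := cf (L x (rep y))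

theorem hcc (x : T) (y : OrbY T X) : L x (rep y) = rr (cc x y) (rep (lft x y)) := hcf _

variable (hfree : ∀ (ω : X) (s : T), ((1 : T), s) • ω = ω → s = 1)

include hfree in
theorem rr_cancel {s s' : T} {ω : X} (h : rr s ω = rr s' ω) : s = s' := by
  have h1 : ((1 : T), s' * s⁻¹) • ω = ω := by
    have : ((1 : T), s') • ((1 : T), s⁻¹) • ω = ((1 : T), s') • ((1 : T), s'⁻¹) • ω := congrArg _ h
    rw [smul_smul, smul_smul, Prod.mk_mul_mk, Prod.mk_mul_mk, mul_one, mul_inv_cancel] at this
    exact this.trans (one_smul _ ω)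
  have h2 := hfree ω _ h1
  exact (mul_inv_eq_one.1 h2).symm

include hfree in
theorem decomp {ω : X} {s : T} {y : OrbY T X} (h : ω = rr s (rep y)) : mkY ω = y ∧ cf ω = s := by
  have h1 : mkY ω = y := by
    rw [h, mkY_rr, mkY_rep]
  refine ⟨h1, ?_⟩
  have h2 := hcf (T := T) ω
  rw [h1] at h2
  exact rr_cancel hfree (h2.symm.trans h)

include hfree in
theorem lft_mul (x x' : T) (y : OrbY T X) :
    lft (x * x') y = lft x (lft x' y) ∧ cc (x * x') y = cc x (lft x' y) * cc x' y := by
  have h : L (x * x') (rep y) = rr (cc x (lft x' y) * cc x' y) (rep (lft x (lft x' y))) := by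
    rw [L_mul, hcc x' y, L_rr, hcc x, rr_rr]
  exact decomp hfree h

include hfree in
theorem lft_one (y : OrbY T X) : lft (1 : T) y = y ∧ cc (1 : T) y = 1 := by
  have h : L (1 : T) (rep y) = rr (1 : T) (rep y) := by
    rw [L_one, rr_one]
  exact decomp hfree h

/-- The permutation of right orbits. -/
noncomputable def lftE (x : T) : Equiv.Perm (OrbY T X) where
  toFun := lft x
  invFun := lft x⁻¹
  left_inv := fun y => by
    rw [← (lft_mul hfree _ _ _).1, inv_mul_cancel, (lft_one hfree y).1]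
  right_inv := fun y => by
    rw [← (lft_mul hfree _ _ _).1, mul_inv_cancel, (lft_one hfree y).1]

variable [Finite X]

/-- The transfer, as a function. -/
noncomputable def tf (x : T) : Abelianization T :=
  ∏ y : OrbY T X, Abelianization.of (cc x y)

include hfree in
theorem tf_mul (x x' : T) : tf (X := X) (x * x') = tf (X := X) x * tf (X := X) x' := by
  unfold tf
  have h1 : ∀ y : OrbY T X, Abelianization.of (cc (x * x') y) =
      Abelianization.of (cc x (lftE hfree x' y)) * Abelianization.of (cc x' y) := by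
    intro y
    rw [(lft_mul hfree _ _ _).2, map_mul]
    rfl
  rw [Finset.prod_congr rfl fun y _ => h1 y, Finset.prod_mul_distrib]
  congr 1
  exact Equiv.prod_comp (lftE hfree x') fun y => Abelianization.of (cc x y)

/-- The transfer, as a homomorphism. -/
noncomputable def tfHom : T →* Abelianization T :=
  MonoidHom.mk' (tf (X := X)) (tf_mul hfree)

theorem tfHom_apply (x : T) : tfHom hfree x = tf (X := X) x := rfl

include hfree in
/-- Isomorphic actions give the same transfer. -/
theorem tf_invariant (x x' : T) (f : X ≃ X) (h1 : ∀ ω, f (L x ω) = L x' (f ω))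
    (h2 : ∀ (s : T) (ω : X), f (rr s ω) = rr s (f ω)) : tf (X := X) x' = tf (X := X) x := by
  classical
  let fb : OrbY T X → OrbY T X := fun y => mkY (f (rep y))
  let d : OrbY T X → T := fun y => cf (f (rep y))
  have hd : ∀ y, f (rep y) = rr (d y) (rep (fb y)) := fun y => hcf _
  have hfbinj : Function.Injective fb := by
    intro a b hab
    have h3 : (mkY (f (rep a)) : OrbY T X) = mkY (f (rep b)) := hab
    have h4 := Quotient.exact (s := rrSetoid T X) h3
    obtain ⟨s, hs⟩ := h4
    rw [← h2] at hs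
    have h5 := f.injective hs
    rw [← mkY_rep a, ← mkY_rep b, h5, mkY_rr]
  have hfbbij : Function.Bijective fb := Finite.injective_iff_bijective.1 hfbinj
  let fbE : Equiv.Perm (OrbY T X) := Equiv.ofBijective fb hfbbij
  have key : ∀ y, cc x' (fb y) * d y = d (lft x y) * cc x y := by
    intro y
    have e1 : f (L x (rep y)) = rr (d (lft x y) * cc x y) (rep (fb (lft x y))) := by
      rw [hcc x y, h2, hd, rr_rr]
    have e2 : f (L x (rep y)) = rr (cc x' (fb y) * d y) (rep (lft x' (fb y))) := by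
      rw [h1, hd y, L_rr, hcc x', rr_rr]
    have e3 := decomp hfree e1
    have e4 := decomp hfree e2
    rw [← e3.2, ← e4.2]
  have hprod : tf (X := X) x' * ∏ y, Abelianization.of (d y) =
      (∏ y, Abelianization.of (d y)) * tf (X := X) x := by
    unfold tf
    have e1 : (∏ y : OrbY T X, Abelianization.of (cc x' y)) = ∏ y, Abelianization.of (cc x' (fbE y)) :=
      (Equiv.prod_comp fbE fun y => Abelianization.of (cc x' y)).symm
    have e2 : (∏ y : OrbY T X, Abelianization.of (d y)) = ∏ y, Abelianization.of (d (lftE hfree x y)) :=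
      (Equiv.prod_comp (lftE hfree x) fun y => Abelianization.of (d y)).symm
    rw [e1, ← Finset.prod_mul_distrib]
    conv_rhs => rw [e2, ← Finset.prod_mul_distrib]
    refine Finset.prod_congr rfl fun y _ => ?_
    rw [← map_mul, ← map_mul]
    exact congrArg _ (key y)
  rw [mul_comm] at hprod
  exact mul_left_cancel hprod

include hfree in
/-- The transfer on a central element. -/
theorem tf_central (z : T) (hz : ∀ (n : ℕ) (ω : X) (c : T), L (z ^ n) ω = rr c ω → c = z ^ n) :
    tf (X := X) z = Abelianization.of z ^ Fintype.card (OrbY T X) := by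
  classical
  have hiter : ∀ (n : ℕ) (y : OrbY T X), ((lftE hfree z) ^ n) y = lft (z ^ n) y ∧
      ∏ j ∈ Finset.range n, Abelianization.of (cc z (((lftE hfree z) ^ j) y)) = Abelianization.of (cc (z ^ n) y) := by
    intro n
    induction n with
    | zero =>
      intro y
      simp only [pow_zero, Finset.range_zero, Finset.prod_empty]
      rw [(lft_one hfree y).1, (lft_one hfree y).2, map_one]
      exact ⟨rfl, rfl⟩
    | succ n ih =>
      intro y
      obtain ⟨h1, h2⟩ := ih y
      have e1 : (z ^ (n + 1) : T) = z * z ^ n := pow_succ' z n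
      refine ⟨?_, ?_⟩
      · rw [pow_succ', Equiv.Perm.mul_apply, h1, e1, (lft_mul hfree _ _ _).1]
        rfl
      · rw [Finset.prod_range_succ, h2, h1, e1, (lft_mul hfree _ _ _).2, map_mul, mul_comm]
  unfold tf
  refine prod_of_cycle (lftE hfree z) _ _ fun y n hn => ?_
  rw [(hiter n y).2, ← map_pow]
  congr 1
  have h1 := (hiter n y).1
  rw [hn] at h1
  apply hz n (rep y)
  have h2 := hcc (z ^ n) y
  rw [← h1] at h2
  exact h2

include hfree in
/-- The size of `X`. -/
theorem card_eq : Nat.card X = Nat.card T * Nat.card (OrbY T X) := by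
  have e : X ≃ (OrbY T X × T) :=
    { toFun := fun ω => (mkY ω, cf ω)
      invFun := fun q => rr q.2 (rep q.1)
      left_inv := fun ω => (hcf ω).symm
      right_inv := fun q => by
        have := decomp (ω := rr q.2 (rep q.1)) hfree rfl
        exact Prod.ext this.1 this.2 }
  rw [Nat.card_congr e, Nat.card_prod, mul_comm]

end Bis

section Fusion

variable {Ω : Type u} [Group Ω] {S : Subgroup Ω} {p : ℕ} [hp : Fact p.Prime]

/-- The transfer, for a saturated system. -/
theorem exists_transfer [Finite S] (hS : IsPGroup p S) {F : FusionSystem S} (hF : F.IsSaturated p) :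
    ∃ (t : ↥S →* Abelianization ↥S) (N : ℕ), N.Coprime p ∧
      (∀ (P : Subgroup Ω) (φ : P →* Ω) (hφ : φ ∈ F.Hom P) (x : P),
        t ⟨φ x, map_mem_S F hφ x⟩ = t ⟨x, source_le F hφ x.2⟩) ∧
      ∀ z : ↥S, (z : Ω) ∈ F.center → t z = Abelianization.of z ^ N := by
  classical
  obtain ⟨X, i1, i2, hX, N, hN, hcard⟩ := exists_char hS hF
  have hfree : ∀ (ω : X) (s : ↥S), ((1 : ↥S), s) • ω = ω → s = 1 := by
    intro ω s h
    obtain ⟨P, φ, hφ, e⟩ := hX.1 ω
    have h1 : ((1 : ↥S), s) ∈ stabilizer (↥S × ↥S) ω := h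
    rw [e] at h1
    obtain ⟨h2, h3⟩ := h1
    have h4 : φ ⟨((1 : ↥S) : Ω), h2⟩ = 1 := map_one φ
    exact Subtype.ext (h3.symm.trans h4)
  have hY : Fintype.card (OrbY ↥S X) = N := by
    have h1 := card_eq (T := ↥S) (X := X) hfree
    rw [hcard] at h1
    have h2 : 0 < Nat.card S := Nat.card_pos
    have h3 := Nat.eq_of_mul_eq_mul_left h2 h1
    rw [h3, Nat.card_eq_fintype_card]
  refine ⟨tfHom hfree, N, hN, ?_, ?_⟩
  · intro P φ hφ x
    rw [tfHom_apply, tfHom_apply]
    have hPS : P ≤ S := source_le F hφ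
    haveI : Finite P := finite_of_le hPS
    -- the two actions of `P × S`
    let u : ↥P × ↥S →* ↥S × ↥S := MonoidHom.prodMap (Subgroup.inclusion hPS) (MonoidHom.id ↥S)
    let v : ↥P × ↥S →* ↥S × ↥S := MonoidHom.prodMap (φ.codRestrict S (map_mem_S F hφ)) (MonoidHom.id ↥S)
    let m : MapPair F u v :=
      { U₁ := P
        U₂ := S
        f₁ := φ
        f₂ := S.subtype
        h₁ := hφ
        h₂ := subtype_mem F le_rfl
        hu₁ := fun h => h.1.2
        hu₂ := fun h => h.2.2
        hv₁ := fun h => rfl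
        hv₂ := fun h => rfl }
    have hmarks : ∀ K : Subgroup (↥P × ↥S), mark K (Tw u X) = mark K (Tw v X) := by
      intro K
      rw [mark_tw, mark_tw]
      exact mark_map_eq hX m K Nat.card_pos
    haveI : Finite (Tw u X) := i2
    haveI : Finite (Tw v X) := i2
    obtain ⟨f, hf⟩ := iso_of_marks hmarks
    let f' : X ≃ X := f
    have hf' : ∀ (h : ↥P × ↥S) (ω : X), f' (u h • ω) = v h • f' ω := hf
    refine tf_invariant hfree _ _ f' (fun ω => ?_) (fun s ω => ?_)
    · exact hf' (x, 1) ω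
    · have e1 : u (1, s⁻¹) = ((1 : ↥S), s⁻¹) := Prod.ext (map_one (Subgroup.inclusion hPS)) rfl
      have e2 : v (1, s⁻¹) = ((1 : ↥S), s⁻¹) := Prod.ext (map_one (φ.codRestrict S (map_mem_S F hφ))) rfl
      have h3 := hf' (1, s⁻¹) ω
      rw [e1, e2] at h3
      exact h3
  · intro z hz
    rw [tfHom_apply, ← hY]
    refine tf_central hfree z ?_
    intro n ω c h
    -- the pair lies in a stabilizer
    have hst : ((z ^ n : ↥S), c) ∈ stabilizer (↥S × ↥S) ω := by
      rw [mem_stabilizer_iff]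
      have h1 : ((1 : ↥S), c) • (z ^ n, (1 : ↥S)) • ω = ((1 : ↥S), c) • ((1 : ↥S), c⁻¹) • ω := congrArg _ h
      rw [smul_smul, smul_smul, Prod.mk_mul_mk, Prod.mk_mul_mk, one_mul, mul_one, mul_inv_cancel, mul_one] at h1
      exact h1.trans (one_smul _ ω)
    obtain ⟨Q, ψ, hψ, e⟩ := hX.1 ω
    rw [e] at hst
    obtain ⟨h2, h3⟩ := hst
    have hcen := isCentral_center F
    obtain ⟨ψt, hψt, h4, h5⟩ := hcen.2 Q ψ hψ
    have hzn : (((z ^ n : ↥S)) : Ω) ∈ F.center := by
      rw [SubgroupClass.coe_pow]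
      exact F.center.pow_mem hz n
    have h6 := h4 ⟨_, h2⟩
    have h7 := h5 ⟨_, hzn⟩
    have h8 : (Subgroup.inclusion (le_sup_left : Q ≤ Q ⊔ F.center) ⟨_, h2⟩) =
        (Subgroup.inclusion (le_sup_right : F.center ≤ Q ⊔ F.center) ⟨_, hzn⟩) := rfl
    rw [h8, h7] at h6
    apply Subtype.ext
    show (c : Ω) = _
    rw [← h3]
    exact h6.symm

/-- The focal subgroup meets the centre as the commutator subgroup does. -/
theorem focal_inter_center [Finite S] (hS : IsPGroup p S) {F : FusionSystem S} (hF : F.IsSaturated p) :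
    F.focalSubgroup ⊓ F.center = ⁅S, S⁆ ⊓ F.center := by
  classical
  apply le_antisymm
  · obtain ⟨t, N, hN, ht, hz⟩ := exists_transfer hS hF
    have hfoc : ∀ g ∈ F.focalSubgroup, ∃ h : g ∈ S, t ⟨g, h⟩ = 1 := by
      intro g hg
      induction hg using Subgroup.closure_induction with
      | mem y hy =>
        obtain ⟨P, φ, x, hφ, rfl⟩ := hy
        have hxS := source_le F hφ x.2
        have hφS := map_mem_S F hφ x
        refine ⟨S.mul_mem (S.inv_mem hxS) hφS, ?_⟩
        have e : (⟨(x : Ω)⁻¹ * φ x, S.mul_mem (S.inv_mem hxS) hφS⟩ : ↥S) =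
            (⟨x, hxS⟩ : ↥S)⁻¹ * ⟨φ x, hφS⟩ := rfl
        rw [e, map_mul, map_inv, ht P φ hφ x, inv_mul_cancel]
      | one => exact ⟨S.one_mem, map_one t⟩
      | mul a b _ _ ha hb =>
        obtain ⟨h1, h2⟩ := ha
        obtain ⟨h3, h4⟩ := hb
        refine ⟨S.mul_mem h1 h3, ?_⟩
        have e : (⟨a * b, S.mul_mem h1 h3⟩ : ↥S) = ⟨a, h1⟩ * ⟨b, h3⟩ := rfl
        rw [e, map_mul, h2, h4, one_mul]
      | inv a _ ha =>
        obtain ⟨h1, h2⟩ := ha
        refine ⟨S.inv_mem h1, ?_⟩
        have e : (⟨a⁻¹, S.inv_mem h1⟩ : ↥S) = (⟨a, h1⟩ : ↥S)⁻¹ := rfl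
        rw [e, map_inv, h2, inv_one]
    rintro x ⟨hx1, hx2⟩
    obtain ⟨hxS, hx3⟩ := hfoc x hx1
    refine ⟨?_, hx2⟩
    rw [hz ⟨x, hxS⟩ hx2, ← map_pow] at hx3
    have hker : (⟨x, hxS⟩ : ↥S) ^ N ∈ commutator ↥S := by
      rw [← Abelianization.ker_of]
      exact hx3
    obtain ⟨k, hk⟩ := hS ⟨x, hxS⟩
    have hco : N.Coprime (orderOf (⟨x, hxS⟩ : ↥S)) :=
      Nat.Coprime.coprime_dvd_right (orderOf_dvd_of_pow_eq_one hk) (hN.pow_right k)
    obtain ⟨m, hm⟩ := exists_pow_eq_self_of_coprime hco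
    have hcomm : (⟨x, hxS⟩ : ↥S) ∈ commutator ↥S := by
      rw [← hm]
      exact Subgroup.pow_mem _ hker m
    have h1 : x ∈ (commutator ↥S).map S.subtype := ⟨_, hcomm, rfl⟩
    rwa [Subgroup.map_subtype_commutator] at h1
  · exact inf_le_inf_right _ (Cfsg.Agent.Lib.FusionHyp.commutator_le_foc F)

end Fusion

end Cfsg.Agent.Lib.BisetTransfer
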