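import Mathlib
import Cfsg.Agent.Lib.BisetTransfer

/-! Thompson transfer for saturated systems on `2`-groups. -/

set_option autoImplicit false
set_option linter.all false

namespace Cfsg.Agent.Lib.BisetParity

open Cfsg Cfsg.FusionSystem MulAction Cfsg.Agent.Lib.BisetGSet Cfsg.Agent.Lib.FusionBasic
  Cfsg.Agent.Lib.BisetGraph Cfsg.Agent.Lib.BisetExist Cfsg.Agent.Lib.BisetTransfer Cfsg.Agent.Lib.FusionSat

universe u

section Count

variable {T : Type u} [Group T] {X : Type u} [MulAction (T × T) X]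

/-- Right orbits fixed by `i`, with cocycle conjugate to `c`. -/
def Zc (X : Type u) [MulAction (T × T) X] (i c : T) : Set (OrbY T X) := {y | lft i y = y ∧ IsConj (cc i y) c}

variable (hfree : ∀ (ω : X) (s : T), ((1 : T), s) • ω = ω → s = 1)

include hfree in
theorem card_fix (i c : T) :
    Nat.card {ω : X // L i ω = rr c ω} = Nat.card (Zc X i c) * Nat.card (Subgroup.centralizer ({c} : Set T)) := by
  classical
  have hs : ∀ y : Zc X i c, ∃ s : T, s⁻¹ * cc i (y : OrbY T X) * s = c := by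
    intro y
    obtain ⟨g, hg⟩ := isConj_iff.1 y.2.2
    exact ⟨g⁻¹, by rw [inv_inv]; exact hg⟩
  choose s hs' using hs
  have hfw : ∀ w : {ω : X // L i ω = rr c ω}, mkY w.1 ∈ Zc X i c ∧ cc i (mkY w.1 : OrbY T X) * cf w.1 = cf w.1 * c := by
    rintro ⟨ω, hω⟩
    set y : OrbY T X := mkY ω with hy
    set t : T := cf ω with ht
    have h0 : ω = rr t (rep y) := hcf ω
    have e1 : L i ω = rr (cc i y * t) (rep (lft i y)) := by
      rw [h0, L_rr, hcc, rr_rr]
    have e2 : L i ω = rr (t * c) (rep y) := by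
      rw [hω]
      conv_lhs => rw [h0]
      rw [rr_rr]
    have d1 := decomp hfree e1
    have d2 := decomp hfree e2
    have e3 : lft i y = y := d1.1.symm.trans d2.1
    have e4 : cc i y * t = t * c := d1.2.symm.trans d2.2
    refine ⟨⟨e3, isConj_iff.2 ⟨t⁻¹, ?_⟩⟩, e4⟩
    rw [inv_inv]
    calc t⁻¹ * cc i y * t = t⁻¹ * (cc i y * t) := by group
      _ = t⁻¹ * (t * c) := by rw [e4]
      _ = c := by group
  have e : {ω : X // L i ω = rr c ω} ≃ (Zc X i c × Subgroup.centralizer ({c} : Set T)) :=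
    { toFun := fun w => (⟨mkY w.1, (hfw w).1⟩, ⟨(s ⟨mkY w.1, (hfw w).1⟩)⁻¹ * cf w.1, by
        rw [Subgroup.mem_centralizer_iff]
        intro h hh
        rw [Set.mem_singleton_iff] at hh
        rw [hh]
        have h1 := hs' ⟨mkY w.1, (hfw w).1⟩
        have h2 := (hfw w).2
        set σ := s ⟨mkY w.1, (hfw w).1⟩
        have h3 : c * (σ⁻¹ * cf w.1) = σ⁻¹ * (cc i (mkY w.1 : OrbY T X) * cf w.1) := by
          calc c * (σ⁻¹ * cf w.1) = (σ⁻¹ * cc i (mkY w.1 : OrbY T X) * σ) * (σ⁻¹ * cf w.1) := by rw [h1]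
            _ = _ := by group
        rw [h3, h2]
        group⟩)
      invFun := fun q => ⟨rr (s q.1 * q.2) (rep (q.1 : OrbY T X)), by
        have hc : (q.2 : T) * c = c * q.2 := by
          have := Subgroup.mem_centralizer_iff.1 q.2.2 c rfl
          exact this.symm
        have h1 := hs' q.1
        have h2 : cc i (q.1 : OrbY T X) * s q.1 = s q.1 * c := by
          calc cc i (q.1 : OrbY T X) * s q.1 = s q.1 * ((s q.1)⁻¹ * cc i (q.1 : OrbY T X) * s q.1) := by group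
            _ = _ := by rw [h1]
        rw [L_rr, hcc, q.1.2.1, rr_rr, rr_rr, ← mul_assoc, h2, mul_assoc, mul_assoc, hc]⟩
      left_inv := by
        rintro ⟨ω, hω⟩
        apply Subtype.ext
        show rr (s ⟨mkY ω, _⟩ * ((s ⟨mkY ω, _⟩)⁻¹ * cf ω)) (rep (mkY ω : OrbY T X)) = ω
        rw [mul_inv_cancel_left]
        exact (hcf ω).symm
      right_inv := by
        rintro ⟨y, g⟩
        have d := decomp (ω := rr (s y * g) (rep (y : OrbY T X))) hfree rfl
        have e1 : (⟨mkY (rr (s y * g) (rep (y : OrbY T X))), by rw [d.1]; exact y.2⟩ : Zc X i c) = y := Subtype.ext d.1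
        apply Prod.ext
        · exact e1
        · apply Subtype.ext
          show (s ⟨mkY (rr (s y * g) (rep (y : OrbY T X))), _⟩)⁻¹ * cf (rr (s y * g) (rep (y : OrbY T X))) = g
          have e2 : s ⟨mkY (rr (s y * g) (rep (y : OrbY T X))), by rw [d.1]; exact y.2⟩ = s y := congrArg s e1
          rw [e2, d.2]
          group }
  rw [Nat.card_congr e, Nat.card_prod]

end Count

section Stable

variable {Ω : Type u} [Group Ω] {S : Subgroup Ω}

/-- Invariance of the transfer. -/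
theorem tf_stable {F : FusionSystem S} [Finite S] {X : Type u} [MulAction (↥S × ↥S) X] [Finite X]
    (hX : GoodAbove F X 0) (hfree : ∀ (ω : X) (s : ↥S), ((1 : ↥S), s) • ω = ω → s = 1)
    (P : Subgroup Ω) (φ : P →* Ω) (hφ : φ ∈ F.Hom P) (x : P) :
    tf (X := X) (⟨φ x, map_mem_S F hφ x⟩ : ↥S) = tf (X := X) (⟨x, source_le F hφ x.2⟩ : ↥S) := by
  have hPS : P ≤ S := source_le F hφ
  haveI : Finite P := finite_of_le hPS
  let u : ↥P × ↥S →* ↥S × ↥S := MonoidHom.prodMap (Subgroup.inclusion hPS) (MonoidHom.id ↥S)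
  let v : ↥P × ↥S →* ↥S × ↥S := MonoidHom.prodMap (φ.codRestrict S (map_mem_S F hφ)) (MonoidHom.id ↥S)
  let m : MapPair F u v :=
    { U₁ := P
      U₂ := S
      f₁ := φ
      f₂ := S.subtype
      h₁ := hφ
      h₂ := subtype_mem F le_rfl
      hu₁ := fun h => h.1.2
      hu₂ := fun h => h.2.2
      hv₁ := fun h => rfl
      hv₂ := fun h => rfl }
  have hmarks : ∀ K : Subgroup (↥P × ↥S), mark K (Tw u X) = mark K (Tw v X) := by
    intro K
    rw [mark_tw, mark_tw]
    exact mark_map_eq hX m K Nat.card_pos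
  haveI : Finite (Tw u X) := ‹Finite X›
  haveI : Finite (Tw v X) := ‹Finite X›
  obtain ⟨f, hf⟩ := iso_of_marks hmarks
  let f' : X ≃ X := f
  have hf' : ∀ (h : ↥P × ↥S) (ω : X), f' (u h • ω) = v h • f' ω := hf
  refine tf_invariant hfree _ _ f' (fun ω => ?_) (fun s ω => ?_)
  · exact hf' (x, 1) ω
  · have e1 : u (1, s⁻¹) = ((1 : ↥S), s⁻¹) := Prod.ext (map_one (Subgroup.inclusion hPS)) rfl
    have e2 : v (1, s⁻¹) = ((1 : ↥S), s⁻¹) := Prod.ext (map_one (φ.codRestrict S (map_mem_S F hφ))) rfl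
    have h3 := hf' (1, s⁻¹) ω
    rw [e1, e2] at h3
    exact h3

/-- A homomorphism invariant under the system kills the focal subgroup. -/
theorem foc_kill {F : FusionSystem S} {A : Type*} [Group A] (t : ↥S →* A)
    (ht : ∀ (P : Subgroup Ω) (φ : P →* Ω) (hφ : φ ∈ F.Hom P) (x : P),
      t ⟨φ x, map_mem_S F hφ x⟩ = t ⟨x, source_le F hφ x.2⟩) :
    ∀ g ∈ F.focalSubgroup, ∃ h : g ∈ S, t ⟨g, h⟩ = 1 := by
  intro g hg
  induction hg using Subgroup.closure_induction with
  | mem y hy =>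
    obtain ⟨P, φ, x, hφ, rfl⟩ := hy
    have hxS := source_le F hφ x.2
    have hφS := map_mem_S F hφ x
    refine ⟨S.mul_mem (S.inv_mem hxS) hφS, ?_⟩
    have e : (⟨(x : Ω)⁻¹ * φ x, S.mul_mem (S.inv_mem hxS) hφS⟩ : ↥S) =
        (⟨x, hxS⟩ : ↥S)⁻¹ * ⟨φ x, hφS⟩ := rfl
    rw [e, map_mul, map_inv, ht P φ hφ x, inv_mul_cancel]
  | one => exact ⟨S.one_mem, map_one t⟩
  | mul a b _ _ ha hb =>
    obtain ⟨h1, h2⟩ := ha
    obtain ⟨h3, h4⟩ := hb
    refine ⟨S.mul_mem h1 h3, ?_⟩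
    have e : (⟨a * b, S.mul_mem h1 h3⟩ : ↥S) = ⟨a, h1⟩ * ⟨b, h3⟩ := rfl
    rw [e, map_mul, h2, h4, one_mul]
  | inv a _ ha =>
    obtain ⟨h1, h2⟩ := ha
    refine ⟨S.inv_mem h1, ?_⟩
    have e : (⟨a⁻¹, S.inv_mem h1⟩ : ↥S) = (⟨a, h1⟩ : ↥S)⁻¹ := rfl
    rw [e, map_inv, h2, inv_one]

/-- The number of elements normalizing the subgroup generated by an involution. -/
theorem card_normalizerIn_zpowers {a : Ω} (ha : a ∈ S) (h2 : orderOf a = 2) :
    Nat.card (normalizerIn S (Subgroup.zpowers a)) =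
      Nat.card (Subgroup.centralizer ({(⟨a, ha⟩ : ↥S)} : Set ↥S)) := by
  have hak : a ^ (2 : ℤ) = 1 := by
    have : a ^ (2 : ℕ) = 1 := by rw [← h2]; exact pow_orderOf_eq_one a
    exact_mod_cast this
  have ha1 : a ≠ 1 := by
    rintro rfl
    simp at h2
  have hmem : ∀ x : Ω, x ∈ Subgroup.zpowers a ↔ x = 1 ∨ x = a := by
    intro x
    constructor
    · rintro ⟨k, rfl⟩
      rcases Int.even_or_odd' k with ⟨m, rfl | rfl⟩
      · left
        show a ^ (2 * m) = 1
        rw [zpow_mul, hak, one_zpow]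
      · right
        show a ^ (2 * m + 1) = a
        rw [zpow_add, zpow_mul, hak, one_zpow, one_mul, zpow_one]
    · rintro (rfl | rfl)
      · exact one_mem _
      · exact Subgroup.mem_zpowers _
  have hcent : ∀ x : Ω, x ∈ Subgroup.normalizer ((Subgroup.zpowers a : Subgroup Ω) : Set Ω) ↔ x * a * x⁻¹ = a := by
    intro x
    constructor
    · intro hx
      have h1 := (Subgroup.mem_normalizer_iff.1 hx a).1 (Subgroup.mem_zpowers a)
      rcases (hmem _).1 h1 with h3 | h3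
      · exfalso
        apply ha1
        have : a = x⁻¹ * (x * a * x⁻¹) * x := by group
        rw [this, h3]
        group
      · exact h3
    · intro hx
      refine Subgroup.mem_normalizer_iff.2 fun h => ⟨fun hh => ?_, fun hh => ?_⟩
      · rcases (hmem h).1 hh with rfl | rfl
        · simp
        · rw [hx]
          exact Subgroup.mem_zpowers _
      · rcases (hmem _).1 hh with h3 | h3
        · have : h = 1 := by
            have e : h = x⁻¹ * (x * h * x⁻¹) * x := by group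
            rw [e, h3]
            group
          rw [this]
          exact one_mem _
        · have : h = a := by
            have e : h = x⁻¹ * (x * h * x⁻¹) * x := by group
            rw [e, h3]
            nth_rw 1 [← hx]
            group
          rw [this]
          exact Subgroup.mem_zpowers _
  refine Nat.card_congr
    { toFun := fun x => ⟨⟨x, x.2.1⟩, ?_⟩
      invFun := fun y => ⟨y.1, ⟨y.1.2, ?_⟩⟩
      left_inv := fun x => rfl
      right_inv := fun y => rfl }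
  · rw [Subgroup.mem_centralizer_iff]
    intro h hh
    rw [Set.mem_singleton_iff] at hh
    rw [hh]
    apply Subtype.ext
    have h1 := (hcent _).1 x.2.2
    show a * (x : Ω) = x * a
    calc a * (x : Ω) = (x * a * (x : Ω)⁻¹) * x := by rw [h1]
      _ = x * a := by group
  · refine (hcent _).2 ?_
    have h1 := Subgroup.mem_centralizer_iff.1 y.2 ⟨a, ha⟩ rfl
    have h3 : a * (y.1 : Ω) = y.1 * a := congrArg Subtype.val h1
    show (y.1 : Ω) * a * (y.1 : Ω)⁻¹ = a
    rw [← h3]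
    group

end Stable

section Main

variable {Ω : Type u} [Group Ω] {S : Subgroup Ω}

theorem range_zpowers {a : Ω} (ψ : ↥(Subgroup.zpowers a) →* Ω) :
    ψ.range = Subgroup.zpowers (ψ ⟨a, Subgroup.mem_zpowers a⟩) := by
  ext y
  constructor
  · rintro ⟨⟨_, k, rfl⟩, rfl⟩
    refine ⟨k, ?_⟩
    show (ψ ⟨a, _⟩) ^ k = ψ ⟨a ^ k, _⟩
    rw [← map_zpow]
    rfl
  · rintro ⟨k, rfl⟩
    exact ⟨(⟨a, Subgroup.mem_zpowers a⟩ : ↥(Subgroup.zpowers a)) ^ k, map_zpow _ _ _⟩

theorem L_eq_rr_iff {T X : Type u} [Group T] [MulAction (T × T) X] {a c : T} {ω : X} :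
    (a, c) • ω = ω ↔ L a ω = rr c ω := by
  have e : ((a, c) : T × T) = ((1 : T), c) * (a, (1 : T)) := by simp
  have e2 : ((1 : T), c) * ((1 : T), c⁻¹) = 1 := by simp
  constructor
  · intro h
    show (a, (1 : T)) • ω = ((1 : T), c⁻¹) • ω
    calc (a, (1 : T)) • ω = (((1 : T), c⁻¹) * (a, c)) • ω := by simp
      _ = ((1 : T), c⁻¹) • (a, c) • ω := mul_smul _ _ _
      _ = ((1 : T), c⁻¹) • ω := by rw [h]
  · intro h
    have h1 : (a, (1 : T)) • ω = ((1 : T), c⁻¹) • ω := h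
    rw [e, mul_smul, h1, smul_smul, e2, one_smul]

theorem thompson [Finite S] (hS : IsPGroup 2 S) (F : FusionSystem S) (hF : F.IsSaturated 2)
    (T : Subgroup Ω) (hTS : T ≤ S) (hT : T.relIndex S = 2) (i : Ω) (hi : i ∈ S) (hi2 : orderOf i = 2)
    (h : ∀ j : Ω, F.IsConjElt i j → F.IsFullyNormalized (Subgroup.zpowers j) → j ∉ T) :
    i ∉ F.hyperfocalSubgroup 2 := by
  classical
  haveI : Fact (Nat.Prime 2) := ⟨Nat.prime_two⟩
  obtain ⟨X, i1, i2, hX, N, hN, hcard⟩ := exists_char hS hF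
  have hfree : ∀ (ω : X) (s : ↥S), ((1 : ↥S), s) • ω = ω → s = 1 := by
    intro ω s h'
    obtain ⟨P, φ, hφ, e⟩ := hX.1 ω
    have h1 : ((1 : ↥S), s) ∈ stabilizer (↥S × ↥S) ω := h'
    rw [e] at h1
    obtain ⟨h2, h3⟩ := h1
    have h4 : φ ⟨((1 : ↥S) : Ω), h2⟩ = 1 := map_one φ
    exact Subtype.ext (h3.symm.trans h4)
  have hY : Fintype.card (OrbY ↥S X) = N := by
    have h1 := card_eq (T := ↥S) (X := X) hfree
    rw [hcard] at h1
    have h2 : 0 < Nat.card S := Nat.card_pos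
    have h3 := Nat.eq_of_mul_eq_mul_left h2 h1
    rw [h3, Nat.card_eq_fintype_card]
  intro hmem
  let i₀ : ↥S := ⟨i, hi⟩
  have hi₀ : i₀ * i₀ = 1 := by
    apply Subtype.ext
    show i * i = 1
    rw [← pow_two, ← hi2]
    exact pow_orderOf_eq_one i
  let T' : Subgroup ↥S := T.subgroupOf S
  have hT' : T'.index = 2 := hT
  haveI hTn : T'.Normal := Subgroup.normal_of_index_eq_two hT'
  let sg : ↥S →* ℤˣ := MonoidHom.mk' (fun x => if x ∈ T' then 1 else -1) (by
    intro a b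
    by_cases ha : a ∈ T' <;> by_cases hb : b ∈ T' <;> simp [ha, hb, Subgroup.mul_mem_iff_of_index_two hT'])
  have hsg1 : ∀ x, x ∈ T' → sg x = 1 := fun x hx => if_pos hx
  have hsg2 : ∀ x, x ∉ T' → sg x = -1 := fun x hx => if_neg hx
  let τ : ↥S →* ℤˣ := (Abelianization.lift sg).comp (tfHom hfree)
  have hτv : ∀ x, τ x = ∏ y : OrbY ↥S X, sg (cc x y) := by
    intro x
    show Abelianization.lift sg (tf (X := X) x) = _
    unfold tf
    rw [map_prod]
    refine Finset.prod_congr rfl fun y _ => ?_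
    exact Abelianization.lift_apply_of sg _
  have hτs : ∀ (P : Subgroup Ω) (φ : P →* Ω) (hφ : φ ∈ F.Hom P) (x : P),
      τ ⟨φ x, map_mem_S F hφ x⟩ = τ ⟨x, source_le F hφ x.2⟩ := by
    intro P φ hφ x
    show Abelianization.lift sg (tf (X := X) _) = Abelianization.lift sg (tf (X := X) _)
    rw [tf_stable hX hfree P φ hφ x]
  obtain ⟨hh0, hτi⟩ := foc_kill τ hτs i (Cfsg.Agent.Lib.FusionHyp.hyp_le_foc F hmem)
  have hτi' : τ i₀ = 1 := hτi
  -- the involution on right orbits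
  let σ : OrbY ↥S X → OrbY ↥S X := lft i₀
  have hσσ : ∀ y, σ (σ y) = y := by
    intro y
    have h1 := (lft_mul hfree i₀ i₀ y).1
    rw [hi₀, (lft_one hfree y).1] at h1
    exact h1.symm
  have hcσ : ∀ y, sg (cc i₀ y) * sg (cc i₀ (σ y)) = 1 := by
    intro y
    have h1 := (lft_mul hfree i₀ i₀ y).2
    rw [hi₀, (lft_one hfree y).2] at h1
    rw [mul_comm, ← map_mul, ← h1, map_one]
  have hneg1 : (-1 : ℤˣ) ≠ 1 := by decide
  let fx : Finset (OrbY ↥S X) := Finset.univ.filter (fun y => σ y = y)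
  let nfx : Finset (OrbY ↥S X) := Finset.univ.filter (fun y => ¬ σ y = y)
  have hnfxm : ∀ y ∈ nfx, σ y ∈ nfx := by
    intro y hy
    have hy' : ¬ σ y = y := (Finset.mem_filter.1 hy).2
    refine Finset.mem_filter.2 ⟨Finset.mem_univ _, fun e => hy' ?_⟩
    exact ((hσσ y).symm.trans e).symm
  have hout : ∏ y ∈ nfx, sg (cc i₀ y) = 1 :=
    Finset.prod_involution (fun y _ => σ y) (fun y _ => hcσ y)
      (fun y hy _ => (Finset.mem_filter.1 hy).2) hnfxm (fun y _ => hσσ y)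
  have hevn : Even nfx.card := by
    have h1 : ∏ y ∈ nfx, (-1 : ℤˣ) = 1 :=
      Finset.prod_involution (fun y _ => σ y) (fun y _ => by decide)
        (fun y hy _ => (Finset.mem_filter.1 hy).2) hnfxm (fun y _ => hσσ y)
    rw [Finset.prod_const] at h1
    exact (neg_one_pow_eq_one_iff_even hneg1).1 h1
  have hsum : fx.card + nfx.card = N := by
    rw [← hY, ← Finset.card_univ]
    exact Finset.card_filter_add_card_filter_not _
  -- elements arising in fixed orbits
  have hconjelt : ∀ y, σ y = y → ∃ ψ ∈ F.Hom (Subgroup.zpowers i),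
      ψ ⟨i, Subgroup.mem_zpowers i⟩ = ((cc i₀ y : ↥S) : Ω) := by
    intro y hy
    have h1 : L i₀ (rep y) = rr (cc i₀ y) (rep y) := by
      have := hcc i₀ y
      have e : lft i₀ y = y := hy
      rwa [e] at this
    have h2 := L_eq_rr_iff.2 h1
    have h3 : (i₀, cc i₀ y) ∈ stabilizer (↥S × ↥S) (rep y) := h2
    obtain ⟨Q, ψ', hψ', e⟩ := hX.1 (rep y)
    rw [e] at h3
    obtain ⟨h4, h5⟩ := h3
    have hle : Subgroup.zpowers i ≤ Q := (Subgroup.zpowers_le).2 h4
    exact ⟨ψ'.comp (Subgroup.inclusion hle), restrict_mem F hψ' hle, h5⟩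
  have hmark : ∀ (c : ↥S) (ψ : ↥(Subgroup.zpowers i) →* Ω), ψ ∈ F.Hom (Subgroup.zpowers i) →
      ψ ⟨i, Subgroup.mem_zpowers i⟩ = (c : Ω) →
      mark (graph ψ : Subgroup (↥S × ↥S)) X = Nat.card {ω : X // L i₀ ω = rr c ω} := by
    intro c ψ hψ hc
    have hset : fix (graph ψ : Subgroup (↥S × ↥S)) X = {ω : X | L i₀ ω = rr c ω} := by
      ext ω
      constructor
      · intro hω
        have h1 : (i₀, c) ∈ (graph ψ : Subgroup (↥S × ↥S)) := ⟨Subgroup.mem_zpowers i, hc⟩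
        exact L_eq_rr_iff.1 (hω _ h1)
      · intro hω g hg
        obtain ⟨⟨k, hk⟩, h2⟩ := hg
        have h1 : (i₀, c) ∈ stabilizer (↥S × ↥S) ω := L_eq_rr_iff.2 hω
        have h3 : (i₀, c) ^ k ∈ stabilizer (↥S × ↥S) ω := Subgroup.zpow_mem _ h1 k
        have e : (i₀, c) ^ k = g := by
          apply Prod.ext
          · apply Subtype.ext
            exact hk
          · apply Subtype.ext
            rw [← h2]
            have e1 : (⟨((g.1 : ↥S) : Ω), ⟨k, hk⟩⟩ : ↥(Subgroup.zpowers i)) =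
                (⟨i, Subgroup.mem_zpowers i⟩ : ↥(Subgroup.zpowers i)) ^ k := Subtype.ext hk.symm
            rw [e1, map_zpow, hc]
            rfl
        rw [e] at h3
        exact h3
    unfold mark
    rw [hset]
    rfl
  have hMconst : ∀ (ψ ψ' : ↥(Subgroup.zpowers i) →* Ω), ψ ∈ F.Hom (Subgroup.zpowers i) →
      ψ' ∈ F.Hom (Subgroup.zpowers i) →
      mark (graph ψ : Subgroup (↥S × ↥S)) X = mark (graph ψ' : Subgroup (↥S × ↥S)) X := by
    intro ψ ψ' hψ hψ'
    refine hX.2 _ _ ⟨_, ψ, hψ, rfl⟩ ⟨_, ψ', hψ', rfl⟩ Nat.card_pos ?_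
    show F.IsConj _ _
    rw [dom_graph hψ, dom_graph hψ']
    exact isConj_refl F (source_le F hψ)
  have hiS : Subgroup.zpowers i ≤ S := (Subgroup.zpowers_le).2 hi
  obtain ⟨Q, ⟨φ, hφ, hQr⟩, hQfn⟩ := exists_isConj_fullyNormalized F hiS
  set j : Ω := φ ⟨i, Subgroup.mem_zpowers i⟩ with hj
  have hjS : j ∈ S := map_mem_S F hφ _
  have hQj : Q = Subgroup.zpowers j := by
    rw [← hQr]
    exact range_zpowers φ
  subst hQj
  have hord : ∀ ψ : ↥(Subgroup.zpowers i) →* Ω, ψ ∈ F.Hom (Subgroup.zpowers i) →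
      orderOf (ψ ⟨i, Subgroup.mem_zpowers i⟩) = 2 := by
    intro ψ hψ
    rw [orderOf_injective ψ (F.injective_of_mem hψ), Subgroup.orderOf_mk, hi2]
  have hjo := hord φ hφ
  have heven : ∀ c : ↥S, c ∈ T' → (∃ ψ ∈ F.Hom (Subgroup.zpowers i), ψ ⟨i, Subgroup.mem_zpowers i⟩ = (c : Ω)) →
      2 ∣ Nat.card (Zc X i₀ c) := by
    rintro c hcT ⟨ψ, hψ, hψc⟩
    have hco : orderOf (c : Ω) = 2 := by
      rw [← hψc]
      exact hord ψ hψ
    have e1 := hmark c ψ hψ hψc
    have e2 := hmark ⟨j, hjS⟩ φ hφ rfl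
    have e3 := hMconst ψ φ hψ hφ
    rw [e1, e2, card_fix hfree, card_fix hfree] at e3
    have hn1 := card_normalizerIn_zpowers c.2 hco
    have hn2 := card_normalizerIn_zpowers hjS hjo
    have hconj : F.IsConj (Subgroup.zpowers j) (Subgroup.zpowers (c : Ω)) := by
      refine isConj_trans F (isConj_symm F ⟨φ, hφ, hQr⟩) ⟨ψ, hψ, ?_⟩
      rw [range_zpowers ψ, hψc]
    have hle := hQfn.2 _ hconj
    have hne : Nat.card (normalizerIn S (Subgroup.zpowers (c : Ω))) ≠ Nat.card (normalizerIn S (Subgroup.zpowers j)) := by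
      intro e
      refine h (c : Ω) ⟨ψ, hψ, hψc⟩ ⟨(Subgroup.zpowers_le).2 c.2, fun Q' hQ' => ?_⟩ hcT
      rw [e]
      exact hQfn.2 _ (isConj_trans F hconj hQ')
    have hlt := lt_of_le_of_ne hle hne
    rw [hn1, hn2] at hlt
    obtain ⟨a, ha⟩ := IsPGroup.iff_card.1 (hS.to_subgroup (Subgroup.centralizer ({c} : Set ↥S)))
    obtain ⟨b, hb⟩ := IsPGroup.iff_card.1 (hS.to_subgroup (Subgroup.centralizer ({(⟨j, hjS⟩ : ↥S)} : Set ↥S)))
    have hc' : c = ⟨(c : Ω), c.2⟩ := rfl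
    rw [← hc'] at hlt
    rw [ha, hb] at hlt
    have hab : a < b := (Nat.pow_lt_pow_iff_right (by norm_num)).1 hlt
    rw [ha, hb] at e3
    obtain ⟨d, rfl⟩ := Nat.exists_eq_add_of_lt hab
    have e4 : Nat.card (Zc X i₀ c) * 2 ^ a = (Nat.card (Zc X i₀ (⟨j, hjS⟩ : ↥S)) * 2 ^ (d + 1)) * 2 ^ a := by
      rw [e3]
      ring
    have e5 := Nat.eq_of_mul_eq_mul_right (by positivity) e4
    rw [e5, pow_succ]
    exact ⟨Nat.card (Zc X i₀ (⟨j, hjS⟩ : ↥S)) * 2 ^ d, by ring⟩
  -- parity of the part inside the index two subgroup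
  let UT : Finset (OrbY ↥S X) := fx.filter (fun y => cc i₀ y ∈ T')
  let UO : Finset (OrbY ↥S X) := fx.filter (fun y => ¬ cc i₀ y ∈ T')
  have hUT : 2 ∣ UT.card := by
    rw [Finset.card_eq_sum_card_image (fun y => ConjClasses.mk (cc i₀ y)) UT]
    refine Finset.dvd_sum fun κ hκ => ?_
    obtain ⟨y₀, hy₀, rfl⟩ := Finset.mem_image.1 hκ
    have hy₀' := Finset.mem_filter.1 hy₀
    have hy₀f : σ y₀ = y₀ := (Finset.mem_filter.1 hy₀'.1).2
    have h1 := heven (cc i₀ y₀) hy₀'.2 (hconjelt y₀ hy₀f)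
    have e : (Zc X i₀ (cc i₀ y₀)) = ↑(UT.filter (fun y => ConjClasses.mk (cc i₀ y) = ConjClasses.mk (cc i₀ y₀))) := by
      ext y
      simp only [Finset.coe_filter, Set.mem_setOf_eq]
      constructor
      · rintro ⟨h2, h3⟩
        have hyT : cc i₀ y ∈ T' := by
          obtain ⟨g, hg⟩ := isConj_iff.1 h3.symm
          rw [← hg]
          exact hTn.conj_mem _ hy₀'.2 g
        exact ⟨Finset.mem_filter.2 ⟨Finset.mem_filter.2 ⟨Finset.mem_univ _, h2⟩, hyT⟩,
          ConjClasses.mk_eq_mk_iff_isConj.2 h3⟩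
      · rintro ⟨h2, h3⟩
        have h4 := Finset.mem_filter.1 h2
        exact ⟨(Finset.mem_filter.1 h4.1).2, ConjClasses.mk_eq_mk_iff_isConj.1 h3⟩
    rw [e, Nat.card_coe_set_eq, Set.ncard_coe_finset] at h1
    exact h1
  have hfxc : UT.card + UO.card = fx.card := Finset.card_filter_add_card_filter_not _
  have hNodd : Odd N := by
    rw [← Nat.not_even_iff_odd]
    intro he
    have h2 : 2 ∣ N := he.two_dvd
    have := Nat.Coprime.eq_one_of_dvd (Nat.Coprime.symm hN) h2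
    omega
  have hUOodd : Odd UO.card := by
    have h1 : Even UT.card := even_iff_two_dvd.2 hUT
    have h2 : UO.card + (UT.card + nfx.card) = N := by omega
    rw [← h2] at hNodd
    exact (Nat.odd_add.1 hNodd).2 (h1.add hevn)
  -- evaluation
  have hval : τ i₀ = (-1) ^ UO.card := by
    rw [hτv, ← Finset.prod_filter_mul_prod_filter_not Finset.univ (fun y => σ y = y)]
    have e1 : ∏ y ∈ Finset.univ.filter (fun y => ¬ σ y = y), sg (cc i₀ y) = 1 := hout
    rw [e1, mul_one, ← Finset.prod_filter_mul_prod_filter_not _ (fun y => cc i₀ y ∈ T')]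
    have e2 : ∏ y ∈ (Finset.univ.filter (fun y => σ y = y)).filter (fun y => cc i₀ y ∈ T'), sg (cc i₀ y) = 1 :=
      Finset.prod_eq_one fun y hy => hsg1 _ (Finset.mem_filter.1 hy).2
    have e3 : ∏ y ∈ (Finset.univ.filter (fun y => σ y = y)).filter (fun y => ¬ cc i₀ y ∈ T'), sg (cc i₀ y) =
        ∏ y ∈ UO, (-1 : ℤˣ) := Finset.prod_congr rfl fun y hy => hsg2 _ (Finset.mem_filter.1 hy).2
    rw [e2, e3, one_mul, Finset.prod_const]
  rw [hval, hUOodd.neg_one_pow] at hτi'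
  exact hneg1 hτi'

end Main

end Cfsg.Agent.Lib.BisetParity
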