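import Cfsg.Agent.Lib.ThmOSparse
import Cfsg.Agent.Lib.FusionHyp

/-!
Semidirect products with a cyclic group of automorphisms of order prime to `p` inside a system.
-/

set_option autoImplicit false

universe u

namespace Cfsg.Agent.Lib.ThmOSparseB

open Cfsg Cfsg.FusionSystem Cfsg.Agent.Lib.FusionBasic Cfsg.Agent.Lib.FusionAut
  Cfsg.Agent.Lib.FusionSat Cfsg.Agent.Lib.FusionGT Cfsg.Agent.Lib.FusionModel
  Cfsg.Agent.Lib.FusionHyp

section Pull

variable {Ω : Type*} [Group Ω] {S : Subgroup Ω} {G : Type*} [Group G]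

/-- The fusion system on `S` induced through an injective homomorphism to a group. -/
def pullSystem (ι : S →* G) (hι : Function.Injective ι) : FusionSystem S where
  Hom P := {φ | ∃ (hP : P ≤ S) (hφ : ∀ x : P, φ x ∈ S) (g : G),
    ∀ x : P, ι ⟨φ x, hφ x⟩ = g * ι ⟨x, hP x.2⟩ * g⁻¹}
  le_of_mem := fun ⟨hP, hφ, _⟩ => ⟨hP, hφ⟩
  injective_of_mem := by
    rintro P φ ⟨hP, hφ, g, h⟩ a b hab
    have h1 := h a
    have h2 := h b
    have e : (⟨φ a, hφ a⟩ : S) = ⟨φ b, hφ b⟩ := Subtype.ext hab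
    rw [e, h2] at h1
    have h3 : ι ⟨b, hP b.2⟩ = ι ⟨a, hP a.2⟩ := mul_left_cancel (mul_right_cancel h1)
    exact Subtype.ext (congrArg Subtype.val (hι h3)).symm
  conj_mem := by
    intro P g hP hg
    refine ⟨hP, fun x => S.mul_mem (S.mul_mem hg (hP x.2)) (S.inv_mem hg), ι ⟨g, hg⟩, fun x => ?_⟩
    rw [← map_inv, ← map_mul, ← map_mul]
    rfl
  comp_mem := by
    rintro P Q φ ψ ⟨hP, hφ, g, hg⟩ ⟨hQ, hψ, k, hk⟩ h
    refine ⟨hP, fun x => hψ _, k * g, fun x => ?_⟩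
    have h1 := hk (φ.codRestrict Q h x)
    have h2 := hg x
    have e : (⟨((φ.codRestrict Q h x : Q) : Ω), hQ (φ.codRestrict Q h x).2⟩ : S) = ⟨φ x, hφ x⟩ := rfl
    rw [e, h2] at h1
    refine h1.trans ?_
    group
  inv_mem := by
    rintro P φ ⟨hP, hφ, g, hg⟩
    have hinj : Function.Injective φ := by
      intro a b hab
      have h1 := hg a
      have h2 := hg b
      have e : (⟨φ a, hφ a⟩ : S) = ⟨φ b, hφ b⟩ := Subtype.ext hab
      rw [e, h2] at h1
      have h3 : ι ⟨b, hP b.2⟩ = ι ⟨a, hP a.2⟩ := mul_left_cancel (mul_right_cancel h1)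
      exact Subtype.ext (congrArg Subtype.val (hι h3)).symm
    let ψ : φ.range →* Ω := P.subtype.comp (MonoidHom.ofInjective hinj).symm.toMonoidHom
    have hψx : ∀ x : P, ψ ⟨φ x, ⟨x, rfl⟩⟩ = (x : Ω) := by
      intro x
      have e : (MonoidHom.ofInjective hinj) x = ⟨φ x, ⟨x, rfl⟩⟩ := rfl
      show (((MonoidHom.ofInjective hinj).symm ⟨φ x, ⟨x, rfl⟩⟩ : P) : Ω) = x
      rw [← e, MulEquiv.symm_apply_apply]
    have hrS : φ.range ≤ S := by
      rintro _ ⟨x, rfl⟩
      exact hφ x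
    have hψS : ∀ y : φ.range, ψ y ∈ S := by
      rintro ⟨_, x, rfl⟩
      rw [hψx]
      exact hP x.2
    refine ⟨ψ, ⟨hrS, hψS, g⁻¹, ?_⟩, hψx⟩
    rintro ⟨_, x, rfl⟩
    have e1 : (⟨ψ ⟨φ x, ⟨x, rfl⟩⟩, hψS ⟨φ x, ⟨x, rfl⟩⟩⟩ : S) = ⟨x, hP x.2⟩ := Subtype.ext (hψx x)
    show ι ⟨ψ ⟨φ x, ⟨x, rfl⟩⟩, hψS ⟨φ x, ⟨x, rfl⟩⟩⟩ = g⁻¹ * ι ⟨φ x, hrS ⟨x, rfl⟩⟩ * g⁻¹⁻¹
    rw [e1, show (⟨φ x, hrS ⟨x, rfl⟩⟩ : S) = ⟨φ x, hφ x⟩ from rfl, hg x]
    group

theorem pullSystem_realized (ι : S →* G) (hι : Function.Injective ι) :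
    (pullSystem ι hι).IsRealizedBy ι :=
  ⟨hι, fun _ hP _ hφ => ⟨fun ⟨_, _, g, h⟩ => ⟨g, h⟩, fun ⟨g, h⟩ => ⟨hP, hφ, g, h⟩⟩⟩

end Pull

section Semi

variable {Ω : Type u} [Group Ω] {S : Subgroup Ω} {p : ℕ} [Fact p.Prime]

/-- The saturated system of `Q ⋊ ⟨β⟩` on `Q`. -/
theorem exists_semidirect {Q : Subgroup Ω} [Finite Q] (hQ : IsPGroup p Q) (β : MulAut Q)
    (hc : (orderOf β).Coprime p) :
    ∃ E : FusionSystem Q, E.IsSaturated p ∧ Q.subtype.comp β.toMonoidHom ∈ E.Hom Q ∧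
      ∀ (P : Subgroup Ω) (φ : P →* Ω), φ ∈ E.Hom P →
        ∃ (hP : P ≤ Q) (n : Q) (k : ℤ), ∀ x : P, φ x = n * ((β ^ k) ⟨x, hP x.2⟩ : Q) * (n : Ω)⁻¹ := by
  classical
  haveI : Finite (MulAut Q) := Cfsg.Agent.Lib.FusionSat.mulAut_finite
  let A : Subgroup (MulAut Q) := Subgroup.zpowers β
  let G := SemidirectProduct ↥Q ↥A A.subtype
  haveI : Finite G := Finite.of_equiv _ (SemidirectProduct.equivProd (N := ↥Q) (G := ↥A) (φ := A.subtype)).symm
  let ι : ↥Q →* G := SemidirectProduct.inl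
  have hι : Function.Injective ι := SemidirectProduct.inl_injective
  refine ⟨pullSystem ι hι, ?_, ?_, ?_⟩
  · -- saturation
    have hr : IsPGroup p ι.range := hQ.of_surjective ι.rangeRestrict ι.rangeRestrict_surjective
    have hcard : Nat.card G = Nat.card Q * Nat.card A := SemidirectProduct.card
    have hrc : Nat.card ι.range = Nat.card Q :=
      Nat.card_congr (MonoidHom.ofInjective hι).symm.toEquiv
    have hidx : ι.range.index = Nat.card A := by
      have h1 := Subgroup.card_mul_index ι.range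
      rw [hrc, hcard] at h1
      exact Nat.eq_of_mul_eq_mul_left Nat.card_pos h1
    have hA : Nat.card A = orderOf β := Nat.card_zpowers β
    have hnd : ¬ p ∣ ι.range.index := by
      rw [hidx, hA]
      intro hd
      have hp : p.Prime := Fact.out
      have := Nat.Coprime.eq_one_of_dvd hc.symm hd
      exact hp.one_lt.ne' this
    exact isSaturated_of_isRealizedBy (pullSystem_realized ι hι) (hr.toSylow hnd) rfl
  · refine ⟨le_rfl, fun x => (β x).2, SemidirectProduct.inr ⟨β, Subgroup.mem_zpowers β⟩, fun x => ?_⟩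
    have h := SemidirectProduct.inl_aut (φ := A.subtype) ⟨β, Subgroup.mem_zpowers β⟩ x
    rw [map_inv] at h
    exact h
  · rintro P φ ⟨hP, hφ, g, hg⟩
    obtain ⟨a, ha⟩ := g.right.2
    refine ⟨hP, g.left, a, fun x => ?_⟩
    have h1 := hg x
    have h2 : (SemidirectProduct.inl g.left * SemidirectProduct.inr g.right : G) = g :=
      SemidirectProduct.inl_left_mul_inr_right g
    have h3 : g * ι ⟨x, hP x.2⟩ * g⁻¹ = ι (g.left * (β ^ a) ⟨x, hP x.2⟩ * g.left⁻¹) := by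
      have h4 := SemidirectProduct.inl_aut (φ := A.subtype) g.right ⟨x, hP x.2⟩
      have h5 : (A.subtype g.right) = β ^ a := ha.symm
      rw [h5, map_inv] at h4
      have e1 : g * ι ⟨x, hP x.2⟩ * g⁻¹ = (SemidirectProduct.inl g.left * SemidirectProduct.inr g.right : G) * ι ⟨x, hP x.2⟩ * (SemidirectProduct.inl g.left * SemidirectProduct.inr g.right : G)⁻¹ := by
        rw [h2]
      rw [e1]
      show _ = (SemidirectProduct.inl (g.left * (β ^ a) ⟨x, hP x.2⟩ * g.left⁻¹) : G)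
      rw [map_mul, map_mul, map_inv, h4]
      show (SemidirectProduct.inl g.left * SemidirectProduct.inr g.right : G) * (SemidirectProduct.inl ⟨x, hP x.2⟩ : G) * (SemidirectProduct.inl g.left * SemidirectProduct.inr g.right : G)⁻¹ = _ * ((SemidirectProduct.inr g.right : G) * (SemidirectProduct.inl ⟨x, hP x.2⟩ : G) * (SemidirectProduct.inr g.right : G)⁻¹) * _
      simp only [mul_inv_rev, mul_assoc]
    rw [h3] at h1
    have h4 := hι h1
    exact congrArg Subtype.val h4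

/-- The system of `Q ⋊ ⟨β⟩` is contained in any system containing `β`. -/
theorem semidirect_sub {F : FusionSystem S} {Q : Subgroup Ω} (hQS : Q ≤ S) {β : MulAut Q}
    (hβ : β ∈ F.autGroup Q) {P : Subgroup Ω} {φ : P →* Ω} (hP : P ≤ Q) (n : Q) (k : ℤ)
    (h : ∀ x : P, φ x = n * ((β ^ k) ⟨x, hP x.2⟩ : Q) * (n : Ω)⁻¹) : φ ∈ F.Hom P := by
  have h1 : β ^ k ∈ F.autGroup Q := zpow_mem hβ k
  have h2 := (mem_autGroup_iff F hQS).mp h1
  have h3 := restrict_mem F h2 hP
  obtain ⟨χ, hχ, hχv⟩ := exists_comp F h3 (F.conj_mem hQS (hQS n.2))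
    (fun x => ((β ^ k) ⟨x, hP x.2⟩).2)
  exact hom_of_eq hχ (fun x => (h x).trans (hχv x).symm)

theorem isPGroup_of_coprime_trivial {G : Type*} [Group G] [Finite G]
    (h : ∀ g : G, (orderOf g).Coprime p → g = 1) : IsPGroup p G := by
  intro g
  have hp : p.Prime := Fact.out
  obtain ⟨a, m, hm, e⟩ := Nat.exists_eq_pow_mul_and_not_dvd (orderOf_pos g).ne' p hp.ne_one
  refine ⟨a, h _ ?_⟩
  have hd : p ^ a ∣ orderOf g := ⟨m, e⟩
  rw [orderOf_pow_of_dvd (pow_ne_zero _ hp.ne_zero) hd]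
  have hm2 : orderOf g / p ^ a = m := by
    rw [e]
    exact Nat.mul_div_cancel_left _ (pow_pos hp.pos a)
  rw [hm2]
  exact ((Nat.Prime.coprime_iff_not_dvd hp).mpr hm).symm

/-- An inner automorphism of a `p`-group of order prime to `p` is trivial. -/
theorem trivial_of_inner {Q : Subgroup Ω} (hQ : IsPGroup p Q) {β : MulAut Q} (hc : (orderOf β).Coprime p)
    (h : Q.subtype.comp β.toMonoidHom ∈ (innerFusionSystem Q).Hom Q) : β = 1 := by
  obtain ⟨-, g, hg, hgx⟩ := h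
  have hb : β = MulAut.conj (⟨g, hg⟩ : Q) := by
    ext x
    exact hgx x
  obtain ⟨k, hk⟩ := hQ ⟨g, hg⟩
  have h1 : β ^ p ^ k = 1 := by
    rw [hb, ← map_pow, hk, map_one]
  have h2 : orderOf β ∣ p ^ k := orderOf_dvd_of_pow_eq_one h1
  have h3 : orderOf β = 1 := Nat.Coprime.eq_one_of_dvd (hc.pow_right k) h2
  exact orderOf_eq_one_iff.mp h3

/-- The structure of an extremely sparse system. -/
theorem sparse_structure [Finite S] (hS : IsPGroup p S) {F : FusionSystem S} (hF : F.IsSaturated p)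
    (hne : ¬ ∀ P : Subgroup Ω, F.Hom P = (innerFusionSystem S).Hom P)
    (hsp : ∀ (T : Subgroup Ω) (E : FusionSystem T), E.IsSaturated p → E.IsSubsystemOf F →
      (T = S ∧ ∀ P : Subgroup Ω, E.Hom P = F.Hom P) ∨ (∀ P : Subgroup Ω, E.Hom P = (innerFusionSystem T).Hom P)) :
    F.IsNormal S ∧ F.focalSubgroup = S ∧ F.hyperfocalSubgroup p = S ∧
      ∃ (q : ℕ) (β : MulAut ↥S), q.Prime ∧ q ≠ p ∧ β ∈ F.autGroup S ∧ orderOf β = q ∧
        (F.autGroup S : Subgroup (MulAut ↥S)) = Inn ↥S ⊔ Subgroup.zpowers β := by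
  classical
  have hp : p.Prime := Fact.out
  -- the general construction
  have key : ∀ (Q : Subgroup Ω) (hQS : Q ≤ S) (β : MulAut Q), β ∈ F.autGroup Q → (orderOf β).Coprime p →
      Q ≠ S → β = 1 := by
    intro Q hQS β hβ hc hne'
    haveI : Finite Q := finite_of_le hQS
    have hQp : IsPGroup p Q := hS.to_le hQS
    obtain ⟨E, hEs, hEβ, hEc⟩ := exists_semidirect hQp β hc
    have hsub : E.IsSubsystemOf F := by
      intro P φ hφ
      obtain ⟨hP, n, k, h⟩ := hEc P φ hφ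
      exact semidirect_sub hQS hβ hP n k h
    rcases hsp Q E hEs hsub with ⟨h, -⟩ | h
    · exact absurd h hne'
    · rw [h] at hEβ
      exact trivial_of_inner hQp hc hEβ
  -- automizers of proper subgroups are `p`-groups
  have hprop : ∀ (Q : Subgroup Ω), Q ≤ S → Q ≠ S → IsPGroup p (F.autGroup Q) := by
    intro Q hQS hne'
    haveI : Finite Q := finite_of_le hQS
    haveI : Finite (MulAut Q) := mulAut_finite
    refine isPGroup_of_coprime_trivial fun g hg => ?_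
    have h1 : orderOf (g : MulAut Q) = orderOf g := Subgroup.orderOf_coe g
    exact Subtype.ext (key Q hQS g g.2 (h1 ▸ hg) hne')
  haveI : Finite (MulAut S) := mulAut_finite
  -- an automorphism of `S` of order prime to `p`
  obtain ⟨β₀, hβ₀, hβ₀c, hβ₀1⟩ : ∃ β₀ : MulAut S, β₀ ∈ F.autGroup S ∧ (orderOf β₀).Coprime p ∧ β₀ ≠ 1 := by
    by_contra hcon
    push Not at hcon
    apply hne
    refine inner_of_autP hS hF fun U hU => ?_
    by_cases hUS : U = S
    · subst hUS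
      refine isPGroup_of_coprime_trivial fun g hg => ?_
      have h1 : orderOf (g : MulAut U) = orderOf g := Subgroup.orderOf_coe g
      exact Subtype.ext (hcon g g.2 (h1 ▸ hg))
    · exact hprop U hU hUS
  -- pass to prime order
  have hn1 : orderOf β₀ ≠ 1 := fun h => hβ₀1 (orderOf_eq_one_iff.mp h)
  set q := (orderOf β₀).minFac with hq
  have hqp : q.Prime := Nat.minFac_prime hn1
  have hqd : q ∣ orderOf β₀ := Nat.minFac_dvd _
  set β : MulAut S := β₀ ^ (orderOf β₀ / q) with hβdef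
  have hβq : orderOf β = q := orderOf_pow_orderOf_div (orderOf_pos β₀).ne' hqd
  have hβ : β ∈ F.autGroup S := pow_mem hβ₀ _
  have hqne : q ≠ p := by
    intro h
    have : p ∣ orderOf β₀ := h ▸ hqd
    have h2 := Nat.Coprime.eq_one_of_dvd hβ₀c.symm this
    exact hp.one_lt.ne' h2
  have hβc : (orderOf β).Coprime p := by
    rw [hβq]
    exact (Nat.coprime_primes hqp hp).mpr hqne
  have hβ1 : β ≠ 1 := by
    intro h
    rw [h, orderOf_one] at hβq
    exact hqp.one_lt.ne hβq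
  -- the system equals that of `S ⋊ ⟨β⟩`
  obtain ⟨E, hEs, hEβ, hEc⟩ := exists_semidirect hS β hβc
  have hsub : E.IsSubsystemOf F := by
    intro P φ hφ
    obtain ⟨hP, n, k, h⟩ := hEc P φ hφ
    exact semidirect_sub le_rfl hβ hP n k h
  have hEF : ∀ P : Subgroup Ω, E.Hom P = F.Hom P := by
    rcases hsp S E hEs hsub with ⟨-, h⟩ | h
    · exact h
    · exfalso
      rw [h] at hEβ
      exact hβ1 (trivial_of_inner hS hβc hEβ)
  have hFc : ∀ (P : Subgroup Ω) (φ : P →* Ω), φ ∈ F.Hom P →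
      ∃ (hP : P ≤ S) (n : S) (k : ℤ), ∀ x : P, φ x = n * ((β ^ k) ⟨x, hP x.2⟩ : S) * (n : Ω)⁻¹ := by
    intro P φ hφ
    rw [← hEF P] at hφ
    exact hEc P φ hφ
  -- normality of `S`
  have hnorm : F.IsNormal S := by
    refine ⟨le_rfl, fun P φ hφ => ?_⟩
    obtain ⟨hP, n, k, h⟩ := hFc P φ hφ
    have hle : P ⊔ S ≤ S := sup_le hP le_rfl
    have h1 : S.subtype.comp (MulAut.conj n * β ^ k).toMonoidHom ∈ F.Hom S := by
      rw [← mem_autGroup_iff F le_rfl]
      exact mul_mem (inn_le_autGroup F le_rfl ⟨n, rfl⟩) (zpow_mem hβ k)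
    refine ⟨_, restrict_mem F h1 hle, fun x => (h x).symm, ?_⟩
    rw [map_subgroupOf_sup_eq_iff]
    refine ⟨fun x _ => ((MulAut.conj n * β ^ k) ⟨x, hle (Subgroup.mem_sup_right ‹_›)⟩).2, fun y hy => ?_⟩
    refine ⟨(((MulAut.conj n * β ^ k)⁻¹ ⟨y, hy⟩ : S) : Ω), ((MulAut.conj n * β ^ k)⁻¹ ⟨y, hy⟩).2, ?_⟩
    show (((MulAut.conj n * β ^ k) ((MulAut.conj n * β ^ k).symm ⟨y, hy⟩) : S) : Ω) = y
    rw [MulEquiv.apply_symm_apply]
  -- the hyperfocal subgroup
  have hhyp : F.hyperfocalSubgroup p = S := by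
    by_contra hT
    have hsc := hyp_stronglyClosed hS hF
    have hTS : F.hyperfocalSubgroup p ≤ S := hsc.1
    haveI : Finite ↥(F.hyperfocalSubgroup p) := finite_of_le hTS
    have hβm := (mem_autGroup_iff F le_rfl).mp hβ
    have hρ := restrict_mem F hβm hTS
    have hr : ((S.subtype.comp β.toMonoidHom).comp (Subgroup.inclusion hTS)).range = F.hyperfocalSubgroup p := by
      refine Subgroup.eq_of_le_of_card_ge ?_ (card_range_eq F hρ).ge
      rintro _ ⟨x, rfl⟩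
      exact hsc.2 _ le_rfl _ hρ x
    have hβ₁ := Cfsg.Agent.Lib.FusionNormal.isoOfRange_mem_autGroup hρ hr
    set β₁ := isoOfRange hρ hr with hβ₁def
    have hpw : ∀ (n : ℕ) (x : ↥(F.hyperfocalSubgroup p)),
        (((β ^ n) (Subgroup.inclusion hTS x) : S) : Ω) = (((β₁ ^ n) x : ↥(F.hyperfocalSubgroup p)) : Ω) :=
      Cfsg.Agent.Lib.ThmOChar.restrict_pow hTS β β₁ (fun _ => rfl)
    have hpow : β₁ ^ orderOf β = 1 := by
      ext x
      rw [← hpw, pow_orderOf_eq_one]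
      rfl
    have hc₁ : (orderOf β₁).Coprime p := Nat.Coprime.coprime_dvd_left (orderOf_dvd_of_pow_eq_one hpow) hβc
    have h1 : β₁ = 1 := key _ hTS β₁ hβ₁ hc₁ hT
    have hfix : ∀ x : ↥(F.hyperfocalSubgroup p), β (Subgroup.inclusion hTS x) = Subgroup.inclusion hTS x := by
      intro x
      apply Subtype.ext
      have h2 := hpw 1 x
      rw [pow_one, pow_one, h1] at h2
      exact h2
    have hmem : (⟨β, hβ⟩ : F.autGroup S) ∈ pResidual p (F.autGroup S) := by
      apply Subgroup.subset_closure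
      show Nat.Coprime (orderOf (⟨β, hβ⟩ : F.autGroup S)) p
      rw [Subgroup.orderOf_mk]
      exact hβc
    obtain ⟨m, hm⟩ := Cfsg.Agent.Lib.FusionNormal.pow_fix_of_stab hS β
      (B := (F.hyperfocalSubgroup p).subgroupOf S) (C := ⊤) le_top
      (fun y _ => mem_hyp_of_residual le_rfl ⟨β, hβ⟩ hmem y) 0 (by
        intro b hb
        rw [pow_zero, pow_one]
        exact hfix ⟨b, hb⟩)
    have h3 : β ^ p ^ m = 1 := by
      ext y
      exact congrArg Subtype.val (hm y trivial)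
    have h4 : orderOf β = 1 := Nat.Coprime.eq_one_of_dvd (hβc.pow_right m) (orderOf_dvd_of_pow_eq_one h3)
    exact hβ1 (orderOf_eq_one_iff.mp h4)
  refine ⟨hnorm, ?_, hhyp, q, β, hqp, hqne, hβ, hβq, ?_⟩
  · apply le_antisymm
    · rw [focalSubgroup, Subgroup.closure_le]
      rintro _ ⟨P, φ, x, hφ, rfl⟩
      exact S.mul_mem (S.inv_mem (source_le F hφ x.2)) (map_mem_S F hφ x)
    · have := hyp_le_foc (p := p) F
      intro x hx
      exact this (hhyp.ge hx)
  · apply le_antisymm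
    · intro α hα
      obtain ⟨hP, n, k, h⟩ := hFc S _ ((mem_autGroup_iff F le_rfl).mp hα)
      have e : α = MulAut.conj n * β ^ k := by
        ext x
        exact h x
      rw [e]
      exact Subgroup.mul_mem_sup ⟨n, rfl⟩ ⟨k, rfl⟩
    · exact sup_le (inn_le_autGroup F le_rfl) (Subgroup.zpowers_le.mpr hβ)

end Semi

end Cfsg.Agent.Lib.ThmOSparseB
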