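import Mathlib
import Cfsg.Agent.Lib.BisetParity
import Cfsg.Agent.Lib.Tate
import Cfsg.Agent.Lib.FusionGT
import Cfsg.Agent.Lib.ThmOSparseB
import Cfsg.Agent.Lib.FusionQuot
import Cfsg.Agent.Lib.FusionFactor

/-! The twisted transfer: an `S`-invariant homomorphism of the hyperfocal subgroup to an abelian
`p`-group extends to `S`.  Tate's theorem for saturated systems follows. -/

set_option autoImplicit false
set_option linter.all false

namespace Cfsg.Agent.Lib.BisetTate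

open Cfsg Cfsg.FusionSystem MulAction Cfsg.Agent.Lib.BisetGSet Cfsg.Agent.Lib.FusionBasic
  Cfsg.Agent.Lib.BisetGraph Cfsg.Agent.Lib.BisetExist Cfsg.Agent.Lib.BisetTransfer
  Cfsg.Agent.Lib.BisetParity Cfsg.Agent.Lib.FusionSat Cfsg.Agent.Lib.FusionAut

open scoped commutatorElement

universe u

section Equivariant

/-- Equivariant maps exist as soon as stabilizers are contained in stabilizers. -/
theorem exists_equivariant {H Y X : Type*} [Group H] [MulAction H X] [MulAction H Y]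
    (h : ∀ ω : X, ∃ γ : Y, stabilizer H ω ≤ stabilizer H γ) :
    ∃ c : X → Y, ∀ (g : H) (ω : X), c (g • ω) = g • c ω := by
  classical
  let r : X → X := fun ω => Quotient.out (Quotient.mk (orbitRel H X) ω)
  have hr : ∀ ω, ∃ g : H, g • r ω = ω := by
    intro ω
    have h1 : (orbitRel H X).r (r ω) ω := Quotient.exact (Quotient.out_eq _)
    obtain ⟨g, hg⟩ := h1
    refine ⟨g⁻¹, ?_⟩
    have hg' : g • ω = r ω := hg
    rw [← hg', inv_smul_smul]
  have hrg : ∀ (g : H) (ω : X), r (g • ω) = r ω := by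
    intro g ω
    show Quotient.out (Quotient.mk (orbitRel H X) (g • ω)) = Quotient.out (Quotient.mk (orbitRel H X) ω)
    congr 1
    apply Quotient.sound
    exact ⟨g, rfl⟩
  choose a ha using hr
  choose γ hγ using h
  refine ⟨fun ω => a ω • γ (r ω), fun g ω => ?_⟩
  show a (g • ω) • γ (r (g • ω)) = g • a ω • γ (r ω)
  rw [hrg, smul_smul]
  have e2 : a (g • ω) • r ω = g • ω := by
    have := ha (g • ω)
    rwa [hrg] at this
  have h1 : (a ω)⁻¹ * g⁻¹ * a (g • ω) ∈ stabilizer H (r ω) := by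
    rw [mem_stabilizer_iff, mul_smul, e2, mul_smul, inv_smul_smul, inv_smul_eq_iff]
    exact (ha ω).symm
  have h2 := hγ _ h1
  rw [mem_stabilizer_iff] at h2
  calc a (g • ω) • γ (r ω) = (g * a ω) • ((a ω)⁻¹ * g⁻¹ * a (g • ω)) • γ (r ω) := by
        rw [smul_smul]
        congr 1
        group
    _ = (g * a ω) • γ (r ω) := by rw [h2]

end Equivariant

section Color

variable {G : Type u} [Group G] {X : Type u} [MulAction (G × G) X] (N : Subgroup G) [hN : N.Normal]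

variable {N}

variable (hfree : ∀ (ω : X) (s : G), ((1 : G), s) • ω = ω → s = 1)

/-- Sections of the orbit map have cocycles. -/
theorem exists_cocycle (ρ : OrbY G X → X) (hρ : ∀ y, mkY (ρ y) = y) :
    ∃ k : G → OrbY G X → G, ∀ x y, L x (ρ y) = rr (k x y) (ρ (lft x y)) := by
  have gen : ∀ (ω : X) (y : OrbY G X), mkY ω = y → ∃ s : G, ω = rr s (ρ y) := by
    intro ω y e
    have e2 : (mkY ω : OrbY G X) = mkY (ρ y) := by rw [e, hρ]
    obtain ⟨s, hs⟩ := Quotient.exact (s := rrSetoid G X) e2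
    exact ⟨s⁻¹, by rw [hs, rr_rr, mul_inv_cancel, rr_one]⟩
  have h2 : ∀ x y, mkY (L x (ρ y)) = lft x y := by
    intro x y
    have e2 : (mkY (rep y) : OrbY G X) = mkY (ρ y) := by rw [hρ, mkY_rep]
    obtain ⟨s, hs⟩ := Quotient.exact (s := rrSetoid G X) e2
    rw [hs, L_rr, mkY_rr]
    rfl
  choose k hk using fun (x : G) (y : OrbY G X) => gen _ _ (h2 x y)
  exact ⟨k, hk⟩

variable {ρ : OrbY G X → X} {k : G → OrbY G X → G}
  (hk : ∀ x y, L x (ρ y) = rr (k x y) (ρ (lft x y)))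

include hfree hk in
theorem k_mul (hρ : ∀ y, mkY (ρ y) = y) (x x' : G) (y : OrbY G X) :
    k (x * x') y = k x (lft x' y) * k x' y := by
  have h1 : L (x * x') (ρ y) = rr (k x (lft x' y) * k x' y) (ρ (lft (x * x') y)) := by
    rw [Cfsg.Agent.Lib.BisetTransfer.L_mul, hk x' y, L_rr, hk x, rr_rr, (lft_mul hfree x x' y).1]
  rw [hk (x * x') y] at h1
  exact rr_cancel hfree h1

include hk in
theorem k_col {c : X → G ⧸ N} (hL : ∀ (x : G) ω, c (L x ω) = (x : G ⧸ N) * c ω)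
    (hR : ∀ (s : G) ω, c (rr s ω) = c ω * (s : G ⧸ N)) (hc : ∀ y, c (ρ y) = 1) (x : G) (y : OrbY G X) :
    ((k x y : G) : G ⧸ N) = x := by
  have h1 := congrArg c (hk x y)
  rw [hL, hc, hR, hc, mul_one, one_mul] at h1
  exact h1.symm

variable {A : Type*} [CommGroup A] [Finite X] (lam : ↥N →* A)

/-- The twisted transfer. -/
noncomputable def ftw (k : G → OrbY G X → G) (hm : ∀ x y, x * (k x y)⁻¹ ∈ N) (x : G) : A :=
  ∏ y : OrbY G X, lam ⟨x * (k x y)⁻¹, hm x y⟩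

theorem lam_congr {a b : G} (ha : a ∈ N) (hb : b ∈ N) (e : a = b) : lam ⟨a, ha⟩ = lam ⟨b, hb⟩ :=
  congrArg lam (Subtype.ext e)

include hfree hk in
theorem ftw_mul (hρ : ∀ y, mkY (ρ y) = y) (hm : ∀ x y, x * (k x y)⁻¹ ∈ N)
    (hinv : ∀ (g : G) (t : ↥N), lam ⟨g * t * g⁻¹, hN.conj_mem _ t.2 g⟩ = lam t) (x x' : G) :
    ftw lam k hm (x * x') = ftw lam k hm x * ftw lam k hm x' := by
  unfold ftw
  have h1 : ∀ y : OrbY G X, lam ⟨x * x' * (k (x * x') y)⁻¹, hm _ y⟩ =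
      lam ⟨x * (k x (lftE hfree x' y))⁻¹, hm _ _⟩ * lam ⟨x' * (k x' y)⁻¹, hm _ _⟩ := by
    intro y
    have e : x * x' * (k (x * x') y)⁻¹ =
        (x * (x' * (k x' y)⁻¹) * x⁻¹) * (x * (k x (lft x' y))⁻¹) := by
      rw [k_mul hfree hk hρ]
      group
    have h2 := hinv x ⟨x' * (k x' y)⁻¹, hm _ _⟩
    rw [lam_congr lam (hm _ y) (N.mul_mem (hN.conj_mem _ (hm x' y) x) (hm x _)) e]
    have e3 : (⟨(x * (x' * (k x' y)⁻¹) * x⁻¹) * (x * (k x (lft x' y))⁻¹),
        N.mul_mem (hN.conj_mem _ (hm x' y) x) (hm x _)⟩ : ↥N) =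
        ⟨x * (x' * (k x' y)⁻¹) * x⁻¹, hN.conj_mem _ (hm x' y) x⟩ * ⟨x * (k x (lft x' y))⁻¹, hm x _⟩ := rfl
    rw [e3, map_mul, h2, mul_comm]
    rfl
  rw [Finset.prod_congr rfl fun y _ => h1 y, Finset.prod_mul_distrib]
  congr 1
  exact Equiv.prod_comp (lftE hfree x') fun y => lam ⟨x * (k x y)⁻¹, hm _ _⟩

/-- The transfer on `N`. -/
noncomputable def gtw (k : G → OrbY G X → G) (hm : ∀ (u : ↥N) y, k u y ∈ N) (u : ↥N) : A :=
  ∏ y : OrbY G X, lam ⟨k u y, hm u y⟩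

include hfree hk in
theorem gtw_mul (hρ : ∀ y, mkY (ρ y) = y) (hm : ∀ (u : ↥N) y, k u y ∈ N) (u v : ↥N) :
    gtw lam k hm (u * v) = gtw lam k hm u * gtw lam k hm v := by
  unfold gtw
  have h1 : ∀ y : OrbY G X, lam ⟨k ((u * v : ↥N) : G) y, hm _ y⟩ =
      lam ⟨k u (lftE hfree (v : G) y), hm _ _⟩ * lam ⟨k v y, hm _ _⟩ := by
    intro y
    rw [← map_mul]
    apply congrArg lam
    apply Subtype.ext
    exact k_mul hfree hk hρ (u : G) (v : G) y
  rw [Finset.prod_congr rfl fun y _ => h1 y, Finset.prod_mul_distrib]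
  congr 1
  exact Equiv.prod_comp (lftE hfree (v : G)) fun y => lam ⟨k u y, hm _ _⟩

theorem ftw_coe (hm : ∀ x y, x * (k x y)⁻¹ ∈ N) (hm' : ∀ (u : ↥N) y, k u y ∈ N) (u : ↥N) :
    ftw lam k hm u = lam u ^ Fintype.card (OrbY G X) * (gtw lam k hm' u)⁻¹ := by
  unfold ftw gtw
  have h1 : ∀ y : OrbY G X, lam ⟨(u : G) * (k u y)⁻¹, hm _ y⟩ = lam u * (lam ⟨k u y, hm' u y⟩)⁻¹ := by
    intro y
    rw [← map_inv, ← map_mul]
    rfl
  rw [Finset.prod_congr rfl fun y _ => h1 y, Finset.prod_mul_distrib, Finset.prod_const,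
    Finset.prod_inv_distrib]
  rfl

include hfree hk in
/-- The transfer on `N` only depends on the isomorphism type of the action. -/
theorem gtw_stable (hρ : ∀ y, mkY (ρ y) = y) (hm : ∀ (u : ↥N) y, k u y ∈ N)
    (hinv : ∀ (g : G) (t : ↥N), lam ⟨g * t * g⁻¹, hN.conj_mem _ t.2 g⟩ = lam t)
    (u u' : ↥N) (f : X ≃ X) (h1 : ∀ ω, f (L (u : G) ω) = L (u' : G) (f ω))
    (h2 : ∀ (s : G) (ω : X), f (rr s ω) = rr s (f ω)) :
    gtw lam k hm u' = gtw lam k hm u := by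
  classical
  have gen : ∀ ω : X, ∃ s : G, ω = rr s (ρ (mkY ω)) := by
    intro ω
    have e2 : (mkY ω : OrbY G X) = mkY (ρ (mkY ω)) := by rw [hρ]
    obtain ⟨s, hs⟩ := Quotient.exact (s := rrSetoid G X) e2
    exact ⟨s⁻¹, by rw [hs, rr_rr, mul_inv_cancel, rr_one]⟩
  choose cd hcd using gen
  let fb : OrbY G X → OrbY G X := fun y => mkY (f (ρ y))
  let d : OrbY G X → G := fun y => cd (f (ρ y))
  have hd : ∀ y, f (ρ y) = rr (d y) (ρ (fb y)) := fun y => hcd _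
  have hfbinj : Function.Injective fb := by
    intro a b hab
    have h3 : (mkY (f (ρ a)) : OrbY G X) = mkY (f (ρ b)) := hab
    obtain ⟨s, hs⟩ := Quotient.exact (s := rrSetoid G X) h3
    rw [← h2] at hs
    have h5 := f.injective hs
    rw [← hρ a, ← hρ b, h5, mkY_rr]
  have hfbbij : Function.Bijective fb := Finite.injective_iff_bijective.1 hfbinj
  let fbE : Equiv.Perm (OrbY G X) := Equiv.ofBijective fb hfbbij
  have key : ∀ y, k u' (fb y) * d y = d (lft u y) * k u y := by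
    intro y
    have e1 : f (L (u : G) (ρ y)) = rr (d (lft u y) * k u y) (ρ (fb (lft u y))) := by
      rw [hk u y, h2, hd, rr_rr]
    have e2 : f (L (u : G) (ρ y)) = rr (k u' (fb y) * d y) (ρ (lft (u' : G) (fb y))) := by
      rw [h1, hd y, L_rr, hk u', rr_rr]
    have e3 : (mkY (f (L (u : G) (ρ y))) : OrbY G X) = fb (lft u y) := by
      rw [e1, mkY_rr, hρ]
    have e4 : (mkY (f (L (u : G) (ρ y))) : OrbY G X) = lft (u' : G) (fb y) := by
      rw [e2, mkY_rr, hρ]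
    have e5 : fb (lft (u : G) y) = lft (u' : G) (fb y) := e3.symm.trans e4
    rw [e1, e5] at e2
    exact (rr_cancel hfree e2).symm
  -- the coboundary
  have hemem : ∀ y, d (lft u y) * (d y)⁻¹ ∈ N := by
    intro y
    have h3 : d (lft u y) * (d y)⁻¹ =
        (d (lft u y) * k u y * (d (lft u y))⁻¹)⁻¹ * k u' (fb y) := by
      have : k u' (fb y) = d (lft u y) * k u y * (d y)⁻¹ := by
        rw [← key y]
        group
      rw [this]
      group
    rw [h3]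
    exact N.mul_mem (N.inv_mem (hN.conj_mem _ (hm u y) _)) (hm u' _)
  let κ : G ⧸ N → G := Quotient.out
  have hκ : ∀ γ : G ⧸ N, ((κ γ : G) : G ⧸ N) = γ := fun γ => Quotient.out_eq γ
  have he' : ∀ y, d y * (κ (d y : G ⧸ N))⁻¹ ∈ N := by
    intro y
    have h3 : ((d y * (κ (d y : G ⧸ N))⁻¹ : G) : G ⧸ N) = 1 := by
      rw [QuotientGroup.mk_mul, QuotientGroup.mk_inv, hκ, mul_inv_cancel]
    exact (QuotientGroup.eq_one_iff _).1 h3
  let e' : OrbY G X → ↥N := fun y => ⟨d y * (κ (d y : G ⧸ N))⁻¹, he' y⟩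
  have hcol : ∀ y, ((d (lft u y) : G) : G ⧸ N) = d y := by
    intro y
    have h3 := (QuotientGroup.eq_one_iff _).2 (hemem y)
    rw [QuotientGroup.mk_mul, QuotientGroup.mk_inv] at h3
    exact mul_inv_eq_one.1 h3
  have hee : ∀ y, d (lft u y) * (d y)⁻¹ = (e' (lft u y) : G) * ((e' y : ↥N) : G)⁻¹ := by
    intro y
    show d (lft u y) * (d y)⁻¹ = (d (lft u y) * (κ (d (lft u y) : G ⧸ N))⁻¹) * (d y * (κ (d y : G ⧸ N))⁻¹)⁻¹
    rw [hcol]
    group
  have hy : ∀ y, lam ⟨k u' (fb y), hm u' _⟩ =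
      lam ⟨k u y, hm u y⟩ * (lam (e' (lftE hfree (u : G) y)) * (lam (e' y))⁻¹) := by
    intro y
    have h3 : k u' (fb y) = (d (lft u y) * k u y * (d (lft u y))⁻¹) * (d (lft u y) * (d y)⁻¹) := by
      have : k u' (fb y) = d (lft u y) * k u y * (d y)⁻¹ := by
        rw [← key y]
        group
      rw [this]
      group
    have h4 := hinv (d (lft u y)) ⟨k u y, hm u y⟩
    have h5 : (⟨k u' (fb y), hm u' _⟩ : ↥N) =
        ⟨d (lft u y) * k u y * (d (lft u y))⁻¹, hN.conj_mem _ (hm u y) _⟩ *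
          (e' (lft u y) * (e' y)⁻¹) := by
      apply Subtype.ext
      show k u' (fb y) = d (lft u y) * k u y * (d (lft u y))⁻¹ * ((e' (lft u y) : G) * ((e' y : ↥N) : G)⁻¹)
      rw [h3, hee]
    rw [h5, map_mul, h4, map_mul, map_inv]
    rfl
  unfold gtw
  have e1 : (∏ y : OrbY G X, lam ⟨k u' y, hm u' y⟩) = ∏ y, lam ⟨k u' (fbE y), hm u' _⟩ :=
    (Equiv.prod_comp fbE fun y => lam ⟨k u' y, hm u' y⟩).symm
  rw [e1]
  have e2 : (∏ y : OrbY G X, lam ⟨k u' (fbE y), hm u' _⟩) =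
      ∏ y, (lam ⟨k u y, hm u y⟩ * (lam (e' (lftE hfree (u : G) y)) * (lam (e' y))⁻¹)) :=
    Finset.prod_congr rfl fun y _ => hy y
  rw [e2, Finset.prod_mul_distrib, Finset.prod_mul_distrib, Finset.prod_inv_distrib,
    Equiv.prod_comp (lftE hfree (u : G)) fun y => lam (e' y), mul_inv_cancel, mul_one]

end Color

section ColorAct

variable {G : Type*} [Group G]

/-- The action of `G × G` on a quotient group. -/
def colorAct (N : Subgroup G) [N.Normal] : MulAction (G × G) (G ⧸ N) where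
  smul g γ := (g.1 : G ⧸ N) * γ * ((g.2 : G ⧸ N))⁻¹
  one_smul γ := by
    show ((1 : G) : G ⧸ N) * γ * ((1 : G) : G ⧸ N)⁻¹ = γ
    rw [QuotientGroup.mk_one, one_mul, inv_one, mul_one]
  mul_smul a b γ := by
    show ((a.1 * b.1 : G) : G ⧸ N) * γ * ((a.2 * b.2 : G) : G ⧸ N)⁻¹ =
      (a.1 : G ⧸ N) * ((b.1 : G ⧸ N) * γ * (b.2 : G ⧸ N)⁻¹) * (a.2 : G ⧸ N)⁻¹
    rw [QuotientGroup.mk_mul, QuotientGroup.mk_mul]
    group

end ColorAct

section Fusion

variable {Ω : Type u} [Group Ω] {S : Subgroup Ω} {p : ℕ} [hp : Fact p.Prime]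

/-- Every map is, modulo the hyperfocal subgroup, conjugation by an element of `S`. -/
theorem exists_color [Finite S] (hS : IsPGroup p S) {F : FusionSystem S} (hF : F.IsSaturated p)
    {R : Subgroup Ω} {φ : R →* Ω} (hφ : φ ∈ F.Hom R) :
    ∃ s ∈ S, ∀ x : R, (s * x * s⁻¹)⁻¹ * φ x ∈ F.hyperfocalSubgroup p := by
  open Cfsg.Agent.Lib.FusionHyp in
  refine alperin_pred hS hF
    (fun {R} φ => ∃ s ∈ S, ∀ x : R, (s * x * s⁻¹)⁻¹ * φ x ∈ F.hyperfocalSubgroup p) ?_ ?_ ?_ ?_ hφ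
  · intro R g _ hg
    refine ⟨g, hg, fun x => ?_⟩
    show (g * x * g⁻¹)⁻¹ * (g * x * g⁻¹) ∈ F.hyperfocalSubgroup p
    rw [inv_mul_cancel]
    exact one_mem _
  · rintro P Q φ ψ - - h ⟨s₁, hs₁, h1⟩ ⟨s₂, hs₂, h2⟩
    refine ⟨s₂ * s₁, S.mul_mem hs₂ hs₁, fun x => ?_⟩
    have h3 := conj_mem_hyp (p := p) hs₂ (h1 x)
    have h4 := h2 ⟨φ x, h x⟩
    have e : (s₂ * s₁ * x * (s₂ * s₁)⁻¹)⁻¹ * ψ ⟨φ x, h x⟩ =
        (s₂ * ((s₁ * x * s₁⁻¹)⁻¹ * φ x) * s₂⁻¹) * ((s₂ * φ x * s₂⁻¹)⁻¹ * ψ ⟨φ x, h x⟩) := by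
      group
    show (s₂ * s₁ * x * (s₂ * s₁)⁻¹)⁻¹ * ψ ⟨φ x, h x⟩ ∈ _
    rw [e]
    exact mul_mem h3 h4
  · rintro P φ - ⟨s, hs, h1⟩ ψ - e
    refine ⟨s⁻¹, S.inv_mem hs, ?_⟩
    rintro ⟨_, x, rfl⟩
    have h3 := conj_mem_hyp (p := p) (S.inv_mem hs) (inv_mem (h1 x))
    have e2 : s⁻¹ * ((s * x * s⁻¹)⁻¹ * φ x)⁻¹ * s⁻¹⁻¹ = (s⁻¹ * φ x * s⁻¹⁻¹)⁻¹ * x := by
      group
    rw [e2] at h3
    show (s⁻¹ * φ x * s⁻¹⁻¹)⁻¹ * ψ ⟨φ x, ⟨x, rfl⟩⟩ ∈ _
    rw [e]
    exact h3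
  · intro P hP α hα
    have hPS : P ≤ S := by
      rcases hP with rfl | h
      · exact le_rfl
      · exact h.1.1
    have hfinP : Finite P := finite_of_le hPS
    have hA : F.IsFullyAutomized p P := by
      rcases hP with rfl | h
      · exact IsSaturated.fullyAutomized_self hF
      · exact (IsSaturated.fullyNormalized hS hF h.2.1).1
    obtain ⟨ρ, c, s, hρ, hs, hcs, e⟩ := autGroup_decomp hA hα
    refine ⟨s, hs, fun x => ?_⟩
    have h1 := mem_hyp_of_residual (p := p) hPS ρ hρ (c x)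
    rw [hcs] at h1
    have e2 : ((α x : P) : Ω) = ((ρ.1 (c x) : P) : Ω) := by
      rw [e]
      rfl
    show (s * x * s⁻¹)⁻¹ * ((α x : P) : Ω) ∈ _
    rw [e2]
    have e3 : ((c x : P) : Ω) = s * x * s⁻¹ := hcs x
    have h5 : ((c x : P) : Ω)⁻¹ * ((ρ.1 (c x) : P) : Ω) ∈ F.hyperfocalSubgroup p :=
      mem_hyp_of_residual (p := p) hPS ρ hρ (c x)
    rwa [e3] at h5

/-- The hyperfocal subgroup, inside `S`. -/
abbrev hypS (F : FusionSystem S) (p : ℕ) : Subgroup ↥S := (F.hyperfocalSubgroup p).subgroupOf S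

/-- The hyperfocal subgroup is normal in `S`. -/
theorem hyp_normal (F : FusionSystem S) : (hypS F p).Normal :=
  ⟨fun t ht g => Subgroup.mem_subgroupOf.2
    (Cfsg.Agent.Lib.FusionHyp.conj_mem_hyp (p := p) g.2 (Subgroup.mem_subgroupOf.1 ht))⟩

/-- The isomorphisms coming from stability. -/
theorem exists_iso {F : FusionSystem S} [Finite S] {X : Type u} [MulAction (↥S × ↥S) X] [Finite X]
    (hX : GoodAbove F X 0) (P : Subgroup Ω) (φ : P →* Ω) (hφ : φ ∈ F.Hom P) :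
    ∃ f : X ≃ X, (∀ (x : P) ω, f (L (⟨x, source_le F hφ x.2⟩ : ↥S) ω) = L (⟨φ x, map_mem_S F hφ x⟩ : ↥S) (f ω)) ∧
      ∀ (s : ↥S) (ω : X), f (rr s ω) = rr s (f ω) := by
  have hPS : P ≤ S := source_le F hφ
  haveI : Finite P := finite_of_le hPS
  let u : ↥P × ↥S →* ↥S × ↥S := MonoidHom.prodMap (Subgroup.inclusion hPS) (MonoidHom.id ↥S)
  let v : ↥P × ↥S →* ↥S × ↥S := MonoidHom.prodMap (φ.codRestrict S (map_mem_S F hφ)) (MonoidHom.id ↥S)
  let m : MapPair F u v :=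
    { U₁ := P
      U₂ := S
      f₁ := φ
      f₂ := S.subtype
      h₁ := hφ
      h₂ := subtype_mem F le_rfl
      hu₁ := fun h => h.1.2
      hu₂ := fun h => h.2.2
      hv₁ := fun h => rfl
      hv₂ := fun h => rfl }
  have hmarks : ∀ K : Subgroup (↥P × ↥S), mark K (Tw u X) = mark K (Tw v X) := by
    intro K
    rw [mark_tw, mark_tw]
    exact mark_map_eq hX m K Nat.card_pos
  haveI : Finite (Tw u X) := ‹Finite X›
  haveI : Finite (Tw v X) := ‹Finite X›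
  obtain ⟨f, hf⟩ := iso_of_marks hmarks
  let f' : X ≃ X := f
  have hf' : ∀ (h : ↥P × ↥S) (ω : X), f' (u h • ω) = v h • f' ω := hf
  refine ⟨f', fun x ω => hf' (x, 1) ω, fun s ω => ?_⟩
  have e1 : u (1, s⁻¹) = ((1 : ↥S), s⁻¹) := Prod.ext (map_one (Subgroup.inclusion hPS)) rfl
  have e2 : v (1, s⁻¹) = ((1 : ↥S), s⁻¹) := Prod.ext (map_one (φ.codRestrict S (map_mem_S F hφ))) rfl
  have h3 := hf' (1, s⁻¹) ω
  rw [e1, e2] at h3
  exact h3

/-- An `S`-invariant homomorphism from the hyperfocal subgroup to an abelian `p`-group extends to `S`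
up to a power prime to `p`. -/
theorem exists_extension [Finite S] (hS : IsPGroup p S) {F : FusionSystem S} (hF : F.IsSaturated p)
    {A : Type*} [CommGroup A] (e : ℕ) (hA : ∀ a : A, a ^ (p ^ e) = 1)
    (lam : ↥(hypS F p) →* A)
    (hinv : ∀ (g : ↥S) (t : ↥(hypS F p))
      (hm : g * (t : ↥S) * g⁻¹ ∈ hypS F p), lam ⟨g * t * g⁻¹, hm⟩ = lam t) :
    ∃ (f : ↥S →* A) (m : ℕ), m.Coprime p ∧
      ∀ t : ↥(hypS F p), f t = lam t ^ m := by
  classical
  haveI hN : (hypS F p).Normal := hyp_normal F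
  obtain ⟨X, i1, i2, hX, M, hM, hcard⟩ := exists_char hS hF
  have hfree : ∀ (ω : X) (s : ↥S), ((1 : ↥S), s) • ω = ω → s = 1 := by
    intro ω s h
    obtain ⟨P, φ, hφ, e⟩ := hX.1 ω
    have h1 : ((1 : ↥S), s) ∈ stabilizer (↥S × ↥S) ω := h
    rw [e] at h1
    obtain ⟨h2, h3⟩ := h1
    have h4 : φ ⟨((1 : ↥S) : Ω), h2⟩ = 1 := map_one φ
    exact Subtype.ext (h3.symm.trans h4)
  have hY : Fintype.card (OrbY ↥S X) = M := by
    have h1 := card_eq (T := ↥S) (X := X) hfree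
    rw [hcard] at h1
    have h2 : 0 < Nat.card S := Nat.card_pos
    have h3 := Nat.eq_of_mul_eq_mul_left h2 h1
    rw [h3, Nat.card_eq_fintype_card]
  -- the coloring
  letI iact : MulAction (↥S × ↥S) (↥S ⧸ hypS F p) := colorAct (hypS F p)
  have hcolorex : ∀ ω : X, ∃ γ : ↥S ⧸ hypS F p, stabilizer (↥S × ↥S) ω ≤ stabilizer (↥S × ↥S) γ := by
    intro ω
    obtain ⟨P, φ, hφ, e⟩ := hX.1 ω
    obtain ⟨s, hs, hs'⟩ := exists_color hS hF hφ
    refine ⟨(((⟨s, hs⟩ : ↥S)⁻¹ : ↥S) : ↥S ⧸ hypS F p), ?_⟩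
    rw [e]
    rintro g ⟨h2, h3⟩
    rw [mem_stabilizer_iff]
    show ((g.1 : ↥S) : ↥S ⧸ hypS F p) * (((⟨s, hs⟩ : ↥S)⁻¹ : ↥S) : ↥S ⧸ hypS F p) * ((g.2 : ↥S) : ↥S ⧸ hypS F p)⁻¹ = _
    have h4 := hs' ⟨_, h2⟩
    rw [h3] at h4
    have h5 : (((⟨s, hs⟩ : ↥S) * g.1 * (⟨s, hs⟩ : ↥S)⁻¹ : ↥S) : ↥S ⧸ hypS F p) = ((g.2 : ↥S) : ↥S ⧸ hypS F p) :=
      QuotientGroup.eq.2 (Subgroup.mem_subgroupOf.2 h4)
    rw [← h5, QuotientGroup.mk_mul, QuotientGroup.mk_mul, QuotientGroup.mk_inv]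
    group
  obtain ⟨c, hc⟩ := exists_equivariant hcolorex
  have hL : ∀ (x : ↥S) ω, c (L x ω) = (x : ↥S ⧸ hypS F p) * c ω := by
    intro x ω
    have := hc (x, 1) ω
    refine this.trans ?_
    show (x : ↥S ⧸ hypS F p) * c ω * (((1 : ↥S) : ↥S ⧸ hypS F p))⁻¹ = _
    rw [QuotientGroup.mk_one, inv_one, mul_one]
  have hR : ∀ (s : ↥S) ω, c (rr s ω) = c ω * (s : ↥S ⧸ hypS F p) := by
    intro s ω
    have := hc (1, s⁻¹) ω
    refine this.trans ?_
    show ((1 : ↥S) : ↥S ⧸ hypS F p) * c ω * ((s⁻¹ : ↥S) : ↥S ⧸ hypS F p)⁻¹ = _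
    rw [QuotientGroup.mk_one, one_mul, QuotientGroup.mk_inv, inv_inv]
  -- representatives of colour one
  have hreps : ∀ y : OrbY ↥S X, ∃ a : ↥S, (a : ↥S ⧸ hypS F p) = (c (rep y))⁻¹ := fun y =>
    QuotientGroup.mk_surjective _
  choose a ha using hreps
  let ρ : OrbY ↥S X → X := fun y => rr (a y) (rep y)
  have hρ : ∀ y, mkY (ρ y) = y := fun y => by
    show mkY (rr (a y) (rep y)) = y
    rw [mkY_rr, mkY_rep]
  have hc1 : ∀ y, c (ρ y) = 1 := fun y => by
    show c (rr (a y) (rep y)) = 1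
    rw [hR, ha, mul_inv_cancel]
  obtain ⟨k, hk⟩ := exists_cocycle ρ hρ
  have hcol := k_col hk hL hR hc1
  have hm : ∀ x y, x * (k x y)⁻¹ ∈ hypS F p := by
    intro x y
    apply (QuotientGroup.eq_one_iff _).1
    rw [QuotientGroup.mk_mul, QuotientGroup.mk_inv, hcol, mul_inv_cancel]
  have hm' : ∀ (u : ↥(hypS F p)) y, k u y ∈ hypS F p := by
    intro u y
    apply (QuotientGroup.eq_one_iff _).1
    rw [hcol]
    exact (QuotientGroup.eq_one_iff _).2 u.2
  have hinv' : ∀ (g : ↥S) (t : ↥(hypS F p)), lam ⟨g * t * g⁻¹, (hyp_normal F).conj_mem _ t.2 g⟩ = lam t :=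
    fun g t => hinv g t _
  let f : ↥S →* A := MonoidHom.mk' (ftw lam k hm) (ftw_mul hfree hk lam hρ hm hinv')
  let g : ↥(hypS F p) →* A := MonoidHom.mk' (gtw lam k hm') (gtw_mul hfree hk lam hρ hm')
  have hfcoe : ∀ t : ↥(hypS F p), f t = lam t ^ M * (g t)⁻¹ := by
    intro t
    have := ftw_coe lam hm hm' t
    rw [hY] at this
    exact this
  -- stability of `g`
  have hT := Cfsg.Agent.Lib.FusionHyp.hyp_stronglyClosed hS hF
  have hmemφ : ∀ (P : Subgroup Ω) (φ : P →* Ω) (hφ : φ ∈ F.Hom P) (x : P), (x : Ω) ∈ F.hyperfocalSubgroup p →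
      φ x ∈ F.hyperfocalSubgroup p := by
    intro P φ hφ x hx
    have hle : Subgroup.zpowers (x : Ω) ≤ P := by
      rw [Subgroup.zpowers_le]
      exact x.2
    have h1 := restrict_mem F hφ hle
    have h2 := hT.2 (Subgroup.zpowers (x : Ω)) (by
      rw [Subgroup.zpowers_le]
      exact hx) _ h1 ⟨x, Subgroup.mem_zpowers _⟩
    exact h2
  have hstab : ∀ (P : Subgroup Ω) (φ : P →* Ω) (hφ : φ ∈ F.Hom P) (x : P) (hx : (x : Ω) ∈ F.hyperfocalSubgroup p),
      g ⟨⟨φ x, map_mem_S F hφ x⟩, Subgroup.mem_subgroupOf.2 (hmemφ P φ hφ x hx)⟩ =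
        g ⟨⟨x, source_le F hφ x.2⟩, Subgroup.mem_subgroupOf.2 hx⟩ := by
    intro P φ hφ x hx
    obtain ⟨f₀, h1, h2⟩ := exists_iso hX P φ hφ
    exact gtw_stable hfree hk lam hρ hm' hinv' _ _ f₀ (h1 x) h2
  -- the kernel of `g`
  let K : Subgroup Ω := ((g.ker).map (hypS F p).subtype).map S.subtype
  have hgen : ∀ (P : Subgroup Ω) (hP : P ≤ S) (α : F.autGroup P), (orderOf α).Coprime p → ∀ x : P,
      (x : Ω)⁻¹ * ((α : MulAut P) x : P) ∈ K := by
    intro P hP α hα x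
    have hαr : α ∈ Cfsg.pResidual p (F.autGroup P) := Subgroup.subset_closure hα
    have hw : (x : Ω)⁻¹ * ((α : MulAut P) x : P) ∈ F.hyperfocalSubgroup p :=
      Cfsg.Agent.Lib.FusionHyp.mem_hyp_of_residual hP α hαr x
    have hwS : (x : Ω)⁻¹ * ((α : MulAut P) x : P) ∈ S := S.mul_mem (S.inv_mem (hP x.2)) (hP ((α : MulAut P) x).2)
    let w : ↥(hypS F p) := ⟨⟨_, hwS⟩, Subgroup.mem_subgroupOf.2 hw⟩
    have hiter : ∀ j : ℕ, ∃ (q : ↥(hypS F p)), ((q : ↥S) : Ω) = (x : Ω)⁻¹ * (((α ^ j : F.autGroup P) : MulAut P) x : P) ∧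
        g q = g w ^ j := by
      intro j
      induction j with
      | zero =>
        refine ⟨1, ?_, by simp⟩
        show (1 : Ω) = (x : Ω)⁻¹ * ((1 : MulAut P) x : P)
        simp
      | succ j ih =>
        obtain ⟨q, hq, hgq⟩ := ih
        let β : F.autGroup P := α ^ j
        have hβ : P.subtype.comp (β : MulAut P).toMonoidHom ∈ F.Hom P := (mem_autGroup_iff F hP).mp β.2
        let xw : P := x⁻¹ * (α : MulAut P) x
        have hxw : (xw : Ω) ∈ F.hyperfocalSubgroup p := hw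
        have hs := hstab P _ hβ xw hxw
        refine ⟨q * ⟨⟨P.subtype.comp (β : MulAut P).toMonoidHom xw, map_mem_S F hβ xw⟩,
          Subgroup.mem_subgroupOf.2 (hmemφ P _ hβ xw hxw)⟩, ?_, ?_⟩
        · show ((q : ↥S) : Ω) * (((β : MulAut P) xw : P) : Ω) = _
          rw [hq]
          have e1 : (((β : MulAut P) xw : P) : Ω) =
              (((β : MulAut P) x : P) : Ω)⁻¹ * (((β : MulAut P) ((α : MulAut P) x) : P) : Ω) := by
            show (((β : MulAut P) (x⁻¹ * (α : MulAut P) x) : P) : Ω) = _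
            rw [map_mul, map_inv]
            rfl
          have e2 : (((α ^ (j + 1) : F.autGroup P) : MulAut P) x : P) = (β : MulAut P) ((α : MulAut P) x) := by
            rw [pow_succ]
            rfl
          show (x : Ω)⁻¹ * (((β : MulAut P) x : P) : Ω) * (((β : MulAut P) xw : P) : Ω) = _
          rw [e1, e2, mul_assoc, mul_inv_cancel_left]
        · rw [map_mul, hgq, pow_succ]
          exact congrArg _ hs
    obtain ⟨q, hq, hgq⟩ := hiter (orderOf α)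
    rw [pow_orderOf_eq_one α] at hq
    have hq1 : q = 1 := by
      apply Subtype.ext
      apply Subtype.ext
      rw [hq]
      show (x : Ω)⁻¹ * ((1 : MulAut P) x : P) = 1
      simp
    rw [hq1, map_one] at hgq
    have h3 := orderOf_dvd_of_pow_eq_one hgq.symm
    have h4 := orderOf_dvd_of_pow_eq_one (hA (g w))
    have h5 : (orderOf α).Coprime (p ^ e) := hα.pow_right e
    have h6 : orderOf (g w) = 1 := Nat.eq_one_of_dvd_coprimes h5 h3 h4
    refine ⟨w, ⟨w, orderOf_eq_one_iff.1 h6, rfl⟩, rfl⟩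
  have hgen2 : ∀ (P : Subgroup Ω) (hP : P ≤ S) (α : F.autGroup P), α ∈ Cfsg.pResidual p (F.autGroup P) → ∀ x : P,
      (x : Ω)⁻¹ * ((α : MulAut P) x : P) ∈ K := by
    intro P hP α hα
    unfold Cfsg.pResidual at hα
    induction hα using Subgroup.closure_induction with
    | mem y hy => exact hgen P hP y hy
    | one =>
      intro x
      show (x : Ω)⁻¹ * ((1 : MulAut P) x : P) ∈ K
      simp
    | mul a b _ _ ha hb =>
      intro x
      have h1 := K.mul_mem (hb x) (ha ((b : MulAut P) x))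
      have e : (x : Ω)⁻¹ * (((a * b : F.autGroup P) : MulAut P) x : P) =
          ((x : Ω)⁻¹ * ((b : MulAut P) x : P)) *
            ((((b : MulAut P) x : P) : Ω)⁻¹ * ((a : MulAut P) ((b : MulAut P) x) : P)) := by
        have : (((a * b : F.autGroup P) : MulAut P) x : P) = (a : MulAut P) ((b : MulAut P) x) := rfl
        rw [this]
        group
      rw [e]
      exact h1
    | inv a _ ha =>
      intro x
      have h1 := K.inv_mem (ha (((a⁻¹ : F.autGroup P) : MulAut P) x))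
      have e1 : (a : MulAut P) (((a⁻¹ : F.autGroup P) : MulAut P) x) = x := by
        show (a : MulAut P) ((a : MulAut P)⁻¹ x) = x
        simp
      rw [e1] at h1
      have e2 : (x : Ω)⁻¹ * (((a⁻¹ : F.autGroup P) : MulAut P) x : P) =
          ((((((a⁻¹ : F.autGroup P) : MulAut P) x : P) : Ω))⁻¹ * (x : Ω))⁻¹ := by
        rw [mul_inv_rev, inv_inv]
      rw [e2]
      exact h1
  have hyple : F.hyperfocalSubgroup p ≤ K := by
    rw [hyperfocalSubgroup, Subgroup.closure_le]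
    rintro _ ⟨P, α, x, hP, hα, rfl⟩
    exact hgen2 P hP α hα x
  have hg1 : ∀ t : ↥(hypS F p), g t = 1 := by
    intro t
    have h1 := hyple (Subgroup.mem_subgroupOf.1 t.2)
    obtain ⟨_, ⟨v, hv, rfl⟩, e⟩ := h1
    have e2 : v = t := Subtype.ext (Subtype.ext e)
    rw [← e2]
    exact hv
  refine ⟨f, M, hM, fun t => ?_⟩
  rw [hfcoe, hg1, inv_one, mul_one]

/-- Chief factors between two normal subgroups. -/
theorem exists_chief_between {G : Type*} [Group G] [Finite G] {X W : Subgroup G} (hX : X.Normal)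
    (hW : W.Normal) (hlt : W < X) : ∃ Y, W ≤ Y ∧ IsChiefFactor X Y := by
  classical
  let 𝒮 : Set (Subgroup G) := {Y | Y.Normal ∧ W ≤ Y ∧ Y < X}
  have h𝒮 : 𝒮.Nonempty := ⟨W, hW, le_rfl, hlt⟩
  obtain ⟨Y, hY⟩ := 𝒮.toFinite.exists_maximal h𝒮
  refine ⟨Y, hY.prop.2.1, hY.prop.2.2, hX, hY.prop.1, fun N hN hYN hNX => ?_⟩
  by_cases h : N = X
  · exact Or.inr h
  · left
    have hlt' : N < X := lt_of_le_of_ne hNX h
    exact (le_antisymm hYN (hY.le_of_ge ⟨hN, hY.prop.2.1.trans hYN, hlt'⟩ hYN)).symm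

/-- A chief factor below the hyperfocal subgroup is detected by a homomorphism from `S` to `ℤ/p`. -/
theorem exists_hom_of_chief [Finite S] (hS : IsPGroup p S) {F : FusionSystem S} (hF : F.IsSaturated p)
    {Y : Subgroup ↥S} (hχ : IsChiefFactor (hypS F p) Y) :
    ∃ f : ↥S →* Multiplicative (ZMod p), ∀ t ∈ hypS F p, f t = 1 ↔ t ∈ Y := by
  classical
  haveI hYn : Y.Normal := hχ.2.2.1
  haveI hTn : (hypS F p).Normal := hyp_normal F
  have hcomm : ⁅hypS F p, (⊤ : Subgroup ↥S)⁆ ≤ Y :=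
    Cfsg.Agent.Lib.ChiefCrit.chief_central hχ le_top (IsPGroup.of_equiv hS Subgroup.topEquiv.symm)
  have hcard := Cfsg.Agent.Lib.Tate.card_chief_map hS hχ
  have hZcard : Nat.card (Multiplicative (ZMod p)) = p := by
    rw [Nat.card_congr Multiplicative.toAdd, Nat.card_zmod]
  let e := mulEquivOfPrimeCardEq hcard hZcard
  let π₀ : ↥(hypS F p) →* ↥((hypS F p).map (QuotientGroup.mk' Y)) :=
    ((QuotientGroup.mk' Y).comp (hypS F p).subtype).codRestrict _ (fun t => ⟨t, t.2, rfl⟩)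
  let lam : ↥(hypS F p) →* Multiplicative (ZMod p) := e.toMonoidHom.comp π₀
  have hlam : ∀ t : ↥(hypS F p), lam t = 1 ↔ (t : ↥S) ∈ Y := by
    intro t
    constructor
    · intro h
      have h1 : π₀ t = 1 := by
        apply e.injective
        rw [map_one]
        exact h
      have h2 : QuotientGroup.mk' Y (t : ↥S) = 1 := congrArg Subtype.val h1
      exact (QuotientGroup.eq_one_iff _).1 h2
    · intro h
      have h1 : π₀ t = 1 := by
        apply Subtype.ext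
        exact (QuotientGroup.eq_one_iff _).2 h
      show e (π₀ t) = 1
      rw [h1, map_one]
  have hA : ∀ a : Multiplicative (ZMod p), a ^ (p ^ 1) = 1 := by
    intro a
    rw [pow_one]
    have := pow_card_eq_one' (x := a)
    rwa [hZcard] at this
  have hinv : ∀ (g : ↥S) (t : ↥(hypS F p)) (hm : g * (t : ↥S) * g⁻¹ ∈ hypS F p),
      lam ⟨g * t * g⁻¹, hm⟩ = lam t := by
    intro g t hm
    have h1 : lam ⟨g * t * g⁻¹, hm⟩ * (lam t)⁻¹ = 1 := by
      rw [← map_inv, ← map_mul, hlam]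
      show g * (t : ↥S) * g⁻¹ * (t : ↥S)⁻¹ ∈ Y
      have h2 := hcomm (Subgroup.commutator_mem_commutator (hTn.conj_mem _ t.2 g) (Subgroup.mem_top g))
      have e2 : ⁅g * (t : ↥S) * g⁻¹, g⁆ = (g * (t : ↥S) * g⁻¹) * g * (g * (t : ↥S) * g⁻¹)⁻¹ * g⁻¹ := rfl
      have h3 := hcomm (Subgroup.commutator_mem_commutator ((hypS F p).inv_mem t.2) (Subgroup.mem_top g))
      have e3 : ⁅((t : ↥S))⁻¹, g⁆ = (t : ↥S)⁻¹ * g * (t : ↥S)⁻¹⁻¹ * g⁻¹ := rfl
      have h4 := hYn.conj_mem _ h3 (t : ↥S)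
      have e4 : (t : ↥S) * ((t : ↥S)⁻¹ * g * (t : ↥S)⁻¹⁻¹ * g⁻¹) * (t : ↥S)⁻¹ = g * (t : ↥S) * g⁻¹ * (t : ↥S)⁻¹ := by
        group
      rw [e3, e4] at h4
      exact h4
    exact mul_inv_eq_one.1 h1
  obtain ⟨f, m, hm, hf⟩ := exists_extension hS hF 1 hA lam hinv
  refine ⟨f, fun t ht => ?_⟩
  have h1 := hf ⟨t, ht⟩
  rw [← hlam ⟨t, ht⟩]
  show f t = 1 ↔ _
  have h1' : f t = lam ⟨t, ht⟩ ^ m := h1
  rw [h1']
  constructor
  · intro h
    have h3 := orderOf_dvd_of_pow_eq_one h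
    have h4 := orderOf_dvd_of_pow_eq_one (hA (lam ⟨t, ht⟩))
    have h5 : m.Coprime (p ^ 1) := hm.pow_right 1
    exact orderOf_eq_one_iff.1 (Nat.eq_one_of_dvd_coprimes h5 h3 h4)
  · intro h
    rw [h, one_pow]

/-- Tate: a hyperfocal subgroup inside the Frattini subgroup is trivial. -/
theorem hyp_eq_bot_of_le_frattini [Finite S] (hS : IsPGroup p S) {F : FusionSystem S} (hF : F.IsSaturated p)
    (h : F.hyperfocalSubgroup p ≤ (frattini ↥S).map S.subtype) : F.hyperfocalSubgroup p = ⊥ := by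
  classical
  by_contra hne
  have hTn : (hypS F p).Normal := hyp_normal F
  have hb : hypS F p ≠ ⊥ := by
    intro h0
    apply hne
    rw [eq_bot_iff]
    intro x hx
    have hxS := Cfsg.Agent.Lib.FusionHyp.hyp_le F hx
    have h1 : (⟨x, hxS⟩ : ↥S) ∈ hypS F p := Subgroup.mem_subgroupOf.2 hx
    rw [h0, Subgroup.mem_bot] at h1
    exact Subgroup.mem_bot.2 (congrArg Subtype.val h1)
  obtain ⟨Y, hχ⟩ := Cfsg.Agent.Lib.ChiefCrit.exists_chief_below hTn hb
  obtain ⟨f, hf⟩ := exists_hom_of_chief hS hF hχ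
  obtain ⟨t, ht, htY⟩ := SetLike.exists_of_lt hχ.1
  apply htY
  rw [← hf t ht]
  have h1 := h (Subgroup.mem_subgroupOf.1 ht)
  obtain ⟨t', ht', e⟩ := h1
  have e2 : t' = t := Subtype.ext e
  rw [e2] at ht'
  have hZcard : Nat.card (Multiplicative (ZMod p)) = p := by
    rw [Nat.card_congr Multiplicative.toAdd, Nat.card_zmod]
  haveI : Finite (Multiplicative (ZMod p)) := Nat.finite_of_card_ne_zero (by rw [hZcard]; exact hp.out.ne_zero)
  exact Cfsg.Agent.Lib.Tate.frattini_le_ker f hZcard ht'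

/-- A trivial hyperfocal subgroup forces the system to be inner. -/
theorem inner_of_hyp_eq_bot [Finite S] (hS : IsPGroup p S) {F : FusionSystem S} (hF : F.IsSaturated p)
    (h : F.hyperfocalSubgroup p = ⊥) (P : Subgroup Ω) : F.Hom P = (innerFusionSystem S).Hom P := by
  refine Cfsg.Agent.Lib.FusionGT.inner_of_autP hS hF (fun U hU => ?_) P
  haveI : Finite U := finite_of_le hU
  haveI : Finite (F.autGroup U) := by
    haveI := mulAut_finite (P := U)
    infer_instance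
  refine Cfsg.Agent.Lib.ThmOSparseB.isPGroup_of_coprime_trivial (fun α hα => ?_)
  have hαr : α ∈ Cfsg.pResidual p (F.autGroup U) := Subgroup.subset_closure hα
  apply Subtype.ext
  apply MulEquiv.ext
  intro x
  apply Subtype.ext
  have h1 := Cfsg.Agent.Lib.FusionHyp.mem_hyp_of_residual hU α hαr x
  rw [h, Subgroup.mem_bot] at h1
  exact (inv_mul_eq_one.1 h1).symm

/-- Tate for a focal subgroup inside the Frattini subgroup. -/
theorem inner_of_foc_le_frattini [Finite S] (hS : IsPGroup p S) {F : FusionSystem S} (hF : F.IsSaturated p)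
    (h : F.focalSubgroup ≤ (frattini ↥S).map S.subtype) (P : Subgroup Ω) :
    F.Hom P = (innerFusionSystem S).Hom P :=
  inner_of_hyp_eq_bot hS hF
    (hyp_eq_bot_of_le_frattini hS hF ((Cfsg.Agent.Lib.FusionHyp.hyp_le_foc F).trans h)) P

/-- Monotonicity of the hyperfocal subgroup. -/
theorem hyp_mono {F H : FusionSystem S} (hHF : H.IsSubsystemOf F) :
    H.hyperfocalSubgroup p ≤ F.hyperfocalSubgroup p := by
  rw [hyperfocalSubgroup, Subgroup.closure_le]
  rintro _ ⟨P, α, x, hP, hα, rfl⟩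
  have hle : H.autGroup P ≤ F.autGroup P := by
    intro β hβ
    exact (mem_autGroup_iff F hP).2 (hHF P ((mem_autGroup_iff H hP).1 hβ))
  have h1 := Cfsg.Agent.Lib.FusionHyp.pResidual_map_mem (p := p) (Subgroup.inclusion hle) hα
  exact Cfsg.Agent.Lib.FusionHyp.mem_hyp_of_residual hP _ h1 x

/-- Tate's theorem for saturated systems. -/
theorem tate_main [Finite S] (hS : IsPGroup p S) {F H : FusionSystem S} (hF : F.IsSaturated p)
    (hH : H.IsSaturated p) (hHF : H.IsSubsystemOf F)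
    (h : (frattini ↥S).map S.subtype ⊔ F.focalSubgroup = (frattini ↥S).map S.subtype ⊔ H.focalSubgroup) :
    F.hyperfocalSubgroup p = H.hyperfocalSubgroup p := by
  classical
  refine le_antisymm ?_ (hyp_mono hHF)
  by_contra hcon
  haveI hTn : (hypS F p).Normal := hyp_normal F
  haveI hT₀n : (hypS H p).Normal := hyp_normal H
  have hlt : hypS H p < hypS F p := by
    refine lt_of_le_of_ne (fun x hx => Subgroup.mem_subgroupOf.2 (hyp_mono hHF (Subgroup.mem_subgroupOf.1 hx))) ?_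
    intro e
    apply hcon
    intro x hx
    have hxS := Cfsg.Agent.Lib.FusionHyp.hyp_le F hx
    have h1 : (⟨x, hxS⟩ : ↥S) ∈ hypS F p := Subgroup.mem_subgroupOf.2 hx
    rw [← e] at h1
    exact Subgroup.mem_subgroupOf.1 h1
  obtain ⟨Y, hWY, hχ⟩ := exists_chief_between hTn hT₀n hlt
  obtain ⟨f, hf⟩ := exists_hom_of_chief hS hF hχ
  have hZcard : Nat.card (Multiplicative (ZMod p)) = p := by
    rw [Nat.card_congr Multiplicative.toAdd, Nat.card_zmod]
  haveI : Finite (Multiplicative (ZMod p)) := Nat.finite_of_card_ne_zero (by rw [hZcard]; exact hp.out.ne_zero)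
  let K : Subgroup Ω := (f.ker).map S.subtype
  have hΦ : (frattini ↥S).map S.subtype ≤ K :=
    Subgroup.map_mono (Cfsg.Agent.Lib.Tate.frattini_le_ker f hZcard)
  have hcomm : ⁅S, S⁆ ≤ K := by
    rw [Subgroup.commutator_le]
    intro a ha b hb
    refine ⟨⁅(⟨a, ha⟩ : ↥S), (⟨b, hb⟩ : ↥S)⁆, ?_, rfl⟩
    show f _ = 1
    rw [commutatorElement_def, map_mul, map_mul, map_mul, map_inv, map_inv]
    rw [mul_comm (f ⟨a, ha⟩) (f ⟨b, hb⟩), mul_assoc, mul_assoc, mul_inv_cancel_left, mul_inv_cancel]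
  have hHyp : H.hyperfocalSubgroup p ≤ K := by
    intro x hx
    have hxS := Cfsg.Agent.Lib.FusionHyp.hyp_le H hx
    have h1 : (⟨x, hxS⟩ : ↥S) ∈ hypS H p := Subgroup.mem_subgroupOf.2 hx
    have h2 := (hf _ (hlt.le h1)).2 (hWY h1)
    exact ⟨⟨x, hxS⟩, h2, rfl⟩
  have hle : (frattini ↥S).map S.subtype ⊔ H.focalSubgroup ≤ K := by
    rw [Cfsg.Agent.Lib.FusionHyp.foc_eq hS hH]
    exact sup_le hΦ (sup_le hHyp hcomm)
  obtain ⟨t, ht, htY⟩ := SetLike.exists_of_lt hχ.1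
  apply htY
  rw [← hf t ht]
  have h1 : (t : Ω) ∈ (frattini ↥S).map S.subtype ⊔ F.focalSubgroup :=
    Subgroup.mem_sup_right (Cfsg.Agent.Lib.FusionHyp.hyp_le_foc F (Subgroup.mem_subgroupOf.1 ht))
  rw [h] at h1
  obtain ⟨t', ht', e⟩ := hle h1
  have e2 : t' = t := Subtype.ext e
  rw [← e2]
  exact ht'

/-- Burnside: a strongly closed subgroup with abelian quotient on which the automorphisms of `S`
act trivially contains the focal subgroup. -/
theorem foc_le_of_abelian_quot [Finite S] (hS : IsPGroup p S) {F : FusionSystem S} (hF : F.IsSaturated p)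
    {T : Subgroup Ω} (hT : F.StronglyClosed T) (hcomm : ⁅S, S⁆ ≤ T)
    (haut : ∀ φ ∈ F.Hom S, ∀ x : S, (x : Ω)⁻¹ * φ x ∈ T) : F.focalSubgroup ≤ T := by
  classical
  haveI hnorm : (T.subgroupOf S).Normal := by
    refine Subgroup.Normal.mk fun x hx g => ?_
    have h1 := Subgroup.mem_normalizer_iff.mp (Cfsg.Agent.Lib.FusionNormal.StronglyClosed.le_normalizer hT g.2) x
    exact h1.mp hx
  have hker : ∀ s : S, (QuotientGroup.mk' (T.subgroupOf S)) s = 1 ↔ (s : Ω) ∈ T := fun s =>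
    QuotientGroup.eq_one_iff s
  have hrange : (QuotientGroup.mk' (T.subgroupOf S)).range = ⊤ :=
    MonoidHom.range_eq_top.mpr (QuotientGroup.mk'_surjective _)
  obtain ⟨E, hE⟩ := Cfsg.Agent.Lib.FusionFactor.exists_factorSystem F hT (QuotientGroup.mk' (T.subgroupOf S)) hker hrange
  have hmor := Cfsg.Agent.Lib.FusionQuot.isSurjectiveMorphism_of_factor hS hF hT hE
  have hEF : E.IsSaturated p := Cfsg.Agent.Lib.FusionQuot.isSaturated_of_surjective hS hF hmor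
  -- the quotient is abelian
  have habel : ∀ a b : S ⧸ T.subgroupOf S, a * b = b * a := by
    intro a b
    obtain ⟨a, rfl⟩ := QuotientGroup.mk_surjective a
    obtain ⟨b, rfl⟩ := QuotientGroup.mk_surjective b
    rw [← QuotientGroup.mk_mul, ← QuotientGroup.mk_mul, QuotientGroup.eq]
    apply Subgroup.mem_subgroupOf.2
    have h1 := hcomm (Subgroup.commutator_mem_commutator (S.inv_mem b.2) (S.inv_mem a.2))
    have e : (((a * b)⁻¹ * (b * a) : S) : Ω) = ⁅((b : Ω))⁻¹, ((a : Ω))⁻¹⁆ := by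
      show ((a : Ω) * (b : Ω))⁻¹ * ((b : Ω) * (a : Ω)) = _
      rw [commutatorElement_def]
      group
    rw [e]
    exact h1
  have key : ∀ (P₁ : Subgroup Ω) (_ : P₁ = S) (φ : P₁ →* Ω) (_ : φ ∈ F.Hom P₁) (x : P₁), (x : Ω)⁻¹ * φ x ∈ T := by
    rintro _ rfl φ hφ x
    exact haut φ hφ x
  have hpre : preimageAlong (QuotientGroup.mk' (T.subgroupOf S)) (⊤ : Subgroup (S ⧸ T.subgroupOf S)) = S := by
    ext x
    constructor
    · rintro ⟨y, -, rfl⟩
      exact y.2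
    · intro hx
      exact ⟨⟨x, hx⟩, trivial, rfl⟩
  have hid : ∀ (P₂ : Subgroup (S ⧸ T.subgroupOf S)) (_ : P₂ = ⊤) (ψ : P₂ →* S ⧸ T.subgroupOf S)
      (_ : ψ ∈ E.Hom P₂) (s : P₂), ψ s = s := by
    rintro _ rfl ψ hψ s
    obtain ⟨-, φ, hφ, hP, hφS, hP', h⟩ := (hE.2.2.2 _ ψ).mp hψ
    obtain ⟨a, ha⟩ := QuotientGroup.mk_surjective (s : S ⧸ T.subgroupOf S)
    have ha' : (a : Ω) ∈ preimageAlong (QuotientGroup.mk' (T.subgroupOf S)) (⊤ : Subgroup (S ⧸ T.subgroupOf S)) := by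
      rw [hpre]
      exact a.2
    have h1 := h ⟨a, ha'⟩
    have h2 := key _ hpre φ hφ ⟨a, ha'⟩
    have h3 : (QuotientGroup.mk' (T.subgroupOf S)) ⟨φ ⟨a, ha'⟩, hφS _⟩ = (a : S ⧸ T.subgroupOf S) := by
      show ((⟨φ ⟨a, ha'⟩, hφS _⟩ : S) : S ⧸ T.subgroupOf S) = (a : S ⧸ T.subgroupOf S)
      symm
      rw [QuotientGroup.eq]
      exact Subgroup.mem_subgroupOf.2 h2
    rw [h3] at h1
    have e2 : s = ⟨(QuotientGroup.mk' (T.subgroupOf S)) ⟨(⟨a, ha'⟩ : preimageAlong (QuotientGroup.mk' (T.subgroupOf S)) (⊤ : Subgroup (S ⧸ T.subgroupOf S))), hP (⟨a, ha'⟩ : preimageAlong (QuotientGroup.mk' (T.subgroupOf S)) (⊤ : Subgroup (S ⧸ T.subgroupOf S))).2⟩, hP' _⟩ := by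
      apply Subtype.ext
      exact ha.symm
    rw [e2, h1]
    rfl
  have hext : ∀ (P₃ : Subgroup (S ⧸ T.subgroupOf S)) (χ₃ : P₃ →* S ⧸ T.subgroupOf S),
      extender (⊤ : Subgroup (S ⧸ T.subgroupOf S)) P₃ χ₃ = ⊤ := by
    intro P₃ χ₃
    rw [eq_top_iff]
    intro g _
    have hgc : ∀ x : S ⧸ T.subgroupOf S, g * x * g⁻¹ = x := by
      intro x
      rw [habel g x, mul_inv_cancel_right]
    apply Subgroup.subset_closure
    refine ⟨trivial, ?_, 1, trivial, fun x hx => ?_⟩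
    · rw [Subgroup.mem_normalizer_iff]
      intro h
      rw [hgc]
    · have e3 : (⟨g * (x : S ⧸ T.subgroupOf S) * g⁻¹, hx⟩ : P₃) = x := Subtype.ext (hgc x)
      rw [e3, one_mul, inv_one, mul_one]
  have hall : ∀ (P' : Subgroup (S ⧸ T.subgroupOf S)) (φ' : P' →* S ⧸ T.subgroupOf S), φ' ∈ E.Hom P' →
      ∀ x : P', φ' x = x := by
    intro P' φ' hφ' x
    obtain ⟨Q', ⟨χ, hχ, hχr⟩, -, hrec⟩ := hEF P' le_top
    have hrecid : ∀ (P₄ : Subgroup (S ⧸ T.subgroupOf S)) (χ₄ : P₄ →* S ⧸ T.subgroupOf S), χ₄ ∈ E.Hom P₄ →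
        χ₄.range = Q' → ∀ y : P₄, χ₄ y = y := by
      intro P₄ χ₄ h4 h5 y
      obtain ⟨ψ, hψ, hψe⟩ := hrec.2 P₄ χ₄ h4 h5
      have hy : (y : S ⧸ T.subgroupOf S) ∈ extender (⊤ : Subgroup (S ⧸ T.subgroupOf S)) P₄ χ₄ := by
        rw [hext]
        trivial
      have h6 := hψe y y.2 hy
      have h7 := hid _ (hext _ _) ψ hψ ⟨y, hy⟩
      have e4 : (⟨(y : S ⧸ T.subgroupOf S), y.2⟩ : P₄) = y := rfl
      rw [e4] at h6
      rw [← h6]
      exact h7
    obtain ⟨ν, hν, e⟩ := E.inv_mem hφ'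
    have hνm : ∀ y : φ'.range, ν y ∈ P' := by
      rintro ⟨_, a, rfl⟩
      rw [e a]
      exact a.2
    have hμ := E.comp_mem hν hχ hνm
    have hμr : (χ.comp (ν.codRestrict P' hνm)).range = Q' := by
      rw [← hχr]
      ext y
      constructor
      · rintro ⟨a, rfl⟩
        exact ⟨_, rfl⟩
      · rintro ⟨a, rfl⟩
        refine ⟨⟨φ' a, a, rfl⟩, ?_⟩
        show χ _ = χ a
        congr 1
        exact Subtype.ext (e a)
    have h8 := hrecid _ _ hμ hμr ⟨φ' x, x, rfl⟩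
    have h9 := hrecid _ χ hχ hχr x
    have e5 : (χ.comp (ν.codRestrict P' hνm)) ⟨φ' x, x, rfl⟩ = χ x := by
      show χ _ = χ x
      congr 1
      exact Subtype.ext (e x)
    rw [e5, h9] at h8
    exact h8.symm
  rw [focalSubgroup, Subgroup.closure_le]
  rintro _ ⟨P, φ, x, hφ, rfl⟩
  obtain ⟨φ', hφ', hp1, hp2, hp3, h⟩ := hmor.1.2 P φ hφ
  have h1 := h x
  rw [hall _ _ hφ'] at h1
  have h2 : ((⟨x, hp1 x.2⟩ : S) : S ⧸ T.subgroupOf S) = ((⟨φ x, hp2 x⟩ : S) : S ⧸ T.subgroupOf S) := h1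
  rw [QuotientGroup.eq] at h2
  exact Subgroup.mem_subgroupOf.1 h2

/-- From the hypothesis on the normalizer system of `S`: automorphisms of `S` are inner. -/
theorem aut_inner_of_normalizer [Finite S] {F : FusionSystem S}
    (hN : ∀ N : FusionSystem (normalizerIn S S), F.IsNormalizerSystem S N →
      ∀ P : Subgroup Ω, N.Hom P = (innerFusionSystem (normalizerIn S S)).Hom P)
    {φ : S →* Ω} (hφ : φ ∈ F.Hom S) : ∃ g ∈ S, ∀ x : S, φ x = g * x * g⁻¹ := by
  classical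
  have hSS : normalizerIn S S = S := inf_eq_left.mpr Subgroup.le_normalizer
  have hNis := isNormalizerSystem_normalizerSystem F S le_rfl
  have hφN : φ ∈ (normalizerSystem F S le_rfl).Hom S := by
    rw [hNis S]
    refine ⟨hφ, hSS.ge, fun x => ?_, φ.comp (Subgroup.inclusion (sup_le le_rfl le_rfl)),
      restrict_mem F hφ _, fun x => rfl, ?_⟩
    · rw [hSS]
      exact map_mem_S F hφ x
    · ext y
      constructor
      · rintro ⟨a, -, rfl⟩
        exact map_mem_S F hφ _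
      · intro hy
        let c : S →* S := φ.codRestrict S (map_mem_S F hφ)
        have hinj : Function.Injective c := by
          intro a b hab
          exact F.injective_of_mem hφ (congrArg Subtype.val hab)
        have hsurj := Finite.injective_iff_surjective.1 hinj
        obtain ⟨a, ha⟩ := hsurj ⟨y, hy⟩
        refine ⟨⟨a, Subgroup.mem_sup_left a.2⟩, Subgroup.mem_subgroupOf.2 a.2, ?_⟩
        exact congrArg Subtype.val ha
  rw [hN _ hNis S] at hφN
  obtain ⟨-, g, hg, hgx⟩ := hφN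
  exact ⟨g, hSS.le hg, hgx⟩

end Fusion

end Cfsg.Agent.Lib.BisetTate
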