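import Mathlib
import Cfsg.Agent.Lib.BisetTate

/-! Yoshida's theorem for saturated systems. -/

set_option autoImplicit false
set_option linter.all false

namespace Cfsg.Agent.Lib.BisetYoshida

open Cfsg Cfsg.FusionSystem MulAction Cfsg.Agent.Lib.BisetGSet Cfsg.Agent.Lib.FusionBasic
  Cfsg.Agent.Lib.BisetGraph Cfsg.Agent.Lib.BisetExist Cfsg.Agent.Lib.BisetTransfer
  Cfsg.Agent.Lib.BisetParity Cfsg.Agent.Lib.FusionSat Cfsg.Agent.Lib.FusionAut
  Cfsg.Agent.Lib.BisetTate

open scoped commutatorElement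

universe u

section PGroup

variable {G : Type*} [Group G] [Finite G] {p : ℕ} [hp : Fact p.Prime]

/-- A proper subgroup of a `p`-group lies in a normal subgroup of index `p`. -/
theorem exists_normal_index_p (hG : IsPGroup p G) {B : Subgroup G} (hB : B ≠ ⊤) :
    ∃ Q : Subgroup G, Q.Normal ∧ Q.index = p ∧ B ≤ Q := by
  classical
  obtain h | ⟨Q, hQ, hBQ⟩ := eq_top_or_exists_le_coatom B
  · exact absurd h hB
  haveI hnil : Group.IsNilpotent G := hG.isNilpotent
  have hnorm : Q.Normal := by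
    have h : Group.IsNilpotent G ↔ ∀ H : Subgroup G, IsCoatom H → H.Normal :=
      (Group.isNilpotent_of_finite_tfae (G := G)).out 0 2
    exact h.mp hnil Q hQ
  haveI := hnorm
  refine ⟨Q, hnorm, ?_, hBQ⟩
  have hR : IsPGroup p (G ⧸ Q) := hG.to_quotient Q
  haveI : Nontrivial (G ⧸ Q) := by
    rw [QuotientGroup.nontrivial_iff]
    exact hQ.1
  obtain ⟨k, hk⟩ := IsPGroup.iff_card.mp hR
  have hdvd : p ∣ Nat.card (G ⧸ Q) := by
    have hne : Nat.card (G ⧸ Q) ≠ 1 := by
      have : 1 < Nat.card (G ⧸ Q) := Finite.one_lt_card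
      omega
    rw [hk]
    refine dvd_pow_self p ?_
    rintro rfl
    exact hne (by simpa using hk)
  obtain ⟨z, hz⟩ := exists_prime_orderOf_dvd_card' p hdvd
  have hcom : (Subgroup.zpowers z).comap (QuotientGroup.mk' Q) = ⊤ := by
    apply hQ.2
    refine lt_of_le_of_ne (fun x hx => ?_) ?_
    · rw [Subgroup.mem_comap, (QuotientGroup.eq_one_iff x).2 hx |> fun h => (show (QuotientGroup.mk' Q) x = 1 from h)]
      exact one_mem _
    · intro e
      have hz1 : z ≠ 1 := by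
        intro h0
        rw [h0, orderOf_one] at hz
        exact hp.out.one_lt.ne hz
      obtain ⟨w, rfl⟩ := QuotientGroup.mk'_surjective Q z
      have h1 : w ∈ (Subgroup.zpowers ((QuotientGroup.mk' Q) w)).comap (QuotientGroup.mk' Q) :=
        Subgroup.mem_zpowers _
      rw [← e] at h1
      exact hz1 ((QuotientGroup.eq_one_iff w).2 h1)
  have htop : Subgroup.zpowers z = ⊤ := by
    rw [eq_top_iff]
    intro y _
    obtain ⟨w, rfl⟩ := QuotientGroup.mk'_surjective Q y
    have h1 : w ∈ (Subgroup.zpowers z).comap (QuotientGroup.mk' Q) := by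
      rw [hcom]
      trivial
    exact h1
  have h2 : Nat.card (G ⧸ Q) = orderOf z := by
    rw [← Nat.card_zpowers, htop, Subgroup.card_top]
  rw [Subgroup.index_eq_card, h2, hz]

/-- Powers of an element outside a normal subgroup of index `p`. -/
theorem pow_mem_iff {Q : Subgroup G} [hQn : Q.Normal] (hQ : Q.index = p) {s : G} (hs : s ∉ Q) (n : ℕ) :
    s ^ n ∈ Q ↔ p ∣ n := by
  have hcard : Nat.card (G ⧸ Q) = p := by rw [← Subgroup.index_eq_card, hQ]
  have hord : orderOf (s : G ⧸ Q) = p := by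
    have h1 : orderOf (s : G ⧸ Q) ∣ p := by
      rw [← hcard]
      exact orderOf_dvd_natCard _
    rcases (Nat.dvd_prime hp.out).1 h1 with h2 | h2
    · exfalso
      rw [orderOf_eq_one_iff] at h2
      exact hs ((QuotientGroup.eq_one_iff s).1 h2)
    · exact h2
  rw [← hord, orderOf_dvd_iff_pow_eq_one, ← QuotientGroup.mk_pow, QuotientGroup.eq_one_iff]

theorem eq_of_pow_mem {Q : Subgroup G} [hQn : Q.Normal] (hQ : Q.index = p) {s : G} (hs : s ∉ Q) {i j : ℕ}
    (hi : i < p) (hj : j < p) (h : (s ^ j)⁻¹ * s ^ i ∈ Q) : j = i := by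
  have hcard : Nat.card (G ⧸ Q) = p := by rw [← Subgroup.index_eq_card, hQ]
  have hord : orderOf (s : G ⧸ Q) = p := by
    have h1 : orderOf (s : G ⧸ Q) ∣ p := by
      rw [← hcard]
      exact orderOf_dvd_natCard _
    rcases (Nat.dvd_prime hp.out).1 h1 with h2 | h2
    · exfalso
      rw [orderOf_eq_one_iff] at h2
      exact hs ((QuotientGroup.eq_one_iff s).1 h2)
    · exact h2
  have h1 : ((s ^ j : G) : G ⧸ Q) = ((s ^ i : G) : G ⧸ Q) := QuotientGroup.eq.2 h
  rw [QuotientGroup.mk_pow, QuotientGroup.mk_pow] at h1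
  exact pow_injOn_Iio_orderOf (by rw [hord]; exact hj) (by rw [hord]; exact hi) h1

/-- Every element is a power of `s` modulo `Q`. -/
theorem exists_pow_mem {Q : Subgroup G} [hQn : Q.Normal] (hQ : Q.index = p) {s : G} (hs : s ∉ Q) (g : G) :
    ∃ i < p, (s ^ i)⁻¹ * g ∈ Q := by
  classical
  have hcard : Nat.card (G ⧸ Q) = p := by rw [← Subgroup.index_eq_card, hQ]
  haveI : Fact (Nat.card (G ⧸ Q)).Prime := ⟨by rw [hcard]; exact hp.out⟩
  have hz : (s : G ⧸ Q) ≠ 1 := fun h => hs ((QuotientGroup.eq_one_iff s).1 h)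
  have htop : Subgroup.zpowers (s : G ⧸ Q) = ⊤ := by
    refine (Subgroup.eq_bot_or_eq_top_of_prime_card (G := G ⧸ Q) _).resolve_left ?_
    intro h
    rw [Subgroup.zpowers_eq_bot] at h
    exact hz h
  have hord : orderOf (s : G ⧸ Q) = p := by
    rw [← Nat.card_zpowers, htop, Subgroup.card_top, hcard]
  have hm : (g : G ⧸ Q) ∈ Subgroup.zpowers (s : G ⧸ Q) := by
    rw [htop]
    trivial
  rw [mem_zpowers_iff_mem_range_orderOf] at hm
  obtain ⟨i, hi, e⟩ := Finset.mem_image.1 hm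
  refine ⟨i, by rw [← hord]; exact Finset.mem_range.1 hi, ?_⟩
  rw [← QuotientGroup.eq]
  rw [QuotientGroup.mk_pow]
  exact e

end PGroup

section Orbit

variable {G : Type*} [Group G] [Finite G] {p : ℕ} [hp : Fact p.Prime]
  {Y : Type*} [MulAction G Y] [Fintype Y] {A : Type*} [CommGroup A]

/-- Conjugation on a normal subgroup. -/
def cj (Q : Subgroup G) [hQ : Q.Normal] (u : G) (x : ↥Q) : ↥Q :=
  ⟨u⁻¹ * x * u, by
    have := hQ.conj_mem x x.2 u⁻¹
    rwa [inv_inv] at this⟩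

theorem c_one {c : G → Y → A} (hc : ∀ x x' y, c (x * x') y = c x (x' • y) * c x' y) (y : Y) : c 1 y = 1 := by
  have h := hc 1 1 y
  rw [mul_one, one_smul] at h
  exact left_eq_mul.1 h

/-- The orbit product vanishes on the subgroup `Q` containing the stabilizers. -/
theorem prod_of_mem (c : G → Y → A) (hc : ∀ x x' y, c (x * x') y = c x (x' • y) * c x' y)
    {Q : Subgroup G} [hQn : Q.Normal] (hQ : Q.index = p) {s : G} (hs : s ∉ Q)
    (hNW : ∀ (g : ↥Q →* A) (x : ↥Q), ∏ i ∈ Finset.range p, g (cj Q (s ^ i) x) = 1)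
    (𝒪 : Finset Y) (h𝒪 : ∀ (g : G), ∀ y ∈ 𝒪, g • y ∈ 𝒪) {y₀ : Y} (hy₀ : y₀ ∈ 𝒪)
    (htr : ∀ y ∈ 𝒪, ∃ g : G, y = g • y₀) (hst : ∀ g : G, g • y₀ = y₀ → g ∈ Q) (x : ↥Q) :
    ∏ y ∈ 𝒪, c x y = 1 := by
  classical
  let 𝒪₀ : Finset Y := 𝒪.filter (fun y => ∃ q : ↥Q, y = (q : G) • y₀)
  have hq𝒪₀ : ∀ (q : ↥Q) (y : Y), y ∈ 𝒪₀ → (q : G) • y ∈ 𝒪₀ := by
    intro q y hy
    obtain ⟨hy1, q', rfl⟩ := Finset.mem_filter.1 hy
    refine Finset.mem_filter.2 ⟨h𝒪 _ _ hy1, q * q', ?_⟩
    rw [smul_smul]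
    rfl
  have hperm : ∀ (q : ↥Q) (f : Y → A), ∏ y ∈ 𝒪₀, f ((q : G) • y) = ∏ y ∈ 𝒪₀, f y := by
    intro q f
    refine Finset.prod_equiv (MulAction.toPerm (q : G)) ?_ (fun i _ => rfl)
    intro y
    constructor
    · exact hq𝒪₀ q y
    · intro hy
      have := hq𝒪₀ q⁻¹ _ hy
      have e : ((q⁻¹ : ↥Q) : G) • (MulAction.toPerm (q : G)) y = y := by
        show ((q : G))⁻¹ • (q : G) • y = y
        rw [inv_smul_smul]
      rwa [e] at this
  let g₀ : ↥Q →* A := MonoidHom.mk' (fun q => ∏ y ∈ 𝒪₀, c q y) (by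
    intro a b
    have h1 : ∀ y, c ((a * b : ↥Q) : G) y = c a ((b : G) • y) * c b y := fun y => hc _ _ _
    simp only [h1]
    rw [Finset.prod_mul_distrib, hperm b (c a)])
  have hg₀ : ∀ q : ↥Q, g₀ q = ∏ y ∈ 𝒪₀, c q y := fun q => rfl
  have hsub : ∀ (i : ℕ), ∏ y ∈ 𝒪₀, c x ((s ^ i) • y) = g₀ (cj Q (s ^ i) x) := by
    intro i
    rw [hg₀]
    set u : G := s ^ i with hu
    set xi : ↥Q := cj Q u x with hxi
    have e1 : (x : G) * u = u * (xi : G) := by
      show (x : G) * u = u * (u⁻¹ * x * u)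
      group
    have h1 : ∀ y, c x (u • y) = c u ((xi : G) • y) * c xi y * (c u y)⁻¹ := by
      intro y
      have h2 := hc x u y
      have h3 := hc u xi y
      rw [e1, h3] at h2
      rw [h2, mul_inv_cancel_right]
    simp only [h1]
    rw [Finset.prod_mul_distrib, Finset.prod_mul_distrib, Finset.prod_inv_distrib, hperm xi (c u),
      mul_comm (∏ y ∈ 𝒪₀, c u y), mul_assoc, mul_inv_cancel, mul_one]
  have hdecomp : ∏ y ∈ 𝒪, c x y = ∏ i ∈ Finset.range p, ∏ y ∈ 𝒪₀, c x ((s ^ i) • y) := by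
    rw [← Finset.prod_product']
    symm
    refine Finset.prod_bij (fun a _ => (s ^ a.1) • a.2) ?_ ?_ ?_ (fun _ _ => rfl)
    · rintro ⟨i, y⟩ h
      obtain ⟨_, hy⟩ := Finset.mem_product.1 h
      exact h𝒪 _ _ (Finset.mem_filter.1 hy).1
    · rintro ⟨i, y⟩ h ⟨j, y'⟩ h' e
      obtain ⟨hi, hy⟩ := Finset.mem_product.1 h
      obtain ⟨hj, hy'⟩ := Finset.mem_product.1 h'
      obtain ⟨-, q, hq⟩ := Finset.mem_filter.1 hy
      obtain ⟨-, q', hq'⟩ := Finset.mem_filter.1 hy'
      have hi' := Finset.mem_range.1 hi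
      have hj' := Finset.mem_range.1 hj
      dsimp only at hq hq' e hi' hj'
      have key : ((q' : G))⁻¹ * ((s ^ j)⁻¹ * s ^ i) * (q : G) ∈ Q := by
        apply hst
        rw [mul_smul, ← hq, mul_smul, mul_smul, e, inv_smul_smul, hq', inv_smul_smul]
      have key2 : (s ^ j)⁻¹ * s ^ i ∈ Q := by
        have h3 := Q.mul_mem (Q.mul_mem q'.2 key) (Q.inv_mem q.2)
        have e3 : (q' : G) * (((q' : G))⁻¹ * ((s ^ j)⁻¹ * s ^ i) * (q : G)) * ((q : G))⁻¹ = (s ^ j)⁻¹ * s ^ i := by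
          group
        rwa [e3] at h3
      have hij := eq_of_pow_mem hQ hs hi' hj' key2
      subst hij
      have hyy : y = y' := by
        have := congrArg (fun z => (s ^ j)⁻¹ • z) e
        simpa using this
      subst hyy
      rfl
    · intro y hy
      obtain ⟨g, rfl⟩ := htr y hy
      obtain ⟨i, hi, hm⟩ := exists_pow_mem hQ hs g
      refine ⟨(i, ((⟨_, hm⟩ : ↥Q) : G) • y₀), Finset.mem_product.2 ⟨Finset.mem_range.2 hi, ?_⟩, ?_⟩
      · exact Finset.mem_filter.2 ⟨h𝒪 _ _ hy₀, _, rfl⟩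
      · show (s ^ i) • ((s ^ i)⁻¹ * g) • y₀ = g • y₀
        rw [smul_smul, mul_inv_cancel_left]
  rw [hdecomp]
  simp only [hsub]
  exact hNW g₀ x

/-- The orbit product vanishes at elements all of whose cycles have trivial cocycles. -/
theorem prod_of_cycles (c : G → Y → A) (hc : ∀ x x' y, c (x * x') y = c x (x' • y) * c x' y)
    (𝒪 : Finset Y) (h𝒪 : ∀ (g : G), ∀ y ∈ 𝒪, g • y ∈ 𝒪) (x : G)
    (hcyc : ∀ y ∈ 𝒪, ∀ n : ℕ, x ^ n • y = y → c (x ^ n) y = 1) : ∏ y ∈ 𝒪, c x y = 1 := by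
  classical
  let σ : Equiv.Perm Y := MulAction.toPerm x
  have hσ : ∀ (n : ℕ) (y : Y), (σ ^ n) y = x ^ n • y := by
    intro n y
    induction n with
    | zero => simp
    | succ n ih =>
      rw [pow_succ', Equiv.Perm.mul_apply, ih, pow_succ', mul_smul]
      rfl
  have hiter : ∀ (n : ℕ) (y : Y), ∏ j ∈ Finset.range n, c x (x ^ j • y) = c (x ^ n) y := by
    intro n y
    induction n with
    | zero =>
      simp only [Finset.range_zero, Finset.prod_empty, pow_zero]
      exact (c_one hc y).symm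
    | succ n ih =>
      rw [Finset.prod_range_succ, ih, pow_succ', hc x (x ^ n) y, mul_comm]
  have h1 := prod_of_cycle_one σ (fun y => if y ∈ 𝒪 then c x y else 1) (fun y n hn => by
    by_cases hy : y ∈ 𝒪
    · have h2 : ∀ j ∈ Finset.range n, (if (σ ^ j) y ∈ 𝒪 then c x ((σ ^ j) y) else 1) = c x (x ^ j • y) := by
        intro j _
        rw [hσ, if_pos (h𝒪 _ _ hy)]
      rw [Finset.prod_congr rfl h2, hiter]
      rw [hσ] at hn
      exact hcyc y hy n hn
    · refine Finset.prod_eq_one fun j _ => ?_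
      rw [if_neg]
      intro h3
      rw [hσ] at h3
      apply hy
      have := h𝒪 (x ^ j)⁻¹ _ h3
      rwa [inv_smul_smul] at this)
  rw [Finset.prod_ite_mem, Finset.univ_inter] at h1
  exact h1

end Orbit

section Power

variable {G : Type*} [Group G] [Finite G] {p : ℕ} [hp : Fact p.Prime]

theorem pow_order_lt (hG : IsPGroup p G) {x : G} (hx : x ≠ 1) {n : ℕ} (hpn : p ∣ n) (hn : n ≠ 0) :
    orderOf (x ^ n) < orderOf x := by
  obtain ⟨k, hk⟩ := (IsPGroup.iff_orderOf.1 hG) x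
  have hk0 : k ≠ 0 := by
    rintro rfl
    rw [pow_zero, orderOf_eq_one_iff] at hk
    exact hx hk
  rw [orderOf_pow' x hn]
  apply Nat.div_lt_self (orderOf_pos x)
  have h1 : p ∣ Nat.gcd (orderOf x) n := Nat.dvd_gcd (by rw [hk]; exact dvd_pow_self p hk0) hpn
  have h2 := Nat.le_of_dvd (Nat.gcd_pos_of_pos_left _ (orderOf_pos x)) h1
  have := hp.out.two_le
  omega

end Power

/-- No quotient of wreath type: the norm of every homomorphism on a maximal subgroup vanishes. -/
def NoWreath (G : Type*) [Group G] (p : ℕ) : Prop :=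
  ∀ (Q : Subgroup G) [hQn : Q.Normal], Q.index = p → ∀ (s : G), s ∉ Q →
    ∀ (g : ↥Q →* Multiplicative (ZMod p)) (x : ↥Q), ∏ i ∈ Finset.range p, g (cj Q (s ^ i) x) = 1

section Cyc

open Polynomial

variable {p : ℕ} [hp : Fact p.Prime]

/-- The shift. -/
noncomputable def shiftL (p : ℕ) [Fact p.Prime] : (ZMod p → ZMod p) →ₗ[ZMod p] (ZMod p → ZMod p) :=
  LinearMap.funLeft (ZMod p) (ZMod p) (fun j => j - 1)

theorem shiftL_apply (u : ZMod p → ZMod p) (j : ZMod p) : shiftL p u j = u (j - 1) := rfl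

theorem shiftL_pow_apply (n : ℕ) (u : ZMod p → ZMod p) (j : ZMod p) : ((shiftL p) ^ n) u j = u (j - n) := by
  induction n generalizing j with
  | zero => simp
  | succ n ih =>
    rw [pow_succ', Module.End.mul_apply, shiftL_apply, ih]
    congr 1
    push_cast
    ring

theorem shiftL_pow_p : (shiftL p) ^ p = 1 := by
  apply LinearMap.ext
  intro u
  funext j
  rw [shiftL_pow_apply, Module.End.one_apply]
  simp

theorem cyc_key (v : ZMod p → ZMod p) (hc : ∑ i, v i ≠ 0) (M : Submodule (ZMod p) (ZMod p → ZMod p))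
    (hT : ∀ u ∈ M, shiftL p u ∈ M) (hv : v ∈ M) : M = ⊤ := by
  classical
  let T := shiftL p
  let r : (ZMod p)[X] := ∑ i : ZMod p, C (v i) * X ^ i.val
  -- polynomials preserve M
  have hpoly : ∀ (q : (ZMod p)[X]), ∀ u ∈ M, aeval T q u ∈ M := by
    intro q
    induction q using Polynomial.induction_on' with
    | add a b ha hb =>
      intro u hu
      rw [map_add, LinearMap.add_apply]
      exact M.add_mem (ha u hu) (hb u hu)
    | monomial n a =>
      intro u hu
      rw [aeval_monomial, Module.End.mul_apply]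
      have h1 : (T ^ n) u ∈ M := by
        induction n with
        | zero => simpa using hu
        | succ n ih =>
          rw [pow_succ', Module.End.mul_apply]
          exact hT _ ih
      exact M.smul_mem a h1
  let e₀ : ZMod p → ZMod p := Pi.single 0 1
  have hterm : ∀ (i : ZMod p) (u : ZMod p → ZMod p) (j : ZMod p),
      aeval T (C (v i) * X ^ i.val) u j = v i * u (j - i) := by
    intro i u j
    rw [map_mul, aeval_C, aeval_X_pow, Module.End.mul_apply, Module.algebraMap_end_apply, Pi.smul_apply,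
      shiftL_pow_apply, ZMod.natCast_zmod_val, smul_eq_mul]
  have hre : aeval T r e₀ = v := by
    funext j
    show aeval T (∑ i : ZMod p, C (v i) * X ^ i.val) e₀ j = v j
    rw [map_sum, LinearMap.sum_apply, Finset.sum_apply]
    simp only [hterm, e₀, Pi.single_apply, sub_eq_zero]
    simp
  have hrp : aeval T (r ^ p) = (∑ i, v i) • (1 : Module.End (ZMod p) (ZMod p → ZMod p)) := by
    rw [← ZMod.expand_card, expand_aeval, shiftL_pow_p]
    show aeval (1 : Module.End (ZMod p) (ZMod p → ZMod p)) (∑ i : ZMod p, C (v i) * X ^ i.val) = _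
    rw [map_sum, Finset.sum_smul]
    refine Finset.sum_congr rfl fun i _ => ?_
    rw [map_mul, aeval_C, aeval_X_pow, one_pow, mul_one, Algebra.algebraMap_eq_smul_one]
  have h1 : (∑ i, v i) • e₀ ∈ M := by
    have h2 : aeval T (r ^ (p - 1)) v ∈ M := hpoly _ v hv
    have h3 : r ^ p = r ^ (p - 1) * r := by
      rw [← pow_succ, Nat.sub_add_cancel hp.out.one_le]
    have h4 : aeval T (r ^ p) e₀ = aeval T (r ^ (p - 1)) v := by
      rw [h3, map_mul, Module.End.mul_apply, hre]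
    rw [hrp] at h4
    rw [← h4] at h2
    exact h2
  have he₀ : e₀ ∈ M := by
    have := M.smul_mem (∑ i, v i)⁻¹ h1
    rwa [smul_smul, inv_mul_cancel₀ hc, one_smul] at this
  rw [eq_top_iff]
  intro u _
  have hu : u = ∑ j : ZMod p, u j • (T ^ j.val) e₀ := by
    funext j'
    rw [Finset.sum_apply]
    simp only [Pi.smul_apply, smul_eq_mul]
    have : ∀ j : ZMod p, (T ^ j.val) e₀ j' = if j' = j then 1 else 0 := by
      intro j
      show ((shiftL p) ^ j.val) e₀ j' = _
      rw [shiftL_pow_apply, ZMod.natCast_zmod_val]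
      simp only [e₀, Pi.single_apply, sub_eq_zero]
    simp only [this]
    simp
  rw [hu]
  refine M.sum_mem fun j _ => M.smul_mem _ ?_
  clear hu
  generalize j.val = n
  induction n with
  | zero => simpa using he₀
  | succ n ih =>
    rw [pow_succ', Module.End.mul_apply]
    exact hT _ ih

end Cyc

section Wreath

variable {G : Type u} [Group G] [Finite G] {p : ℕ} [hp : Fact p.Prime]

theorem fact_two : ((p ^ 2).factorial).factorization p = p + 1 := by
  have hpp := hp.out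
  rw [Nat.factorization_factorial hpp (b := 3)]
  · have h1 : Finset.Ico 1 3 = {1, 2} := by decide
    rw [h1, Finset.sum_pair (by norm_num)]
    have h2 : p ^ 2 / p ^ 1 = p := by
      rw [pow_two, pow_one]
      exact Nat.mul_div_cancel _ hpp.pos
    have h3 : p ^ 2 / p ^ 2 = 1 := Nat.div_self (pow_pos hpp.pos 2)
    rw [h2, h3]
  · rw [Nat.log_pow hpp.one_lt]
    norm_num

/-- A homomorphism on a maximal subgroup with nonvanishing norm produces a wreath quotient. -/
theorem exists_wreath (hG : IsPGroup p G) (Q : Subgroup G) [hQn : Q.Normal] (hQ : Q.index = p) {s : G} (hs : s ∉ Q)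
    (g : ↥Q →* Multiplicative (ZMod p)) (x : ↥Q)
    (hx : ∏ i ∈ Finset.range p, g (cj Q (s ^ i) x) ≠ 1) :
    ∃ (W : Sylow p (Equiv.Perm (Fin (p ^ 2)))) (f : G →* ↥(W : Subgroup (Equiv.Perm (Fin (p ^ 2))))),
      Function.Surjective f := by
  classical
  have hpp := hp.out
  haveI : NeZero p := ⟨hpp.ne_zero⟩
  -- the coordinates
  let a : ↥Q → ℕ → ZMod p := fun x n => Multiplicative.toAdd (g (cj Q (s ^ n) x))
  have hsp : s ^ p ∈ Q := (pow_mem_iff hQ hs p).2 dvd_rfl
  have hconjQ : ∀ (q w : ↥Q), g (q⁻¹ * w * q) = g w := by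
    intro q w
    rw [map_mul, map_mul, map_inv, mul_comm (g q)⁻¹, mul_assoc, inv_mul_cancel, mul_one]
  have hper : ∀ y : ↥Q, Function.Periodic (a y) p := by
    intro y n
    show Multiplicative.toAdd (g (cj Q (s ^ (n + p)) y)) = Multiplicative.toAdd (g (cj Q (s ^ n) y))
    congr 1
    have e : cj Q (s ^ (n + p)) y = (⟨s ^ p, hsp⟩ : ↥Q)⁻¹ * cj Q (s ^ n) y * ⟨s ^ p, hsp⟩ := by
      apply Subtype.ext
      show (s ^ (n + p))⁻¹ * y * s ^ (n + p) = (s ^ p)⁻¹ * ((s ^ n)⁻¹ * y * s ^ n) * s ^ p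
      rw [pow_add]
      group
    rw [e, hconjQ]
  have hamod : ∀ (y : ↥Q) (n : ℕ), a y (n % p) = a y n := fun y n => (hper y).map_mod_nat n
  have hval : ∀ (y : ↥Q) (n : ℕ), a y ((n : ZMod p)).val = a y n := by
    intro y n
    rw [ZMod.val_natCast, hamod]
  let Φ : ↥Q → (ZMod p → ZMod p) := fun y i => a y i.val
  have hΦmul : ∀ y z, Φ (y * z) = Φ y + Φ z := by
    intro y z
    funext i
    show Multiplicative.toAdd (g (cj Q (s ^ i.val) (y * z))) = Multiplicative.toAdd (g (cj Q (s ^ i.val) y)) +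
      Multiplicative.toAdd (g (cj Q (s ^ i.val) z))
    have e : cj Q (s ^ i.val) (y * z) = cj Q (s ^ i.val) y * cj Q (s ^ i.val) z := by
      apply Subtype.ext
      show (s ^ i.val)⁻¹ * (y * z) * s ^ i.val = (s ^ i.val)⁻¹ * y * s ^ i.val * ((s ^ i.val)⁻¹ * z * s ^ i.val)
      group
    rw [e, map_mul]
    rfl
  let Φ₁ : ↥Q →* Multiplicative (ZMod p → ZMod p) := MonoidHom.mk' (fun y => Multiplicative.ofAdd (Φ y))
    (fun y z => by rw [hΦmul]; rfl)
  -- the range is everything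
  let M : Submodule (ZMod p) (ZMod p → ZMod p) := AddSubgroup.toZModSubmodule p (Subgroup.toAddSubgroup Φ₁.range)
  have hMmem : ∀ u, u ∈ M ↔ ∃ y : ↥Q, Φ y = u := by
    intro u
    show Multiplicative.ofAdd u ∈ Φ₁.range ↔ _
    rfl
  have hMtop : M = ⊤ := by
    refine cyc_key (Φ x) ?_ M ?_ ((hMmem _).2 ⟨x, rfl⟩)
    · intro h0
      apply hx
      have h1 : ∏ i ∈ Finset.range p, g (cj Q (s ^ i) x) = Multiplicative.ofAdd (∑ i ∈ Finset.range p, a x i) := by
        rw [ofAdd_sum]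
        rfl
      rw [h1]
      have h2 : ∑ i ∈ Finset.range p, a x i = ∑ i : ZMod p, Φ x i := by
        symm
        refine Finset.sum_bij (fun i _ => i.val) (fun i _ => Finset.mem_range.2 (ZMod.val_lt i)) ?_ ?_ (fun _ _ => rfl)
        · intro i _ j _ h
          exact ZMod.val_injective p h
        · intro n hn
          refine ⟨(n : ZMod p), Finset.mem_univ _, ?_⟩
          rw [ZMod.val_natCast, Nat.mod_eq_of_lt (Finset.mem_range.1 hn)]
      rw [h2, h0]
      rfl
    · intro u hu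
      obtain ⟨y, rfl⟩ := (hMmem _).1 hu
      refine (hMmem _).2 ⟨cj Q (s ^ (p - 1)) y, ?_⟩
      funext i
      rw [shiftL_apply]
      show Multiplicative.toAdd (g (cj Q (s ^ i.val) (cj Q (s ^ (p - 1)) y))) = a y (i - 1).val
      have e : cj Q (s ^ i.val) (cj Q (s ^ (p - 1)) y) = cj Q (s ^ (p - 1 + i.val)) y := by
        apply Subtype.ext
        show (s ^ i.val)⁻¹ * ((s ^ (p - 1))⁻¹ * y * s ^ (p - 1)) * s ^ i.val =
          (s ^ (p - 1 + i.val))⁻¹ * y * s ^ (p - 1 + i.val)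
        rw [pow_add]
        group
      rw [e]
      show a y (p - 1 + i.val) = a y (i - 1).val
      have e2 : (((p - 1 + i.val : ℕ)) : ZMod p) = i - 1 := by
        have h1 : ((p - 1 : ℕ) : ZMod p) = -1 := by
          rw [Nat.cast_sub hpp.one_le]
          simp
        push_cast
        rw [h1, ZMod.natCast_zmod_val]
        ring
      rw [← hval y (p - 1 + i.val), e2]
  have hΦsurj : Function.Surjective Φ := by
    intro u
    have : u ∈ M := by
      rw [hMtop]
      trivial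
    exact (hMmem u).1 this
  have hΦ₁surj : Function.Surjective Φ₁ := fun u => by
    obtain ⟨y, hy⟩ := hΦsurj (Multiplicative.toAdd u)
    exact ⟨y, by
      show Multiplicative.ofAdd (Φ y) = u
      rw [hy]
      rfl⟩
  -- the subgroup of index `p²`
  let B₀ : Subgroup G := (g.ker).map Q.subtype
  have hB₀Q : B₀ ≤ Q := by
    rintro _ ⟨w, -, rfl⟩
    exact w.2
  have hcardZ : Nat.card (Multiplicative (ZMod p)) = p := by
    rw [Nat.card_congr Multiplicative.toAdd, Nat.card_zmod]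
  haveI : Finite (Multiplicative (ZMod p)) := Nat.finite_of_card_ne_zero (by rw [hcardZ]; exact hpp.ne_zero)
  have hgtop : g.range = ⊤ := by
    haveI : Fact (Nat.card (Multiplicative (ZMod p))).Prime := ⟨by rw [hcardZ]; exact hpp⟩
    refine (Subgroup.eq_bot_or_eq_top_of_prime_card g.range).resolve_left ?_
    intro h
    apply hx
    refine Finset.prod_eq_one fun i _ => ?_
    have h1 : g (cj Q (s ^ i) x) ∈ g.range := ⟨_, rfl⟩
    rw [h] at h1
    exact Subgroup.mem_bot.1 h1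
  have hcardQ : Nat.card Q = Nat.card g.ker * p := by
    have := Subgroup.card_mul_index g.ker
    rw [Subgroup.index_ker, hgtop, Subgroup.card_top, hcardZ] at this
    exact this.symm
  have hcardG : Nat.card G = Nat.card Q * p := by
    have := Q.card_mul_index
    rw [hQ] at this
    exact this.symm
  have hcardB : Nat.card B₀ = Nat.card g.ker := Subgroup.card_map_of_injective Q.subtype_injective
  have hidx : B₀.index = p ^ 2 := by
    have h1 := B₀.card_mul_index
    rw [hcardB, hcardG, hcardQ] at h1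
    have hpos : 0 < Nat.card g.ker := Nat.card_pos
    exact Nat.eq_of_mul_eq_mul_left hpos (h1.trans (by ring))
  have hcardquot : Nat.card (G ⧸ B₀) = p ^ 2 := by
    rw [← Subgroup.index_eq_card, hidx]
  haveI : Fintype (G ⧸ B₀) := Fintype.ofFinite _
  let e : (G ⧸ B₀) ≃ Fin (p ^ 2) := Fintype.equivFinOfCardEq (by rw [← Nat.card_eq_fintype_card, hcardquot])
  let ρ : G →* Equiv.Perm (Fin (p ^ 2)) :=
    (Equiv.permCongrHom e).toMonoidHom.comp (MulAction.toPermHom G (G ⧸ B₀))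
  have hker : ∀ y : G, ρ y = 1 ↔ y ∈ B₀.normalCore := by
    intro y
    rw [Subgroup.normalCore_eq_ker, MonoidHom.mem_ker]
    exact map_eq_one_iff _ (Equiv.permCongrHom e).injective
  have hkerΦ : ρ.ker = (Φ₁.ker).map Q.subtype := by
    ext y
    rw [MonoidHom.mem_ker, hker]
    constructor
    · intro hy
      have hyB := B₀.normalCore_le hy
      have hyQ := hB₀Q hyB
      refine ⟨⟨y, hyQ⟩, ?_, rfl⟩
      have h1 : ∀ n : ℕ, g (cj Q (s ^ n) ⟨y, hyQ⟩) = 1 := by
        intro n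
        obtain ⟨w, hw, e1⟩ := hy ((s ^ n)⁻¹)
        have e2 : cj Q (s ^ n) ⟨y, hyQ⟩ = w := by
          apply Subtype.ext
          show (s ^ n)⁻¹ * y * s ^ n = w
          rw [show (w : G) = Q.subtype w from rfl, e1, inv_inv]
        rw [e2]
        exact hw
      show Multiplicative.ofAdd (Φ ⟨y, hyQ⟩) = 1
      have h2 : Φ ⟨y, hyQ⟩ = 0 := by
        funext i
        show Multiplicative.toAdd (g (cj Q (s ^ i.val) ⟨y, hyQ⟩)) = 0
        rw [h1]
        rfl
      rw [h2]
      rfl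
    · rintro ⟨y', hk, rfl⟩
      have hk' : Φ y' = 0 := by
        have : Multiplicative.ofAdd (Φ y') = 1 := hk
        exact this
      have h1 : ∀ n : ℕ, g (cj Q (s ^ n) y') = 1 := by
        intro n
        have h2 : a y' n = 0 := by
          rw [← hval y' n]
          exact congrFun hk' _
        exact h2
      intro u
      obtain ⟨i, -, hm⟩ := exists_pow_mem hQ hs u⁻¹
      let q : ↥Q := ⟨(s ^ i)⁻¹ * u⁻¹, hm⟩
      have e3 : u * (y' : G) * u⁻¹ = ((q⁻¹ * cj Q (s ^ i) y' * q : ↥Q) : G) := by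
        show u * (y' : G) * u⁻¹ = ((s ^ i)⁻¹ * u⁻¹)⁻¹ * ((s ^ i)⁻¹ * y' * s ^ i) * ((s ^ i)⁻¹ * u⁻¹)
        group
      show u * (y' : G) * u⁻¹ ∈ B₀
      rw [e3]
      refine ⟨q⁻¹ * cj Q (s ^ i) y' * q, ?_, rfl⟩
      show g (q⁻¹ * cj Q (s ^ i) y' * q) = 1
      rw [hconjQ, h1]
  have hrange : Φ₁.range = ⊤ := MonoidHom.range_eq_top.2 hΦ₁surj
  have hcardV : Nat.card (Multiplicative (ZMod p → ZMod p)) = p ^ p := by
    rw [Nat.card_congr Multiplicative.toAdd, Nat.card_fun, Nat.card_zmod]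
  have hcardQ2 : Nat.card Q = Nat.card Φ₁.ker * p ^ p := by
    have := Subgroup.card_mul_index Φ₁.ker
    rw [Subgroup.index_ker, hrange, Subgroup.card_top, hcardV] at this
    exact this.symm
  have hcardK : Nat.card ρ.ker = Nat.card Φ₁.ker := by
    rw [hkerΦ]
    exact Subgroup.card_map_of_injective Q.subtype_injective
  have hρcard : Nat.card ρ.range = p ^ (p + 1) := by
    have h1 := Subgroup.card_mul_index ρ.ker
    rw [Subgroup.index_ker, hcardK, hcardG, hcardQ2] at h1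
    have hpos : 0 < Nat.card Φ₁.ker := Nat.card_pos
    apply Nat.eq_of_mul_eq_mul_left hpos
    rw [h1, pow_succ]
    ring
  have hperm : (Nat.card (Equiv.Perm (Fin (p ^ 2)))).factorization p = p + 1 := by
    rw [Nat.card_perm, Nat.card_fin, fact_two]
  let W : Sylow p (Equiv.Perm (Fin (p ^ 2))) := Sylow.ofCard ρ.range (by rw [hρcard, hperm])
  have hW : (W : Subgroup (Equiv.Perm (Fin (p ^ 2)))) = ρ.range := Sylow.coe_ofCard _ _
  refine ⟨W, ρ.codRestrict _ (fun y => by rw [hW]; exact ⟨y, rfl⟩), ?_⟩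
  rintro ⟨w, hw⟩
  rw [hW] at hw
  obtain ⟨y, rfl⟩ := hw
  exact ⟨y, rfl⟩

end Wreath

section Fusion

variable {Ω : Type u} [Group Ω] {S : Subgroup Ω} {p : ℕ} [hp : Fact p.Prime]

local notation "A" => Multiplicative (ZMod p)

theorem A_pow_p (a : Multiplicative (ZMod p)) : a ^ p = 1 := by
  have hZcard : Nat.card (Multiplicative (ZMod p)) = p := by
    rw [Nat.card_congr Multiplicative.toAdd, Nat.card_zmod]
  haveI : Finite (Multiplicative (ZMod p)) := Nat.finite_of_card_ne_zero (by rw [hZcard]; exact hp.out.ne_zero)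
  have := pow_card_eq_one' (x := a)
  rwa [hZcard] at this

/-- The action on right orbits. -/
@[reducible] noncomputable def lftAct {G : Type u} [Group G] {X : Type u} [MulAction (G × G) X]
    (hfree : ∀ (ω : X) (s : G), ((1 : G), s) • ω = ω → s = 1) : MulAction G (OrbY G X) where
  smul := lft
  one_smul y := (lft_one hfree y).1
  mul_smul a b y := (lft_mul hfree a b y).1

theorem mem_stab {G : Type u} [Group G] {X : Type u} [MulAction (G × G) X] {g c : G} {ω : X}
    (h : L g ω = rr c ω) : (g, c) ∈ stabilizer (G × G) ω := by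
  rw [mem_stabilizer_iff]
  have h1 : ((1 : G), c) • (g, (1 : G)) • ω = ((1 : G), c) • ((1 : G), c⁻¹) • ω := congrArg _ h
  rw [smul_smul, smul_smul, Prod.mk_mul_mk, Prod.mk_mul_mk, one_mul, mul_one, mul_inv_cancel, mul_one] at h1
  exact h1.trans (one_smul _ ω)

/-- The transfer product on an invariant homomorphism at an element of minimal order. -/
theorem key_prod [Finite S] (hS : IsPGroup p S) {F : FusionSystem S} {X : Type u} [MulAction (↥S × ↥S) X]
    [Finite X] (hX : GoodAbove F X 0) (hfree : ∀ (ω : X) (s : ↥S), ((1 : ↥S), s) • ω = ω → s = 1)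
    (hNW : NoWreath ↥S p) (e : ↥S →* Multiplicative (ZMod p))
    (hinv : ∀ (φ : S →* Ω) (hφ : φ ∈ F.Hom S) (x : S), e ⟨φ x, map_mem_S F hφ x⟩ = e x)
    (x : ↥S) (hmin : ∀ w : ↥S, orderOf w < orderOf x → e w = 1) :
    ∏ y : OrbY ↥S X, e (cc x y) = e x ^ Fintype.card (OrbY ↥S X) := by
  classical
  letI iact : MulAction ↥S (OrbY ↥S X) := lftAct hfree
  have hsm : ∀ (g : ↥S) (y : OrbY ↥S X), g • y = lft g y := fun _ _ => rfl
  let c : ↥S → OrbY ↥S X → Multiplicative (ZMod p) := fun g y => e (cc g y)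
  have hc : ∀ a b y, c (a * b) y = c a (b • y) * c b y := by
    intro a b y
    show e (cc (a * b) y) = e (cc a (lft b y)) * e (cc b y)
    rw [(lft_mul hfree a b y).2, map_mul]
  -- stabilizers are graphs
  have hinv' : ∀ (P : Subgroup Ω), P = S → ∀ (φ : P →* Ω) (hφ : φ ∈ F.Hom P) (x : P),
      e ⟨φ x, map_mem_S F hφ x⟩ = e ⟨x, source_le F hφ x.2⟩ := by
    rintro _ rfl φ hφ x
    exact hinv φ hφ x
  let D : Finset (OrbY ↥S X) := Finset.univ.filter (fun y => ∀ g : ↥S, g • y = y)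
  let 𝒩 : Finset (OrbY ↥S X) := Finset.univ.filter (fun y => ¬ ∀ g : ↥S, g • y = y)
  have hsplit : ∏ y : OrbY ↥S X, c x y = (∏ y ∈ D, c x y) * ∏ y ∈ 𝒩, c x y :=
    (Finset.prod_filter_mul_prod_filter_not _ _ _).symm
  have hD : ∀ y ∈ D, c x y = e x := by
    intro y hy
    have hy' : ∀ g : ↥S, lft g y = y := (Finset.mem_filter.1 hy).2
    obtain ⟨P, φ, hφ, he⟩ := hX.1 (rep y)
    have hPS : P = S := by
      refine le_antisymm (source_le F hφ) (fun g hg => ?_)
      have h1 := hcc (⟨g, hg⟩ : ↥S) y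
      rw [hy'] at h1
      have h2 := mem_stab h1
      rw [he] at h2
      exact h2.1
    have h1 := hcc x y
    rw [hy'] at h1
    have h2 := mem_stab h1
    rw [he] at h2
    obtain ⟨h3, h4⟩ := h2
    show e (cc x y) = e x
    have h5 := hinv' P hPS φ hφ ⟨x, h3⟩
    have e5 : (⟨φ ⟨x, h3⟩, map_mem_S F hφ ⟨x, h3⟩⟩ : ↥S) = cc x y := Subtype.ext h4
    rw [e5] at h5
    exact h5
  have hDprod : ∏ y ∈ D, c x y = e x ^ D.card := by
    rw [Finset.prod_congr rfl hD, Finset.prod_const]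
  have hcardD : Fintype.card (OrbY ↥S X) ≡ D.card [MOD p] := by
    have h1 := IsPGroup.card_modEq_card_fixedPoints (α := OrbY ↥S X) hS
    rw [Nat.card_eq_fintype_card] at h1
    have h2 : Nat.card (fixedPoints ↥S (OrbY ↥S X)) = D.card := by
      rw [Nat.card_eq_fintype_card, ← Fintype.card_coe D]
      refine Fintype.card_congr (Equiv.subtypeEquivRight fun y => ?_)
      simp [D, mem_fixedPoints]
    rwa [h2] at h1
  have hpow : e x ^ D.card = e x ^ Fintype.card (OrbY ↥S X) := by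
    rw [pow_eq_pow_iff_modEq]
    exact (hcardD.of_dvd (orderOf_dvd_of_pow_eq_one (A_pow_p _))).symm
  have hN : ∏ y ∈ 𝒩, c x y = 1 := by
    rw [← Finset.prod_fiberwise 𝒩 (fun y => (Quotient.mk (orbitRel ↥S (OrbY ↥S X)) y)) (c x)]
    refine Finset.prod_eq_one fun o _ => ?_
    by_cases hne : (𝒩.filter (fun y => (Quotient.mk (orbitRel ↥S (OrbY ↥S X)) y) = o)).Nonempty
    swap
    · rw [Finset.not_nonempty_iff_eq_empty.1 hne, Finset.prod_empty]
    obtain ⟨y₀, hy₀⟩ := hne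
    obtain ⟨hy₀𝒩, rfl⟩ := Finset.mem_filter.1 hy₀
    set 𝒪 := 𝒩.filter (fun y => (Quotient.mk (orbitRel ↥S (OrbY ↥S X)) y) = Quotient.mk (orbitRel ↥S (OrbY ↥S X)) y₀) with h𝒪def
    have h𝒩 : ∀ (g : ↥S), ∀ y ∈ 𝒩, g • y ∈ 𝒩 := by
      intro g y hy
      refine Finset.mem_filter.2 ⟨Finset.mem_univ _, fun h => ?_⟩
      apply (Finset.mem_filter.1 hy).2
      intro g'
      have h1 := h (g * g' * g⁻¹)
      rw [smul_smul] at h1
      have e1 : g * g' * g⁻¹ * g = g * g' := by group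
      rw [e1, mul_smul] at h1
      exact smul_left_cancel g h1
    have h𝒪 : ∀ (g : ↥S), ∀ y ∈ 𝒪, g • y ∈ 𝒪 := by
      intro g y hy
      obtain ⟨h1, h2⟩ := Finset.mem_filter.1 hy
      refine Finset.mem_filter.2 ⟨h𝒩 g y h1, ?_⟩
      rw [← h2]
      apply Quotient.sound
      exact ⟨g, rfl⟩
    have htr : ∀ y ∈ 𝒪, ∃ g : ↥S, y = g • y₀ := by
      intro y hy
      obtain ⟨_, h2⟩ := Finset.mem_filter.1 hy
      have h3 : (orbitRel ↥S (OrbY ↥S X)).r y y₀ := Quotient.exact h2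
      obtain ⟨g, hg⟩ := h3
      exact ⟨g, hg.symm⟩
    have hB : stabilizer ↥S y₀ ≠ ⊤ := by
      intro h
      apply (Finset.mem_filter.1 hy₀𝒩).2
      intro g
      have : g ∈ stabilizer ↥S y₀ := by rw [h]; trivial
      exact this
    obtain ⟨Q, hQn, hQ, hBQ⟩ := exists_normal_index_p hS hB
    haveI := hQn
    have hQne : Q ≠ ⊤ := by
      intro h
      rw [h, Subgroup.index_top] at hQ
      exact hp.out.ne_one hQ.symm
    obtain ⟨s, hs⟩ : ∃ s, s ∉ Q := by
      by_contra hcon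
      push Not at hcon
      exact hQne (eq_top_iff.2 fun z _ => hcon z)
    by_cases hxQ : x ∈ Q
    · exact prod_of_mem c hc hQ hs (hNW Q hQ s hs) 𝒪 h𝒪 (Finset.mem_filter.2 ⟨hy₀𝒩, rfl⟩) htr
        (fun g hg => hBQ hg) ⟨x, hxQ⟩
    · refine prod_of_cycles c hc 𝒪 h𝒪 x ?_
      intro y hy n hn
      obtain ⟨g, rfl⟩ := htr y hy
      have hxn : x ^ n ∈ Q := by
        have h1 : g⁻¹ * x ^ n * g ∈ stabilizer ↥S y₀ := by
          rw [mem_stabilizer_iff, mul_smul, mul_smul, hn, inv_smul_smul]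
        have h2 := hQn.conj_mem _ (hBQ h1) g
        have e2 : g * (g⁻¹ * x ^ n * g) * g⁻¹ = x ^ n := by group
        rwa [e2] at h2
      have hpn : p ∣ n := (pow_mem_iff hQ hxQ n).1 hxn
      have hx1 : x ≠ 1 := fun h => hxQ (h ▸ Q.one_mem)
      by_cases hn0 : n = 0
      · subst hn0
        rw [pow_zero]
        exact c_one hc _
      have hlt := pow_order_lt hS hx1 hpn hn0
      show e (cc (x ^ n) (g • y₀)) = 1
      apply hmin
      refine lt_of_le_of_lt ?_ hlt
      -- the cocycle has order at most that of the power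
      have h5 := hcc (x ^ n) (g • y₀)
      rw [show lft (x ^ n) (g • y₀) = g • y₀ from hn] at h5
      have h6 := mem_stab h5
      obtain ⟨P, φ, hφ, he⟩ := hX.1 (rep (g • y₀))
      rw [he] at h6
      have h7 : (cc (x ^ n) (g • y₀)) ^ orderOf (x ^ n) = 1 := by
        have h8 : ((x ^ n, cc (x ^ n) (g • y₀)) : ↥S × ↥S) ^ orderOf (x ^ n) ∈ graph φ := pow_mem h6 _
        obtain ⟨h9, h10⟩ := h8
        have e9 : (⟨(((x ^ n, cc (x ^ n) (g • y₀)) ^ orderOf (x ^ n) : ↥S × ↥S).1 : ↥S), h9⟩ : P) = 1 := by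
          apply Subtype.ext
          show (((x ^ n) ^ orderOf (x ^ n) : ↥S) : Ω) = 1
          rw [pow_orderOf_eq_one]
          rfl
        rw [e9, map_one] at h10
        apply Subtype.ext
        exact h10.symm
      exact Nat.le_of_dvd (orderOf_pos _) (orderOf_dvd_of_pow_eq_one h7)
  show ∏ y : OrbY ↥S X, c x y = _
  rw [hsplit, hDprod, hN, mul_one, hpow]

/-- Homomorphisms invariant under the automorphisms of `S` are stable, when there is no wreath
quotient. -/
theorem stable_of_invariant [Finite S] (hS : IsPGroup p S) {F : FusionSystem S} (hF : F.IsSaturated p)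
    (hNW : NoWreath ↥S p) (f : ↥S →* Multiplicative (ZMod p))
    (hinv : ∀ (φ : S →* Ω) (hφ : φ ∈ F.Hom S) (x : S), f ⟨φ x, map_mem_S F hφ x⟩ = f x)
    (P : Subgroup Ω) (φ : P →* Ω) (hφ : φ ∈ F.Hom P) (x : P) :
    f ⟨φ x, map_mem_S F hφ x⟩ = f ⟨x, source_le F hφ x.2⟩ := by
  classical
  obtain ⟨X, i1, i2, hX, N, hN, hcard⟩ := exists_char hS hF
  have hfree : ∀ (ω : X) (s : ↥S), ((1 : ↥S), s) • ω = ω → s = 1 := by
    intro ω s h
    obtain ⟨P, φ, hφ, e⟩ := hX.1 ω
    have h1 : ((1 : ↥S), s) ∈ stabilizer (↥S × ↥S) ω := h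
    rw [e] at h1
    obtain ⟨h2, h3⟩ := h1
    have h4 : φ ⟨((1 : ↥S) : Ω), h2⟩ = 1 := map_one φ
    exact Subtype.ext (h3.symm.trans h4)
  have hY : Fintype.card (OrbY ↥S X) = N := by
    have h1 := card_eq (T := ↥S) (X := X) hfree
    rw [hcard] at h1
    have h2 : 0 < Nat.card S := Nat.card_pos
    have h3 := Nat.eq_of_mul_eq_mul_left h2 h1
    rw [h3, Nat.card_eq_fintype_card]
  -- the transfer of a homomorphism
  let T : (↥S →* Multiplicative (ZMod p)) → (↥S →* Multiplicative (ZMod p)) := fun h =>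
    (Abelianization.lift h).comp (tfHom hfree)
  have hT : ∀ (h : ↥S →* Multiplicative (ZMod p)) (x : ↥S), T h x = ∏ y : OrbY ↥S X, h (cc x y) := by
    intro h x
    show Abelianization.lift h (tf (X := X) x) = _
    unfold tf
    rw [map_prod]
    refine Finset.prod_congr rfl fun y _ => ?_
    exact Abelianization.lift_apply_of h _
  have hstabT : ∀ (h : ↥S →* Multiplicative (ZMod p)) (P : Subgroup Ω) (φ : P →* Ω) (hφ : φ ∈ F.Hom P) (x : P),
      T h ⟨φ x, map_mem_S F hφ x⟩ = T h ⟨x, source_le F hφ x.2⟩ := by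
    intro h P φ hφ x
    show Abelianization.lift h (tfHom hfree _) = Abelianization.lift h (tfHom hfree _)
    rw [tfHom_apply, tfHom_apply, tf_stable hX hfree P φ hφ x]
  -- the transfer on stable homomorphisms
  have hTst : ∀ (h : ↥S →* Multiplicative (ZMod p)),
      (∀ (P : Subgroup Ω) (φ : P →* Ω) (hφ : φ ∈ F.Hom P) (x : P),
        h ⟨φ x, map_mem_S F hφ x⟩ = h ⟨x, source_le F hφ x.2⟩) → ∀ x : ↥S, T h x = h x ^ N := by
    intro h hh x
    rw [hT, ← hY]
    have hiter : ∀ (n : ℕ) (y : OrbY ↥S X), ((lftE hfree x) ^ n) y = lft (x ^ n) y ∧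
        ∏ j ∈ Finset.range n, h (cc x (((lftE hfree x) ^ j) y)) = h (cc (x ^ n) y) := by
      intro n
      induction n with
      | zero =>
        intro y
        simp only [pow_zero, Finset.range_zero, Finset.prod_empty]
        rw [(lft_one hfree y).1, (lft_one hfree y).2, map_one]
        exact ⟨rfl, rfl⟩
      | succ n ih =>
        intro y
        obtain ⟨h1, h2⟩ := ih y
        have e1 : (x ^ (n + 1) : ↥S) = x * x ^ n := pow_succ' x n
        refine ⟨?_, ?_⟩
        · rw [pow_succ', Equiv.Perm.mul_apply, h1, e1, (lft_mul hfree _ _ _).1]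
          rfl
        · rw [Finset.prod_range_succ, h2, h1, e1, (lft_mul hfree _ _ _).2, map_mul, mul_comm]
    refine prod_of_cycle (lftE hfree x) _ _ fun y n hn => ?_
    rw [(hiter n y).2, ← map_pow]
    have h1 := (hiter n y).1
    rw [hn] at h1
    have h2 := hcc (x ^ n) y
    rw [← h1] at h2
    have h3 := mem_stab h2
    obtain ⟨Q, ψ, hψ, e⟩ := hX.1 (rep y)
    rw [e] at h3
    obtain ⟨h4, h5⟩ := h3
    have h6 := hh Q ψ hψ ⟨_, h4⟩
    have e6 : (⟨ψ ⟨_, h4⟩, map_mem_S F hψ ⟨_, h4⟩⟩ : ↥S) = cc (x ^ n) y := Subtype.ext h5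
    rw [e6] at h6
    exact h6
  set t := T f with ht
  have hNinv : ∃ m : ℕ, ∀ a : Multiplicative (ZMod p), (a ^ N) ^ m = a := by
    obtain ⟨m, -, hm⟩ := Nat.exists_mul_mod_eq_one_of_coprime hN hp.out.one_lt
    refine ⟨m, fun a => ?_⟩
    rw [← pow_mul]
    have h1 : a ^ (N * m) = a ^ (N * m % p) := by
      rw [pow_eq_pow_mod (N * m) (A_pow_p a)]
    rw [h1, hm, pow_one]
  let e : ↥S →* Multiplicative (ZMod p) := t * (f ^ N)⁻¹
  have hev : ∀ z, e z = t z * (f z ^ N)⁻¹ := fun z => rfl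
  have hTe : ∀ z, T e z = 1 := by
    intro z
    rw [hT]
    simp only [hev]
    rw [Finset.prod_mul_distrib, Finset.prod_inv_distrib, Finset.prod_pow, ← hT, ← hT, ← ht]
    rw [hTst t (fun P φ hφ x => hstabT f P φ hφ x) z, mul_inv_cancel]
  have hinve : ∀ (φ : S →* Ω) (hφ : φ ∈ F.Hom S) (x : S), e ⟨φ x, map_mem_S F hφ x⟩ = e x := by
    intro φ hφ x
    rw [hev, hev, hinv φ hφ x]
    congr 1
    exact hstabT f S φ hφ x
  have he1 : ∀ z, e z = 1 := by
    by_contra hcon
    push Not at hcon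
    let 𝒯 : Set ℕ := {n | ∃ z, orderOf z = n ∧ e z ≠ 1}
    have h𝒯 : 𝒯.Nonempty := by
      obtain ⟨z, hz⟩ := hcon
      exact ⟨_, z, rfl, hz⟩
    obtain ⟨z, hz1, hz2⟩ := Nat.sInf_mem h𝒯
    have hmin : ∀ w : ↥S, orderOf w < orderOf z → e w = 1 := by
      intro w hw
      by_contra hne
      have h3 : orderOf w ∈ 𝒯 := ⟨w, rfl, hne⟩
      have h4 := Nat.sInf_le h3
      omega
    have h5 := key_prod hS hX hfree hNW e hinve z hmin
    rw [← hT, hTe, hY] at h5
    apply hz2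
    obtain ⟨m, hm⟩ := hNinv
    rw [← hm (e z), ← h5, one_pow]
  have hfinal : ∀ z, t z = f z ^ N := by
    intro z
    have := he1 z
    rw [hev, mul_inv_eq_one] at this
    exact this
  obtain ⟨m, hm⟩ := hNinv
  rw [← hm (f ⟨φ x, _⟩), ← hm (f ⟨x, _⟩), ← hfinal, ← hfinal]
  rw [hstabT f P φ hφ x]

/-- Yoshida's theorem. -/
theorem yoshida [Finite S] (hS : IsPGroup p S) {F E : FusionSystem S} (hF : F.IsSaturated p)
    (hE : E.IsSaturated p) (hEF : E.IsSubsystemOf F) (hES : ∀ (φ : S →* Ω), φ ∈ F.Hom S → φ ∈ E.Hom S)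
    (hne : E.focalSubgroup ≠ F.focalSubgroup) :
    ∃ (W : Sylow p (Equiv.Perm (Fin (p ^ 2)))) (f : ↥S →* ↥(W : Subgroup (Equiv.Perm (Fin (p ^ 2))))),
      Function.Surjective f := by
  classical
  by_contra hcon
  have hNW : NoWreath ↥S p := by
    intro Q hQn hQ s hs g x
    by_contra hx
    exact hcon (exists_wreath hS Q hQ hs g x hx)
  have hlt : hypS E p < hypS F p := by
    refine lt_of_le_of_ne (fun x hx => Subgroup.mem_subgroupOf.2 (hyp_mono hEF (Subgroup.mem_subgroupOf.1 hx))) ?_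
    intro e
    apply hne
    have e2 : E.hyperfocalSubgroup p = F.hyperfocalSubgroup p := by
      have h1 := Cfsg.Agent.Lib.FusionHyp.hyp_le E (p := p)
      have h2 := Cfsg.Agent.Lib.FusionHyp.hyp_le F (p := p)
      apply le_antisymm (hyp_mono hEF)
      intro x hx
      have h3 : (⟨x, h2 hx⟩ : ↥S) ∈ hypS F p := Subgroup.mem_subgroupOf.2 hx
      rw [← e] at h3
      exact Subgroup.mem_subgroupOf.1 h3
    rw [Cfsg.Agent.Lib.FusionHyp.foc_eq hS hE, Cfsg.Agent.Lib.FusionHyp.foc_eq hS hF, e2]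
  haveI hTn : (hypS F p).Normal := hyp_normal F
  haveI hT₀n : (hypS E p).Normal := hyp_normal E
  obtain ⟨Y, hWY, hχ⟩ := exists_chief_between hTn hT₀n hlt
  obtain ⟨f, hf⟩ := exists_hom_of_chief hS hF hχ
  -- `f` kills the focal subgroup of `E`
  let K : Subgroup Ω := (f.ker).map S.subtype
  have hcomm : ⁅S, S⁆ ≤ K := by
    rw [Subgroup.commutator_le]
    intro a ha b hb
    refine ⟨⁅(⟨a, ha⟩ : ↥S), (⟨b, hb⟩ : ↥S)⁆, ?_, rfl⟩
    show f _ = 1
    rw [commutatorElement_def, map_mul, map_mul, map_mul, map_inv, map_inv]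
    rw [mul_comm (f ⟨a, ha⟩) (f ⟨b, hb⟩), mul_assoc, mul_assoc, mul_inv_cancel_left, mul_inv_cancel]
  have hHyp : E.hyperfocalSubgroup p ≤ K := by
    intro x hx
    have hxS := Cfsg.Agent.Lib.FusionHyp.hyp_le E hx
    have h1 : (⟨x, hxS⟩ : ↥S) ∈ hypS E p := Subgroup.mem_subgroupOf.2 hx
    have h2 := (hf _ (hlt.le h1)).2 (hWY h1)
    exact ⟨⟨x, hxS⟩, h2, rfl⟩
  have hfocE : E.focalSubgroup ≤ K := by
    rw [Cfsg.Agent.Lib.FusionHyp.foc_eq hS hE]
    exact sup_le hHyp hcomm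
  have hinv : ∀ (φ : S →* Ω) (hφ : φ ∈ F.Hom S) (x : S), f ⟨φ x, map_mem_S F hφ x⟩ = f x := by
    intro φ hφ x
    have h1 := hfocE (Cfsg.Agent.Lib.FusionHyp.mem_foc (hES φ hφ) x)
    obtain ⟨w, hw, e⟩ := h1
    have e2 : w = x⁻¹ * ⟨φ x, map_mem_S F hφ x⟩ := Subtype.ext e
    rw [e2] at hw
    have h3 : f (x⁻¹ * ⟨φ x, map_mem_S F hφ x⟩) = 1 := hw
    rw [map_mul, map_inv] at h3
    exact (inv_mul_eq_one.1 h3).symm
  have hst := stable_of_invariant hS hF hNW f hinv
  -- hence it kills the focal subgroup of `F`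
  have hfoc := Cfsg.Agent.Lib.BisetParity.foc_kill (F := F) f hst
  obtain ⟨t, ht, htY⟩ := SetLike.exists_of_lt hχ.1
  apply htY
  rw [← hf t ht]
  obtain ⟨_, h2⟩ := hfoc t (Cfsg.Agent.Lib.FusionHyp.hyp_le_foc F (Subgroup.mem_subgroupOf.1 ht))
  exact h2

end Fusion

end Cfsg.Agent.Lib.BisetYoshida
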