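import Mathlib
import Cfsg.Prelude.Def_Blocks
import Cfsg.Prelude.Def_BlockLocal
import Cfsg.Prelude.Def_BrauerPairs
import Cfsg.Agent.Lib.BlockOsima
import Cfsg.Agent.Lib.BlockNil
import Cfsg.Agent.Lib.CharBlockDefect
import Cfsg.Agent.Lib.CharBlockLocal

/-!
# Central elements as vectors of central characters; truncation (the Brauer homomorphism)

`ZR M G` is the ring of local class functions, realised inside the product of copies of `ℂ`
indexed by the irreducible characters, via central characters.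
-/

set_option autoImplicit false
set_option linter.all false

namespace Cfsg.Agent.Lib.BlockBr

open Cfsg Cfsg.Agent.Lib.BlockLocal Cfsg.Agent.Lib.BlockOsima
open scoped ComplexConjugate

universe u v w

section Ring

variable {G : Type u} [Group G] [Fintype G] {M : Ideal AlgInt} [hprime : M.IsPrime]

/-- Local class functions. -/
def IsLC (M : Ideal AlgInt) (z : G → ℂ) : Prop :=
  IsClassFunction G z ∧ ∀ g, MemLocalRing M (z g)

/-- Congruence modulo the local ideal. -/
def Cong (M : Ideal AlgInt) (a b : ℂ) : Prop := MemLocalIdeal M (a - b)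

theorem Cong.refl (a : ℂ) : Cong M a a := by
  unfold Cong; rw [sub_self]; exact memLocalIdeal_zero

theorem Cong.symm {a b : ℂ} (h : Cong M a b) : Cong M b a := by
  unfold Cong at *
  have := MemLocalIdeal_neg h
  simpa using this

theorem Cong.trans {a b c : ℂ} (h : Cong M a b) (h' : Cong M b c) : Cong M a c := by
  unfold Cong at *
  have := MemLocalIdeal_add h h'
  simpa using this

theorem Cong.add {a b c d : ℂ} (h : Cong M a b) (h' : Cong M c d) : Cong M (a + c) (b + d) := by
  unfold Cong at *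
  have := MemLocalIdeal_add h h'
  convert this using 1
  ring

theorem Cong.sub {a b c d : ℂ} (h : Cong M a b) (h' : Cong M c d) : Cong M (a - c) (b - d) := by
  unfold Cong at *
  have := MemLocalIdeal_sub h h'
  convert this using 1
  ring

theorem Cong.mul {a b c d : ℂ} (ha : MemLocalRing M a) (hd : MemLocalRing M d) (h : Cong M a b)
    (h' : Cong M c d) : Cong M (a * c) (b * d) := by
  unfold Cong at *
  have h1 := MemLocalIdeal_mul_left ha h'
  have h2 := MemLocalIdeal_mul_right h hd
  have := MemLocalIdeal_add h1 h2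
  convert this using 1
  ring

theorem Cong.mul_left {a c d : ℂ} (ha : MemLocalRing M a) (h' : Cong M c d) : Cong M (a * c) (a * d) := by
  unfold Cong at *
  have h1 := MemLocalIdeal_mul_left ha h'
  convert h1 using 1
  ring

theorem Cong.sum {ι : Type*} (s : Finset ι) (f f' : ι → ℂ) (h : ∀ i ∈ s, Cong M (f i) (f' i)) :
    Cong M (∑ i ∈ s, f i) (∑ i ∈ s, f' i) := by
  unfold Cong at *
  rw [← Finset.sum_sub_distrib]
  exact MemLocalIdeal_sum _ _ h

theorem cong_zero_iff {a : ℂ} : Cong M a 0 ↔ MemLocalIdeal M a := by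
  unfold Cong; rw [sub_zero]

theorem MemLocalRing_of_cong {a b : ℂ} (h : Cong M a b) (hb : MemLocalRing M b) : MemLocalRing M a := by
  have := MemLocalRing_add (MemLocalIdeal.toRing h) hb
  simpa using this

theorem not_mem_of_cong_one {a : ℂ} (h : Cong M a 1) : ¬ MemLocalIdeal M a := by
  intro hc
  apply one_not_memLocalIdeal (M := M)
  have := MemLocalIdeal_sub hc h
  simpa using this

theorem mem_of_cong_of_mem {a b : ℂ} (h : Cong M a b) (hb : MemLocalIdeal M b) : MemLocalIdeal M a := by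
  have := MemLocalIdeal_add h hb
  simpa using this

/-- Product of units is a unit. -/
theorem prod_not_mem {ι : Type*} (s : Finset ι) (f : ι → ℂ) (hl : ∀ i ∈ s, MemLocalRing M (f i))
    (h : ∀ i ∈ s, ¬ MemLocalIdeal M (f i)) : ¬ MemLocalIdeal M (∏ i ∈ s, f i) := by
  classical
  induction s using Finset.induction_on with
  | empty =>
    simpa using one_not_memLocalIdeal (M := M)
  | insert a s ha ih =>
    rw [Finset.prod_insert ha]
    intro hc
    have hl' : MemLocalRing M (∏ i ∈ s, f i) :=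
      MemLocalRing_prod _ _ fun i hi => hl i (Finset.mem_insert_of_mem hi)
    rcases MemLocalIdeal_mul_iff (hl a (Finset.mem_insert_self _ _)) hl' hc with h1 | h1
    · exact h a (Finset.mem_insert_self _ _) h1
    · exact ih (fun i hi => hl i (Finset.mem_insert_of_mem hi))
        (fun i hi => h i (Finset.mem_insert_of_mem hi)) h1

/-- The ring of local class functions, as vectors of central characters. -/
def ZR (M' : Ideal AlgInt) [M'.IsPrime] (G' : Type u) [Group G'] [Fintype G'] :
    Subring (IrrCharacter G' → ℂ) where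
  carrier := {v | OmVec M' v}
  mul_mem' := fun ha hb => OmVec_mul ha hb
  one_mem' := OmVec_one
  add_mem' := fun ha hb => OmVec_add ha hb
  zero_mem' := by
    refine ⟨0, fun _ _ => rfl, fun _ => memLocalRing_zero, fun χ => ?_⟩
    simp [om]
  neg_mem' := fun {v} hv => by
    have := OmVec_smul (-1) (MemLocalRing_neg memLocalRing_one) hv
    show OmVec M' (-v)
    convert this using 1
    funext χ
    simp

/-- The local class function of a vector. -/
noncomputable def fnOf (v : IrrCharacter G → ℂ) : G → ℂ := fun g =>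
  (Nat.card G : ℂ)⁻¹ * ∑ χ : IrrCharacter G, (χ : G → ℂ) 1 * v χ * conj ((χ : G → ℂ) g)

theorem fnOf_om {z : G → ℂ} (hz : IsClassFunction G z) :
    fnOf (fun χ : IrrCharacter G => om (χ : G → ℂ) z) = z := by
  funext g
  exact (class_fourier hz g).symm

theorem fnOf_spec (v : ZR M G) :
    IsLC M (fnOf (v : IrrCharacter G → ℂ)) ∧
      ∀ χ : IrrCharacter G, om (χ : G → ℂ) (fnOf (v : IrrCharacter G → ℂ)) = (v : IrrCharacter G → ℂ) χ := by
  obtain ⟨v, f, hf, hl, h⟩ := v
  have hv : v = fun χ : IrrCharacter G => om (χ : G → ℂ) f := funext h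
  subst hv
  simp only
  rw [fnOf_om hf]
  exact ⟨⟨hf, hl⟩, fun _ => rfl⟩

/-- A local class function as an element of the ring. -/
noncomputable def ofLC {z : G → ℂ} (hz : IsLC M z) : ZR M G :=
  ⟨fun χ => om (χ : G → ℂ) z, z, hz.1, hz.2, fun _ => rfl⟩

@[simp] theorem ofLC_coe {z : G → ℂ} (hz : IsLC M z) (χ : IrrCharacter G) :
    ((ofLC hz : ZR M G) : IrrCharacter G → ℂ) χ = om (χ : G → ℂ) z := rfl

@[simp] theorem fnOf_ofLC {z : G → ℂ} (hz : IsLC M z) :
    fnOf ((ofLC hz : ZR M G) : IrrCharacter G → ℂ) = z := fnOf_om hz.1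

theorem fnOf_add (v w : IrrCharacter G → ℂ) : fnOf (v + w) = fnOf v + fnOf w := by
  funext g
  simp only [fnOf, Pi.add_apply, mul_add, add_mul, Finset.sum_add_distrib]

theorem fnOf_sub (v w : IrrCharacter G → ℂ) : fnOf (v - w) = fnOf v - fnOf w := by
  funext g
  simp only [fnOf, Pi.sub_apply, mul_sub, sub_mul, Finset.sum_sub_distrib]

theorem fnOf_zero : fnOf (0 : IrrCharacter G → ℂ) = 0 := by
  funext g
  simp [fnOf]

theorem fnOf_mul (v w : ZR M G) :
    fnOf (((v * w : ZR M G)) : IrrCharacter G → ℂ) =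
      conv (fnOf (v : IrrCharacter G → ℂ)) (fnOf (w : IrrCharacter G → ℂ)) := by
  have hv := fnOf_spec v
  have hw := fnOf_spec w
  have hvw := fnOf_spec (v * w)
  refine class_eq_of_om hvw.1.1 (conv_isClass hv.1.1 hw.1.1) fun χ => ?_
  rw [om_conv χ.2 hv.1.1, hvw.2 χ, hv.2 χ, hw.2 χ]
  rfl

theorem conv_mem_ideal {z w : G → ℂ} (hz : ∀ g, MemLocalRing M (z g)) (hw : ∀ g, MemLocalIdeal M (w g)) (g : G) :
    MemLocalIdeal M (conv z w g) :=
  MemLocalIdeal_sum _ _ fun a _ => MemLocalIdeal_mul_left (hz a) (hw _)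

/-- Functions with all values in the local ideal, as an ideal of the ring. -/
def JR (M' : Ideal AlgInt) [M'.IsPrime] (G' : Type u) [Group G'] [Fintype G'] : Ideal (ZR M' G') where
  carrier := {v | ∀ g, MemLocalIdeal M' (fnOf (v : IrrCharacter G' → ℂ) g)}
  add_mem' := fun {a b} ha hb g => by
    have : fnOf (((a + b : ZR M' G')) : IrrCharacter G' → ℂ) g =
        fnOf (a : IrrCharacter G' → ℂ) g + fnOf (b : IrrCharacter G' → ℂ) g := by
      show fnOf ((a : IrrCharacter G' → ℂ) + (b : IrrCharacter G' → ℂ)) g = _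
      rw [fnOf_add]; rfl
    rw [this]
    exact MemLocalIdeal_add (ha g) (hb g)
  zero_mem' := fun g => by
    have : fnOf (((0 : ZR M' G')) : IrrCharacter G' → ℂ) g = 0 := by
      show fnOf (0 : IrrCharacter G' → ℂ) g = 0
      rw [fnOf_zero]; rfl
    rw [this]; exact memLocalIdeal_zero
  smul_mem' := fun c {x} hx g => by
    show MemLocalIdeal M' (fnOf (((c * x : ZR M' G')) : IrrCharacter G' → ℂ) g)
    rw [fnOf_mul]
    exact conv_mem_ideal (fnOf_spec c).1.2 hx g

theorem mem_JR_iff (v : ZR M G) : v ∈ JR M G ↔ ∀ g, MemLocalIdeal M (fnOf (v : IrrCharacter G → ℂ) g) :=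
  Iff.rfl

theorem om_mem_of_values {χ : G → ℂ} (hχ : IsIrrCharacter G χ) {z : G → ℂ} (hz : IsClassFunction G z)
    (hv : ∀ g, MemLocalIdeal M (z g)) : MemLocalIdeal M (om χ z) := by
  classical
  letI : Fintype (ConjClasses G) := Fintype.ofFinite _
  rw [om_eq_sum_class hχ hz]
  exact MemLocalIdeal_sum _ _ fun c _ => MemLocalIdeal_mul_right (hv _) (centralChar_local hχ _)

theorem coord_mem_of_mem_JR {v : ZR M G} (hv : v ∈ JR M G) (χ : IrrCharacter G) :
    MemLocalIdeal M ((v : IrrCharacter G → ℂ) χ) := by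
  rw [← (fnOf_spec v).2 χ]
  exact om_mem_of_values χ.2 (fnOf_spec v).1.1 hv

/-- The identity function of the convolution algebra. -/
noncomputable def delta' (G : Type u) [Group G] : G → ℂ := by
  classical exact fun x => if x = 1 then 1 else 0

theorem delta'_isLC : IsLC M (delta' G) := by
  classical
  constructor
  · intro g h
    unfold delta'
    by_cases hg : g = 1
    · simp [hg]
    · have : h * g * h⁻¹ ≠ 1 := by
        intro h'
        apply hg
        have : g = h⁻¹ * (h * g * h⁻¹) * h := by group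
        rw [this, h']; group
      simp [hg, this]
  · intro g
    unfold delta'
    split_ifs
    · exact memLocalRing_one
    · exact memLocalRing_zero

theorem om_delta' {χ : G → ℂ} (hχ : IsIrrCharacter G χ) : om χ (delta' G) = 1 := by
  classical
  have := om_delta hχ
  convert this
  unfold delta'
  rfl

/-- A scalar in the ring. -/
noncomputable def scal {c : ℂ} (hc : MemLocalRing M c) : ZR M G :=
  ⟨fun _ => c, c • delta' G, by
      intro g h
      have := (delta'_isLC (M := M) (G := G)).1 g h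
      simp [this], fun g => by
      simpa using MemLocalRing_mul hc ((delta'_isLC (M := M) (G := G)).2 g), fun χ => by
      rw [om_smul, om_delta' χ.2, mul_one]⟩

@[simp] theorem scal_coe {c : ℂ} (hc : MemLocalRing M c) (χ : IrrCharacter G) :
    ((scal hc : ZR M G) : IrrCharacter G → ℂ) χ = c := rfl

theorem fnOf_scal {c : ℂ} (hc : MemLocalRing M c) :
    fnOf ((scal hc : ZR M G) : IrrCharacter G → ℂ) = c • delta' G := by
  have hz : IsLC M (c • delta' G) := by
    refine ⟨?_, fun g => ?_⟩
    · intro g h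
      have := (delta'_isLC (M := M) (G := G)).1 g h
      simp [this]
    · simpa using MemLocalRing_mul hc ((delta'_isLC (M := M) (G := G)).2 g)
  have h1 := fnOf_ofLC hz
  have h2 : ((ofLC hz : ZR M G) : IrrCharacter G → ℂ) = ((scal hc : ZR M G) : IrrCharacter G → ℂ) := by
    funext χ
    rw [ofLC_coe, scal_coe, om_smul, om_delta' χ.2, mul_one]
  rw [← h2, h1]

theorem scal_mem_JR {c : ℂ} (hc : MemLocalIdeal M c) :
    (scal (MemLocalIdeal.toRing hc) : ZR M G) ∈ JR M G := by
  intro g
  rw [fnOf_scal]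
  simp only [Pi.smul_apply, smul_eq_mul]
  exact MemLocalIdeal_mul_right hc ((delta'_isLC (M := M) (G := G)).2 g)

/-- Nilpotency: all coordinates in the local ideal implies a power in `JR`. -/
theorem pow_mem_JR_of_coords {v : ZR M G} (h : ∀ χ, MemLocalIdeal M ((v : IrrCharacter G → ℂ) χ)) :
    v ^ Fintype.card (IrrCharacter G) ∈ JR M G := by
  classical
  rw [← Ideal.Quotient.eq_zero_iff_mem]
  have h1 : ∀ ψ : IrrCharacter G, Ideal.Quotient.mk (JR M G) v =
      Ideal.Quotient.mk (JR M G) (v - scal (MemLocalIdeal.toRing (h ψ))) := by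
    intro ψ
    rw [eq_comm, Ideal.Quotient.eq]
    have : v - scal (MemLocalIdeal.toRing (h ψ)) - v = - scal (MemLocalIdeal.toRing (h ψ)) := by ring
    rw [this]
    exact Ideal.neg_mem_iff _ |>.2 (scal_mem_JR (h ψ))
  have h2 : (∏ ψ : IrrCharacter G, (v - scal (MemLocalIdeal.toRing (h ψ)) : ZR M G)) = 0 := by
    apply Subtype.ext
    funext χ
    have e : (((∏ ψ : IrrCharacter G, (v - scal (MemLocalIdeal.toRing (h ψ)) : ZR M G)) : ZR M G) : IrrCharacter G → ℂ) =
        ∏ ψ : IrrCharacter G, (((v - scal (MemLocalIdeal.toRing (h ψ)) : ZR M G)) : IrrCharacter G → ℂ) :=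
      map_prod (ZR M G).subtype _ _
    rw [e, Finset.prod_apply]
    refine Finset.prod_eq_zero (Finset.mem_univ χ) ?_
    show (v : IrrCharacter G → ℂ) χ - (v : IrrCharacter G → ℂ) χ = 0
    ring
  have h3 : (Ideal.Quotient.mk (JR M G) v) ^ Fintype.card (IrrCharacter G) =
      ∏ ψ : IrrCharacter G, Ideal.Quotient.mk (JR M G) (v - scal (MemLocalIdeal.toRing (h ψ))) := by
    simp_rw [← h1]
    simp
  rw [map_pow, h3, ← map_prod, h2, map_zero]


theorem one_sub_coord_of_idem {c : ℂ} (hc : MemLocalRing M c) (h : Cong M (c * c) c) :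
    MemLocalIdeal M c ∨ Cong M c 1 := by
  have h1 : MemLocalIdeal M (c * (c - 1)) := by
    unfold Cong at h
    convert h using 1
    ring
  exact MemLocalIdeal_mul_iff hc (MemLocalRing_sub hc memLocalRing_one) h1

/-- A local class function which is idempotent modulo the local ideal is congruent to the
coefficient function of a `SameBlock`-closed set of characters. -/
theorem idem_congr {z : G → ℂ} (hz : IsLC M z) (hid : ∀ g, Cong M (conv z z g) (z g)) :
    ∃ A : Set (IrrCharacter G), (∀ χ ∈ A, ∀ ψ, ψ ∉ A → ¬ SameBlock M (χ : G → ℂ) (ψ : G → ℂ)) ∧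
      (∀ g, Cong M (z g) (blockCoeff A g)) ∧
      (∀ χ : IrrCharacter G, χ ∈ A ↔ Cong M (om (χ : G → ℂ) z) 1) ∧
      (∀ χ : IrrCharacter G, χ ∉ A ↔ MemLocalIdeal M (om (χ : G → ℂ) z)) := by
  classical
  -- coordinates
  have hcoord : ∀ χ : IrrCharacter G, MemLocalIdeal M (om (χ : G → ℂ) z) ∨ Cong M (om (χ : G → ℂ) z) 1 := by
    intro χ
    refine one_sub_coord_of_idem (om_local χ.2 hz.1 hz.2) ?_
    have h1 : IsClassFunction G (conv z z - z) := by
      intro g h
      have e1 := conv_isClass hz.1 hz.1 g h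
      have e2 := hz.1 g h
      simp [e1, e2]
    have h2 := om_mem_of_values (M := M) χ.2 h1 (fun g => hid g)
    have h3 : om (χ : G → ℂ) (conv z z - z) = om (χ : G → ℂ) z * om (χ : G → ℂ) z - om (χ : G → ℂ) z := by
      have : conv z z - z = conv z z + (-1 : ℂ) • z := by
        funext g; simp [sub_eq_add_neg]
      rw [this, om_add, om_smul, om_conv χ.2 hz.1]
      ring
    unfold Cong
    rw [← h3]
    exact h2
  let A : Set (IrrCharacter G) := {χ | Cong M (om (χ : G → ℂ) z) 1}
  have hcl : ∀ χ ∈ A, ∀ ψ, ψ ∉ A → ¬ SameBlock M (χ : G → ℂ) (ψ : G → ℂ) := by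
    intro χ hχ ψ hψ hs
    apply hψ
    have h1 := om_sameBlock (M := M) χ.2 ψ.2 hz.1 hz.2 hs
    exact Cong.trans (Cong.symm h1) hχ
  have hnot : ∀ χ : IrrCharacter G, χ ∉ A ↔ MemLocalIdeal M (om (χ : G → ℂ) z) := by
    intro χ
    constructor
    · intro h
      exact (hcoord χ).resolve_right h
    · intro h hc
      exact not_mem_of_cong_one hc h
  have heLC : IsLC M (blockCoeff A) := ⟨blockCoeff_isClass A, blockCoeff_local A hcl⟩
  refine ⟨A, hcl, ?_, fun χ => Iff.rfl, hnot⟩
  -- the difference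
  let v : ZR M G := ofLC hz
  let e : ZR M G := ofLC heLC
  let w : ZR M G := v - e
  have hwc : ∀ χ, MemLocalIdeal M ((w : IrrCharacter G → ℂ) χ) := by
    intro χ
    show MemLocalIdeal M (om (χ : G → ℂ) z - om (χ : G → ℂ) (blockCoeff A))
    rw [om_blockCoeff]
    split_ifs with h
    · exact h
    · rw [sub_zero]
      exact (hnot χ).1 h
  have hpow := pow_mem_JR_of_coords hwc
  have hv2 : Ideal.Quotient.mk (JR M G) v * Ideal.Quotient.mk (JR M G) v = Ideal.Quotient.mk (JR M G) v := by
    rw [← map_mul, Ideal.Quotient.eq]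
    intro g
    have h1 : ((v * v - v : ZR M G) : IrrCharacter G → ℂ) =
        ((v * v : ZR M G) : IrrCharacter G → ℂ) - (v : IrrCharacter G → ℂ) := rfl
    rw [h1, fnOf_sub, fnOf_mul]
    simp only [Pi.sub_apply, v, fnOf_ofLC]
    exact hid g
  have he2 : e * e = e := by
    apply Subtype.ext
    funext χ
    show om (χ : G → ℂ) (blockCoeff A) * om (χ : G → ℂ) (blockCoeff A) = om (χ : G → ℂ) (blockCoeff A)
    rw [om_blockCoeff]
    split_ifs <;> simp
  have he2' : Ideal.Quotient.mk (JR M G) e * Ideal.Quotient.mk (JR M G) e = Ideal.Quotient.mk (JR M G) e := by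
    rw [← map_mul, he2]
  set a := Ideal.Quotient.mk (JR M G) v with ha
  set b := Ideal.Quotient.mk (JR M G) e with hb
  have hw' : Ideal.Quotient.mk (JR M G) w = a - b := by
    simp only [w, map_sub, ha, hb]
  have hcube : (a - b) ^ 3 = a - b := by
    have : (a - b) ^ 3 = a * a * a - 3 * (a * a) * b + 3 * a * (b * b) - b * b * b := by ring
    rw [this, hv2, he2', hv2, he2']
    ring
  have hpows : ∀ k : ℕ, (a - b) ^ (3 ^ k) = a - b := by
    intro k
    induction k with
    | zero => simp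
    | succ k ih =>
      rw [pow_succ, pow_mul, ih, hcube]
  have hzero : a - b = 0 := by
    set r := Fintype.card (IrrCharacter G)
    have hlt : r < 3 ^ r := Nat.lt_pow_self (by norm_num)
    have h0 : (a - b) ^ r = 0 := by
      rw [← hw', ← map_pow, Ideal.Quotient.eq_zero_iff_mem]
      exact hpow
    rw [← hpows r, show 3 ^ r = r + (3 ^ r - r) by omega, pow_add, h0, zero_mul]
  have hwJ : w ∈ JR M G := by
    rw [← Ideal.Quotient.eq_zero_iff_mem, hw', hzero]
  intro g
  have h1 := hwJ g
  have h2 : ((w : ZR M G) : IrrCharacter G → ℂ) = (v : IrrCharacter G → ℂ) - (e : IrrCharacter G → ℂ) := rfl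
  rw [h2, fnOf_sub] at h1
  have h3 : MemLocalIdeal M (z g - blockCoeff A g) := by simpa [v, e, fnOf_ofLC] using h1
  exact h3

/-- Every multiplicative functional on local class functions is a central character. -/
theorem exists_irr_of_mult (Λ : (G → ℂ) → ℂ)
    (hadd : ∀ z w, Λ (z + w) = Λ z + Λ w) (hsmul : ∀ (c : ℂ) z, Λ (c • z) = c * Λ z)
    (hone : Λ (delta' G) = 1) (hloc : ∀ z, IsLC M z → MemLocalRing M (Λ z))
    (hmul : ∀ z w, IsLC M z → IsLC M w → Cong M (Λ (conv z w)) (Λ z * Λ w)) :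
    ∃ ψ : IrrCharacter G, ∀ z, IsLC M z → Cong M (Λ z) (om (ψ : G → ℂ) z) := by
  classical
  by_contra hcon
  push_neg at hcon
  choose y hyLC hy using hcon
  have hc : ∀ ψ : IrrCharacter G, MemLocalRing M (om (ψ : G → ℂ) (y ψ)) := fun ψ =>
    om_local ψ.2 (hyLC ψ).1 (hyLC ψ).2
  let v : IrrCharacter G → ZR M G := fun ψ => ofLC (hyLC ψ) - scal (hc ψ)
  let L : ZR M G → ℂ := fun u => Λ (fnOf (u : IrrCharacter G → ℂ))
  have hL : ∀ a b : ZR M G, Cong M (L (a * b)) (L a * L b) := by
    intro a b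
    show Cong M (Λ (fnOf ((a * b : ZR M G) : IrrCharacter G → ℂ))) _
    rw [fnOf_mul]
    exact hmul _ _ (fnOf_spec a).1 (fnOf_spec b).1
  have hLl : ∀ a : ZR M G, MemLocalRing M (L a) := fun a => hloc _ (fnOf_spec a).1
  have hLone : L 1 = 1 := by
    show Λ (fnOf (((1 : ZR M G)) : IrrCharacter G → ℂ)) = 1
    have : ((1 : ZR M G) : IrrCharacter G → ℂ) = ((scal (memLocalRing_one (M := M)) : ZR M G) : IrrCharacter G → ℂ) := rfl
    rw [this, fnOf_scal, one_smul, hone]
  have hprod : ∀ s : Finset (IrrCharacter G), Cong M (L (∏ ψ ∈ s, v ψ)) (∏ ψ ∈ s, L (v ψ)) := by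
    intro s
    induction s using Finset.induction_on with
    | empty =>
      rw [Finset.prod_empty, Finset.prod_empty, hLone]
      exact Cong.refl _
    | insert a s ha ih =>
      rw [Finset.prod_insert ha, Finset.prod_insert ha]
      refine Cong.trans (hL _ _) ?_
      exact Cong.mul_left (hLl _) ih
  have hzero : (∏ ψ : IrrCharacter G, v ψ) = 0 := by
    apply Subtype.ext
    funext χ
    have e : (((∏ ψ : IrrCharacter G, v ψ) : ZR M G) : IrrCharacter G → ℂ) =
        ∏ ψ : IrrCharacter G, ((v ψ : ZR M G) : IrrCharacter G → ℂ) :=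
      map_prod (ZR M G).subtype _ _
    rw [e, Finset.prod_apply]
    refine Finset.prod_eq_zero (Finset.mem_univ χ) ?_
    show om (χ : G → ℂ) (y χ) - om (χ : G → ℂ) (y χ) = 0
    ring
  have hLv : ∀ ψ, L (v ψ) = Λ (y ψ) - om (ψ : G → ℂ) (y ψ) := by
    intro ψ
    show Λ (fnOf (((ofLC (hyLC ψ) - scal (hc ψ) : ZR M G)) : IrrCharacter G → ℂ)) = _
    have h1 : (((ofLC (hyLC ψ) - scal (hc ψ) : ZR M G)) : IrrCharacter G → ℂ) =
        ((ofLC (hyLC ψ) : ZR M G) : IrrCharacter G → ℂ) - ((scal (hc ψ) : ZR M G) : IrrCharacter G → ℂ) := rfl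
    rw [h1, fnOf_sub, fnOf_ofLC, fnOf_scal]
    have h2 : y ψ - om (ψ : G → ℂ) (y ψ) • delta' G = y ψ + (-om (ψ : G → ℂ) (y ψ)) • delta' G := by
      funext g; simp [sub_eq_add_neg]
    rw [h2, hadd, hsmul, hone]
    ring
  have h0 : L (0 : ZR M G) = 0 := by
    show Λ (fnOf (((0 : ZR M G)) : IrrCharacter G → ℂ)) = 0
    have h3 : ((0 : ZR M G) : IrrCharacter G → ℂ) = 0 := rfl
    rw [h3, fnOf_zero]
    have := hsmul 0 0
    simpa using this
  have h1 := hprod Finset.univ
  rw [hzero, h0] at h1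
  have h2 : MemLocalIdeal M (∏ ψ : IrrCharacter G, L (v ψ)) := by
    have := Cong.symm h1
    exact cong_zero_iff.mp this
  exact prod_not_mem _ _ (fun ψ _ => hLl _) (fun ψ _ => by rw [hLv]; exact hy ψ) h2

end Ring


section Trunc

variable {p : ℕ} {M : Ideal AlgInt} [hprime : M.IsPrime]

/-- Sum over an action of a `p`-group of an invariant local function vanishing at fixed points. -/
theorem sum_mem_of_action (hM : IsPModular p M) {A α : Type*} [Group A] [Finite A] (hA : IsPGroup p A)
    [Fintype α] [MulAction A α] (w : α → ℂ) (hw : ∀ (a : A) x, w (a • x) = w x)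
    (hl : ∀ x, MemLocalRing M (w x)) (h0 : ∀ x, (∀ a : A, a • x = x) → w x = 0) :
    MemLocalIdeal M (∑ x, w x) := by
  classical
  haveI : Fact p.Prime := ⟨hM.1⟩
  obtain ⟨r, hr, h⟩ := Cfsg.Agent.Lib.CharBlockDefect.exists_sum_eq_mul_of_action (H := A) w hw p
    (fun y hy => by
      obtain ⟨n, hn⟩ := IsPGroup.card_orbit hA y
      rw [hn]
      rcases n with _ | n
      · exfalso
        apply hy
        apply h0
        intro a
        have h1 : Nat.card (MulAction.orbit A y) = 1 := by simpa using hn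
        have h2 : a • y ∈ MulAction.orbit A y := MulAction.mem_orbit _ _
        have h3 : y ∈ MulAction.orbit A y := MulAction.mem_orbit_self _
        have h4 := (Nat.card_eq_one_iff_unique.1 h1).1
        have h5 : (⟨_, h2⟩ : MulAction.orbit A y) = ⟨_, h3⟩ := Subsingleton.elim _ _
        exact congrArg Subtype.val h5
      · exact dvd_pow_self p (by omega))
    (Cfsg.Agent.Lib.CharBlockLocal.localRing hM).toAddSubgroup hl
  rw [h]
  exact MemLocalIdeal_mul_right (memLocalIdeal_natCast_of_dvd hM (dvd_refl p)) hr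

variable {X : Type u} {H : Type v} [Group X] [Fintype X] [Group H] [Fintype H]

/-- The truncation of the central character of `ξ` along an embedding `ι`. -/
noncomputable def omI (ι : H →* X) (ξ : H → ℂ) (z : X → ℂ) : ℂ := om ξ (z ∘ ι)

theorem comp_isClass (ι : H →* X) {z : X → ℂ} (hz : IsClassFunction X z) : IsClassFunction H (z ∘ ι) := by
  intro g h
  simp only [Function.comp_apply, map_mul, map_inv]
  exact hz _ _

theorem comp_isLC (ι : H →* X) {z : X → ℂ} (hz : IsLC M z) : IsLC M (z ∘ ι) :=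
  ⟨comp_isClass ι hz.1, fun g => hz.2 _⟩

theorem omI_add (ι : H →* X) (ξ : H → ℂ) (z w : X → ℂ) : omI ι ξ (z + w) = omI ι ξ z + omI ι ξ w := by
  have : (z + w) ∘ ι = z ∘ ι + w ∘ ι := rfl
  rw [omI, this, om_add]; rfl

theorem omI_smul (ι : H →* X) (ξ : H → ℂ) (c : ℂ) (z : X → ℂ) : omI ι ξ (c • z) = c * omI ι ξ z := by
  have : (c • z) ∘ ι = c • (z ∘ ι) := rfl
  rw [omI, this, om_smul]; rfl

theorem omI_delta (ι : H →* X) (hι : Function.Injective ι) {ξ : H → ℂ} (hξ : IsIrrCharacter H ξ) :
    omI ι ξ (delta' X) = 1 := by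
  classical
  have : delta' X ∘ ι = delta' H := by
    funext h
    unfold delta'
    simp only [Function.comp_apply]
    by_cases hh : h = 1
    · simp [hh]
    · have : ι h ≠ 1 := fun h' => hh (hι (by rw [h', map_one]))
      simp [hh, this]
  rw [omI, this, om_delta' hξ]

theorem omI_local (ι : H →* X) {ξ : H → ℂ} (hξ : IsIrrCharacter H ξ) {z : X → ℂ} (hz : IsLC M z) :
    MemLocalRing M (omI ι ξ z) :=
  om_local hξ (comp_isLC ι hz).1 (comp_isLC ι hz).2

theorem omI_mem_of_values (ι : H →* X) {ξ : H → ℂ} (hξ : IsIrrCharacter H ξ) {z : X → ℂ}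
    (hz : IsClassFunction X z) (hv : ∀ g, MemLocalIdeal M (z g)) : MemLocalIdeal M (omI ι ξ z) :=
  om_mem_of_values hξ (comp_isClass ι hz) (fun g => hv _)

/-- Truncation is multiplicative at fixed points of a `p`-group action. -/
theorem conv_trunc_of_fixed (hM : IsPModular p M) (ι : H →* X) (hι : Function.Injective ι)
    {A : Type*} [Group A] [Finite A] (hA : IsPGroup p A) (φ : A →* MulAut X)
    (hfix : ∀ x, (∀ a, φ a x = x) → x ∈ ι.range)
    (hstab : ∀ a, ∀ x ∈ ι.range, φ a x ∈ ι.range)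
    {z w : X → ℂ} (hz : ∀ x, MemLocalRing M (z x)) (hw : ∀ x, MemLocalRing M (w x))
    (hzi : ∀ a x, z (φ a x) = z x) (hwi : ∀ a x, w (φ a x) = w x) {r : H}
    (hr : ∀ a, φ a (ι r) = ι r) :
    Cong M (conv z w (ι r)) (conv (z ∘ ι) (w ∘ ι) r) := by
  classical
  letI : MulAction A X := MulAction.compHom X φ
  have hsmul : ∀ (a : A) (x : X), a • x = φ a x := fun _ _ => rfl
  have hv : conv z w (ι r) - conv (z ∘ ι) (w ∘ ι) r = ∑ a : X, if a ∈ ι.range then 0 else z a * w (a⁻¹ * ι r) := by
    simp only [Function.comp_apply, conv]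
    have h1 : ∑ h : H, z (ι h) * w (ι (h⁻¹ * r)) = ∑ a ∈ Finset.univ.filter (· ∈ ι.range), z a * w (a⁻¹ * ι r) := by
      refine Finset.sum_bij (fun h _ => ι h) (fun h _ => by simp) (fun _ _ _ _ h => hι h) ?_ ?_
      · intro b hb
        obtain ⟨h, rfl⟩ := (Finset.mem_filter.mp hb).2
        exact ⟨h, Finset.mem_univ _, rfl⟩
      · intro h _
        simp [map_mul]
    rw [h1, ← Finset.sum_filter_add_sum_filter_not Finset.univ (· ∈ ι.range), add_sub_cancel_left]
    rw [Finset.sum_filter]
    refine Finset.sum_congr rfl fun a _ => ?_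
    by_cases ha : a ∈ ι.range <;> simp [ha]
  unfold Cong
  rw [hv]
  refine sum_mem_of_action hM hA _ ?_ ?_ ?_
  · intro a x
    rw [hsmul]
    have hiff : φ a x ∈ ι.range ↔ x ∈ ι.range := by
      constructor
      · intro h
        have := hstab a⁻¹ _ h
        simpa using this
      · exact hstab a x
    by_cases hx : x ∈ ι.range
    · simp [hx, hiff]
    · simp only [hx, hiff, if_false]
      rw [hzi]
      congr 1
      rw [← hwi a (x⁻¹ * ι r), map_mul, map_inv, hr a]
  · intro x
    split_ifs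
    · exact memLocalRing_zero
    · exact MemLocalRing_mul (hz _) (hw _)
  · intro x hx
    rw [if_pos (hfix x fun a => hx a)]

/-- Multiplicativity of the truncated central character. -/
theorem omI_mul (hM : IsPModular p M) (ι : H →* X) (hι : Function.Injective ι)
    {A : Type*} [Group A] [Finite A] (hA : IsPGroup p A) (φ : A →* MulAut X)
    (hfix : ∀ x, (∀ a, φ a x = x) → x ∈ ι.range)
    (hstab : ∀ a, ∀ x ∈ ι.range, φ a x ∈ ι.range)
    {ξ : H → ℂ} (hξ : IsIrrCharacter H ξ)
    (hvan : ∀ r : H, (∃ a, φ a (ι r) ≠ ι r) → MemLocalIdeal M (centralChar ξ r))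
    {z w : X → ℂ} (hz : IsLC M z) (hw : IsLC M w)
    (hzi : ∀ a x, z (φ a x) = z x) (hwi : ∀ a x, w (φ a x) = w x) :
    Cong M (omI ι ξ (conv z w)) (omI ι ξ z * omI ι ξ w) := by
  classical
  letI : Fintype (ConjClasses H) := Fintype.ofFinite _
  have hzc := comp_isLC (M := M) ι hz
  have hwc := comp_isLC (M := M) ι hw
  set D : H → ℂ := (conv z w) ∘ ι - conv (z ∘ ι) (w ∘ ι) with hD
  have hDc : IsClassFunction H D := by
    intro g h
    simp only [hD, Pi.sub_apply, Function.comp_apply, map_mul, map_inv]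
    rw [conv_isClass hz.1 hw.1, conv_isClass hzc.1 hwc.1]
  have hmain : MemLocalIdeal M (om ξ D) := by
    rw [om_eq_sum_class hξ hDc]
    refine MemLocalIdeal_sum _ _ fun c _ => ?_
    set r := Quotient.out c
    by_cases hr : ∃ a, φ a (ι r) ≠ ι r
    · exact MemLocalIdeal_mul_left
        (by
          simp only [hD, Pi.sub_apply, Function.comp_apply]
          exact MemLocalRing_sub (conv_local hz.2 hw.2 _) (conv_local hzc.2 hwc.2 _))
        (hvan r hr)
    · push_neg at hr
      refine MemLocalIdeal_mul_right ?_ (centralChar_local hξ r)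
      exact conv_trunc_of_fixed hM ι hι hA φ hfix hstab hz.2 hw.2 hzi hwi hr
  have h1 : omI ι ξ (conv z w) = om ξ D + om ξ (conv (z ∘ ι) (w ∘ ι)) := by
    rw [← om_add, hD, sub_add_cancel]; rfl
  unfold Cong
  rw [h1, om_conv hξ hzc.1]
  simpa [omI] using hmain

/-- A truncated central character which is multiplicative is a central character. -/
theorem exists_irr_of_omI (ι : H →* X) (hι : Function.Injective ι) {ξ : H → ℂ} (hξ : IsIrrCharacter H ξ)
    (hmul : ∀ z w, IsLC M z → IsLC M w → Cong M (omI ι ξ (conv z w)) (omI ι ξ z * omI ι ξ w)) :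
    ∃ ψ : IrrCharacter X, ∀ z, IsLC M z → Cong M (omI ι ξ z) (om (ψ : X → ℂ) z) :=
  exists_irr_of_mult (fun z => omI ι ξ z) (omI_add ι ξ) (omI_smul ι ξ) (omI_delta ι hι hξ)
    (fun _ hz => omI_local ι hξ hz) hmul

end Trunc

end Cfsg.Agent.Lib.BlockBr
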