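import Cfsg.Agent.Lib.BlockBr
import Cfsg.Agent.Lib.BlockApps
import Cfsg.Agent.Lib.CharBlockMinMax
import Cfsg.Agent.Lib.CharCliff
import Cfsg.Agent.Lib.CharKernel
import Cfsg.Agent.Lib.FusionAlperin

/-!
# Truncation to normalizers and centralizers of `p`-subgroups; Brauer's third main theorem
-/

set_option autoImplicit false
set_option linter.all false

namespace Cfsg.Agent.Lib.BlockPair

open Cfsg Cfsg.Agent.Lib.BlockLocal Cfsg.Agent.Lib.BlockOsima Cfsg.Agent.Lib.BlockBr
  Cfsg.Agent.Lib.BlockApps Cfsg.Agent.Lib.CharIrr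
open scoped ComplexConjugate

universe u

section Over

variable {X H : Type u} [Group X] [Fintype X] [Group H] [Fintype H] {M : Ideal AlgInt} [hprime : M.IsPrime]

/-- Every irreducible character of an embedded subgroup lies under an irreducible character. -/
theorem exists_irr_over (ι : H →* X) (hι : Function.Injective ι) (ξ : IrrCharacter H) :
    ∃ χ : IrrCharacter X, classInner (fun h => (χ : X → ℂ) (ι h)) (ξ : H → ℂ) ≠ 0 := by
  classical
  by_contra hcon
  push_neg at hcon
  have hH : (Nat.card H : ℂ) ≠ 0 := by exact_mod_cast Nat.card_pos.ne'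
  have hX : (Nat.card X : ℂ) ≠ 0 := by exact_mod_cast Nat.card_pos.ne'
  have h1 : ∑ χ : IrrCharacter X, (χ : X → ℂ) 1 * classInner (fun h => (χ : X → ℂ) (ι h)) (ξ : H → ℂ) = 0 := by
    simp [hcon]
  have h2 : ∀ h : H, ∑ χ : IrrCharacter X, (χ : X → ℂ) 1 * (χ : X → ℂ) (ι h) =
      if h = 1 then (Nat.card X : ℂ) else 0 := by
    intro h
    have h3 := column_orthogonality (ι h) (1 : X)
    have h4 : ∀ χ : IrrCharacter X, conj ((χ : X → ℂ) 1) = (χ : X → ℂ) 1 := by
      intro χ
      rw [Cfsg.Agent.Lib.CharAb.apply_one_eq_deg χ]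
      simp
    simp only [h4] at h3
    have h5 : ∑ χ : IrrCharacter X, (χ : X → ℂ) 1 * (χ : X → ℂ) (ι h) =
        ∑ χ : IrrCharacter X, (χ : X → ℂ) (ι h) * (χ : X → ℂ) 1 :=
      Finset.sum_congr rfl fun _ _ => mul_comm _ _
    rw [h5, h3]
    by_cases hh : h = 1
    · subst hh
      simp
      have : (Subgroup.centralizer ({(1 : X)} : Set X)) = ⊤ := by
        ext x; simp [Subgroup.mem_centralizer_iff]
      rw [this]
      simp
    · have hne : ι h ≠ 1 := fun h' => hh (hι (by rw [h', map_one]))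
      have : ¬ IsConj (ι h) (1 : X) := by
        intro hc
        exact hne (isConj_one_right.mp hc.symm)
      simp [hh, this, hne]
  have h3 : ∑ χ : IrrCharacter X, (χ : X → ℂ) 1 * classInner (fun h => (χ : X → ℂ) (ι h)) (ξ : H → ℂ) =
      (Nat.card H : ℂ)⁻¹ * ∑ h : H, (∑ χ : IrrCharacter X, (χ : X → ℂ) 1 * (χ : X → ℂ) (ι h)) * conj ((ξ : H → ℂ) h) := by
    simp only [classInner, Finset.sum_mul, Finset.mul_sum]
    rw [Finset.sum_comm]
    refine Finset.sum_congr rfl fun χ _ => ?_
    refine Finset.sum_congr rfl fun h _ => ?_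
    ring
  rw [h3] at h1
  simp only [h2] at h1
  have h4 : ∑ h : H, (if h = 1 then (Nat.card X : ℂ) else 0) * conj ((ξ : H → ℂ) h) =
      (Nat.card X : ℂ) * conj ((ξ : H → ℂ) 1) := by
    rw [Finset.sum_eq_single (1 : H)]
    · simp
    · intro b _ hb
      simp [hb]
    · simp
  rw [h4] at h1
  have h5 : conj ((ξ : H → ℂ) 1) ≠ 0 := by
    rw [Ne, map_eq_zero]
    exact irr_one_ne_zero ξ.2
  exact (mul_ne_zero (inv_ne_zero hH) (mul_ne_zero hX h5)) h1

/-- Central characters on functions supported on a normal subgroup only depend on a constituent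
of the restriction. -/
theorem om_eq_of_constituent (ι : H →* X) (hι : Function.Injective ι) (hn : ι.range.Normal)
    {χ : IrrCharacter X} {ξ : IrrCharacter H}
    (hc : classInner (fun h => (χ : X → ℂ) (ι h)) (ξ : H → ℂ) ≠ 0)
    {y : X → ℂ} (hy : IsClassFunction X y) (hsupp : ∀ x, x ∉ ι.range → y x = 0) :
    om (χ : X → ℂ) y = om (ξ : H → ℂ) (y ∘ ι) := by
  classical
  have hχ1 := irr_one_ne_zero χ.2
  have hξ1 := irr_one_ne_zero ξ.2
  set φ : H → ℂ := fun h => (χ : X → ℂ) (ι h) with hφ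
  have hφc : IsClassFunction H φ := by
    intro g h
    simp only [hφ, map_mul, map_inv]
    exact isClass_irr χ.2 _ _
  have hyc : IsClassFunction H (y ∘ ι) := comp_isClass ι hy
  set c := om (χ : X → ℂ) y with hc'
  -- restriction of the sum to the normal subgroup
  have hres : ∀ w : X, ∑ a : X, y a * (χ : X → ℂ) (a * w) = ∑ h : H, y (ι h) * (χ : X → ℂ) (ι h * w) := by
    intro w
    have h1 : ∑ h : H, y (ι h) * (χ : X → ℂ) (ι h * w) =
        ∑ a ∈ Finset.univ.filter (· ∈ ι.range), y a * (χ : X → ℂ) (a * w) := by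
      refine Finset.sum_bij (fun h _ => ι h) (fun h _ => by simp) (fun _ _ _ _ h => hι h) ?_ (fun _ _ => rfl)
      intro b hb
      obtain ⟨h, rfl⟩ := (Finset.mem_filter.mp hb).2
      exact ⟨h, Finset.mem_univ _, rfl⟩
    rw [h1, Finset.sum_filter]
    refine Finset.sum_congr rfl fun a _ => ?_
    by_cases ha : a ∈ ι.range
    · simp [ha]
    · simp [ha, hsupp a ha]
  -- Eq1
  have h1 : ∀ h' : H, ∑ h : H, y (ι h) * φ (h * h') = c * φ h' := by
    intro h'
    have h2 := Cfsg.Agent.Lib.CharCentral.sum_mul_irr χ.2 hy (ι h')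
    rw [hres] at h2
    simp only [hφ, map_mul]
    have e : c = (∑ g, y g * (χ : X → ℂ) g) * ((χ : X → ℂ) 1)⁻¹ := by
      rw [hc', om]; ring
    rw [e]
    field_simp
    exact h2
  -- expansion
  have hexp := classFunction_expand hφc
  have h2 : ∀ h' : H, φ h' = ∑ ψ : IrrCharacter H, classInner φ (ψ : H → ℂ) * (ψ : H → ℂ) h' := by
    intro h'
    conv_lhs => rw [hexp]
    simp [Finset.sum_apply]
  have h3 : ∀ h' : H, ∑ h : H, y (ι h) * φ (h * h') =
      ∑ ψ : IrrCharacter H, classInner φ (ψ : H → ℂ) * (om (ψ : H → ℂ) (y ∘ ι) * (ψ : H → ℂ) h') := by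
    intro h'
    simp_rw [h2 (_ * h'), Finset.mul_sum]
    rw [Finset.sum_comm]
    refine Finset.sum_congr rfl fun ψ _ => ?_
    have h4 := Cfsg.Agent.Lib.CharCentral.sum_mul_irr ψ.2 hyc h'
    have hψ1 := irr_one_ne_zero ψ.2
    have h5 : ∑ g, (y ∘ ι) g * (ψ : H → ℂ) (g * h') = om (ψ : H → ℂ) (y ∘ ι) * (ψ : H → ℂ) h' := by
      rw [om]
      field_simp
      exact h4
    have h6 : ∑ x, y (ι x) * (classInner φ (ψ : H → ℂ) * (ψ : H → ℂ) (x * h')) =
        classInner φ (ψ : H → ℂ) * ∑ g, (y ∘ ι) g * (ψ : H → ℂ) (g * h') := by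
      rw [Finset.mul_sum]
      refine Finset.sum_congr rfl fun x _ => ?_
      simp only [Function.comp_apply]
      ring
    rw [h6, h5]
  -- take the inner product with ξ
  have h4 : ∀ h' : H, ∑ ψ : IrrCharacter H, (classInner φ (ψ : H → ℂ) * (om (ψ : H → ℂ) (y ∘ ι) - c)) * (ψ : H → ℂ) h' = 0 := by
    intro h'
    have e1 := h3 h'
    rw [h1 h', h2 h', Finset.mul_sum] at e1
    rw [← sub_eq_zero, ← Finset.sum_sub_distrib] at e1
    rw [← neg_eq_zero, ← Finset.sum_neg_distrib]
    rw [← e1]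
    refine Finset.sum_congr rfl fun ψ _ => ?_
    ring
  have h5 : classInner (fun h' => ∑ ψ : IrrCharacter H, (classInner φ (ψ : H → ℂ) * (om (ψ : H → ℂ) (y ∘ ι) - c)) * (ψ : H → ℂ) h') (ξ : H → ℂ) =
      classInner φ (ξ : H → ℂ) * (om (ξ : H → ℂ) (y ∘ ι) - c) := by
    have e : (fun h' => ∑ ψ : IrrCharacter H, (classInner φ (ψ : H → ℂ) * (om (ψ : H → ℂ) (y ∘ ι) - c)) * (ψ : H → ℂ) h') =
        ∑ ψ : IrrCharacter H, (classInner φ (ψ : H → ℂ) * (om (ψ : H → ℂ) (y ∘ ι) - c)) • (ψ : H → ℂ) := by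
      funext h'
      simp [Finset.sum_apply]
    rw [e, classInner_sum_left]
    simp only [classInner_smul_left]
    rw [Finset.sum_eq_single ξ]
    · rw [classInner_irr ξ.2 ξ.2, if_pos rfl, mul_one]
    · intro ψ _ hψ
      rw [classInner_irr ψ.2 ξ.2, if_neg (fun h => hψ (Subtype.ext h)), mul_zero]
    · simp
  have h6 : (fun h' => ∑ ψ : IrrCharacter H, (classInner φ (ψ : H → ℂ) * (om (ψ : H → ℂ) (y ∘ ι) - c)) * (ψ : H → ℂ) h') = 0 :=
    funext h4
  rw [h6] at h5
  have h7 : classInner (0 : H → ℂ) (ξ : H → ℂ) = 0 := by simp [classInner]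
  rw [h7] at h5
  have h8 := (mul_eq_zero.mp h5.symm).resolve_left hc
  exact (sub_eq_zero.mp h8).symm


variable {p : ℕ}

/-- Conjugation by a subgroup as automorphisms. -/
def conjHom (Q : Subgroup X) : Q →* MulAut X := (MulAut.conj : X →* MulAut X).comp Q.subtype

theorem conjHom_apply (Q : Subgroup X) (a : Q) (x : X) : conjHom Q a x = (a : X) * x * (a : X)⁻¹ := rfl

theorem isLC_invariant {z : X → ℂ} (hz : IsClassFunction X z) (Q : Subgroup X) (a : Q) (x : X) :
    z (conjHom Q a x) = z x := hz x a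

theorem fixed_iff (Q : Subgroup X) (x : X) :
    (∀ a : Q, conjHom Q a x = x) ↔ ∀ u ∈ Q, u * x = x * u := by
  constructor
  · intro h u hu
    have := h ⟨u, hu⟩
    rw [conjHom_apply] at this
    simpa [mul_inv_eq_iff_eq_mul] using this
  · intro h a
    rw [conjHom_apply, h a a.2]
    group

/-- Truncation to a centralizer is multiplicative. -/
theorem conv_trunc_centralizer (hM : IsPModular p M) (Q : Subgroup X) (hQ : IsPGroup p Q)
    (ι : H →* X) (hι : Function.Injective ι) (hr : ∀ x, x ∈ ι.range ↔ ∀ u ∈ Q, u * x = x * u)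
    {z w : X → ℂ} (hz : IsLC M z) (hw : IsLC M w) (r : H) :
    Cong M (conv z w (ι r)) (conv (z ∘ ι) (w ∘ ι) r) := by
  refine conv_trunc_of_fixed hM ι hι hQ (conjHom Q) ?_ ?_ hz.2 hw.2 (isLC_invariant hz.1 Q)
    (isLC_invariant hw.1 Q) ?_
  · intro x hx
    exact (hr x).2 ((fixed_iff Q x).1 hx)
  · intro a x hx
    rw [(fixed_iff Q x).2 ((hr x).1 hx) a]
    exact hx
  · exact (fixed_iff Q _).2 ((hr _).1 ⟨r, rfl⟩)

theorem omI_mul_of_centralizer (hM : IsPModular p M) (Q : Subgroup X) (hQ : IsPGroup p Q)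
    (ι : H →* X) (hι : Function.Injective ι) (hr : ∀ x, x ∈ ι.range ↔ ∀ u ∈ Q, u * x = x * u)
    {ξ : H → ℂ} (hξ : IsIrrCharacter H ξ) {z w : X → ℂ} (hz : IsLC M z) (hw : IsLC M w) :
    Cong M (omI ι ξ (conv z w)) (omI ι ξ z * omI ι ξ w) := by
  refine omI_mul hM ι hι hQ (conjHom Q) ?_ ?_ hξ ?_ hz hw (isLC_invariant hz.1 Q) (isLC_invariant hw.1 Q)
  · intro x hx
    exact (hr x).2 ((fixed_iff Q x).1 hx)
  · intro a x hx
    rw [(fixed_iff Q x).2 ((hr x).1 hx) a]
    exact hx
  · rintro r ⟨a, ha⟩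
    exact absurd ((fixed_iff Q _).2 ((hr _).1 ⟨r, rfl⟩) a) ha

theorem exists_irr_centralizer (hM : IsPModular p M) (Q : Subgroup X) (hQ : IsPGroup p Q)
    (ι : H →* X) (hι : Function.Injective ι) (hr : ∀ x, x ∈ ι.range ↔ ∀ u ∈ Q, u * x = x * u)
    {ξ : H → ℂ} (hξ : IsIrrCharacter H ξ) :
    ∃ ψ : IrrCharacter X, ∀ z, IsLC M z → Cong M (omI ι ξ z) (om (ψ : X → ℂ) z) :=
  exists_irr_of_omI ι hι hξ fun _ _ hz hw => omI_mul_of_centralizer hM Q hQ ι hι hr hξ hz hw

/-- The action of a normal `p`-subgroup of an embedded subgroup containing the centralizer. -/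
def conjHomOf (ι : H →* X) (Q₁ : Subgroup H) : Q₁ →* MulAut X :=
  (MulAut.conj : X →* MulAut X).comp (ι.comp Q₁.subtype)

theorem omI_mul_of_normal (hM : IsPModular p M) (ι : H →* X) (hι : Function.Injective ι)
    (Q₁ : Subgroup H) [Q₁.Normal] (hQ₁ : IsPGroup p Q₁)
    (hC : ∀ x, (∀ a ∈ Q₁, ι a * x = x * ι a) → x ∈ ι.range)
    {ξ : H → ℂ} (hξ : IsIrrCharacter H ξ) {z w : X → ℂ} (hz : IsLC M z) (hw : IsLC M w) :
    Cong M (omI ι ξ (conv z w)) (omI ι ξ z * omI ι ξ w) := by
  have happ : ∀ (a : Q₁) (x : X), conjHomOf ι Q₁ a x = ι a * x * (ι a)⁻¹ := fun _ _ => rfl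
  refine omI_mul hM ι hι hQ₁ (conjHomOf ι Q₁) ?_ ?_ hξ ?_ hz hw ?_ ?_
  · intro x hx
    apply hC
    intro a ha
    have := hx ⟨a, ha⟩
    rw [happ] at this
    simpa [mul_inv_eq_iff_eq_mul] using this
  · rintro a _ ⟨h, rfl⟩
    rw [happ]
    exact ⟨a * h * (a : H)⁻¹, by simp⟩
  · rintro r ⟨a, ha⟩
    rw [happ] at ha
    refine Cfsg.Agent.Lib.BlockNil.central_mem_of_not_centralizes hM Q₁ hQ₁ ⟨a, a.2, ?_⟩ hξ
    intro hc
    apply ha
    rw [← map_mul, hc, map_mul]
    simp
  · intro a x
    rw [happ]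
    exact hz.1 x _
  · intro a x
    rw [happ]
    exact hw.1 x _

theorem exists_irr_normal (hM : IsPModular p M) (ι : H →* X) (hι : Function.Injective ι)
    (Q₁ : Subgroup H) [Q₁.Normal] (hQ₁ : IsPGroup p Q₁)
    (hC : ∀ x, (∀ a ∈ Q₁, ι a * x = x * ι a) → x ∈ ι.range)
    {ξ : H → ℂ} (hξ : IsIrrCharacter H ξ) :
    ∃ ψ : IrrCharacter X, ∀ z, IsLC M z → Cong M (omI ι ξ z) (om (ψ : X → ℂ) z) :=
  exists_irr_of_omI ι hι hξ fun _ _ hz hw => omI_mul_of_normal hM ι hι Q₁ hQ₁ hC hξ hz hw

/-- The sum of a class function is congruent to its sum on a centralizer. -/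
theorem sum_congr_centralizer (hM : IsPModular p M) (Q : Subgroup X) (hQ : IsPGroup p Q)
    (ι : H →* X) (hι : Function.Injective ι) (hr : ∀ x, x ∈ ι.range ↔ ∀ u ∈ Q, u * x = x * u)
    {z : X → ℂ} (hz : ∀ x, MemLocalRing M (z x)) (hzi : ∀ a : Q, ∀ x, z (a * x * (a : X)⁻¹) = z x) :
    Cong M (∑ x, z x) (∑ h, z (ι h)) := by
  classical
  letI : MulAction Q X := MulAction.compHom X (conjHom Q)
  have hsmul : ∀ (a : Q) (x : X), a • x = (a : X) * x * (a : X)⁻¹ := fun _ _ => rfl
  have h1 : ∑ h, z (ι h) = ∑ a ∈ Finset.univ.filter (· ∈ ι.range), z a := by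
    refine Finset.sum_bij (fun h _ => ι h) (fun h _ => by simp) (fun _ _ _ _ h => hι h) ?_ (fun _ _ => rfl)
    intro b hb
    obtain ⟨h, rfl⟩ := (Finset.mem_filter.mp hb).2
    exact ⟨h, Finset.mem_univ _, rfl⟩
  have h2 : ∑ x, z x - ∑ h, z (ι h) = ∑ x, if x ∈ ι.range then 0 else z x := by
    rw [h1, ← Finset.sum_filter_add_sum_filter_not Finset.univ (· ∈ ι.range), add_sub_cancel_left,
      Finset.sum_filter]
    refine Finset.sum_congr rfl fun a _ => ?_
    by_cases ha : a ∈ ι.range <;> simp [ha]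
  unfold Cong
  rw [h2]
  refine sum_mem_of_action hM hQ _ ?_ ?_ ?_
  · intro a x
    rw [hsmul]
    have hiff : (a : X) * x * (a : X)⁻¹ ∈ ι.range ↔ x ∈ ι.range := by
      rw [hr, hr]
      constructor
      · intro h u hu
        have := h (a * u * (a : X)⁻¹) ?_
        · have e1 : (a : X) * u * (a : X)⁻¹ * ((a : X) * x * (a : X)⁻¹) = a * (u * x) * (a : X)⁻¹ := by group
          have e2 : (a : X) * x * (a : X)⁻¹ * ((a : X) * u * (a : X)⁻¹) = a * (x * u) * (a : X)⁻¹ := by group
          rw [e1, e2] at this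
          exact mul_left_cancel (mul_right_cancel this)
        · exact Q.mul_mem (Q.mul_mem a.2 hu) (Q.inv_mem a.2)
      · intro h u hu
        have hu' : (a : X)⁻¹ * u * a ∈ Q := Q.mul_mem (Q.mul_mem (Q.inv_mem a.2) hu) a.2
        have := h _ hu'
        have e1 : u * ((a : X) * x * (a : X)⁻¹) = a * (((a : X)⁻¹ * u * a) * x) * (a : X)⁻¹ := by group
        have e2 : (a : X) * x * (a : X)⁻¹ * u = a * (x * ((a : X)⁻¹ * u * a)) * (a : X)⁻¹ := by group
        rw [e1, e2, this]
    by_cases hx : x ∈ ι.range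
    · simp [hx, hiff]
    · simp only [hx, hiff, if_false]
      exact hzi a x
  · intro x
    split_ifs
    · exact memLocalRing_zero
    · exact hz x
  · intro x hx
    have hx' : x ∈ ι.range := by
      rw [hr]
      intro u hu
      have := hx ⟨u, hu⟩
      rw [hsmul] at this
      simpa [mul_inv_eq_iff_eq_mul] using this
    rw [if_pos hx']

theorem om_one' (z : X → ℂ) : om (one' X : X → ℂ) z = ∑ x, z x := by
  simp [om, one']

/-- A character whose central character agrees with the principal one on all local class functions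
lies in the principal block. -/
theorem mem_principal_of_om {ξ : IrrCharacter X}
    (h : ∀ z, IsLC M z → Cong M (om (ξ : X → ℂ) z) (∑ x, z x)) : ξ ∈ principalBlock M X := by
  classical
  intro g
  have hz : IsLC M (fun x => if IsConj x g then (1 : ℂ) else 0) := by
    refine ⟨Cfsg.Agent.Lib.CharInt.indicator_isClassFunction g, fun x => ?_⟩
    dsimp only
    split_ifs
    · exact memLocalRing_one
    · exact memLocalRing_zero
  have h1 := h _ hz
  rw [om_indicator ξ.2, ← om_one', om_indicator (one' X).2] at h1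
  exact Cong.symm h1

theorem om_of_mem_principal {ξ : IrrCharacter X} (hξ : ξ ∈ principalBlock M X) {z : X → ℂ}
    (hz : IsLC M z) : Cong M (om (ξ : X → ℂ) z) (∑ x, z x) := by
  have h1 := om_sameBlock (M := M) (one' X).2 ξ.2 hz.1 hz.2 hξ
  rw [om_one'] at h1
  exact Cong.symm h1

/-- Central characters are congruent on a normal subgroup's centralizer. -/
theorem om_congr_omI (hM : IsPModular p M) (Q₀ : Subgroup X) [hn : Q₀.Normal] (hQ₀ : IsPGroup p Q₀)
    (ι : H →* X) (hι : Function.Injective ι) (hr : ∀ x, x ∈ ι.range ↔ ∀ u ∈ Q₀, u * x = x * u)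
    {χ : IrrCharacter X} {ξ : IrrCharacter H}
    (hc : classInner (fun h => (χ : X → ℂ) (ι h)) (ξ : H → ℂ) ≠ 0)
    {z : X → ℂ} (hz : IsLC M z) : Cong M (om (χ : X → ℂ) z) (omI ι (ξ : H → ℂ) z) := by
  classical
  letI : Fintype (ConjClasses X) := Fintype.ofFinite _
  have hnr : ι.range.Normal := by
    constructor
    intro x hx g
    rw [hr] at hx ⊢
    intro u hu
    have hu' : g⁻¹ * u * g ∈ Q₀ := by
      have := hn.conj_mem u hu g⁻¹
      simpa using this
    have := hx _ hu'
    have e1 : u * (g * x * g⁻¹) = g * ((g⁻¹ * u * g) * x) * g⁻¹ := by group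
    have e2 : g * x * g⁻¹ * u = g * (x * (g⁻¹ * u * g)) * g⁻¹ := by group
    rw [e1, e2, this]
  let z₁ : X → ℂ := fun x => if x ∈ ι.range then z x else 0
  have hz₁ : IsClassFunction X z₁ := by
    intro g h
    simp only [z₁]
    have : h * g * h⁻¹ ∈ ι.range ↔ g ∈ ι.range := by
      constructor
      · intro hx
        have := hnr.conj_mem _ hx h⁻¹
        simpa [mul_assoc] using this
      · intro hx
        exact hnr.conj_mem _ hx h
    by_cases hg : g ∈ ι.range
    · simp [hg, this, hz.1 g h]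
    · simp [hg, this]
  have h1 := om_eq_of_constituent ι hι hnr hc hz₁ (fun x hx => by simp only [z₁, if_neg hx])
  have h2 : z₁ ∘ ι = z ∘ ι := by
    funext h
    simp [z₁]
  rw [h2] at h1
  have h3 : z - z₁ = fun x => if x ∈ ι.range then 0 else z x := by
    funext x
    simp only [Pi.sub_apply, z₁]
    split_ifs <;> simp
  have hcl : IsClassFunction X (z - z₁) := by
    intro g h
    simp only [Pi.sub_apply]
    rw [hz.1 g h, hz₁ g h]
  have h4 : MemLocalIdeal M (om (χ : X → ℂ) (z - z₁)) := by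
    rw [om_eq_sum_class χ.2 hcl]
    refine MemLocalIdeal_sum _ _ fun c _ => ?_
    set x := Quotient.out c
    by_cases hx : x ∈ ι.range
    · have : (z - z₁) x = 0 := by rw [h3]; simp [hx]
      rw [this, zero_mul]
      exact memLocalIdeal_zero
    · refine MemLocalIdeal_mul_left ?_ ?_
      · rw [h3]
        simp only [hx, if_false]
        exact hz.2 x
      · rw [hr] at hx
        push_neg at hx
        obtain ⟨u, hu, hne⟩ := hx
        exact Cfsg.Agent.Lib.BlockNil.central_mem_of_not_centralizes hM Q₀ hQ₀ ⟨u, hu, hne⟩ χ.2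
  have h5 : om (χ : X → ℂ) z = om (χ : X → ℂ) (z - z₁) + om (χ : X → ℂ) z₁ := by
    rw [← om_add]; simp
  unfold Cong
  rw [h5, h1, omI, add_sub_cancel_right]
  exact h4

end Over


section Sylow

variable {G : Type u} [Group G] [Fintype G] {p : ℕ} {M : Ideal AlgInt} [hprime : M.IsPrime]

/-- A finite group with a central Sylow subgroup has a normal complement, consisting of the regular
elements. -/
theorem exists_reg_subgroup {X : Type u} [Group X] [Finite X] [Fact p.Prime] (S : Sylow p X)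
    (hcent : ∀ s ∈ (S : Subgroup X), ∀ c : X, s * c = c * s) :
    ∃ T : Subgroup X, T.Normal ∧ (∀ c, c ∈ T ↔ ¬ p ∣ orderOf c) ∧ ¬ p ∣ Nat.card T ∧
      ∀ c, ∃ t ∈ T, ∃ s ∈ (S : Subgroup X), c = t * s := by
  classical
  have hp : p.Prime := Fact.out
  have hnorm : Subgroup.normalizer ((S : Subgroup X) : Set X) ≤ Subgroup.centralizer ((S : Subgroup X) : Set X) := by
    intro x _
    rw [Subgroup.mem_centralizer_iff]
    intro s hs
    exact hcent s hs x
  refine ⟨(MonoidHom.transferSylow S hnorm).ker, inferInstance, ?_, MonoidHom.not_dvd_card_ker_transferSylow S hnorm, ?_⟩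
  · set T := (MonoidHom.transferSylow S hnorm).ker with hT
    have hTcard : ¬ p ∣ Nat.card T := MonoidHom.not_dvd_card_ker_transferSylow S hnorm
    have hcomp : Subgroup.IsComplement' T (S : Subgroup X) := MonoidHom.ker_transferSylow_isComplement' S hnorm
    have hSp : IsPGroup p (S : Subgroup X) := S.isPGroup'
    have hTreg : ∀ t ∈ T, ¬ p ∣ orderOf t := by
      intro t ht hd
      apply hTcard
      have := Subgroup.orderOf_dvd_natCard T ht
      exact hd.trans this
    intro c
    refine ⟨hTreg c, fun hc => ?_⟩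
    obtain ⟨⟨⟨t, ht⟩, ⟨s, hs⟩⟩, rfl⟩ := hcomp.2 c
    change ¬ p ∣ orderOf (t * s) at hc
    change t * s ∈ T
    have hcomm : Commute t s := (hcent s hs t).symm
    have hos : ∃ j, orderOf s = p ^ j := by
      obtain ⟨k, hk⟩ := hSp ⟨s, hs⟩
      have h1 : orderOf s ∣ p ^ k := by
        apply orderOf_dvd_of_pow_eq_one
        have := congrArg Subtype.val hk
        simpa using this
      obtain ⟨j, -, hj⟩ := (Nat.dvd_prime_pow hp).1 h1
      exact ⟨j, hj⟩
    obtain ⟨j, hj⟩ := hos
    have hcop : Nat.Coprime (orderOf t) (orderOf s) := by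
      rw [hj]
      exact Nat.Coprime.pow_right _ ((Nat.Prime.coprime_iff_not_dvd hp).2 (hTreg t ht)).symm
    rw [hcomm.orderOf_mul_eq_mul_orderOf_of_coprime hcop] at hc
    have hs1 : s = 1 := by
      rcases j with _ | j
      · simpa using hj
      · exfalso
        apply hc
        rw [hj, pow_succ]
        exact Dvd.dvd.mul_left (Dvd.intro_left _ rfl) _
    rw [hs1, mul_one]
    exact ht
  · intro c
    obtain ⟨⟨⟨t, ht⟩, ⟨s, hs⟩⟩, e⟩ := (MonoidHom.ker_transferSylow_isComplement' S hnorm).2 c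
    exact ⟨t, ht, s, hs, e.symm⟩

/-- A `p`-subgroup commuting with a Sylow subgroup lies in it. -/
theorem le_sylow_of_commute [Fact p.Prime] (P : Sylow p G) {R : Subgroup G} (hR : IsPGroup p R)
    (hc : ∀ r ∈ R, ∀ q ∈ (P : Subgroup G), q * r = r * q) : R ≤ (P : Subgroup G) := by
  have h1 := hR.inf_normalizer_sylow P
  intro r hr
  have hs2 : r ∈ Subgroup.normalizer (((P : Subgroup G)) : Set G) := by
    rw [Subgroup.mem_normalizer_iff]
    intro q
    have key : r * q * r⁻¹ ∈ (P : Subgroup G) ↔ q ∈ (P : Subgroup G) := by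
      constructor
      · intro hq
        have h3 := hc r hr _ hq
        have e : q = r * q * r⁻¹ := by
          calc q = r⁻¹ * ((r * q * r⁻¹) * r) := by group
            _ = r⁻¹ * (r * (r * q * r⁻¹)) := by rw [h3]
            _ = r * q * r⁻¹ := by group
        rw [e]
        exact hq
      · intro hq
        rw [← hc r hr q hq]
        simpa using hq
    exact key.symm
  have := (Subgroup.ext_iff.1 h1 r).1 ⟨hr, hs2⟩
  exact this.2

/-- The Sylow case of the third main theorem. -/
theorem principal_of_sylow (hM : IsPModular p M) (P : Sylow p G)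
    {X : Type u} [Group X] [Fintype X] (ι : X →* G) (hι : Function.Injective ι)
    (hr : ∀ x, x ∈ ι.range ↔ ∀ u ∈ (P : Subgroup G), u * x = x * u)
    (ξ : IrrCharacter X)
    (h : ∀ z : G → ℂ, IsLC M z → Cong M (omI ι (ξ : X → ℂ) z) (∑ g, z g)) :
    ξ ∈ principalBlock M X := by
  classical
  haveI : Fact p.Prime := ⟨hM.1⟩
  let S : Sylow p X := default
  have hSP : ∀ s ∈ (S : Subgroup X), ι s ∈ (P : Subgroup G) := by
    have hp : IsPGroup p ((S : Subgroup X).map ι) := (S.isPGroup').map ι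
    have := le_sylow_of_commute P hp (by
      rintro _ ⟨s, hs, rfl⟩ q hq
      exact (hr _).1 ⟨s, rfl⟩ q hq)
    intro s hs
    exact this ⟨s, hs, rfl⟩
  have hcent : ∀ s ∈ (S : Subgroup X), ∀ c : X, s * c = c * s := by
    intro s hs c
    apply hι
    have := (hr _).1 ⟨c, rfl⟩ _ (hSP s hs)
    simpa using this
  obtain ⟨T, hTn, hTreg, hTcard, hdec⟩ := exists_reg_subgroup S hcent
  letI : Fintype T := Fintype.ofFinite _
  have hSp : IsPGroup p (S : Subgroup X) := S.isPGroup'
  -- the indicator of the regular elements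
  let z : G → ℂ := fun x => if p ∣ orderOf x then 0 else 1
  have hzLC : IsLC M z := by
    constructor
    · intro g h
      simp only [z]
      have : orderOf (h * g * h⁻¹) = orderOf g := by
        rw [← MulAut.conj_apply, MulEquiv.orderOf_eq]
      rw [this]
    · intro g
      simp only [z]
      split_ifs
      · exact memLocalRing_zero
      · exact memLocalRing_one
  have h0 := h z hzLC
  have h1 := sum_congr_centralizer hM (P : Subgroup G) P.isPGroup' ι hι hr
    hzLC.2 (fun a x => hzLC.1 x a)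
  have hzi : ∀ c : X, z (ι c) = if c ∈ T then 1 else 0 := by
    intro c
    simp only [z]
    have e2 : orderOf (ι c) = orderOf c := orderOf_injective ι hι c
    rw [e2]
    by_cases hc : c ∈ T
    · rw [if_pos hc, if_neg ((hTreg c).1 hc)]
    · rw [if_neg hc, if_pos]
      by_contra hd
      exact hc ((hTreg c).2 hd)
  have h2 : ∑ c : X, z (ι c) = (Nat.card T : ℂ) := by
    simp only [hzi]
    rw [Finset.sum_boole]
    congr 1
    rw [Nat.card_eq_fintype_card]
    exact (Fintype.card_of_subtype _ (by simp)).symm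
  rw [h2] at h1
  have h3 := Cong.trans h0 h1
  -- sum over `T`
  have h4 : omI ι (ξ : X → ℂ) z = ((ξ : X → ℂ) 1)⁻¹ * ∑ t : T, (ξ : X → ℂ) ((t : X) * 1) := by
    rw [omI, om]
    congr 1
    have e1 : ∀ c : X, (z ∘ ι) c * (ξ : X → ℂ) c = if c ∈ T then (ξ : X → ℂ) c else 0 := by
      intro c
      simp only [Function.comp_apply, hzi]
      split_ifs <;> simp
    simp only [e1, mul_one]
    rw [Cfsg.Agent.Lib.CharOps.sum_over_subgroup T _ (fun g hg => if_neg hg)]
    exact Finset.sum_congr rfl fun t _ => if_pos t.2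
  have hker : ∀ t ∈ T, (ξ : X → ℂ) t = (ξ : X → ℂ) 1 := by
    by_contra hcon
    push_neg at hcon
    obtain ⟨t, ht, hne⟩ := hcon
    have h5 := Cfsg.Agent.Lib.CharKernel.sum_coset_eq_zero T ξ.2 ⟨t, ht, hne⟩ (1 : X)
    rw [h4, h5, mul_zero] at h3
    apply not_memLocalIdeal_natCast hM hTcard
    have := Cong.symm h3
    exact cong_zero_iff.mp this
  -- conclusion
  intro c
  obtain ⟨t, ht, s, hs, rfl⟩ := hdec c
  have hχc := Cfsg.Agent.Lib.CharOps.IsIrrCharacter.isCharacter' ξ.2
  have e1 : (ξ : X → ℂ) (t * s) = (ξ : X → ℂ) s :=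
    Cfsg.Agent.Lib.CharKernel.apply_mul_of_ker T hχc hker ht s
  haveI hSn : (S : Subgroup X).Normal := by
    constructor
    intro n hn g
    have := hcent n hn g
    have e : g * n * g⁻¹ = n := by
      rw [← this]; group
    rw [e]; exact hn
  have e2 := Cfsg.Agent.Lib.BlockNil.central_congr_of_mem hM (S : Subgroup X) hSp hs ξ.2
  have e3 : (Subgroup.centralizer ({s} : Set X)) = ⊤ := by
    ext x
    simp only [Subgroup.mem_top, iff_true]
    rw [Subgroup.mem_centralizer_singleton_iff]
    exact (hcent s hs x).symm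
  rw [e3, Subgroup.index_top] at e2
  have e4 : centralChar (ξ : X → ℂ) s = (ξ : X → ℂ) s / (ξ : X → ℂ) 1 := by
    rw [centralChar, e3, Subgroup.index_top]; simp
  rw [e4] at e2
  have hξ1 := irr_one_ne_zero ξ.2
  have e5 : centralChar (fun _ : X => (1 : ℂ)) (t * s) - centralChar (ξ : X → ℂ) (t * s) =
      ((Subgroup.centralizer ({t * s} : Set X)).index : ℂ) * (-((ξ : X → ℂ) s / (ξ : X → ℂ) 1 - ((1 : ℕ) : ℂ))) := by
    simp only [centralChar, e1]
    push_cast
    field_simp
    ring
  rw [e5]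
  refine MemLocalIdeal_mul_left (memLocalRing_natCast _) (MemLocalIdeal_neg e2)

end Sylow


section Transport

variable {X Y : Type u} [Group X] [Group Y] {M : Ideal AlgInt}

theorem centralChar_comp (σ : X ≃* Y) (χ : Y → ℂ) (x : X) :
    centralChar (fun a => χ (σ a)) x = centralChar χ (σ x) := by
  have h : (Subgroup.centralizer ({σ x} : Set Y)) =
      (Subgroup.centralizer ({x} : Set X)).map (σ : X →* Y) := by
    ext y
    rw [Subgroup.mem_centralizer_singleton_iff]
    constructor
    · intro hy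
      refine ⟨σ.symm y, ?_, by simp⟩
      rw [SetLike.mem_coe, Subgroup.mem_centralizer_singleton_iff]
      apply σ.injective
      simpa using hy
    · rintro ⟨a, ha, rfl⟩
      rw [SetLike.mem_coe, Subgroup.mem_centralizer_singleton_iff] at ha
      have := congrArg σ ha
      simpa using this
  have h2 : (Subgroup.centralizer ({σ x} : Set Y)).index = (Subgroup.centralizer ({x} : Set X)).index := by
    rw [h]
    exact Subgroup.index_map_equiv _ σ
  simp only [centralChar, h2, map_one]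

theorem sameBlock_comp (σ : X ≃* Y) {χ ψ : Y → ℂ} (h : SameBlock M χ ψ) :
    SameBlock M (fun a => χ (σ a)) (fun a => ψ (σ a)) := by
  intro x
  rw [centralChar_comp, centralChar_comp]
  exact h _

theorem sameBlock_comp_iff (σ : X ≃* Y) {χ ψ : Y → ℂ} :
    SameBlock M (fun a => χ (σ a)) (fun a => ψ (σ a)) ↔ SameBlock M χ ψ := by
  refine ⟨fun h => ?_, sameBlock_comp σ⟩
  have := sameBlock_comp σ.symm h
  simpa using this

variable [Fintype X] [Fintype Y]

/-- Composition with an isomorphism on irreducible characters. -/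
noncomputable def irrComp (σ : X ≃* Y) (χ : IrrCharacter Y) : IrrCharacter X :=
  ⟨fun a => (χ : Y → ℂ) (σ a), Cfsg.Agent.Lib.CharCliff.isIrr_comp_mulEquiv σ χ.2⟩

@[simp] theorem irrComp_apply (σ : X ≃* Y) (χ : IrrCharacter Y) (a : X) :
    (irrComp σ χ : X → ℂ) a = (χ : Y → ℂ) (σ a) := rfl

theorem irrComp_bijective (σ : X ≃* Y) : Function.Bijective (irrComp σ) := by
  constructor
  · intro χ ψ h
    apply Subtype.ext
    funext y
    have := congrFun (congrArg Subtype.val h) (σ.symm y)
    simpa using this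
  · intro χ
    refine ⟨irrComp σ.symm χ, ?_⟩
    apply Subtype.ext
    funext a
    simp

theorem om_comp (σ : X ≃* Y) (χ z : Y → ℂ) : om (fun a => χ (σ a)) (fun a => z (σ a)) = om χ z := by
  simp only [om, map_one]
  congr 1
  exact Fintype.sum_equiv σ.toEquiv _ _ fun _ => rfl

/-- Block coefficients of the transported set. -/
theorem blockCoeff_comp (σ : X ≃* Y) (A : Set (IrrCharacter Y)) (a : X) :
    blockCoeff (irrComp σ '' A) a = blockCoeff A (σ a) := by
  classical
  rw [blockCoeff_eq, blockCoeff_eq]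
  have hc : Nat.card X = Nat.card Y := Nat.card_congr σ.toEquiv
  rw [hc]
  congr 1
  symm
  refine Fintype.sum_bijective (irrComp σ) (irrComp_bijective σ) _ _ fun χ => ?_
  have hinj := (irrComp_bijective σ).1
  have hmem : irrComp σ χ ∈ irrComp σ '' A ↔ χ ∈ A := hinj.mem_set_image
  by_cases h : χ ∈ A
  · rw [if_pos h, if_pos (hmem.2 h)]
    simp
  · rw [if_neg h, if_neg (fun h' => h (hmem.1 h'))]

theorem principal_comp_mem (σ : X ≃* Y) {χ : IrrCharacter Y} :
    irrComp σ χ ∈ principalBlock M X ↔ χ ∈ principalBlock M Y := by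
  have := sameBlock_comp_iff (M := M) σ (χ := fun _ => (1 : ℂ)) (ψ := (χ : Y → ℂ))
  exact this

theorem principal_image (σ : X ≃* Y) : irrComp σ '' principalBlock M Y = principalBlock M X := by
  ext χ
  constructor
  · rintro ⟨ψ, hψ, rfl⟩
    exact (principal_comp_mem σ).2 hψ
  · intro hχ
    obtain ⟨ψ, rfl⟩ := (irrComp_bijective σ).2 χ
    exact ⟨ψ, (principal_comp_mem σ).1 hχ, rfl⟩

/-- The principal block idempotent is invariant under automorphisms. -/
theorem blockCoeff_principal_aut (σ : X ≃* X) (a : X) :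
    blockCoeff (principalBlock M X) (σ a) = blockCoeff (principalBlock M X) a := by
  rw [← blockCoeff_comp σ, principal_image]

end Transport

section Lift

variable {G : Type u} [Group G] [Fintype G] {p : ℕ} {M : Ideal AlgInt} [hprime : M.IsPrime]

/-- Elements of `Q` act by conjugation on `C_G(Q)` trivially. -/
theorem centralizer_le_normalizer' (Q : Subgroup G) :
    Subgroup.centralizer (Q : Set G) ≤ Subgroup.normalizer (Q : Set G) := by
  intro x hx
  rw [Subgroup.mem_normalizer_iff]
  intro q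
  rw [Subgroup.mem_centralizer_iff] at hx
  constructor
  · intro hq
    rw [← hx q hq]
    simpa using hq
  · intro hq
    have h1 : x * q * x⁻¹ * x = x * (x * q * x⁻¹) := hx _ hq
    have e : q = x * q * x⁻¹ := by
      calc q = x⁻¹ * ((x * q * x⁻¹) * x) := by group
        _ = x⁻¹ * (x * (x * q * x⁻¹)) := by rw [h1]
        _ = x * q * x⁻¹ := by group
    rw [e]
    exact hq

/-- A conjugate of `Q` containing `Q` is `Q`. -/
theorem mem_normalizer_of_le_map {Q : Subgroup G} {x : G}
    (h : Q ≤ Q.map (MulAut.conj x).toMonoidHom) : x ∈ Subgroup.normalizer (Q : Set G) := by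
  have hcard : Nat.card (Q.map (MulAut.conj x).toMonoidHom) = Nat.card Q :=
    Nat.card_congr (Q.equivMapOfInjective _ (MulAut.conj x).injective).symm.toEquiv
  have heq : Q = Q.map (MulAut.conj x).toMonoidHom :=
    Subgroup.eq_of_le_of_card_ge h hcard.le
  rw [Subgroup.mem_normalizer_iff]
  intro q
  constructor
  · intro hq
    rw [heq]
    exact ⟨q, hq, rfl⟩
  · intro hq
    rw [heq] at hq
    obtain ⟨r, hr, hr'⟩ := hq
    have : r = q := by
      apply (MulAut.conj x).injective
      exact hr'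
    rwa [← this]

theorem isPGroup_map_conj {Q : Subgroup G} (hQ : IsPGroup p Q) (x : G) :
    IsPGroup p (Q.map (MulAut.conj x).toMonoidHom) := hQ.map _

/-- Two `p`-subgroups of a centralizer lie in conjugates of a single one. -/
theorem exists_common_conj [Fact p.Prime] (a : G) {R₁ R₂ : Subgroup G} (h₁ : IsPGroup p R₁) (h₂ : IsPGroup p R₂)
    (hR₁ : R₁ ≤ Subgroup.centralizer ({a} : Set G)) (hR₂ : R₂ ≤ Subgroup.centralizer ({a} : Set G)) :
    ∃ c ∈ Subgroup.centralizer ({a} : Set G), ∃ V : Subgroup G, IsPGroup p V ∧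
      V ≤ Subgroup.centralizer ({a} : Set G) ∧ R₂ ≤ V ∧ R₁ ≤ V.map (MulAut.conj c).toMonoidHom := by
  classical
  set C := Subgroup.centralizer ({a} : Set G) with hC
  have hT : ∀ {R : Subgroup G}, IsPGroup p R → IsPGroup p (R.subgroupOf C) := fun {R} hR =>
    hR.comap_of_injective C.subtype Subtype.val_injective
  obtain ⟨S₁, hS₁⟩ := (hT h₁).exists_le_sylow
  obtain ⟨S₂, hS₂⟩ := (hT h₂).exists_le_sylow
  obtain ⟨c, hc⟩ := MulAction.exists_smul_eq C S₂ S₁
  refine ⟨c, c.2, (S₂ : Subgroup C).map C.subtype, S₂.isPGroup'.map _, ?_, ?_, ?_⟩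
  · rintro _ ⟨y, -, rfl⟩
    exact y.2
  · intro x hx
    exact ⟨⟨x, hR₂ hx⟩, hS₂ (Subgroup.mem_subgroupOf.2 hx), rfl⟩
  · intro x hx
    have h1 : (⟨x, hR₁ hx⟩ : C) ∈ (S₁ : Subgroup C) := hS₁ (Subgroup.mem_subgroupOf.2 hx)
    rw [← hc] at h1
    have h2 : (⟨x, hR₁ hx⟩ : C) ∈ ((c • S₂ : Sylow p C) : Subgroup C) := h1
    rw [Sylow.coe_subgroup_smul] at h2
    obtain ⟨z, hz, hz'⟩ := h2
    refine ⟨z, ⟨z, hz, rfl⟩, ?_⟩
    have := congrArg Subtype.val hz'
    simpa using this

/-- The property that `Q` is a maximal `p`-subgroup of the centralizer of `y`. -/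
def MaxIn (p : ℕ) (Q : Subgroup G) (y : G) : Prop :=
  ∀ R : Subgroup G, IsPGroup p R → Q ≤ R → R ≤ Subgroup.centralizer ({y} : Set G) → R = Q

theorem maxIn_of_normalizer [Fact p.Prime] {Q : Subgroup G} {y : G} (hy : y ∈ Subgroup.centralizer (Q : Set G))
    (h : ∀ R : Subgroup G, IsPGroup p R → R ≤ Subgroup.normalizer (Q : Set G) →
      R ≤ Subgroup.centralizer ({y} : Set G) → R ≤ Q) : MaxIn p Q y := by
  intro R hR hQR hRy
  by_contra hne
  have hlt : Q < R := lt_of_le_of_ne hQR (Ne.symm hne)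
  obtain ⟨x, hxR, hxQ, hxN⟩ := Cfsg.Agent.Lib.FusionAlperin.exists_mem_normalizer_of_lt' hR hlt
  apply hxQ
  have hR₁ : IsPGroup p (R ⊓ Subgroup.normalizer (Q : Set G) : Subgroup G) :=
    hR.to_le inf_le_left
  exact h _ hR₁ inf_le_right (inf_le_left.trans hRy) ⟨hxR, hxN⟩

/-- Conjugate elements of `C_G(Q)` with `Q` maximal are conjugate in the normalizer. -/
theorem exists_normalizer_conj [Fact p.Prime] {Q : Subgroup G} (hQ : IsPGroup p Q) {y₁ y₂ : G}
    (hy₁ : y₁ ∈ Subgroup.centralizer (Q : Set G)) (hy₂ : y₂ ∈ Subgroup.centralizer (Q : Set G))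
    (hmax : MaxIn p Q y₁) (hc : IsConj y₁ y₂) :
    ∃ n ∈ Subgroup.normalizer (Q : Set G), n * y₁ * n⁻¹ = y₂ := by
  classical
  obtain ⟨g, rfl⟩ := isConj_iff.1 hc
  have hmem : ∀ {y : G}, y ∈ Subgroup.centralizer (Q : Set G) → Q ≤ Subgroup.centralizer ({y} : Set G) := by
    intro y hy q hq
    rw [Subgroup.mem_centralizer_singleton_iff]
    exact (Subgroup.mem_centralizer_iff.1 hy q hq)
  have hR₂ : Q.map (MulAut.conj g).toMonoidHom ≤ Subgroup.centralizer ({g * y₁ * g⁻¹} : Set G) := by
    rintro _ ⟨q, hq, rfl⟩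
    rw [Subgroup.mem_centralizer_singleton_iff]
    have h1 := Subgroup.mem_centralizer_iff.1 hy₁ q hq
    simp only [MulEquiv.toMonoidHom_eq_coe, MonoidHom.coe_coe, MulAut.conj_apply]
    calc g * q * g⁻¹ * (g * y₁ * g⁻¹) = g * (q * y₁) * g⁻¹ := by group
      _ = g * (y₁ * q) * g⁻¹ := by rw [h1]
      _ = g * y₁ * g⁻¹ * (g * q * g⁻¹) := by group
  obtain ⟨c, hc, V, hV, hVC, h2, h1⟩ := exists_common_conj (g * y₁ * g⁻¹) hQ (isPGroup_map_conj hQ g)
    (hmem hy₂) hR₂
  -- pull back `V`
  have hV' : V.map (MulAut.conj g⁻¹).toMonoidHom = Q := by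
    apply hmax _ (isPGroup_map_conj hV g⁻¹)
    · intro q hq
      refine ⟨g * q * g⁻¹, h2 ⟨q, hq, rfl⟩, ?_⟩
      simp only [MulEquiv.toMonoidHom_eq_coe, MonoidHom.coe_coe, MulAut.conj_apply]
      group
    · rintro _ ⟨v, hv, rfl⟩
      rw [Subgroup.mem_centralizer_singleton_iff]
      have h3 := hVC hv
      rw [Subgroup.mem_centralizer_singleton_iff] at h3
      simp only [MulEquiv.toMonoidHom_eq_coe, MonoidHom.coe_coe, MulAut.conj_apply]
      have e1 : g⁻¹ * v * g⁻¹⁻¹ * y₁ = g⁻¹ * (v * (g * y₁ * g⁻¹)) * g := by group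
      have e2 : y₁ * (g⁻¹ * v * g⁻¹⁻¹) = g⁻¹ * ((g * y₁ * g⁻¹) * v) * g := by group
      rw [e1, e2, h3]
  have hVeq : V = Q.map (MulAut.conj g).toMonoidHom := by
    rw [← hV']
    ext v
    constructor
    · intro hv
      refine ⟨g⁻¹ * v * g, ⟨v, hv, ?_⟩, ?_⟩
      · simp
      · simp only [MulEquiv.toMonoidHom_eq_coe, MonoidHom.coe_coe, MulAut.conj_apply]
        group
    · rintro ⟨_, ⟨w, hw, rfl⟩, rfl⟩
      simp only [MulEquiv.toMonoidHom_eq_coe, MonoidHom.coe_coe, MulAut.conj_apply]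
      have : g * (g⁻¹ * w * g⁻¹⁻¹) * g⁻¹ = w := by group
      rw [this]
      exact hw
  rw [hVeq] at h1
  refine ⟨c * g, mem_normalizer_of_le_map ?_, ?_⟩
  · intro q hq
    obtain ⟨_, ⟨w, hw, rfl⟩, hw'⟩ := h1 hq
    refine ⟨w, hw, ?_⟩
    rw [← hw']
    simp only [MulEquiv.toMonoidHom_eq_coe, MonoidHom.coe_coe, MulAut.conj_apply]
    group
  · have h3 := hc
    rw [Subgroup.mem_centralizer_singleton_iff] at h3
    calc c * g * y₁ * (c * g)⁻¹ = c * (g * y₁ * g⁻¹) * c⁻¹ := by group
      _ = (g * y₁ * g⁻¹) * c * c⁻¹ := by rw [h3]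
      _ = g * y₁ * g⁻¹ := by group

/-- Lift of a function on the normalizer to a class function of `G`. -/
theorem exists_lift [Fact p.Prime] {Q : Subgroup G} (hQ : IsPGroup p Q)
    {a : Subgroup.normalizer (Q : Set G) → ℂ} (hac : IsClassFunction _ a) (hal : ∀ y, MemLocalRing M (a y))
    (hmax : ∀ y : Subgroup.normalizer (Q : Set G), (y : G) ∈ Subgroup.centralizer (Q : Set G) →
      ¬ MemLocalIdeal M (a y) → MaxIn p Q y) :
    ∃ u : G → ℂ, IsLC M u ∧
      (∀ y : Subgroup.normalizer (Q : Set G), (y : G) ∈ Subgroup.centralizer (Q : Set G) → Cong M (u y) (a y)) ∧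
      (∀ g, u g ≠ 0 → ∃ y : Subgroup.normalizer (Q : Set G), (y : G) ∈ Subgroup.centralizer (Q : Set G) ∧
        ¬ MemLocalIdeal M (a y) ∧ IsConj g (y : G)) := by
  classical
  let W : G → Subgroup.normalizer (Q : Set G) → Prop := fun g y =>
    (y : G) ∈ Subgroup.centralizer (Q : Set G) ∧ ¬ MemLocalIdeal M (a y) ∧ IsConj g (y : G)
  let u : G → ℂ := fun g => if h : ∃ y, W g y then a h.choose else 0
  have hconst : ∀ {g y y'}, W g y → W g y' → a y = a y' := by
    intro g y y' hy hy'
    obtain ⟨n, hn, e⟩ := exists_normalizer_conj hQ hy.1 hy'.1 (hmax y hy.1 hy.2.1)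
      (hy.2.2.symm.trans hy'.2.2)
    have e' : (⟨n, hn⟩ : Subgroup.normalizer (Q : Set G)) * y * (⟨n, hn⟩ : Subgroup.normalizer (Q : Set G))⁻¹ = y' :=
      Subtype.ext e
    rw [← e', hac]
  have hval : ∀ {g y}, W g y → u g = a y := by
    intro g y hy
    have hex : ∃ y, W g y := ⟨y, hy⟩
    simp only [u, dif_pos hex]
    exact hconst hex.choose_spec hy
  refine ⟨u, ⟨?_, ?_⟩, ?_, ?_⟩
  · intro g h
    have hiff : ∀ y, W (h * g * h⁻¹) y ↔ W g y := by
      intro y
      simp only [W]
      have : IsConj (h * g * h⁻¹) (y : G) ↔ IsConj g (y : G) := by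
        constructor
        · intro hc
          exact (isConj_iff.2 ⟨h, rfl⟩).trans hc
        · intro hc
          exact (isConj_iff.2 ⟨h, rfl⟩).symm.trans hc
      rw [this]
    by_cases hex : ∃ y, W g y
    · obtain ⟨y, hy⟩ := hex
      rw [hval hy, hval ((hiff y).2 hy)]
    · have hex' : ¬ ∃ y, W (h * g * h⁻¹) y := fun ⟨y, hy⟩ => hex ⟨y, (hiff y).1 hy⟩
      simp only [u, dif_neg hex, dif_neg hex']
  · intro g
    simp only [u]
    split_ifs
    · exact hal _
    · exact memLocalRing_zero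
  · intro y hy
    by_cases hv : MemLocalIdeal M (a y)
    · -- then no witness
      have hex : ¬ ∃ y', W (y : G) y' := by
        rintro ⟨y', hy'⟩
        obtain ⟨n, hn, e⟩ := exists_normalizer_conj hQ hy'.1 hy (hmax y' hy'.1 hy'.2.1) hy'.2.2.symm
        have e' : (⟨n, hn⟩ : Subgroup.normalizer (Q : Set G)) * y' * (⟨n, hn⟩ : Subgroup.normalizer (Q : Set G))⁻¹ = y :=
          Subtype.ext e
        rw [← e', hac] at hv
        exact hy'.2.1 hv
      simp only [u, dif_neg hex]
      unfold Cong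
      rw [zero_sub]
      exact MemLocalIdeal_neg hv
    · rw [hval (y := y) ⟨hy, hv, IsConj.refl _⟩]
      exact Cong.refl _
  · intro g hg
    by_contra hcon
    apply hg
    simp only [u]
    rw [dif_neg hcon]

end Lift


section Third

variable {p : ℕ} {M : Ideal AlgInt} [hprime : M.IsPrime]

theorem index_centralizer_equiv {X Y : Type u} [Group X] [Group Y] (σ : X ≃* Y) (x : X) :
    (Subgroup.centralizer ({σ x} : Set Y)).index = (Subgroup.centralizer ({x} : Set X)).index := by
  have h : (Subgroup.centralizer ({σ x} : Set Y)) =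
      (Subgroup.centralizer ({x} : Set X)).map (σ : X →* Y) := by
    ext y
    rw [Subgroup.mem_centralizer_singleton_iff]
    constructor
    · intro hy
      refine ⟨σ.symm y, ?_, by simp⟩
      rw [SetLike.mem_coe, Subgroup.mem_centralizer_singleton_iff]
      apply σ.injective
      simpa using hy
    · rintro ⟨a, ha, rfl⟩
      rw [SetLike.mem_coe, Subgroup.mem_centralizer_singleton_iff] at ha
      have := congrArg σ ha
      simpa using this
  rw [h]
  exact Subgroup.index_map_equiv _ σ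

theorem index_centralizer_conj {X : Type u} [Group X] {g y : X} (h : IsConj g y) :
    (Subgroup.centralizer ({g} : Set X)).index = (Subgroup.centralizer ({y} : Set X)).index := by
  obtain ⟨c, rfl⟩ := isConj_iff.1 h
  exact (index_centralizer_equiv (MulAut.conj c) g).symm

/-- Normal `p`-subgroups lie in defect groups. -/
theorem normal_le_defect {X : Type u} [Group X] [Fintype X] (hM : IsPModular p M)
    {B : Set (IrrCharacter X)} (hB : IsPBlock M B) {D : Subgroup X} (hD : IsDefectGroup p M B D)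
    (Q₀ : Subgroup X) [hn : Q₀.Normal] (hQ₀ : IsPGroup p Q₀) : Q₀ ≤ D := by
  classical
  haveI : Fact p.Prime := ⟨hM.1⟩
  obtain ⟨g, hg, S, rfl⟩ := hD
  obtain ⟨χ, rfl⟩ := id hB
  have hχ := mem_block_self (M := M) χ
  have hcomm : ∀ u ∈ Q₀, u * g = g * u := by
    intro u hu
    by_contra hne
    exact hg.2.2 χ hχ (Cfsg.Agent.Lib.BlockNil.central_mem_of_not_centralizes hM Q₀ hQ₀ ⟨u, hu, hne⟩ χ.2)
  have hQ' : IsPGroup p (Q₀.subgroupOf (Subgroup.centralizer ({g} : Set X))) :=
    hQ₀.comap_of_injective (Subgroup.centralizer ({g} : Set X)).subtype Subtype.val_injective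
  haveI : (Q₀.subgroupOf (Subgroup.centralizer ({g} : Set X))).Normal := Subgroup.Normal.subgroupOf hn _
  have h1 := hQ'.le_sylow_of_normal S
  intro x hx
  have hxC : x ∈ Subgroup.centralizer ({g} : Set X) := by
    rw [Subgroup.mem_centralizer_singleton_iff]
    exact hcomm x hx
  have hx2 : (⟨x, hxC⟩ : Subgroup.centralizer ({g} : Set X)) ∈ Q₀.subgroupOf (Subgroup.centralizer ({g} : Set X)) :=
    Subgroup.mem_subgroupOf.2 hx
  exact ⟨⟨x, hxC⟩, h1 hx2, rfl⟩

theorem sum_extend {X H : Type*} [Fintype X] [Fintype H] (ι : H → X) (hι : Function.Injective ι) (e : H → ℂ) :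
    ∑ x, Function.extend ι e 0 x = ∑ h, e h := by
  classical
  have h1 : ∑ h, e h = ∑ x ∈ Finset.univ.image ι, Function.extend ι e 0 x := by
    rw [Finset.sum_image (fun a _ b _ h => hι h)]
    exact Finset.sum_congr rfl fun h _ => (hι.extend_apply e 0 h).symm
  rw [h1]
  symm
  refine Finset.sum_subset (Finset.subset_univ _) fun x _ hx => ?_
  apply Function.extend_apply'
  rintro ⟨h, rfl⟩
  exact hx (Finset.mem_image_of_mem _ (Finset.mem_univ _))

/-- Being over the principal block descends to a normal subgroup. -/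
theorem principal_descend {X H : Type u} [Group X] [Fintype X] [Group H] [Fintype H]
    (ι : H →* X) (hι : Function.Injective ι) (hn : ι.range.Normal)
    {χ : IrrCharacter X} {ξ : IrrCharacter H}
    (hc : classInner (fun h => (χ : X → ℂ) (ι h)) (ξ : H → ℂ) ≠ 0)
    (hχ : χ ∈ principalBlock M X) : ξ ∈ principalBlock M H := by
  classical
  set e : H → ℂ := blockCoeff (principalBlock M H) with he
  have hel : ∀ h, MemLocalRing M (e h) := blockCoeff_local _ (block_closed principal_isBlock)
  set e' : X → ℂ := Function.extend ι e 0 with he'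
  have happ : ∀ h, e' (ι h) = e h := fun h => hι.extend_apply e 0 h
  have hout : ∀ x, x ∉ ι.range → e' x = 0 := by
    intro x hx
    apply Function.extend_apply'
    rintro ⟨h, rfl⟩
    exact hx ⟨h, rfl⟩
  have hcl : IsClassFunction X e' := by
    intro x g
    by_cases hx : x ∈ ι.range
    · obtain ⟨h, rfl⟩ := hx
      let E := MonoidHom.ofInjective hι
      let σ : H ≃* H := E.trans ((MulAut.conjNormal g).trans E.symm)
      have hE : ∀ y : H, ((E y : ι.range) : X) = ι y := fun y => MonoidHom.ofInjective_apply hι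
      have hσ : ι (σ h) = g * ι h * g⁻¹ := by
        have h1 : E (σ h) = MulAut.conjNormal g (E h) := E.apply_symm_apply _
        have h2 := congrArg Subtype.val h1
        rw [MulAut.conjNormal_apply, hE, hE] at h2
        exact h2
      rw [← hσ, happ, happ]
      exact blockCoeff_principal_aut σ h
    · have hx' : g * x * g⁻¹ ∉ ι.range := by
        intro hc
        apply hx
        have := hn.conj_mem _ hc g⁻¹
        simpa [mul_assoc] using this
      rw [hout _ hx, hout _ hx']
  have hl : ∀ x, MemLocalRing M (e' x) := by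
    intro x
    by_cases hx : x ∈ ι.range
    · obtain ⟨h, rfl⟩ := hx
      rw [happ]
      exact hel h
    · rw [hout _ hx]
      exact memLocalRing_zero
  have h1 := om_eq_of_constituent ι hι hn hc hcl hout
  have h2 : e' ∘ ι = e := funext happ
  rw [h2] at h1
  have h3 := om_of_mem_principal hχ (z := e') ⟨hcl, hl⟩
  rw [h1, he', sum_extend ι hι e] at h3
  have h4 : ∑ h, e h = 1 := by
    have := om_blockCoeff (principalBlock M H) (one' H)
    rw [om_one', if_pos one_mem_principal] at this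
    exact this
  rw [h4, he, om_blockCoeff] at h3
  by_contra hξ
  rw [if_neg hξ] at h3
  have := Cong.symm h3
  exact one_not_memLocalIdeal (M := M) (cong_zero_iff.mp this)

variable {G : Type u} [Group G] [Fintype G]

theorem dvd_index_of_maxIn [Fact p.Prime] {Q : Subgroup G} {y : G} (hmax : MaxIn p Q y) (hQ : IsPGroup p Q)
    (hQy : Q ≤ Subgroup.centralizer ({y} : Set G)) (S : Sylow p G) (hlt : Q < (S : Subgroup G)) :
    p ∣ (Subgroup.centralizer ({y} : Set G)).index := by
  classical
  by_contra hnd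
  set C := Subgroup.centralizer ({y} : Set G)
  have hT : IsPGroup p (Q.subgroupOf C) := hQ.comap_of_injective C.subtype Subtype.val_injective
  obtain ⟨T, hT'⟩ := hT.exists_le_sylow
  have hle : Q ≤ (T : Subgroup C).map C.subtype := by
    intro x hx
    exact ⟨⟨x, hQy hx⟩, hT' (Subgroup.mem_subgroupOf.2 hx), rfl⟩
  have heq := hmax _ (T.isPGroup'.map _) hle (by rintro _ ⟨z, -, rfl⟩; exact z.2)
  have hcard1 : Nat.card Q = p ^ (Nat.card C).factorization p := by
    rw [← heq, Nat.card_congr ((T : Subgroup C).equivMapOfInjective C.subtype Subtype.val_injective).symm.toEquiv,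
      Sylow.card_eq_multiplicity]
  have hcard2 : Nat.card S = p ^ (Nat.card G).factorization p := Sylow.card_eq_multiplicity S
  have hfac : (Nat.card G).factorization p = (Nat.card C).factorization p := by
    rw [← Subgroup.card_mul_index C, Nat.factorization_mul (Nat.card_pos.ne') (Subgroup.index_ne_zero_of_finite)]
    simp only [Finsupp.coe_add, Pi.add_apply]
    rw [Nat.factorization_eq_zero_of_not_dvd hnd, add_zero]
  have hlt' := Set.ncard_lt_ncard (s := (Q : Set G)) (t := ((S : Subgroup G) : Set G))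
    (by exact_mod_cast hlt) (Set.toFinite _)
  rw [← Nat.card_coe_set_eq, ← Nat.card_coe_set_eq] at hlt'
  change Nat.card Q < Nat.card (S : Subgroup G) at hlt'
  rw [hcard1] at hlt'
  have : Nat.card (S : Subgroup G) = p ^ (Nat.card G).factorization p := hcard2
  rw [this, hfac] at hlt'
  exact lt_irrefl _ hlt'

/-- The inductive step of the third main theorem. -/
theorem third_main_step (hM : IsPModular p M) (Q : Subgroup G) (hQ : IsPGroup p Q)
    (IH : ∀ D : Subgroup G, Q < D → IsPGroup p D → ∀ [Fintype (Subgroup.centralizer (D : Set G))]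
      (ξ' : IrrCharacter (Subgroup.centralizer (D : Set G))),
      (∀ z, IsLC M z → Cong M (omI (Subgroup.centralizer (D : Set G)).subtype (ξ' : _ → ℂ) z) (∑ g, z g)) →
        ξ' ∈ principalBlock M (Subgroup.centralizer (D : Set G)))
    [Fintype (Subgroup.centralizer (Q : Set G))] (ξ : IrrCharacter (Subgroup.centralizer (Q : Set G)))
    (h : ∀ z, IsLC M z → Cong M (omI (Subgroup.centralizer (Q : Set G)).subtype (ξ : _ → ℂ) z) (∑ g, z g)) :
    ξ ∈ principalBlock M (Subgroup.centralizer (Q : Set G)) := by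
  classical
  haveI : Fact p.Prime := ⟨hM.1⟩
  obtain ⟨S₀, hS₀⟩ := hQ.exists_le_sylow
  have hrCG : ∀ x, x ∈ (Subgroup.centralizer (Q : Set G)).subtype.range ↔ ∀ u ∈ Q, u * x = x * u := by
    intro x
    rw [Subgroup.range_subtype]
    exact Subgroup.mem_centralizer_iff
  by_cases hQS : Q = S₀
  · subst hQS
    exact principal_of_sylow hM S₀ _ Subtype.val_injective hrCG ξ h
  have hQlt : Q < (S₀ : Subgroup G) := lt_of_le_of_ne hS₀ hQS
  let N := Subgroup.normalizer (Q : Set G)
  let C := Subgroup.centralizer (Q : Set G)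
  letI : Fintype N := Fintype.ofFinite _
  have hCN : C ≤ N := centralizer_le_normalizer' Q
  let ιCN : C →* N := Subgroup.inclusion hCN
  have hιCN : Function.Injective ιCN := Subgroup.inclusion_injective hCN
  let Q₁ : Subgroup N := Q.subgroupOf N
  haveI hQ₁n : Q₁.Normal := by
    constructor
    intro q hq n
    rw [Subgroup.mem_subgroupOf] at hq ⊢
    exact (Subgroup.mem_normalizer_iff.1 n.2 q).1 hq
  have hQ₁p : IsPGroup p Q₁ := hQ.comap_of_injective N.subtype Subtype.val_injective
  have hrCN : ∀ x : N, x ∈ ιCN.range ↔ ∀ u ∈ Q₁, u * x = x * u := by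
    intro x
    constructor
    · rintro ⟨c, rfl⟩ u hu
      apply Subtype.ext
      exact Subgroup.mem_centralizer_iff.1 c.2 u hu
    · intro hx
      refine ⟨⟨x, ?_⟩, rfl⟩
      rw [Subgroup.mem_centralizer_iff]
      intro u hu
      have := hx ⟨u, Subgroup.le_normalizer hu⟩ (Subgroup.mem_subgroupOf.2 hu)
      exact congrArg Subtype.val this
  have hnorm : ιCN.range.Normal := by
    constructor
    intro x hx g
    rw [hrCN] at hx ⊢
    intro u hu
    have hu' : g⁻¹ * u * g ∈ Q₁ := by
      have := hQ₁n.conj_mem u hu g⁻¹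
      simpa using this
    have := hx _ hu'
    have e1 : u * (g * x * g⁻¹) = g * ((g⁻¹ * u * g) * x) * g⁻¹ := by group
    have e2 : g * x * g⁻¹ * u = g * (x * (g⁻¹ * u * g)) * g⁻¹ := by group
    rw [e1, e2, this]
  obtain ⟨χ, hc⟩ := exists_irr_over ιCN hιCN ξ
  have hcl : ∀ z : N → ℂ, IsLC M z → Cong M (om (χ : N → ℂ) z) (omI ιCN (ξ : C → ℂ) z) := fun z hz =>
    om_congr_omI hM Q₁ hQ₁p ιCN hιCN hrCN hc hz
  have hcomp : ∀ z : G → ℂ, omI ιCN (ξ : C → ℂ) (z ∘ N.subtype) = omI C.subtype (ξ : C → ℂ) z := fun z => rfl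
  have h₁ : ∀ z : G → ℂ, IsLC M z → Cong M (om (χ : N → ℂ) (z ∘ N.subtype)) (∑ g, z g) := fun z hz => by
    refine Cong.trans (hcl _ (comp_isLC N.subtype hz)) ?_
    rw [hcomp]
    exact h z hz
  suffices hχ : χ ∈ principalBlock M N from principal_descend ιCN hιCN hnorm hc hχ
  let b := blockOf M (χ : N → ℂ)
  have hb : IsPBlock M b := ⟨χ, rfl⟩
  have hχb : χ ∈ b := mem_block_self (M := M) χ
  let a := blockCoeff b
  have haLC : IsLC M a := ⟨blockCoeff_isClass b, blockCoeff_local b (block_closed hb)⟩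
  have homa : om (χ : N → ℂ) a = 1 := by
    rw [om_blockCoeff, if_pos hχb]
  obtain ⟨g₀, hg₀⟩ := Cfsg.Agent.Lib.CharBlockConv.exists_defect_class hM hb
  let Dₛ : Sylow p (Subgroup.centralizer ({g₀} : Set N)) := default
  let D : Subgroup N := (Dₛ : Subgroup (Subgroup.centralizer ({g₀} : Set N))).map (Subgroup.centralizer ({g₀} : Set N)).subtype
  have hDdef : IsDefectGroup p M b D := ⟨g₀, hg₀, Dₛ, rfl⟩
  have hDp : IsPGroup p D := Dₛ.isPGroup'.map _
  have hQD : Q₁ ≤ D := normal_le_defect hM hb hDdef Q₁ hQ₁p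
  let D' : Subgroup G := D.map N.subtype
  have hD'p : IsPGroup p D' := hDp.map _
  have hQD' : Q ≤ D' := by
    intro q hq
    exact ⟨⟨q, Subgroup.le_normalizer hq⟩, hQD (Subgroup.mem_subgroupOf.2 hq), rfl⟩
  by_cases hne : Q = D'
  · -- Case: the defect group of `b` is `Q`
    exfalso
    have hDQ : ∀ x : N, x ∈ D → (x : G) ∈ Q := by
      intro x hx
      rw [hne]
      exact ⟨x, hx, rfl⟩
    have hmax : ∀ y : N, (y : G) ∈ C → ¬ MemLocalIdeal M (a y) → MaxIn p Q y := by
      intro y hy hay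
      refine maxIn_of_normalizer hy fun R hR hRN hRy => ?_
      have hR' : IsPGroup p (R.subgroupOf N) := hR.comap_of_injective N.subtype Subtype.val_injective
      obtain ⟨x, hx⟩ := (Cfsg.Agent.Lib.CharBlockMinMax.conj_le_defect_iff hM hb hDdef hR').1
        ⟨y, haLC.2 y, hay, y, IsConj.refl _, by
          rw [Subgroup.mem_centralizer_iff]
          intro r hr
          apply Subtype.ext
          have := hRy (Subgroup.mem_subgroupOf.1 hr)
          rw [Subgroup.mem_centralizer_singleton_iff] at this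
          exact this⟩
      intro r hr
      have hr1 : (⟨r, hRN hr⟩ : N) ∈ R.subgroupOf N := Subgroup.mem_subgroupOf.2 hr
      have hr2 := hx ⟨_, hr1, rfl⟩
      have hr3 := hDQ _ hr2
      simp only [MulEquiv.toMonoidHom_eq_coe, MonoidHom.coe_coe, MulAut.conj_apply] at hr3
      have hr4 : x * ⟨r, hRN hr⟩ * x⁻¹ ∈ Q₁ := Subgroup.mem_subgroupOf.2 hr3
      have hr5 := hQ₁n.conj_mem _ hr4 x⁻¹
      have e : x⁻¹ * (x * ⟨r, hRN hr⟩ * x⁻¹) * x⁻¹⁻¹ = ⟨r, hRN hr⟩ := by group
      rw [e] at hr5
      exact Subgroup.mem_subgroupOf.1 hr5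
    obtain ⟨u, huLC, hu1, hu2⟩ := exists_lift hQ haLC.1 haLC.2 hmax
    -- the sum of `u` is in the local ideal
    have hsum : MemLocalIdeal M (∑ g, u g) := by
      letI : Fintype (ConjClasses G) := Fintype.ofFinite _
      rw [Cfsg.Agent.Lib.CharInt.sum_class_function huLC.1]
      refine MemLocalIdeal_sum _ _ fun c _ => ?_
      by_cases h0 : u (Quotient.out c) = 0
      · rw [h0, mul_zero]
        exact memLocalIdeal_zero
      · obtain ⟨y, hyC, hay, hcy⟩ := hu2 _ h0
        refine MemLocalIdeal_mul_right ?_ (huLC.2 _)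
        rw [index_centralizer_conj hcy]
        refine memLocalIdeal_natCast_of_dvd hM ?_
        refine dvd_index_of_maxIn (hmax y hyC hay) hQ ?_ S₀ hQlt
        intro q hq
        rw [Subgroup.mem_centralizer_singleton_iff]
        exact Subgroup.mem_centralizer_iff.1 hyC q hq
    have h2 := h₁ u huLC
    have h3 : Cong M (om (χ : N → ℂ) (u ∘ N.subtype)) (om (χ : N → ℂ) a) := by
      letI : Fintype (ConjClasses N) := Fintype.ofFinite _
      have huN := comp_isLC (M := M) N.subtype huLC
      unfold Cong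
      rw [om_eq_sum_class χ.2 huN.1, om_eq_sum_class χ.2 haLC.1, ← Finset.sum_sub_distrib]
      refine MemLocalIdeal_sum _ _ fun c _ => ?_
      rw [← sub_mul]
      set x := Quotient.out c
      by_cases hx : x ∈ ιCN.range
      · refine MemLocalIdeal_mul_right ?_ (centralChar_local χ.2 _)
        obtain ⟨c', hc'⟩ := hx
        have : ((x : N) : G) ∈ C := by
          rw [← hc']; exact c'.2
        exact hu1 x this
      · refine MemLocalIdeal_mul_left (MemLocalRing_sub (huN.2 _) (haLC.2 _)) ?_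
        rw [hrCN] at hx
        push_neg at hx
        obtain ⟨w, hw, hne'⟩ := hx
        exact Cfsg.Agent.Lib.BlockNil.central_mem_of_not_centralizes hM Q₁ hQ₁p ⟨w, hw, hne'⟩ χ.2
    rw [homa] at h3
    have h4 := Cong.trans (Cong.symm h2) h3
    exact not_mem_of_cong_one h4 hsum
  · -- Case: the defect group of `b` is larger
    have hlt : Q < D' := lt_of_le_of_ne hQD' hne
    let C' := Subgroup.centralizer (D' : Set G)
    letI : Fintype C' := Fintype.ofFinite _
    have hC'N : C' ≤ N := by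
      intro x hx
      apply hCN
      rw [Subgroup.mem_centralizer_iff] at hx ⊢
      exact fun q hq => hx q (hQD' hq)
    let ι' : C' →* N := Subgroup.inclusion hC'N
    have hι' : Function.Injective ι' := Subgroup.inclusion_injective hC'N
    have hr' : ∀ x : N, x ∈ ι'.range ↔ ∀ u ∈ D, u * x = x * u := by
      intro x
      constructor
      · rintro ⟨c, rfl⟩ u hu
        apply Subtype.ext
        exact Subgroup.mem_centralizer_iff.1 c.2 (u : G) ⟨u, hu, rfl⟩
      · intro hx
        refine ⟨⟨x, ?_⟩, rfl⟩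
        rw [Subgroup.mem_centralizer_iff]
        rintro _ ⟨u, hu, rfl⟩
        exact congrArg Subtype.val (hx u hu)
    let w : C' → ℂ := a ∘ ι'
    have hwLC : IsLC M w := comp_isLC ι' haLC
    have hid : ∀ r, Cong M (conv w w r) (w r) := by
      intro r
      have h1 := conv_trunc_centralizer hM D hDp ι' hι' hr' haLC haLC r
      rw [conv_blockCoeff b] at h1
      exact Cong.symm h1
    obtain ⟨A', -, hcong, hA1, -⟩ := idem_congr hwLC hid
    have hg₀C : (g₀ : G) ∈ C' := by
      rw [Subgroup.mem_centralizer_iff]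
      rintro _ ⟨_, ⟨d, -, rfl⟩, rfl⟩
      have := d.2
      rw [Subgroup.mem_centralizer_singleton_iff] at this
      exact congrArg Subtype.val this
    let y₀ : C' := ⟨g₀, hg₀C⟩
    have hwy₀ : ¬ MemLocalIdeal M (w y₀) := hg₀.2.1
    obtain ⟨ξ', hξ'⟩ : ∃ ξ', ξ' ∈ A' := by
      by_contra hemp
      push_neg at hemp
      apply hwy₀
      have h1 := hcong y₀
      have h2 : blockCoeff A' y₀ = 0 := by
        rw [blockCoeff_eq]
        simp [hemp]
      rw [h2] at h1
      exact cong_zero_iff.mp h1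
    have hξ'1 : Cong M (om (ξ' : C' → ℂ) w) 1 := (hA1 ξ').1 hξ'
    obtain ⟨ψ, hψ⟩ := exists_irr_centralizer hM D hDp ι' hι' hr' ξ'.2
    have hψb : ψ ∈ b := by
      have h1 : Cong M (om (ψ : N → ℂ) a) 1 := Cong.trans (Cong.symm (hψ a haLC)) hξ'1
      rw [om_blockCoeff] at h1
      by_contra hn
      rw [if_neg hn] at h1
      have := Cong.symm h1
      exact one_not_memLocalIdeal (M := M) (cong_zero_iff.mp this)
    have hsame : SameBlock M (χ : N → ℂ) (ψ : N → ℂ) := hψb
    have h₂ : ∀ z : N → ℂ, IsLC M z → Cong M (omI ι' (ξ' : C' → ℂ) z) (om (χ : N → ℂ) z) := by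
      intro z hz
      refine Cong.trans (hψ z hz) ?_
      exact Cong.symm (om_sameBlock (M := M) χ.2 ψ.2 hz.1 hz.2 hsame)
    have hξ'B : ξ' ∈ principalBlock M C' := by
      refine IH D' hlt hD'p ξ' fun z hz => ?_
      have e : omI C'.subtype (ξ' : C' → ℂ) z = omI ι' (ξ' : C' → ℂ) (z ∘ N.subtype) := rfl
      rw [e]
      exact Cong.trans (h₂ _ (comp_isLC N.subtype hz)) (h₁ z hz)
    refine mem_principal_of_om fun z hz => ?_
    refine Cong.trans (Cong.symm (h₂ z hz)) ?_
    have e1 := om_of_mem_principal hξ'B (comp_isLC (M := M) ι' hz)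
    have e2 := sum_congr_centralizer hM D hDp ι' hι' hr' hz.2 (fun a x => hz.1 x a)
    exact Cong.trans e1 (Cong.symm e2)

theorem third_main_aux (hM : IsPModular p M) : ∀ Q : Subgroup G, IsPGroup p Q →
    ∀ [Fintype (Subgroup.centralizer (Q : Set G))] (ξ : IrrCharacter (Subgroup.centralizer (Q : Set G))),
    (∀ z, IsLC M z → Cong M (omI (Subgroup.centralizer (Q : Set G)).subtype (ξ : _ → ℂ) z) (∑ g, z g)) →
    ξ ∈ principalBlock M (Subgroup.centralizer (Q : Set G)) := by
  intro Q
  induction Q using WellFoundedGT.induction with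
  | ind Q ih =>
    intro hQ _ ξ h
    exact third_main_step hM Q hQ (fun D hD hDp _ ξ' h' => ih D hD hDp ξ' h') ξ h

/-- Brauer's third main theorem. -/
theorem third_main (hM : IsPModular p M) (Q : Subgroup G) (hQ : IsPGroup p Q)
    [Fintype (Subgroup.centralizer (Q : Set G))] (ξ : IrrCharacter (Subgroup.centralizer (Q : Set G)))
    (h : Cong M (omI (Subgroup.centralizer (Q : Set G)).subtype (ξ : _ → ℂ) (blockCoeff (principalBlock M G))) 1) :
    ξ ∈ principalBlock M (Subgroup.centralizer (Q : Set G)) := by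
  classical
  have hr : ∀ x, x ∈ (Subgroup.centralizer (Q : Set G)).subtype.range ↔ ∀ u ∈ Q, u * x = x * u := by
    intro x
    rw [Subgroup.range_subtype]
    exact Subgroup.mem_centralizer_iff
  obtain ⟨ψ, hψ⟩ := exists_irr_centralizer hM Q hQ _ Subtype.val_injective hr ξ.2
  have haLC : IsLC M (blockCoeff (principalBlock M G)) :=
    ⟨blockCoeff_isClass _, blockCoeff_local _ (block_closed principal_isBlock)⟩
  have h1 : Cong M (om (ψ : G → ℂ) (blockCoeff (principalBlock M G))) 1 := Cong.trans (Cong.symm (hψ _ haLC)) h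
  have hψB : ψ ∈ principalBlock M G := by
    rw [om_blockCoeff] at h1
    by_contra hn
    rw [if_neg hn] at h1
    have := Cong.symm h1
    exact one_not_memLocalIdeal (M := M) (cong_zero_iff.mp this)
  refine third_main_aux hM Q hQ ξ fun z hz => ?_
  exact Cong.trans (hψ z hz) (om_of_mem_principal hψB hz)

/-- The converse: the truncation of the principal idempotent acts as one on the principal block. -/
theorem principal_truncation (hM : IsPModular p M) (Q : Subgroup G) (hQ : IsPGroup p Q)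
    [Fintype (Subgroup.centralizer (Q : Set G))] {ξ : IrrCharacter (Subgroup.centralizer (Q : Set G))}
    (hξ : ξ ∈ principalBlock M (Subgroup.centralizer (Q : Set G))) :
    Cong M (omI (Subgroup.centralizer (Q : Set G)).subtype (ξ : _ → ℂ) (blockCoeff (principalBlock M G))) 1 := by
  classical
  have hr : ∀ x, x ∈ (Subgroup.centralizer (Q : Set G)).subtype.range ↔ ∀ u ∈ Q, u * x = x * u := by
    intro x
    rw [Subgroup.range_subtype]
    exact Subgroup.mem_centralizer_iff
  have haLC : IsLC M (blockCoeff (principalBlock M G)) :=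
    ⟨blockCoeff_isClass _, blockCoeff_local _ (block_closed principal_isBlock)⟩
  have h1 := om_of_mem_principal hξ (comp_isLC (M := M) (Subgroup.centralizer (Q : Set G)).subtype haLC)
  have h2 := sum_congr_centralizer hM Q hQ _ Subtype.val_injective hr haLC.2 (fun a x => haLC.1 x a)
  have h3 : ∑ g, blockCoeff (principalBlock M G) g = 1 := by
    have := om_blockCoeff (principalBlock M G) (one' G)
    rw [om_one', if_pos one_mem_principal] at this
    exact this
  rw [h3] at h2
  exact Cong.trans h1 (Cong.symm h2)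

theorem brauerOmega_eq (Q : Subgroup G) [Fintype (Subgroup.centralizer (Q : Set G))] (β : G → ℂ)
    (ξ : Subgroup.centralizer (Q : Set G) → ℂ) :
    brauerOmega Q β ξ = omI (Subgroup.centralizer (Q : Set G)).subtype ξ β := by
  rw [brauerOmega, finsum_eq_sum_of_fintype, omI, om, Finset.mul_sum]
  refine Finset.sum_congr rfl fun x _ => ?_
  simp only [Function.comp_apply, Subgroup.coe_subtype]
  ring

/-- The Brauer pairs of the principal block. -/
theorem isBrauerPairOf_principal_iff (hM : IsPModular p M) (Q : Subgroup G) (hQ : IsPGroup p Q)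
    (e : Set (IrrCharacter (Subgroup.centralizer (Q : Set G)))) (he : IsPBlock M e) :
    IsBrauerPairOf p M (principalBlock M G) Q e ↔ e = principalBlock M (Subgroup.centralizer (Q : Set G)) := by
  classical
  letI : Fintype (Subgroup.centralizer (Q : Set G)) := Fintype.ofFinite _
  constructor
  · rintro ⟨-, -, h⟩
    obtain ⟨ξ, rfl⟩ := id he
    have hξ := mem_block_self (M := M) ξ
    have h1 := h ξ hξ
    rw [brauerOmega_eq] at h1
    have h2 := third_main hM Q hQ ξ h1
    have h3 := blockOf_eq_of_mem (principal_isBlock (M := M) (G := Subgroup.centralizer (Q : Set G))) h2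
    rw [← h3]
  · rintro rfl
    refine ⟨⟨hQ, he⟩, principal_isBlock, fun ξ hξ => ?_⟩
    rw [brauerOmega_eq]
    exact principal_truncation hM Q hQ hξ

end Third

end Cfsg.Agent.Lib.BlockPair
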