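import Mathlib
import Cfsg.Prelude.Def_Blocks
import Cfsg.Agent.Lib.CharBlockKer

/-!
# Blocks covering blocks of a normal subgroup
-/

set_option autoImplicit false
set_option linter.style.haveILetI false
set_option linter.unusedSectionVars false

namespace Cfsg.Agent.Lib.CharBlockNormal

open scoped ComplexConjugate
open Cfsg Cfsg.Agent.Lib.CharBlockLocal Cfsg.Agent.Lib.CharBlockConv Cfsg.Agent.Lib.CharBlockRot
  Cfsg.Agent.Lib.CharBlockOrth Cfsg.Agent.Lib.CharOps Cfsg.Agent.Lib.CharIrr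
  Cfsg.Agent.Lib.CharBlockDefect Cfsg.Agent.Lib.CharBlockMinMax Cfsg.Agent.Lib.CharBlockBrauer
  Cfsg.Agent.Lib.CharBlockInd Cfsg.Agent.Lib.CharBlockFirst Cfsg.Agent.Lib.CharBlockSecond
  Cfsg.Agent.Lib.CharBlockHeight Cfsg.Agent.Lib.CharBlockDom Cfsg.Agent.Lib.CharBlockThird
  Cfsg.Agent.Lib.CharBlockKer Cfsg.Agent.Lib.CharNormal Cfsg.Agent.Lib.CharCentral

universe u

variable {G : Type u} [Group G] [Fintype G] {p : ℕ} {M : Ideal AlgInt} {N : Subgroup G} [Fintype N]

/-- The central character of `χ` on `N`-supported class functions agrees with that of any constituent. -/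
theorem omega_of_constituent {F : G → ℂ} (hF : IsClassFunction G F) (hs : ∀ g, g ∉ N → F g = 0) {χ : G → ℂ}
    (hχ : IsIrrCharacter G χ) {θ : N → ℂ} (hθ : IsIrrCharacter N θ)
    (h : classInner (fun n : N => χ n) θ ≠ 0) : omega χ F = omega θ (res N F) := by
  classical
  have hχ1 : χ 1 ≠ 0 := degree_ne_zero hχ
  set f := res N F with hf
  have hfc : IsClassFunction N f := res_isClass N hF
  have hχc : IsClassFunction G χ := IsCharacter.isClassFunction' (IsIrrCharacter.isCharacter' hχ)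
  set ψ : N → ℂ := fun n => χ n with hψ
  have hψc : IsClassFunction N ψ := res_isClass N hχc
  have h1 : ∀ w : N, ∑ n : N, f n * ψ (n * w) = omega χ F * ψ w := by
    intro w
    have h2 := sum_mul_irr hχ hF (w : G)
    have h3 : ∑ g, F g * χ (g * w) = ∑ n : N, F n * χ ((n : G) * w) :=
      sum_over_subgroup N _ (fun g hg => by rw [hs g hg, zero_mul])
    rw [h3] at h2
    have h4 : omega χ F = (∑ g, F g * χ g) / χ 1 := rfl
    rw [h4, div_mul_eq_mul_div, eq_div_iff hχ1]
    exact h2
  have h2 : ∀ (ξ : IrrCharacter N) (w : N), ∑ n : N, f n * (ξ : N → ℂ) (n * w) = omega (ξ : N → ℂ) f * (ξ : N → ℂ) w := by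
    intro ξ w
    have h2 := sum_mul_irr ξ.2 hfc w
    have h4 : omega (ξ : N → ℂ) f = (∑ g, f g * (ξ : N → ℂ) g) / (ξ : N → ℂ) 1 := rfl
    rw [h4, div_mul_eq_mul_div, eq_div_iff (degree_ne_zero ξ.2)]
    exact h2
  have hexp := classFunction_expand hψc
  have h3 : (omega χ F) • ψ = ∑ ξ : IrrCharacter N, (classInner ψ (ξ : N → ℂ) * omega (ξ : N → ℂ) f) • (ξ : N → ℂ) := by
    funext w
    simp only [Pi.smul_apply, smul_eq_mul, Finset.sum_apply]
    rw [← h1 w]
    have h5 : ∀ n : N, ψ (n * w) = ∑ ξ : IrrCharacter N, classInner ψ (ξ : N → ℂ) * (ξ : N → ℂ) (n * w) := by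
      intro n
      have := congrFun hexp (n * w)
      simpa only [Finset.sum_apply, Pi.smul_apply, smul_eq_mul] using this
    simp only [h5, Finset.mul_sum]
    rw [Finset.sum_comm]
    refine Finset.sum_congr rfl fun ξ _ => ?_
    rw [mul_assoc, ← h2 ξ w, Finset.mul_sum]
    refine Finset.sum_congr rfl fun n _ => ?_
    ring
  have h4 := congrArg (fun φ => classInner φ θ) h3
  simp only [classInner_smul_left, classInner_sum_left] at h4
  rw [Finset.sum_eq_single (⟨θ, hθ⟩ : IrrCharacter N)] at h4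
  · rw [classInner_irr hθ hθ, if_pos rfl, mul_one] at h4
    rw [mul_comm (classInner _ _)] at h4
    exact mul_right_cancel₀ h h4
  · intro ξ _ hξ
    rw [classInner_irr ξ.2 hθ, if_neg (fun e => hξ (Subtype.ext e)), mul_zero]
  · simp

variable [hN : N.Normal]

/-- Reindexing by conjugation in `G`. -/
theorem sum_conj_normal (g : G) (F : N → ℂ) :
    ∑ n : N, F ⟨g * n * g⁻¹, hN.conj_mem n n.2 g⟩ = ∑ n : N, F n := by
  refine Fintype.sum_equiv (MulAut.conjNormal g).toEquiv _ _ fun n => ?_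
  congr 1

/-- Conjugation of an irreducible character of a normal subgroup. -/
noncomputable def conjIrr (g : G) (θ : IrrCharacter N) : IrrCharacter N := ⟨conjFun N θ g, isIrr_conjFun N θ.2 g⟩

theorem conjIrr_coe (g : G) (θ : IrrCharacter N) : (conjIrr g θ : N → ℂ) = conjFun N θ g := rfl

theorem conjIrr_mul (x y : G) (θ : IrrCharacter N) : conjIrr (x * y) θ = conjIrr y (conjIrr x θ) :=
  Subtype.ext (conjFun_mul N θ x y)

theorem conjIrr_one (θ : IrrCharacter N) : conjIrr 1 θ = θ := Subtype.ext (conjFun_one N θ)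

theorem conjIrr_inv_conjIrr (x : G) (θ : IrrCharacter N) : conjIrr x⁻¹ (conjIrr x θ) = θ := by
  rw [← conjIrr_mul, mul_inv_cancel, conjIrr_one]

theorem conjIrr_conjIrr_inv (x : G) (θ : IrrCharacter N) : conjIrr x (conjIrr x⁻¹ θ) = θ := by
  rw [← conjIrr_mul, inv_mul_cancel, conjIrr_one]

theorem conjFun_degree (θ : N → ℂ) (g : G) : conjFun N θ g 1 = θ 1 := by
  rw [conjFun_apply]
  congr 1
  apply Subtype.ext
  simp

/-- `ω` of a conjugate character. -/
theorem omega_conjFun (ξ f : N → ℂ) (g : G) : omega (conjFun N ξ g) f = omega ξ (conjFun N f g⁻¹) := by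
  unfold omega
  rw [conjFun_degree]
  congr 1
  rw [← sum_conj_normal g (fun n => conjFun N f g⁻¹ n * ξ n)]
  refine Finset.sum_congr rfl fun n _ => ?_
  congr 1
  rw [conjFun_apply]
  congr 1
  apply Subtype.ext
  simp [mul_assoc]

theorem conjFun_isClass {f : N → ℂ} (hf : IsClassFunction N f) (g : G) : IsClassFunction N (conjFun N f g) := by
  intro a b
  simp only [conjFun_apply]
  have h1 := hf ⟨g * a * g⁻¹, hN.conj_mem a a.2 g⟩ ⟨g * b * g⁻¹, hN.conj_mem b b.2 g⟩
  rw [← h1]
  congr 1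
  apply Subtype.ext
  simp [mul_assoc]

theorem conjFun_isRClass {f : N → ℂ} (hf : IsRClass M f) (g : G) : IsRClass M (conjFun N f g) :=
  ⟨conjFun_isClass hf.1 g, fun _ => hf.2 _⟩

/-- Conjugation preserves the relation of lying in the same block. -/
theorem sameBlock_conjFun (hM : IsPModular p M) {ξ ξ' : N → ℂ} (hξ : IsIrrCharacter N ξ) (hξ' : IsIrrCharacter N ξ')
    (h : SameBlock M ξ ξ') (g : G) : SameBlock M (conjFun N ξ g) (conjFun N ξ' g) := by
  refine sameBlock_of_omega (IsCharacter.isClassFunction' (IsIrrCharacter.isCharacter' (isIrr_conjFun N hξ g)))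
    (IsCharacter.isClassFunction' (IsIrrCharacter.isCharacter' (isIrr_conjFun N hξ' g))) fun n => ?_
  rw [omega_conjFun, omega_conjFun]
  exact sameBlock_omega hM hξ hξ' h (conjFun_isRClass (isRClass_indC hM n) _)

/-- The `G`-orbit of a set of irreducible characters of `N`. -/
def orbitSet (A : Set (IrrCharacter N)) : Set (IrrCharacter N) := {ξ | ∃ g : G, ∃ θ ∈ A, ξ = conjIrr g θ}

theorem subset_orbitSet (A : Set (IrrCharacter N)) : A ⊆ orbitSet A := fun θ hθ =>
  ⟨1, θ, hθ, (conjIrr_one θ).symm⟩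

theorem conjIrr_mem_orbitSet {A : Set (IrrCharacter N)} (x : G) {ξ : IrrCharacter N} :
    conjIrr x ξ ∈ orbitSet A ↔ ξ ∈ orbitSet A := by
  constructor
  · rintro ⟨g, θ, hθ, h⟩
    refine ⟨g * x⁻¹, θ, hθ, ?_⟩
    rw [conjIrr_mul, ← h, conjIrr_inv_conjIrr]
  · rintro ⟨g, θ, hθ, h⟩
    refine ⟨g * x, θ, hθ, ?_⟩
    rw [conjIrr_mul, ← h]

theorem blockClosed_orbitSet (hM : IsPModular p M) {A : Set (IrrCharacter N)} (hA : BlockClosed M A) :
    BlockClosed M (orbitSet (G := G) A) := by
  rintro ξ ⟨g, θ, hθ, rfl⟩ ξ' hξ'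
  have h1 : SameBlock M (conjIrr g θ : N → ℂ) (ξ' : N → ℂ) := hξ'
  have h2 := sameBlock_conjFun hM (conjIrr g θ).2 ξ'.2 h1 g⁻¹
  have h3 : conjFun N (conjIrr g θ : N → ℂ) g⁻¹ = θ := congrArg Subtype.val (conjIrr_inv_conjIrr g θ)
  rw [h3] at h2
  have h4 : conjIrr g⁻¹ ξ' ∈ A := hA θ hθ h2
  exact ⟨g, _, h4, (conjIrr_conjIrr_inv g ξ').symm⟩

/-- The `G`-invariant idempotent of an orbit. -/
theorem conjFun_blockCoeff_orbitSet (A : Set (IrrCharacter N)) (x : G) :
    conjFun N (blockCoeff (orbitSet (G := G) A)) x = blockCoeff (orbitSet (G := G) A) := by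
  classical
  refine eq_blockCoeff_of_omega _ (conjFun_isClass (blockCoeff_isClass _) x) fun ξ => ?_
  have h1 : omega (ξ : N → ℂ) (conjFun N (blockCoeff (orbitSet (G := G) A)) x) = omega (conjFun N ξ x⁻¹) (blockCoeff (orbitSet (G := G) A)) := by
    rw [omega_conjFun, inv_inv]
  rw [h1]
  have h2 := omega_blockCoeff (orbitSet (G := G) A) (conjIrr x⁻¹ ξ)
  rw [conjIrr_coe] at h2
  rw [h2]
  simp only [conjIrr_mem_orbitSet]

/-- Extension by zero of a `G`-invariant function. -/
theorem extendByZero_isClass {f : N → ℂ} (hf : ∀ x : G, conjFun N f x = f) : IsClassFunction G (extendByZero N f) := by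
  intro g a
  by_cases hg : g ∈ N
  · have h1 : a * g * a⁻¹ ∈ N := hN.conj_mem g hg a
    rw [extendByZero_of_mem _ _ h1, extendByZero_of_mem _ _ hg]
    exact congrFun (hf a) ⟨g, hg⟩
  · have h1 : a * g * a⁻¹ ∉ N := by
      intro h2
      apply hg
      have := hN.conj_mem _ h2 a⁻¹
      simpa [mul_assoc] using this
    rw [extendByZero_of_not_mem _ _ h1, extendByZero_of_not_mem _ _ hg]

theorem res_extendByZero (f : N → ℂ) : res N (extendByZero N f) = f := by
  funext n
  rw [res_apply, extendByZero_coe]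

theorem extendByZero_isRClass (hM : IsPModular p M) {f : N → ℂ} (hf : ∀ x : G, conjFun N f x = f) (hR : ∀ n, MemLocalRing M (f n)) :
    IsRClass M (extendByZero N f) := by
  refine ⟨extendByZero_isClass hf, fun g => ?_⟩
  by_cases hg : g ∈ N
  · rw [extendByZero_of_mem _ _ hg]
    exact hR _
  · rw [extendByZero_of_not_mem _ _ hg]
    exact MemLocalRing.zero hM

/-- `G`-invariance of constituents. -/
theorem classInner_conjFun (χ : G → ℂ) (hχ : IsClassFunction G χ) (θ : N → ℂ) (g : G) :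
    classInner (fun n : N => χ n) (conjFun N θ g) = classInner (fun n : N => χ n) θ := by
  unfold classInner
  congr 1
  rw [← sum_conj_normal g (fun n => χ n * conj (θ n))]
  refine Finset.sum_congr rfl fun n _ => ?_
  rw [conjFun_apply, hχ]

/-- For `F` an `N`-supported class function, `ω` only depends on the induced central character. -/
theorem omega_res_congr_of_icc [Fintype (ConjClasses G)] {ξ ξ' : N → ℂ} {F : G → ℂ} (hF : IsClassFunction G F) (hs : ∀ g, g ∉ N → F g = 0)
    (h : ∀ n : N, inducedCentralChar N ξ n = inducedCentralChar N ξ' n) : omega ξ (res N F) = omega ξ' (res N F) := by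
  rw [omega_res_eq_sum N ξ hF, omega_res_eq_sum N ξ' hF]
  refine Finset.sum_congr rfl fun c _ => ?_
  by_cases hc : Quotient.out c ∈ N
  · rw [h ⟨_, hc⟩]
  · rw [hs _ hc, zero_mul, zero_mul]

theorem omega_res_ideal_of_icc [Fintype (ConjClasses G)] (hM : IsPModular p M) {ξ ξ' : N → ℂ} {F : G → ℂ} (hF : IsRClass M F) (hs : ∀ g, g ∉ N → F g = 0)
    (h : ∀ n : N, MemLocalIdeal M (inducedCentralChar N ξ n - inducedCentralChar N ξ' n)) : MemLocalIdeal M (omega ξ (res N F) - omega ξ' (res N F)) := by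
  rw [omega_res_eq_sum N ξ hF.1, omega_res_eq_sum N ξ' hF.1, ← Finset.sum_sub_distrib]
  refine MemLocalIdeal.sum hM _ fun c _ => ?_
  by_cases hc : Quotient.out c ∈ N
  · rw [← mul_sub]
    exact MemLocalIdeal.mul_left hM (hF.2 _) (h ⟨_, hc⟩)
  · rw [hs _ hc, zero_mul, zero_mul, sub_zero]
    exact MemLocalIdeal.zero hM

/-- The extension of the orbit idempotent. -/
noncomputable def orbitExt (A : Set (IrrCharacter N)) : G → ℂ := extendByZero N (blockCoeff (orbitSet (G := G) A))

theorem orbitExt_isClass (A : Set (IrrCharacter N)) : IsClassFunction G (orbitExt A) :=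
  extendByZero_isClass (conjFun_blockCoeff_orbitSet A)

theorem orbitExt_isRClass (hM : IsPModular p M) {A : Set (IrrCharacter N)} (hA : BlockClosed M A) : IsRClass M (orbitExt A) :=
  extendByZero_isRClass hM (conjFun_blockCoeff_orbitSet A) (isRClass_blockCoeff_of_closed hM (blockClosed_orbitSet hM hA)).2

theorem orbitExt_support (A : Set (IrrCharacter N)) : ∀ g, g ∉ N → orbitExt A g = 0 := fun _ hg =>
  extendByZero_of_not_mem _ _ hg

theorem omega_res_orbitExt (A : Set (IrrCharacter N)) (ξ : IrrCharacter N) [Decidable (ξ ∈ orbitSet (G := G) A)] :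
    omega (ξ : N → ℂ) (res N (orbitExt A)) = if ξ ∈ orbitSet (G := G) A then 1 else 0 := by
  classical
  unfold orbitExt
  rw [res_extendByZero, omega_blockCoeff]
  congr

/-- Constituents of the restriction of an irreducible character are conjugate. -/
theorem mem_orbitSet_of_constituents {χ : G → ℂ} (hχ : IsIrrCharacter G χ) {θ θ' : IrrCharacter N}
    (h : classInner (fun n : N => χ n) (θ : N → ℂ) ≠ 0) (h' : classInner (fun n : N => χ n) (θ' : N → ℂ) ≠ 0) :
    θ' ∈ orbitSet (G := G) ({θ} : Set (IrrCharacter N)) := by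
  classical
  have h1 := omega_of_constituent (orbitExt_isClass ({θ} : Set (IrrCharacter N))) (orbitExt_support _) hχ θ.2 h
  have h2 := omega_of_constituent (orbitExt_isClass ({θ} : Set (IrrCharacter N))) (orbitExt_support _) hχ θ'.2 h'
  have hθθ : θ ∈ orbitSet (G := G) ({θ} : Set (IrrCharacter N)) := subset_orbitSet _ (Set.mem_singleton θ)
  rw [h1, omega_res_orbitExt, if_pos hθθ, omega_res_orbitExt] at h2
  by_contra hcon
  rw [if_neg hcon] at h2
  exact one_ne_zero h2

/-- Constituency transported along the orbit. -/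
theorem constituent_of_mem_orbit {χ : G → ℂ} (hχ : IsClassFunction G χ) {A : Set (IrrCharacter N)}
    {ξ : IrrCharacter N} (hξ : ξ ∈ orbitSet (G := G) A) (h : classInner (fun n : N => χ n) (ξ : N → ℂ) ≠ 0) :
    ∃ θ ∈ A, classInner (fun n : N => χ n) (θ : N → ℂ) ≠ 0 := by
  obtain ⟨g, θ, hθ, rfl⟩ := hξ
  refine ⟨θ, hθ, ?_⟩
  rwa [conjIrr_coe, classInner_conjFun χ hχ] at h

/-- Central characters on `N` agree exactly for constituents. -/
theorem constituent_iff {χ : G → ℂ} (hχ : IsIrrCharacter G χ) {θ : N → ℂ} (hθ : IsIrrCharacter N θ) :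
    classInner (fun n : N => χ n) θ ≠ 0 ↔ ∀ n : N, centralChar χ (n : G) = inducedCentralChar N θ (n : G) := by
  classical
  letI : Fintype (ConjClasses G) := Fintype.ofFinite _
  have hχc : IsClassFunction G χ := IsCharacter.isClassFunction' (IsIrrCharacter.isCharacter' hχ)
  have hsupp : ∀ (n : N) (g : G), g ∉ N → indC (n : G) g = 0 := by
    intro n g hg
    rw [indC_apply, if_neg]
    intro hc
    obtain ⟨c, hc⟩ := isConj_iff.1 hc
    apply hg
    rw [← hc]
    exact hN.conj_mem n n.2 c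
  constructor
  · intro h n
    rw [inducedCentralChar_eq, ← omega_of_constituent (indC_isClass _) (hsupp n) hχ hθ h, omega_indC χ hχc]
  · intro h
    obtain ⟨φ, hφ, hφn⟩ := Cfsg.Agent.Lib.CharKernel.exists_constituent_restrict N hχ
    have h1 : ∀ n : N, inducedCentralChar N φ n = inducedCentralChar N θ n := by
      intro n
      rw [← h n, inducedCentralChar_eq, ← omega_of_constituent (indC_isClass _) (hsupp n) hχ hφ hφn, omega_indC χ hχc]
    let θ₀ : IrrCharacter N := ⟨θ, hθ⟩
    let φ₀ : IrrCharacter N := ⟨φ, hφ⟩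
    have h2 := omega_res_congr_of_icc (orbitExt_isClass ({θ₀} : Set (IrrCharacter N))) (orbitExt_support _) h1
    have h3 : φ₀ ∈ orbitSet (G := G) ({θ₀} : Set (IrrCharacter N)) := by
      have h4 := omega_res_orbitExt (G := G) ({θ₀} : Set (IrrCharacter N)) φ₀
      have h5 := omega_res_orbitExt (G := G) ({θ₀} : Set (IrrCharacter N)) θ₀
      have hθθ : θ₀ ∈ orbitSet (G := G) ({θ₀} : Set (IrrCharacter N)) := subset_orbitSet _ (Set.mem_singleton θ₀)
      rw [if_pos hθθ] at h5
      by_contra hcon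
      rw [if_neg hcon] at h4
      have h6 : (φ : N → ℂ) = φ₀ := rfl
      have h7 : (θ : N → ℂ) = θ₀ := rfl
      rw [h6, h7, h4, h5] at h2
      exact zero_ne_one h2
    obtain ⟨θ', rfl, h4⟩ := constituent_of_mem_orbit hχc h3 hφn
    exact h4

/-- A class function supported on `N` and a pair over different blocks. -/
theorem mem_orbit_of_sameBlock (hM : IsPModular p M) {A : Set (IrrCharacter N)} (hA : BlockClosed M A) {χ ψ : G → ℂ}
    (hχ : IsIrrCharacter G χ) (hψ : IsIrrCharacter G ψ) (h : SameBlock M χ ψ) {θ θ' : IrrCharacter N} (hθ : θ ∈ A)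
    (hc : classInner (fun n : N => χ n) (θ : N → ℂ) ≠ 0) (hc' : classInner (fun n : N => ψ n) (θ' : N → ℂ) ≠ 0) :
    θ' ∈ orbitSet (G := G) A := by
  classical
  haveI : M.IsPrime := hM.2.1.isPrime
  have hR := orbitExt_isRClass hM hA
  have h1 := omega_of_constituent (orbitExt_isClass A) (orbitExt_support _) hχ θ.2 hc
  have h2 := omega_of_constituent (orbitExt_isClass A) (orbitExt_support _) hψ θ'.2 hc'
  have h3 := sameBlock_omega hM hχ hψ h hR
  rw [h1, h2, omega_res_orbitExt, omega_res_orbitExt, if_pos (subset_orbitSet _ hθ)] at h3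
  by_contra hcon
  rw [if_neg hcon, sub_zero] at h3
  exact not_memLocalIdeal_one hM h3

/-- Passman's criterion: the forward implication at a given constituent. -/
theorem covering_forward (hM : IsPModular p M) {χ₀ χ : G → ℂ} (hχ₀ : IsIrrCharacter G χ₀) (hχ : IsIrrCharacter G χ)
    (hχχ : SameBlock M χ χ₀) {θ₀ θ : N → ℂ} (hθ₀ : IsIrrCharacter N θ₀) (hθ : IsIrrCharacter N θ) (hθθ : SameBlock M θ₀ θ)
    (hc : classInner (fun n : N => χ₀ n) θ₀ ≠ 0) (n : N) :
    MemLocalIdeal M (centralChar χ (n : G) - inducedCentralChar N θ (n : G)) := by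
  have h1 := (constituent_iff hχ₀ hθ₀).1 hc n
  have h2 := hχχ n
  have h3 : MemLocalIdeal M (inducedCentralChar N θ₀ (n : G) - inducedCentralChar N θ (n : G)) := by
    rw [inducedCentralChar_eq, inducedCentralChar_eq]
    exact sameBlock_omega hM hθ₀ hθ hθθ (res_isRClass N (isRClass_indC hM _))
  rw [h1] at h2
  have h4 := MemLocalIdeal.add hM h2 h3
  convert h4 using 1
  ring

/-- Passman's criterion, converse. -/
theorem covering_backward (hM : IsPModular p M) {χ : G → ℂ} (hχ : IsIrrCharacter G χ) {θ : IrrCharacter N} {A : Set (IrrCharacter N)}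
    (hθA : θ ∈ A) (hA : BlockClosed M A)
    (h : ∀ n : N, MemLocalIdeal M (centralChar χ (n : G) - inducedCentralChar N (θ : N → ℂ) (n : G))) :
    ∃ θ' ∈ A, classInner (fun n : N => χ n) (θ' : N → ℂ) ≠ 0 := by
  classical
  letI : Fintype (ConjClasses G) := Fintype.ofFinite _
  haveI : M.IsPrime := hM.2.1.isPrime
  have hχc : IsClassFunction G χ := IsCharacter.isClassFunction' (IsIrrCharacter.isCharacter' hχ)
  obtain ⟨φ, hφ, hφn⟩ := Cfsg.Agent.Lib.CharKernel.exists_constituent_restrict N hχ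
  have h1 : ∀ n : N, MemLocalIdeal M (inducedCentralChar N φ n - inducedCentralChar N (θ : N → ℂ) n) := by
    intro n
    rw [← (constituent_iff hχ hφ).1 hφn n]
    exact h n
  let φ₀ : IrrCharacter N := ⟨φ, hφ⟩
  have h2 := omega_res_ideal_of_icc hM (orbitExt_isRClass hM hA) (orbitExt_support _) h1
  have h3 : φ₀ ∈ orbitSet (G := G) A := by
    have h4 := omega_res_orbitExt (G := G) A φ₀
    have h5 := omega_res_orbitExt (G := G) A θ
    rw [if_pos (subset_orbitSet _ hθA)] at h5
    by_contra hcon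
    rw [if_neg hcon] at h4
    have h6 : (φ : N → ℂ) = φ₀ := rfl
    rw [h6, h4, h5, zero_sub] at h2
    exact not_memLocalIdeal_one hM (by simpa using MemLocalIdeal.neg h2)
  exact constituent_of_mem_orbit hχc h3 hφn

/-- Blocks of a normal `p'`-subgroup are singletons. -/
theorem blockClosed_singleton_of_coprime (hM : IsPModular p M) (hp : ¬ p ∣ Nat.card N) (θ : IrrCharacter N) :
    BlockClosed M ({θ} : Set (IrrCharacter N)) := by
  intro ξ hξ
  have hξθ : ξ = θ := hξ
  rw [hξθ]
  have h1 : ¬ p ∣ Nat.card N / charDegree (θ : N → ℂ) := fun h => hp (h.trans (Nat.div_dvd_of_dvd (charDegree_dvd_card θ.2)))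
  rw [(defect_zero_iff hM θ).1 h1]

/-- The same constituents on a normal `p'`-subgroup. -/
theorem constituent_of_sameBlock (hM : IsPModular p M) (hp : ¬ p ∣ Nat.card N) {χ ψ : G → ℂ}
    (hχ : IsIrrCharacter G χ) (hψ : IsIrrCharacter G ψ) (h : SameBlock M χ ψ) {θ : IrrCharacter N}
    (hc : classInner (fun n : N => χ n) (θ : N → ℂ) ≠ 0) : classInner (fun n : N => ψ n) (θ : N → ℂ) ≠ 0 := by
  have hψc : IsClassFunction G ψ := IsCharacter.isClassFunction' (IsIrrCharacter.isCharacter' hψ)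
  obtain ⟨φ, hφ, hφn⟩ := Cfsg.Agent.Lib.CharKernel.exists_constituent_restrict N hψ
  have h1 := mem_orbit_of_sameBlock hM (blockClosed_singleton_of_coprime hM hp θ) hχ hψ h (θ := θ) (θ' := ⟨φ, hφ⟩) rfl hc hφn
  obtain ⟨θ', rfl, h2⟩ := constituent_of_mem_orbit hψc h1 hφn
  exact h2

/-- `p`-regular elements lie in a normal subgroup of `p`-power index. -/
theorem mem_of_regular_of_index (hp : p.Prime) (hidx : ∃ k : ℕ, N.index = p ^ k) {x : G} (hx : ¬ p ∣ orderOf x) : x ∈ N := by
  obtain ⟨k, hk⟩ := hidx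
  have h1 : (N.index).Coprime (orderOf x) := by
    rw [hk]
    exact Nat.Coprime.pow_left _ ((Nat.Prime.coprime_iff_not_dvd hp).2 hx)
  obtain ⟨m, hm⟩ := exists_pow_eq_self_of_coprime h1
  rw [← hm]
  exact N.pow_mem (Subgroup.pow_index_mem N x) m

/-- When `G/N` is a `p`-group, two characters lying over the same block of `N` lie in the same block. -/
theorem sameBlock_of_cover (hM : IsPModular p M) (hidx : ∃ k : ℕ, N.index = p ^ k) {χ ψ : IrrCharacter G} {θ θ' : N → ℂ}
    (hθ : IsIrrCharacter N θ) (hθ' : IsIrrCharacter N θ') (hs : SameBlock M θ θ')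
    (hc : classInner (fun n : N => (χ : G → ℂ) n) θ ≠ 0) (hc' : classInner (fun n : N => (ψ : G → ℂ) n) θ' ≠ 0) :
    SameBlock M (χ : G → ℂ) (ψ : G → ℂ) := by
  refine sameBlock_of_regular hM fun x hx => ?_
  have hxN := mem_of_regular_of_index hM.1 hidx hx
  have h1 := (constituent_iff ψ.2 hθ').1 hc' ⟨x, hxN⟩
  have h2 := (constituent_iff χ.2 hθ).1 hc ⟨x, hxN⟩
  simp only at h1 h2
  rw [h1, h2, inducedCentralChar_eq, inducedCentralChar_eq]
  apply SameBlock.symm hs |> fun hs' => sameBlock_omega hM hθ' hθ hs' (res_isRClass N (isRClass_indC hM _))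

/-- Every irreducible character of `N` lies under an irreducible character of `G`. -/
theorem exists_cover (θ : IrrCharacter N) :
    ∃ χ : IrrCharacter G, classInner (fun a : N => (χ : G → ℂ) a) (θ : N → ℂ) ≠ 0 := by
  have h0 : indFun N (θ : N → ℂ) 1 ≠ 0 := by
    rw [indFun_one]
    apply mul_ne_zero
    · exact_mod_cast Subgroup.index_ne_zero_of_finite
    · exact degree_ne_zero θ.2
  obtain ⟨χ, hχ, hin⟩ := Cfsg.Agent.Lib.CharAb.exists_constituent (isCharacter_indFun N (IsIrrCharacter.isCharacter' θ.2)) h0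
  refine ⟨⟨χ, hχ⟩, ?_⟩
  rw [frobenius_reciprocity N _ (IsCharacter.isClassFunction' (IsIrrCharacter.isCharacter' hχ))] at hin
  intro h2
  apply hin
  rw [← classInner_conj, h2, map_zero]

end Cfsg.Agent.Lib.CharBlockNormal
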