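import Mathlib
import Cfsg.Prelude.Def_Blocks
import Cfsg.Agent.Lib.CharBlockNormal
import Cfsg.Agent.Lib.BlockNil
import Cfsg.Agent.Lib.PNilpB
import Cfsg.Agent.Lib.PNilp
import Cfsg.Agent.Lib.SolvCore
import Cfsg.Agent.Lib.FitCore

/-!
# The number of blocks of maximal defect
-/

set_option autoImplicit false
set_option linter.style.haveILetI false
set_option linter.unusedSectionVars false

namespace Cfsg.Agent.Lib.CharBlockSylow

open scoped ComplexConjugate
open Cfsg Cfsg.Agent.Lib.CharBlockLocal Cfsg.Agent.Lib.CharBlockConv Cfsg.Agent.Lib.CharBlockRot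
  Cfsg.Agent.Lib.CharBlockOrth Cfsg.Agent.Lib.CharOps Cfsg.Agent.Lib.CharIrr
  Cfsg.Agent.Lib.CharBlockDefect Cfsg.Agent.Lib.CharBlockMinMax Cfsg.Agent.Lib.CharBlockBrauer
  Cfsg.Agent.Lib.CharBlockInd Cfsg.Agent.Lib.CharBlockFirst Cfsg.Agent.Lib.CharBlockPSolv
  Cfsg.Agent.Lib.CharBlockKer Cfsg.Agent.Lib.CharNormal Cfsg.Agent.Lib.CharBlockNormal

universe u v w

/-- Inverse matrices are square. -/
theorem card_eq_of_inverse_matrices {ι : Type v} {κ : Type w} [Fintype ι] [Fintype κ] [DecidableEq ι] [DecidableEq κ]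
    (a : ι → κ → ℂ) (b : κ → ι → ℂ) (h1 : ∀ i j, ∑ k, a i k * b k j = if i = j then 1 else 0)
    (h2 : ∀ k l, ∑ i, b k i * a i l = if k = l then 1 else 0) : Fintype.card ι = Fintype.card κ := by
  let A : Matrix ι κ ℂ := fun i k => a i k
  let B : Matrix κ ι ℂ := fun k i => b k i
  have hAB : A * B = 1 := by
    ext i j
    rw [Matrix.mul_apply, Matrix.one_apply]
    exact h1 i j
  have hBA : B * A = 1 := by
    ext i j
    rw [Matrix.mul_apply, Matrix.one_apply]
    exact h2 i j
  apply le_antisymm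
  · have := Matrix.rank_mul_le_left A B
    rw [hAB, Matrix.rank_one] at this
    exact this.trans (Matrix.rank_le_card_width A)
  · have := Matrix.rank_mul_le_left B A
    rw [hBA, Matrix.rank_one] at this
    exact this.trans (Matrix.rank_le_card_width B)

section A

variable {G : Type u} [Group G] [Fintype G] (V : Subgroup G) [Fintype V] [hV : V.Normal]

/-- The orbits of `G` on the irreducible characters of a normal subgroup. -/
def orbitsOf : Set (Set (IrrCharacter V)) := {A | ∃ θ : IrrCharacter V, A = orbitSet (G := G) {θ}}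

/-- The conjugacy classes of `G` contained in `V`. -/
def classesIn : Set (ConjClasses G) := {C | ∀ n : G, ConjClasses.mk n = C → n ∈ V}

variable {V}

theorem out_mem_of_mem_classesIn {C : ConjClasses G} (hC : C ∈ classesIn V) : Quotient.out C ∈ V := hC _ (Quotient.out_eq C)

theorem mem_classesIn_of_out_mem {C : ConjClasses G} (h : Quotient.out C ∈ V) : C ∈ classesIn V := by
  intro n hn
  have h1 : ConjClasses.mk n = ConjClasses.mk (Quotient.out C) := hn.trans (Quotient.out_eq C).symm
  rw [ConjClasses.mk_eq_mk_iff_isConj] at h1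
  obtain ⟨c, hc⟩ := isConj_iff.1 h1.symm
  rw [← hc]
  exact hV.conj_mem _ h c

theorem orbitSet_eq_of_mem {ξ θ : IrrCharacter V} (h : ξ ∈ orbitSet (G := G) ({θ} : Set (IrrCharacter V))) :
    orbitSet (G := G) ({ξ} : Set (IrrCharacter V)) = orbitSet (G := G) ({θ} : Set (IrrCharacter V)) := by
  have hξξ : ξ ∈ orbitSet (G := G) ({ξ} : Set (IrrCharacter V)) := subset_orbitSet _ (Set.mem_singleton ξ)
  ext η
  constructor
  · rintro ⟨g, ξ', hξ', rfl⟩
    have : ξ' = ξ := hξ'
    rw [this]
    exact (conjIrr_mem_orbitSet g).2 h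
  · rintro ⟨g, θ', hθ', rfl⟩
    have : θ' = θ := hθ'
    rw [this]
    obtain ⟨h', θ'', hθ'', hh⟩ := h
    have : θ'' = θ := hθ''
    rw [this] at hh
    have h2 : θ = conjIrr h'⁻¹ ξ := by rw [hh, conjIrr_inv_conjIrr]
    rw [h2, conjIrr_mem_orbitSet, conjIrr_mem_orbitSet]
    exact hξξ

/-- `G`-invariance of a restricted class indicator. -/
theorem conjFun_res_indC (c x : G) : conjFun V (res V (indC c)) x = res V (indC c) := by
  funext n
  rw [conjFun_apply, res_apply, res_apply]
  exact indC_isClass c _ _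

theorem omega_res_indC_conj (ξ : IrrCharacter V) (c x : G) :
    omega (conjIrr x ξ : V → ℂ) (res V (indC c)) = omega (ξ : V → ℂ) (res V (indC c)) := by
  rw [conjIrr_coe, omega_conjFun, conjFun_res_indC]

/-- The number of orbits on irreducible characters equals the number of classes in `V`. -/
theorem card_orbitsOf_eq : Nat.card (orbitsOf (G := G) V) = Nat.card (classesIn V) := by
  classical
  letI : Fintype (ConjClasses G) := Fintype.ofFinite _
  letI : Fintype (Set (IrrCharacter V)) := Fintype.ofFinite _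
  have hch : ∀ A : orbitsOf (G := G) V, ∃ θ : IrrCharacter V, (A : Set (IrrCharacter V)) = orbitSet (G := G) {θ} := fun A => A.2
  choose θ hθ using hch
  have hθmem : ∀ A : orbitsOf (G := G) V, θ A ∈ (A : Set (IrrCharacter V)) := by
    intro A
    rw [hθ A]
    exact subset_orbitSet _ (Set.mem_singleton _)
  rw [Nat.card_eq_fintype_card, Nat.card_eq_fintype_card]
  refine card_eq_of_inverse_matrices (fun (A : orbitsOf (G := G) V) (C : classesIn V) => orbitExt (G := G) {θ A} (Quotient.out (C : ConjClasses G)))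
    (fun (C : classesIn V) (A : orbitsOf (G := G) V) => inducedCentralChar V (θ A : V → ℂ) (Quotient.out (C : ConjClasses G))) ?_ ?_
  · intro A A'
    have h1 := omega_res_orbitExt (G := G) ({θ A} : Set (IrrCharacter V)) (θ A')
    rw [omega_res_eq_sum V _ (orbitExt_isClass _)] at h1
    have h2 : (if θ A' ∈ orbitSet (G := G) ({θ A} : Set (IrrCharacter V)) then (1 : ℂ) else 0) = if A = A' then 1 else 0 := by
      by_cases hAA : A = A'
      · rw [if_pos hAA, if_pos]
        rw [← hθ A, hAA]
        exact hθmem A'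
      · rw [if_neg hAA, if_neg]
        intro h3
        apply hAA
        apply Subtype.ext
        rw [hθ A, hθ A', orbitSet_eq_of_mem h3]
    rw [h2] at h1
    rw [← h1, ← Finset.sum_filter_add_sum_filter_not Finset.univ (· ∈ classesIn V) (fun c : ConjClasses G => orbitExt (G := G) {θ A} (Quotient.out c) * inducedCentralChar V (θ A' : V → ℂ) (Quotient.out c))]
    rw [Finset.sum_eq_zero (s := Finset.univ.filter (fun c => c ∉ classesIn V)), add_zero]
    · symm
      apply Finset.sum_subtype
      simp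
    · intro c hc
      have hc' : c ∉ classesIn V := (Finset.mem_filter.1 hc).2
      have hc2 : Quotient.out c ∉ V := fun h => hc' (mem_classesIn_of_out_mem h)
      rw [orbitExt_support _ _ hc2, zero_mul]
  · intro C C'
    have hC := out_mem_of_mem_classesIn C.2
    have hC' := out_mem_of_mem_classesIn C'.2
    set f : V → ℂ := res V (indC (Quotient.out (C : ConjClasses G))) with hf
    have hfc : IsClassFunction V f := res_isClass V (indC_isClass _)
    let g : V → ℂ := ∑ A : orbitsOf (G := G) V, inducedCentralChar V (θ A : V → ℂ) (Quotient.out (C : ConjClasses G)) • blockCoeff (A : Set (IrrCharacter V))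
    have hgc : IsClassFunction V g := by
      intro a b
      simp only [g, Finset.sum_apply, Pi.smul_apply, smul_eq_mul]
      refine Finset.sum_congr rfl fun A _ => ?_
      rw [blockCoeff_isClass _ a b]
    have hfg : f = g := by
      refine eq_of_omega_eq hfc hgc fun ξ => ?_
      have hg1 : omega (ξ : V → ℂ) g = ∑ A : orbitsOf (G := G) V, inducedCentralChar V (θ A : V → ℂ) (Quotient.out (C : ConjClasses G)) * (if ξ ∈ (A : Set (IrrCharacter V)) then 1 else 0) := by
        simp only [g]
        rw [omega_sum]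
        refine Finset.sum_congr rfl fun A _ => ?_
        rw [omega_smul, omega_blockCoeff]
      rw [hg1]
      let A₀ : orbitsOf (G := G) V := ⟨orbitSet (G := G) {ξ}, ξ, rfl⟩
      have hξA₀ : ξ ∈ (A₀ : Set (IrrCharacter V)) := subset_orbitSet _ (Set.mem_singleton _)
      rw [Finset.sum_eq_single A₀]
      · rw [if_pos hξA₀, mul_one]
        have hθA₀ := hθmem A₀
        obtain ⟨x, ξ', hξ', hx⟩ := hθA₀
        have : ξ' = ξ := hξ'
        rw [this] at hx
        rw [hx, inducedCentralChar_eq, omega_res_indC_conj, hf, ← inducedCentralChar_eq, inducedCentralChar_eq]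
      · intro A _ hA
        rw [if_neg, mul_zero]
        intro h3
        apply hA
        apply Subtype.ext
        have h4 : ξ ∈ orbitSet (G := G) ({θ A} : Set (IrrCharacter V)) := by
          rw [← hθ A]
          exact h3
        show (A : Set (IrrCharacter V)) = orbitSet (G := G) {ξ}
        rw [hθ A, orbitSet_eq_of_mem h4]
      · simp
    have h1 := congrFun hfg ⟨_, hC'⟩
    simp only [g, Finset.sum_apply, Pi.smul_apply, smul_eq_mul] at h1
    have h2 : ∀ A : orbitsOf (G := G) V, orbitExt (G := G) {θ A} (Quotient.out (C' : ConjClasses G)) = blockCoeff (A : Set (IrrCharacter V)) ⟨_, hC'⟩ := by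
      intro A
      unfold orbitExt
      rw [extendByZero_of_mem _ _ hC', ← hθ A]
    simp only [h2]
    rw [← h1, hf, res_apply, indC_apply]
    by_cases hCC : C = C'
    · rw [if_pos hCC, if_pos]
      rw [hCC]
    · rw [if_neg hCC, if_neg]
      intro h3
      apply hCC
      apply Subtype.ext
      rw [← Quotient.out_eq (C : ConjClasses G), ← Quotient.out_eq (C' : ConjClasses G)]
      exact ConjClasses.mk_eq_mk_iff_isConj.2 h3

end A

section B

variable {G : Type u} [Group G] [Fintype G] {V : Subgroup G} [Fintype V] [hV : V.Normal] {p : ℕ} {M : Ideal AlgInt}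

/-- Two characters over a common constituent on `V`, the regular centralizer of a normal `p`-subgroup. -/
theorem sameBlock_of_common (hM : IsPModular p M) {P : Subgroup G} [P.Normal] (hP : IsPGroup p P)
    (hreg : ∀ x : G, ¬ p ∣ orderOf x → (∀ u ∈ P, u * x = x * u) → x ∈ V) {χ ψ : IrrCharacter G} {θ : V → ℂ}
    (hθ : IsIrrCharacter V θ) (hc : classInner (fun n : V => (χ : G → ℂ) n) θ ≠ 0)
    (hc' : classInner (fun n : V => (ψ : G → ℂ) n) θ ≠ 0) : SameBlock M (χ : G → ℂ) (ψ : G → ℂ) := by
  classical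
  haveI : M.IsPrime := hM.2.1.isPrime
  refine sameBlock_of_regular hM fun x hx => ?_
  by_cases hcen : ∀ u ∈ P, u * x = x * u
  · have hxV := hreg x hx hcen
    have h1 := (constituent_iff ψ.2 hθ).1 hc' ⟨x, hxV⟩
    have h2 := (constituent_iff χ.2 hθ).1 hc ⟨x, hxV⟩
    simp only at h1 h2
    rw [h1, h2, sub_self]
    exact MemLocalIdeal.zero hM
  · push Not at hcen
    exact MemLocalIdeal.sub hM (Cfsg.Agent.Lib.BlockNil.central_mem_of_not_centralizes hM P hP hcen ψ.2)
      (Cfsg.Agent.Lib.BlockNil.central_mem_of_not_centralizes hM P hP hcen χ.2)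

/-- The characters lying over a set of characters of `V`. -/
def blockOver (A : Set (IrrCharacter V)) : Set (IrrCharacter G) :=
  {χ | ∃ θ ∈ A, classInner (fun n : V => (χ : G → ℂ) n) (θ : V → ℂ) ≠ 0}

theorem blockOver_eq (hM : IsPModular p M) (hp : ¬ p ∣ Nat.card V) {P : Subgroup G} [P.Normal] (hP : IsPGroup p P)
    (hreg : ∀ x : G, ¬ p ∣ orderOf x → (∀ u ∈ P, u * x = x * u) → x ∈ V) {θ : IrrCharacter V} {χ₀ : IrrCharacter G}
    (hc : classInner (fun n : V => (χ₀ : G → ℂ) n) (θ : V → ℂ) ≠ 0) :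
    blockOver (orbitSet (G := G) {θ}) = blockOf M (χ₀ : G → ℂ) := by
  ext χ
  constructor
  · rintro ⟨θ', hθ', hc'⟩
    obtain ⟨θ'', hθ'', hc''⟩ := constituent_of_mem_orbit (IsCharacter.isClassFunction' (IsIrrCharacter.isCharacter' χ.2)) hθ' hc'
    have : θ'' = θ := hθ''
    rw [this] at hc''
    exact sameBlock_of_common hM hP hreg θ.2 hc hc''
  · intro h
    exact ⟨θ, subset_orbitSet _ (Set.mem_singleton _), constituent_of_sameBlock hM hp χ₀.2 χ.2 h hc⟩

/-- Blocks correspond to orbits on the irreducible characters of `V`. -/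
theorem card_blocks_eq_orbits (hM : IsPModular p M) (hp : ¬ p ∣ Nat.card V) {P : Subgroup G} [P.Normal] (hP : IsPGroup p P)
    (hreg : ∀ x : G, ¬ p ∣ orderOf x → (∀ u ∈ P, u * x = x * u) → x ∈ V) :
    Nat.card {b : Set (IrrCharacter G) // IsPBlock M b} = Nat.card (orbitsOf (G := G) V) := by
  classical
  have hwd : ∀ A : orbitsOf (G := G) V, IsPBlock M (blockOver (A : Set (IrrCharacter V))) := by
    rintro ⟨_, θ, rfl⟩
    obtain ⟨χ₀, hχ₀⟩ := exists_cover (G := G) θ
    exact ⟨χ₀, blockOver_eq hM hp hP hreg hχ₀⟩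
  let f : orbitsOf (G := G) V → {b : Set (IrrCharacter G) // IsPBlock M b} := fun A => ⟨blockOver (A : Set (IrrCharacter V)), hwd A⟩
  have hf : Function.Bijective f := by
    constructor
    · rintro ⟨_, θ, rfl⟩ ⟨_, θ', rfl⟩ h
      have h1 : blockOver (orbitSet (G := G) {θ}) = blockOver (orbitSet (G := G) {θ'}) := congrArg Subtype.val h
      obtain ⟨χ, hχ⟩ := exists_cover (G := G) θ
      have h2 : χ ∈ blockOver (orbitSet (G := G) {θ'}) := by
        rw [← h1]
        exact ⟨θ, subset_orbitSet _ (Set.mem_singleton _), hχ⟩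
      obtain ⟨θ₁, hθ₁, hc₁⟩ := h2
      obtain ⟨θ₂, hθ₂, hc₂⟩ := constituent_of_mem_orbit (IsCharacter.isClassFunction' (IsIrrCharacter.isCharacter' χ.2)) hθ₁ hc₁
      have : θ₂ = θ' := hθ₂
      rw [this] at hc₂
      have h3 := mem_orbitSet_of_constituents (G := G) χ.2 hχ hc₂
      apply Subtype.ext
      exact (orbitSet_eq_of_mem h3).symm
    · rintro ⟨_, χ, rfl⟩
      obtain ⟨φ, hφ, hc⟩ := Cfsg.Agent.Lib.CharKernel.exists_constituent_restrict V χ.2
      refine ⟨⟨_, ⟨φ, hφ⟩, rfl⟩, ?_⟩
      apply Subtype.ext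
      exact blockOver_eq hM hp hP hreg hc
  exact (Nat.card_congr (Equiv.ofBijective f hf)).symm

end B

section C

variable {G : Type u} [Group G] [Finite G] {p : ℕ} [hp : Fact p.Prime]

/-- A `p`-regular element centralizing a normal Sylow subgroup lies in the largest normal `p'`-subgroup. -/
theorem mem_pPrimeCore_of_centralizes (P : Sylow p G) [hPn : (P : Subgroup G).Normal] {x : G} (hx : ¬ p ∣ orderOf x)
    (hc : ∀ u ∈ (P : Subgroup G), u * x = x * u) : x ∈ Cfsg.pPrimeCore p G := by
  classical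
  let Q : Subgroup G := P
  let C : Subgroup G := Subgroup.centralizer (Q : Set G)
  haveI hCn : C.Normal := Subgroup.normal_centralizer
  let D : Subgroup C := Q.subgroupOf C
  have hDp : IsPGroup p D := by
    intro d
    obtain ⟨k, hk⟩ := P.isPGroup' ⟨((d : C) : G), d.2⟩
    refine ⟨k, ?_⟩
    apply Subtype.ext
    apply Subtype.ext
    have := congrArg Subtype.val hk
    simpa using this
  have hDi : ¬ p ∣ D.index := by
    intro h
    have h1 : D.index ∣ Q.index := Subgroup.relIndex_dvd_index_of_normal Q C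
    exact P.not_dvd_index (h.trans h1)
  have hDc : ∀ d ∈ D, ∀ g : C, g * d = d * g := by
    intro d hd g
    apply Subtype.ext
    exact (Subgroup.mem_centralizer_iff.1 g.2 d hd).symm
  have hnpc : Cfsg.HasNormalPComplement p C := Cfsg.Agent.Lib.PNilpB.npc_of_central_sylow hDp hDi hDc
  obtain ⟨K, hKn, hKp, hK⟩ := Cfsg.Agent.Lib.PNilp.npc_iff.1 hnpc
  have hmemK : ∀ y : C, ¬ p ∣ orderOf (y : G) → y ∈ K := by
    intro y hy
    obtain ⟨k, hk⟩ := hK y
    have h1 : (p ^ k).Coprime (orderOf y) := by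
      rw [Subgroup.orderOf_coe] at hy
      exact Nat.Coprime.pow_left _ ((Nat.Prime.coprime_iff_not_dvd hp.out).2 hy)
    obtain ⟨m, hm⟩ := exists_pow_eq_self_of_coprime h1
    rw [← hm]
    exact K.pow_mem hk m
  let K' : Subgroup G := K.map C.subtype
  have hKreg : ∀ y ∈ K, ¬ p ∣ orderOf (y : G) := by
    intro y hy h
    apply hKp
    have h1 : orderOf (⟨y, hy⟩ : K) ∣ Nat.card K := orderOf_dvd_natCard _
    have h2 : orderOf (⟨y, hy⟩ : K) = orderOf (y : G) := by
      rw [Subgroup.orderOf_mk, Subgroup.orderOf_coe]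
    rw [h2] at h1
    exact h.trans h1
  have hK'n : K'.Normal := by
    constructor
    rintro _ ⟨y, hy, rfl⟩ g
    have h1 : g * (y : G) * g⁻¹ ∈ C := hCn.conj_mem y y.2 g
    refine ⟨⟨_, h1⟩, hmemK ⟨_, h1⟩ ?_, rfl⟩
    have h2 := orderOf_conj' g (y : G)
    show ¬ p ∣ orderOf (g * (y : G) * g⁻¹)
    rw [h2]
    exact hKreg y hy
  have hK'p : ¬ p ∣ Nat.card K' := by
    have : Nat.card K' = Nat.card K := (Nat.card_congr (Subgroup.equivMapOfInjective K _ Subtype.val_injective).toEquiv).symm
    rwa [this]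
  have hle := Cfsg.Agent.Lib.SolvCore.le_pPrimeCore K' hK'n hK'p
  apply hle
  have hxC : x ∈ C := Subgroup.mem_centralizer_iff.2 fun u hu => hc u hu
  exact ⟨⟨x, hxC⟩, hmemK ⟨x, hxC⟩ hx, rfl⟩

/-- Conversely elements of the largest normal `p'`-subgroup are regular and centralize the normal `p`-subgroups. -/
theorem regular_of_mem_pPrimeCore {x : G} (hx : x ∈ Cfsg.pPrimeCore p G) : ¬ p ∣ orderOf x := by
  intro h
  apply Cfsg.Agent.Lib.FitCore.not_dvd_card_pPrimeCore (G := G) p hp.out
  have h1 : orderOf (⟨x, hx⟩ : Cfsg.pPrimeCore p G) ∣ Nat.card (Cfsg.pPrimeCore p G) := orderOf_dvd_natCard _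
  rw [Subgroup.orderOf_mk] at h1
  exact h.trans h1

theorem centralizes_of_mem_pPrimeCore (P : Subgroup G) [hPn : P.Normal] (hP : IsPGroup p P) {x : G} (hx : x ∈ Cfsg.pPrimeCore p G) {u : G} (hu : u ∈ P) :
    u * x = x * u := by
  haveI := Cfsg.Agent.Lib.FitCore.pPrimeCore_normal (G := G) p
  have h1 : u * x * u⁻¹ * x⁻¹ ∈ P := by
    have := hPn.conj_mem u⁻¹ (P.inv_mem hu) x
    have h2 : u * (x * u⁻¹ * x⁻¹) ∈ P := P.mul_mem hu this
    simpa [mul_assoc] using h2
  have h2 : u * x * u⁻¹ * x⁻¹ ∈ Cfsg.pPrimeCore p G := by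
    have := (inferInstance : (Cfsg.pPrimeCore p G).Normal).conj_mem x hx u
    exact Subgroup.mul_mem _ this (Subgroup.inv_mem _ hx)
  have h3 := regular_of_mem_pPrimeCore (p := p) h2
  obtain ⟨k, hk⟩ := hP ⟨_, h1⟩
  have h4 : (u * x * u⁻¹ * x⁻¹) ^ p ^ k = 1 := by
    have := congrArg Subtype.val hk
    simpa using this
  have h5 : orderOf (u * x * u⁻¹ * x⁻¹) ∣ p ^ k := orderOf_dvd_of_pow_eq_one h4
  obtain ⟨j, -, hj⟩ := (Nat.dvd_prime_pow hp.out).1 h5
  have h6 : orderOf (u * x * u⁻¹ * x⁻¹) = 1 := by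
    rcases Nat.eq_zero_or_pos j with rfl | hjpos
    · simpa using hj
    · exact absurd (hj ▸ dvd_pow_self p hjpos.ne') h3
  have h7 := orderOf_eq_one_iff.1 h6
  have h8 : u * x * u⁻¹ = x := by
    have := mul_inv_eq_one.1 h7
    exact this
  have h9 := mul_inv_eq_iff_eq_mul.1 h8
  exact h9

end C

section D

variable {G : Type u} [Group G] [Fintype G] {p : ℕ} {M : Ideal AlgInt}

/-- A block of a subgroup induces at most one block. -/
theorem induced_block_unique (hM : IsPModular p M) {H : Subgroup G} [Fintype H] {b : Set (IrrCharacter H)} {B B' : Set (IrrCharacter G)}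
    (h : IsInducedBlock M H b B) (h' : IsInducedBlock M H b B') : B = B' := by
  obtain ⟨hb, hB, hi⟩ := h
  obtain ⟨-, hB', hi'⟩ := h'
  obtain ⟨ξ, hξ⟩ := block_nonempty hM hb
  obtain ⟨χ, hχ⟩ := block_nonempty hM hB
  obtain ⟨χ', hχ'⟩ := block_nonempty hM hB'
  rw [blockOf_eq_of_mem hM hB hχ, blockOf_eq_of_mem hM hB' hχ']
  apply (blockOf_eq_iff hM).2
  intro g
  have h1 := MemLocalIdeal.sub hM (hi' ξ hξ χ' hχ' g) (hi ξ hξ χ hχ g)
  convert h1 using 1
  ring

/-- First Main Theorem as a numerical statement. -/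
theorem card_blocks_firstMain (hM : IsPModular p M) (D : Subgroup G) (hD : IsPGroup p D) [Fintype (Subgroup.normalizer (D : Set G))] :
    Nat.card {B : Set (IrrCharacter G) // IsPBlock M B ∧ IsDefectGroup p M B D} =
      Nat.card {b : Set (IrrCharacter (Subgroup.normalizer (D : Set G))) // IsPBlock M b ∧
        IsDefectGroup p M b (D.subgroupOf (Subgroup.normalizer (D : Set G)))} := by
  classical
  have hex : ∀ b : {b : Set (IrrCharacter (Subgroup.normalizer (D : Set G))) // IsPBlock M b ∧
      IsDefectGroup p M b (D.subgroupOf (Subgroup.normalizer (D : Set G)))},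
      ∃ B : Set (IrrCharacter G), IsPBlock M B ∧ IsDefectGroup p M B D ∧ IsInducedBlock M (Subgroup.normalizer (D : Set G)) b B :=
    fun b => firstMain_induced hM D hD b.2.1 b.2.2
  choose f hf1 hf2 hf3 using hex
  let F : {b : Set (IrrCharacter (Subgroup.normalizer (D : Set G))) // IsPBlock M b ∧
      IsDefectGroup p M b (D.subgroupOf (Subgroup.normalizer (D : Set G)))} → {B : Set (IrrCharacter G) // IsPBlock M B ∧ IsDefectGroup p M B D} :=
    fun b => ⟨f b, hf1 b, hf2 b⟩
  have hF : Function.Bijective F := by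
    constructor
    · intro b b' h
      have h1 : f b = f b' := congrArg Subtype.val h
      apply Subtype.ext
      have h2 := hf3 b'
      rw [← h1] at h2
      exact firstMain_unique hM D hD (hf1 b) b.2.2 (hf3 b) h2
    · rintro ⟨B, hB, hBD⟩
      obtain ⟨b, hb, hbD, hi⟩ := firstMain_exists hM D hD hB hBD
      refine ⟨⟨b, hb, hbD⟩, ?_⟩
      apply Subtype.ext
      exact induced_block_unique hM (hf3 ⟨b, hb, hbD⟩) hi
  exact (Nat.card_congr (Equiv.ofBijective F hF)).symm

/-- Every block has the normal Sylow subgroup as a defect group. -/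
theorem isDefectGroup_of_normal_sylow (hM : IsPModular p M) (P : Sylow p G) [(P : Subgroup G).Normal] {b : Set (IrrCharacter G)} (hb : IsPBlock M b) :
    IsDefectGroup p M b (P : Subgroup G) := by
  classical
  haveI : Fact p.Prime := ⟨hM.1⟩
  obtain ⟨g, hg⟩ := exists_defect_class hM hb
  obtain ⟨T⟩ : Nonempty (Sylow p (Subgroup.centralizer ({g} : Set G))) := inferInstance
  have hE : IsDefectGroup p M b ((T : Subgroup (Subgroup.centralizer ({g} : Set G))).map (Subgroup.centralizer ({g} : Set G)).subtype) := ⟨g, hg, T, rfl⟩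
  have hle := normal_le_defect hM hb hE P.isPGroup'
  have heq := P.is_maximal' (isPGroup_sylow_map T) hle
  rw [← heq]
  exact hE

/-- The number of blocks of maximal defect with a given defect group. -/
theorem card_blocks_sylow (hM : IsPModular p M) (P : Sylow p G) :
    Nat.card {B : Set (IrrCharacter G) // IsPBlock M B ∧ IsDefectGroup p M B (P : Subgroup G)} =
      Nat.card {C : ConjClasses (Subgroup.normalizer ((P : Subgroup G) : Set G)) // ∀ n : Subgroup.normalizer ((P : Subgroup G) : Set G),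
        ConjClasses.mk n = C → ¬ p ∣ orderOf n ∧ (n : G) ∈ Subgroup.centralizer ((P : Subgroup G) : Set G)} := by
  classical
  haveI hpf : Fact p.Prime := ⟨hM.1⟩
  letI : Fintype (Subgroup.normalizer ((P : Subgroup G) : Set G)) := Fintype.ofFinite _
  let N := Subgroup.normalizer ((P : Subgroup G) : Set G)
  have hle : (P : Subgroup G) ≤ N := Subgroup.le_normalizer
  let P' : Sylow p N := P.subtype hle
  have hP' : (P' : Subgroup N) = (P : Subgroup G).subgroupOf N := Sylow.coe_subtype _ _
  haveI hPn : (P' : Subgroup N).Normal := by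
    rw [hP']
    exact Subgroup.normal_in_normalizer
  letI : Fintype (Cfsg.pPrimeCore p N) := Fintype.ofFinite _
  haveI hVn : (Cfsg.pPrimeCore p N).Normal := Cfsg.Agent.Lib.FitCore.pPrimeCore_normal (G := N) p
  have hVp := Cfsg.Agent.Lib.FitCore.not_dvd_card_pPrimeCore (G := N) p hM.1
  have hreg : ∀ x : N, ¬ p ∣ orderOf x → (∀ u ∈ (P' : Subgroup N), u * x = x * u) → x ∈ Cfsg.pPrimeCore p N :=
    fun x hx hc => mem_pPrimeCore_of_centralizes P' hx hc
  rw [card_blocks_firstMain hM (P : Subgroup G) P.isPGroup']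
  have h1 : Nat.card {b : Set (IrrCharacter N) // IsPBlock M b ∧ IsDefectGroup p M b ((P : Subgroup G).subgroupOf N)} =
      Nat.card {b : Set (IrrCharacter N) // IsPBlock M b} := by
    refine Nat.card_congr (Equiv.subtypeEquivRight fun b => ⟨fun h => h.1, fun h => ⟨h, ?_⟩⟩)
    rw [← hP']
    exact isDefectGroup_of_normal_sylow hM P' h
  have h2 := card_blocks_eq_orbits (V := Cfsg.pPrimeCore p N) hM hVp (P := (P' : Subgroup N)) P'.isPGroup' hreg
  have h3 := card_orbitsOf_eq (G := N) (V := Cfsg.pPrimeCore p N)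
  refine h1.trans (h2.trans (h3.trans ?_))
  refine Nat.card_congr (Equiv.subtypeEquivRight fun C => ⟨fun h n hn => ?_, fun h n hn => ?_⟩)
  · have hnV := h n hn
    refine ⟨regular_of_mem_pPrimeCore hnV, ?_⟩
    rw [Subgroup.mem_centralizer_iff]
    intro u hu
    have h4 : (⟨u, hle hu⟩ : N) ∈ (P' : Subgroup N) := by
      rw [hP']
      exact hu
    have h5 := centralizes_of_mem_pPrimeCore (P' : Subgroup N) P'.isPGroup' hnV h4
    exact congrArg Subtype.val h5
  · obtain ⟨h4, h5⟩ := h n hn
    refine hreg n h4 fun u hu => ?_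
    rw [hP'] at hu
    apply Subtype.ext
    exact Subgroup.mem_centralizer_iff.1 h5 u hu

end D

end Cfsg.Agent.Lib.CharBlockSylow
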