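import Mathlib
import Cfsg.Prelude.Def_Blocks
import Cfsg.Agent.Lib.CharBlockSylow
import Cfsg.Agent.Lib.CharBlockThird
import Cfsg.Agent.Lib.CharBlockSecond
import Cfsg.Agent.Lib.CharBlockKer
import Cfsg.Agent.Lib.CharKernel
import Cfsg.Agent.Lib.CharBlockRank
import Cfsg.Agent.Lib.FitCore

/-!
# Sums over the principal block on a section (Brauer)

For a `p`-element `z` and a `p`-regular `y` commuting with `z`,
`∑_{ζ ∈ B₀(G)} |ζ(zy)|² = ∑_{χ ∈ B₀(C(z))} |χ(y)|²`.
-/

set_option autoImplicit false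
set_option linter.style.haveILetI false
set_option linter.unusedSectionVars false

namespace Cfsg.Agent.Lib.CharBlockSection

open scoped ComplexConjugate
open Module Cfsg Cfsg.Agent.Lib.CharBlockLocal Cfsg.Agent.Lib.CharBlockConv Cfsg.Agent.Lib.CharBlockRot
  Cfsg.Agent.Lib.CharBlockOrth Cfsg.Agent.Lib.CharOps Cfsg.Agent.Lib.CharIrr
  Cfsg.Agent.Lib.CharBlockDefect Cfsg.Agent.Lib.CharBlockMinMax Cfsg.Agent.Lib.CharBlockBrauer
  Cfsg.Agent.Lib.CharBlockInd Cfsg.Agent.Lib.CharBlockDom Cfsg.Agent.Lib.CharBlockKer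
  Cfsg.Agent.Lib.CharBlockSecond Cfsg.Agent.Lib.CharBlockThird Cfsg.Agent.Lib.CharBlockSylow Cfsg.Agent.Lib.CharBlockRank

universe u

variable {G : Type u} [Group G] [Fintype G] {p : ℕ} {M : Ideal AlgInt}

/-- Linearity of `blockPart` in finite sums. -/
theorem blockPart_sum {ι : Type*} (B : Set (IrrCharacter G)) (s : Finset ι) (c : ι → ℂ) (a : ι → G → ℂ) (g : G) :
    blockPart B (∑ i ∈ s, c i • a i) g = ∑ i ∈ s, c i * blockPart B (a i) g := by
  classical
  induction s using Finset.induction_on with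
  | empty =>
    simp only [Finset.sum_empty]
    rw [blockPart_eq]
    simp [classInner_zero_left]
  | insert i s hi ih =>
    rw [Finset.sum_insert hi, Finset.sum_insert hi, blockPart_add, blockPart_smul, ih, smul_eq_mul]

/-- Coefficients of a function with vanishing `b`-part. -/
theorem classInner_eq_zero_of_blockPart {B : Set (IrrCharacter G)} {f : G → ℂ} (h : blockPart B f = 0)
    {ξ : IrrCharacter G} (hξ : ξ ∈ B) : classInner f (ξ : G → ℂ) = 0 := by
  classical
  have h1 : classInner (blockPart B f) (ξ : G → ℂ) = classInner f (ξ : G → ℂ) := by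
    have h2 : blockPart B f = ∑ χ : IrrCharacter G, (if χ ∈ B then classInner f (χ : G → ℂ) else 0) • (χ : G → ℂ) := by
      funext g
      rw [blockPart_eq, Finset.sum_apply]
      refine Finset.sum_congr rfl fun χ _ => ?_
      simp only [Pi.smul_apply, smul_eq_mul]
      split_ifs <;> simp
    rw [h2, classInner_sum_left, Finset.sum_eq_single ξ]
    · rw [classInner_smul_left, if_pos hξ, classInner_irr ξ.2 ξ.2, if_pos rfl, mul_one]
    · intro χ _ hχ
      rw [classInner_smul_left, classInner_irr χ.2 ξ.2, if_neg (fun h3 => hχ (Subtype.ext h3)), mul_zero]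
    · intro h3; exact absurd (Finset.mem_univ _) h3
  rw [← h1, h]
  have h4 : (0 : G → ℂ) = (0 : ℂ) • (0 : G → ℂ) := by simp
  rw [h4, classInner_smul_left, zero_mul]

section Section

variable {z : G}

/-- The centralizer of `z`. -/
abbrev Cz (z : G) : Subgroup G := Subgroup.centralizer ({z} : Set G)

/-- The regular part of the section function of `ζ`. -/
noncomputable def secFun (p : ℕ) (z : G) (ζ : G → ℂ) : Subgroup.centralizer ({z} : Set G) → ℂ :=
  regPart p (fun c : Subgroup.centralizer ({z} : Set G) => ζ (z * (c : G)))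

theorem secFun_isClass [Fintype (Cz z)] {ζ : G → ℂ} (hζ : IsClassFunction G ζ) : IsClassFunction (Cz z) (secFun p z ζ) :=
  regPart_isClass (section_isClass hζ z)

theorem commute_of_mem_C (c : Cz z) : Commute z (c : G) :=
  (Subgroup.mem_centralizer_singleton_iff.1 c.2).symm

theorem isPPart_z_mul (hz : ∃ k : ℕ, orderOf z = p ^ k) (c : Cz z) (hc : ¬ p ∣ orderOf (c : G)) :
    IsPPart p (z * (c : G)) z :=
  isPPart_mul hz (commute_of_mem_C c) hc

/-- Conjugacy in `G` of elements of a section is conjugacy in the centralizer. -/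
theorem isConj_section_iff (hp : p.Prime) (hz : ∃ k : ℕ, orderOf z = p ^ k) (c y : Cz z) (hc : ¬ p ∣ orderOf (c : G))
    (hy : ¬ p ∣ orderOf (y : G)) : IsConj (z * (c : G)) (z * (y : G)) ↔ IsConj c y := by
  constructor
  · intro h
    obtain ⟨g, hg⟩ := isConj_iff.1 h
    have h1 := IsPPart.conj (isPPart_z_mul hz c hc) g
    rw [hg] at h1
    have h2 := pPart_unique hp h1 (isPPart_z_mul hz y hy)
    have hgC : g ∈ (Cz z) := by
      rw [Subgroup.mem_centralizer_singleton_iff]
      calc g * z = g * z * g⁻¹ * g := by group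
        _ = z * g := by rw [h2]
    refine isConj_iff.2 ⟨⟨g, hgC⟩, Subtype.ext ?_⟩
    push_cast
    have h3 : g * (z * c) * g⁻¹ = (g * z * g⁻¹) * (g * c * g⁻¹) := by group
    rw [h3, h2] at hg
    exact mul_left_cancel hg
  · intro h
    obtain ⟨g, hg⟩ := isConj_iff.1 h
    refine isConj_iff.2 ⟨(g : G), ?_⟩
    have h1 : (g : G) * z = z * (g : G) := Subgroup.mem_centralizer_singleton_iff.1 g.2
    have h2 : (g : G) * c * (g : G)⁻¹ = y := by
      have := congrArg Subtype.val hg
      simpa using this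
    calc (g : G) * (z * c) * (g : G)⁻¹ = ((g : G) * z) * c * (g : G)⁻¹ := by group
      _ = z * ((g : G) * c * (g : G)⁻¹) := by rw [h1]; group
      _ = _ := by rw [h2]

/-- The centralizer of a section element. -/
theorem card_centralizer_section (hp : p.Prime) (hz : ∃ k : ℕ, orderOf z = p ^ k) (y : Cz z) (hy : ¬ p ∣ orderOf (y : G)) :
    Nat.card (Subgroup.centralizer ({z * (y : G)} : Set G)) = Nat.card (Subgroup.centralizer ({y} : Set (Cz z))) := by
  symm
  refine Nat.card_congr ⟨fun a => ⟨(a.1 : G), ?_⟩, fun b => ⟨⟨b.1, ?_⟩, ?_⟩, ?_, ?_⟩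
  · rw [Subgroup.mem_centralizer_singleton_iff]
    have h1 : a.1 * y = y * a.1 := Subgroup.mem_centralizer_singleton_iff.1 a.2
    have h1' : (a.1 : G) * y = y * a.1 := congrArg Subtype.val h1
    have h2 : (a.1 : G) * z = z * a.1 := Subgroup.mem_centralizer_singleton_iff.1 a.1.2
    calc (a.1 : G) * (z * y) = ((a.1 : G) * z) * y := by group
      _ = z * ((a.1 : G) * y) := by rw [h2]; group
      _ = z * y * a.1 := by rw [h1']; group
  · -- `b` commutes with `z`
    have hb : (b.1 : G) * (z * y) = (z * y) * b.1 := Subgroup.mem_centralizer_singleton_iff.1 b.2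
    have h1 : IsPPart p (z * (y : G)) z := isPPart_z_mul hz y hy
    have h2 := IsPPart.conj h1 (b.1 : G)
    have h3 : (b.1 : G) * (z * y) * (b.1 : G)⁻¹ = z * y := by rw [hb]; group
    rw [h3] at h2
    have h4 := pPart_unique hp h2 h1
    rw [Subgroup.mem_centralizer_singleton_iff]
    calc (b.1 : G) * z = (b.1 : G) * z * (b.1 : G)⁻¹ * b.1 := by group
      _ = z * b.1 := by rw [h4]
  · have hb : (b.1 : G) * (z * y) = (z * y) * b.1 := Subgroup.mem_centralizer_singleton_iff.1 b.2
    have h1 : IsPPart p (z * (y : G)) z := isPPart_z_mul hz y hy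
    have h2 := IsPPart.conj h1 (b.1 : G)
    have h3 : (b.1 : G) * (z * y) * (b.1 : G)⁻¹ = z * y := by rw [hb]; group
    rw [h3] at h2
    have h4 := pPart_unique hp h2 h1
    have hbz : (b.1 : G) * z = z * b.1 := by
      calc (b.1 : G) * z = (b.1 : G) * z * (b.1 : G)⁻¹ * b.1 := by group
        _ = z * b.1 := by rw [h4]
    rw [Subgroup.mem_centralizer_singleton_iff]
    apply Subtype.ext
    push_cast
    have : z * ((b.1 : G) * y) = z * ((y : G) * b.1) := by
      calc z * ((b.1 : G) * y) = (z * b.1) * y := by group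
        _ = ((b.1 : G) * z) * y := by rw [hbz]
        _ = (b.1 : G) * (z * y) := by group
        _ = z * y * b.1 := hb
        _ = _ := by group
    exact mul_left_cancel this
  · intro a; rfl
  · intro b; rfl

variable [Fintype (Cz z)]

/-- The columns of the section functions. -/
theorem sum_secFun_mul (hM : IsPModular p M) (hz : ∃ k : ℕ, orderOf z = p ^ k) (c y : Cz z) (hy : ¬ p ∣ orderOf (y : G)) :
    ∑ ζ : IrrCharacter G, secFun p z (ζ : G → ℂ) c * conj (secFun p z (ζ : G → ℂ) y) =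
      ∑ ξ : IrrCharacter (Cz z), (ξ : (Cz z) → ℂ) c * conj ((ξ : (Cz z) → ℂ) y) := by
  classical
  have hy' : ¬ p ∣ orderOf y := by rwa [Subgroup.orderOf_coe] at hy
  have hsy : ∀ ζ : IrrCharacter G, secFun p z (ζ : G → ℂ) y = (ζ : G → ℂ) (z * (y : G)) := by
    intro ζ
    unfold secFun
    rw [regPart_apply, if_neg hy']
  simp_rw [hsy]
  rw [column_orthogonality c y]
  by_cases hc : p ∣ orderOf (c : G)
  · have h1 : ∀ ζ : IrrCharacter G, secFun p z (ζ : G → ℂ) c = 0 := by
      intro ζ
      unfold secFun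
      rw [regPart_apply, if_pos]
      rwa [Subgroup.orderOf_coe] at hc
    simp_rw [h1]
    rw [if_neg, Finset.sum_eq_zero]
    · intro _ _; simp
    · intro hcy
      obtain ⟨g, hg⟩ := isConj_iff.1 hcy
      have h2 : orderOf (y : G) = orderOf (c : G) := by
        rw [Subgroup.orderOf_coe, Subgroup.orderOf_coe, ← hg]
        exact orderOf_conj' _ _
      rw [h2] at hy
      exact hy hc
  · have hsc : ∀ ζ : IrrCharacter G, secFun p z (ζ : G → ℂ) c = (ζ : G → ℂ) (z * (c : G)) := by
      intro ζ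
      unfold secFun
      rw [regPart_apply, if_neg]
      rwa [Subgroup.orderOf_coe] at hc
    simp_rw [hsc]
    rw [column_orthogonality (z * (c : G)) (z * (y : G))]
    by_cases hcy : IsConj c y
    · rw [if_pos hcy, if_pos ((isConj_section_iff hM.1 hz c y hc hy).2 hcy), card_centralizer_section hM.1 hz y hy]
    · rw [if_neg hcy, if_neg (fun h => hcy ((isConj_section_iff hM.1 hz c y hc hy).1 h))]

variable (hM : IsPModular p M) (hz : ∃ k : ℕ, orderOf z = p ^ k)

include hM hz

theorem zpowers_pGroup : IsPGroup p (Subgroup.zpowers z) := by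
  obtain ⟨k, hk⟩ := hz
  refine IsPGroup.of_card (n := k) ?_
  rw [Nat.card_zpowers, hk]

theorem zpowers_centralizer_eq : Subgroup.centralizer ((Subgroup.zpowers z : Subgroup G) : Set G) = (Cz z) := by
  ext g
  rw [Subgroup.mem_centralizer_singleton_iff, Subgroup.mem_centralizer_iff]
  constructor
  · intro h
    exact (h z (Subgroup.mem_zpowers z)).symm
  · intro h y hy
    obtain ⟨k, rfl⟩ := Subgroup.mem_zpowers_iff.1 hy
    exact ((Commute.zpow_left (show Commute z g from h.symm) k)).eq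

theorem inducedBlockDefined_C {b : Set (IrrCharacter (Cz z))} (hb : IsPBlock M b) : InducedBlockDefined M (Cz z) b := by
  have h1 : Subgroup.zpowers z ≤ (Cz z) := zpowers_le_centralizer z
  have h2 := zpowers_centralizer_eq (p := p) hM hz
  exact inducedBlockDefined hM (zpowers_pGroup hM hz) h1 (by rw [h2]) (centralizer_le_normalizer_zpowers z) hb

theorem not_induced_of_ne {b : Set (IrrCharacter (Cz z))} (hb : IsPBlock M b) (hne : b ≠ principalBlock M (Cz z)) :
    ¬ IsInducedBlock M (Cz z) b (principalBlock M G) := by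
  intro h
  exact hne ((thirdMain hM (Cz z) (inducedBlockDefined_C hM hz hb)).1 h)

theorem principal_isPBlock' : IsPBlock M (principalBlock M (Cz z)) := principal_isPBlock M

theorem induced_principal : IsInducedBlock M (Cz z) (principalBlock M (Cz z)) (principalBlock M G) :=
  (thirdMain hM (Cz z) (inducedBlockDefined_C hM hz (principal_isPBlock M))).2 rfl

/-- The `b`-part of the regular section function of `ζ` vanishes unless `b` induces the block of `ζ`. -/
theorem blockPart_secFun_eq_zero {B : Set (IrrCharacter G)} (hB : IsPBlock M B) {ζ : IrrCharacter G} (hζ : ζ ∈ B)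
    {b : Set (IrrCharacter (Cz z))} (hb : IsPBlock M b) (hnot : ¬ IsInducedBlock M (Cz z) b B) :
    blockPart b (secFun p z (ζ : G → ℂ)) = 0 := by
  classical
  funext c
  have hcl := section_isClass (IsCharacter.isClassFunction' (IsIrrCharacter.isCharacter' ζ.2)) z
  have hA : BlockClosed M b := blockClosed_of_isPBlock hM hb
  unfold secFun
  rw [blockPart_regPart hM hA hcl, regPart_apply]
  split_ifs with hc
  · rfl
  · exact secondMain_section hM hz hB hζ hb hnot c hc

/-- The section function of a principal block character lives in the principal block. -/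
theorem classInner_secFun_eq_zero {ζ : IrrCharacter G} (hζ : ζ ∈ principalBlock M G) {ξ : IrrCharacter (Cz z)}
    (hξ : ξ ∉ principalBlock M (Cz z)) : classInner (secFun p z (ζ : G → ℂ)) (ξ : (Cz z) → ℂ) = 0 := by
  have hb : IsPBlock M (blockOf M (ξ : (Cz z) → ℂ)) := ⟨ξ, rfl⟩
  have hne : blockOf M (ξ : (Cz z) → ℂ) ≠ principalBlock M (Cz z) := by
    intro h
    exact hξ (h ▸ mem_blockOf_self hM ξ)
  have h0 := blockPart_secFun_eq_zero hM hz (principal_isPBlock M) hζ hb (not_induced_of_ne hM hz hb hne)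
  exact classInner_eq_zero_of_blockPart h0 (mem_blockOf_self hM ξ)

theorem blockPart_secFun_principal {ζ : IrrCharacter G} (hζ : ζ ∈ principalBlock M G) (c : Cz z) :
    blockPart (principalBlock M (Cz z)) (secFun p z (ζ : G → ℂ)) c = secFun p z (ζ : G → ℂ) c := by
  classical
  have hcl : IsClassFunction (Cz z) (secFun p z (ζ : G → ℂ)) :=
    secFun_isClass (IsCharacter.isClassFunction' (IsIrrCharacter.isCharacter' ζ.2))
  have h1 := congrFun (classFunction_expand hcl) c
  simp only [Finset.sum_apply, Pi.smul_apply, smul_eq_mul] at h1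
  rw [blockPart_eq]
  conv_rhs => rw [h1]
  refine Finset.sum_congr rfl fun ξ _ => ?_
  split_ifs with hξ
  · rfl
  · rw [classInner_secFun_eq_zero hM hz hζ hξ, zero_mul]

theorem blockPart_secFun_not_principal {ζ : IrrCharacter G} (hζ : ζ ∉ principalBlock M G) :
    blockPart (principalBlock M (Cz z)) (secFun p z (ζ : G → ℂ)) = 0 := by
  have hB : IsPBlock M (blockOf M (ζ : G → ℂ)) := ⟨ζ, rfl⟩
  refine blockPart_secFun_eq_zero hM hz hB (mem_blockOf_self hM ζ) (principal_isPBlock M) ?_
  intro h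
  have h1 := induced_block_unique hM h (induced_principal hM hz)
  exact hζ (h1 ▸ mem_blockOf_self hM ζ)

/-- **Brauer**: the principal block sums on a section. -/
theorem sum_principal_section (y : Cz z) (hy : ¬ p ∣ orderOf (y : G)) :
    ∑ᶠ ζ ∈ principalBlock M G, (ζ : G → ℂ) (z * (y : G)) * conj ((ζ : G → ℂ) (z * (y : G))) =
      ∑ᶠ ξ ∈ principalBlock M (Cz z), (ξ : (Cz z) → ℂ) y * conj ((ξ : (Cz z) → ℂ) y) := by
  classical
  have hy' : ¬ p ∣ orderOf y := by rwa [Subgroup.orderOf_coe] at hy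
  have hsy : ∀ ζ : IrrCharacter G, secFun p z (ζ : G → ℂ) y = (ζ : G → ℂ) (z * (y : G)) := by
    intro ζ
    unfold secFun
    rw [regPart_apply, if_neg hy']
  -- the delta function
  let δ : (Cz z) → ℂ := fun c => ∑ ξ : IrrCharacter (Cz z), (ξ : (Cz z) → ℂ) c * conj ((ξ : (Cz z) → ℂ) y)
  have hδ : δ = ∑ ζ : IrrCharacter G, conj (secFun p z (ζ : G → ℂ) y) • secFun p z (ζ : G → ℂ) := by
    funext c
    rw [Finset.sum_apply]
    show ∑ ξ : IrrCharacter (Cz z), (ξ : (Cz z) → ℂ) c * conj ((ξ : (Cz z) → ℂ) y) = _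
    rw [← sum_secFun_mul hM hz c y hy]
    refine Finset.sum_congr rfl fun ζ _ => ?_
    simp only [Pi.smul_apply, smul_eq_mul]
    ring
  have hδ2 : δ = ∑ ξ : IrrCharacter (Cz z), conj ((ξ : (Cz z) → ℂ) y) • (ξ : (Cz z) → ℂ) := by
    funext c
    rw [Finset.sum_apply]
    refine Finset.sum_congr rfl fun ξ _ => ?_
    simp only [Pi.smul_apply, smul_eq_mul]
    ring
  have hL : blockPart (principalBlock M (Cz z)) δ y =
      ∑ᶠ ζ ∈ principalBlock M G, (ζ : G → ℂ) (z * (y : G)) * conj ((ζ : G → ℂ) (z * (y : G))) := by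
    rw [hδ, blockPart_sum, finsum_mem_eq_sum_ite]
    refine Finset.sum_congr rfl fun ζ _ => ?_
    split_ifs with hζ
    · rw [blockPart_secFun_principal hM hz hζ y, hsy]
      ring
    · rw [blockPart_secFun_not_principal hM hz hζ]
      simp
  have hR : blockPart (principalBlock M (Cz z)) δ y =
      ∑ᶠ ξ ∈ principalBlock M (Cz z), (ξ : (Cz z) → ℂ) y * conj ((ξ : (Cz z) → ℂ) y) := by
    rw [hδ2, blockPart_sum, finsum_mem_eq_sum_ite]
    refine Finset.sum_congr rfl fun ξ _ => ?_
    split_ifs with hξ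
    · rw [blockPart_of_mem hξ]
      ring
    · rw [blockPart_eq]
      rw [Finset.sum_eq_zero, mul_zero]
      intro ξ' _
      split_ifs with hξ'
      · rw [classInner_irr ξ.2 ξ'.2, if_neg, zero_mul]
        intro h
        exact hξ ((Subtype.ext h : ξ = ξ') ▸ hξ')
      · rfl
  rw [← hL, hR]

end Section

/-- Degrees of the characters with a normal subgroup in the kernel. -/
theorem sum_deg_sq_ker (N : Subgroup G) [hN : N.Normal] [Fintype N] [DecidablePred fun ξ : IrrCharacter G => ∀ n ∈ N, (ξ : G → ℂ) n = (ξ : G → ℂ) 1] :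
    (Nat.card N : ℂ) * ∑ ξ : IrrCharacter G, (if ∀ n ∈ N, (ξ : G → ℂ) n = (ξ : G → ℂ) 1 then (ξ : G → ℂ) 1 * conj ((ξ : G → ℂ) 1) else 0) =
      (Nat.card G : ℂ) := by
  classical
  have h1 : ∑ n : N, ∑ ξ : IrrCharacter G, (ξ : G → ℂ) (n : G) * conj ((ξ : G → ℂ) 1) = (Nat.card G : ℂ) := by
    simp_rw [column_orthogonality]
    rw [Finset.sum_eq_single (1 : N)]
    · rw [if_pos (by simp)]
      have : Subgroup.centralizer ({(1 : G)} : Set G) = ⊤ := by
        ext g
        simp [Subgroup.mem_centralizer_singleton_iff]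
      rw [this]
      simp
    · intro n _ hn
      rw [if_neg]
      intro h
      apply hn
      apply Subtype.ext
      have := isConj_one_right.1 h.symm
      simpa using this
    · intro h; exact absurd (Finset.mem_univ _) h
  rw [← h1, Finset.sum_comm, Finset.mul_sum]
  refine Finset.sum_congr rfl fun ξ _ => ?_
  rw [← Finset.sum_mul]
  by_cases hker : ∀ n ∈ N, (ξ : G → ℂ) n = (ξ : G → ℂ) 1
  · rw [if_pos hker, Finset.sum_congr rfl (fun (n : N) _ => hker (n : G) n.2), Finset.sum_const, Finset.card_univ, nsmul_eq_mul, Nat.card_eq_fintype_card]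
    ring
  · rw [if_neg hker]
    push Not at hker
    have := Cfsg.Agent.Lib.CharKernel.sum_coset_eq_zero N ξ.2 hker 1
    simp only [mul_one] at this
    rw [this]
    ring

/-- The sum over the principal block for a group with a normal `p`-complement. -/
theorem sum_principal_complement (hM : IsPModular p M) (hnc : ∃ k : ℕ, (pPrimeCore p G).index = p ^ k) (y : G) (hy : ¬ p ∣ orderOf y) :
    ∑ᶠ ξ ∈ principalBlock M G, (ξ : G → ℂ) y * conj ((ξ : G → ℂ) y) = ((p ^ (Nat.card G).factorization p : ℕ) : ℂ) := by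
  classical
  haveI hNn : (pPrimeCore p G).Normal := Cfsg.Agent.Lib.FitCore.pPrimeCore_normal p
  letI : Fintype (pPrimeCore p G) := Fintype.ofFinite _
  obtain ⟨k, hk⟩ := hnc
  have hNp : ¬ p ∣ Nat.card (pPrimeCore p G) := Cfsg.Agent.Lib.FitCore.not_dvd_card_pPrimeCore p hM.1
  have hyN : y ∈ pPrimeCore p G := by
    have h1 : y ^ (p ^ k) ∈ pPrimeCore p G := by
      rw [← hk]
      exact Subgroup.pow_index_mem _ y
    have hcop : Nat.Coprime (p ^ k) (orderOf y) :=
      Nat.Coprime.pow_left _ ((Nat.Prime.coprime_iff_not_dvd hM.1).2 hy)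
    obtain ⟨m, hm⟩ := exists_pow_eq_self_of_coprime hcop
    rw [← hm]
    exact Subgroup.pow_mem _ h1 _
  have hcard : Nat.card G = Nat.card (pPrimeCore p G) * p ^ k := by
    rw [← hk]; exact (Subgroup.card_mul_index _).symm
  have hN0 : Nat.card (pPrimeCore p G) ≠ 0 := Nat.card_pos.ne'
  have hval : (Nat.card G).factorization p = k := by
    rw [hcard, Nat.factorization_mul hN0 (pow_ne_zero _ hM.1.ne_zero), Nat.factorization_pow]
    have h0 := Nat.factorization_eq_zero_of_not_dvd hNp
    simp only [Finsupp.coe_add, Pi.add_apply, h0, Finsupp.smul_apply, hM.1.factorization_self]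
    simp
  rw [hval, principal_of_normal_complement hM ⟨k, hk⟩, finsum_mem_eq_sum_ite]
  have hker := sum_deg_sq_ker (G := G) (pPrimeCore p G)
  have hN0' : (Nat.card (pPrimeCore p G) : ℂ) ≠ 0 := by exact_mod_cast hN0
  have h2 : ∑ ξ : IrrCharacter G, (if ξ ∈ {χ : IrrCharacter G | ∀ n ∈ pPrimeCore p G, (χ : G → ℂ) n = (χ : G → ℂ) 1} then (ξ : G → ℂ) y * conj ((ξ : G → ℂ) y) else 0) =
      ∑ ξ : IrrCharacter G, (if ∀ n ∈ pPrimeCore p G, (ξ : G → ℂ) n = (ξ : G → ℂ) 1 then (ξ : G → ℂ) 1 * conj ((ξ : G → ℂ) 1) else 0) := by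
    refine Finset.sum_congr rfl fun ξ _ => ?_
    by_cases h : ∀ n ∈ pPrimeCore p G, (ξ : G → ℂ) n = (ξ : G → ℂ) 1
    · rw [if_pos h, if_pos (show ξ ∈ {χ : IrrCharacter G | ∀ n ∈ pPrimeCore p G, (χ : G → ℂ) n = (χ : G → ℂ) 1} from h), h y hyN]
    · rw [if_neg h, if_neg (show ξ ∉ {χ : IrrCharacter G | ∀ n ∈ pPrimeCore p G, (χ : G → ℂ) n = (χ : G → ℂ) 1} from h)]
  rw [h2]
  apply mul_left_cancel₀ hN0'
  rw [hker, hcard]
  push_cast
  ring

/-- Statement form. -/
theorem principal_section_norm (hM : IsPModular p M) {z : G} (hz : ∃ k : ℕ, orderOf z = p ^ k)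
    (y : Subgroup.centralizer ({z} : Set G)) (hy : ¬ p ∣ orderOf y) :
    ∑ᶠ ζ ∈ principalBlock M G, ‖(ζ : G → ℂ) (z * (y : G))‖ ^ 2 =
      ∑ᶠ χ ∈ principalBlock M (Subgroup.centralizer ({z} : Set G)), ‖(χ : Subgroup.centralizer ({z} : Set G) → ℂ) y‖ ^ 2 := by
  classical
  letI : Fintype (Subgroup.centralizer ({z} : Set G)) := Fintype.ofFinite _
  have hy' : ¬ p ∣ orderOf (y : G) := by rwa [Subgroup.orderOf_coe]
  have h := sum_principal_section hM hz y hy'
  have hc : ∀ w : ℂ, w * conj w = ((‖w‖ ^ 2 : ℝ) : ℂ) := by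
    intro w
    rw [Complex.mul_conj, Complex.normSq_eq_norm_sq]
  rw [finsum_mem_eq_sum_ite, finsum_mem_eq_sum_ite] at h
  simp_rw [hc] at h
  have hR : ∀ {α : Type _} [Fintype α] (B : Set α) (F : α → ℝ) [DecidablePred (· ∈ B)],
      ∑ᶠ a ∈ B, F a = ∑ a, if a ∈ B then F a else 0 := by
    intro α _ B F _
    rw [finsum_mem_def, finsum_eq_sum_of_fintype]
    refine Finset.sum_congr rfl fun a _ => ?_
    rw [Set.indicator_apply]
  rw [hR, hR]
  have h2 : ((∑ ζ : IrrCharacter G, if ζ ∈ principalBlock M G then ‖(ζ : G → ℂ) (z * (y : G))‖ ^ 2 else 0 : ℝ) : ℂ) =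
      ((∑ χ : IrrCharacter (Subgroup.centralizer ({z} : Set G)), if χ ∈ principalBlock M (Subgroup.centralizer ({z} : Set G)) then ‖(χ : Subgroup.centralizer ({z} : Set G) → ℂ) y‖ ^ 2 else 0 : ℝ) : ℂ) := by
    push_cast
    convert h using 2
    · split_ifs <;> simp
    · split_ifs <;> simp
  exact_mod_cast h2

/-- The principal sum for a group with a normal `p`-complement, real form. -/
theorem sum_principal_complement_norm (hM : IsPModular p M) (hnc : ∃ k : ℕ, (pPrimeCore p G).index = p ^ k) (y : G) (hy : ¬ p ∣ orderOf y) :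
    ∑ᶠ ξ ∈ principalBlock M G, ‖(ξ : G → ℂ) y‖ ^ 2 = ((p ^ (Nat.card G).factorization p : ℕ) : ℝ) := by
  classical
  have h := sum_principal_complement hM hnc y hy
  have hc : ∀ w : ℂ, w * conj w = ((‖w‖ ^ 2 : ℝ) : ℂ) := by
    intro w
    rw [Complex.mul_conj, Complex.normSq_eq_norm_sq]
  rw [finsum_mem_eq_sum_ite] at h
  simp_rw [hc] at h
  rw [finsum_mem_def, finsum_eq_sum_of_fintype]
  have h2 : ((∑ ξ : IrrCharacter G, (principalBlock M G).indicator (fun ξ : IrrCharacter G => ‖(ξ : G → ℂ) y‖ ^ 2) ξ : ℝ) : ℂ) = ((p ^ (Nat.card G).factorization p : ℕ) : ℂ) := by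
    rw [← h]
    push_cast
    refine Finset.sum_congr rfl fun ξ _ => ?_
    rw [Set.indicator_apply]
    split_ifs <;> simp
  exact_mod_cast h2

end Cfsg.Agent.Lib.CharBlockSection
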