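import Cfsg.Agent.Lib.CharLinear

/-!
# Permutation characters: fixed point counts as sums of induced principal characters
-/

set_option linter.unusedSectionVars false
set_option linter.style.haveILetI false

namespace Cfsg.Agent.Lib.CharPermRep

open scoped ComplexConjugate
open Module Cfsg Cfsg.Agent.Lib.CharCore Cfsg.Agent.Lib.CharBasic Cfsg.Agent.Lib.CharIrr
  Cfsg.Agent.Lib.CharOps Cfsg.Agent.Lib.CharGen Cfsg.Agent.Lib.CharNormal Cfsg.Agent.Lib.CharAb

universe u v w

variable {G : Type u} [Group G] [Fintype G]

/-- The function induced from the principal character of a point stabilizer counts fixed points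
in the orbit. -/
theorem indFun_one_eq_card_fixed_orbit {X : Type*} [MulAction G X] [Finite X] (ω : X) (U : Subgroup G)
    (hU : ∀ g, g ∈ U ↔ g • ω = ω) (g : G) :
    indFun U (fun _ => 1) g = (Nat.card {z : X // z ∈ MulAction.orbit G ω ∧ g • z = z} : ℂ) := by
  classical
  letI : Fintype X := Fintype.ofFinite _
  letI : Fintype U := Fintype.ofFinite _
  have hK : (Nat.card U : ℂ) ≠ 0 := by exact_mod_cast Nat.card_pos.ne'
  rw [indFun_apply]
  have h1 : ∀ x : G, extendByZero U (fun _ => (1 : ℂ)) (x⁻¹ * g * x) = if g • (x • ω) = x • ω then 1 else 0 := by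
    intro x
    by_cases h : g • (x • ω) = x • ω
    · rw [if_pos h, extendByZero_of_mem]
      rw [hU, mul_smul, mul_smul, h, inv_smul_smul]
    · rw [if_neg h, extendByZero_of_not_mem]
      rw [hU, mul_smul, mul_smul]
      intro h'
      apply h
      have := congrArg (fun z => x • z) h'
      simpa using this
  simp only [h1]
  rw [Finset.sum_boole]
  rw [inv_mul_eq_div, div_eq_iff hK]
  -- count by fibres
  let S : Finset G := Finset.univ.filter (fun x => g • (x • ω) = x • ω)
  let T : Finset X := Finset.univ.filter (fun z => z ∈ MulAction.orbit G ω ∧ g • z = z)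
  have hmaps : ∀ x ∈ S, x • ω ∈ T := by
    intro x hx
    simp only [S, T, Finset.mem_filter, Finset.mem_univ, true_and] at hx ⊢
    exact ⟨MulAction.mem_orbit ω x, hx⟩
  have hfib : ∀ z ∈ T, (S.filter (fun x => x • ω = z)).card = Nat.card U := by
    intro z hz
    simp only [T, Finset.mem_filter, Finset.mem_univ, true_and] at hz
    obtain ⟨⟨y, rfl⟩, hfix⟩ := hz
    have hfix' : g • (y • ω) = y • ω := hfix
    rw [Nat.card_eq_fintype_card, ← Finset.card_univ]
    refine Finset.card_bij' (fun x hx => ⟨y⁻¹ * x, ?_⟩) (fun u _ => y * u) ?_ ?_ ?_ ?_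
    · have hx' := (Finset.mem_filter.mp hx).2
      rw [hU, mul_smul, hx', inv_smul_smul]
    · intro x _
      exact Finset.mem_univ _
    · intro u _
      simp only [S, Finset.mem_filter, Finset.mem_univ, true_and]
      have hu : (u : G) • ω = ω := (hU _).mp u.2
      rw [mul_smul, hu]
      exact ⟨hfix', rfl⟩
    · intro x _
      simp
    · intro u _
      apply Subtype.ext
      simp
  have hcount := Finset.card_eq_sum_card_fiberwise hmaps
  rw [Finset.sum_congr rfl hfib, Finset.sum_const, smul_eq_mul] at hcount
  have hT : Nat.card {z : X // z ∈ MulAction.orbit G ω ∧ g • z = z} = T.card := by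
    rw [Nat.card_eq_fintype_card, Fintype.card_subtype]
  rw [hT]
  exact_mod_cast hcount

/-- A fixed point count is the sum over orbits of the fixed point counts in the orbits. -/
theorem card_fixed_eq_sum_orbits {X : Type*} [MulAction G X] [Finite X]
    (r : MulAction.orbitRel.Quotient G X → X) (hr : ∀ q, (Quotient.mk'' (r q) : MulAction.orbitRel.Quotient G X) = q)
    (g : G) :
    Nat.card (MulAction.fixedBy X g) =
      ∑ᶠ q : MulAction.orbitRel.Quotient G X, Nat.card {z : X // z ∈ MulAction.orbit G (r q) ∧ g • z = z} := by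
  classical
  letI : Fintype X := Fintype.ofFinite _
  letI : Fintype (MulAction.orbitRel.Quotient G X) := Fintype.ofFinite _
  rw [finsum_eq_sum_of_fintype]
  let T : Finset X := Finset.univ.filter (fun z => g • z = z)
  let f : X → MulAction.orbitRel.Quotient G X := fun z => Quotient.mk'' z
  have hc := Finset.card_eq_sum_card_fiberwise (f := f) (s := T) (t := Finset.univ) (fun _ _ => Finset.mem_univ _)
  have h1 : Nat.card (MulAction.fixedBy X g) = T.card := by
    have : (MulAction.fixedBy X g) = {z | g • z = z} := rfl
    rw [Nat.card_eq_fintype_card, ← Set.toFinset_card]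
    congr 1
    ext z
    simp [T, MulAction.mem_fixedBy]
  rw [h1, hc]
  refine Finset.sum_congr rfl fun q _ => ?_
  rw [Nat.card_eq_fintype_card, Fintype.card_subtype]
  congr 1
  ext z
  simp only [T, f, Finset.mem_filter, Finset.mem_univ, true_and]
  constructor
  · rintro ⟨h1, h2⟩
    refine ⟨?_, h1⟩
    have : (Quotient.mk'' z : MulAction.orbitRel.Quotient G X) = Quotient.mk'' (r q) := by rw [h2, hr]
    exact MulAction.orbitRel_apply.mp (Quotient.exact' this)
  · rintro ⟨h1, h2⟩
    refine ⟨h2, ?_⟩
    rw [← hr q]
    exact Quotient.sound' (MulAction.orbitRel_apply.mpr h1)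

/-- The function induced from the principal character of `H` is the permutation character on
the cosets of `H`. -/
theorem indFun_one_eq_card_fixed_quotient (H : Subgroup G) (g : G) :
    indFun H (fun _ => 1) g = (Nat.card (MulAction.fixedBy (G ⧸ H) g) : ℂ) := by
  classical
  rw [indFun_one_eq_card_fixed_orbit ((1 : G) : G ⧸ H) H]
  · congr 1
    apply Nat.card_congr
    refine ⟨fun z => ⟨z.1, z.2.2⟩, fun z => ⟨z.1, ⟨?_, z.2⟩⟩, fun z => rfl, fun z => rfl⟩
    exact MulAction.exists_smul_eq G _ _
  · intro g
    rw [show g • ((1 : G) : G ⧸ H) = ((g : G) : G ⧸ H) by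
      rw [MulAction.Quotient.smul_coe]; simp]
    rw [QuotientGroup.eq]
    simp

/-- A transitive permutation character is induced from the principal character of a point
stabilizer. -/
theorem indFun_stabilizer_eq_card_fixed {X : Type*} [MulAction G X] [Finite X]
    [MulAction.IsPretransitive G X] (a : X) (g : G) :
    indFun (MulAction.stabilizer G a) (fun _ => 1) g = (Nat.card (MulAction.fixedBy X g) : ℂ) := by
  classical
  rw [indFun_one_eq_card_fixed_orbit a (MulAction.stabilizer G a) (fun g => MulAction.mem_stabilizer_iff)]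
  congr 1
  apply Nat.card_congr
  refine ⟨fun z => ⟨z.1, z.2.2⟩, fun z => ⟨z.1, ⟨?_, z.2⟩⟩, fun z => rfl, fun z => rfl⟩
  exact MulAction.exists_smul_eq G _ _

end Cfsg.Agent.Lib.CharPermRep
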