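import Mathlib
import Cfsg.Prelude.Def_Blocks
import Cfsg.Agent.Lib.CharBlockSection
import Cfsg.Agent.Lib.CharPermRep
import Cfsg.Agent.Lib.CharGen
import Cfsg.Agent.Lib.CharCliff
import Cfsg.Agent.Lib.CharKernel
import Cfsg.Agent.Lib.CharLinear
import Cfsg.Agent.Lib.H7Basic

/-!
# Quasi-elementary subgroups and the first steps of Brauer's induction theorem
-/

set_option autoImplicit false
set_option linter.style.haveILetI false
set_option linter.unusedSectionVars false
set_option linter.unusedVariables false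

namespace Cfsg.Agent.Lib.BrauerInd

open scoped ComplexConjugate
open Module Cfsg Cfsg.Agent.Lib.CharOps Cfsg.Agent.Lib.CharIrr Cfsg.Agent.Lib.CharGen
  Cfsg.Agent.Lib.CharPermRep Cfsg.Agent.Lib.CharBlockOrth

universe u

/-- The statement form of `p`-quasi-elementary. -/
def IsQE {G : Type u} [Group G] (p : ℕ) (H : Subgroup G) : Prop :=
  ∃ C : Subgroup G, C ≤ H ∧ H ≤ Subgroup.normalizer (C : Set G) ∧ IsCyclic C ∧
    Nat.Coprime (Nat.card C) p ∧ ∃ k : ℕ, C.relIndex H = p ^ k

section QE

variable {G : Type u} [Group G]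

/-- If `C` has a `p`-power exponent quotient in `H`, then the relative index is a `p`-power. -/
theorem relIndex_eq_pow [Finite G] (p : ℕ) (hp : p.Prime) {C H : Subgroup G} (hC : C ≤ H)
    (hN : H ≤ Subgroup.normalizer (C : Set G))
    (h : ∀ x ∈ H, ∃ k : ℕ, x ^ (p ^ k) ∈ C) : ∃ k : ℕ, C.relIndex H = p ^ k := by
  haveI := Fact.mk hp
  haveI : (C.subgroupOf H).Normal := Subgroup.normal_subgroupOf_of_le_normalizer hN
  have hP : IsPGroup p (H ⧸ C.subgroupOf H) := by
    intro q
    induction q using QuotientGroup.induction_on with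
    | H x =>
      obtain ⟨k, hk⟩ := h x x.2
      refine ⟨k, ?_⟩
      rw [← QuotientGroup.mk_pow, QuotientGroup.eq_one_iff, Subgroup.mem_subgroupOf]
      simpa using hk
  obtain ⟨n, hn⟩ := IsPGroup.iff_card.mp hP
  exact ⟨n, by rw [Subgroup.relIndex, Subgroup.index_eq_card, hn]⟩

/-- Elements of `H` have a power `p ^ k` in `C`. -/
theorem pow_mem_of_relIndex {C H : Subgroup G} {p k : ℕ}
    (hN : H ≤ Subgroup.normalizer (C : Set G)) (hk : C.relIndex H = p ^ k) {x : G} (hx : x ∈ H) :
    x ^ (p ^ k) ∈ C := by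
  haveI : (C.subgroupOf H).Normal := Subgroup.normal_subgroupOf_of_le_normalizer hN
  have h := Subgroup.pow_index_mem (C.subgroupOf H) (⟨x, hx⟩ : H)
  rw [Subgroup.relIndex] at hk
  rw [hk, Subgroup.mem_subgroupOf] at h
  simpa using h

theorem conj_zpow'' (y c : G) (i : ℤ) : y⁻¹ * c ^ i * y = (y⁻¹ * c * y) ^ i := by
  have := conj_zpow (a := y⁻¹) (b := c) (i := i)
  simpa using this.symm

theorem conj_pow'' (y c : G) (i : ℕ) : y⁻¹ * c ^ i * y = (y⁻¹ * c * y) ^ i := by
  have := conj_pow (a := y⁻¹) (b := c) (i := i)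
  simpa using this.symm

/-- A finite subgroup mapped into itself by a conjugation is normalized. -/
theorem mem_normalizer_of_conj_le [Finite G] {C : Subgroup G} {g : G}
    (h : ∀ c ∈ C, g⁻¹ * c * g ∈ C) : g ∈ Subgroup.normalizer (C : Set G) := by
  let f : C → C := fun c => ⟨g⁻¹ * c * g, h c c.2⟩
  have hf : Function.Injective f := by
    intro a b hab
    have : g⁻¹ * (a : G) * g = g⁻¹ * b * g := congrArg Subtype.val hab
    apply Subtype.ext
    simpa using this
  have hs := Finite.injective_iff_surjective.mp hf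
  rw [Subgroup.mem_normalizer_iff]
  intro c
  constructor
  · intro hc
    obtain ⟨a, ha⟩ := hs ⟨c, hc⟩
    have : g⁻¹ * (a : G) * g = c := congrArg Subtype.val ha
    have h2 : g * c * g⁻¹ = a := by rw [← this]; group
    rw [h2]
    exact a.2
  · intro hc
    have := h _ hc
    have h2 : g⁻¹ * (g * c * g⁻¹) * g = c := by group
    rwa [h2] at this

end QE

section Exists

variable {G : Type u} [Group G] [Fintype G]

/-- Every element lies in a quasi-elementary subgroup whose permutation character at it is prime to `p`. -/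
theorem exists_qe_not_dvd (x : G) (p : ℕ) (hp : p.Prime) :
    ∃ H : Subgroup G, IsQE p H ∧ ∃ n : ℕ, indFun H (fun _ => 1) x = (n : ℂ) ∧ ¬ p ∣ n := by
  classical
  haveI := Fact.mk hp
  obtain ⟨a, c, hac, hcomm, ⟨ka, hka⟩, hc⟩ := exists_pPart (G := G) hp x
  have hcop : Nat.Coprime (orderOf c) p := ((Nat.Prime.coprime_iff_not_dvd hp).2 hc).symm
  have hcpow : ∃ t : ℕ, x ^ t = c := by
    have h1 : x ^ (p ^ ka) = c ^ (p ^ ka) := by
      rw [← hac, hcomm.mul_pow, ← hka, pow_orderOf_eq_one, one_mul]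
    obtain ⟨m, hm⟩ := exists_pow_eq_self_of_coprime (x := c) (n := p ^ ka) (Nat.Coprime.pow_left _ hcop.symm)
    exact ⟨p ^ ka * m, by rw [pow_mul, h1, hm]⟩
  obtain ⟨t, ht⟩ := hcpow
  let C : Subgroup G := Subgroup.zpowers c
  let X : Subgroup G := Subgroup.normalizer (C : Set G)
  let C₀ : Subgroup X := C.subgroupOf X
  haveI hC₀ : C₀.Normal := Subgroup.normal_in_normalizer
  have hcC : c ∈ C := Subgroup.mem_zpowers c
  have hCX : C ≤ X := Subgroup.le_normalizer
  have hcommxc : Commute x c := by rw [← hac]; exact hcomm.mul_left (Commute.refl c)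
  have hcomm_nor : ∀ y : G, Commute y c → y ∈ X := by
    intro y hy
    apply mem_normalizer_of_conj_le
    intro w hw
    obtain ⟨i, rfl⟩ := Subgroup.mem_zpowers_iff.mp hw
    have h1 : y⁻¹ * c * y = c := by
      have := hy.eq
      rw [mul_assoc, ← this]
      group
    rw [conj_zpow'', h1]
    exact Subgroup.zpow_mem_zpowers c i
  have hxX : x ∈ X := hcomm_nor x hcommxc
  have haX : a ∈ X := hcomm_nor a hcomm
  have hcX : c ∈ X := hCX hcC
  let a' : X := ⟨a, haX⟩
  let c' : X := ⟨c, hcX⟩
  let x' : X := ⟨x, hxX⟩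
  have hx' : x' = a' * c' := Subtype.ext hac.symm
  let q := QuotientGroup.mk' C₀
  have hq : Function.Surjective q := QuotientGroup.mk'_surjective C₀
  have hPa : IsPGroup p (Subgroup.zpowers (q a')) := by
    rintro ⟨g, hg⟩
    refine ⟨ka, ?_⟩
    obtain ⟨i, rfl⟩ := Subgroup.mem_zpowers_iff.mp hg
    apply Subtype.ext
    have h1 : a' ^ (p ^ ka) = 1 := by
      apply Subtype.ext
      simp only [a', SubmonoidClass.mk_pow, OneMemClass.coe_one]
      rw [← hka, pow_orderOf_eq_one]
    have h2 : (q a') ^ (p ^ ka) = 1 := by rw [← map_pow, h1, map_one]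
    show ((q a') ^ i) ^ (p ^ ka) = 1
    rw [← zpow_natCast, ← zpow_mul, mul_comm, zpow_mul, zpow_natCast, h2, one_zpow]
  obtain ⟨Q, hQ⟩ := IsPGroup.exists_le_sylow hPa
  let H₀ : Subgroup X := (Q : Subgroup (X ⧸ C₀)).comap q
  let H : Subgroup G := H₀.map X.subtype
  obtain ⟨m, hm⟩ := IsPGroup.iff_card.mp Q.isPGroup'
  have hC₀H₀ : C₀ ≤ H₀ := by
    intro w hw
    have : q w = 1 := by
      show ((w : X) : X ⧸ C₀) = 1
      exact (QuotientGroup.eq_one_iff w).mpr hw
    show q w ∈ (Q : Subgroup (X ⧸ C₀))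
    rw [this]
    exact Subgroup.one_mem _
  have hCH : C ≤ H := by
    intro w hw
    refine ⟨⟨w, hCX hw⟩, hC₀H₀ ?_, rfl⟩
    rw [Subgroup.mem_subgroupOf]
    exact hw
  have hHX : H ≤ X := Subgroup.map_subtype_le H₀
  have hpow : ∀ y ∈ H, y ^ (p ^ m) ∈ C := by
    rintro _ ⟨y, hy, rfl⟩
    have h1 : (⟨q y, hy⟩ : (Q : Subgroup (X ⧸ C₀))) ^ (p ^ m) = 1 := by
      rw [← hm]
      exact pow_card_eq_one'
    have h2 : q (y ^ (p ^ m)) = 1 := by
      rw [map_pow]
      exact congrArg Subtype.val h1
    have h3 : y ^ (p ^ m) ∈ C₀ := (QuotientGroup.eq_one_iff _).mp h2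
    rw [Subgroup.mem_subgroupOf] at h3
    simpa using h3
  have hqe : IsQE p H := by
    refine ⟨C, hCH, hHX, inferInstance, ?_, relIndex_eq_pow p hp hCH hHX (fun y hy => ⟨m, hpow y hy⟩)⟩
    show Nat.Coprime (Nat.card (Subgroup.zpowers c)) p
    rwa [Nat.card_zpowers]
  refine ⟨H, hqe, Nat.card (MulAction.fixedBy (X ⧸ H₀) x'), ?_, ?_⟩
  · -- comparison with `X`
    rw [← indFun_one_eq_card_fixed_quotient H₀ x', indFun_apply, indFun_apply]
    have hcard : Nat.card H = Nat.card H₀ :=
      Nat.card_congr (H₀.equivMapOfInjective X.subtype X.subtype_injective).symm.toEquiv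
    rw [hcard]
    congr 1
    have hmemX : ∀ y : G, y⁻¹ * x * y ∈ H → y ∈ X := by
      intro y hy
      have h1 : y⁻¹ * c * y = (y⁻¹ * x * y) ^ t := by
        rw [← ht, conj_pow'']
      have h2 : y⁻¹ * c * y ∈ H := by rw [h1]; exact Subgroup.pow_mem _ hy _
      have h3 : y⁻¹ * c * y ∈ C := by
        have hord : orderOf (y⁻¹ * c * y) = orderOf c := by
          have := orderOf_conj' y⁻¹ c
          simpa using this
        apply Cfsg.Agent.Lib.H7Basic.mem_of_pow_mem_of_coprime C _ (p ^ m) _ (hpow _ h2)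
        rw [hord]
        exact Nat.Coprime.pow_right _ hcop
      apply mem_normalizer_of_conj_le
      intro w hw
      obtain ⟨i, rfl⟩ := Subgroup.mem_zpowers_iff.mp hw
      rw [conj_zpow'']
      exact Subgroup.zpow_mem C h3 i
    have hf : ∀ y : G, extendByZero H (fun _ => (1 : ℂ)) (y⁻¹ * x * y) = if y⁻¹ * x * y ∈ H then 1 else 0 := by
      intro y
      by_cases h : y⁻¹ * x * y ∈ H
      · rw [if_pos h, extendByZero_of_mem _ _ h]
      · rw [if_neg h, extendByZero_of_not_mem _ _ h]
    have hf' : ∀ y : X, extendByZero H₀ (fun _ => (1 : ℂ)) (y⁻¹ * x' * y) = if (y : G)⁻¹ * x * y ∈ H then 1 else 0 := by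
      intro y
      have hiff : y⁻¹ * x' * y ∈ H₀ ↔ (y : G)⁻¹ * x * y ∈ H := by
        constructor
        · intro h
          exact ⟨_, h, rfl⟩
        · rintro ⟨w, hw, hw2⟩
          have : w = y⁻¹ * x' * y := Subtype.ext hw2
          rwa [← this]
      by_cases h : (y : G)⁻¹ * x * y ∈ H
      · rw [if_pos h, extendByZero_of_mem _ _ (hiff.mpr h)]
      · rw [if_neg h, extendByZero_of_not_mem _ _ (fun h' => h (hiff.mp h'))]
    simp_rw [hf, hf']
    rw [← Finset.sum_filter_of_ne (s := Finset.univ) (p := fun y : G => y ∈ X)]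
    · exact Finset.sum_subtype (Finset.univ.filter (fun y : G => y ∈ X)) (p := fun y : G => y ∈ X) (by simp) _
    · intro y _ hy
      by_contra hyX
      apply hy
      rw [if_neg (fun h => hyX (hmemX y h))]
  · -- counting fixed points
    have hfix : ∀ z : X ⧸ H₀, c' • z = z := by
      intro z
      induction z using QuotientGroup.induction_on with
      | H w =>
        rw [MulAction.Quotient.smul_coe, QuotientGroup.eq]
        apply hC₀H₀
        have h1 : c' ∈ C₀ := by
          rw [Subgroup.mem_subgroupOf]; exact hcC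
        have h2 := hC₀.conj_mem c'⁻¹ (C₀.inv_mem h1) w⁻¹
        rw [inv_inv] at h2
        show (c' * w)⁻¹ * w ∈ C₀
        simpa [mul_assoc] using h2
    have hfix2 : ∀ z : X ⧸ H₀, x' • z = z ↔ a' • z = z := by
      intro z
      rw [hx', mul_smul, hfix]
    have hcong := IsPGroup.card_modEq_card_fixedPoints
      (IsPGroup.iff_card.mpr (⟨ka, by
        rw [Nat.card_zpowers, hka.symm]
        exact Subgroup.orderOf_mk a haX⟩ : ∃ n, Nat.card (Subgroup.zpowers a') = p ^ n)) (X ⧸ H₀)
    have heq : Nat.card (MulAction.fixedBy (X ⧸ H₀) x') = Nat.card (MulAction.fixedPoints (Subgroup.zpowers a') (X ⧸ H₀)) := by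
      apply Nat.card_congr
      apply Equiv.subtypeEquivRight
      intro z
      rw [MulAction.mem_fixedBy, hfix2, MulAction.mem_fixedPoints]
      constructor
      · rintro h ⟨g, hg⟩
        obtain ⟨i, rfl⟩ := Subgroup.mem_zpowers_iff.mp hg
        show a' ^ i • z = z
        exact (MulAction.mem_stabilizer_iff.mp (Subgroup.zpow_mem _ (MulAction.mem_stabilizer_iff.mpr h) i))
      · intro h
        exact h ⟨a', Subgroup.mem_zpowers a'⟩
    rw [heq]
    intro hdvd
    have hdvd2 : p ∣ Nat.card (X ⧸ H₀) := (Nat.modEq_zero_iff_dvd.mp (hcong.trans hdvd.modEq_zero_nat))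
    have hidx : Nat.card (X ⧸ H₀) = (Q : Subgroup (X ⧸ C₀)).index := by
      rw [← Subgroup.index_comap_of_surjective _ hq]
      rfl
    rw [hidx] at hdvd2
    exact Q.not_dvd_index hdvd2

end Exists

section Span

variable {G : Type u} [Group G]

/-- Quasi-elementary is closed under passing to subgroups. -/
theorem IsQE.mono [Finite G] {p : ℕ} (hp : p.Prime) {H L : Subgroup G} (hH : IsQE p H) (hL : L ≤ H) : IsQE p L := by
  obtain ⟨C, hCH, hHN, hcyc, hcop, k, hk⟩ := hH
  refine ⟨C ⊓ L, inf_le_right, ?_, ?_, ?_, ?_⟩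
  · intro l hl
    apply mem_normalizer_of_conj_le
    rintro c ⟨hc, hc2⟩
    refine ⟨?_, L.mul_mem (L.mul_mem (L.inv_mem hl) hc2) hl⟩
    have h1 := hHN (H.inv_mem (hL hl))
    have h2 := (Subgroup.mem_normalizer_iff.mp h1 c).mp hc
    simpa using h2
  · exact isCyclic_of_injective (Subgroup.inclusion (inf_le_left : C ⊓ L ≤ C)) (Subgroup.inclusion_injective _)
  · exact Nat.Coprime.coprime_dvd_left (Subgroup.card_dvd_of_le inf_le_left) hcop
  · apply relIndex_eq_pow p hp inf_le_right
    · intro l hl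
      apply mem_normalizer_of_conj_le
      rintro c ⟨hc, hc2⟩
      refine ⟨?_, L.mul_mem (L.mul_mem (L.inv_mem hl) hc2) hl⟩
      have h1 := hHN (H.inv_mem (hL hl))
      have h2 := (Subgroup.mem_normalizer_iff.mp h1 c).mp hc
      simpa using h2
    · intro x hx
      exact ⟨k, pow_mem_of_relIndex hHN hk (hL hx), L.pow_mem hx _⟩

/-- A subgroup of a conjugate of a quasi-elementary subgroup is quasi-elementary. -/
theorem IsQE.of_conj_le [Finite G] {p : ℕ} (hp : p.Prime) {H L : Subgroup G} (hH : IsQE p H) (a : G)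
    (hL : ∀ l ∈ L, a⁻¹ * l * a ∈ H) : IsQE p L := by
  obtain ⟨C, hCH, hHN, hcyc, hcop, k, hk⟩ := hH
  let f : G ≃* G := MulAut.conj a
  let H' : Subgroup G := H.map f.toMonoidHom
  let C' : Subgroup G := C.map f.toMonoidHom
  have hH' : IsQE p H' := by
    refine ⟨C', Subgroup.map_mono hCH, ?_, ?_, ?_, ?_⟩
    · rintro _ ⟨h, hh, rfl⟩
      rw [Subgroup.mem_normalizer_iff]
      intro c
      have h0 := Subgroup.mem_normalizer_iff.mp (hHN hh) (f.symm c)
      have hfc : c ∈ C' ↔ f.symm c ∈ C := by
        constructor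
        · rintro ⟨w, hw, rfl⟩
          simpa using hw
        · intro h
          exact ⟨_, h, by simp⟩
      rw [hfc]
      have hfc2 : f.toMonoidHom h * c * (f.toMonoidHom h)⁻¹ ∈ C' ↔ h * f.symm c * h⁻¹ ∈ C := by
        constructor
        · rintro ⟨w, hw, hw2⟩
          have : w = h * f.symm c * h⁻¹ := by
            apply f.injective
            rw [map_mul, map_mul, map_inv, f.apply_symm_apply]
            exact hw2
          rwa [← this]
        · intro h2
          refine ⟨_, h2, ?_⟩
          show f _ = _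
          rw [map_mul, map_mul, map_inv, f.apply_symm_apply]
          rfl
      rw [hfc2]
      exact h0
    · exact isCyclic_of_injective (C.equivMapOfInjective f.toMonoidHom f.injective).symm.toMonoidHom
        (C.equivMapOfInjective f.toMonoidHom f.injective).symm.injective
    · rw [show Nat.card C' = Nat.card C from
        Nat.card_congr (C.equivMapOfInjective f.toMonoidHom f.injective).symm.toEquiv]
      exact hcop
    · apply relIndex_eq_pow p hp (Subgroup.map_mono hCH)
      · rintro _ ⟨h, hh, rfl⟩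
        rw [Subgroup.mem_normalizer_iff]
        intro c
        have h0 := Subgroup.mem_normalizer_iff.mp (hHN hh) (f.symm c)
        have hfc : c ∈ C' ↔ f.symm c ∈ C := by
          constructor
          · rintro ⟨w, hw, rfl⟩
            simpa using hw
          · intro h
            exact ⟨_, h, by simp⟩
        rw [hfc]
        have hfc2 : f.toMonoidHom h * c * (f.toMonoidHom h)⁻¹ ∈ C' ↔ h * f.symm c * h⁻¹ ∈ C := by
          constructor
          · rintro ⟨w, hw, hw2⟩
            have : w = h * f.symm c * h⁻¹ := by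
              apply f.injective
              rw [map_mul, map_mul, map_inv, f.apply_symm_apply]
              exact hw2
            rwa [← this]
          · intro h2
            refine ⟨_, h2, ?_⟩
            show f _ = _
            rw [map_mul, map_mul, map_inv, f.apply_symm_apply]
            rfl
        rw [hfc2]
        exact h0
      · rintro _ ⟨h, hh, rfl⟩
        refine ⟨k, _, pow_mem_of_relIndex hHN hk hh, ?_⟩
        simp
  apply hH'.mono hp
  intro l hl
  refine ⟨_, hL l hl, ?_⟩
  show a * (a⁻¹ * l * a) * a⁻¹ = l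
  group

variable [Fintype G]

/-- The `ℤ`-span of the permutation characters of quasi-elementary subgroups. -/
def qeSpan (p : ℕ) (G : Type u) [Group G] [Fintype G] : AddSubgroup (G → ℂ) :=
  AddSubgroup.closure {f | ∃ H : Subgroup G, IsQE p H ∧ f = indFun H (fun _ => 1)}

theorem gen_mem_qeSpan {p : ℕ} {H : Subgroup G} (h : IsQE p H) :
    indFun H (fun _ => (1 : ℂ)) ∈ qeSpan p G :=
  AddSubgroup.subset_closure ⟨H, h, rfl⟩

/-- Product of two transitive permutation characters with quasi-elementary stabilizers. -/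
theorem mul_gen_mem {p : ℕ} (hp : p.Prime) {H K : Subgroup G} (hH : IsQE p H) (hK : IsQE p K) :
    indFun H (fun _ => (1 : ℂ)) * indFun K (fun _ => (1 : ℂ)) ∈ qeSpan p G := by
  classical
  let X := (G ⧸ H) × (G ⧸ K)
  letI : Fintype (MulAction.orbitRel.Quotient G X) := Fintype.ofFinite _
  let r : MulAction.orbitRel.Quotient G X → X := Quotient.out
  have hr : ∀ q, (Quotient.mk'' (r q) : MulAction.orbitRel.Quotient G X) = q := fun q => Quotient.out_eq' q
  have hU : ∀ ω : X, ∀ g, g ∈ MulAction.stabilizer G ω ↔ g • ω = ω := fun ω g => MulAction.mem_stabilizer_iff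
  have heq : indFun H (fun _ => (1 : ℂ)) * indFun K (fun _ => (1 : ℂ)) =
      ∑ q, indFun (MulAction.stabilizer G (r q)) (fun _ => (1 : ℂ)) := by
    funext g
    rw [Pi.mul_apply, Finset.sum_apply]
    rw [indFun_one_eq_card_fixed_quotient H g, indFun_one_eq_card_fixed_quotient K g]
    have h1 : Nat.card (MulAction.fixedBy X g) =
        Nat.card (MulAction.fixedBy (G ⧸ H) g) * Nat.card (MulAction.fixedBy (G ⧸ K) g) := by
      rw [← Nat.card_prod]
      apply Nat.card_congr
      refine ⟨fun z => ⟨⟨z.1.1, ?_⟩, ⟨z.1.2, ?_⟩⟩, fun z => ⟨(z.1.1, z.2.1), ?_⟩, ?_, ?_⟩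
      · have := z.2
        rw [MulAction.mem_fixedBy] at this ⊢
        exact congrArg Prod.fst this
      · have := z.2
        rw [MulAction.mem_fixedBy] at this ⊢
        exact congrArg Prod.snd this
      · rw [MulAction.mem_fixedBy]
        have h1 := z.1.2
        have h2 := z.2.2
        rw [MulAction.mem_fixedBy] at h1 h2
        exact Prod.ext h1 h2
      · intro z; rfl
      · intro z; rfl
    have h2 := card_fixed_eq_sum_orbits r hr g
    rw [finsum_eq_sum_of_fintype] at h2
    rw [← Nat.cast_mul, ← h1, h2, Nat.cast_sum]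
    refine Finset.sum_congr rfl fun q _ => ?_
    rw [indFun_one_eq_card_fixed_orbit (r q) _ (hU (r q))]
  rw [heq]
  refine AddSubgroup.sum_mem _ fun q _ => gen_mem_qeSpan ?_
  obtain ⟨u, v⟩ := r q
  induction u using QuotientGroup.induction_on with
  | H a =>
    apply hH.of_conj_le hp a
    intro l hl
    have h1 := MulAction.mem_stabilizer_iff.mp hl
    have h2 : l • ((a : G) : G ⧸ H) = ((a : G) : G ⧸ H) := congrArg Prod.fst h1
    rw [MulAction.Quotient.smul_coe, QuotientGroup.eq] at h2
    have h3 := H.inv_mem h2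
    have h4 : ((l • a)⁻¹ * a)⁻¹ = a⁻¹ * l * a := by
      show ((l * a)⁻¹ * a)⁻¹ = a⁻¹ * l * a
      group
    rwa [h4] at h3

theorem mul_gen_mem' {p : ℕ} (hp : p.Prime) {f g : G → ℂ} (hf : f ∈ qeSpan p G) (hg : g ∈ qeSpan p G) :
    f * g ∈ qeSpan p G := by
  have step : ∀ {H : Subgroup G}, IsQE p H → f * indFun H (fun _ => (1 : ℂ)) ∈ qeSpan p G := by
    intro H hH
    induction hf using AddSubgroup.closure_induction with
    | mem x hx =>
      obtain ⟨K, hK, rfl⟩ := hx
      exact mul_gen_mem hp hK hH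
    | zero => simp
    | add a b _ _ ha hb =>
      rw [add_mul]
      exact (qeSpan p G).add_mem ha hb
    | neg a _ ha =>
      rw [neg_mul]
      exact (qeSpan p G).neg_mem ha
  induction hg using AddSubgroup.closure_induction with
  | mem x hx =>
    obtain ⟨K, hK, rfl⟩ := hx
    exact step hK
  | zero => simp
  | add a b _ _ ha hb =>
    rw [mul_add]
    exact (qeSpan p G).add_mem ha hb
  | neg a _ ha =>
    rw [mul_neg]
    exact (qeSpan p G).neg_mem ha

/-- Some multiple of the trivial character prime to `p` lies in the quasi-elementary span. -/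
theorem exists_const_mem_qeSpan {p : ℕ} (hp : p.Prime) :
    ∃ m : ℕ, ¬ p ∣ m ∧ (fun _ : G => (m : ℂ)) ∈ qeSpan p G := by
  classical
  choose H hH n hn hpn using fun x : G => exists_qe_not_dvd x p hp
  let a : ℕ := ∏ x : G, n x
  have hpa : ¬ p ∣ a := by
    intro h
    obtain ⟨x, _, hx⟩ := (Prime.dvd_finsetProd_iff hp.prime _).mp h
    exact hpn x hx
  let g : G → G → ℂ := fun x => (a / n x) • indFun (H x) (fun _ => (1 : ℂ))
  have hg : ∀ x, g x ∈ qeSpan p G := fun x => AddSubgroup.nsmul_mem _ (gen_mem_qeSpan (hH x)) _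
  have hgx : ∀ x, g x x = a := by
    intro x
    show ((a / n x : ℕ) • indFun (H x) (fun _ => (1 : ℂ))) x = a
    rw [Pi.smul_apply, hn x, nsmul_eq_mul, ← Nat.cast_mul, Nat.div_mul_cancel]
    exact Finset.dvd_prod_of_mem _ (Finset.mem_univ x)
  have key : ∀ s : Finset G, ∃ r ∈ qeSpan p G, ∏ x ∈ s, ((fun _ : G => (a : ℂ)) - g x) =
      (fun _ : G => ((a ^ s.card : ℕ) : ℂ)) - r := by
    intro s
    induction s using Finset.induction_on with
    | empty =>
      refine ⟨0, (qeSpan p G).zero_mem, ?_⟩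
      funext y
      simp
    | insert x s hx ih =>
      obtain ⟨r, hr, hrs⟩ := ih
      rw [Finset.prod_insert hx, hrs, Finset.card_insert_of_notMem hx]
      refine ⟨(a ^ s.card) • g x + a • r - g x * r, ?_, ?_⟩
      · exact (qeSpan p G).sub_mem ((qeSpan p G).add_mem (AddSubgroup.nsmul_mem _ (hg x) _)
          (AddSubgroup.nsmul_mem _ hr _)) (mul_gen_mem' hp (hg x) hr)
      · funext y
        simp only [Pi.mul_apply, Pi.sub_apply, Pi.add_apply, Pi.smul_apply]
        simp only [nsmul_eq_mul]
        push_cast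
        ring
  obtain ⟨r, hr, hrs⟩ := key Finset.univ
  refine ⟨a ^ (Finset.univ : Finset G).card, fun h => hpa (hp.dvd_of_dvd_pow h), ?_⟩
  have hzero : ∏ x : G, ((fun _ : G => (a : ℂ)) - g x) = 0 := by
    funext y
    rw [Finset.prod_apply, Pi.zero_apply]
    apply Finset.prod_eq_zero (Finset.mem_univ y)
    rw [Pi.sub_apply, hgx, sub_self]
  rw [hzero] at hrs
  have : (fun _ : G => ((a ^ (Finset.univ : Finset G).card : ℕ) : ℂ)) = r := by
    have := sub_eq_zero.mp hrs.symm
    exact this
  rw [this]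
  exact hr

/-- Elements of the span are explicit sums over subgroups. -/
theorem exists_coeffs_of_mem_qeSpan [Fintype (Subgroup G)] {p : ℕ} {f : G → ℂ} (hf : f ∈ qeSpan p G) :
    ∃ a : Subgroup G → ℤ, (∀ H, a H ≠ 0 → IsQE p H) ∧
      f = ∑ H : Subgroup G, (a H : ℂ) • indFun H (fun _ => 1) := by
  classical
  induction hf using AddSubgroup.closure_induction with
  | mem x hx =>
    obtain ⟨K, hK, rfl⟩ := hx
    refine ⟨fun L => if L = K then 1 else 0, ?_, ?_⟩
    · intro L hL
      by_cases h : L = K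
      · rwa [h]
      · simp [h] at hL
    · rw [Finset.sum_eq_single K]
      · simp
      · intro L _ hL
        simp [hL]
      · simp
  | zero =>
    exact ⟨0, by simp, by simp⟩
  | add x y _ _ hx hy =>
    obtain ⟨a, ha, rfl⟩ := hx
    obtain ⟨b, hb, rfl⟩ := hy
    refine ⟨a + b, ?_, ?_⟩
    · intro H hH
      by_cases h : a H = 0
      · apply hb
        intro h2
        apply hH
        simp [h, h2]
      · exact ha H h
    · rw [← Finset.sum_add_distrib]
      refine Finset.sum_congr rfl fun H _ => ?_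
      simp [add_smul]
  | neg x _ hx =>
    obtain ⟨a, ha, rfl⟩ := hx
    refine ⟨-a, ?_, ?_⟩
    · intro H hH
      apply ha
      simpa using hH
    · rw [← Finset.sum_neg_distrib]
      refine Finset.sum_congr rfl fun H _ => ?_
      simp

end Span

end Cfsg.Agent.Lib.BrauerInd
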