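import Mathlib
import Cfsg.Prelude.Def_Blocks
import Cfsg.Agent.Lib.BrauerInd

/-!
# Quasi-elementary groups are spanned by characters induced from elementary subgroups
-/

set_option autoImplicit false
set_option linter.style.haveILetI false
set_option linter.unusedSectionVars false
set_option linter.unusedVariables false

namespace Cfsg.Agent.Lib.BrauerElem

open scoped ComplexConjugate
open Module Cfsg Cfsg.Agent.Lib.CharOps Cfsg.Agent.Lib.CharIrr Cfsg.Agent.Lib.CharGen
  Cfsg.Agent.Lib.CharPermRep Cfsg.Agent.Lib.CharBlockOrth Cfsg.Agent.Lib.BrauerInd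
  Cfsg.Agent.Lib.CharKernel Cfsg.Agent.Lib.CharCliff Cfsg.Agent.Lib.CharNormal

universe u

section Trans

variable {H : Type u} [Group H] [Fintype H]

/-- Transitivity of induction. -/
theorem indFun_trans_aux (T : Subgroup H) [Fintype T] (E : Subgroup T) (θ : E → ℂ) (E' : Subgroup H)
    (e : E ≃* E') (he : ∀ x : E, ((e x : E') : H) = ((x : T) : H)) :
    indFun T (indFun E θ) = indFun E' (fun y => θ (e.symm y)) := by
  classical
  set θ' : E' → ℂ := fun y => θ (e.symm y) with hθ'
  have hT0 : (Nat.card T : ℂ) ≠ 0 := by exact_mod_cast Nat.card_pos.ne'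
  have hcard : Nat.card E' = Nat.card E := Nat.card_congr e.symm.toEquiv
  have hmem : ∀ t : T, (t : H) ∈ E' ↔ t ∈ E := by
    intro t
    constructor
    · intro h
      have h1 := he (e.symm ⟨t, h⟩)
      rw [e.apply_symm_apply] at h1
      have h2 : ((e.symm ⟨t, h⟩ : E) : T) = t := Subtype.ext h1.symm
      rw [← h2]
      exact (e.symm ⟨t, h⟩).2
    · intro h
      rw [← he ⟨t, h⟩]
      exact (e ⟨t, h⟩).2
  have hval : ∀ (t : T) (ht : t ∈ E), extendByZero E' θ' (t : H) = extendByZero E θ t := by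
    intro t ht
    rw [extendByZero_of_mem _ _ ((hmem t).mpr ht), extendByZero_of_mem _ _ ht]
    show θ (e.symm _) = _
    congr 1
    apply e.injective
    rw [e.apply_symm_apply]
    apply Subtype.ext
    exact (he ⟨t, ht⟩).symm
  have hval0 : ∀ y : H, y ∉ E' → extendByZero E' θ' y = 0 := fun y hy => extendByZero_of_not_mem _ _ hy
  have hEle : ∀ y : H, y ∈ E' → y ∈ T := by
    intro y hy
    have h1 := he (e.symm ⟨y, hy⟩)
    rw [e.apply_symm_apply] at h1
    have h2 : y = ((e.symm ⟨y, hy⟩ : E) : T) := h1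
    rw [h2]
    exact ((e.symm ⟨y, hy⟩ : E) : T).2
  have step : ∀ y : H, extendByZero T (indFun E θ) y =
      (Nat.card E : ℂ)⁻¹ * ∑ t : T, extendByZero E' θ' ((t : H)⁻¹ * y * t) := by
    intro y
    by_cases hy : y ∈ T
    · rw [extendByZero_of_mem _ _ hy, indFun_apply]
      congr 1
      refine Finset.sum_congr rfl fun t _ => ?_
      by_cases ht : t⁻¹ * ⟨y, hy⟩ * t ∈ E
      · have := hval _ ht
        rw [← this]
        rfl
      · rw [extendByZero_of_not_mem _ _ ht, hval0]
        intro h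
        apply ht
        have := (hmem (t⁻¹ * ⟨y, hy⟩ * t)).mp (by simpa using h)
        exact this
    · rw [extendByZero_of_not_mem _ _ hy]
      symm
      apply mul_eq_zero_of_right
      refine Finset.sum_eq_zero fun t _ => hval0 _ fun h => hy ?_
      have h2 := hEle _ h
      have h3 := T.mul_mem (T.mul_mem t.2 h2) (T.inv_mem t.2)
      simpa [mul_assoc] using h3
  funext g
  rw [indFun_apply, indFun_apply, hcard]
  simp_rw [step]
  rw [← Finset.mul_sum, Finset.sum_comm]
  have h4 : ∀ t : T, ∑ x : H, extendByZero E' θ' ((t : H)⁻¹ * (x⁻¹ * g * x) * t) =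
      ∑ x : H, extendByZero E' θ' (x⁻¹ * g * x) := by
    intro t
    apply Fintype.sum_equiv (Equiv.mulRight (t : H))
    intro x
    congr 1
    simp [mul_assoc]
  simp_rw [h4]
  rw [Finset.sum_const, Finset.card_univ, nsmul_eq_mul]
  rw [← Nat.card_eq_fintype_card]
  field_simp

theorem indFun_trans (T : Subgroup H) [Fintype T] (E : Subgroup T) (θ : E → ℂ) :
    indFun T (indFun E θ) = indFun (E.map T.subtype)
      (fun y => θ ((E.equivMapOfInjective T.subtype T.subtype_injective).symm y)) :=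
  indFun_trans_aux T E θ _ _ (fun x => by simp)

/-- Elementary groups are preserved by isomorphisms. -/
theorem isElementary_of_equiv {A B : Type u} [Group A] [Group B] [Finite A] {p : ℕ} (e : A ≃* B)
    (h : IsElementary p A) : IsElementary p B := by
  obtain ⟨x, hx, hc, k, hk⟩ := h
  haveI : Finite B := Finite.of_equiv _ e.toEquiv
  refine ⟨e x, ?_, ?_, k, ?_⟩
  · rw [Subgroup.mem_center_iff] at hx ⊢
    intro g
    obtain ⟨a, rfl⟩ := e.surjective g
    rw [← map_mul, ← map_mul, hx]
  · rwa [MulEquiv.orderOf_eq]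
  · have h1 := Subgroup.card_mul_index (Subgroup.zpowers (e x))
    have h2 := Subgroup.card_mul_index (Subgroup.zpowers x)
    rw [Nat.card_zpowers] at h1 h2
    rw [MulEquiv.orderOf_eq] at h1
    have h3 : Nat.card B = Nat.card A := Nat.card_congr e.symm.toEquiv
    rw [h3, ← h2] at h1
    rw [← hk]
    exact Nat.eq_of_mul_eq_mul_left (orderOf_pos x) h1

/-- The span of characters induced from elementary subgroups. -/
def elemSpan (p : ℕ) (H : Type u) [Group H] [Fintype H] : AddSubgroup (H → ℂ) :=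
  AddSubgroup.closure {f | ∃ (E : Subgroup H) (θ : E → ℂ), IsElementary p E ∧ IsCharacter E θ ∧ f = indFun E θ}

/-- Induction maps the elementary span into the elementary span. -/
theorem indFun_mem_elemSpan {p : ℕ} (T : Subgroup H) [Fintype T] {f : T → ℂ} (hf : f ∈ elemSpan p T) :
    indFun T f ∈ elemSpan p H := by
  induction hf using AddSubgroup.closure_induction with
  | mem x hx =>
    obtain ⟨E, θ, hE, hθ, rfl⟩ := hx
    rw [indFun_trans]
    refine AddSubgroup.subset_closure ⟨_, _, ?_, ?_, rfl⟩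
    · exact isElementary_of_equiv (E.equivMapOfInjective T.subtype T.subtype_injective) hE
    · exact isCharacter_comp (E.equivMapOfInjective T.subtype T.subtype_injective).symm.toMonoidHom hθ
  | zero =>
    rw [indFun_zero]
    exact (elemSpan p H).zero_mem
  | add a b _ _ ha hb =>
    rw [indFun_add]
    exact (elemSpan p H).add_mem ha hb
  | neg a _ ha =>
    have : indFun T (-a) = - indFun T a := by
      have := indFun_smul T (-1) a
      simpa using this
    rw [this]
    exact (elemSpan p H).neg_mem ha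

end Trans

section Numeric

/-- The arithmetic needed to find a Sylow subgroup on which an automorphism of `p`-power order acts without fixed points. -/
theorem exists_prime_dvd_not_dvd {n v p k : ℕ} (hp : p.Prime) (hc : Nat.Coprime n p)
    (h : n ∣ (∑ i ∈ Finset.range (p ^ k), (v + 1) ^ i) * v) (hv : ¬ n ∣ v) :
    ∃ r, r.Prime ∧ r ∣ n ∧ ¬ r ∣ v := by
  by_contra hcon
  push Not at hcon
  apply hv
  have hcop : Nat.Coprime n (∑ i ∈ Finset.range (p ^ k), (v + 1) ^ i) := by
    by_contra hnc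
    obtain ⟨r, hr, hrn, hrS⟩ := Nat.Prime.not_coprime_iff_dvd.mp hnc
    have hrv := hcon r hr hrn
    haveI := Fact.mk hr
    have hv0 : ((v : ℕ) : ZMod r) = 0 := (ZMod.natCast_eq_zero_iff _ _).mpr hrv
    have hS : ((∑ i ∈ Finset.range (p ^ k), (v + 1) ^ i : ℕ) : ZMod r) = ((p ^ k : ℕ) : ZMod r) := by
      push_cast
      rw [hv0]
      simp
    rw [(ZMod.natCast_eq_zero_iff _ _).mpr hrS] at hS
    have h1 : r ∣ p ^ k := (ZMod.natCast_eq_zero_iff _ _).mp hS.symm
    have h2 : r ∣ p := hr.dvd_of_dvd_pow h1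
    have h3 : r = p := (Nat.prime_dvd_prime_iff_eq hr hp).mp h2
    rw [h3] at hrn
    have := Nat.Coprime.eq_one_of_dvd hc.symm hrn
    exact hp.one_lt.ne' this
  exact hcop.dvd_of_dvd_mul_left h

end Numeric

section Reduction

variable {H : Type u} [Group H] [Fintype H]

/-- A non-central cyclic normal `p'`-subgroup of `p`-power index contains a Sylow subgroup with
no invariant nontrivial linear characters. -/
theorem exists_reduction {p : ℕ} (hp : p.Prime) (C : Subgroup H) [hN : C.Normal] [hcyc : IsCyclic C]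
    (hcop : Nat.Coprime (Nat.card C) p) (k : ℕ) (hk : ∀ h : H, h ^ (p ^ k) ∈ C)
    (hnc : ¬ ∀ c ∈ C, ∀ h : H, Commute h c) :
    ∃ g h₀ : H, g ≠ 1 ∧ g ∈ Subgroup.zpowers (h₀ * g * h₀⁻¹ * g⁻¹) ∧ (Subgroup.zpowers g).Normal ∧
      Nat.Coprime (orderOf g) (Subgroup.zpowers g).index := by
  classical
  haveI := Fact.mk hp
  obtain ⟨⟨c, hcC⟩, hgen⟩ := IsCyclic.exists_generator (α := C)
  have hCz : C = Subgroup.zpowers c := by
    apply le_antisymm
    · intro x hx
      obtain ⟨i, hi⟩ := Subgroup.mem_zpowers_iff.mp (hgen ⟨x, hx⟩)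
      have : c ^ i = x := congrArg Subtype.val hi
      rw [← this]
      exact Subgroup.zpow_mem_zpowers c i
    · rw [Subgroup.zpowers_le]
      exact hcC
  have hn : orderOf c = Nat.card C := by rw [hCz, Nat.card_zpowers]
  have hpowmem : ∀ {x y : H}, x ∈ C → ∃ i : ℕ, x = c ^ i := by
    intro x y hx
    rw [hCz] at hx
    obtain ⟨i, hi⟩ := Submonoid.mem_powers_iff _ _ |>.mp (mem_powers_iff_mem_zpowers.mpr hx)
    exact ⟨i, hi.symm⟩
  -- the non-centralizing element
  have hnc2 : ∃ h₀ : H, ¬ Commute h₀ c := by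
    by_contra hcon
    push Not at hcon
    apply hnc
    intro x hx h
    rw [hCz] at hx
    obtain ⟨i, rfl⟩ := Subgroup.mem_zpowers_iff.mp hx
    exact (hcon h).zpow_right i
  obtain ⟨h₀, hh₀⟩ := hnc2
  obtain ⟨u, hu⟩ := hpowmem (y := 1) (hN.conj_mem c hcC h₀)
  have hcomm_iff : h₀ * c * h₀⁻¹ = c → Commute h₀ c := by
    intro h
    show h₀ * c = c * h₀
    calc h₀ * c = (h₀ * c * h₀⁻¹) * h₀ := by group
      _ = c * h₀ := by rw [h]
  have hu0 : u ≠ 0 := by
    rintro rfl
    apply hh₀
    apply hcomm_iff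
    have h1 : h₀ * c * h₀⁻¹ = 1 := by simpa using hu
    have h2 : c = 1 := by
      have : h₀⁻¹ * (h₀ * c * h₀⁻¹) * h₀ = h₀⁻¹ * 1 * h₀ := by rw [h1]
      simpa [mul_assoc] using this
    rw [h2]
    simp
  obtain ⟨v, rfl⟩ : ∃ v, u = v + 1 := ⟨u - 1, by omega⟩
  have hiter : ∀ j : ℕ, h₀ ^ j * c * (h₀ ^ j)⁻¹ = c ^ ((v + 1) ^ j) := by
    intro j
    induction j with
    | zero => simp
    | succ j ih =>
      have : h₀ ^ (j + 1) * c * (h₀ ^ (j + 1))⁻¹ = h₀ * (h₀ ^ j * c * (h₀ ^ j)⁻¹) * h₀⁻¹ := by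
        rw [pow_succ', mul_inv_rev]
        simp only [mul_assoc]
      rw [this, ih, ← conj_pow, hu, ← pow_mul, pow_succ']
  have hcentN : Commute (h₀ ^ (p ^ k)) c := by
    have h1 := hk h₀
    rw [hCz] at h1
    obtain ⟨i, hi⟩ := Subgroup.mem_zpowers_iff.mp h1
    rw [← hi]
    exact (Commute.refl c).zpow_left i
  have hpow : c ^ ((v + 1) ^ (p ^ k)) = c := by
    rw [← hiter]
    have := hcentN.eq
    rw [this]
    group
  have hdvd : orderOf c ∣ (∑ i ∈ Finset.range (p ^ k), (v + 1) ^ i) * v := by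
    rw [← geom_sum_mul_add v (p ^ k), pow_succ] at hpow
    apply orderOf_dvd_of_pow_eq_one
    exact mul_eq_right.mp hpow
  have hnv : ¬ orderOf c ∣ v := by
    intro h
    apply hh₀
    apply hcomm_iff
    rw [hu, pow_succ, orderOf_dvd_iff_pow_eq_one.mp h, one_mul]
  rw [← hn] at hcop
  obtain ⟨r, hr, hrn, hrv⟩ := exists_prime_dvd_not_dvd hp hcop hdvd hnv
  haveI := Fact.mk hr
  set n := orderOf c with hndef
  have hn0 : n ≠ 0 := (orderOf_pos c).ne'
  set a := n.factorization r with ha
  set n' := n / r ^ a with hn'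
  have hnn : r ^ a * n' = n := Nat.ordProj_mul_ordCompl_eq_self n r
  have ha0 : a ≠ 0 := by
    have : 1 ≤ n.factorization r := (hr.dvd_iff_one_le_factorization hn0).mp hrn
    omega
  have hn'0 : n' ≠ 0 := by
    rintro h
    rw [h, mul_zero] at hnn
    exact hn0 hnn.symm
  let g : H := c ^ n'
  have hordg : orderOf g = r ^ a := by
    have h1 : orderOf g = n / n' := orderOf_pow_of_dvd hn'0 ⟨r ^ a, by rw [mul_comm]; exact hnn.symm⟩
    rw [h1, ← hnn]
    exact Nat.mul_div_cancel _ (Nat.pos_of_ne_zero hn'0)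
  have hg1 : g ≠ 1 := by
    intro h
    rw [h, orderOf_one] at hordg
    have := Nat.one_lt_pow ha0 hr.one_lt
    omega
  have hconjg : ∀ h : H, ∃ i : ℤ, h * g * h⁻¹ = g ^ i := by
    intro h
    have h1 := hN.conj_mem c hcC h
    rw [hCz] at h1
    obtain ⟨i, hi⟩ := Subgroup.mem_zpowers_iff.mp h1
    refine ⟨i, ?_⟩
    show h * c ^ n' * h⁻¹ = (c ^ n') ^ i
    rw [← conj_pow, ← hi, ← zpow_natCast (c ^ i), ← zpow_natCast c, zpow_comm]
  have hnormal : (Subgroup.zpowers g).Normal := by
    constructor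
    intro x hx h
    obtain ⟨j, rfl⟩ := Subgroup.mem_zpowers_iff.mp hx
    obtain ⟨i, hi⟩ := hconjg h
    rw [← conj_zpow, hi]
    exact Subgroup.zpow_mem _ (Subgroup.zpow_mem_zpowers g i) j
  refine ⟨g, h₀, hg1, ?_, hnormal, ?_⟩
  · have h1 : h₀ * g * h₀⁻¹ * g⁻¹ = g ^ v := by
      show h₀ * c ^ n' * h₀⁻¹ * g⁻¹ = g ^ v
      rw [← conj_pow, hu, ← pow_mul, mul_comm, pow_mul]
      show g ^ (v + 1) * g⁻¹ = g ^ v
      rw [pow_succ, mul_inv_cancel_right]
    rw [h1]
    have h2 : Nat.Coprime v (orderOf g) := by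
      rw [hordg]
      exact Nat.Coprime.pow_right _ ((Nat.Prime.coprime_iff_not_dvd hr).2 hrv).symm
    obtain ⟨m, hm⟩ := exists_pow_eq_self_of_coprime (x := g) h2
    exact Subgroup.mem_zpowers_iff.mpr ⟨(m : ℤ), by rw [zpow_natCast]; exact hm⟩
  · -- the index
    have hP : IsPGroup p (H ⧸ C) := by
      intro q
      induction q using QuotientGroup.induction_on with
      | H x =>
        refine ⟨k, ?_⟩
        rw [← QuotientGroup.mk_pow, QuotientGroup.eq_one_iff]
        exact hk x
    obtain ⟨j, hj⟩ := IsPGroup.iff_card.mp hP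
    have hCidx : C.index = p ^ j := by rw [Subgroup.index_eq_card, hj]
    have h1 := Subgroup.card_mul_index (Subgroup.zpowers g)
    have h2 := Subgroup.card_mul_index C
    rw [Nat.card_zpowers, hordg] at h1
    rw [← hn, ← hnn, hCidx] at h2
    have h3 : (Subgroup.zpowers g).index = n' * p ^ j := by
      have h4 : r ^ a * (Subgroup.zpowers g).index = r ^ a * (n' * p ^ j) := by
        rw [h1, ← h2, mul_assoc]
      exact Nat.eq_of_mul_eq_mul_left (by positivity [hr.pos]) h4
    rw [hordg, h3]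
    apply Nat.Coprime.pow_left
    apply Nat.Coprime.mul_right
    · exact Nat.coprime_ordCompl hr hn0
    · apply Nat.Coprime.pow_right
      apply (Nat.coprime_primes hr hp).mpr
      intro h
      rw [h] at hrn
      exact (Nat.Prime.coprime_iff_not_dvd hp).1 hcop.symm hrn

end Reduction

section QEGroup

/-- A group with a normal cyclic `p'`-subgroup with `p`-group quotient. -/
def IsQEGroup (p : ℕ) (H : Type u) [Group H] : Prop :=
  ∃ C : Subgroup H, C.Normal ∧ IsCyclic C ∧ Nat.Coprime (Nat.card C) p ∧ ∃ k : ℕ, ∀ h : H, h ^ (p ^ k) ∈ C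

theorem IsQEGroup.sub {p : ℕ} {H : Type u} [Group H] [Finite H] (h : IsQEGroup p H) (T : Subgroup H) :
    IsQEGroup p T := by
  obtain ⟨C, hN, hc, hcop, k, hk⟩ := h
  let f : C.subgroupOf T →* C :=
    { toFun := fun x => ⟨(x : T), x.2⟩, map_one' := rfl, map_mul' := fun _ _ => rfl }
  have hf : Function.Injective f := by
    intro x y hxy
    have : ((x : T) : H) = (y : T) := congrArg (fun z : C => (z : H)) hxy
    exact Subtype.ext (Subtype.ext this)
  refine ⟨C.subgroupOf T, inferInstance, isCyclic_of_injective f hf, ?_, k, ?_⟩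
  · exact Nat.Coprime.coprime_dvd_left (Subgroup.card_dvd_of_injective f hf) hcop
  · intro t
    rw [Subgroup.mem_subgroupOf]
    simpa using hk t

theorem isQEGroup_of_isQE {G : Type u} [Group G] [Finite G] {p : ℕ} {H : Subgroup G} (h : IsQE p H) :
    IsQEGroup p H := by
  obtain ⟨C, hCH, hHN, hc, hcop, k, hk⟩ := h
  let f : C.subgroupOf H →* C :=
    { toFun := fun x => ⟨(x : H), x.2⟩, map_one' := rfl, map_mul' := fun _ _ => rfl }
  have hf : Function.Injective f := by
    intro x y hxy
    have : ((x : H) : G) = (y : H) := congrArg (fun z : C => (z : G)) hxy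
    exact Subtype.ext (Subtype.ext this)
  refine ⟨C.subgroupOf H, Subgroup.normal_subgroupOf_of_le_normalizer hHN, isCyclic_of_injective f hf, ?_, k, ?_⟩
  · exact Nat.Coprime.coprime_dvd_left (Subgroup.card_dvd_of_injective f hf) hcop
  · intro t
    rw [Subgroup.mem_subgroupOf]
    simpa using pow_mem_of_relIndex hHN hk t.2

/-- The whole group as an elementary subgroup. -/
theorem isElementary_top {H : Type u} [Group H] [Finite H] {p : ℕ} (h : IsElementary p H) :
    IsElementary p (⊤ : Subgroup H) :=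
  isElementary_of_equiv Subgroup.topEquiv.symm h

variable {H : Type u} [Group H] [Fintype H]

theorem indFun_top (χ : H → ℂ) (hχ : IsClassFunction H χ) :
    indFun (⊤ : Subgroup H) (fun x => χ x) = χ := by
  classical
  funext g
  rw [indFun_apply]
  have h1 : ∀ x : H, extendByZero (⊤ : Subgroup H) (fun x => χ x) (x⁻¹ * g * x) = χ g := by
    intro x
    rw [extendByZero_of_mem _ _ (Subgroup.mem_top _)]
    have := hχ g x⁻¹
    simpa using this
  simp_rw [h1]
  rw [Finset.sum_const, Finset.card_univ, nsmul_eq_mul, ← Nat.card_eq_fintype_card, Subgroup.card_top]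
  have : (Nat.card H : ℂ) ≠ 0 := by exact_mod_cast Nat.card_pos.ne'
  field_simp

theorem character_mem_elemSpan_of_elementary {p : ℕ} (h : IsElementary p H) {χ : H → ℂ} (hχ : IsCharacter H χ) :
    χ ∈ elemSpan p H := by
  rw [← indFun_top χ (IsCharacter.isClassFunction' hχ)]
  exact AddSubgroup.subset_closure ⟨⊤, _, isElementary_top h, isCharacter_restrict ⊤ hχ, rfl⟩

/-- If all irreducible characters are in the span then so are all characters. -/
theorem character_mem_of_irr {p : ℕ} (h : ∀ χ, IsIrrCharacter H χ → χ ∈ elemSpan p H) {χ : H → ℂ}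
    (hχ : IsCharacter H χ) : χ ∈ elemSpan p H := by
  classical
  rw [classFunction_expand (IsCharacter.isClassFunction' hχ)]
  refine AddSubgroup.sum_mem _ fun ψ _ => ?_
  obtain ⟨m, hm⟩ := exists_nat_classInner hχ (IsIrrCharacter.isCharacter' ψ.2)
  rw [hm]
  have : (m : ℂ) • (ψ : H → ℂ) = m • (ψ : H → ℂ) := by
    funext g
    simp
  rw [this]
  exact AddSubgroup.nsmul_mem _ (h _ ψ.2) _

/-- Step A of the reduction. -/
theorem irr_mem_of_not_ker {p : ℕ}
    (hIH : ∀ (T : Subgroup H) [Fintype T], T ≠ ⊤ → ∀ χ, IsIrrCharacter T χ → χ ∈ elemSpan p T)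
    {g h₀ : H} [hN : (Subgroup.zpowers g).Normal] (hw : g ∈ Subgroup.zpowers (h₀ * g * h₀⁻¹ * g⁻¹))
    {ψ : H → ℂ} (hψ : IsIrrCharacter H ψ) (hker : ∃ r ∈ Subgroup.zpowers g, ψ r ≠ ψ 1) :
    ψ ∈ elemSpan p H := by
  classical
  letI : Fintype (Subgroup.zpowers g) := Fintype.ofFinite _
  obtain ⟨r₀, hr₀, hne⟩ := hker
  have hcon : ∃ l : IrrCharacter (Subgroup.zpowers g),
      classInner (fun r : Subgroup.zpowers g => ψ r) (l : Subgroup.zpowers g → ℂ) ≠ 0 ∧
        ∃ r, (l : Subgroup.zpowers g → ℂ) r ≠ (l : Subgroup.zpowers g → ℂ) 1 := by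
    by_contra hcon
    push Not at hcon
    apply hne
    have hα := isCharacter_restrict (Subgroup.zpowers g) (IsIrrCharacter.isCharacter' hψ)
    have hexp := classFunction_expand (IsCharacter.isClassFunction' hα)
    have h1 := congrFun hexp ⟨r₀, hr₀⟩
    have h2 := congrFun hexp 1
    simp only [Finset.sum_apply, Pi.smul_apply, smul_eq_mul] at h1 h2
    rw [show ψ r₀ = _ from h1, show ψ 1 = _ from h2]
    refine Finset.sum_congr rfl fun l _ => ?_
    by_cases h : classInner (fun r : Subgroup.zpowers g => ψ r) (l : Subgroup.zpowers g → ℂ) = 0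
    · rw [h, zero_mul, zero_mul]
    · rw [hcon l h]
  obtain ⟨l, hl, r, hr⟩ := hcon
  have hcomm : ∀ a b : Subgroup.zpowers g, a * b = b * a := fun a b => mul_comm' a b
  have hl1 : (l : Subgroup.zpowers g → ℂ) 1 = 1 := (Cfsg.Agent.Lib.CharAb.commutative_iff_apply_one.mp hcomm) l
  let lam := Cfsg.Agent.Lib.CharAb.homOfDegreeOne (IsIrrCharacter.isCharacter' l.2) hl1
  have hlam : ∀ x, ((lam x : ℂˣ) : ℂ) = (l : Subgroup.zpowers g → ℂ) x :=
    fun x => Cfsg.Agent.Lib.CharAb.homOfDegreeOne_apply _ _ x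
  obtain ⟨ψ', hψ', hind, _⟩ := clifford_corr (Subgroup.zpowers g) hψ l.2 hl
  have hT : inertia (Subgroup.zpowers g) (l : Subgroup.zpowers g → ℂ) ≠ ⊤ := by
    intro htop
    have hh₀ : h₀ ∈ inertia (Subgroup.zpowers g) (l : Subgroup.zpowers g → ℂ) := by
      rw [htop]; exact Subgroup.mem_top _
    have hconj : conjFun (Subgroup.zpowers g) (l : Subgroup.zpowers g → ℂ) h₀ = l := hh₀
    let g' : Subgroup.zpowers g := ⟨g, Subgroup.mem_zpowers g⟩
    have h1 := congrFun hconj g'
    rw [conjFun_apply] at h1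
    set a : Subgroup.zpowers g := ⟨h₀ * (g' : H) * h₀⁻¹, hN.conj_mem _ g'.2 h₀⟩ with ha
    have h2 : lam a = lam g' := by
      apply Units.ext
      rw [hlam, hlam]
      exact h1
    let w : Subgroup.zpowers g := a * g'⁻¹
    have hw1 : lam w = 1 := by
      show lam (a * g'⁻¹) = 1
      rw [map_mul, map_inv, h2, mul_inv_cancel]
    obtain ⟨i, hi⟩ := Subgroup.mem_zpowers_iff.mp hw
    have hgw : g' = w ^ i := by
      apply Subtype.ext
      rw [Subgroup.coe_zpow]
      exact hi.symm
    have hlg : lam g' = 1 := by rw [hgw, map_zpow, hw1, one_zpow]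
    have hr1 : lam r = 1 := by
      obtain ⟨j, hj⟩ := Subgroup.mem_zpowers_iff.mp r.2
      have : r = g' ^ j := by
        apply Subtype.ext
        rw [Subgroup.coe_zpow]
        exact hj.symm
      rw [this, map_zpow, hlg, one_zpow]
    apply hr
    rw [hl1, ← hlam, hr1]
    simp
  letI : Fintype (inertia (Subgroup.zpowers g) (l : Subgroup.zpowers g → ℂ)) := Fintype.ofFinite _
  have hmemT := hIH _ hT ψ' hψ'
  rw [hind]
  exact indFun_mem_elemSpan _ hmemT

/-- Restriction to a complement of a common kernel preserves inner products. -/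
theorem inner_restrict_complement {R X : Subgroup H} (hc : R.IsComplement' X) [Fintype X] {χ ψ : H → ℂ}
    (hχ : IsCharacter H χ) (hψ : IsCharacter H ψ)
    (hχR : ∀ r ∈ R, χ r = χ 1) (hψR : ∀ r ∈ R, ψ r = ψ 1) :
    classInner (fun x : X => χ x) (fun x : X => ψ x) = classInner χ ψ := by
  classical
  letI : Fintype R := Fintype.ofFinite _
  rw [classInner, classInner]
  have hbij : Function.Bijective (fun x : ↥(R : Set H) × ↥(X : Set H) => x.1.1 * x.2.1) := hc
  have h1 := Function.Bijective.sum_comp hbij (fun h => χ h * conj (ψ h))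
  have hcard := hc.card_mul_card
  have hR0 : (Nat.card R : ℂ) ≠ 0 := by exact_mod_cast Nat.card_pos.ne'
  have hX0 : (Nat.card X : ℂ) ≠ 0 := by exact_mod_cast Nat.card_pos.ne'
  have h2 : ∑ h : H, χ h * conj (ψ h) = (Nat.card R : ℂ) * ∑ x : X, χ x * conj (ψ x) := by
    rw [← h1, Fintype.sum_prod_type]
    have h3 : ∀ (r : (R : Set H)) (x : (X : Set H)),
        χ (r.1 * x.1) * conj (ψ (r.1 * x.1)) = χ x.1 * conj (ψ x.1) := by
      intro r x
      rw [apply_mul_of_ker R hχ hχR r.2, apply_mul_of_ker R hψ hψR r.2]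
    simp_rw [h3]
    rw [Finset.sum_const, Finset.card_univ, nsmul_eq_mul]
    congr 1
    · congr 1
      rw [← Nat.card_eq_fintype_card]
      rfl
  rw [h2, ← hcard]
  push_cast
  field_simp

/-- Step B of the reduction. -/
theorem irr_mem_of_ker {p : ℕ}
    (hIH : ∀ (T : Subgroup H) [Fintype T], T ≠ ⊤ → ∀ χ, IsIrrCharacter T χ → χ ∈ elemSpan p T)
    {g h₀ : H} [hN : (Subgroup.zpowers g).Normal] (hw : g ∈ Subgroup.zpowers (h₀ * g * h₀⁻¹ * g⁻¹))
    {X : Subgroup H} (hc : (Subgroup.zpowers g).IsComplement' X) (hX : X ≠ ⊤)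
    {χ : H → ℂ} (hχ : IsIrrCharacter H χ) (hker : ∀ r ∈ Subgroup.zpowers g, χ r = χ 1) :
    χ ∈ elemSpan p H := by
  classical
  letI : Fintype X := Fintype.ofFinite _
  have hχc := IsIrrCharacter.isCharacter' hχ
  set F : H → ℂ := indFun X (fun x : X => χ x) with hF
  have hFmem : F ∈ elemSpan p H :=
    indFun_mem_elemSpan X (character_mem_of_irr (hIH X hX) (isCharacter_restrict X hχc))
  have hFc : IsCharacter H F := isCharacter_indFun X (isCharacter_restrict X hχc)
  have hexp := classFunction_expand (IsCharacter.isClassFunction' hFc)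
  let χ₀ : IrrCharacter H := ⟨χ, hχ⟩
  have hχ₀ : classInner F χ = 1 := by
    rw [hF, frobenius_reciprocity X _ (IsCharacter.isClassFunction' hχc),
      inner_restrict_complement hc hχc hχc hker hker]
    have := classInner_irr hχ hχ
    rwa [if_pos rfl] at this
  have hsplit := Finset.add_sum_erase Finset.univ
    (fun ψ : IrrCharacter H => classInner F (ψ : H → ℂ) • (ψ : H → ℂ)) (Finset.mem_univ χ₀)
  have hχeq : χ = F - ∑ ψ ∈ Finset.univ.erase χ₀, classInner F (ψ : H → ℂ) • (ψ : H → ℂ) := by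
    have h1 : F = χ + ∑ ψ ∈ Finset.univ.erase χ₀, classInner F (ψ : H → ℂ) • (ψ : H → ℂ) := by
      conv_lhs => rw [hexp, ← hsplit]
      show classInner F χ • χ + _ = _
      rw [hχ₀, one_smul]
    rw [eq_sub_iff_add_eq]
    exact h1.symm
  rw [hχeq]
  refine (elemSpan p H).sub_mem hFmem (AddSubgroup.sum_mem _ fun ψ hψ => ?_)
  by_cases hψker : ∃ r ∈ Subgroup.zpowers g, (ψ : H → ℂ) r ≠ (ψ : H → ℂ) 1
  · obtain ⟨m, hm⟩ := exists_nat_classInner hFc (IsIrrCharacter.isCharacter' ψ.2)
    rw [hm]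
    have : (m : ℂ) • (ψ : H → ℂ) = m • (ψ : H → ℂ) := by
      funext g
      simp
    rw [this]
    exact AddSubgroup.nsmul_mem _ (irr_mem_of_not_ker hIH hw ψ.2 hψker) _
  · push Not at hψker
    have h0 : classInner F (ψ : H → ℂ) = 0 := by
      rw [hF, frobenius_reciprocity X _ (IsCharacter.isClassFunction' (IsIrrCharacter.isCharacter' ψ.2)),
        inner_restrict_complement hc hχc (IsIrrCharacter.isCharacter' ψ.2) hker hψker]
      have := classInner_irr hχ ψ.2
      rw [if_neg] at this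
      · exact this
      · intro h
        apply (Finset.mem_erase.mp hψ).1
        exact Subtype.ext h.symm
    rw [h0, zero_smul]
    exact (elemSpan p H).zero_mem

/-- Every irreducible character of a quasi-elementary group lies in the elementary span. -/
theorem qe_irr_mem {p : ℕ} (hp : p.Prime) : ∀ (n : ℕ) (H : Type u) [Group H] [Fintype H], Nat.card H = n →
    IsQEGroup p H → ∀ χ, IsIrrCharacter H χ → χ ∈ elemSpan p H := by
  intro n
  induction n using Nat.strong_induction_on with
  | _ n ih =>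
    intro H _ _ hn hQE χ hχ
    haveI := Fact.mk hp
    obtain ⟨C, hN, hc, hcop, k, hk⟩ := id hQE
    by_cases hcent : ∀ c ∈ C, ∀ h : H, Commute h c
    · apply character_mem_elemSpan_of_elementary _ (IsIrrCharacter.isCharacter' hχ)
      obtain ⟨⟨c, hcC⟩, hgen⟩ := IsCyclic.exists_generator (α := C)
      have hCz : C = Subgroup.zpowers c := by
        apply le_antisymm
        · intro x hx
          obtain ⟨i, hi⟩ := Subgroup.mem_zpowers_iff.mp (hgen ⟨x, hx⟩)
          have : c ^ i = x := congrArg Subtype.val hi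
          rw [← this]
          exact Subgroup.zpow_mem_zpowers c i
        · rw [Subgroup.zpowers_le]
          exact hcC
      refine ⟨c, ?_, ?_, ?_⟩
      · rw [Subgroup.mem_center_iff]
        intro h
        exact hcent c hcC h
      · rw [← Nat.card_zpowers, ← hCz]
        exact hcop
      · rw [← hCz]
        have hP : IsPGroup p (H ⧸ C) := by
          intro q
          induction q using QuotientGroup.induction_on with
          | H x =>
            refine ⟨k, ?_⟩
            rw [← QuotientGroup.mk_pow, QuotientGroup.eq_one_iff]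
            exact hk x
        obtain ⟨j, hj⟩ := IsPGroup.iff_card.mp hP
        exact ⟨j, by rw [Subgroup.index_eq_card, hj]⟩
    · obtain ⟨g, h₀, hg1, hw, hNg, hcg⟩ := exists_reduction hp C hcop k hk hcent
      have hIH : ∀ (T : Subgroup H) [Fintype T], T ≠ ⊤ → ∀ χ, IsIrrCharacter T χ → χ ∈ elemSpan p T := by
        intro T _ hT χ hχ
        refine ih (Nat.card T) ?_ T rfl (hQE.sub T) χ hχ
        rw [← hn]
        exact lt_of_le_of_ne (Subgroup.card_le_card_group T) (fun h => hT (Subgroup.eq_top_of_card_eq T h))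
      obtain ⟨X, hX⟩ := Subgroup.exists_right_complement'_of_coprime (N := Subgroup.zpowers g)
        (by rwa [Nat.card_zpowers])
      have hXtop : X ≠ ⊤ := by
        rintro rfl
        have := Subgroup.isComplement'_top_right.mp hX
        apply hg1
        rw [← Subgroup.mem_bot, ← this]
        exact Subgroup.mem_zpowers g
      by_cases hker : ∃ r ∈ Subgroup.zpowers g, χ r ≠ χ 1
      · exact irr_mem_of_not_ker hIH hw hχ hker
      · push Not at hker
        exact irr_mem_of_ker hIH hw hX hXtop hχ hker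

variable {G : Type u} [Group G] [Fintype G]

theorem qeSpan_le_elemSpan {p : ℕ} (hp : p.Prime) : qeSpan p G ≤ elemSpan p G := by
  classical
  rw [qeSpan, AddSubgroup.closure_le]
  rintro _ ⟨H, hH, rfl⟩
  letI : Fintype H := Fintype.ofFinite _
  apply indFun_mem_elemSpan
  have h1 : IsIrrCharacter H (fun _ => (1 : ℂ)) := by
    simpa using Cfsg.Agent.Lib.CharAb.isIrrCharacter_of_hom (1 : H →* ℂˣ)
  exact qe_irr_mem hp _ H rfl (isQEGroup_of_isQE hH) _ h1

/-- Brauer's theorem at the prime `p`. -/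
theorem exists_const_mem_elemSpan {p : ℕ} (hp : p.Prime) :
    ∃ m : ℕ, ¬ p ∣ m ∧ (fun _ : G => (m : ℂ)) ∈ elemSpan p G := by
  obtain ⟨m, hm, h⟩ := exists_const_mem_qeSpan (G := G) hp
  exact ⟨m, hm, qeSpan_le_elemSpan hp h⟩

theorem list_neg_sum (l : List ((E : Subgroup G) × ((E → ℂ) × ℤ))) :
    -(l.map fun t => (t.2.2 : ℂ) • indFun t.1 t.2.1).sum =
      ((l.map (fun t => (⟨t.1, t.2.1, -t.2.2⟩ : (E : Subgroup G) × ((E → ℂ) × ℤ)))).map
        fun t => (t.2.2 : ℂ) • indFun t.1 t.2.1).sum := by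
  induction l with
  | nil => simp
  | cons x xs ih =>
    simp only [List.map_cons, List.sum_cons, neg_add_rev]
    rw [ih, add_comm]
    simp

/-- Elements of the elementary span are explicit list sums. -/
theorem exists_list_of_mem_elemSpan {p : ℕ} {f : G → ℂ} (hf : f ∈ elemSpan p G) :
    ∃ l : List ((E : Subgroup G) × ((E → ℂ) × ℤ)),
      (∀ t ∈ l, IsElementary p t.1 ∧ IsCharacter t.1 t.2.1) ∧
        f = (l.map fun t => (t.2.2 : ℂ) • indFun t.1 t.2.1).sum := by
  induction hf using AddSubgroup.closure_induction with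
  | mem x hx =>
    obtain ⟨E, θ, hE, hθ, rfl⟩ := hx
    refine ⟨[⟨E, θ, 1⟩], ?_, ?_⟩
    · intro t ht
      rw [List.mem_singleton] at ht
      subst ht
      exact ⟨hE, hθ⟩
    · simp
  | zero => exact ⟨[], by simp, by simp⟩
  | add a b _ _ ha hb =>
    obtain ⟨l₁, h₁, rfl⟩ := ha
    obtain ⟨l₂, h₂, rfl⟩ := hb
    refine ⟨l₁ ++ l₂, ?_, by simp⟩
    intro t ht
    rcases List.mem_append.mp ht with h | h
    · exact h₁ t h
    · exact h₂ t h
  | neg a _ ha =>
    obtain ⟨l, h, rfl⟩ := ha
    refine ⟨l.map (fun t => ⟨t.1, t.2.1, -t.2.2⟩), ?_, ?_⟩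
    · intro t ht
      obtain ⟨t', ht', rfl⟩ := List.mem_map.mp ht
      exact h t' ht'
    · exact list_neg_sum l

end QEGroup

end Cfsg.Agent.Lib.BrauerElem
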