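import Mathlib
import Cfsg.Prelude.Def_Blocks
import Cfsg.Agent.Lib.BrauerElem
import Cfsg.Agent.S0176

/-!
# Brauer's induction theorem and characterization of characters
-/

set_option autoImplicit false
set_option linter.style.haveILetI false
set_option linter.unusedSectionVars false
set_option linter.unusedVariables false

namespace Cfsg.Agent.Lib.BrauerThm

open scoped ComplexConjugate
open Module Cfsg Cfsg.Agent.Lib.CharOps Cfsg.Agent.Lib.CharIrr Cfsg.Agent.Lib.CharGen
  Cfsg.Agent.Lib.CharPermRep Cfsg.Agent.Lib.CharBlockOrth Cfsg.Agent.Lib.BrauerInd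
  Cfsg.Agent.Lib.CharKernel Cfsg.Agent.Lib.CharCliff Cfsg.Agent.Lib.CharNormal
  Cfsg.Agent.Lib.BrauerElem

universe u

section All

variable {G : Type u} [Group G] [Fintype G]

/-- The span of characters induced from elementary subgroups for all primes. -/
def allSpan (G : Type u) [Group G] [Fintype G] : AddSubgroup (G → ℂ) :=
  AddSubgroup.closure {f | ∃ (p : ℕ) (E : Subgroup G) (θ : E → ℂ), p.Prime ∧ IsElementary p E ∧
    IsCharacter E θ ∧ f = indFun E θ}

theorem elemSpan_le_allSpan {p : ℕ} (hp : p.Prime) : elemSpan p G ≤ allSpan G := by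
  rw [elemSpan, AddSubgroup.closure_le]
  rintro _ ⟨E, θ, hE, hθ, rfl⟩
  exact AddSubgroup.subset_closure ⟨p, E, θ, hp, hE, hθ, rfl⟩

/-- **Brauer's induction theorem**, first form. -/
theorem one_mem_allSpan : (fun _ : G => (1 : ℂ)) ∈ allSpan G := by
  classical
  let f : ℤ →+ (G → ℂ) :=
    { toFun := fun n _ => (n : ℂ)
      map_zero' := by funext g; simp
      map_add' := by intro a b; funext g; simp }
  let D : AddSubgroup ℤ := (allSpan G).comap f
  obtain ⟨d, hd⟩ := Int.subgroup_cyclic D
  have hmem : ∀ n : ℤ, n ∈ D ↔ d ∣ n := by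
    intro n
    rw [hd, AddSubgroup.mem_closure_singleton]
    constructor
    · rintro ⟨k, rfl⟩
      exact ⟨k, by simp [mul_comm]⟩
    · rintro ⟨k, rfl⟩
      exact ⟨k, by simp [mul_comm]⟩
  have hp : ∀ p : ℕ, p.Prime → ¬ (p : ℤ) ∣ d := by
    intro p hp hpd
    obtain ⟨m, hm, hmem'⟩ := exists_const_mem_elemSpan (G := G) hp
    have h1 : (m : ℤ) ∈ D := by
      show f (m : ℤ) ∈ allSpan G
      have : f (m : ℤ) = fun _ => (m : ℂ) := by
        funext g
        show (((m : ℤ) : ℂ)) = m
        simp
      rw [this]
      exact elemSpan_le_allSpan hp hmem'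
    have h2 := (hmem _).mp h1
    exact hm (by exact_mod_cast hpd.trans h2)
  have hd1 : d.natAbs = 1 := by
    by_contra hne
    obtain ⟨p, hp1, hp2⟩ := Nat.exists_prime_and_dvd hne
    exact hp p hp1 (Int.natCast_dvd.mpr hp2)
  have hd2 : d ∣ 1 := by
    rw [← Int.natAbs_dvd_natAbs]
    simp [hd1]
  have h3 : (1 : ℤ) ∈ D := (hmem 1).mpr hd2
  have h4 : f 1 ∈ allSpan G := h3
  have h5 : f 1 = fun _ => (1 : ℂ) := by
    funext g
    show ((1 : ℤ) : ℂ) = 1
    simp
  rwa [h5] at h4

/-- Brauer's characterization of (generalized) characters: if a class function restricts to a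
generalized character on each elementary subgroup, then it is a generalized character. -/
theorem isGen_of_elementary {ξ : G → ℂ} (hξ : IsClassFunction G ξ)
    (hE : ∀ (E : Subgroup G) (p : ℕ), p.Prime → IsElementary p E → IsGeneralizedCharacter E (fun e : E => ξ e)) :
    IsGeneralizedCharacter G ξ := by
  classical
  have key : ∀ f ∈ allSpan G, IsGeneralizedCharacter G (f * ξ) := by
    intro f hf
    induction hf using AddSubgroup.closure_induction with
    | mem x hx =>
      obtain ⟨p, E, θ, hp, hEl, hθ, rfl⟩ := hx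
      have h1 : indFun E θ * ξ = indFun E (fun h : E => θ h * ξ h) := by
        funext g
        rw [indFun_mul_restrict E θ hξ g]
        rfl
      rw [h1]
      apply isGen_indFun
      exact isGen_mul (isGen_of_char hθ) (hE E p hp hEl)
    | zero =>
      rw [zero_mul]
      exact isGen_zero
    | add a b _ _ ha hb =>
      rw [add_mul]
      exact isGen_add ha hb
    | neg a _ ha =>
      rw [neg_mul]
      exact isGen_neg ha
  have := key _ (one_mem_allSpan (G := G))
  convert this using 1
  funext g
  simp

end All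

section Monomial

/-- Subgroups of elementary groups are elementary. -/
theorem isElementary_sub {E : Type u} [Group E] [Finite E] {p : ℕ} (hp : p.Prime) (h : IsElementary p E)
    (L : Subgroup E) : IsElementary p L := by
  obtain ⟨x, hx, hc, k, hk⟩ := h
  haveI := Fact.mk hp
  -- `L ∩ ⟨x⟩` is cyclic
  let C : Subgroup L := (Subgroup.zpowers x).subgroupOf L
  let f : C →* Subgroup.zpowers x :=
    { toFun := fun y => ⟨(y : L), y.2⟩, map_one' := rfl, map_mul' := fun _ _ => rfl }
  have hf : Function.Injective f := by
    intro a b hab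
    have : ((a : L) : E) = (b : L) := congrArg (fun z : Subgroup.zpowers x => (z : E)) hab
    exact Subtype.ext (Subtype.ext this)
  haveI hcyc : IsCyclic C := isCyclic_of_injective f hf
  obtain ⟨⟨c, hcC⟩, hgen⟩ := IsCyclic.exists_generator (α := C)
  have hCz : C = Subgroup.zpowers c := by
    apply le_antisymm
    · intro y hy
      obtain ⟨i, hi⟩ := Subgroup.mem_zpowers_iff.mp (hgen ⟨y, hy⟩)
      have : c ^ i = y := congrArg Subtype.val hi
      rw [← this]
      exact Subgroup.zpow_mem_zpowers c i
    · rw [Subgroup.zpowers_le]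
      exact hcC
  have hcent : ∀ y ∈ Subgroup.zpowers x, ∀ z : E, z * y = y * z := by
    intro y hy z
    obtain ⟨i, rfl⟩ := Subgroup.mem_zpowers_iff.mp hy
    have hz : Commute z x := Subgroup.mem_center_iff.mp hx z
    exact hz.zpow_right i
  refine ⟨c, ?_, ?_, ?_⟩
  · rw [Subgroup.mem_center_iff]
    intro z
    apply Subtype.ext
    exact hcent _ hcC z
  · rw [← Nat.card_zpowers, ← hCz]
    have h1 : Nat.card C ∣ orderOf x := by
      rw [← Nat.card_zpowers]
      exact Subgroup.card_dvd_of_injective f hf
    exact Nat.Coprime.coprime_dvd_left h1 hc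
  · rw [← hCz]
    have hidx : ∀ y : E, y ^ (p ^ k) ∈ Subgroup.zpowers x := by
      intro y
      have hn : (Subgroup.zpowers x).Normal := by
        constructor
        intro a ha g
        rw [hcent a ha g]
        simpa using ha
      rw [← hk]
      exact Subgroup.pow_index_mem _ y
    have hn : C.Normal := by
      constructor
      intro a ha g
      rw [Subgroup.mem_subgroupOf] at ha ⊢
      have : ((g * a * g⁻¹ : L) : E) = a := by
        simp only [Subgroup.coe_mul, Subgroup.coe_inv]
        rw [hcent _ ha g]
        simp [mul_assoc]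
      rwa [this]
    have hP : IsPGroup p (L ⧸ C) := by
      intro q
      induction q using QuotientGroup.induction_on with
      | H y =>
        refine ⟨k, ?_⟩
        rw [← QuotientGroup.mk_pow, QuotientGroup.eq_one_iff, Subgroup.mem_subgroupOf]
        simpa using hidx y
    obtain ⟨j, hj⟩ := IsPGroup.iff_card.mp hP
    exact ⟨j, by rw [Subgroup.index_eq_card, hj]⟩

/-- Elementary groups are nilpotent. -/
theorem isNilpotent_of_isElementary {E : Type u} [Group E] [Finite E] {p : ℕ} (hp : p.Prime) (h : IsElementary p E) :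
    Group.IsNilpotent E := by
  obtain ⟨x, hx, hc, k, hk⟩ := h
  haveI := Fact.mk hp
  have hpow : ∀ y : E, y ^ (p ^ k) ∈ Subgroup.center E := by
    intro y
    have hcent : Subgroup.zpowers x ≤ Subgroup.center E := by
      rw [Subgroup.zpowers_le]
      exact hx
    have hn : (Subgroup.zpowers x).Normal := by
      constructor
      intro a ha g
      have h1 := hcent ha
      rw [Subgroup.mem_center_iff] at h1
      rw [h1 g]
      simpa using ha
    apply hcent
    rw [← hk]
    exact Subgroup.pow_index_mem _ y
  have hP : IsPGroup p (E ⧸ Subgroup.center E) := by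
    intro q
    induction q using QuotientGroup.induction_on with
    | H y =>
      refine ⟨k, ?_⟩
      rw [← QuotientGroup.mk_pow, QuotientGroup.eq_one_iff]
      exact hpow y
  haveI : Group.IsNilpotent (E ⧸ Subgroup.center E) := hP.isNilpotent
  exact Group.of_quotient_center_nilpotent (G := E) inferInstance

variable {G : Type u} [Group G] [Fintype G]

/-- The span of the monomial characters induced from elementary subgroups. -/
def monoSpan (G : Type u) [Group G] [Fintype G] : AddSubgroup (G → ℂ) :=
  AddSubgroup.closure {f | ∃ (p : ℕ) (E : Subgroup G) (lam : E →* ℂˣ), p.Prime ∧ IsElementary p E ∧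
    f = indFun E (fun e => (lam e : ℂ))}

/-- Induction maps the monomial span into itself. -/
theorem indFun_mem_monoSpan (T : Subgroup G) [Fintype T] {f : T → ℂ} (hf : f ∈ monoSpan T) :
    indFun T f ∈ monoSpan G := by
  induction hf using AddSubgroup.closure_induction with
  | mem x hx =>
    obtain ⟨p, E, lam, hp, hE, rfl⟩ := hx
    rw [indFun_trans]
    refine AddSubgroup.subset_closure ⟨p, _, lam.comp
      (E.equivMapOfInjective T.subtype T.subtype_injective).symm.toMonoidHom, hp, ?_, rfl⟩
    exact isElementary_of_equiv (E.equivMapOfInjective T.subtype T.subtype_injective) hE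
  | zero =>
    rw [indFun_zero]
    exact (monoSpan G).zero_mem
  | add a b _ _ ha hb =>
    rw [indFun_add]
    exact (monoSpan G).add_mem ha hb
  | neg a _ ha =>
    have : indFun T (-a) = - indFun T a := by
      have := indFun_smul T (-1) a
      simpa using this
    rw [this]
    exact (monoSpan G).neg_mem ha

/-- Characters of elementary groups lie in the monomial span. -/
theorem character_mem_monoSpan {p : ℕ} (hp : p.Prime) (h : IsElementary p G) {χ : G → ℂ} (hχ : IsCharacter G χ) :
    χ ∈ monoSpan G := by
  classical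
  rw [classFunction_expand (IsCharacter.isClassFunction' hχ)]
  refine AddSubgroup.sum_mem _ fun ψ _ => ?_
  obtain ⟨m, hm⟩ := exists_nat_classInner hχ (IsIrrCharacter.isCharacter' ψ.2)
  rw [hm]
  have : (m : ℂ) • (ψ : G → ℂ) = m • (ψ : G → ℂ) := by
    funext g
    simp
  rw [this]
  apply AddSubgroup.nsmul_mem
  haveI := isNilpotent_of_isElementary hp h
  obtain ⟨L, lam, hL⟩ := Cfsg.Agent.S0176.result (ψ : G → ℂ) ψ.2
  rw [hL]
  exact AddSubgroup.subset_closure ⟨p, L, lam, hp, isElementary_sub hp h L, rfl⟩

/-- **Brauer's induction theorem**. -/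
theorem character_mem_monoSpan' {χ : G → ℂ} (hχ : IsCharacter G χ) : χ ∈ monoSpan G := by
  classical
  have key : ∀ f ∈ allSpan G, f * χ ∈ monoSpan G := by
    intro f hf
    induction hf using AddSubgroup.closure_induction with
    | mem x hx =>
      obtain ⟨p, E, θ, hp, hEl, hθ, rfl⟩ := hx
      have h1 : indFun E θ * χ = indFun E (fun h : E => θ h * χ h) := by
        funext g
        rw [indFun_mul_restrict E θ (IsCharacter.isClassFunction' hχ) g]
        rfl
      rw [h1]
      letI : Fintype E := Fintype.ofFinite _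
      apply indFun_mem_monoSpan
      exact character_mem_monoSpan hp hEl (isCharacter_mul hθ (isCharacter_restrict E hχ))
    | zero =>
      rw [zero_mul]
      exact (monoSpan G).zero_mem
    | add a b _ _ ha hb =>
      rw [add_mul]
      exact (monoSpan G).add_mem ha hb
    | neg a _ ha =>
      rw [neg_mul]
      exact (monoSpan G).neg_mem ha
  have := key _ (one_mem_allSpan (G := G))
  convert this using 1
  funext g
  simp

theorem list_neg_sum' (l : List ((E : Subgroup G) × ((E →* ℂˣ) × ℤ))) :
    -(l.map fun t => (t.2.2 : ℂ) • indFun t.1 (fun e => (t.2.1 e : ℂ))).sum =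
      ((l.map (fun t => (⟨t.1, t.2.1, -t.2.2⟩ : (E : Subgroup G) × ((E →* ℂˣ) × ℤ)))).map
        fun t => (t.2.2 : ℂ) • indFun t.1 (fun e => (t.2.1 e : ℂ))).sum := by
  induction l with
  | nil => simp
  | cons x xs ih =>
    simp only [List.map_cons, List.sum_cons, neg_add_rev]
    rw [ih, add_comm]
    simp

/-- Elements of the monomial span are explicit list sums. -/
theorem exists_list_of_mem_monoSpan {f : G → ℂ} (hf : f ∈ monoSpan G) :
    ∃ l : List ((E : Subgroup G) × ((E →* ℂˣ) × ℤ)),
      (∀ t ∈ l, ∃ p : ℕ, p.Prime ∧ IsElementary p t.1) ∧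
        f = (l.map fun t => (t.2.2 : ℂ) • indFun t.1 (fun e => (t.2.1 e : ℂ))).sum := by
  induction hf using AddSubgroup.closure_induction with
  | mem x hx =>
    obtain ⟨p, E, lam, hp, hE, rfl⟩ := hx
    refine ⟨[⟨E, lam, 1⟩], ?_, ?_⟩
    · intro t ht
      rw [List.mem_singleton] at ht
      subst ht
      exact ⟨p, hp, hE⟩
    · simp
  | zero => exact ⟨[], by simp, by simp⟩
  | add a b _ _ ha hb =>
    obtain ⟨l₁, h₁, rfl⟩ := ha
    obtain ⟨l₂, h₂, rfl⟩ := hb
    refine ⟨l₁ ++ l₂, ?_, by simp⟩
    intro t ht
    rcases List.mem_append.mp ht with h | h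
    · exact h₁ t h
    · exact h₂ t h
  | neg a _ ha =>
    obtain ⟨l, h, rfl⟩ := ha
    refine ⟨l.map (fun t => ⟨t.1, t.2.1, -t.2.2⟩), ?_, list_neg_sum' l⟩
    intro t ht
    obtain ⟨t', ht', rfl⟩ := List.mem_map.mp ht
    exact h t' ht'

end Monomial

end Cfsg.Agent.Lib.BrauerThm
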