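import Mathlib
import Cfsg.Prelude.Def_Blocks
import Cfsg.Agent.Lib.BrauerThm

/-!
# Hall subgroups of elementary groups and the characteristic functions of `π`-elements
-/

set_option autoImplicit false
set_option linter.style.haveILetI false
set_option linter.unusedSectionVars false
set_option linter.unusedVariables false

namespace Cfsg.Agent.Lib.BrauerHall

open scoped ComplexConjugate
open Module Cfsg Cfsg.Agent.Lib.CharOps Cfsg.Agent.Lib.CharIrr Cfsg.Agent.Lib.CharGen
  Cfsg.Agent.Lib.BrauerInd Cfsg.Agent.Lib.BrauerElem Cfsg.Agent.Lib.BrauerThm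

universe u

/-- An elementary group has normal Hall subgroups for every splitting of its order. -/
theorem exists_hall_of_elementary {E : Type u} [Group E] [Finite E] {q : ℕ} (hq : q.Prime)
    (h : IsElementary q E) {m n : ℕ} (hcop : Nat.Coprime m n) (hdvd : Nat.card E ∣ m * n) :
    ∃ N : Subgroup E, N.Normal ∧ Nat.card N ∣ m ∧ N.index ∣ n := by
  classical
  obtain ⟨x, hx, hc, k, hk⟩ := h
  set o := orderOf x with ho
  have hcardE : o * q ^ k = Nat.card E := by
    have := Subgroup.card_mul_index (Subgroup.zpowers x)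
    rwa [Nat.card_zpowers, hk] at this
  have hodvd : o ∣ m * n := (Dvd.intro _ hcardE).trans hdvd
  have hqdvd : q ^ k ∣ m * n := (Dvd.intro_left _ hcardE).trans hdvd
  set o₁ := Nat.gcd o m with ho₁
  set o₂ := Nat.gcd o n with ho₂
  have hoo : o₁ * o₂ = o := by
    have h1 := hcop.gcd_mul o
    rw [Nat.gcd_eq_left hodvd] at h1
    exact h1.symm
  have ho₁m : o₁ ∣ m := Nat.gcd_dvd_right _ _
  have ho₂n : o₂ ∣ n := Nat.gcd_dvd_right _ _
  have ho₁o : o₁ ∣ o := Nat.gcd_dvd_left _ _
  have ho₂o : o₂ ∣ o := Nat.gcd_dvd_left _ _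
  have hopos : 0 < o := orderOf_pos x
  have ho₁pos : 0 < o₁ := Nat.pos_of_dvd_of_pos ho₁o hopos
  have ho₂pos : 0 < o₂ := Nat.pos_of_dvd_of_pos ho₂o hopos
  have hcoq : Nat.Coprime o (q ^ k) := Nat.Coprime.pow_right _ hc
  have hcent : ∀ y ∈ Subgroup.zpowers x, ∀ z : E, z * y = y * z := by
    intro y hy z
    obtain ⟨i, rfl⟩ := Subgroup.mem_zpowers_iff.mp hy
    have hz : Commute z x := Subgroup.mem_center_iff.mp hx z
    exact hz.zpow_right i
  have hnorm : ∀ D : Subgroup E, D ≤ Subgroup.zpowers x → D.Normal := by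
    intro D hD
    constructor
    intro a ha g
    rw [hcent a (hD ha) g]
    simpa using ha
  by_cases hqm : q ∣ m
  · -- the `n`-part of `x` is a central Hall subgroup with a complement
    have hqn : Nat.Coprime (q ^ k) n := by
      apply Nat.Coprime.pow_left
      have h1 : Nat.Coprime q n := Nat.Coprime.coprime_dvd_left hqm hcop
      exact h1
    have hqkm : q ^ k ∣ m := hqn.dvd_of_dvd_mul_right hqdvd
    let x₂ : E := x ^ o₁
    have hord : orderOf x₂ = o₂ := by
      have h1 : orderOf x₂ = o / o₁ := orderOf_pow_of_dvd ho₁pos.ne' ho₁o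
      rw [h1, ← hoo]
      exact Nat.mul_div_cancel_left _ ho₁pos
    let D : Subgroup E := Subgroup.zpowers x₂
    have hDle : D ≤ Subgroup.zpowers x := by
      rw [Subgroup.zpowers_le]
      exact Subgroup.npow_mem_zpowers _ _
    haveI hDn : D.Normal := hnorm D hDle
    have hDcard : Nat.card D = o₂ := by rw [Nat.card_zpowers, hord]
    have hDidx : D.index = o₁ * q ^ k := by
      have h1 := Subgroup.card_mul_index D
      rw [hDcard, ← hcardE, ← hoo] at h1
      have h2 : o₂ * D.index = o₂ * (o₁ * q ^ k) := by rw [h1]; ring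
      exact Nat.eq_of_mul_eq_mul_left ho₂pos h2
    have hcopD : Nat.Coprime (Nat.card D) D.index := by
      rw [hDcard, hDidx]
      apply Nat.Coprime.mul_right
      · exact (Nat.Coprime.coprime_dvd_left ho₁m (Nat.Coprime.coprime_dvd_right ho₂n hcop)).symm
      · exact (Nat.Coprime.coprime_dvd_right ho₂n hqn).symm
    obtain ⟨N, hN⟩ := Subgroup.exists_right_complement'_of_coprime hcopD
    refine ⟨N, ?_, ?_, ?_⟩
    · constructor
      intro a ha g
      obtain ⟨⟨d, t⟩, hdt⟩ := (Subgroup.isComplement'_def.mp hN).2 g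
      have hdt' : (d : E) * t = g := hdt
      have hd : (d : E) ∈ Subgroup.zpowers x := hDle d.2
      have h1 : g * a * g⁻¹ = t * a * (t : E)⁻¹ := by
        rw [← hdt', mul_inv_rev]
        have h2 := hcent _ hd ((t : E) * a * (t : E)⁻¹)
        calc (d : E) * t * a * ((t : E)⁻¹ * (d : E)⁻¹)
            = ((d : E) * ((t : E) * a * (t : E)⁻¹)) * (d : E)⁻¹ := by group
          _ = (((t : E) * a * (t : E)⁻¹) * d) * (d : E)⁻¹ := by rw [h2]
          _ = _ := by group
      rw [h1]
      exact N.mul_mem (N.mul_mem t.2 ha) (N.inv_mem t.2)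
    · have h1 := hN.card_mul_card
      rw [hDcard, ← hcardE, ← hoo] at h1
      have h2 : Nat.card N = o₁ * q ^ k := by
        have h3 : o₂ * Nat.card N = o₂ * (o₁ * q ^ k) := by rw [h1]; ring
        exact Nat.eq_of_mul_eq_mul_left ho₂pos h3
      rw [h2]
      apply Nat.Coprime.mul_dvd_of_dvd_of_dvd _ ho₁m hqkm
      exact Nat.Coprime.coprime_dvd_left ho₁o hcoq
    · rw [hN.index_eq_card, hDcard]
      exact ho₂n
  · -- the `m`-part of `x` is central of the right order and index
    have hqm' : Nat.Coprime (q ^ k) m := by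
      apply Nat.Coprime.pow_left
      exact (Nat.Prime.coprime_iff_not_dvd hq).2 hqm
    have hqkn : q ^ k ∣ n := hqm'.dvd_of_dvd_mul_left hqdvd
    let x₁ : E := x ^ o₂
    have hord : orderOf x₁ = o₁ := by
      have h1 : orderOf x₁ = o / o₂ := orderOf_pow_of_dvd ho₂pos.ne' ho₂o
      rw [h1, ← hoo]
      exact Nat.mul_div_cancel _ ho₂pos
    let N : Subgroup E := Subgroup.zpowers x₁
    have hNle : N ≤ Subgroup.zpowers x := by
      rw [Subgroup.zpowers_le]
      exact Subgroup.npow_mem_zpowers _ _
    have hNcard : Nat.card N = o₁ := by rw [Nat.card_zpowers, hord]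
    refine ⟨N, hnorm N hNle, by rw [hNcard]; exact ho₁m, ?_⟩
    have h1 := Subgroup.card_mul_index N
    rw [hNcard, ← hcardE, ← hoo] at h1
    have h2 : N.index = o₂ * q ^ k := by
      have h3 : o₁ * N.index = o₁ * (o₂ * q ^ k) := by rw [h1]; ring
      exact Nat.eq_of_mul_eq_mul_left ho₁pos h3
    rw [h2]
    apply Nat.Coprime.mul_dvd_of_dvd_of_dvd _ ho₂n hqkn
    exact Nat.Coprime.coprime_dvd_left ho₂o hcoq

variable {G : Type u} [Group G] [Fintype G]

open scoped Classical in
/-- The induced principal character from a normal subgroup. -/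
theorem indFun_one_normal (N : Subgroup G) [hN : N.Normal] (g : G) :
    indFun N (fun _ => (1 : ℂ)) g = if g ∈ N then (N.index : ℂ) else 0 := by
  classical
  rw [indFun_apply]
  by_cases hg : g ∈ N
  · rw [if_pos hg]
    have h1 : ∀ x : G, extendByZero N (fun _ => (1 : ℂ)) (x⁻¹ * g * x) = 1 := by
      intro x
      apply extendByZero_of_mem
      have := hN.conj_mem g hg x⁻¹
      simpa using this
    simp_rw [h1]
    rw [Finset.sum_const, Finset.card_univ, nsmul_eq_mul, mul_one, ← Nat.card_eq_fintype_card]
    have h2 := Subgroup.card_mul_index N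
    have h3 : (Nat.card N : ℂ) ≠ 0 := by exact_mod_cast Nat.card_pos.ne'
    rw [← h2]
    push_cast
    field_simp
  · rw [if_neg hg]
    apply mul_eq_zero_of_right
    refine Finset.sum_eq_zero fun x _ => extendByZero_of_not_mem _ _ ?_
    intro h
    have := hN.conj_mem _ h x
    apply hg
    have h2 : x * (x⁻¹ * g * x) * x⁻¹ = g := by group
    rwa [h2] at this

/-- The characteristic function of the elements of order prime to `n`, times the `n`-part of the
group order, is a generalized character. -/
theorem isGen_indicator {m n : ℕ} (hcop : Nat.Coprime m n) (hdvd : Nat.card G ∣ m * n) :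
    IsGeneralizedCharacter G (fun x : G => if Nat.Coprime (orderOf x) n then ((Nat.gcd (Nat.card G) n : ℕ) : ℂ) else 0) := by
  classical
  apply isGen_of_elementary
  · intro g h
    have : orderOf (h * g * h⁻¹) = orderOf g := Cfsg.Agent.Lib.CharBlockOrth.orderOf_conj' h g
    simp only [this]
  · intro E q hq hE
    letI : Fintype E := Fintype.ofFinite _
    obtain ⟨N, hNn, hN1, hN2⟩ := exists_hall_of_elementary hq hE hcop
      ((Subgroup.card_subgroup_dvd_card E).trans hdvd)
    haveI := hNn
    have hidx : N.index ∣ Nat.gcd (Nat.card G) n := by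
      apply Nat.dvd_gcd _ hN2
      exact (Subgroup.index_dvd_card N).trans (Subgroup.card_subgroup_dvd_card E)
    obtain ⟨t, ht⟩ := hidx
    have hiff : ∀ e : E, Nat.Coprime (orderOf (e : G)) n ↔ e ∈ N := by
      intro e
      rw [Subgroup.orderOf_coe]
      constructor
      · intro h
        have h1 : e ^ N.index ∈ N := Subgroup.pow_index_mem N e
        apply Cfsg.Agent.Lib.H7Basic.mem_of_pow_mem_of_coprime N e N.index _ h1
        exact Nat.Coprime.coprime_dvd_right hN2 h
      · intro h
        have h1 : orderOf e ∣ Nat.card N := by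
          rw [← Subgroup.orderOf_mk e h]
          exact orderOf_dvd_natCard _
        exact Nat.Coprime.coprime_dvd_left (h1.trans hN1) hcop
    have heq : (fun e : E => if Nat.Coprime (orderOf (e : G)) n then ((Nat.gcd (Nat.card G) n : ℕ) : ℂ) else 0) =
        (t : ℂ) • indFun N (fun _ => (1 : ℂ)) := by
      funext e
      rw [Pi.smul_apply, indFun_one_normal N e, smul_eq_mul]
      by_cases he : e ∈ N
      · rw [if_pos ((hiff e).mpr he), if_pos he, ht]
        push_cast
        ring
      · rw [if_neg (fun h => he ((hiff e).mp h)), if_neg he, mul_zero]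
    rw [heq]
    exact isGen_nsmul (isGen_indFun N isGen_one) t

/-- The `p`-regular restriction of a character, multiplied by the `p`-part of the group order. -/
theorem isGen_regular (p : ℕ) [hp : Fact p.Prime] {χ : G → ℂ} (hχ : IsCharacter G χ) :
    IsGeneralizedCharacter G (fun x : G => if p ∣ orderOf x then 0 else ((p ^ (Nat.card G).factorization p : ℕ) : ℂ) * χ x) := by
  classical
  set a := (Nat.card G).factorization p with ha
  have h1 : p ^ a * ordCompl[p] (Nat.card G) = Nat.card G := Nat.ordProj_mul_ordCompl_eq_self _ _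
  have hcop : Nat.Coprime (ordCompl[p] (Nat.card G)) (p ^ a) :=
    (Nat.Coprime.pow_left _ (Nat.coprime_ordCompl hp.out Nat.card_pos.ne')).symm
  have hgcd : Nat.gcd (Nat.card G) (p ^ a) = p ^ a := Nat.gcd_eq_right ⟨_, h1.symm⟩
  have h2 := isGen_indicator (G := G) hcop (by rw [mul_comm, h1])
  rw [hgcd] at h2
  have h3 := isGen_mul h2 (isGen_of_char hχ)
  convert h3 using 1
  funext x
  by_cases hx : p ∣ orderOf x
  · have : ¬ Nat.Coprime (orderOf x) (p ^ a) := by
      intro h
      have hap : a ≠ 0 := by
        intro h0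
        have h4 : p ∣ Nat.card G := hx.trans (orderOf_dvd_natCard x)
        have := (hp.out.dvd_iff_one_le_factorization Nat.card_pos.ne').mp h4
        omega
      have h5 := Nat.Coprime.coprime_dvd_left hx (Nat.Coprime.coprime_dvd_right (dvd_pow_self p hap) h)
      have := (Nat.coprime_self p).mp h5
      exact hp.out.one_lt.ne' this
    simp [hx, this]
  · have : Nat.Coprime (orderOf x) (p ^ a) :=
      Nat.Coprime.pow_right _ ((Nat.Prime.coprime_iff_not_dvd hp.out).2 hx).symm
    simp [hx, this]

end Cfsg.Agent.Lib.BrauerHall
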