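import Mathlib
import Cfsg.Prelude.Def_Blocks
import Cfsg.Prelude.Def_BlockRank
import Cfsg.Agent.Lib.BrauerHall
import Cfsg.Agent.Lib.CharBlockRank
import Cfsg.Agent.Lib.CharBlockMinMax

/-!
# The `p`-regular restriction of a character as a generalized character, and heights
-/

set_option autoImplicit false
set_option linter.style.haveILetI false
set_option linter.unusedSectionVars false
set_option linter.unusedVariables false

namespace Cfsg.Agent.Lib.BrauerRegular

open scoped ComplexConjugate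
open Module Cfsg Cfsg.Agent.Lib.CharOps Cfsg.Agent.Lib.CharIrr Cfsg.Agent.Lib.CharGen
  Cfsg.Agent.Lib.BrauerInd Cfsg.Agent.Lib.BrauerElem Cfsg.Agent.Lib.BrauerThm Cfsg.Agent.Lib.BrauerHall
  Cfsg.Agent.Lib.CharBlockLocal Cfsg.Agent.Lib.CharBlockConv Cfsg.Agent.Lib.CharBlockOrth
  Cfsg.Agent.Lib.CharBlockDefect Cfsg.Agent.Lib.CharBlockMinMax Cfsg.Agent.Lib.CharBlockRank

universe u

section Integrality

/-- The trace of a semisimple-like endomorphism is integral. -/
theorem isIntegral_trace_of_pow_succ {V : Type*} [AddCommGroup V] [Module ℂ V] [FiniteDimensional ℂ V]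
    (T : Module.End ℂ V) (m : ℕ) (hm : 0 < m) (h : T ^ (m + 1) = T) :
    IsIntegral ℤ (LinearMap.trace ℂ V T) := by
  rw [Module.End.trace_eq_sum_roots_charpoly_of_splits (IsAlgClosed.splits _)]
  apply IsIntegral.multiset_sum
  intro μ hμ
  have h1 : Module.End.HasEigenvalue T μ := by
    rw [Module.End.hasEigenvalue_iff_isRoot_charpoly]
    exact (Polynomial.mem_roots'.mp hμ).2
  obtain ⟨v, hv⟩ := h1.exists_hasEigenvector
  have hpow : ∀ k : ℕ, (T ^ k) v = μ ^ k • v := by
    intro k
    induction k with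
    | zero => simp
    | succ k ih =>
      rw [pow_succ, Module.End.mul_apply, hv.apply_eq_smul, map_smul, ih, smul_smul]
      congr 1
      ring
  have h2 : μ ^ (m + 1) • v = μ • v := by
    rw [← hpow, h, hv.apply_eq_smul]
  have h3 : μ ^ (m + 1) = μ := smul_left_injective ℂ hv.2 h2
  by_cases h0 : μ = 0
  · rw [h0]; exact isIntegral_zero
  · have h4 : μ ^ m = 1 := by
      have : μ ^ m * μ = 1 * μ := by rw [← pow_succ, h3, one_mul]
      exact mul_right_cancel₀ h0 this
    exact IsIntegral.of_pow hm (by rw [h4]; exact isIntegral_one)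

variable {G : Type u} [Group G] [Fintype G]

/-- Averaging a character over a subgroup commuting with `y` gives an algebraic integer. -/
theorem isIntegral_average_character {n : ℕ} (ρ : Representation ℂ G (Fin n → ℂ)) (D : Subgroup G) [Fintype D]
    (y : G) (hy : ∀ u ∈ D, Commute u y) :
    IsIntegral ℤ ((Nat.card D : ℂ)⁻¹ * ∑ u : D, ρ.character ((u : G) * y)) := by
  classical
  have hD0 : (Nat.card D : ℂ) ≠ 0 := by exact_mod_cast Nat.card_pos.ne'
  let π : Module.End ℂ (Fin n → ℂ) := (Nat.card D : ℂ)⁻¹ • ∑ u : D, ρ (u : G)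
  have hleft : ∀ v : D, ρ (v : G) * π = π := by
    intro v
    show ρ (v : G) * ((Nat.card D : ℂ)⁻¹ • ∑ u : D, ρ (u : G)) = _
    rw [mul_smul_comm, Finset.mul_sum]
    congr 1
    apply Fintype.sum_equiv (Equiv.mulLeft v)
    intro u
    show ρ (v : G) * ρ (u : G) = ρ ((v * u : D) : G)
    rw [← map_mul]
    rfl
  have hidem : π * π = π := by
    show ((Nat.card D : ℂ)⁻¹ • ∑ u : D, ρ (u : G)) * π = π
    rw [smul_mul_assoc, Finset.sum_mul]
    simp_rw [hleft]
    rw [Finset.sum_const, Finset.card_univ, ← Nat.card_eq_fintype_card, ← Nat.cast_smul_eq_nsmul ℂ, smul_smul,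
      inv_mul_cancel₀ hD0, one_smul]
  have hcomm : ∀ z : G, (∀ u ∈ D, Commute u z) → π * ρ z = ρ z * π := by
    intro z hz
    show ((Nat.card D : ℂ)⁻¹ • ∑ u : D, ρ (u : G)) * ρ z = ρ z * ((Nat.card D : ℂ)⁻¹ • ∑ u : D, ρ (u : G))
    rw [smul_mul_assoc, mul_smul_comm, Finset.sum_mul, Finset.mul_sum]
    congr 1
    refine Finset.sum_congr rfl fun u _ => ?_
    rw [← map_mul, ← map_mul, (hz u u.2).eq]
  have hcomm' : ∀ k : ℕ, π * ρ (y ^ k) = ρ (y ^ k) * π := fun k =>
    hcomm _ fun u hu => (hy u hu).pow_right k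
  let T : Module.End ℂ (Fin n → ℂ) := π * ρ y
  have hTk : ∀ k : ℕ, T ^ (k + 1) = π * ρ (y ^ (k + 1)) := by
    intro k
    induction k with
    | zero => simp [T]
    | succ k ih =>
      rw [pow_succ, ih]
      show π * ρ (y ^ (k + 1)) * (π * ρ y) = π * ρ (y ^ (k + 1 + 1))
      rw [mul_assoc, ← mul_assoc (ρ (y ^ (k + 1))), ← hcomm', mul_assoc π, ← mul_assoc, hidem, ← map_mul, pow_succ y (k + 1)]
  have hT : T ^ (orderOf y + 1) = T := by
    have h1 := hTk (orderOf y)
    rw [h1, pow_succ, pow_orderOf_eq_one, one_mul]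
  have hint := isIntegral_trace_of_pow_succ T (orderOf y) (orderOf_pos y) hT
  convert hint using 1
  show _ = LinearMap.trace ℂ _ (((Nat.card D : ℂ)⁻¹ • ∑ u : D, ρ (u : G)) * ρ y)
  rw [smul_mul_assoc, map_smul, Finset.sum_mul, map_sum, smul_eq_mul]
  congr 1
  refine Finset.sum_congr rfl fun u _ => ?_
  rw [← map_mul]
  rfl

/-- The same for generalized characters. -/
theorem isIntegral_average {F : G → ℂ} (hF : IsGeneralizedCharacter G F) (D : Subgroup G) [Fintype D]
    (y : G) (hy : ∀ u ∈ D, Commute u y) :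
    IsIntegral ℤ ((Nat.card D : ℂ)⁻¹ * ∑ u : D, F ((u : G) * y)) := by
  obtain ⟨a, b, ⟨n, ρ, rfl⟩, ⟨m, σ, rfl⟩, rfl⟩ := hF
  have h1 := isIntegral_average_character ρ D y hy
  have h2 := isIntegral_average_character σ D y hy
  have h3 := h1.sub h2
  have h4 : ((Nat.card D : ℂ)⁻¹ * ∑ u : D, (ρ.character - σ.character) ((u : G) * y)) =
      (Nat.card D : ℂ)⁻¹ * ∑ u : D, ρ.character ((u : G) * y) - (Nat.card D : ℂ)⁻¹ * ∑ u : D, σ.character ((u : G) * y) := by
    simp only [Pi.sub_apply, Finset.sum_sub_distrib]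
    ring
  rw [h4]
  exact h3

end Integrality

section Val

variable {p : ℕ} {M : Ideal AlgInt}

/-- The denominator of an integer quotient in the local ring. -/
theorem pow_dvd_of_memLocalRing (hM : IsPModular p M) {n : ℤ} {D : ℕ} (hD : D ≠ 0)
    (h : MemLocalRing M ((n : ℂ) / (D : ℂ))) : ((p ^ D.factorization p : ℕ) : ℤ) ∣ n := by
  have hp := hM.1
  have hD' : p ^ D.factorization p * ordCompl[p] D = D := Nat.ordProj_mul_ordCompl_eq_self D p
  have hD0 : (D : ℂ) ≠ 0 := by exact_mod_cast hD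
  have hnat : p ^ D.factorization p ∣ n.natAbs := by
    rcases Int.natAbs_eq n with h1 | h1
    · apply pow_dvd_of_natCast_eq hM (r := ((n : ℂ) / (D : ℂ)) * ((ordCompl[p] D : ℕ) : ℂ))
      · exact MemLocalRing.mul hM h (MemLocalRing.natCast hM _)
      · conv_rhs => rw [← mul_assoc, mul_comm _ ((n : ℂ) / (D : ℂ)), mul_assoc]
        have : ((p : ℂ) ^ D.factorization p * ((ordCompl[p] D : ℕ) : ℂ)) = D := by
          exact_mod_cast hD'
        rw [this, div_mul_cancel₀ _ hD0]
        conv_rhs => rw [h1]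
        simp
    · apply pow_dvd_of_natCast_eq hM (r := -(((n : ℂ) / (D : ℂ)) * ((ordCompl[p] D : ℕ) : ℂ)))
      · exact MemLocalRing.neg hM (MemLocalRing.mul hM h (MemLocalRing.natCast hM _))
      · have : ((p : ℂ) ^ D.factorization p * ((ordCompl[p] D : ℕ) : ℂ)) = D := by
          exact_mod_cast hD'
        have h2 : (p : ℂ) ^ D.factorization p * -(((n : ℂ) / (D : ℂ)) * ((ordCompl[p] D : ℕ) : ℂ)) =
            -(((p : ℂ) ^ D.factorization p * ((ordCompl[p] D : ℕ) : ℂ)) * ((n : ℂ) / (D : ℂ))) := by ring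
        rw [h2, this, mul_div_cancel₀ _ hD0]
        conv_rhs => rw [h1]
        simp
  have := Int.natCast_dvd_natCast.mpr hnat
  exact Int.dvd_natAbs.mp this

/-- When an integer quotient lies in the local ring, it lies in the maximal ideal exactly when the
valuations differ. -/
theorem memLocalIdeal_div_iff (hM : IsPModular p M) {n : ℤ} {D : ℕ} (hD : D ≠ 0)
    (h : MemLocalRing M ((n : ℂ) / (D : ℂ))) :
    MemLocalIdeal M ((n : ℂ) / (D : ℂ)) ↔ ¬ (n ≠ 0 ∧ padicValInt p n = D.factorization p) := by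
  have hp := hM.1
  haveI := Fact.mk hp
  by_cases hn : n = 0
  · subst hn
    simp only [Int.cast_zero, zero_div, ne_eq, not_true_eq_false, false_and, not_false_eq_true, iff_true]
    exact MemLocalIdeal.zero hM
  have hD' : p ^ D.factorization p * ordCompl[p] D = D := Nat.ordProj_mul_ordCompl_eq_self D p
  have hD1 : ¬ p ∣ ordCompl[p] D := Nat.not_dvd_ordCompl hp hD
  obtain ⟨k, hk⟩ := pow_dvd_of_memLocalRing hM hD h
  have hk0 : k ≠ 0 := by
    rintro rfl
    simp at hk
    exact hn hk
  have hDc : (D : ℂ) = (p : ℂ) ^ D.factorization p * ((ordCompl[p] D : ℕ) : ℂ) := by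
    exact_mod_cast hD'.symm
  have hpow0 : (p : ℂ) ^ D.factorization p ≠ 0 := pow_ne_zero _ (by exact_mod_cast hp.ne_zero)
  have hcomp0 : ((ordCompl[p] D : ℕ) : ℂ) ≠ 0 := by
    have : ordCompl[p] D ≠ 0 := fun h0 => hD1 (by rw [h0]; exact dvd_zero _)
    exact_mod_cast this
  have hq : (n : ℂ) / (D : ℂ) = (k : ℂ) * ((ordCompl[p] D : ℕ) : ℂ)⁻¹ := by
    rw [hk, hDc]
    push_cast
    field_simp
  have hval : padicValInt p n = D.factorization p + padicValInt p k := by
    rw [hk, padicValInt.mul (by exact_mod_cast pow_ne_zero _ hp.ne_zero) hk0]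
    congr 1
    rw [padicValInt.of_nat, padicValNat.prime_pow]
  have hiff : MemLocalIdeal M ((n : ℂ) / (D : ℂ)) ↔ (p : ℤ) ∣ k := by
    rw [← intCast_memLocalIdeal_iff hM, hq]
    constructor
    · intro h1
      have := MemLocalIdeal.mul_right hM (MemLocalRing.natCast hM (ordCompl[p] D)) h1
      refine MemLocalIdeal.of_eq this ?_
      field_simp
    · intro h1
      exact MemLocalIdeal.mul_right hM (natCast_inv_memLocalRing hM hD1) h1
  rw [hiff]
  constructor
  · intro h1 ⟨_, h2⟩
    have h3 : 1 ≤ padicValInt p k := by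
      have := (padicValInt_dvd_iff (p := p) 1 k).mp (by simpa using h1)
      rcases this with h4 | h4
      · exact absurd h4 hk0
      · exact h4
    omega
  · intro h1
    by_contra h2
    apply h1
    refine ⟨hn, ?_⟩
    have h3 : padicValInt p k = 0 := padicValInt.eq_zero_of_not_dvd h2
    omega

end Val

section Reg

variable {G : Type u} [Group G] [Fintype G] {p : ℕ} {M : Ideal AlgInt}

/-- The `p`-regular restriction of a function times the `p`-part of the group order. -/
noncomputable def regChar (p : ℕ) (χ : G → ℂ) : G → ℂ :=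
  fun x => if p ∣ orderOf x then 0 else ((p ^ (Nat.card G).factorization p : ℕ) : ℂ) * χ x

theorem regChar_apply (χ : G → ℂ) (x : G) :
    regChar p χ x = if p ∣ orderOf x then 0 else ((p ^ (Nat.card G).factorization p : ℕ) : ℂ) * χ x := rfl

theorem regChar_eq_smul [DecidablePred fun x : G => p ∣ orderOf x] (χ : G → ℂ) :
    regChar p χ = ((p ^ (Nat.card G).factorization p : ℕ) : ℂ) • regPart p χ := by
  funext x
  rw [Pi.smul_apply, regPart_apply, regChar_apply, smul_eq_mul]
  split_ifs <;> simp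

theorem regChar_isClass {χ : G → ℂ} (hχ : IsClassFunction G χ) : IsClassFunction G (regChar p χ) := by
  intro g c
  simp only [regChar_apply, orderOf_conj']
  rw [hχ]

theorem isGen_regChar [Fact p.Prime] {χ : G → ℂ} (hχ : IsCharacter G χ) :
    IsGeneralizedCharacter G (regChar p χ) :=
  isGen_regular p hχ

/-- The test function computing the inner products of `p`-regular restrictions. -/
noncomputable def regTest (p : ℕ) (ξ : G → ℂ) : G → ℂ :=
  fun x => if p ∣ orderOf x then 0 else ((ordCompl[p] (Nat.card G) : ℕ) : ℂ)⁻¹ * conj (ξ x)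

theorem isRClass_regTest (hM : IsPModular p M) {ξ : G → ℂ} (hξ : IsCharacter G ξ) : IsRClass M (regTest p ξ) := by
  have hp := hM.1
  refine ⟨?_, ?_⟩
  · intro g c
    simp only [regTest, orderOf_conj']
    rw [IsCharacter.isClassFunction' hξ]
  · intro g
    simp only [regTest]
    split_ifs
    · exact MemLocalRing.zero hM
    · refine MemLocalRing.mul hM (natCast_inv_memLocalRing hM (Nat.not_dvd_ordCompl hp Nat.card_pos.ne')) ?_
      apply memLocalRing_of_isIntegral hM
      have h1 := isIntegral_character_apply hξ g⁻¹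
      have h2 : ξ g⁻¹ = conj (ξ g) := by
        obtain ⟨n, ρ, rfl⟩ := hξ
        exact Cfsg.Agent.Lib.CharCore.character_inv ρ g
      rwa [h2] at h1

theorem omega_regTest (χ ξ : G → ℂ) (hp : p.Prime) :
    omega χ (regTest p ξ) = classInner (regChar p χ) ξ / χ 1 := by
  classical
  unfold omega classInner
  congr 1
  have h1 : p ^ (Nat.card G).factorization p * ordCompl[p] (Nat.card G) = Nat.card G :=
    Nat.ordProj_mul_ordCompl_eq_self _ _
  have hu : ((ordCompl[p] (Nat.card G) : ℕ) : ℂ) ≠ 0 := by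
    have := Nat.pos_of_ne_zero (Nat.ne_of_gt (Nat.ordCompl_pos p (Nat.card_pos (α := G)).ne'))
    exact_mod_cast (Nat.ordCompl_pos p (Nat.card_pos (α := G)).ne').ne'
  have hP : ((p ^ (Nat.card G).factorization p : ℕ) : ℂ) ≠ 0 := by
    exact_mod_cast pow_ne_zero _ hp.ne_zero
  have hG : ((Nat.card G : ℕ) : ℂ) = ((p ^ (Nat.card G).factorization p : ℕ) : ℂ) * ((ordCompl[p] (Nat.card G) : ℕ) : ℂ) := by
    exact_mod_cast h1.symm
  rw [Finset.mul_sum]
  refine Finset.sum_congr rfl fun g _ => ?_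
  simp only [regTest, regChar_apply]
  split_ifs
  · simp
  · rw [hG]
    field_simp

/-- Symmetry of the inner products of regular restrictions. -/
theorem classInner_regChar_conj (χ ξ : G → ℂ) :
    classInner (regChar p χ) ξ = conj (classInner (regChar p ξ) χ) := by
  classical
  unfold classInner
  rw [map_mul, map_sum, map_inv₀, Complex.conj_natCast]
  congr 1
  refine Finset.sum_congr rfl fun g _ => ?_
  simp only [regChar_apply]
  split_ifs
  · simp
  · simp only [map_mul, Complex.conj_conj, Complex.conj_natCast]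
    ring

theorem classInner_regChar_symm [Fact p.Prime] {χ ξ : G → ℂ} (hχ : IsCharacter G χ) (hξ : IsCharacter G ξ) :
    classInner (regChar p χ) ξ = classInner (regChar p ξ) χ := by
  obtain ⟨n, hn⟩ := exists_int_classInner (isGen_regChar (p := p) hξ) (isGen_of_char hχ)
  rw [classInner_regChar_conj, hn]
  simp

/-- The degree of the first character divides the coefficient in the local ring. -/
theorem memLocalRing_div_left (hM : IsPModular p M) {χ ξ : G → ℂ} (hχ : IsIrrCharacter G χ) (hξ : IsCharacter G ξ) :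
    MemLocalRing M (classInner (regChar p χ) ξ / χ 1) := by
  rw [← omega_regTest _ _ hM.1]
  exact memLocalRing_omega hM hχ (isRClass_regTest hM hξ)

/-- The degree of the second character divides the coefficient in the local ring. -/
theorem memLocalRing_div_right (hM : IsPModular p M) {χ ξ : G → ℂ} (hχ : IsCharacter G χ) (hξ : IsIrrCharacter G ξ) :
    MemLocalRing M (classInner (regChar p χ) ξ / ξ 1) := by
  haveI := Fact.mk hM.1
  rw [classInner_regChar_symm hχ (IsIrrCharacter.isCharacter' hξ)]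
  exact memLocalRing_div_left hM hξ hχ

/-- The quotient of the coefficient by the degree is constant on blocks modulo the maximal ideal. -/
theorem sameBlock_div (hM : IsPModular p M) {χ ξ ξ' : G → ℂ} (hχ : IsCharacter G χ) (hξ : IsIrrCharacter G ξ)
    (hξ' : IsIrrCharacter G ξ') (h : SameBlock M ξ ξ') :
    MemLocalIdeal M (classInner (regChar p χ) ξ / ξ 1 - classInner (regChar p χ) ξ' / ξ' 1) := by
  haveI := Fact.mk hM.1
  rw [classInner_regChar_symm hχ (IsIrrCharacter.isCharacter' hξ),
    classInner_regChar_symm hχ (IsIrrCharacter.isCharacter' hξ'),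
    ← omega_regTest _ _ hM.1, ← omega_regTest _ _ hM.1]
  exact sameBlock_omega hM hξ hξ' h (isRClass_regTest hM hχ)

/-- The regular restriction of a character of a block has no component outside the block. -/
theorem classInner_regChar_eq_zero (hM : IsPModular p M) {B : Set (IrrCharacter G)} (hB : IsPBlock M B)
    {χ ξ : IrrCharacter G} (hχ : χ ∈ B) (hξ : ξ ∉ B) : classInner (regChar p (χ : G → ℂ)) (ξ : G → ℂ) = 0 := by
  classical
  haveI := Fact.mk hM.1
  -- the block of `ξ`
  let B' := blockOf M (ξ : G → ℂ)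
  have hB' : IsPBlock M B' := ⟨ξ, rfl⟩
  have hA := blockClosed_of_isPBlock hM hB'
  have hξB' : ξ ∈ B' := mem_blockOf_self hM ξ
  have hχB' : χ ∉ B' := by
    intro h
    apply hξ
    have h1 : SameBlock M (ξ : G → ℂ) (χ : G → ℂ) := h
    have hAB := blockClosed_of_isPBlock hM hB χ hχ
    exact hAB (show SameBlock M (χ : G → ℂ) (ξ : G → ℂ) from SameBlock.symm h1)
  have hcl := IsCharacter.isClassFunction' (IsIrrCharacter.isCharacter' χ.2)
  have h1 : ∀ u, blockPart B' (regPart p (χ : G → ℂ)) u = 0 := by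
    intro u
    rw [blockPart_regPart hM hA hcl u]
    have h2 : ∀ v, blockPart B' (χ : G → ℂ) v = 0 := by
      intro v
      rw [blockPart_eq]
      refine Finset.sum_eq_zero fun ψ _ => ?_
      split_ifs with hψ
      · rw [classInner_irr χ.2 ψ.2, if_neg, zero_mul]
        intro he
        apply hχB'
        have : χ = ψ := Subtype.ext he
        rwa [this]
      · rfl
    rw [regPart_apply]
    split_ifs
    · rfl
    · exact h2 u
  have h3 : classInner (regPart p (χ : G → ℂ)) (ξ : G → ℂ) = 0 := by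
    have h4 : blockPart B' (regPart p (χ : G → ℂ)) = 0 := funext h1
    have h5 : classInner (blockPart B' (regPart p (χ : G → ℂ))) (ξ : G → ℂ) =
        classInner (regPart p (χ : G → ℂ)) (ξ : G → ℂ) := by
      have h6 : blockPart B' (regPart p (χ : G → ℂ)) =
          ∑ ψ : IrrCharacter G, (if ψ ∈ B' then classInner (regPart p (χ : G → ℂ)) (ψ : G → ℂ) else 0) • (ψ : G → ℂ) := by
        funext v
        rw [blockPart_eq, Finset.sum_apply]
        refine Finset.sum_congr rfl fun ψ _ => ?_
        rw [Pi.smul_apply, smul_eq_mul]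
        split_ifs
        · rfl
        · simp
      rw [h6, classInner_sum_left, Finset.sum_eq_single ξ]
      · rw [classInner_smul_left, if_pos hξB', classInner_irr ξ.2 ξ.2, if_pos rfl, mul_one]
      · intro ψ _ hψ
        rw [classInner_smul_left, classInner_irr ψ.2 ξ.2, if_neg (fun he => hψ (Subtype.ext he)), mul_zero]
      · simp
    rw [← h5, h4]
    simp [classInner]
  rw [regChar_eq_smul, classInner_smul_left, h3, mul_zero]

/-- **The height theorem** (for a character of height zero, no coefficient of the regular restriction lies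
in the maximal ideal). -/
theorem not_ideal_of_height_zero (hM : IsPModular p M) {B : Set (IrrCharacter G)} (hB : IsPBlock M B)
    {χ ξ : IrrCharacter G} (hχ : χ ∈ B) (hξ : ξ ∈ B)
    (hh : (charDegree (χ : G → ℂ)).factorization p = minVal p B) :
    ¬ MemLocalIdeal M (classInner (regChar p (χ : G → ℂ)) (ξ : G → ℂ) / (ξ : G → ℂ) 1) := by
  classical
  have hp := hM.1
  haveI := Fact.mk hp
  intro hI
  have hχc := IsIrrCharacter.isCharacter' χ.2
  set s := minVal p B with hs
  set a := (Nat.card G).factorization p with ha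
  have hBξ := blockOf_eq_of_mem hM hB hξ
  have hsame : ∀ ψ ∈ B, SameBlock M (ξ : G → ℂ) ((ψ : IrrCharacter G) : G → ℂ) := by
    intro ψ hψ
    rw [hBξ] at hψ
    exact hψ
  have hall : ∀ ψ ∈ B, MemLocalIdeal M (classInner (regChar p (χ : G → ℂ)) ((ψ : IrrCharacter G) : G → ℂ) / (ψ : G → ℂ) 1) := by
    intro ψ hψ
    have h1 := sameBlock_div (p := p) hM hχc ξ.2 ψ.2 (hsame ψ hψ)
    have h2 := MemLocalIdeal.sub hM hI h1
    exact MemLocalIdeal.of_eq h2 (by ring)
  choose n hn using fun ψ : IrrCharacter G =>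
    exists_int_classInner (isGen_regChar (p := p) hχc) (isGen_of_char (IsIrrCharacter.isCharacter' ψ.2))
  have hdvd : ∀ ψ : IrrCharacter G, ((p ^ (s + 1) : ℕ) : ℤ) ∣ n ψ := by
    intro ψ
    by_cases hψ : ψ ∈ B
    · have h1 := hall ψ hψ
      rw [hn ψ, ← charDegree_cast (IsIrrCharacter.isCharacter' ψ.2)] at h1
      have hD := charDegree_ne_zero ψ.2
      have h2 := (memLocalIdeal_div_iff hM hD (MemLocalIdeal.toRing h1)).mp h1
      have h3 := pow_dvd_of_memLocalRing hM hD (MemLocalIdeal.toRing h1)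
      by_cases hn0 : n ψ = 0
      · rw [hn0]; exact dvd_zero _
      · have h4 : padicValInt p (n ψ) ≠ (charDegree (ψ : G → ℂ)).factorization p := fun h => h2 ⟨hn0, h⟩
        have h5 : (charDegree (ψ : G → ℂ)).factorization p ≤ padicValInt p (n ψ) := by
          have := (padicValInt_dvd_iff (p := p) _ (n ψ)).mp (by simpa using h3)
          rcases this with h6 | h6
          · exact absurd h6 hn0
          · exact h6
        have h6 : s ≤ (charDegree (ψ : G → ℂ)).factorization p := minVal_le hψ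
        have := (padicValInt_dvd_iff (p := p) (s + 1) (n ψ)).mpr (Or.inr (by omega))
        simpa using this
    · have h1 := classInner_regChar_eq_zero (p := p) hM hB hχ hψ
      rw [hn ψ] at h1
      have h2 : n ψ = 0 := by exact_mod_cast h1
      rw [h2]
      exact dvd_zero _
  choose k hk using hdvd
  let F : G → ℂ := ∑ ψ : IrrCharacter G, (k ψ : ℂ) • (ψ : G → ℂ)
  have hF : IsGeneralizedCharacter G F := by
    apply isGen_sum
    intro ψ _
    exact isGen_zsmul (isGen_of_char (IsIrrCharacter.isCharacter' ψ.2)) (k ψ)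
  have hΘ : regChar p (χ : G → ℂ) = ((p ^ (s + 1) : ℕ) : ℂ) • F := by
    have hcl : IsClassFunction G (regChar p (χ : G → ℂ)) :=
      regChar_isClass (IsCharacter.isClassFunction' hχc)
    rw [classFunction_expand hcl]
    show _ = ((p ^ (s + 1) : ℕ) : ℂ) • ∑ ψ : IrrCharacter G, (k ψ : ℂ) • (ψ : G → ℂ)
    rw [Finset.smul_sum]
    refine Finset.sum_congr rfl fun ψ _ => ?_
    rw [hn ψ, hk ψ, smul_smul]
    push_cast
    rfl
  have hP0 : ((p ^ (s + 1) : ℕ) : ℂ) ≠ 0 := by exact_mod_cast pow_ne_zero _ hp.ne_zero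
  obtain ⟨x₀, hx₀⟩ := exists_defect_class hM hB
  have hreg : ¬ p ∣ orderOf x₀ := by
    intro hy
    apply hx₀.2.1
    rw [blockCoeff_singular hM (blockClosed_of_isPBlock hM hB) hy]
    exact MemLocalIdeal.zero hM
  have hval := defect_class_val hM hB hx₀
  obtain ⟨P⟩ : Nonempty (Sylow p (Subgroup.centralizer ({x₀} : Set G))) := inferInstance
  let C := Subgroup.centralizer ({x₀} : Set G)
  let D : Subgroup G := (P : Subgroup C).map C.subtype
  letI : Fintype D := Fintype.ofFinite _
  have hDcard : Nat.card D = p ^ blockDefect p B := by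
    have h1 : Nat.card D = Nat.card P :=
      Nat.card_congr ((P : Subgroup C).equivMapOfInjective C.subtype C.subtype_injective).symm.toEquiv
    rw [h1, ← hval]
    exact P.card_eq_multiplicity
  have hDcomm : ∀ u ∈ D, Commute u x₀ := by
    rintro _ ⟨w, _, rfl⟩
    have := Subgroup.mem_centralizer_iff.mp w.2 x₀ (Set.mem_singleton _)
    exact this.symm
  have hDp : IsPGroup p D := by
    have h1 : IsPGroup p P := P.isPGroup'
    exact IsPGroup.iff_card.mpr ⟨_, hDcard⟩
  have hint := isIntegral_average hF D x₀ hDcomm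
  have hFzero : ∀ u : D, u ≠ 1 → F ((u : G) * x₀) = 0 := by
    intro u hu
    have h1 : p ∣ orderOf ((u : G) * x₀) := by
      obtain ⟨j, hj⟩ := IsPGroup.iff_orderOf.mp hDp u
      have hcop : Nat.Coprime (orderOf (u : G)) (orderOf x₀) := by
        rw [Subgroup.orderOf_coe, hj]
        exact Nat.Coprime.pow_left _ ((Nat.Prime.coprime_iff_not_dvd hp).2 hreg)
      rw [(hDcomm u u.2).orderOf_mul_eq_mul_orderOf_of_coprime hcop, Subgroup.orderOf_coe, hj]
      have hj0 : j ≠ 0 := by
        rintro rfl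
        rw [pow_zero, orderOf_eq_one_iff] at hj
        exact hu hj
      exact dvd_mul_of_dvd_left (dvd_pow_self p hj0) _
    have h2 := congrFun hΘ ((u : G) * x₀)
    rw [Pi.smul_apply, regChar_apply, if_pos h1, smul_eq_mul] at h2
    exact (mul_eq_zero.mp h2.symm).resolve_left hP0
  have hsum : ∑ u : D, F ((u : G) * x₀) = F x₀ := by
    rw [Finset.sum_eq_single (1 : D)]
    · simp
    · intro u _ hu
      exact hFzero u hu
    · simp
  rw [hsum, hDcard] at hint
  have hFx : F x₀ = ((p ^ a : ℕ) : ℂ) * (χ : G → ℂ) x₀ / ((p ^ (s + 1) : ℕ) : ℂ) := by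
    have h2 := congrFun hΘ x₀
    rw [Pi.smul_apply, regChar_apply, if_neg hreg, smul_eq_mul] at h2
    rw [h2]
    field_simp
  have hne := block_nonempty hM hB
  have hsa : s ≤ a := minVal_le_card hne hp
  have hdef : blockDefect p B = a - s := rfl
  have hpc : (p : ℂ) ≠ 0 := by exact_mod_cast hp.ne_zero
  have hval2 : ((p ^ blockDefect p B : ℕ) : ℂ)⁻¹ * F x₀ = (χ : G → ℂ) x₀ / p := by
    rw [hFx, hdef]
    obtain ⟨d, hd⟩ : ∃ d, a = s + d := ⟨a - s, by omega⟩
    rw [hd, Nat.add_sub_cancel_left]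
    push_cast
    field_simp
    ring
  rw [hval2] at hint
  have hχI : MemLocalIdeal M ((χ : G → ℂ) x₀) := by
    have h3 := MemLocalIdeal.mul_right hM (memLocalRing_of_isIntegral hM hint) (memLocalIdeal_p hM)
    refine MemLocalIdeal.of_eq h3 ?_
    field_simp
  apply hx₀.2.2 χ hχ
  -- the valuation of the class size
  have hcc : Nat.card C * C.index = Nat.card G := Subgroup.card_mul_index C
  have hfac : C.index.factorization p = s := by
    have h1 : (Nat.card C * C.index).factorization p = (Nat.card C).factorization p + C.index.factorization p := by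
      rw [Nat.factorization_mul Nat.card_pos.ne' (Subgroup.index_ne_zero_of_finite)]
      rfl
    rw [hcc] at h1
    have h2 : (Nat.card C).factorization p = a - s := hval
    omega
  have hD0 := charDegree_ne_zero χ.2
  have hi : p ^ s * ordCompl[p] C.index = C.index := by
    rw [← hfac]
    exact Nat.ordProj_mul_ordCompl_eq_self _ _
  have hm : p ^ s * ordCompl[p] (charDegree (χ : G → ℂ)) = charDegree (χ : G → ℂ) := by
    rw [← hh]
    exact Nat.ordProj_mul_ordCompl_eq_self _ _
  have hmn : ¬ p ∣ ordCompl[p] (charDegree (χ : G → ℂ)) := Nat.not_dvd_ordCompl hp hD0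
  have hm0 : ((ordCompl[p] (charDegree (χ : G → ℂ)) : ℕ) : ℂ) ≠ 0 := by
    have : ordCompl[p] (charDegree (χ : G → ℂ)) ≠ 0 := fun h0 => hmn (by rw [h0]; exact dvd_zero _)
    exact_mod_cast this
  have hps : (p : ℂ) ^ s ≠ 0 := pow_ne_zero _ hpc
  have hcentral : centralChar (χ : G → ℂ) x₀ =
      (((ordCompl[p] C.index : ℕ) : ℂ) * ((ordCompl[p] (charDegree (χ : G → ℂ)) : ℕ) : ℂ)⁻¹) * (χ : G → ℂ) x₀ := by
    unfold centralChar
    rw [← charDegree_cast hχc]
    have h1 : ((C.index : ℕ) : ℂ) = (p : ℂ) ^ s * ((ordCompl[p] C.index : ℕ) : ℂ) := by exact_mod_cast hi.symm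
    have h2 : ((charDegree (χ : G → ℂ) : ℕ) : ℂ) = (p : ℂ) ^ s * ((ordCompl[p] (charDegree (χ : G → ℂ)) : ℕ) : ℂ) := by
      exact_mod_cast hm.symm
    show ((C.index : ℕ) : ℂ) * _ / _ = _
    rw [h1, h2]
    field_simp
  rw [hcentral]
  exact MemLocalIdeal.mul_left hM (MemLocalRing.mul hM (MemLocalRing.natCast hM _) (natCast_inv_memLocalRing hM hmn)) hχI

/-- The regular restriction of a character of a block, multiplied by the `p`-part of the group
order divided by the `p`-part of `p ^ minVal`, has integer coefficients on the block. -/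
theorem exists_block_expansion (hM : IsPModular p M) {B : Set (IrrCharacter G)} (hB : IsPBlock M B)
    {ψ : IrrCharacter G} (hψ : ψ ∈ B) : ∃ k : IrrCharacter G → ℤ, (∀ ξ, ξ ∉ B → k ξ = 0) ∧
      ∀ g : G, ((p ^ blockDefect p B : ℕ) : ℂ) * (if p ∣ orderOf g then 0 else (ψ : G → ℂ) g) =
        ∑ ξ : IrrCharacter G, (k ξ : ℂ) * (ξ : G → ℂ) g := by
  classical
  have hp := hM.1
  haveI := Fact.mk hp
  have hψc := IsIrrCharacter.isCharacter' ψ.2
  set s := minVal p B with hs
  set a := (Nat.card G).factorization p with ha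
  have hne := block_nonempty hM hB
  have hsa : s ≤ a := minVal_le_card hne hp
  have hdef : blockDefect p B = a - s := rfl
  choose n hn using fun ξ : IrrCharacter G =>
    exists_int_classInner (isGen_regChar (p := p) hψc) (isGen_of_char (IsIrrCharacter.isCharacter' ξ.2))
  have hdvd : ∀ ξ : IrrCharacter G, ((p ^ s : ℕ) : ℤ) ∣ n ξ := by
    intro ξ
    by_cases hξ : ξ ∈ B
    · have h1 := memLocalRing_div_right (p := p) hM hψc ξ.2
      rw [hn ξ, ← charDegree_cast (IsIrrCharacter.isCharacter' ξ.2)] at h1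
      have h3 := pow_dvd_of_memLocalRing hM (charDegree_ne_zero ξ.2) h1
      have h4 : p ^ s ∣ p ^ (charDegree (ξ : G → ℂ)).factorization p := pow_dvd_pow p (minVal_le hξ)
      exact (Int.natCast_dvd_natCast.mpr h4).trans h3
    · have h1 := classInner_regChar_eq_zero (p := p) hM hB hψ hξ
      rw [hn ξ] at h1
      have h2 : n ξ = 0 := by exact_mod_cast h1
      rw [h2]
      exact dvd_zero _
  choose k hk using hdvd
  have hP0 : ((p ^ s : ℕ) : ℂ) ≠ 0 := by exact_mod_cast pow_ne_zero _ hp.ne_zero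
  have hPs : ((p ^ s : ℕ) : ℤ) ≠ 0 := by exact_mod_cast pow_ne_zero _ hp.ne_zero
  refine ⟨k, ?_, ?_⟩
  · intro ξ hξ
    have h1 := classInner_regChar_eq_zero (p := p) hM hB hψ hξ
    rw [hn ξ] at h1
    have h2 : n ξ = 0 := by exact_mod_cast h1
    rw [hk ξ] at h2
    exact (mul_eq_zero.mp h2).resolve_left hPs
  · intro g
    have hcl : IsClassFunction G (regChar p (ψ : G → ℂ)) :=
      regChar_isClass (IsCharacter.isClassFunction' hψc)
    have h1 := congrFun (classFunction_expand hcl) g
    rw [Finset.sum_apply] at h1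
    apply mul_left_cancel₀ hP0
    have h2 : ((p ^ s : ℕ) : ℂ) * ((p ^ blockDefect p B : ℕ) : ℂ) = ((p ^ a : ℕ) : ℂ) := by
      rw [hdef, ← Nat.cast_mul, ← pow_add]
      congr 2
      omega
    rw [← mul_assoc, h2, Finset.mul_sum]
    have h3 : ((p ^ a : ℕ) : ℂ) * (if p ∣ orderOf g then 0 else (ψ : G → ℂ) g) = regChar p (ψ : G → ℂ) g := by
      rw [regChar_apply]
      split_ifs
      · simp
      · rfl
    rw [h3, h1]
    refine Finset.sum_congr rfl fun ξ _ => ?_
    rw [Pi.smul_apply, smul_eq_mul, hn ξ, hk ξ]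
    push_cast
    ring

/-- Heights are detected by the integer coefficients. -/
theorem height_iff (hM : IsPModular p M) {B : Set (IrrCharacter G)} (hB : IsPBlock M B)
    {χ : IrrCharacter G} (hχ : χ ∈ B) :
    (blockHeight p B (χ : G → ℂ) = 0 ↔ ∃ ξ ∈ B, ∃ n : ℤ, classInner (regChar p (χ : G → ℂ)) (ξ : G → ℂ) = (n : ℂ) ∧ n ≠ 0 ∧
        padicValInt p n = (charDegree (ξ : G → ℂ)).factorization p) ∧
    (blockHeight p B (χ : G → ℂ) = 0 ↔ ∀ ξ ∈ B, ∃ n : ℤ, classInner (regChar p (χ : G → ℂ)) (ξ : G → ℂ) = (n : ℂ) ∧ n ≠ 0 ∧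
        padicValInt p n = (charDegree (ξ : G → ℂ)).factorization p) := by
  classical
  have hp := hM.1
  haveI := Fact.mk hp
  have hχc := IsIrrCharacter.isCharacter' χ.2
  have hmin : minVal p B ≤ (charDegree (χ : G → ℂ)).factorization p := minVal_le hχ
  have hheight : blockHeight p B (χ : G → ℂ) = 0 ↔ (charDegree (χ : G → ℂ)).factorization p = minVal p B := by
    show (charDegree (χ : G → ℂ)).factorization p - minVal p B = 0 ↔ _
    omega
  have hint : ∀ ξ : IrrCharacter G, ∃ n : ℤ, classInner (regChar p (χ : G → ℂ)) (ξ : G → ℂ) = (n : ℂ) := fun ξ =>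
    exists_int_classInner (isGen_regChar (p := p) hχc) (isGen_of_char (IsIrrCharacter.isCharacter' ξ.2))
  have hforward : blockHeight p B (χ : G → ℂ) = 0 → ∀ ξ ∈ B, ∃ n : ℤ, classInner (regChar p (χ : G → ℂ)) (ξ : G → ℂ) = (n : ℂ) ∧ n ≠ 0 ∧
        padicValInt p n = (charDegree (ξ : G → ℂ)).factorization p := by
    intro hh ξ hξ
    obtain ⟨n, hn⟩ := hint ξ
    refine ⟨n, hn, ?_⟩
    have h1 := not_ideal_of_height_zero (p := p) hM hB hχ hξ (hheight.mp hh)
    have h2 := memLocalRing_div_right (p := p) hM hχc ξ.2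
    rw [hn, ← charDegree_cast (IsIrrCharacter.isCharacter' ξ.2)] at h1 h2
    have h3 := (memLocalIdeal_div_iff hM (charDegree_ne_zero ξ.2) h2).not.mp h1
    simpa using h3
  have hbackward : (∃ ξ ∈ B, ∃ n : ℤ, classInner (regChar p (χ : G → ℂ)) (ξ : G → ℂ) = (n : ℂ) ∧ n ≠ 0 ∧
        padicValInt p n = (charDegree (ξ : G → ℂ)).factorization p) → blockHeight p B (χ : G → ℂ) = 0 := by
    rintro ⟨ξ, hξ, n, hn, hn0, hval⟩
    by_contra hh
    have hlt : minVal p B < (charDegree (χ : G → ℂ)).factorization p := by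
      rw [hheight] at hh
      omega
    have hne := block_nonempty hM hB
    obtain ⟨ξ₀, hξ₀, hv⟩ := exists_minVal (p := p) hne
    obtain ⟨n₀, hn₀⟩ := hint ξ₀
    -- `n₀ / χ(1)` lies in the local ring
    have h1 := memLocalRing_div_left (p := p) hM χ.2 (IsIrrCharacter.isCharacter' ξ₀.2)
    rw [hn₀, ← charDegree_cast hχc] at h1
    have h2 := pow_dvd_of_memLocalRing hM (charDegree_ne_zero χ.2) h1
    -- so `n₀ / ξ₀(1)` lies in the ideal
    have h3 := memLocalRing_div_right (p := p) hM hχc ξ₀.2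
    rw [hn₀, ← charDegree_cast (IsIrrCharacter.isCharacter' ξ₀.2)] at h3
    have h4 : MemLocalIdeal M ((n₀ : ℂ) / (charDegree (ξ₀ : G → ℂ) : ℂ)) := by
      rw [memLocalIdeal_div_iff hM (charDegree_ne_zero ξ₀.2) h3]
      rintro ⟨hn₀0, hval₀⟩
      have h5 := (padicValInt_dvd_iff (p := p) _ n₀).mp (by simpa using h2)
      rcases h5 with h6 | h6
      · exact hn₀0 h6
      · omega
    -- transfer to `ξ`
    have hBξ := blockOf_eq_of_mem hM hB hξ₀
    have hsame : SameBlock M (ξ₀ : G → ℂ) (ξ : G → ℂ) := by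
      rw [hBξ] at hξ
      exact hξ
    have h7 := sameBlock_div (p := p) hM hχc ξ₀.2 ξ.2 hsame
    rw [hn, hn₀, ← charDegree_cast (IsIrrCharacter.isCharacter' ξ₀.2),
      ← charDegree_cast (IsIrrCharacter.isCharacter' ξ.2)] at h7
    have h8 := MemLocalIdeal.sub hM h4 h7
    have h9 : MemLocalIdeal M ((n : ℂ) / (charDegree (ξ : G → ℂ) : ℂ)) := MemLocalIdeal.of_eq h8 (by ring)
    have h10 := memLocalRing_div_right (p := p) hM hχc ξ.2
    rw [hn, ← charDegree_cast (IsIrrCharacter.isCharacter' ξ.2)] at h10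
    exact (memLocalIdeal_div_iff hM (charDegree_ne_zero ξ.2) h10).mp h9 ⟨hn0, hval⟩
  refine ⟨⟨fun h => ?_, hbackward⟩, ⟨hforward, fun h => hbackward ?_⟩⟩
  · obtain ⟨n, h1, h2, h3⟩ := hforward h χ hχ
    exact ⟨χ, hχ, n, h1, h2, h3⟩
  · obtain ⟨n, h1, h2, h3⟩ := h χ hχ
    exact ⟨χ, hχ, n, h1, h2, h3⟩

end Reg


end Cfsg.Agent.Lib.BrauerRegular
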