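import Mathlib
import Cfsg.Prelude.Def_Blocks
import Cfsg.Agent.Lib.BrauerRegular
import Cfsg.Agent.Lib.CharBlockHeight
import Cfsg.Agent.Lib.CharClass

/-!
# Characteristic functions of sections are integral combinations of characters
-/

set_option autoImplicit false
set_option linter.style.haveILetI false
set_option linter.unusedSectionVars false
set_option linter.unusedVariables false

namespace Cfsg.Agent.Lib.BrauerSection

open scoped ComplexConjugate
open Module Cfsg Cfsg.Agent.Lib.CharOps Cfsg.Agent.Lib.CharIrr Cfsg.Agent.Lib.CharGen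
  Cfsg.Agent.Lib.BrauerInd Cfsg.Agent.Lib.BrauerElem Cfsg.Agent.Lib.BrauerThm Cfsg.Agent.Lib.BrauerHall
  Cfsg.Agent.Lib.CharBlockLocal Cfsg.Agent.Lib.CharBlockConv Cfsg.Agent.Lib.CharBlockOrth

universe u

section Central

variable {C : Type u} [Group C] [Fintype C]

/-- Irreducible characters on multiplication by a central element. -/
theorem irr_apply_mul_central {ξ : C → ℂ} (hξ : IsIrrCharacter C ξ) {z : C} (hz : z ∈ Subgroup.center C) (y : C) :
    ξ (y * z) = ξ y * (ξ z / ξ 1) := by
  have h0 := degree_ne_zero hξ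
  obtain ⟨n, ρ, hρ, rfl⟩ := hξ
  haveI := hρ
  obtain ⟨c, hc⟩ := Cfsg.Agent.Lib.CharClass.schur_scalar ρ (ρ z) (fun g => by
    have h1 : z * g = g * z := (Subgroup.mem_center_iff.mp hz g).symm
    have h2 := congrArg ρ h1
    rw [map_mul, map_mul] at h2
    exact h2)
  have h1 : ρ.character z = c * ρ.character 1 := by
    simp only [Representation.character, map_one, hc]
    rw [map_smul]
    rfl
  have h2 : ρ.character (y * z) = c * ρ.character y := by
    simp only [Representation.character, map_mul, hc]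
    have : ρ y * (c • LinearMap.id) = c • ρ y := by
      ext v
      simp
    rw [this, map_smul]
    rfl
  rw [h2, h1]
  field_simp

/-- The central character at a central element is integral. -/
theorem isIntegral_central_ratio {ξ : C → ℂ} (hξ : IsIrrCharacter C ξ) {z : C} (hz : z ∈ Subgroup.center C) :
    IsIntegral ℤ (ξ z / ξ 1) := by
  have h1 := isIntegral_centralChar hξ z
  unfold centralChar at h1
  have h2 : Subgroup.centralizer ({z} : Set C) = ⊤ := by
    rw [eq_top_iff]
    intro g _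
    rw [Subgroup.mem_centralizer_iff]
    intro h hh
    rw [Set.mem_singleton_iff] at hh
    rw [hh]
    exact (Subgroup.mem_center_iff.mp hz g).symm
  rw [h2, Subgroup.index_top] at h1
  simpa using h1

end Central

section Unique

variable {G : Type u} [Group G] [Finite G]

/-- Uniqueness of the decomposition of an element along a coprime factorization of the order. -/
theorem section_unique {m n : ℕ} (hmn : Nat.card G = m * n) (hcop : Nat.Coprime m n) {u v u' v' : G}
    (h : u * v = u' * v') (hc : Commute u v) (hc' : Commute u' v')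
    (hu : Nat.Coprime (orderOf u) n) (hv : Nat.Coprime (orderOf v) m)
    (hu' : Nat.Coprime (orderOf u') n) (hv' : Nat.Coprime (orderOf v') m) : u = u' ∧ v = v' := by
  let α : ℕ := Nat.chineseRemainder hcop 1 0
  have hα1 : α ≡ 1 [MOD m] := (Nat.chineseRemainder hcop 1 0).2.1
  have hα0 : α ≡ 0 [MOD n] := (Nat.chineseRemainder hcop 1 0).2.2
  have key : ∀ {a b : G}, Commute a b → Nat.Coprime (orderOf a) n → Nat.Coprime (orderOf b) m → (a * b) ^ α = a := by
    intro a b hab ha hb
    have ha' : orderOf a ∣ m := by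
      have : orderOf a ∣ m * n := by rw [← hmn]; exact orderOf_dvd_natCard a
      exact ha.dvd_of_dvd_mul_right this
    have hb' : orderOf b ∣ n := by
      have : orderOf b ∣ m * n := by rw [← hmn]; exact orderOf_dvd_natCard b
      exact hb.dvd_of_dvd_mul_left this
    rw [hab.mul_pow]
    have h1 : a ^ α = a := by
      have : α ≡ 1 [MOD orderOf a] := hα1.of_dvd ha'
      have h2 := (pow_eq_pow_iff_modEq (x := a)).mpr this
      simpa using h2
    have h2 : b ^ α = 1 := by
      have : α ≡ 0 [MOD orderOf b] := hα0.of_dvd hb'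
      have h3 := (pow_eq_pow_iff_modEq (x := b)).mpr this
      simpa using h3
    rw [h1, h2, mul_one]
  have h1 := key hc hu hv
  have h2 := key hc' hu' hv'
  have h3 : u = u' := by rw [← h1, h, h2]
  refine ⟨h3, ?_⟩
  rw [h3] at h
  exact mul_left_cancel h

end Unique

section Span

theorem isInt_nat (m : ℕ) : IsIntegral ℤ (m : ℂ) := natCast_mem (integralClosure ℤ ℂ) m

theorem isInt_int (m : ℤ) : IsIntegral ℤ (m : ℂ) := intCast_mem (integralClosure ℤ ℂ) m

variable {G : Type u} [Group G] [Fintype G]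

/-- Functions which are combinations of irreducible characters with algebraic integer coefficients. -/
def IntSpan (f : G → ℂ) : Prop :=
  ∃ c : IrrCharacter G → ℂ, (∀ χ, IsIntegral ℤ (c χ)) ∧ f = ∑ χ : IrrCharacter G, c χ • (χ : G → ℂ)

theorem IntSpan.add {f h : G → ℂ} (hf : IntSpan f) (hh : IntSpan h) : IntSpan (f + h) := by
  obtain ⟨a, ha, rfl⟩ := hf
  obtain ⟨b, hb, rfl⟩ := hh
  refine ⟨a + b, fun χ => (ha χ).add (hb χ), ?_⟩
  rw [← Finset.sum_add_distrib]
  refine Finset.sum_congr rfl fun χ _ => ?_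
  simp [add_smul]

theorem IntSpan.zero : IntSpan (0 : G → ℂ) :=
  ⟨0, fun χ => isIntegral_zero, by simp⟩

theorem IntSpan.smul {f : G → ℂ} {r : ℂ} (hr : IsIntegral ℤ r) (hf : IntSpan f) : IntSpan (r • f) := by
  obtain ⟨a, ha, rfl⟩ := hf
  refine ⟨fun χ => r * a χ, fun χ => hr.mul (ha χ), ?_⟩
  rw [Finset.smul_sum]
  refine Finset.sum_congr rfl fun χ _ => ?_
  rw [smul_smul]

theorem IntSpan.sum {ι : Type*} (s : Finset ι) {f : ι → G → ℂ} (h : ∀ i ∈ s, IntSpan (f i)) :
    IntSpan (∑ i ∈ s, f i) := by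
  classical
  induction s using Finset.induction_on with
  | empty => simpa using IntSpan.zero
  | insert a s ha ih =>
    rw [Finset.sum_insert ha]
    exact IntSpan.add (h a (Finset.mem_insert_self a s)) (ih fun i hi => h i (Finset.mem_insert_of_mem hi))

theorem IntSpan.of_character {χ : G → ℂ} (hχ : IsCharacter G χ) : IntSpan χ := by
  classical
  refine ⟨fun ψ => classInner χ (ψ : G → ℂ), fun ψ => ?_, classFunction_expand (IsCharacter.isClassFunction' hχ)⟩
  obtain ⟨m, hm⟩ := exists_nat_classInner hχ (IsIrrCharacter.isCharacter' ψ.2)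
  show IsIntegral ℤ (classInner χ (ψ : G → ℂ))
  rw [hm]
  exact isInt_nat m

end Span

section Section

variable {G : Type u} [Group G] [Fintype G]

/-- The section of `g`. -/
def InSection (m n : ℕ) (g x : G) : Prop :=
  ∃ v : G, IsConj v g ∧ (∃ u : G, x = u * v ∧ Commute u v ∧ Nat.Coprime (orderOf u) n ∧ Nat.Coprime (orderOf v) m)

open scoped Classical in
/-- The indicator on the centralizer. -/
noncomputable def secA (n : ℕ) (g : G) : Subgroup.centralizer ({g} : Set G) → ℂ :=
  fun y => if Nat.Coprime (orderOf ((y : G) * g⁻¹)) n then 1 else 0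

theorem mem_centralizer_self' (g : G) : g ∈ Subgroup.centralizer ({g} : Set G) := by
  rw [Subgroup.mem_centralizer_iff]
  intro h hh
  rw [Set.mem_singleton_iff] at hh
  rw [hh]

theorem mem_centralizer_iff' {g t : G} : t ∈ Subgroup.centralizer ({g} : Set G) ↔ Commute t g := by
  rw [Subgroup.mem_centralizer_iff]
  constructor
  · intro h
    exact (h g (Set.mem_singleton g)).symm
  · intro h k hk
    rw [Set.mem_singleton_iff] at hk
    rw [hk]
    exact h.eq.symm

theorem commute_conj {a b : G} (h : Commute a b) (w : G) : Commute (w * a * w⁻¹) (w * b * w⁻¹) := by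
  show (w * a * w⁻¹) * (w * b * w⁻¹) = (w * b * w⁻¹) * (w * a * w⁻¹)
  have h1 : (w * a * w⁻¹) * (w * b * w⁻¹) = w * (a * b) * w⁻¹ := by group
  have h2 : (w * b * w⁻¹) * (w * a * w⁻¹) = w * (b * a) * w⁻¹ := by group
  rw [h1, h2, h.eq]

theorem indFun_secA_of_not_mem {m n : ℕ} {g x : G} (hg : Nat.Coprime (orderOf g) m)
    (hx : ¬ InSection m n g x) : indFun (Subgroup.centralizer ({g} : Set G)) (secA n g) x = 0 := by
  classical
  rw [indFun_apply]
  apply mul_eq_zero_of_right
  refine Finset.sum_eq_zero fun w _ => ?_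
  by_cases hw : w⁻¹ * x * w ∈ Subgroup.centralizer ({g} : Set G)
  · rw [extendByZero_of_mem _ _ hw]
    show (if Nat.Coprime (orderOf ((w⁻¹ * x * w) * g⁻¹)) n then (1 : ℂ) else 0) = 0
    rw [if_neg]
    intro hco
    apply hx
    have hcomm : Commute (w⁻¹ * x * w) g := mem_centralizer_iff'.mp hw
    refine ⟨w * g * w⁻¹, ?_, x * (w * g * w⁻¹)⁻¹, by group, ?_, ?_, ?_⟩
    · exact (isConj_iff.mpr ⟨w, rfl⟩).symm
    · have h1 : x * (w * g * w⁻¹)⁻¹ = w * ((w⁻¹ * x * w) * g⁻¹) * w⁻¹ := by group
      rw [h1]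
      have h2 : Commute ((w⁻¹ * x * w) * g⁻¹) g := hcomm.mul_left (Commute.inv_left (Commute.refl g))
      exact commute_conj h2 w
    · have h1 : x * (w * g * w⁻¹)⁻¹ = w * ((w⁻¹ * x * w) * g⁻¹) * w⁻¹ := by group
      rw [h1, orderOf_conj']
      exact hco
    · rw [orderOf_conj']
      exact hg
  · rw [extendByZero_of_not_mem _ _ hw]

theorem indFun_secA_of_mem {m n : ℕ} (hmn : Nat.card G = m * n) (hcop : Nat.Coprime m n) {g x : G}
    (hg : Nat.Coprime (orderOf g) m)
    (hx : InSection m n g x) : indFun (Subgroup.centralizer ({g} : Set G)) (secA n g) x = 1 := by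
  classical
  obtain ⟨v, hv, u, rfl, hc, hu, hvm⟩ := hx
  obtain ⟨w₀, hw₀⟩ := isConj_iff.mp hv.symm
  -- `hw₀ : w₀ * g * w₀⁻¹ = v`
  subst hw₀
  set C := Subgroup.centralizer ({g} : Set G) with hC
  let u₀ : G := w₀⁻¹ * u * w₀
  have hu₀ : Commute u₀ g := by
    have := commute_conj hc w₀⁻¹
    have h1 : w₀⁻¹ * (w₀ * g * w₀⁻¹) * w₀⁻¹⁻¹ = g := by group
    rw [h1] at this
    have h2 : w₀⁻¹ * u * w₀⁻¹⁻¹ = u₀ := by simp [u₀]
    rwa [h2] at this
  have hordu₀ : orderOf u₀ = orderOf u := by
    have := orderOf_conj' w₀⁻¹ u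
    simpa [u₀] using this
  have hu₀C : u₀ ∈ C := mem_centralizer_iff'.mpr hu₀
  have hgC : g ∈ C := mem_centralizer_self' g
  have hterm : ∀ t : G, extendByZero C (secA n g) ((w₀ * t)⁻¹ * (u * (w₀ * g * w₀⁻¹)) * (w₀ * t)) =
      if t ∈ C then 1 else 0 := by
    intro t
    have hconj : (w₀ * t)⁻¹ * (u * (w₀ * g * w₀⁻¹)) * (w₀ * t) = t⁻¹ * (u₀ * g) * t := by
      simp only [u₀]
      group
    rw [hconj]
    by_cases ht : t ∈ C
    · rw [if_pos ht, extendByZero_of_mem _ _ (C.mul_mem (C.mul_mem (C.inv_mem ht) (C.mul_mem hu₀C hgC)) ht)]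
      show (if Nat.Coprime (orderOf ((t⁻¹ * (u₀ * g) * t) * g⁻¹)) n then (1 : ℂ) else 0) = 1
      have htg : Commute t g := mem_centralizer_iff'.mp ht
      have h1 : (t⁻¹ * (u₀ * g) * t) * g⁻¹ = t⁻¹ * u₀ * t⁻¹⁻¹ := by
        have h2 : g * t * g⁻¹ = t := by
          rw [← htg.eq]
          group
        calc (t⁻¹ * (u₀ * g) * t) * g⁻¹ = t⁻¹ * u₀ * (g * t * g⁻¹) := by group
          _ = _ := by rw [h2]; group
      rw [h1, orderOf_conj', hordu₀, if_pos hu]
    · rw [if_neg ht]
      by_cases hy : t⁻¹ * (u₀ * g) * t ∈ C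
      · rw [extendByZero_of_mem _ _ hy]
        show (if Nat.Coprime (orderOf ((t⁻¹ * (u₀ * g) * t) * g⁻¹)) n then (1 : ℂ) else 0) = 0
        rw [if_neg]
        intro hco
        apply ht
        set y := t⁻¹ * (u₀ * g) * t with hy'
        have hyg : Commute y g := mem_centralizer_iff'.mp hy
        let u₁ := y * g⁻¹
        have hu₁g : Commute u₁ g := hyg.mul_left (Commute.inv_left (Commute.refl g))
        have h1 : u₀ * g = (t * u₁ * t⁻¹) * (t * g * t⁻¹) := by
          have : t * y * t⁻¹ = u₀ * g := by rw [hy']; group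
          rw [← this]
          simp only [u₁]
          group
        obtain ⟨_, h2⟩ := section_unique hmn hcop h1 hu₀ (commute_conj hu₁g t)
          (by rw [hordu₀]; exact hu) hg (by rw [orderOf_conj']; exact hco) (by rw [orderOf_conj']; exact hg)
        -- `g = t g t⁻¹`
        apply mem_centralizer_iff'.mpr
        show t * g = g * t
        calc t * g = (t * g * t⁻¹) * t := by group
          _ = g * t := by rw [← h2]
      · rw [extendByZero_of_not_mem _ _ hy]
  rw [indFun_apply]
  have hsum : ∑ w : G, extendByZero C (secA n g) (w⁻¹ * (u * (w₀ * g * w₀⁻¹)) * w) = ∑ t : G, if t ∈ C then (1 : ℂ) else 0 := by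
    rw [← Equiv.sum_comp (Equiv.mulLeft w₀)]
    refine Finset.sum_congr rfl fun t _ => ?_
    exact hterm t
  rw [hsum]
  have hcard : ∑ t : G, (if t ∈ C then (1 : ℂ) else 0) = (Nat.card C : ℂ) := by
    rw [Finset.sum_boole, Nat.card_eq_fintype_card, Fintype.card_subtype]
  rw [hcard]
  have h0 : (Nat.card C : ℂ) ≠ 0 := by exact_mod_cast Nat.card_pos.ne'
  field_simp
  rfl

/-- **Characteristic functions of sections** are integral linear combinations of irreducible characters. -/
theorem intSpan_section {m n : ℕ} (hmn : Nat.card G = m * n) (hcop : Nat.Coprime m n) {g : G}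
    (hg : Nat.Coprime (orderOf g) m) :
    IntSpan ((n : ℂ) • indFun (Subgroup.centralizer ({g} : Set G)) (secA n g)) := by
  classical
  set C := Subgroup.centralizer ({g} : Set G) with hC
  letI : Fintype C := Fintype.ofFinite _
  let g' : C := ⟨g, mem_centralizer_self' g⟩
  have hg' : g'⁻¹ ∈ Subgroup.center C := by
    apply Subgroup.inv_mem
    rw [Subgroup.mem_center_iff]
    intro z
    apply Subtype.ext
    exact (mem_centralizer_iff'.mp z.2).eq
  have hcard : Nat.card C ∣ m * n := by
    rw [← hmn]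
    exact Subgroup.card_subgroup_dvd_card C
  set ν := Nat.gcd (Nat.card C) n with hν
  obtain ⟨t, ht⟩ : ν ∣ n := Nat.gcd_dvd_right _ _
  have hν0 : (ν : ℂ) ≠ 0 := by
    have : ν ≠ 0 := Nat.gcd_ne_zero_left Nat.card_pos.ne'
    exact_mod_cast this
  have hΨ := isGen_indicator (G := C) hcop hcard
  set Ψ : C → ℂ := fun x => if Nat.Coprime (orderOf x) n then (ν : ℂ) else 0 with hΨdef
  have hcl : IsClassFunction C Ψ := by
    intro a b
    simp only [hΨdef, orderOf_conj']
  have hexp := classFunction_expand hcl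
  choose z hz using fun ξ : IrrCharacter C =>
    exists_int_classInner hΨ (isGen_of_char (IsIrrCharacter.isCharacter' ξ.2))
  have hB : secA n g = ∑ ξ : IrrCharacter C,
      (((ν : ℂ)⁻¹ * z ξ * ((ξ : C → ℂ) g'⁻¹ / (ξ : C → ℂ) 1)) • (ξ : C → ℂ)) := by
    funext y
    have h1 := congrFun hexp (y * g'⁻¹)
    rw [Finset.sum_apply] at h1
    rw [Finset.sum_apply]
    have h2 : secA n g y = (ν : ℂ)⁻¹ * Ψ (y * g'⁻¹) := by
      simp only [secA, hΨdef]
      have h3 : orderOf (y * g'⁻¹) = orderOf ((y : G) * g⁻¹) := by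
        rw [← Subgroup.orderOf_coe]
        rfl
      rw [h3]
      split_ifs
      · field_simp
      · simp
    rw [h2, h1, Finset.mul_sum]
    refine Finset.sum_congr rfl fun ξ _ => ?_
    rw [Pi.smul_apply, Pi.smul_apply, smul_eq_mul, smul_eq_mul, hz ξ, irr_apply_mul_central ξ.2 hg']
    ring
  have hsum : (n : ℂ) • indFun C (secA n g) = ∑ ξ : IrrCharacter C,
      (((t : ℂ) * z ξ * ((ξ : C → ℂ) g'⁻¹ / (ξ : C → ℂ) 1)) • indFun C (ξ : C → ℂ)) := by
    rw [hB, indFun_sum, Finset.smul_sum]
    refine Finset.sum_congr rfl fun ξ _ => ?_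
    rw [indFun_smul, smul_smul]
    congr 1
    rw [ht]
    push_cast
    field_simp
  rw [hsum]
  apply IntSpan.sum
  intro ξ _
  apply IntSpan.smul
  · exact ((isInt_nat t).mul (isInt_int _)).mul (isIntegral_central_ratio ξ.2 hg')
  · exact IntSpan.of_character (isCharacter_indFun C (IsIrrCharacter.isCharacter' ξ.2))

end Section

end Cfsg.Agent.Lib.BrauerSection
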