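import Mathlib
import Cfsg.Prelude.Def_Local

set_option autoImplicit false

universe u

namespace Cfsg.Agent.Lib.H6Hall

/-- Hall `p'`-subgroups from a normal chain whose factors are `p`-groups or `p'`-groups. -/
theorem exists_hall_chain (p : ℕ) [hp : Fact p.Prime] (n : ℕ) :
    ∀ (G : Type u) [Group G] [Finite G] (H : Fin (n + 1) → Subgroup G),
    H 0 = ⊥ → H (Fin.last n) = ⊤ → Monotone H → (∀ i, (H i).Normal) →
    (∀ i : Fin n, (∃ m : ℕ, (H i.castSucc).relIndex (H i.succ) = p ^ m) ∨
      ((H i.castSucc).relIndex (H i.succ)).Coprime p) →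
    ∃ S : Subgroup G, (Nat.card S).Coprime p ∧ ∃ m : ℕ, S.index = p ^ m := by
  induction n with
  | zero =>
    intro G _ _ H h0 hl _ _ _
    refine ⟨⊥, by simp, 0, ?_⟩
    have h : (⊥ : Subgroup G) = ⊤ := by
      rw [← h0, ← hl]
      rfl
    rw [h]
    simp
  | succ n ih =>
    intro G _ _ H h0 hl hmono hnorm hc
    let N : Subgroup G := H (Fin.succ 0)
    haveI hN : N.Normal := hnorm _
    let f : G →* G ⧸ N := QuotientGroup.mk' N
    have hf : Function.Surjective f := QuotientGroup.mk'_surjective N
    have hker : f.ker = N := QuotientGroup.ker_mk' N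
    have hNle : ∀ i : Fin (n + 1), N ≤ H i.succ := fun i => hmono (Fin.succ_le_succ_iff.mpr (Fin.zero_le _))
    obtain ⟨Sb, hSb, m, hm⟩ := ih (G ⧸ N) (fun i => (H i.succ).map f)
      (by
        change N.map f = ⊥
        exact QuotientGroup.map_mk'_self N)
      (by
        change (H (Fin.last (n + 1))).map f = ⊤
        rw [hl]
        exact Subgroup.map_top_of_surjective f hf)
      (fun i j hij => Subgroup.map_mono (hmono (Fin.succ_le_succ_iff.mpr hij)))
      (fun i => by
        haveI := hnorm i.succ
        exact Subgroup.Normal.map inferInstance f hf)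
      (by
        intro i
        have key : ((H i.castSucc.succ).map f).relIndex ((H i.succ.succ).map f)
            = (H i.succ.castSucc).relIndex (H i.succ.succ) := by
          rw [Subgroup.relIndex_map_map, hker]
          have h1 : H i.castSucc.succ ⊔ N = H i.castSucc.succ := sup_eq_left.mpr (hNle _)
          have h2 : H i.succ.succ ⊔ N = H i.succ.succ := sup_eq_left.mpr (hNle _)
          rw [h1, h2, Fin.succ_castSucc]
        have := hc i.succ
        rw [← key] at this
        exact this)
    -- the preimage
    let L : Subgroup G := Sb.comap f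
    have hNL : N ≤ L := by
      intro x hx
      change f x ∈ Sb
      have : f x = 1 := by rw [← MonoidHom.mem_ker, hker]; exact hx
      rw [this]
      exact one_mem _
    have hLidx : L.index = p ^ m := by
      change (Sb.comap f).index = _
      rw [Subgroup.index_comap_of_surjective _ hf, hm]
    have hQ : Nat.card N * Nat.card (G ⧸ N) = Nat.card G := N.card_mul_index
    have hL : Nat.card L * p ^ m = Nat.card G := by
      rw [← hLidx]
      exact L.card_mul_index
    have hSbQ : Nat.card Sb * p ^ m = Nat.card (G ⧸ N) := by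
      rw [← hm]
      exact Sb.card_mul_index
    have hppos : 0 < p ^ m := pow_pos hp.out.pos _
    have hLcard : Nat.card L = Nat.card N * Nat.card Sb := by
      apply Nat.eq_of_mul_eq_mul_right hppos
      rw [hL, ← hQ, ← hSbQ]
      ring
    have hc0 := hc 0
    have hbot : (H (Fin.castSucc 0)).relIndex (H (Fin.succ 0)) = Nat.card N := by
      have : H (Fin.castSucc 0) = ⊥ := h0
      rw [this]
      exact Subgroup.relIndex_bot_left _
    rw [hbot] at hc0
    rcases hc0 with ⟨t, ht⟩ | hcop
    · -- `N` is a `p`-group: Schur-Zassenhaus in `L`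
      let N' : Subgroup L := N.subgroupOf L
      haveI : N'.Normal := Subgroup.Normal.subgroupOf inferInstance L
      have hN'card : Nat.card N' = Nat.card N :=
        Nat.card_congr (Subgroup.subgroupOfEquivOfLe hNL).toEquiv
      have hpos : 0 < Nat.card N := Nat.card_pos
      have hN'idx : N'.index = Nat.card Sb := by
        have := N'.card_mul_index
        rw [hN'card, hLcard] at this
        exact Nat.eq_of_mul_eq_mul_left hpos this
      have hcop' : (Nat.card N').Coprime N'.index := by
        rw [hN'card, hN'idx, ht]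
        exact (Nat.Coprime.pow_left _ hSb.symm)
      obtain ⟨K, hK⟩ := Subgroup.exists_right_complement'_of_coprime hcop'
      have hKcard : Nat.card K = Nat.card Sb := by
        have := hK.card_mul_card
        rw [hN'card, hLcard] at this
        exact Nat.eq_of_mul_eq_mul_left hpos this
      have hS : Nat.card (K.map L.subtype) = Nat.card K :=
        Nat.card_congr (Subgroup.equivMapOfInjective K L.subtype L.subtype_injective).symm.toEquiv
      refine ⟨K.map L.subtype, ?_, t + m, ?_⟩
      · rw [hS, hKcard]
        exact hSb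
      · have h1 := (K.map L.subtype).card_mul_index
        rw [hS, hKcard, ← hL, hLcard, ht] at h1
        have hSbpos : 0 < Nat.card Sb := Nat.card_pos
        apply Nat.eq_of_mul_eq_mul_left hSbpos
        rw [h1, pow_add]
        ring
    · refine ⟨L, ?_, m, hLidx⟩
      rw [hLcard]
      exact Nat.Coprime.mul_left hcop hSb

/-- Hall `p'`-subgroups of a finite `p`-soluble group. -/
theorem exists_hall (p : ℕ) [Fact p.Prime] {G : Type u} [Group G] [Finite G]
    (h : Cfsg.IsPSolvable p G) :
    ∃ S : Subgroup G, (Nat.card S).Coprime p ∧ ∃ m : ℕ, S.index = p ^ m := by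
  obtain ⟨n, H, h0, hl, hmono, hnorm, hc⟩ := h
  exact exists_hall_chain p n G H h0 hl hmono hnorm hc

/-- Subgroups of `p`-soluble groups are `p`-soluble. -/
theorem isPSolvable_subgroup (p : ℕ) [hp : Fact p.Prime] {G : Type u} [Group G] [Finite G]
    (h : Cfsg.IsPSolvable p G) (B : Subgroup G) : Cfsg.IsPSolvable p B := by
  obtain ⟨n, H, h0, hl, hmono, hnorm, hc⟩ := h
  refine ⟨n, fun i => (H i).subgroupOf B, ?_, ?_, ?_, ?_, ?_⟩
  · simp [h0]
  · simp [hl]
  · intro i j hij
    exact Subgroup.comap_mono (hmono hij)
  · intro i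
    haveI := hnorm i
    exact Subgroup.Normal.subgroupOf inferInstance B
  · intro i
    have key : ((H i.castSucc).subgroupOf B).relIndex ((H i.succ).subgroupOf B)
        ∣ (H i.castSucc).relIndex (H i.succ) := by
      have e1 : ((H i.castSucc).subgroupOf B).relIndex ((H i.succ).subgroupOf B)
          = (H i.castSucc).relIndex (((H i.succ).subgroupOf B).map B.subtype) := by
        exact Subgroup.relIndex_comap _ _ _
      rw [e1]
      set K := ((H i.succ).subgroupOf B).map B.subtype with hK
      have hKle : K ≤ H i.succ := by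
        rintro _ ⟨x, hx, rfl⟩
        exact hx
      haveI := hnorm i.castSucc
      have e2 : (H i.castSucc).relIndex (H i.castSucc ⊔ K) = (H i.castSucc).relIndex K :=
        Subgroup.relIndex_sup_left _ _
      rw [← e2]
      have hle : H i.castSucc ≤ H i.succ := hmono (Fin.castSucc_le_succ i)
      have hsup : H i.castSucc ⊔ K ≤ H i.succ := sup_le hle hKle
      rw [← Subgroup.relIndex_mul_relIndex (H i.castSucc) (H i.castSucc ⊔ K) (H i.succ) le_sup_left hsup]
      exact dvd_mul_right _ _
    rcases hc i with ⟨m, hm⟩ | hcop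
    · left
      rw [hm] at key
      obtain ⟨t, -, ht⟩ := (Nat.dvd_prime_pow hp.out).mp key
      exact ⟨t, ht⟩
    · right
      exact Nat.Coprime.coprime_dvd_left key hcop

/-- Two subgroups of coprime indices: `G = B A`. -/
theorem exists_mul_of_coprime {G : Type u} [Group G] [Finite G] (A B : Subgroup G)
    (hcop : A.index.Coprime B.index) (g : G) : ∃ s ∈ B, s⁻¹ * g ∈ A := by
  classical
  have h1 : A.relIndex B * B.index = (A ⊓ B).index := by
    have := Subgroup.relIndex_inf_mul_relIndex A B ⊤
    simpa using this
  have h2 : B.relIndex A * A.index = (A ⊓ B).index := by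
    have := Subgroup.relIndex_inf_mul_relIndex B A ⊤
    rw [inf_comm B A] at this
    simpa using this
  have hd : A.index ∣ A.relIndex B := by
    have : A.index ∣ A.relIndex B * B.index := by rw [h1, ← h2]; exact dvd_mul_left _ _
    exact hcop.dvd_of_dvd_mul_right this
  have hne : A.relIndex B ≠ 0 := by
    intro h0
    rw [h0, zero_mul] at h1
    exact Subgroup.index_ne_zero_of_finite h1.symm
  have hle : A.index ≤ A.relIndex B := Nat.le_of_dvd (Nat.pos_of_ne_zero hne) hd
  let x₀ : G ⧸ A := ((1 : G) : G ⧸ A)
  have hst : MulAction.stabilizer B x₀ = A.subgroupOf B := by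
    ext s
    simp only [MulAction.mem_stabilizer_iff, Subgroup.mem_subgroupOf]
    change ((s : G) • ((1 : G) : G ⧸ A)) = _ ↔ _
    rw [MulAction.Quotient.smul_coe]
    change (((s : G) • (1 : G) : G) : G ⧸ A) = ((1 : G) : G ⧸ A) ↔ _
    rw [QuotientGroup.eq]
    simp
  have hB : (MulAction.stabilizer B x₀).index = Set.ncard (MulAction.orbit B x₀) :=
    MulAction.index_stabilizer B x₀
  have hcard : Nat.card (G ⧸ A) ≤ Set.ncard (MulAction.orbit B x₀) := by
    rw [← hB, hst]
    exact hle
  have heq : MulAction.orbit B x₀ = Set.univ := by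
    apply Set.eq_of_subset_of_ncard_le (Set.subset_univ _) _ Set.finite_univ
    rw [Set.ncard_univ]
    exact hcard
  have hmem : ((g : G) : G ⧸ A) ∈ MulAction.orbit B x₀ := by
    rw [heq]
    trivial
  obtain ⟨s, hs⟩ := hmem
  refine ⟨s.1, s.2, ?_⟩
  have : (s.1 : G) • ((1 : G) : G ⧸ A) = ((g : G) : G ⧸ A) := hs
  rw [MulAction.Quotient.smul_coe] at this
  have h3 := QuotientGroup.eq.mp this
  simpa using h3

end Cfsg.Agent.Lib.H6Hall
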