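import Mathlib
import Cfsg.Agent.Lib.CharBurnside
import Cfsg.Agent.Lib.H6Hall
import Cfsg.Agent.S0043
import Cfsg.Agent.Lib.SylowCount

/-!
# P. Hall's theorem: Sylow complements for all primes imply solubility
-/

set_option autoImplicit false
set_option linter.style.haveILetI false
set_option linter.unusedSectionVars false
set_option linter.unusedVariables false

namespace Cfsg.Agent.Lib.HallSolv

universe u

/-- The property of having Sylow complements. -/
def HasComplements (G : Type u) [Group G] : Prop :=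
  ∀ t : ℕ, t.Prime → ∃ H : Subgroup G, Nat.Coprime (Nat.card H) t ∧ ∃ k : ℕ, H.index = t ^ k

theorem card_subgroupOf_dvd' {G : Type u} [Group G] [Finite G] (H A : Subgroup G) :
    Nat.card (H.subgroupOf A) ∣ Nat.card H := by
  let f : (H.subgroupOf A) →* H :=
    { toFun := fun x => ⟨x.1.1, x.2⟩, map_one' := rfl, map_mul' := fun _ _ => rfl }
  exact Subgroup.card_dvd_of_injective f
    (fun a b h => Subtype.ext (Subtype.ext (congrArg (fun z : H => (z : G)) h)))

theorem index_of_inf {G : Type u} [Group G] [Finite G] {A B : Subgroup G} (h : Nat.Coprime A.index B.index) :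
    (B.subgroupOf A).index = B.index := by
  have h1 : (B ⊓ A).relIndex A * A.index = (B ⊓ A).index := Subgroup.relIndex_mul_index inf_le_right
  have h2 : A.index ∣ (B ⊓ A).index := Subgroup.index_dvd_of_le inf_le_right
  have h3 : B.index ∣ (B ⊓ A).index := Subgroup.index_dvd_of_le inf_le_left
  have h4 : A.index * B.index ∣ (B ⊓ A).index := h.mul_dvd_of_dvd_of_dvd h2 h3
  have h5 : (B ⊓ A).index ≤ B.index * A.index := Subgroup.index_inf_le
  have h0 : (B ⊓ A).index ≠ 0 := Subgroup.index_ne_zero_of_finite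
  have h6 : (B ⊓ A).index = A.index * B.index := by
    apply le_antisymm
    · rwa [mul_comm]
    · exact Nat.le_of_dvd (Nat.pos_of_ne_zero h0) h4
  have h7 : (B.subgroupOf A).index = (B ⊓ A).relIndex A := by
    rw [Subgroup.inf_relIndex_right]
    rfl
  rw [h7]
  have hA : 0 < A.index := Nat.pos_of_ne_zero Subgroup.index_ne_zero_of_finite
  apply Nat.eq_of_mul_eq_mul_right hA
  rw [h1, h6, mul_comm]

theorem hasComplements_of_complement {G : Type u} [Group G] [Finite G] (hG : HasComplements G)
    {p : ℕ} (hp : p.Prime) {A : Subgroup G} (hAc : Nat.Coprime (Nat.card A) p) (hAi : ∃ a : ℕ, A.index = p ^ a) :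
    HasComplements A := by
  intro t ht
  by_cases htp : t = p
  · subst htp
    exact ⟨⊤, by rwa [Subgroup.card_top], 0, by simp⟩
  · obtain ⟨H, hHc, k, hk⟩ := hG t ht
    obtain ⟨a, ha⟩ := hAi
    have hcop : Nat.Coprime A.index H.index := by
      rw [ha, hk]
      exact Nat.Coprime.pow _ _ ((Nat.coprime_primes hp ht).2 (Ne.symm htp))
    refine ⟨H.subgroupOf A, ?_, k, ?_⟩
    · exact Nat.Coprime.coprime_dvd_left (card_subgroupOf_dvd' H A) hHc
    · rw [index_of_inf hcop, hk]

theorem hasComplements_quot {G : Type u} [Group G] [Finite G] (hG : HasComplements G) (N : Subgroup G) [N.Normal] :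
    HasComplements (G ⧸ N) := by
  intro t ht
  obtain ⟨H, hHc, k, hk⟩ := hG t ht
  refine ⟨H.map (QuotientGroup.mk' N), ?_, ?_⟩
  · exact Nat.Coprime.coprime_dvd_left (Subgroup.card_map_dvd H _) hHc
  · have h1 : (H.map (QuotientGroup.mk' N)).index ∣ H.index :=
      Subgroup.index_map_dvd H (QuotientGroup.mk'_surjective N)
    rw [hk] at h1
    obtain ⟨j, -, hj⟩ := (Nat.dvd_prime_pow ht).1 h1
    exact ⟨j, hj⟩

/-- A `q`-subgroup normal in `A` lies in each subgroup of index prime to `q`. -/
theorem le_of_normal_of_coprime {A : Type u} [Group A] [Finite A] {q : ℕ} [hq : Fact q.Prime]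
    (K T : Subgroup A) [hK : K.Normal] (hKq : IsPGroup q K) (hT : ¬ q ∣ T.index) : K ≤ T := by
  classical
  have h := IsPGroup.card_modEq_card_fixedPoints (p := q) hKq (A ⧸ T)
  have hidx : Nat.card (A ⧸ T) = T.index := rfl
  rw [hidx] at h
  have hne : Nonempty (MulAction.fixedPoints K (A ⧸ T)) := by
    by_contra hn
    rw [not_nonempty_iff] at hn
    rw [Nat.card_of_isEmpty] at h
    exact hT (Nat.modEq_zero_iff_dvd.1 h)
  obtain ⟨⟨c, hc⟩⟩ := hne
  obtain ⟨g, rfl⟩ := QuotientGroup.mk_surjective c
  have hfix : ∀ k ∈ K, g⁻¹ * (k * g) ∈ T := by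
    intro k hk
    have h1 : (⟨k, hk⟩ : K) • (g : A ⧸ T) = g := hc ⟨k, hk⟩
    have h2 : ((k * g : A) : A ⧸ T) = g := h1
    have h3 := QuotientGroup.eq.1 h2.symm
    exact h3
  intro k hk
  have h4 := hfix (g * k * g⁻¹) (hK.conj_mem k hk g)
  have h5 : g⁻¹ * (g * k * g⁻¹ * g) = k := by group
  rwa [h5] at h4

/-- **P. Hall's theorem.** -/
theorem solvable_of_complements (n : ℕ) : ∀ (G : Type u) [Group G] [Finite G], Nat.card G = n →
    HasComplements G → Group.IsSolvable G := by
  induction n using Nat.strong_induction_on with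
  | _ n ih =>
    intro G _ _ hn hG
    classical
    by_cases h1 : Nat.card G = 1
    · haveI : Subsingleton G := (Nat.card_eq_one_iff_unique.1 h1).1
      infer_instance
    -- a prime divisor of the order
    obtain ⟨p, hp, hpd⟩ := Nat.exists_prime_and_dvd h1
    haveI : Fact p.Prime := ⟨hp⟩
    obtain ⟨A, hAc, a, ha⟩ := hG p hp
    have hGpos : 0 < Nat.card G := Nat.card_pos
    have hltOf : ∀ {r : ℕ} {B : Subgroup G}, r.Prime → r ∣ Nat.card G → Nat.Coprime (Nat.card B) r → Nat.card B < n := by
      intro r B hr hrd hc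
      rw [← hn]
      apply lt_of_le_of_ne (Nat.le_of_dvd hGpos (Subgroup.card_subgroup_dvd_card B))
      intro h
      rw [h] at hc
      exact hr.one_lt.ne' (Nat.Coprime.eq_one_of_dvd hc.symm hrd)
    have hAsol : Group.IsSolvable A :=
      ih _ (hltOf hp hpd hAc) A rfl (hasComplements_of_complement hG hp hAc ⟨a, ha⟩)
    by_cases hAbot : Nat.card A = 1
    · -- `G` is a `p`-group
      have h2 : Nat.card G = p ^ a := by
        have := Subgroup.card_mul_index A
        rwa [hAbot, one_mul, ha, eq_comm] at this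
      haveI : Group.IsNilpotent G := (IsPGroup.of_card h2).isNilpotent
      infer_instance
    -- a minimal normal subgroup of `A`
    have hfin : Set.Finite {K : Subgroup A | K.Normal ∧ K ≠ ⊥} := Set.toFinite _
    have hnon : Set.Nonempty {K : Subgroup A | K.Normal ∧ K ≠ ⊥} := by
      refine ⟨⊤, inferInstance, ?_⟩
      intro h
      apply hAbot
      have h3 : Nat.card (⊤ : Subgroup A) = 1 := by rw [h]; exact Subgroup.card_bot
      rwa [Subgroup.card_top] at h3
    obtain ⟨K₀, hK₀⟩ := hfin.exists_minimal hnon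
    obtain ⟨hK₀n, hK₀b⟩ := hK₀.1
    haveI := hK₀n
    have hmin : ∀ M : Subgroup A, M.Normal → M ≤ K₀ → M = ⊥ ∨ M = K₀ := by
      intro M hM hle
      by_cases hMb : M = ⊥
      · exact Or.inl hMb
      · right
        exact le_antisymm hle (hK₀.2 ⟨hM, hMb⟩ hle)
    obtain ⟨hcomm, q, hq, hqx⟩ := Cfsg.Agent.S0043.result K₀ hK₀b hmin
    haveI : Fact q.Prime := ⟨hq⟩
    have hK₀q : IsPGroup q K₀ := by
      intro x
      exact ⟨1, by
        apply Subtype.ext
        simpa using hqx x x.2⟩
    have hqA : q ∣ Nat.card A := by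
      have hne : Nontrivial K₀ := (Subgroup.nontrivial_iff_ne_bot K₀).2 hK₀b
      obtain ⟨j, hj⟩ := IsPGroup.iff_card.1 hK₀q
      have hj0 : j ≠ 0 := by
        rintro rfl
        have := Finite.one_lt_card (α := K₀)
        rw [hj] at this
        simp at this
      have h4 : q ∣ Nat.card K₀ := by
        rw [hj]
        exact dvd_pow_self q hj0
      exact h4.trans (Subgroup.card_subgroup_dvd_card K₀)
    have hqp : q ≠ p := by
      rintro rfl
      exact hq.one_lt.ne' (Nat.Coprime.eq_one_of_dvd hAc.symm hqA)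
    -- is there a third prime?
    by_cases h3 : ∃ r : ℕ, r.Prime ∧ r ∣ Nat.card G ∧ r ≠ p ∧ r ≠ q
    · obtain ⟨r, hr, hrd, hrp, hrq⟩ := h3
      obtain ⟨B, hBc, b, hb⟩ := hG r hr
      have hBsol : Group.IsSolvable B :=
        ih _ (hltOf hr hrd hBc) B rfl (hasComplements_of_complement hG hr hBc ⟨b, hb⟩)
      have hcopAB : Nat.Coprime A.index B.index := by
        rw [ha, hb]
        exact Nat.Coprime.pow _ _ ((Nat.coprime_primes hp hr).2 (Ne.symm hrp))
      -- `K₀` lies in `B`
      have hK₀T : K₀ ≤ B.subgroupOf A := by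
        apply le_of_normal_of_coprime K₀ (B.subgroupOf A) hK₀q
        rw [index_of_inf hcopAB, hb]
        intro hd
        have := (Nat.prime_dvd_prime_iff_eq hq hr).1 (hq.dvd_of_dvd_pow hd)
        exact hrq this.symm
      let K : Subgroup G := K₀.map A.subtype
      have hKB : K ≤ B := by
        rintro _ ⟨x, hx, rfl⟩
        exact hK₀T hx
      -- the normal closure
      let N : Subgroup G := Subgroup.normalClosure (K : Set G)
      have hNB : N ≤ B := by
        apply (Subgroup.closure_le _).2
        intro y hy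
        obtain ⟨k, hk, hky⟩ := Group.mem_conjugatesOfSet_iff.1 hy
        obtain ⟨g, rfl⟩ := isConj_iff.1 hky
        obtain ⟨s, hs, hsg⟩ := Cfsg.Agent.Lib.H6Hall.exists_mul_of_coprime A B hcopAB g
        have h5 : g = s * (s⁻¹ * g) := by group
        rw [h5]
        set c := s⁻¹ * g with hc
        have hkc : c * k * c⁻¹ ∈ K := by
          obtain ⟨x, hx, rfl⟩ := hk
          exact ⟨_, hK₀n.conj_mem x hx ⟨c, hsg⟩, rfl⟩
        have h6 : s * c * k * (s * c)⁻¹ = s * (c * k * c⁻¹) * s⁻¹ := by group
        rw [h6]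
        exact B.mul_mem (B.mul_mem hs (hKB hkc)) (B.inv_mem hs)
      haveI hNn : N.Normal := Subgroup.normalClosure_normal
      have hNsol : Group.IsSolvable N :=
        Group.isSolvable_of_isSolvable_injective (f := Subgroup.inclusion hNB) (Subgroup.inclusion_injective hNB)
      have hKN : K ≤ N := Subgroup.subset_normalClosure
      have hNne : 1 < Nat.card N := by
        have hKne : K ≠ ⊥ := by
          intro h
          apply hK₀b
          rw [Subgroup.eq_bot_iff_forall] at h ⊢
          intro x hx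
          exact Subtype.ext (h _ ⟨x, hx, rfl⟩)
        have hNb : N ≠ ⊥ := by
          intro h
          rw [h, le_bot_iff] at hKN
          exact hKne hKN
        haveI := (Subgroup.nontrivial_iff_ne_bot N).2 hNb
        exact Finite.one_lt_card
      have hQlt : Nat.card (G ⧸ N) < n := by
        have h7 := Subgroup.card_mul_index N
        rw [Subgroup.index_eq_card] at h7
        rw [← hn, ← h7]
        have h8 : 0 < Nat.card (G ⧸ N) := Nat.card_pos
        nlinarith
      have hQsol : Group.IsSolvable (G ⧸ N) := ih _ hQlt (G ⧸ N) rfl (hasComplements_quot hG N)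
      refine Group.isSolvable_of_ker_le_range N.subtype (QuotientGroup.mk' N) ?_
      intro x hx
      have : x ∈ N := by
        rw [MonoidHom.mem_ker] at hx
        exact (QuotientGroup.eq_one_iff x).1 hx
      exact ⟨⟨x, this⟩, rfl⟩
    · -- only two primes
      push Not at h3
      -- the order is `p ^ a' * q ^ b'`
      have hform : ∃ a' b' : ℕ, Nat.card G = p ^ a' * q ^ b' := by
        have hne : Nat.card G ≠ 0 := hGpos.ne'
        have hm1 := Nat.ordProj_mul_ordCompl_eq_self (Nat.card G) p
        have hm0 : Nat.card G / p ^ (Nat.card G).factorization p ≠ 0 := by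
          intro h
          rw [h, mul_zero] at hm1
          exact hne hm1.symm
        have hq' := Nat.eq_prime_pow_of_unique_prime_dvd hm0 (p := q) (fun {r} hr hrm => by
          have hrG : r ∣ Nat.card G := hrm.trans (Nat.ordCompl_dvd _ _)
          by_contra hrq
          have hrp : r = p := by
            by_contra hrp
            exact hrq (h3 r hr hrG hrp)
          rw [hrp] at hrm
          exact Nat.not_dvd_ordCompl hp hne hrm)
        exact ⟨_, _, by rw [← hq']; exact hm1.symm⟩
      obtain ⟨a', b', hform⟩ := hform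
      exact Cfsg.Agent.Lib.CharBurnside.solvable_two_prime p q hp hq _ G a' b' rfl hform

/-- The statement with exact indices. -/
theorem solvable_of_index {G : Type u} [Group G] [Finite G]
    (h : ∀ p : ℕ, p.Prime → ∃ H : Subgroup G, H.index = p ^ (Nat.card G).factorization p) :
    Group.IsSolvable G := by
  refine solvable_of_complements _ G rfl fun t ht => ?_
  obtain ⟨H, hH⟩ := h t ht
  refine ⟨H, ?_, _, hH⟩
  rw [Nat.coprime_comm, Nat.Prime.coprime_iff_not_dvd ht]
  intro hd
  have h1 := Subgroup.card_mul_index H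
  rw [hH] at h1
  have h2 : t ^ ((Nat.card G).factorization t + 1) ∣ Nat.card G := by
    have h3 : t * t ^ (Nat.card G).factorization t ∣ Nat.card H * t ^ (Nat.card G).factorization t :=
      Nat.mul_dvd_mul_right hd _
    rw [h1] at h3
    rwa [pow_succ, mul_comm]
  exact Nat.pow_succ_factorization_not_dvd (Nat.card_pos.ne') ht h2

open scoped Pointwise in
theorem coe_sup_of_permute {G : Type u} [Group G] (A B : Subgroup G) (h : (A : Set G) * B = B * A) :
    ((A ⊔ B : Subgroup G) : Set G) = (A : Set G) * B := by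
  have hsub : ∃ K : Subgroup G, (K : Set G) = (A : Set G) * B := by
    refine ⟨{ carrier := (A : Set G) * B, mul_mem' := ?_, one_mem' := ?_, inv_mem' := ?_ }, rfl⟩
    · rintro _ _ ⟨a₁, ha₁, b₁, hb₁, rfl⟩ ⟨a₂, ha₂, b₂, hb₂, rfl⟩
      have h1 : b₁ * a₂ ∈ (B : Set G) * A := Set.mul_mem_mul hb₁ ha₂
      rw [← h] at h1
      obtain ⟨a₃, ha₃, b₃, hb₃, h3⟩ := h1
      refine ⟨a₁ * a₃, A.mul_mem ha₁ ha₃, b₃ * b₂, B.mul_mem hb₃ hb₂, ?_⟩
      simp only at h3 ⊢
      calc a₁ * a₃ * (b₃ * b₂) = a₁ * (a₃ * b₃) * b₂ := by group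
        _ = a₁ * (b₁ * a₂) * b₂ := by rw [h3]
        _ = _ := by group
    · exact ⟨1, A.one_mem, 1, B.one_mem, by simp⟩
    · rintro _ ⟨a, ha, b, hb, rfl⟩
      have h1 : b⁻¹ * a⁻¹ ∈ (B : Set G) * A := Set.mul_mem_mul (B.inv_mem hb) (A.inv_mem ha)
      rw [← h] at h1
      simp only [mul_inv_rev]
      exact h1
  obtain ⟨K, hK⟩ := hsub
  apply le_antisymm
  · have hle : A ⊔ B ≤ K := by
      apply sup_le
      · intro a ha
        have : a ∈ (K : Set G) := by
          rw [hK]
          exact ⟨a, ha, 1, B.one_mem, by simp⟩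
        exact this
      · intro b hb
        have : b ∈ (K : Set G) := by
          rw [hK]
          exact ⟨1, A.one_mem, b, hb, by simp⟩
        exact this
    rw [← hK]
    exact hle
  · rintro _ ⟨a, ha, b, hb, rfl⟩
    exact Subgroup.mul_mem_sup ha hb

open scoped Pointwise in
/-- The order of a permutable product. -/
theorem card_sup_dvd {G : Type u} [Group G] [Finite G] (A B : Subgroup G) (h : (A : Set G) * B = B * A) :
    Nat.card (A ⊔ B : Subgroup G) ∣ Nat.card A * Nat.card B := by
  classical
  have hcoe := coe_sup_of_permute A B h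
  let f : A × B → (A ⊔ B : Subgroup G) := fun p =>
    ⟨(p.1 : G) * p.2, Subgroup.mul_mem_sup p.1.2 p.2.2⟩
  have hfib : ∀ y, Nat.card {p // f p = y} = Nat.card (A ⊓ B : Subgroup G) := by
    intro y
    have hy : (y : G) ∈ (A : Set G) * B := by
      rw [← hcoe]
      exact y.2
    obtain ⟨a₀, ha₀, b₀, hb₀, hab⟩ := hy
    simp only at hab
    symm
    apply Nat.card_congr
    refine
      { toFun := fun c => ⟨(⟨a₀ * c, A.mul_mem ha₀ c.2.1⟩, ⟨(c : G)⁻¹ * b₀, B.mul_mem (B.inv_mem c.2.2) hb₀⟩), ?_⟩
        invFun := fun p => ⟨a₀⁻¹ * p.1.1, A.mul_mem (A.inv_mem ha₀) p.1.1.2, ?_⟩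
        left_inv := ?_
        right_inv := ?_ }
    · apply Subtype.ext
      show a₀ * c * ((c : G)⁻¹ * b₀) = y
      rw [← hab]
      group
    · have h1 : ((p.1.1 : G)) * p.1.2 = y := congrArg Subtype.val p.2
      have h2 : a₀⁻¹ * (p.1.1 : G) = b₀ * ((p.1.2 : G))⁻¹ := by
        rw [inv_mul_eq_iff_eq_mul, ← mul_assoc, hab, ← h1]
        group
      show a₀⁻¹ * (p.1.1 : G) ∈ B
      rw [h2]
      exact B.mul_mem hb₀ (B.inv_mem p.1.2.2)
    · intro c
      apply Subtype.ext
      simp
    · rintro ⟨⟨⟨a, ha⟩, ⟨b, hb⟩⟩, hp⟩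
      have h1 : a * b = y := congrArg Subtype.val hp
      apply Subtype.ext
      apply Prod.ext
      · apply Subtype.ext
        simp
      · apply Subtype.ext
        simp only [mul_inv_rev, inv_inv]
        rw [show a⁻¹ * a₀ * b₀ = a⁻¹ * (a₀ * b₀) by group, hab, ← h1]
        group
  have hcard := Cfsg.Agent.Lib.SylowCount.card_eq_mul_of_fibers f _ hfib
  rw [Nat.card_prod] at hcard
  rw [hcard]
  exact dvd_mul_right _ _

open scoped Pointwise in
/-- Pairwise permutable Sylow subgroups force solubility. -/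
theorem solvable_of_permutable {G : Type u} [Group G] [Finite G] (S : (p : Nat.Primes) → Sylow (p : ℕ) G)
    (hS : ∀ p q : Nat.Primes, (S p : Set G) * (S q : Set G) = (S q : Set G) * (S p : Set G)) :
    Group.IsSolvable G := by
  classical
  let A : Nat.Primes → Subgroup G := fun q => (S q : Subgroup G)
  have hA : ∀ p q, (A p : Set G) * (A q : Set G) = (A q : Set G) * (A p : Set G) := hS
  have key : ∀ F : Finset Nat.Primes, (∀ q, ((F.sup A : Subgroup G) : Set G) * (A q : Set G) = (A q : Set G) * ((F.sup A : Subgroup G) : Set G)) ∧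
      Nat.card (F.sup A : Subgroup G) ∣ ∏ q ∈ F, Nat.card (A q) := by
    intro F
    induction F using Finset.induction_on with
    | empty =>
      refine ⟨fun q => ?_, by simp⟩
      simp
    | insert q F hq ih =>
      obtain ⟨ih1, ih2⟩ := ih
      rw [Finset.sup_insert, Finset.prod_insert hq]
      refine ⟨fun r => ?_, ?_⟩
      · have hperm : (A q : Set G) * ((F.sup A : Subgroup G) : Set G) = ((F.sup A : Subgroup G) : Set G) * (A q : Set G) :=
          (ih1 q).symm
        rw [show (A q ⊔ F.sup A : Subgroup G) = A q ⊔ F.sup A from rfl, coe_sup_of_permute _ _ hperm]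
        rw [mul_assoc, ih1 r, ← mul_assoc, hA q r, mul_assoc]
      · have hperm : (A q : Set G) * ((F.sup A : Subgroup G) : Set G) = ((F.sup A : Subgroup G) : Set G) * (A q : Set G) :=
          (ih1 q).symm
        exact (card_sup_dvd _ _ hperm).trans (Nat.mul_dvd_mul_left _ ih2)
  refine solvable_of_complements _ G rfl fun t ht => ?_
  let F : Finset Nat.Primes := ((Nat.card G).primeFactors.filter (· ≠ t)).subtype Nat.Prime
  obtain ⟨-, hcard⟩ := key F
  refine ⟨F.sup A, ?_, ?_⟩
  · refine Nat.Coprime.coprime_dvd_left hcard ?_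
    apply Nat.Coprime.prod_left
    intro q hq
    haveI : Fact (q : ℕ).Prime := ⟨q.2⟩
    have hqt : (q : ℕ) ≠ t := by
      have := Finset.mem_subtype.1 hq
      exact (Finset.mem_filter.1 this).2
    obtain ⟨j, hj⟩ := IsPGroup.iff_card.1 (S q).isPGroup'
    show Nat.Coprime (Nat.card (S q : Subgroup G)) t
    rw [hj]
    exact Nat.Coprime.pow_left _ ((Nat.coprime_primes q.2 ht).2 hqt)
  · have hidx := Nat.eq_prime_pow_of_unique_prime_dvd (n := (F.sup A).index) (p := t)
      Subgroup.index_ne_zero_of_finite (fun {r} hr hrd => by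
        by_contra hrt
        have hrG : r ∣ Nat.card G := hrd.trans (Subgroup.index_dvd_card _)
        let r' : Nat.Primes := ⟨r, hr⟩
        haveI : Fact (r' : ℕ).Prime := ⟨hr⟩
        have hmem : r' ∈ F := by
          apply Finset.mem_subtype.2
          exact Finset.mem_filter.2 ⟨Nat.mem_primeFactors.2 ⟨hr, hrG, Nat.card_pos.ne'⟩, hrt⟩
        have hle : A r' ≤ F.sup A := Finset.le_sup hmem
        have h1 : (F.sup A).index ∣ (A r').index := Subgroup.index_dvd_of_le hle
        exact (S r').not_dvd_index (hrd.trans h1))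
    exact ⟨_, hidx⟩

end Cfsg.Agent.Lib.HallSolv
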