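import Mathlib
import Cfsg.Agent.Lib.SchurZ
import Cfsg.Agent.Lib.PResidual
import Cfsg.Agent.Lib.CoprimeAB
import Cfsg.Agent.Lib.HallSolv
import Cfsg.Agent.Lib.Commutators
import Cfsg.Agent.S0043

/-!
# Carter subgroups of finite solvable groups
-/

set_option autoImplicit false
set_option linter.style.haveILetI false
set_option linter.unusedSectionVars false
set_option linter.unusedVariables false

namespace Cfsg.Agent.Lib.Carter

open Cfsg Cfsg.Agent.Lib.SchurZ Cfsg.Agent.Lib.PResidual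
open scoped commutatorElement Pointwise

universe u

/-- The conjugate of a subgroup. -/
abbrev cj {G : Type*} [Group G] (g : G) (D : Subgroup G) : Subgroup G :=
  D.map (MulAut.conj g).toMonoidHom

section Basic

variable {G : Type*} [Group G]

theorem mem_cj {g x : G} {D : Subgroup G} : x ∈ cj g D ↔ g⁻¹ * x * g ∈ D := by
  constructor
  · rintro ⟨y, hy, rfl⟩
    have : g⁻¹ * ((MulAut.conj g).toMonoidHom y) * g = y := by
      simp [MulAut.conj_apply]
      group
    rwa [this]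
  · intro h
    refine ⟨_, h, ?_⟩
    simp [MulAut.conj_apply]
    group

theorem conj_mem_cj {g x : G} {D : Subgroup G} (h : x ∈ D) : g * x * g⁻¹ ∈ cj g D := ⟨x, h, rfl⟩

theorem cj_mul (g h : G) (D : Subgroup G) : cj (g * h) D = cj g (cj h D) := by
  ext x
  rw [mem_cj, mem_cj, mem_cj]
  have : h⁻¹ * (g⁻¹ * x * g) * h = (g * h)⁻¹ * x * (g * h) := by group
  rw [this]

theorem cj_one (D : Subgroup G) : cj (1 : G) D = D := by
  ext x
  rw [mem_cj]
  simp

theorem cj_eq_of_mem_normalizer {g : G} {D : Subgroup G} (h : g ∈ Subgroup.normalizer (D : Set G)) :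
    cj g D = D := by
  ext x
  rw [mem_cj]
  have h1 := (Subgroup.mem_normalizer_iff.1 h (g⁻¹ * x * g))
  have h2 : g * (g⁻¹ * x * g) * g⁻¹ = x := by group
  rw [h2] at h1
  exact h1

theorem mem_normalizer_of_cj_eq {g : G} {D : Subgroup G} (h : cj g D = D) :
    g ∈ Subgroup.normalizer (D : Set G) := by
  rw [Subgroup.mem_normalizer_iff]
  intro x
  conv_rhs => rw [← h]
  rw [mem_cj]
  have h2 : g⁻¹ * (g * x * g⁻¹) * g = x := by group
  rw [h2]

theorem normalizer_cj (g : G) (D : Subgroup G) :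
    Subgroup.normalizer ((cj g D : Subgroup G) : Set G) = cj g (Subgroup.normalizer (D : Set G)) := by
  ext x
  rw [mem_cj]
  constructor
  · intro hx
    apply mem_normalizer_of_cj_eq
    have h1 := cj_eq_of_mem_normalizer hx
    have h2 : cj (g⁻¹ * x * g) D = cj g⁻¹ (cj x (cj g D)) := by
      rw [← cj_mul, ← cj_mul, mul_assoc]
    rw [h2, h1, ← cj_mul]
    simp [cj_one]
  · intro hx
    apply mem_normalizer_of_cj_eq
    have h1 := cj_eq_of_mem_normalizer hx
    have h2 : cj x (cj g D) = cj g (cj (g⁻¹ * x * g) D) := by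
      rw [← cj_mul, ← cj_mul]
      congr 1
      group
    rw [h2, h1]

theorem nilp_of_injective {H K : Type*} [Group H] [Group K] [Group.IsNilpotent K] (f : H →* K)
    (hf : Function.Injective f) : Group.IsNilpotent H :=
  Group.nilpotent_of_mulEquiv (MonoidHom.ofInjective hf).symm

theorem nilp_cj (g : G) {D : Subgroup G} (hD : Group.IsNilpotent D) :
    Group.IsNilpotent (cj g D) :=
  Group.nilpotent_of_mulEquiv (D.equivMapOfInjective _ (MulAut.conj g).injective)

theorem nilp_of_le {A B : Subgroup G} (h : A ≤ B) (hB : Group.IsNilpotent B) : Group.IsNilpotent A :=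
  nilp_of_injective (Subgroup.inclusion h) (Subgroup.inclusion_injective h)

/-- A proper subgroup of a nilpotent subgroup is properly contained in its normalizer. -/
theorem exists_normalizer_of_lt {A B : Subgroup G} (h : A < B) (hB : Group.IsNilpotent B) :
    ∃ y ∈ B, y ∉ A ∧ y ∈ Subgroup.normalizer (A : Set G) := by
  have h1 : A.subgroupOf B < ⊤ := by
    rw [lt_top_iff_ne_top]
    intro h2
    apply h.not_ge
    intro x hx
    have h3 : (⟨x, hx⟩ : B) ∈ A.subgroupOf B := by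
      rw [h2]
      exact Subgroup.mem_top _
    exact Subgroup.mem_subgroupOf.1 h3
  have h2 := (Group.normalizerCondition_of_isNilpotent (G := B)) _ h1
  obtain ⟨y, hy, hy'⟩ := SetLike.exists_of_lt h2
  refine ⟨y, y.2, fun hA => hy' (Subgroup.mem_subgroupOf.2 hA), ?_⟩
  have hAB : A ≤ B := h.le
  apply Cfsg.Agent.Lib.Commutators.mem_normalizer_of_conj_mem
  · intro a ha
    have h3 := (Subgroup.mem_normalizer_iff.1 hy ⟨a, hAB ha⟩).1 (Subgroup.mem_subgroupOf.2 ha)
    exact Subgroup.mem_subgroupOf.1 h3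
  · intro a ha
    have h3 := (Subgroup.mem_normalizer_iff.1 (Subgroup.inv_mem _ hy) ⟨a, hAB ha⟩).1 (Subgroup.mem_subgroupOf.2 ha)
    have h4 := Subgroup.mem_subgroupOf.1 h3
    have h5 : y⁻¹ * (⟨a, hAB ha⟩ : B) * y⁻¹⁻¹ = ((y : G)⁻¹ * a * y : G) := by
      push_cast
      simp
    rw [← h5]
    exact h4

/-- A self-normalizing subgroup of a nilpotent subgroup is everything. -/
theorem eq_of_le_nilpotent {C L : Subgroup G} (h : C ≤ L) (hL : Group.IsNilpotent L)
    (hC : Subgroup.normalizer (C : Set G) ⊓ L = C) : C = L := by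
  by_contra hne
  obtain ⟨y, hyL, hy, hyN⟩ := exists_normalizer_of_lt (lt_of_le_of_ne h hne) hL
  apply hy
  rw [← hC]
  exact ⟨hyN, hyL⟩

/-- The decomposition of a product with a commuting `p`-part. -/
theorem coprime_part [Finite G] {p : ℕ} [hp : Fact p.Prime] {a b : G} (hab : a * b = b * a) {k : ℕ}
    (ha : orderOf a = p ^ k) (hb : (orderOf b).Coprime p) (hx : (orderOf (a * b)).Coprime p) : a = 1 := by
  have h1 : (a * b) ^ (orderOf (a * b) * orderOf b) = 1 := by
    rw [pow_mul, pow_orderOf_eq_one, one_pow]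
  rw [(show Commute a b from hab).mul_pow, mul_comm (orderOf (a * b)) (orderOf b), pow_mul b,
    pow_orderOf_eq_one, one_pow, mul_one] at h1
  have h2 : orderOf a ∣ orderOf b * orderOf (a * b) := orderOf_dvd_of_pow_eq_one h1
  have h3 : Nat.Coprime (orderOf a) (orderOf b * orderOf (a * b)) := by
    rw [ha]
    exact Nat.Coprime.pow_left k (Nat.Coprime.mul_right hb.symm hx.symm)
  exact orderOf_eq_one_iff.1 (h3.eq_one_of_dvd h2)

/-- Commuting subgroups: the join is the set of products. -/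
theorem mem_sup_of_commute {A B : Subgroup G} (h : ∀ a ∈ A, ∀ b ∈ B, a * b = b * a) {x : G}
    (hx : x ∈ A ⊔ B) : ∃ a ∈ A, ∃ b ∈ B, x = a * b := by
  have hperm : (A : Set G) * (B : Set G) = (B : Set G) * (A : Set G) := by
    ext x
    constructor
    · rintro ⟨a, ha, b, hb, rfl⟩
      exact ⟨b, hb, a, ha, (h a ha b hb).symm⟩
    · rintro ⟨b, hb, a, ha, rfl⟩
      exact ⟨a, ha, b, hb, h a ha b hb⟩
  have h1 := Cfsg.Agent.Lib.HallSolv.coe_sup_of_permute A B hperm
  have h2 : x ∈ ((A ⊔ B : Subgroup G) : Set G) := hx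
  rw [h1] at h2
  obtain ⟨a, ha, b, hb, e⟩ := h2
  exact ⟨a, ha, b, hb, e.symm⟩

/-- A join of commuting nilpotent subgroups is nilpotent. -/
theorem nilp_sup_of_commute {A B : Subgroup G} (h : ∀ a ∈ A, ∀ b ∈ B, a * b = b * a)
    (hA : Group.IsNilpotent A) (hB : Group.IsNilpotent B) : Group.IsNilpotent (A ⊔ B : Subgroup G) := by
  let φ : A × B →* (A ⊔ B : Subgroup G) := MonoidHom.mk' (fun x => ⟨(x.1 : G) * x.2,
    Subgroup.mul_mem_sup x.1.2 x.2.2⟩) (by
    intro x y
    apply Subtype.ext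
    show ((x * y).1 : G) * (x * y).2 = ((x.1 : G) * x.2) * ((y.1 : G) * y.2)
    have h1 := h y.1 y.1.2 x.2 x.2.2
    calc ((x * y).1 : G) * (x * y).2 = (x.1 : G) * ((y.1 : G) * x.2) * y.2 := by
          simp only [Prod.fst_mul, Prod.snd_mul, Subgroup.coe_mul]
          group
      _ = (x.1 : G) * ((x.2 : G) * y.1) * y.2 := by rw [h1]
      _ = _ := by group)
  have hφ : Function.Surjective φ := by
    rintro ⟨x, hx⟩
    obtain ⟨a, ha, b, hb, rfl⟩ := mem_sup_of_commute h hx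
    exact ⟨(⟨a, ha⟩, ⟨b, hb⟩), rfl⟩
  exact Group.nilpotent_of_surjective φ hφ

end Basic

section Decomp

variable {T : Type*} [Group T] [Finite T] [Group.IsNilpotent T] (p : ℕ) [hp : Fact p.Prime]

/-- Decomposition of a nilpotent group into its `p`-part and `p'`-part. -/
theorem nilp_decomp :
    ∃ P Q : Subgroup T, IsPGroup p P ∧ ¬ p ∣ P.index ∧ Nat.Coprime p (Nat.card Q) ∧
      (∀ a ∈ P, ∀ b ∈ Q, a * b = b * a) ∧ (∀ t, ∃ a ∈ P, ∃ b ∈ Q, t = a * b) ∧ P.Normal ∧ Q.Normal := by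
  classical
  obtain ⟨S⟩ : Nonempty (Sylow p T) := inferInstance
  haveI hSn : (S : Subgroup T).Normal := inferInstance
  have hc : Nat.Coprime (Nat.card (S : Subgroup T)) (S : Subgroup T).index := S.card_coprime_index
  obtain ⟨Q, hQ⟩ := Subgroup.exists_right_complement'_of_coprime hc
  have hcard := hQ.card_mul_card
  have hQidx : Nat.card Q = (S : Subgroup T).index := by
    have h1 := Subgroup.card_mul_index (S : Subgroup T)
    have h2 : 0 < Nat.card (S : Subgroup T) := Nat.card_pos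
    rw [← h1] at hcard
    exact Nat.eq_of_mul_eq_mul_left h2 hcard
  have hcQ : Nat.Coprime p (Nat.card Q) := by
    rw [hQidx]
    exact (Nat.Prime.coprime_iff_not_dvd hp.out).2 S.not_dvd_index
  have hcomm : ∀ a ∈ (S : Subgroup T), ∀ b ∈ Q, a * b = b * a := by
    intro a ha b hb
    refine Cfsg.Agent.Lib.CoprimeAB.nilp_comm p S ha ?_
    have h1 : orderOf b ∣ Nat.card Q := by
      have := orderOf_dvd_natCard (⟨b, hb⟩ : Q)
      rwa [Subgroup.orderOf_mk] at this
    exact (Nat.Coprime.coprime_dvd_right h1 hcQ).symm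
  have hdec : ∀ t, ∃ a ∈ (S : Subgroup T), ∃ b ∈ Q, t = a * b := by
    intro t
    obtain ⟨⟨a, b⟩, hab, -⟩ := Subgroup.IsComplement.existsUnique hQ t
    exact ⟨a, a.2, b, b.2, hab.symm⟩
  refine ⟨S, Q, S.isPGroup', S.not_dvd_index, hcQ, hcomm, hdec, hSn, ?_⟩
  refine ⟨fun q hq t => ?_⟩
  obtain ⟨a, ha, b, hb, rfl⟩ := hdec t
  have h1 : a * b * q * (a * b)⁻¹ = (b * q * b⁻¹) := by
    have h2 : a * (b * q * b⁻¹) = (b * q * b⁻¹) * a :=
      hcomm a ha _ (Q.mul_mem (Q.mul_mem hb hq) (Q.inv_mem hb))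
    calc a * b * q * (a * b)⁻¹ = a * (b * q * b⁻¹) * a⁻¹ := by group
      _ = (b * q * b⁻¹) * a * a⁻¹ := by rw [h2]
      _ = _ := by group
  rw [h1]
  exact Q.mul_mem (Q.mul_mem hb hq) (Q.inv_mem hb)

end Decomp

section Sub

variable {G : Type*} [Group G] [Finite G] (p : ℕ) [hp : Fact p.Prime]

/-- Decomposition of a nilpotent subgroup. -/
theorem nilp_decomp_sub (C : Subgroup G) (hC : Group.IsNilpotent C) :
    ∃ P Q : Subgroup G, P ≤ C ∧ Q ≤ C ∧ IsPGroup p P ∧ Nat.Coprime p (Nat.card Q) ∧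
      (∀ a ∈ P, ∀ b ∈ Q, a * b = b * a) ∧ (∀ t ∈ C, ∃ a ∈ P, ∃ b ∈ Q, t = a * b) := by
  obtain ⟨P, Q, hP, -, hQ, hcomm, hdec, -, -⟩ := nilp_decomp (T := C) p
  refine ⟨P.map C.subtype, Q.map C.subtype, ?_, ?_, hP.map _, ?_, ?_, ?_⟩
  · rintro _ ⟨x, -, rfl⟩
    exact x.2
  · rintro _ ⟨x, -, rfl⟩
    exact x.2
  · rw [Subgroup.card_map_of_injective C.subtype_injective]
    exact hQ
  · rintro _ ⟨x, hx, rfl⟩ _ ⟨y, hy, rfl⟩
    exact congrArg Subtype.val (hcomm x hx y hy)
  · intro t ht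
    obtain ⟨a, ha, b, hb, e⟩ := hdec ⟨t, ht⟩
    exact ⟨a, ⟨a, ha, rfl⟩, b, ⟨b, hb, rfl⟩, congrArg Subtype.val e⟩

end Sub

section LemmaA

variable {G : Type*} [Group G] [Finite G]

/-- A Carter subgroup: nilpotent and self-normalizing. -/
def IsCarter (C : Subgroup G) : Prop := Group.IsNilpotent C ∧ Subgroup.normalizer (C : Set G) = C

/-- The conjugate of a Carter subgroup is Carter. -/
theorem IsCarter.cj {C : Subgroup G} (h : IsCarter C) (g : G) : IsCarter (cj g C) := by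
  refine ⟨nilp_cj g h.1, ?_⟩
  rw [normalizer_cj, h.2]

variable {p : ℕ} [hp : Fact p.Prime]

theorem orderOf_coprime_of_mem {Q : Subgroup G} (hQc : Nat.Coprime p (Nat.card Q)) {q : G} (hq : q ∈ Q) :
    (orderOf q).Coprime p := by
  have h1 : orderOf q ∣ Nat.card Q := by
    have := orderOf_dvd_natCard (⟨q, hq⟩ : Q)
    rwa [Subgroup.orderOf_mk] at this
  exact (Nat.Coprime.coprime_dvd_right h1 hQc).symm

theorem orderOf_conj_eq (h q : G) : orderOf (h * q * h⁻¹) = orderOf q :=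
  orderOf_injective (MulAut.conj h).toMonoidHom (MulAut.conj h).injective q

theorem inf_eq_bot_of_p {R Q : Subgroup G} (hRp : IsPGroup p R) (hQc : Nat.Coprime p (Nat.card Q)) :
    R ⊓ Q = ⊥ := by
  obtain ⟨i, hi⟩ := IsPGroup.iff_card.1 hRp
  apply inf_eq_bot_of_coprime
  rw [hi]
  exact Nat.Coprime.pow_left i hQc

/-- The normalizer of a complement of a normal Sylow subgroup is a Carter subgroup. -/
theorem carter_normalizer (R Q : Subgroup G) [hRn : R.Normal] (hRp : IsPGroup p R)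
    (hQc : Nat.Coprime p (Nat.card Q)) (hdec : ∀ g, ∃ r ∈ R, ∃ q ∈ Q, g = r * q)
    (hQn : Group.IsNilpotent Q) : IsCarter (Subgroup.normalizer (Q : Set G)) := by
  classical
  have hRQ : R ⊓ Q = ⊥ := inf_eq_bot_of_p hRp hQc
  let W : Subgroup G := R ⊓ Subgroup.centralizer (Q : Set G)
  have hWp : IsPGroup p W := hRp.to_le inf_le_left
  have hWc : ∀ a ∈ W, ∀ b ∈ Q, a * b = b * a := fun a ha b hb =>
    (Subgroup.mem_centralizer_iff.1 ha.2 b hb).symm
  have hNdec : ∀ g ∈ Subgroup.normalizer (Q : Set G), ∃ w ∈ W, ∃ q ∈ Q, g = w * q := by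
    intro g hg
    obtain ⟨r, hr, q, hq, rfl⟩ := hdec g
    refine ⟨r, ⟨hr, ?_⟩, q, hq, rfl⟩
    have hrN : r ∈ Subgroup.normalizer (Q : Set G) := by
      have e : r = (r * q) * q⁻¹ := by group
      rw [e]
      exact Subgroup.mul_mem _ hg (Subgroup.inv_mem _ (Subgroup.le_normalizer hq))
    refine Subgroup.mem_centralizer_iff.2 ?_
    intro q' hq'
    have h1 : r * q' * r⁻¹ * q'⁻¹ ∈ R ⊓ Q := by
      refine ⟨?_, Q.mul_mem ((Subgroup.mem_normalizer_iff.1 hrN q').1 hq') (Q.inv_mem hq')⟩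
      have e : r * q' * r⁻¹ * q'⁻¹ = r * (q' * r⁻¹ * q'⁻¹) := by group
      rw [e]
      exact R.mul_mem hr (hRn.conj_mem _ (R.inv_mem hr) _)
    rw [hRQ, Subgroup.mem_bot] at h1
    have h2 : r * q' * r⁻¹ = q' := mul_inv_eq_one.1 h1
    have h3 : r * q' = q' * r := mul_inv_eq_iff_eq_mul.1 h2
    exact h3.symm
  have hQN : Q ≤ Subgroup.normalizer (Q : Set G) := Subgroup.le_normalizer
  have hWN : W ≤ Subgroup.normalizer (Q : Set G) :=
    inf_le_right.trans (Subgroup.centralizer_le_normalizer _)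
  have hsup : Subgroup.normalizer (Q : Set G) = W ⊔ Q := by
    apply le_antisymm
    · intro g hg
      obtain ⟨w, hw, q, hq, rfl⟩ := hNdec g hg
      exact Subgroup.mul_mem_sup hw hq
    · exact sup_le hWN hQN
  have hnil : Group.IsNilpotent (Subgroup.normalizer (Q : Set G)) := by
    rw [hsup]
    exact nilp_sup_of_commute hWc hWp.isNilpotent hQn
  refine ⟨hnil, le_antisymm ?_ Subgroup.le_normalizer⟩
  have key : ∀ h ∈ Subgroup.normalizer ((Subgroup.normalizer (Q : Set G) : Subgroup G) : Set G),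
      ∀ q ∈ Q, h * q * h⁻¹ ∈ Q := by
    intro h hh q hq
    have h1 : h * q * h⁻¹ ∈ Subgroup.normalizer (Q : Set G) :=
      (Subgroup.mem_normalizer_iff.1 hh q).1 (hQN hq)
    obtain ⟨w, hw, q', hq', e⟩ := hNdec _ h1
    obtain ⟨k, hk⟩ := (IsPGroup.iff_orderOf.1 hWp) ⟨w, hw⟩
    rw [Subgroup.orderOf_mk] at hk
    have h2 : (orderOf (w * q')).Coprime p := by
      rw [← e, orderOf_conj_eq]
      exact orderOf_coprime_of_mem hQc hq
    have h3 := coprime_part (hWc w hw q' hq') hk (orderOf_coprime_of_mem hQc hq') h2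
    rw [e, h3, one_mul]
    exact hq'
  intro g hg
  apply Cfsg.Agent.Lib.Commutators.mem_normalizer_of_conj_mem
  · exact key g hg
  · intro q hq
    have := key g⁻¹ (Subgroup.inv_mem _ hg) q hq
    rwa [inv_inv] at this

/-- Every Carter subgroup is conjugate to the normalizer of the complement. -/
theorem carter_conj (R Q : Subgroup G) [hRn : R.Normal] (hRp : IsPGroup p R)
    (hQc : Nat.Coprime p (Nat.card Q)) (hdec : ∀ g, ∃ r ∈ R, ∃ q ∈ Q, g = r * q)
    (hQn : Group.IsNilpotent Q) (C₁ : Subgroup G) (hC : IsCarter C₁) :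
    ∃ x : G, C₁ = cj x (Subgroup.normalizer (Q : Set G)) := by
  classical
  obtain ⟨hnil, hself⟩ := hC
  obtain ⟨P₁, Q₁, hP₁C, hQ₁C, hP₁p, hQ₁c, hcomm, hdec₁⟩ := nilp_decomp_sub p C₁ hnil
  have hRQ : R ⊓ Q = ⊥ := inf_eq_bot_of_p hRp hQc
  have hP₁R : P₁ ≤ R := by
    intro a ha
    obtain ⟨r, hr, q, hq, e⟩ := hdec a
    obtain ⟨k, hk⟩ := (IsPGroup.iff_orderOf.1 hP₁p) ⟨a, ha⟩
    rw [Subgroup.orderOf_mk] at hk
    have h0 : a ^ (p ^ k) = 1 := by
      rw [← hk]
      exact pow_orderOf_eq_one a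
    have h1 : q ^ (p ^ k) ∈ R := by
      have h2 : (QuotientGroup.mk' R) a = (QuotientGroup.mk' R) q := by
        rw [e, map_mul]
        have : (QuotientGroup.mk' R) r = 1 := (QuotientGroup.eq_one_iff r).2 hr
        rw [this, one_mul]
      have h3 : (QuotientGroup.mk' R) (q ^ (p ^ k)) = 1 := by
        rw [map_pow, ← h2, ← map_pow, h0, map_one]
      exact (QuotientGroup.eq_one_iff _).1 h3
    have h4 : q ^ (p ^ k) ∈ R ⊓ Q := ⟨h1, Q.pow_mem hq _⟩
    rw [hRQ, Subgroup.mem_bot] at h4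
    have h5 : orderOf q ∣ p ^ k := orderOf_dvd_of_pow_eq_one h4
    have h6 : Nat.Coprime (orderOf q) (p ^ k) :=
      Nat.Coprime.pow_right k (orderOf_coprime_of_mem hQc hq)
    have h7 : q = 1 := orderOf_eq_one_iff.1 (h6.eq_one_of_dvd h5)
    rw [e, h7, mul_one]
    exact hr
  let W₁ : Subgroup G := R ⊓ Subgroup.centralizer (Q₁ : Set G)
  have hW₁p : IsPGroup p W₁ := hRp.to_le inf_le_left
  have hW₁c : ∀ a ∈ W₁, ∀ b ∈ Q₁, a * b = b * a := fun a ha b hb =>
    (Subgroup.mem_centralizer_iff.1 ha.2 b hb).symm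
  let L : Subgroup G := W₁ ⊔ Q₁
  have hLnil : Group.IsNilpotent L :=
    nilp_sup_of_commute hW₁c hW₁p.isNilpotent (nilp_of_le hQ₁C hnil)
  have hC₁L : C₁ ≤ L := by
    intro t ht
    obtain ⟨a, ha, b, hb, rfl⟩ := hdec₁ t ht
    refine Subgroup.mul_mem_sup ⟨hP₁R ha, ?_⟩ hb
    refine Subgroup.mem_centralizer_iff.2 ?_
    intro q hq
    exact (hcomm a ha q hq).symm
  have hC₁eq : C₁ = L := eq_of_le_nilpotent hC₁L hLnil (by rw [hself]; exact inf_eq_left.2 hC₁L)
  have hLN : L ≤ Subgroup.normalizer (Q₁ : Set G) :=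
    sup_le (inf_le_right.trans (Subgroup.centralizer_le_normalizer _)) Subgroup.le_normalizer
  have hkeyL : ∀ h ∈ Subgroup.normalizer (Q₁ : Set G), ∀ l ∈ L, h * l * h⁻¹ ∈ L := by
    intro h hh l hl
    obtain ⟨w, hw, q, hq, rfl⟩ := mem_sup_of_commute hW₁c hl
    have e : h * (w * q) * h⁻¹ = (h * w * h⁻¹) * (h * q * h⁻¹) := by group
    rw [e]
    refine Subgroup.mul_mem_sup ⟨hRn.conj_mem _ hw.1 _, ?_⟩ ((Subgroup.mem_normalizer_iff.1 hh q).1 hq)
    refine Subgroup.mem_centralizer_iff.2 ?_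
    intro q' hq'
    have h1 : h⁻¹ * q' * h⁻¹⁻¹ ∈ Q₁ := (Subgroup.mem_normalizer_iff.1 (Subgroup.inv_mem _ hh) q').1 hq'
    have h2 := hW₁c w hw _ h1
    calc q' * (h * w * h⁻¹) = h * ((h⁻¹ * q' * h⁻¹⁻¹) * w) * h⁻¹ := by group
      _ = h * (w * (h⁻¹ * q' * h⁻¹⁻¹)) * h⁻¹ := by rw [h2]
      _ = _ := by group
  have hM : Subgroup.normalizer (Q₁ : Set G) = C₁ := by
    apply le_antisymm
    · intro g hg
      rw [← hself, hC₁eq]
      apply Cfsg.Agent.Lib.Commutators.mem_normalizer_of_conj_mem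
      · exact hkeyL g hg
      · intro l hl
        have := hkeyL g⁻¹ (Subgroup.inv_mem _ hg) l hl
        rwa [inv_inv] at this
    · rw [hC₁eq]
      exact hLN
  -- conjugating `Q₁` into `Q`
  have hcRQ₁ : Nat.Coprime (Nat.card R) (Nat.card Q₁) := by
    obtain ⟨i, hi⟩ := IsPGroup.iff_card.1 hRp
    rw [hi]
    exact Nat.Coprime.pow_left i hQ₁c
  let B : Subgroup G := (R ⊔ Q₁) ⊓ Q
  have hBc : Nat.card B = Nat.card Q₁ := by
    have hsup : R ⊔ B = R ⊔ Q₁ := by
      apply le_antisymm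
      · exact sup_le le_sup_left inf_le_left
      · apply sup_le le_sup_left
        intro q₁ hq₁
        obtain ⟨r, hr, q, hq, e⟩ := hdec q₁
        have h1 : q ∈ B := by
          refine ⟨?_, hq⟩
          have e2 : q = r⁻¹ * q₁ := by rw [e]; group
          rw [e2]
          exact Subgroup.mul_mem _ ((le_sup_left : R ≤ R ⊔ Q₁) (R.inv_mem hr))
            ((le_sup_right : Q₁ ≤ R ⊔ Q₁) hq₁)
        rw [e]
        exact Subgroup.mul_mem_sup hr h1
    have h1 := card_sup_of_disjoint R B (eq_bot_iff.2 (by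
      rw [← hRQ]
      exact inf_le_inf_left _ inf_le_right))
    have h2 := card_sup_of_disjoint R Q₁ (inf_eq_bot_of_coprime hcRQ₁)
    rw [hsup] at h1
    rw [h1] at h2
    exact Nat.eq_of_mul_eq_mul_left Nat.card_pos h2
  have hsolvR : Group.IsSolvable R := by
    haveI := hRp.isNilpotent
    infer_instance
  obtain ⟨n, hn, hnQ⟩ := sz_conj_ambient R Q₁ B
    (fun x _ => Subgroup.mem_normalizer_iff.2 (fun y => ⟨fun hy => hRn.conj_mem y hy x, fun hy => by
      have := hRn.conj_mem _ hy x⁻¹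
      have e : x⁻¹ * (x * y * x⁻¹) * x⁻¹⁻¹ = y := by group
      rwa [e] at this⟩)) inf_le_left hBc hcRQ₁ (Or.inl hsolvR)
  let x : G := n⁻¹
  let Q₂ : Subgroup G := cj x Q
  have hQ₁Q₂ : Q₁ ≤ Q₂ := by
    intro q hq
    rw [mem_cj]
    have h1 : n * q * n⁻¹ ∈ B := by
      rw [← hnQ]
      exact ⟨q, hq, rfl⟩
    have e : x⁻¹ * q * x = n * q * n⁻¹ := by
      show n⁻¹⁻¹ * q * n⁻¹ = _
      rw [inv_inv]
    rw [e]
    exact h1.2
  have hQ₂nil : Group.IsNilpotent Q₂ := nilp_cj x hQn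
  have hQeq : Q₁ = Q₂ := by
    by_contra hne
    obtain ⟨y, hyQ, hy, hyN⟩ := exists_normalizer_of_lt (lt_of_le_of_ne hQ₁Q₂ hne) hQ₂nil
    apply hy
    have hyC : y ∈ C₁ := by
      rw [← hM]
      exact hyN
    obtain ⟨a, ha, b, hb, e⟩ := hdec₁ y hyC
    obtain ⟨k, hk⟩ := (IsPGroup.iff_orderOf.1 hP₁p) ⟨a, ha⟩
    rw [Subgroup.orderOf_mk] at hk
    have h1 : (orderOf (a * b)).Coprime p := by
      rw [← e]
      have h2 : x⁻¹ * y * x ∈ Q := mem_cj.1 hyQ
      have h3 := orderOf_coprime_of_mem hQc h2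
      have h4 : x⁻¹ * y * x = x⁻¹ * y * x⁻¹⁻¹ := by rw [inv_inv]
      rw [h4, orderOf_conj_eq] at h3
      exact h3
    have hbo : (orderOf b).Coprime p := orderOf_coprime_of_mem hQ₁c hb
    have h2 := coprime_part (hcomm a ha b hb) hk hbo h1
    rw [e, h2, one_mul]
    exact hb
  refine ⟨x, ?_⟩
  rw [← hM, hQeq]
  exact normalizer_cj x Q

/-- **Lemma A.** -/
theorem typeA {G' : Type*} [Group G'] (f : G →* G') (hnil : Group.IsNilpotent f.range)
    (hker : IsPGroup p f.ker) :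
    ∃ N : Subgroup G, IsCarter N ∧ ∀ C₁ : Subgroup G, IsCarter C₁ → ∃ x : G, C₁ = cj x N := by
  classical
  let g : G →* f.range := f.rangeRestrict
  have hg : Function.Surjective g := f.rangeRestrict_surjective
  haveI : Finite f.range := Finite.of_surjective g hg
  obtain ⟨P, -, hP, hPi, -, -, -, hPn, -⟩ := nilp_decomp (T := f.range) p
  let R : Subgroup G := P.comap g
  haveI hRn : R.Normal := inferInstance
  have hkg : g.ker = f.ker := f.ker_rangeRestrict
  have hRp : IsPGroup p R := hP.comap_of_ker_isPGroup g (by rw [hkg]; exact hker)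
  have hRi : R.index = P.index := Subgroup.index_comap_of_surjective P hg
  obtain ⟨i, hi⟩ := IsPGroup.iff_card.1 hRp
  have hcop : Nat.Coprime (Nat.card R) R.index := by
    rw [hi, hRi]
    exact Nat.Coprime.pow_left i ((Nat.Prime.coprime_iff_not_dvd hp.out).2 hPi)
  obtain ⟨Q, hQ⟩ := Subgroup.exists_right_complement'_of_coprime hcop
  have hQidx : Nat.card Q = R.index := by
    have h1 := Subgroup.card_mul_index R
    have h2 := hQ.card_mul_card
    rw [← h1] at h2
    exact Nat.eq_of_mul_eq_mul_left Nat.card_pos h2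
  have hQc : Nat.Coprime p (Nat.card Q) := by
    rw [hQidx, hRi]
    exact (Nat.Prime.coprime_iff_not_dvd hp.out).2 hPi
  have hdec : ∀ g, ∃ r ∈ R, ∃ q ∈ Q, g = r * q := by
    intro t
    obtain ⟨⟨a, b⟩, hab, -⟩ := Subgroup.IsComplement.existsUnique hQ t
    exact ⟨a, a.2, b, b.2, hab.symm⟩
  have hRQ : R ⊓ Q = ⊥ := inf_eq_bot_of_p hRp hQc
  have hQn : Group.IsNilpotent Q := by
    haveI := hnil
    apply nilp_of_injective (g.comp Q.subtype)
    rw [injective_iff_map_eq_one]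
    intro x hx
    have h1 : (x : G) ∈ g.ker := hx
    have h2 : (x : G) ∈ R := by
      show g x ∈ P
      have h3 : g (x : G) = 1 := h1
      rw [h3]
      exact P.one_mem
    have h3 : (x : G) ∈ R ⊓ Q := ⟨h2, x.2⟩
    rw [hRQ, Subgroup.mem_bot] at h3
    exact Subtype.ext h3
  exact ⟨_, carter_normalizer R Q hRp hQc hdec hQn, fun C₁ hC₁ => carter_conj R Q hRp hQc hdec hQn C₁ hC₁⟩

end LemmaA

section Rel

variable {G : Type*} [Group G] [Finite G]

/-- Carter subgroup of a subgroup, in the ambient group. -/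
def IsCarterIn (H C : Subgroup G) : Prop :=
  C ≤ H ∧ Group.IsNilpotent C ∧ Subgroup.normalizer (C : Set G) ⊓ H = C

theorem IsCarterIn.to_type {H C : Subgroup G} (h : IsCarterIn H C) : IsCarter (C.subgroupOf H) := by
  obtain ⟨hCH, hnil, hself⟩ := h
  refine ⟨?_, le_antisymm ?_ Subgroup.le_normalizer⟩
  · exact Group.nilpotent_of_mulEquiv (Subgroup.subgroupOfEquivOfLe hCH).symm
  · intro y hy
    rw [Subgroup.mem_subgroupOf, ← hself]
    refine ⟨?_, y.2⟩
    apply Cfsg.Agent.Lib.Commutators.mem_normalizer_of_conj_mem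
    · intro a ha
      have h3 := (Subgroup.mem_normalizer_iff.1 hy ⟨a, hCH ha⟩).1 (Subgroup.mem_subgroupOf.2 ha)
      exact Subgroup.mem_subgroupOf.1 h3
    · intro a ha
      have h3 := (Subgroup.mem_normalizer_iff.1 (Subgroup.inv_mem _ hy) ⟨a, hCH ha⟩).1 (Subgroup.mem_subgroupOf.2 ha)
      have h4 := Subgroup.mem_subgroupOf.1 h3
      have h5 : y⁻¹ * (⟨a, hCH ha⟩ : H) * y⁻¹⁻¹ = ((y : G)⁻¹ * a * y : G) := by
        push_cast
        simp
      rw [← h5]
      exact h4

theorem isCarterIn_of_type {H : Subgroup G} {C' : Subgroup H} (h : IsCarter C') :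
    IsCarterIn H (C'.map H.subtype) := by
  obtain ⟨hnil, hself⟩ := h
  have hle : C'.map H.subtype ≤ H := by
    rintro _ ⟨x, -, rfl⟩
    exact x.2
  refine ⟨hle, Group.nilpotent_of_mulEquiv (C'.equivMapOfInjective _ H.subtype_injective),
    le_antisymm ?_ (le_inf Subgroup.le_normalizer hle)⟩
  rintro g ⟨hgN, hgH⟩
  have h1 : (⟨g, hgH⟩ : H) ∈ Subgroup.normalizer (C' : Set H) := by
    apply Cfsg.Agent.Lib.Commutators.mem_normalizer_of_conj_mem
    · intro a ha
      have h2 : (a : G) ∈ C'.map H.subtype := ⟨a, ha, rfl⟩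
      obtain ⟨b, hb, e⟩ := (Subgroup.mem_normalizer_iff.1 hgN (a : G)).1 h2
      have h3 : b = (⟨g, hgH⟩ : H) * a * (⟨g, hgH⟩ : H)⁻¹ := Subtype.ext e
      rwa [← h3]
    · intro a ha
      have h2 : (a : G) ∈ C'.map H.subtype := ⟨a, ha, rfl⟩
      obtain ⟨b, hb, e⟩ := (Subgroup.mem_normalizer_iff.1 (Subgroup.inv_mem _ hgN) (a : G)).1 h2
      have h3 : b = (⟨g, hgH⟩ : H)⁻¹ * a * ((⟨g, hgH⟩ : H)⁻¹)⁻¹ := by
        apply Subtype.ext
        exact e
      rw [inv_inv] at h3
      rwa [← h3]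
  rw [hself] at h1
  exact ⟨_, h1, rfl⟩

theorem IsCarter.to_in {H C : Subgroup G} (h : IsCarter C) (hCH : C ≤ H) : IsCarterIn H C :=
  ⟨hCH, h.1, by rw [h.2]; exact inf_eq_left.2 hCH⟩

theorem map_cj_subtype (H : Subgroup G) (d : H) (C' : Subgroup H) :
    (cj d C').map H.subtype = cj (d : G) (C'.map H.subtype) := by
  show (C'.map (MulAut.conj d).toMonoidHom).map H.subtype = (C'.map H.subtype).map (MulAut.conj (d : G)).toMonoidHom
  rw [Subgroup.map_map, Subgroup.map_map]
  congr 1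

variable {p : ℕ} [hp : Fact p.Prime] {G' : Type*} [Group G'] (f : G →* G') (hker : IsPGroup p f.ker)

include hker

theorem ker_comp_isPGroup (H : Subgroup G) : IsPGroup p (f.comp H.subtype).ker := by
  intro x
  have hx : (x : H).1 ∈ f.ker := x.2
  obtain ⟨k, hk⟩ := hker ⟨_, hx⟩
  refine ⟨k, Subtype.ext (Subtype.ext ?_)⟩
  have := congrArg Subtype.val hk
  simpa using this

theorem rel_exists (H : Subgroup G) (hnil : Group.IsNilpotent (H.map f)) : ∃ C, IsCarterIn H C := by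
  have hr : (f.comp H.subtype).range = H.map f := by
    rw [MonoidHom.range_comp, Subgroup.range_subtype]
  have hn' : Group.IsNilpotent (f.comp H.subtype).range := by
    rw [hr]
    exact hnil
  obtain ⟨N, hN, -⟩ := typeA (f.comp H.subtype) hn' (ker_comp_isPGroup f hker H)
  exact ⟨_, isCarterIn_of_type hN⟩

theorem rel_conj (H : Subgroup G) (hnil : Group.IsNilpotent (H.map f)) {C D : Subgroup G}
    (hC : IsCarterIn H C) (hD : IsCarterIn H D) : ∃ d ∈ H, cj d C = D := by
  have hr : (f.comp H.subtype).range = H.map f := by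
    rw [MonoidHom.range_comp, Subgroup.range_subtype]
  have hn' : Group.IsNilpotent (f.comp H.subtype).range := by
    rw [hr]
    exact hnil
  obtain ⟨N, hN, hall⟩ := typeA (f.comp H.subtype) hn' (ker_comp_isPGroup f hker H)
  obtain ⟨x, hx⟩ := hall _ hC.to_type
  obtain ⟨y, hy⟩ := hall _ hD.to_type
  have hDC : D.subgroupOf H = cj (y * x⁻¹) (C.subgroupOf H) := by
    rw [hy, hx, ← cj_mul]
    congr 1
    group
  refine ⟨((y * x⁻¹ : H) : G), (y * x⁻¹ : H).2, ?_⟩
  have h1 := congrArg (Subgroup.map H.subtype) hDC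
  rw [map_cj_subtype, Subgroup.map_subgroupOf_eq_of_le hC.1, Subgroup.map_subgroupOf_eq_of_le hD.1] at h1
  exact h1.symm

theorem mem_of_map_mem {D₀ : Subgroup G} (h : f.ker ≤ D₀) {z : G} (hz : f z ∈ D₀.map f) : z ∈ D₀ := by
  obtain ⟨d, hd, e⟩ := hz
  have h1 : d⁻¹ * z ∈ f.ker := by
    show f (d⁻¹ * z) = 1
    rw [map_mul, map_inv, e]
    group
  have h2 : z = d * (d⁻¹ * z) := by group
  rw [h2]
  exact D₀.mul_mem hd (h h1)

theorem rel_sup (H : Subgroup G) (hN : f.ker ≤ H) (hnil : Group.IsNilpotent (H.map f)) {C : Subgroup G}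
    (hC : IsCarterIn H C) : C ⊔ f.ker = H := by
  classical
  let D₀ : Subgroup G := C ⊔ f.ker
  have hD₀H : D₀ ≤ H := sup_le hC.1 hN
  have hkD : f.ker ≤ D₀ := le_sup_right
  have hnilD : Group.IsNilpotent (D₀.map f) := nilp_of_le (Subgroup.map_mono hD₀H) hnil
  have hCD : IsCarterIn D₀ C := by
    refine ⟨le_sup_left, hC.2.1, le_antisymm ?_ (le_inf Subgroup.le_normalizer le_sup_left)⟩
    rintro x ⟨hx, hxD⟩
    rw [← hC.2.2]
    exact ⟨hx, hD₀H hxD⟩
  have key : ∀ g ∈ H, g ∈ Subgroup.normalizer (D₀ : Set G) → g ∈ D₀ := by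
    intro g hgH hgN
    have hle : cj g C ≤ D₀ := by
      rintro _ ⟨c, hc, rfl⟩
      exact (Subgroup.mem_normalizer_iff.1 hgN c).1 (le_sup_left (a := C) hc)
    have hCg : IsCarterIn D₀ (cj g C) := by
      refine ⟨hle, nilp_cj g hC.2.1, le_antisymm ?_ (le_inf Subgroup.le_normalizer hle)⟩
      rintro x ⟨hx, hxD⟩
      have hx2 : x ∈ Subgroup.normalizer ((cj g C : Subgroup G) : Set G) := hx
      rw [normalizer_cj] at hx2
      have hx3 := mem_cj.1 hx2
      rw [mem_cj, ← hC.2.2]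
      refine ⟨hx3, ?_⟩
      exact H.mul_mem (H.mul_mem (H.inv_mem hgH) (hD₀H hxD)) hgH
    obtain ⟨d, hd, hdC⟩ := rel_conj f hker D₀ hnilD hCD hCg
    have h1 : cj (d⁻¹ * g) C = C := by
      rw [cj_mul, ← hdC, ← cj_mul]
      simp [cj_one]
    have h2 := mem_normalizer_of_cj_eq h1
    have h3 : d⁻¹ * g ∈ H := H.mul_mem (H.inv_mem (hD₀H hd)) hgH
    have h4 : d⁻¹ * g ∈ C := by
      rw [← hC.2.2]
      exact ⟨h2, h3⟩
    have h5 : g = d * (d⁻¹ * g) := by group
    rw [h5]
    exact D₀.mul_mem hd (le_sup_left (a := C) h4)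
  have hmap : D₀.map f = H.map f := by
    by_contra hne
    obtain ⟨y, hyH, hy, hyN⟩ := exists_normalizer_of_lt (lt_of_le_of_ne (Subgroup.map_mono hD₀H) hne) hnil
    obtain ⟨g, hg, rfl⟩ := hyH
    apply hy
    refine ⟨g, key g hg ?_, rfl⟩
    apply Cfsg.Agent.Lib.Commutators.mem_normalizer_of_conj_mem
    · intro a ha
      apply mem_of_map_mem f hker hkD
      rw [map_mul, map_mul, map_inv]
      exact (Subgroup.mem_normalizer_iff.1 hyN (f a)).1 ⟨a, ha, rfl⟩
    · intro a ha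
      apply mem_of_map_mem f hker hkD
      have h1 := (Subgroup.mem_normalizer_iff.1 (Subgroup.inv_mem _ hyN) (f a)).1 ⟨a, ha, rfl⟩
      rw [inv_inv] at h1
      rw [map_mul, map_mul, map_inv]
      exact h1
  apply le_antisymm hD₀H
  intro h hh
  apply mem_of_map_mem f hker hkD
  rw [hmap]
  exact ⟨h, hh, rfl⟩

end Rel

section Main

theorem normalizer_sup_of_normal {G : Type*} [Group G] {C N : Subgroup G} [hN : N.Normal] {g : G}
    (h : g ∈ Subgroup.normalizer (C : Set G)) : g ∈ Subgroup.normalizer ((C ⊔ N : Subgroup G) : Set G) := by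
  apply mem_normalizer_of_cj_eq
  rw [cj, Subgroup.map_sup]
  have h1 : N.map (MulAut.conj g).toMonoidHom = N := by
    apply cj_eq_of_mem_normalizer
    rw [Subgroup.mem_normalizer_iff]
    intro x
    exact ⟨fun hx => hN.conj_mem x hx g, fun hx => by
      have := hN.conj_mem _ hx g⁻¹
      have e : g⁻¹ * (g * x * g⁻¹) * g⁻¹⁻¹ = x := by group
      rwa [e] at this⟩
  rw [h1]
  have h2 := cj_eq_of_mem_normalizer h
  unfold cj at h2
  rw [h2]

theorem main : ∀ (n : ℕ) (G : Type u) [Group G] [Finite G] [Group.IsSolvable G], Nat.card G = n →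
    (∃ C : Subgroup G, IsCarter C) ∧
      ∀ C D : Subgroup G, IsCarter C → IsCarter D → ∃ g : G, cj g C = D := by
  intro n
  induction n using Nat.strong_induction_on with
  | _ n IH =>
    intro G _ _ _ hn
    classical
    by_cases htriv : Subsingleton G
    · refine ⟨⟨⊤, ?_⟩, ?_⟩
      · exact ⟨inferInstance, Subsingleton.elim _ _⟩
      · intro C D _ _
        exact ⟨1, Subsingleton.elim _ _⟩
    rw [not_subsingleton_iff_nontrivial] at htriv
    -- a minimal normal subgroup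
    let S : Set (Subgroup G) := {M | M.Normal ∧ M ≠ ⊥}
    have hS : S.Nonempty := ⟨⊤, inferInstance, top_ne_bot⟩
    obtain ⟨N₀, hN₀⟩ := Set.Finite.exists_minimal (Set.toFinite S) hS
    obtain ⟨⟨hNn, hNne⟩, hNmin⟩ := hN₀
    haveI := hNn
    obtain ⟨-, p, hpp, hpow⟩ := Cfsg.Agent.S0043.result N₀ hNne (fun M hM hle => by
      by_cases hbot : M = ⊥
      · exact Or.inl hbot
      · exact Or.inr (le_antisymm hle (hNmin ⟨hM, hbot⟩ hle)))
    haveI : Fact p.Prime := ⟨hpp⟩
    let π : G →* G ⧸ N₀ := QuotientGroup.mk' N₀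
    have hπs : Function.Surjective π := QuotientGroup.mk'_surjective N₀
    have hπk : π.ker = N₀ := QuotientGroup.ker_mk' N₀
    have hker : IsPGroup p π.ker := by
      rw [hπk]
      intro x
      refine ⟨1, Subtype.ext ?_⟩
      simpa using hpow x x.2
    have hlt : Nat.card (G ⧸ N₀) < n := by
      have h1 := Subgroup.card_mul_index N₀
      have h2 : 1 < Nat.card N₀ := by
        haveI : Nontrivial N₀ := (Subgroup.nontrivial_iff_ne_bot N₀).2 hNne
        exact Finite.one_lt_card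
      have h3 : 0 < N₀.index := Nat.pos_of_ne_zero Subgroup.index_ne_zero_of_finite
      rw [← hn, ← h1]
      show N₀.index < _
      nlinarith
    obtain ⟨⟨Hb, hHb⟩, hconj⟩ := IH _ hlt (G ⧸ N₀) rfl
    have hcomap : ∀ (g : G) (Xb : Subgroup (G ⧸ N₀)), π g ∈ Subgroup.normalizer (Xb : Set (G ⧸ N₀)) →
        g ∈ Subgroup.normalizer ((Xb.comap π : Subgroup G) : Set G) := by
      intro g Xb h
      rw [Subgroup.mem_normalizer_iff]
      intro x
      have h1 := Subgroup.mem_normalizer_iff.1 h (π x)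
      show π x ∈ Xb ↔ π (g * x * g⁻¹) ∈ Xb
      rw [map_mul, map_mul, map_inv]
      exact h1
    refine ⟨?_, ?_⟩
    · let H : Subgroup G := Hb.comap π
      have hmapH : H.map π = Hb := Subgroup.map_comap_eq_self_of_surjective hπs Hb
      have hNH : π.ker ≤ H := Subgroup.ker_le_comap _ _
      have hnilH : Group.IsNilpotent (H.map π) := by
        rw [hmapH]
        exact hHb.1
      obtain ⟨C, hC⟩ := rel_exists π hker H hnilH
      have hsup := rel_sup π hker H hNH hnilH hC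
      refine ⟨C, hC.2.1, le_antisymm ?_ Subgroup.le_normalizer⟩
      intro g hg
      have hgH : g ∈ H := by
        show π g ∈ Hb
        rw [← hHb.2]
        rw [Subgroup.mem_normalizer_iff]
        intro z
        obtain ⟨x, rfl⟩ := hπs z
        have h1 : g ∈ Subgroup.normalizer ((C ⊔ π.ker : Subgroup G) : Set G) :=
          normalizer_sup_of_normal hg
        rw [hsup] at h1
        have h2 := Subgroup.mem_normalizer_iff.1 h1 x
        rw [← map_inv, ← map_mul, ← map_mul]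
        exact h2
      rw [← hC.2.2]
      exact ⟨hg, hgH⟩
    · intro C D hC hD
      -- images are Carter
      have himg : ∀ C : Subgroup G, IsCarter C → IsCarter (C.map π) ∧
          Group.IsNilpotent ((C ⊔ π.ker : Subgroup G).map π) := by
        intro C hC
        have hmap : (C ⊔ π.ker : Subgroup G).map π = C.map π := by
          rw [Subgroup.map_sup, (Subgroup.map_eq_bot_iff π.ker).2 le_rfl, sup_bot_eq]
        have hnil : Group.IsNilpotent (C.map π) := by
          haveI := hC.1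
          exact Group.nilpotent_of_surjective (π.subgroupMap C) (π.subgroupMap_surjective C)
        have hnil' : Group.IsNilpotent ((C ⊔ π.ker : Subgroup G).map π) := by
          rw [hmap]
          exact hnil
        refine ⟨⟨hnil, le_antisymm ?_ Subgroup.le_normalizer⟩, hnil'⟩
        intro z hz
        obtain ⟨g, rfl⟩ := hπs z
        have hcm : (C.map π).comap π = C ⊔ π.ker := Subgroup.comap_map_eq _ _
        have h1 := hcomap g _ hz
        rw [hcm] at h1
        have hle : cj g C ≤ C ⊔ π.ker := by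
          rintro _ ⟨c, hc, rfl⟩
          exact (Subgroup.mem_normalizer_iff.1 h1 c).1 (le_sup_left (a := C) hc)
        obtain ⟨d, hd, hdC⟩ := rel_conj π hker (C ⊔ π.ker) hnil' (hC.to_in le_sup_left)
          ((hC.cj g).to_in hle)
        have h2 : cj (d⁻¹ * g) C = C := by
          rw [cj_mul, ← hdC, ← cj_mul]
          simp [cj_one]
        have h3 := mem_normalizer_of_cj_eq h2
        rw [hC.2] at h3
        have h4 : g = d * (d⁻¹ * g) := by group
        have h5 : g ∈ C ⊔ π.ker := by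
          rw [h4]
          exact Subgroup.mul_mem _ hd (le_sup_left (a := C) h3)
        rw [← hmap]
        exact ⟨g, h5, rfl⟩
      obtain ⟨hCc, hCn⟩ := himg C hC
      obtain ⟨hDc, hDn⟩ := himg D hD
      obtain ⟨zb, hzb⟩ := hconj _ _ hCc hDc
      obtain ⟨g, rfl⟩ := hπs zb
      have hcm : (D.map π).comap π = D ⊔ π.ker := Subgroup.comap_map_eq _ _
      have hle : cj g C ≤ D ⊔ π.ker := by
        rintro _ ⟨c, hc, rfl⟩
        rw [← hcm]
        show π (_) ∈ D.map π
        rw [← hzb]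
        have h1 : π ((MulAut.conj g).toMonoidHom c) = π g * π c * (π g)⁻¹ := by
          simp [MulAut.conj_apply]
        rw [h1]
        exact conj_mem_cj ⟨c, hc, rfl⟩
      obtain ⟨d, hd, hdC⟩ := rel_conj π hker (D ⊔ π.ker) hDn ((hC.cj g).to_in hle)
        (hD.to_in le_sup_left)
      exact ⟨d * g, by rw [cj_mul]; exact hdC⟩

theorem cj_eq_smul {G : Type*} [Group G] (g : G) (C : Subgroup G) : MulAut.conj g • C = cj g C := by
  ext x
  rw [Subgroup.mem_pointwise_smul_iff_inv_smul_mem, mem_cj, MulAut.smul_def]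
  show (MulAut.conj g).symm x ∈ C ↔ _
  rw [MulAut.conj_symm_apply]

/-- **Carter's theorem.** -/
theorem carter {G : Type u} [Group G] [Finite G] [Group.IsSolvable G] :
    (∃ C : Subgroup G, Group.IsNilpotent C ∧ Subgroup.normalizer (C : Set G) = C) ∧
    ∀ C D : Subgroup G, Group.IsNilpotent C → Subgroup.normalizer (C : Set G) = C →
      Group.IsNilpotent D → Subgroup.normalizer (D : Set G) = D → ∃ g : G, MulAut.conj g • C = D := by
  obtain ⟨⟨C, hC⟩, h2⟩ := main _ G rfl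
  refine ⟨⟨C, hC.1, hC.2⟩, fun C D h1 h3 h4 h5 => ?_⟩
  obtain ⟨g, hg⟩ := h2 C D ⟨h1, h3⟩ ⟨h4, h5⟩
  exact ⟨g, by rw [cj_eq_smul]; exact hg⟩

end Main

end Cfsg.Agent.Lib.Carter
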