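import Cfsg.Agent.Lib.H7Ito
import Cfsg.Agent.Lib.CharIso
import Cfsg.Agent.Lib.CharKernel
import Cfsg.Agent.Lib.CharBlockDefect

/-!
# Groups with small character degrees
-/

set_option autoImplicit false
set_option linter.all false

namespace Cfsg.Agent.Lib.CdSmall

open Cfsg Cfsg.Agent.Lib.CharOps Cfsg.Agent.Lib.CharIrr Cfsg.Agent.Lib.CharAb
open scoped ComplexConjugate Pointwise

universe u

variable {G : Type u} [Group G] [Fintype G]

/-- A character is the sum of its constituents. -/
theorem char_decomp {Ψ : G → ℂ} (hΨ : IsCharacter G Ψ) :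
    ∃ m : IrrCharacter G → ℕ, (∀ χ : IrrCharacter G, classInner Ψ (χ : G → ℂ) = m χ) ∧
      classInner Ψ Ψ = ∑ χ : IrrCharacter G, ((m χ : ℂ)) ^ 2 ∧
      Ψ 1 = ∑ χ : IrrCharacter G, (m χ : ℂ) * (χ : G → ℂ) 1 := by
  have hm : ∀ χ : IrrCharacter G, ∃ n : ℕ, classInner Ψ (χ : G → ℂ) = n :=
    fun χ => exists_nat_classInner hΨ (IsIrrCharacter.isCharacter' χ.2)
  choose m hm using hm
  have hexp := classFunction_expand (IsCharacter.isClassFunction' hΨ)
  refine ⟨m, hm, ?_, ?_⟩
  · conv_lhs => rw [hexp]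
    rw [classInner_sum_right]
    refine Finset.sum_congr rfl fun χ _ => ?_
    rw [classInner_smul_right, ← hexp, hm χ, Complex.conj_natCast]
    ring
  · conv_lhs => rw [hexp]
    rw [Finset.sum_apply]
    refine Finset.sum_congr rfl fun χ _ => ?_
    rw [Pi.smul_apply, hm χ, smul_eq_mul]

/-- The characteristic function of a subgroup. -/
theorem extend_one (H : Subgroup G) (y : G) [Decidable (y ∈ H)] :
    extendByZero H (fun _ => (1 : ℂ)) y = if y ∈ H then 1 else 0 := by
  split_ifs with h
  · rw [extendByZero_of_mem H _ h]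
  · rw [extendByZero_of_not_mem H _ h]

/-- The norm of a permutation character counts intersections of conjugates. -/
theorem inner_ind_one (H : Subgroup G) [Fintype H] [DecidablePred (· ∈ H)] :
    classInner (indFun H fun _ => (1 : ℂ)) (indFun H fun _ => (1 : ℂ)) * (Nat.card H : ℂ) ^ 2 =
      ∑ x : G, (((Finset.univ : Finset H).filter (fun h : H => x⁻¹ * (h : G) * x ∈ H)).card : ℂ) := by
  have hH : (Nat.card H : ℂ) ≠ 0 := by exact_mod_cast Nat.card_pos.ne'
  rw [frobenius_reciprocity H _ (indFun_isClassFunction H _)]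
  simp only [classInner, indFun_apply, map_mul, map_inv₀, Complex.conj_natCast, map_sum, extend_one, one_mul]
  have h1 : ∀ h : H, ∀ x : G, (starRingEnd ℂ) (if x⁻¹ * (h : G) * x ∈ H then (1 : ℂ) else 0) = if x⁻¹ * (h : G) * x ∈ H then (1 : ℂ) else 0 := by
    intro h x
    split_ifs <;> simp
  simp only [h1]
  have h2 : ∀ x : G, (((Finset.univ : Finset H).filter (fun h : H => x⁻¹ * (h : G) * x ∈ H)).card : ℂ)
      = ∑ h : H, if x⁻¹ * (h : G) * x ∈ H then (1 : ℂ) else 0 := by
    intro x
    rw [Finset.card_filter]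
    push_cast
    rfl
  simp only [h2]
  rw [Finset.sum_comm]
  rw [← Finset.mul_sum]
  field_simp

variable {p : ℕ} [hp : Fact p.Prime]

theorem le_of_le_normalizer (P : Sylow p G) {Q : Subgroup G} (hQ : IsPGroup p Q)
    (h : Q ≤ Subgroup.normalizer ((P : Subgroup G) : Set G)) : Q ≤ (P : Subgroup G) := by
  have h1 := hQ.to_sup_of_normal_right' P.isPGroup' h
  have h2 := P.is_maximal' h1 le_sup_right
  rw [← h2]
  exact le_sup_left

theorem mem_conj_sylow {g y : G} {P : Sylow p G} :
    y ∈ ((g • P : Sylow p G) : Subgroup G) ↔ g⁻¹ * y * g ∈ (P : Subgroup G) := by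
  rw [Sylow.smul_def, Sylow.pointwise_smul_def, Subgroup.mem_pointwise_smul_iff_inv_smul_mem]
  simp [MulAut.smul_def, MulAut.conj_symm_apply]

/-- A point outside the normalizer of a Sylow subgroup has a suborbit of size divisible by `p`. -/
theorem dvd_index_of_not_mem (P : Sylow p G) {x : G} (hx : x ∉ Subgroup.normalizer ((P : Subgroup G) : Set G)) :
    p ∣ (((Subgroup.normalizer ((P : Subgroup G) : Set G)).map (MulAut.conj x).toMonoidHom).subgroupOf (Subgroup.normalizer ((P : Subgroup G) : Set G))).index := by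
  set H := Subgroup.normalizer ((P : Subgroup G) : Set G) with hH
  by_contra hnd
  let D := H.map (MulAut.conj x).toMonoidHom ⊓ H
  have h1 : D.index = ((H.map (MulAut.conj x).toMonoidHom).subgroupOf H).index * H.index := by
    rw [← Subgroup.relIndex_mul_index (inf_le_right : D ≤ H), Subgroup.inf_relIndex_right]
    rfl
  have h2 : ¬ p ∣ H.index := fun hh =>
    P.not_dvd_index (hh.trans (Subgroup.index_dvd_of_le (Subgroup.le_normalizer)))
  have h3 : ¬ p ∣ D.index := by
    rw [h1]
    intro hh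
    rcases (Nat.Prime.dvd_mul hp.out).1 hh with hh | hh
    · exact hnd hh
    · exact h2 hh
  obtain ⟨g, hg⟩ := Cfsg.Agent.Lib.H7Ito.exists_conj_le_of_not_dvd_index P D h3
  have h4 : ((g • P : Sylow p G) : Subgroup G) ≤ (P : Subgroup G) :=
    le_of_le_normalizer P (g • P).isPGroup' (hg.trans inf_le_right)
  have h5 : (P : Subgroup G) = ((g • P : Sylow p G) : Subgroup G) :=
    (g • P).is_maximal' P.isPGroup' h4
  have h6 : (P : Subgroup G) ≤ D := h5 ▸ hg
  have h7 : ((x⁻¹ • P : Sylow p G) : Subgroup G) ≤ H := by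
    intro y hy
    rw [mem_conj_sylow, inv_inv] at hy
    have h8 : x * y * x⁻¹ ∈ H.map (MulAut.conj x).toMonoidHom := (h6 hy).1
    rw [Subgroup.mem_map_equiv] at h8
    have h9 : (MulAut.conj x).symm (x * y * x⁻¹) = y := by
      simp [MulAut.conj_symm_apply, mul_assoc]
    rw [h9] at h8
    exact h8
  have h8 : ((x⁻¹ • P : Sylow p G) : Subgroup G) ≤ (P : Subgroup G) :=
    le_of_le_normalizer P (x⁻¹ • P).isPGroup' h7
  have h9 : x⁻¹ • P = P := Sylow.ext ((x⁻¹ • P).is_maximal' P.isPGroup' h8).symm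
  have h10 := Sylow.smul_eq_iff_mem_normalizer.1 h9
  have h11 := inv_mem h10
  rw [inv_inv] at h11
  exact hx h11

/-- The Sylow subgroups are abelian if all character degrees are small. -/
theorem sylow_comm (hb : ∀ χ : IrrCharacter G, charDegree (χ : G → ℂ) < p) (P : Sylow p G) :
    ∀ a b : (P : Subgroup G), a * b = b * a := by
  classical
  letI : Fintype (P : Subgroup G) := Fintype.ofFinite _
  rw [commutative_iff_apply_one]
  intro l
  have h1 : IsCharacter G (indFun (P : Subgroup G) (l : ↥(P : Subgroup G) → ℂ)) :=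
    isCharacter_indFun _ (IsIrrCharacter.isCharacter' l.2)
  have hl1 : (l : ↥(P : Subgroup G) → ℂ) 1 ≠ 0 := degree_ne_zero l.2
  have h2 : indFun (P : Subgroup G) (l : ↥(P : Subgroup G) → ℂ) 1 ≠ 0 := by
    rw [indFun_one]
    exact mul_ne_zero (by exact_mod_cast Subgroup.index_ne_zero_of_finite) hl1
  obtain ⟨χ, hχ, hin⟩ := exists_constituent h1 h2
  rw [frobenius_reciprocity _ _ (IsCharacter.isClassFunction' (IsIrrCharacter.isCharacter' hχ))] at hin
  have hin2 : classInner (fun h : (P : Subgroup G) => χ h) (l : ↥(P : Subgroup G) → ℂ) ≠ 0 := by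
    intro h0
    apply hin
    rw [← classInner_conj, h0, map_zero]
  have hd1 : (l : ↥(P : Subgroup G) → ℂ) 1 = (charDegree (l : ↥(P : Subgroup G) → ℂ) : ℂ) :=
    (Cfsg.Agent.Lib.CharBlockDefect.charDegree_cast (IsIrrCharacter.isCharacter' l.2)).symm
  have hd2 : χ 1 = (charDegree χ : ℂ) :=
    (Cfsg.Agent.Lib.CharBlockDefect.charDegree_cast (IsIrrCharacter.isCharacter' hχ)).symm
  have h3 := degree_le_of_inner (isCharacter_restrict (P : Subgroup G) (IsIrrCharacter.isCharacter' hχ)) l.2 hin2
    (charDegree χ) (charDegree (l : ↥(P : Subgroup G) → ℂ)) (by simpa using hd2) hd1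
  have h4 : charDegree (l : ↥(P : Subgroup G) → ℂ) < p := lt_of_le_of_lt h3 (hb ⟨χ, hχ⟩)
  have h5 := Cfsg.Agent.Lib.CharBlockDefect.charDegree_dvd_card l.2
  obtain ⟨k, hk⟩ := IsPGroup.iff_card.1 P.isPGroup'
  rw [hk] at h5
  obtain ⟨j, hj, hj2⟩ := (Nat.dvd_prime_pow hp.out).1 h5
  have h6 : charDegree (l : ↥(P : Subgroup G) → ℂ) = 1 := by
    rw [hj2] at h4 ⊢
    have : j = 0 := by
      by_contra hne
      have : p ^ 1 ≤ p ^ j := Nat.pow_le_pow_right hp.out.pos (Nat.pos_of_ne_zero hne)
      rw [pow_one] at this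
      omega
    rw [this, pow_zero]
  rw [hd1, h6]
  simp

/-- All degrees small implies that the Sylow subgroup is normal. -/
theorem sylow_normal (hb : ∀ χ : IrrCharacter G, charDegree (χ : G → ℂ) < p) (P : Sylow p G) :
    (P : Subgroup G).Normal := by
  classical
  set H := Subgroup.normalizer ((P : Subgroup G) : Set G) with hHdef
  letI : Fintype H := Fintype.ofFinite _
  let Ψ : G → ℂ := indFun H fun _ => (1 : ℂ)
  have hΨ : IsCharacter G Ψ := isCharacter_indFun H (IsIrrCharacter.isCharacter' Cfsg.Agent.Lib.CharIso.isIrr_one)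
  obtain ⟨m, hm1, hm2, hm3⟩ := char_decomp hΨ
  have hinner := inner_ind_one H
  -- the bound on the suborbits
  let c : G → ℕ := fun x => ((Finset.univ : Finset H).filter (fun h : H => x⁻¹ * (h : G) * x ∈ H)).card
  have hc1 : ∀ x ∈ H, c x = Nat.card H := by
    intro x hx
    have : (Finset.univ : Finset H).filter (fun h : H => x⁻¹ * (h : G) * x ∈ H) = Finset.univ := by
      apply Finset.filter_true_of_mem
      intro h _
      exact H.mul_mem (H.mul_mem (H.inv_mem hx) h.2) hx
    show ((Finset.univ : Finset H).filter (fun h : H => x⁻¹ * (h : G) * x ∈ H)).card = _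
    rw [this, Finset.card_univ, Nat.card_eq_fintype_card]
  have hc2 : ∀ x, x ∉ H → p * c x ≤ Nat.card H := by
    intro x hx
    have h0 := dvd_index_of_not_mem P hx
    set L := (H.map (MulAut.conj x).toMonoidHom).subgroupOf H with hL
    have h1 : Nat.card L = c x := by
      rw [Nat.card_eq_fintype_card, Fintype.card_subtype]
      congr 1
      ext h
      simp only [Finset.mem_filter, Finset.mem_univ, true_and]
      rw [hL, Subgroup.mem_subgroupOf, Subgroup.mem_map_equiv, MulAut.conj_symm_apply]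
    have h2 := L.card_mul_index
    rw [← h1]
    obtain ⟨t, ht⟩ := h0
    rw [← h2, ht]
    have : 0 < t := Nat.pos_of_ne_zero (by
      rintro rfl
      exact L.index_ne_zero_of_finite (by rw [ht, mul_zero]))
    calc p * Nat.card L = p * Nat.card L * 1 := by ring
      _ ≤ p * Nat.card L * t := Nat.mul_le_mul_left _ this
      _ = Nat.card L * (p * t) := by ring
  have hc3 : ∑ x : G, p * c x ≤ ∑ x : G, (if x ∈ H then p * Nat.card H else Nat.card H) := by
    apply Finset.sum_le_sum
    intro x _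
    split_ifs with hx
    · rw [hc1 x hx]
    · exact hc2 x hx
  have hc4 : ∑ x : G, (if x ∈ H then p * Nat.card H else Nat.card H) + Nat.card H * Nat.card H
      = p * Nat.card H * Nat.card H + Nat.card G * Nat.card H := by
    have h1 : ∀ x : G, (if x ∈ H then p * Nat.card H else Nat.card H) =
        Nat.card H + (if x ∈ H then (p - 1) * Nat.card H else 0) := by
      intro x
      split_ifs
      · have : p * Nat.card H = (p - 1) * Nat.card H + Nat.card H := by
          obtain ⟨q, hq⟩ : ∃ q, p = q + 1 := ⟨p - 1, by have := hp.out.pos; omega⟩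
          rw [hq]; simp; ring
        omega
      · rfl
    simp only [h1]
    rw [Finset.sum_add_distrib, Finset.sum_const, Finset.sum_ite, Finset.sum_const, Finset.sum_const_zero, add_zero]
    have h2 : (Finset.univ.filter (fun x : G => x ∈ H)).card = Nat.card H := by
      rw [Nat.card_eq_fintype_card, Fintype.card_subtype]
    rw [h2, Finset.card_univ, Nat.card_eq_fintype_card (α := G)]
    simp only [smul_eq_mul]
    obtain ⟨q, hq⟩ : ∃ q, p = q + 1 := ⟨p - 1, by have := hp.out.pos; omega⟩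
    rw [hq]; simp; ring
  -- in terms of multiplicities
  have hT : classInner Ψ Ψ = ((∑ χ : IrrCharacter G, (m χ) ^ 2 : ℕ) : ℂ) := by
    rw [hm2]; push_cast; rfl
  have hsum : ((∑ x : G, c x : ℕ) : ℂ) = ((∑ χ : IrrCharacter G, (m χ) ^ 2 : ℕ) : ℂ) * (Nat.card H : ℂ) ^ 2 := by
    rw [← hT]
    push_cast
    exact hinner.symm
  have hsum' : ∑ x : G, c x = (∑ χ : IrrCharacter G, (m χ) ^ 2) * (Nat.card H) ^ 2 := by
    exact_mod_cast hsum
  have hn : H.index = ∑ χ : IrrCharacter G, m χ * charDegree (χ : G → ℂ) := by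
    have h1 : Ψ 1 = (H.index : ℂ) := by
      show indFun H _ 1 = _
      rw [indFun_one]; simp
    rw [hm3] at h1
    have h2 : ∀ χ : IrrCharacter G, (χ : G → ℂ) 1 = (charDegree (χ : G → ℂ) : ℂ) := fun χ =>
      (Cfsg.Agent.Lib.CharBlockDefect.charDegree_cast (IsIrrCharacter.isCharacter' χ.2)).symm
    simp only [h2] at h1
    exact_mod_cast h1.symm
  have hcardG : Nat.card G = H.index * Nat.card H := by
    rw [mul_comm]; exact (H.card_mul_index).symm
  -- the main inequality
  have hmain : p * (∑ χ : IrrCharacter G, (m χ) ^ 2) + 1 ≤ p + H.index := by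
    have h1 : p * ∑ x : G, c x + Nat.card H * Nat.card H ≤ p * Nat.card H * Nat.card H + Nat.card G * Nat.card H := by
      rw [← hc4, Finset.mul_sum]
      omega
    rw [hsum', hcardG] at h1
    have h2 : 0 < Nat.card H * Nat.card H := Nat.mul_pos Nat.card_pos Nat.card_pos
    apply Nat.le_of_mul_le_mul_right _ h2
    nlinarith
  -- the trivial constituent
  let one : IrrCharacter G := ⟨fun _ => 1, Cfsg.Agent.Lib.CharIso.isIrr_one⟩
  have hm_one : m one = 1 := by
    have h1 := hm1 one
    have h2 : classInner Ψ (one : G → ℂ) = 1 := by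
      show classInner (indFun H _) (fun _ => (1 : ℂ)) = 1
      rw [frobenius_reciprocity _ _ (IsCharacter.isClassFunction' (IsIrrCharacter.isCharacter' Cfsg.Agent.Lib.CharIso.isIrr_one))]
      rw [classInner_irr Cfsg.Agent.Lib.CharIso.isIrr_one Cfsg.Agent.Lib.CharIso.isIrr_one, if_pos rfl]
    rw [h2] at h1
    exact_mod_cast h1.symm
  have hdeg_one : charDegree (one : G → ℂ) = 1 := by
    have := Cfsg.Agent.Lib.CharBlockDefect.charDegree_cast (IsIrrCharacter.isCharacter' one.2)
    have h2 : (one : G → ℂ) 1 = 1 := rfl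
    rw [h2] at this
    exact_mod_cast this
  rw [← Finset.add_sum_erase _ _ (Finset.mem_univ one), hm_one, one_pow] at hmain
  rw [← Finset.add_sum_erase _ _ (Finset.mem_univ one), hm_one, hdeg_one, one_mul] at hn
  have hineq : p * ∑ χ ∈ Finset.univ.erase one, (m χ) ^ 2 ≤ ∑ χ ∈ Finset.univ.erase one, m χ * charDegree (χ : G → ℂ) := by
    rw [mul_add, hn] at hmain
    omega
  have hzero : ∀ χ ∈ Finset.univ.erase one, m χ = 0 := by
    by_contra hex
    push_neg at hex
    obtain ⟨χ₀, h₀, h₁⟩ := hex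
    have hlt : ∑ χ ∈ Finset.univ.erase one, m χ * charDegree (χ : G → ℂ) < ∑ χ ∈ Finset.univ.erase one, p * (m χ) ^ 2 := by
      apply Finset.sum_lt_sum
      · intro χ _
        have h1 := hb χ
        have h2 : m χ ≤ (m χ) ^ 2 := by nlinarith [Nat.zero_le (m χ), sq_nonneg (m χ), Nat.le_self_pow (n := 2) (by norm_num) (m χ)]
        calc m χ * charDegree (χ : G → ℂ) ≤ m χ * p := Nat.mul_le_mul_left _ h1.le
          _ = p * m χ := by ring
          _ ≤ p * (m χ) ^ 2 := Nat.mul_le_mul_left _ h2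
      · refine ⟨χ₀, h₀, ?_⟩
        have h1 := hb χ₀
        have h2 : m χ₀ ≤ (m χ₀) ^ 2 := Nat.le_self_pow (by norm_num) _
        calc m χ₀ * charDegree (χ₀ : G → ℂ) < m χ₀ * p := Nat.mul_lt_mul_of_pos_left h1 (Nat.pos_of_ne_zero h₁)
          _ = p * m χ₀ := by ring
          _ ≤ p * (m χ₀) ^ 2 := Nat.mul_le_mul_left _ h2
    rw [← Finset.mul_sum] at hlt
    omega
  have hidx : H.index = 1 := by
    rw [hn, Finset.sum_eq_zero (fun χ hχ => by rw [hzero χ hχ, zero_mul]), add_zero]
  have htop : H = ⊤ := Subgroup.index_eq_one.1 hidx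
  exact Subgroup.normalizer_eq_top_iff.1 htop

end Cfsg.Agent.Lib.CdSmall
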