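import Mathlib
import Cfsg.Prelude
import Cfsg.Agent.Lib.CharInt

/-!
# Central characters: the class sums act by scalars
-/

set_option autoImplicit false
set_option linter.all false

namespace Cfsg.Agent.Lib.Central

open scoped ComplexConjugate
open Module Cfsg Cfsg.Agent.Lib.CharCore Cfsg.Agent.Lib.CharBasic Cfsg.Agent.Lib.CharIrr Cfsg.Agent.Lib.CharInt

universe u

section
variable {G : Type u} [Group G] [Fintype G]
variable {V : Type*} [AddCommGroup V] [Module ℂ V] [FiniteDimensional ℂ V]

theorem character_one (ρ : Representation ℂ G V) : ρ.character 1 = (finrank ℂ V : ℂ) := by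
  simp [Representation.character]

open scoped Classical in
theorem sum_indicator_character (ρ : Representation ℂ G V) (g : G) :
    ∑ x : G, (if IsConj x g then (1 : ℂ) else 0) * ρ.character x =
      ((Subgroup.centralizer ({g} : Set G)).index : ℂ) * ρ.character g := by
  have : ∀ x : G, (if IsConj x g then (1 : ℂ) else 0) * ρ.character x =
      if IsConj x g then ρ.character g else 0 := by
    intro x
    split_ifs with hx
    · rw [one_mul]
      exact classFun_eq_of_isConj (fun a b => Representation.char_conj ρ a b) hx
    · rw [zero_mul]
  simp only [this]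
  rw [Finset.sum_ite, Finset.sum_const_zero, add_zero, Finset.sum_const, nsmul_eq_mul,
    ← card_class_eq_index, Nat.card_eq_fintype_card, Fintype.card_subtype]

open scoped Classical in
/-- The class sum of `g` acts by the central character. -/
theorem classOp_indicator (ρ : Representation ℂ G V) (hρ : ρ.IsIrreducible) (g : G) :
    classOp ρ (fun x => if IsConj x g then (1 : ℂ) else 0)
      = centralChar ρ.character g • LinearMap.id := by
  obtain ⟨c, hc⟩ := classOp_eq_smul (indicator_isClassFunction g) ρ hρ
  have hd : (finrank ℂ V : ℂ) ≠ 0 := by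
    exact_mod_cast (finrank_pos_of_irreducible ρ hρ).ne'
  have htr := trace_classOp ρ (fun x => if IsConj x g then (1 : ℂ) else 0)
  rw [hc] at htr
  simp only [map_smul, LinearMap.trace_id, smul_eq_mul] at htr
  rw [sum_indicator_character] at htr
  have hω : c = centralChar ρ.character g := by
    unfold centralChar
    rw [character_one, eq_div_iff hd, ← htr, mul_comm]
  rw [hc, hω]

open scoped Classical in
/-- Products of class sums: `ω(a) ω(b) χ(1) = ∑_{x ∼ a, y ∼ b} χ(x y)`. -/
theorem central_mul_central (ρ : Representation ℂ G V) (hρ : ρ.IsIrreducible) (a b : G) :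
    centralChar ρ.character a * centralChar ρ.character b * ρ.character 1 =
      ∑ x : G, ∑ y : G, (if IsConj x a then (1 : ℂ) else 0) * (if IsConj y b then (1 : ℂ) else 0) *
        ρ.character (x * y) := by
  have h1 := congrArg (LinearMap.trace ℂ V)
    (show classOp ρ (fun x : G => if IsConj x a then (1 : ℂ) else 0) * classOp ρ (fun x : G => if IsConj x b then (1 : ℂ) else 0)
      = (centralChar ρ.character a * centralChar ρ.character b) • LinearMap.id from by
      rw [classOp_indicator ρ hρ, classOp_indicator ρ hρ]
      ext v
      simp [smul_smul, mul_comm])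
  rw [map_smul, LinearMap.trace_id, smul_eq_mul, ← character_one ρ] at h1
  rw [← h1]
  unfold classOp
  rw [Finset.sum_mul, map_sum]
  refine Finset.sum_congr rfl fun x _ => ?_
  rw [Finset.mul_sum, map_sum]
  refine Finset.sum_congr rfl fun y _ => ?_
  simp only [smul_mul_assoc, mul_smul_comm, map_smul, smul_eq_mul]
  rw [← map_mul ρ x y, show ρ.character (x * y) = LinearMap.trace ℂ V (ρ (x * y)) from rfl]
  ring

end
end Cfsg.Agent.Lib.Central
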