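import Cfsg.Agent.Lib.CharGalois
import Cfsg.Agent.Lib.CharKernel

/-!
# The Burnside AM-GM argument on Galois-stable sets
-/

set_option linter.unusedSectionVars false
set_option linter.style.haveILetI false

namespace Cfsg.Agent.Lib.CharAMGM

open scoped ComplexConjugate
open Module Cfsg Cfsg.Agent.Lib.CharCore Cfsg.Agent.Lib.CharBasic Cfsg.Agent.Lib.CharIrr
  Cfsg.Agent.Lib.CharOps Cfsg.Agent.Lib.CharGalois

universe u v w

variable {G : Type u} [Group G] [Fintype G]
variable {V : Type*} [AddCommGroup V] [Module ℂ V] [FiniteDimensional ℂ V]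

/-- The product of non-vanishing character values over a power-closed set has norm at least one. -/
theorem one_le_prod_norm (ρ : Representation ℂ G V) (S : Finset G) (hS0 : ∀ g ∈ S, ρ.character g ≠ 0)
    (hS : ∀ g ∈ S, ∀ m : ℕ, m.Coprime (Nat.card G) → g ^ m ∈ S) :
    1 ≤ ∏ g ∈ S, ‖ρ.character g‖ := by
  classical
  have hn : Nat.card G ≠ 0 := Nat.card_pos.ne'
  let y : cyc (Nat.card G) := ∏ g ∈ S, ⟨ρ.character g, character_mem ρ g⟩
  have hyval : (y : ℂ) = ∏ g ∈ S, ρ.character g := by simp [y]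
  have hfix : ∀ σ : cyc (Nat.card G) →ₐ[ℚ] ℂ, σ y = y.1 := by
    intro σ
    obtain ⟨m, hm, hσ⟩ := exists_coprime hn σ
    have hm' : (Nat.card G).Coprime m := hm.symm
    rw [hyval]
    simp only [y, map_prod]
    simp only [algHom_character ρ _ m σ hσ]
    have hinj : Function.Injective (fun g : G => g ^ m) := fun a b h =>
      (powCoprime hm').injective (by rw [powCoprime_apply, powCoprime_apply]; exact h)
    have himg : S.image (fun g => g ^ m) = S := by
      apply Finset.eq_of_subset_of_card_le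
      · intro x hx
        obtain ⟨g, hg, rfl⟩ := Finset.mem_image.mp hx
        exact hS g hg m hm
      · rw [Finset.card_image_of_injective _ hinj]
    have hbij : ∏ g ∈ S, ρ.character (g ^ m) = ∏ g ∈ S, ρ.character g := by
      conv_rhs => rw [← himg]
      rw [Finset.prod_image (fun a _ b _ h => hinj h)]
    exact hbij
  have hy0 : y.1 ≠ 0 := by
    rw [hyval]
    exact Finset.prod_ne_zero_iff.mpr hS0
  have hyint : IsIntegral ℤ y.1 := by
    rw [hyval]
    exact IsIntegral.prod _ fun g _ => isIntegral_character ρ g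
  have hge := one_le_norm_of_fixed hn y hy0 hyint hfix
  rw [hyval, norm_prod] at hge
  exact hge

/-- The Burnside inequality on a Galois-stable set of non-zeros. -/
theorem card_le_sum_sq (ρ : Representation ℂ G V) (S : Finset G) (hS0 : ∀ g ∈ S, ρ.character g ≠ 0)
    (hS : ∀ g ∈ S, ∀ m : ℕ, m.Coprime (Nat.card G) → g ^ m ∈ S) :
    (S.card : ℝ) ≤ ∑ g ∈ S, ‖ρ.character g‖ ^ 2 := by
  have h1 := one_le_prod_norm ρ S hS0 hS
  have hsq : (1 : ℝ) ≤ ∏ g ∈ S, ‖ρ.character g‖ ^ 2 := by
    rw [Finset.prod_pow]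
    exact one_le_pow₀ h1
  have hle : ∏ g ∈ S, ‖ρ.character g‖ ^ 2 ≤ ∏ g ∈ S, Real.exp (‖ρ.character g‖ ^ 2 - 1) := by
    refine Finset.prod_le_prod (fun g _ => by positivity) fun g _ => ?_
    have := Real.add_one_le_exp (‖ρ.character g‖ ^ 2 - 1)
    linarith
  rw [← Real.exp_sum, Finset.sum_sub_distrib] at hle
  have h2 : (0 : ℝ) ≤ ∑ g ∈ S, ‖ρ.character g‖ ^ 2 - ∑ g ∈ S, (1 : ℝ) := by
    by_contra hneg
    push Not at hneg
    have := Real.exp_lt_exp.mpr hneg
    rw [Real.exp_zero] at this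
    linarith
  simp only [Finset.sum_const, nsmul_eq_mul, mul_one] at h2
  linarith

/-- Equality: all values of norm one. -/
theorem sum_sq_eq_card_imp (ρ : Representation ℂ G V) (S : Finset G) (hS0 : ∀ g ∈ S, ρ.character g ≠ 0)
    (hS : ∀ g ∈ S, ∀ m : ℕ, m.Coprime (Nat.card G) → g ^ m ∈ S)
    (heq : ∑ g ∈ S, ‖ρ.character g‖ ^ 2 = S.card) : ∀ g ∈ S, ‖ρ.character g‖ = 1 := by
  have h1 := one_le_prod_norm ρ S hS0 hS
  have hsq : (1 : ℝ) ≤ ∏ g ∈ S, ‖ρ.character g‖ ^ 2 := by
    rw [Finset.prod_pow]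
    exact one_le_pow₀ h1
  -- strict inequality `x ≤ exp (x - 1)`, with equality iff `x = 1`
  by_contra hcon
  push Not at hcon
  obtain ⟨g₀, hg₀, hne⟩ := hcon
  have hlt : ∏ g ∈ S, ‖ρ.character g‖ ^ 2 < ∏ g ∈ S, Real.exp (‖ρ.character g‖ ^ 2 - 1) := by
    apply Finset.prod_lt_prod
    · intro g hg
      have := hS0 g hg
      positivity
    · intro g _
      have := Real.add_one_le_exp (‖ρ.character g‖ ^ 2 - 1)
      linarith
    · refine ⟨g₀, hg₀, ?_⟩
      have hne2 : ‖ρ.character g₀‖ ^ 2 - 1 ≠ 0 := by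
        intro h
        apply hne
        have h2 : ‖ρ.character g₀‖ ^ 2 = 1 := by linarith
        have h3 : (‖ρ.character g₀‖ - 1) * (‖ρ.character g₀‖ + 1) = 0 := by nlinarith
        rcases mul_eq_zero.mp h3 with h4 | h4
        · linarith
        · have := norm_nonneg (ρ.character g₀)
          linarith
      have := Real.add_one_lt_exp hne2
      linarith
  rw [← Real.exp_sum, Finset.sum_sub_distrib, heq] at hlt
  simp only [Finset.sum_const, nsmul_eq_mul, mul_one, sub_self, Real.exp_zero] at hlt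
  linarith

/-- A coprime power generates. -/
theorem exists_zpow_eq {m : ℕ} (hm : m.Coprime (Nat.card G)) (g : G) : ∃ a : ℤ, (g ^ m) ^ a = g := by
  refine ⟨Nat.gcdA m (Nat.card G), ?_⟩
  have h1 : (1 : ℤ) = m * Nat.gcdA m (Nat.card G) + (Nat.card G : ℤ) * Nat.gcdB m (Nat.card G) := by
    have := Nat.gcd_eq_gcd_ab m (Nat.card G)
    rw [hm] at this
    exact_mod_cast this
  have h2 : g ^ ((1 : ℤ)) = g := zpow_one g
  rw [h1, zpow_add, zpow_mul, zpow_mul, zpow_natCast, zpow_natCast, pow_card_eq_one'] at h2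
  simpa using h2

theorem pow_mem_iff (H : Subgroup G) {m : ℕ} (hm : m.Coprime (Nat.card G)) (g : G) :
    g ^ m ∈ H ↔ g ∈ H := by
  constructor
  · intro h
    obtain ⟨a, ha⟩ := exists_zpow_eq hm g
    rw [← ha]
    exact H.zpow_mem h a
  · intro h
    exact H.pow_mem h m

/-- Non-vanishing is stable under Galois conjugation. -/
theorem character_pow_ne_zero (ρ : Representation ℂ G V) {m : ℕ} (hm : m.Coprime (Nat.card G)) (g : G)
    (h : ρ.character g ≠ 0) : ρ.character (g ^ m) ≠ 0 := by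
  have hn : Nat.card G ≠ 0 := Nat.card_pos.ne'
  obtain ⟨σ, hσ⟩ := exists_algHom hn hm
  rw [← algHom_character ρ g m σ hσ]
  intro h0
  have h1 : (⟨ρ.character g, character_mem ρ g⟩ : cyc (Nat.card G)) = 0 :=
    (map_eq_zero σ).mp h0
  exact h (congrArg Subtype.val h1)

theorem character_pow_ne_zero_iff (ρ : Representation ℂ G V) {m : ℕ} (hm : m.Coprime (Nat.card G)) (g : G) :
    ρ.character (g ^ m) = 0 ↔ ρ.character g = 0 := by
  constructor
  · intro h
    by_contra hne
    exact character_pow_ne_zero ρ hm g hne h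
  · intro h
    by_contra hne
    obtain ⟨a, ha⟩ := exists_zpow_eq hm g
    -- conjugate back: use a natural power
    have hn : Nat.card G ≠ 0 := Nat.card_pos.ne'
    obtain ⟨σ, hσ⟩ := exists_algHom hn hm
    have h3 := algHom_character ρ g m σ hσ
    rw [show (⟨ρ.character g, character_mem ρ g⟩ : cyc (Nat.card G)) = 0 from Subtype.ext h, map_zero] at h3
    exact hne h3.symm

/-- The degree-norm condition is stable under powers. -/
theorem norm_pow_eq_finrank (ρ : Representation ℂ G V) (m : ℕ) (g : G)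
    (h : ‖ρ.character g‖ = (finrank ℂ V : ℝ)) : ‖ρ.character (g ^ m)‖ = (finrank ℂ V : ℝ) := by
  obtain ⟨ω, hω⟩ := (norm_character_eq_iff ρ g).mp h
  apply (norm_character_eq_iff ρ (g ^ m)).mpr
  refine ⟨ω ^ m, ?_⟩
  rw [map_pow, hω]
  induction m with
  | zero => simp; rfl
  | succ k ih =>
    rw [pow_succ, ih, pow_succ]
    ext v
    simp [smul_smul, mul_comm]

theorem norm_pow_eq_finrank_iff (ρ : Representation ℂ G V) {m : ℕ} (hm : m.Coprime (Nat.card G)) (g : G) :
    ‖ρ.character (g ^ m)‖ = (finrank ℂ V : ℝ) ↔ ‖ρ.character g‖ = (finrank ℂ V : ℝ) := by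
  constructor
  · intro h
    obtain ⟨a, ha⟩ := exists_zpow_eq hm g
    -- use the subgroup of elements acting as scalars
    obtain ⟨ω, hω⟩ := (norm_character_eq_iff ρ (g ^ m)).mp h
    have hfin : ∃ n : ℕ, (g ^ m) ^ n = g := by
      refine ⟨(a % (orderOf (g ^ m) : ℤ)).toNat, ?_⟩
      have hpos : (0 : ℤ) < orderOf (g ^ m) := by exact_mod_cast orderOf_pos _
      have h1 : ((a % (orderOf (g ^ m) : ℤ)).toNat : ℤ) = a % (orderOf (g ^ m) : ℤ) :=
        Int.toNat_of_nonneg (Int.emod_nonneg _ hpos.ne')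
      rw [← zpow_natCast, h1, zpow_mod_orderOf, ha]
    obtain ⟨n, hn⟩ := hfin
    rw [← hn]
    exact norm_pow_eq_finrank ρ n _ h
  · exact norm_pow_eq_finrank ρ m g

/-- Positive reals with product at least one and average one are all equal to one. -/
theorem all_eq_one_of_prod {X : Type*} [Fintype X] (a : X → ℝ) (hpos : ∀ x, 0 < a x)
    (hprod : 1 ≤ ∏ x, a x) (hsum : ∑ x, a x = Fintype.card X) (x : X) : a x = 1 := by
  by_contra hne
  have hlt : ∏ x, a x < ∏ x, Real.exp (a x - 1) := by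
    apply Finset.prod_lt_prod
    · intro g _
      exact hpos g
    · intro g _
      have := Real.add_one_le_exp (a g - 1)
      linarith
    · refine ⟨x, Finset.mem_univ _, ?_⟩
      have hne2 : a x - 1 ≠ 0 := fun h => hne (by linarith)
      have := Real.add_one_lt_exp hne2
      linarith
  rw [← Real.exp_sum, Finset.sum_sub_distrib, hsum] at hlt
  simp only [Finset.sum_const, Finset.card_univ, nsmul_eq_mul, mul_one, sub_self, Real.exp_zero] at hlt
  linarith

end Cfsg.Agent.Lib.CharAMGM
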