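import Mathlib

/-! Two involutions and the dihedral group they generate. -/

set_option autoImplicit false

namespace Cfsg.Agent.Lib.InvPair

variable {G : Type*} [Group G]

open scoped Pointwise

lemma orderOf_conj_eq (g u : G) : orderOf (g * u * g⁻¹) = orderOf u := by
  have := MulEquiv.orderOf_eq (MulAut.conj g) u
  simpa using this

lemma mul_self_of_order {x : G} (hx : orderOf x = 2) : x * x = 1 := by
  rw [← pow_two, ← hx]
  exact pow_orderOf_eq_one x

lemma inv_of_order {x : G} (hx : orderOf x = 2) : x⁻¹ = x :=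
  inv_eq_of_mul_eq_one_left (mul_self_of_order hx)

/-- `x` inverts `x y`. -/
lemma x_mul_zpow {x y : G} (hx : x * x = 1) (hy : y * y = 1) (k : ℤ) :
    x * (x * y) ^ k = (x * y) ^ (-k) * x := by
  have hxi : x⁻¹ = x := inv_eq_of_mul_eq_one_left hx
  have hyi : y⁻¹ = y := inv_eq_of_mul_eq_one_left hy
  have h1 : x * (x * y) * x⁻¹ = (x * y)⁻¹ := by
    rw [mul_inv_rev, hxi, hyi, ← mul_assoc, hx, one_mul]
  have h2 : x * (x * y) ^ k * x⁻¹ = (x * y) ^ (-k) := by
    rw [← conj_zpow, h1, inv_zpow, zpow_neg]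
  calc x * (x * y) ^ k = (x * (x * y) ^ k * x⁻¹) * x := by group
    _ = (x * y) ^ (-k) * x := by rw [h2]

lemma y_eq {x y : G} (hx : x * x = 1) (hy : y * y = 1) : y = (x * y) ^ (-1 : ℤ) * x := by
  have hxi : x⁻¹ = x := inv_eq_of_mul_eq_one_left hx
  have hyi : y⁻¹ = y := inv_eq_of_mul_eq_one_left hy
  rw [zpow_neg_one, mul_inv_rev, hxi, hyi, mul_assoc, hx, mul_one]

lemma mul_mem_closure (x y : G) : x * y ∈ Subgroup.closure ({x, y} : Set G) :=
  mul_mem (Subgroup.subset_closure (by simp)) (Subgroup.subset_closure (by simp))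

lemma x_mem_closure (x y : G) : x ∈ Subgroup.closure ({x, y} : Set G) :=
  Subgroup.subset_closure (by simp)

/-- Elements of `⟨x, y⟩`. -/
lemma closure_cases {x y : G} (hx : x * x = 1) (hy : y * y = 1) {d : G}
    (hd : d ∈ Subgroup.closure ({x, y} : Set G)) :
    (∃ k : ℤ, d = (x * y) ^ k) ∨ (∃ k : ℤ, d = (x * y) ^ k * x) := by
  have hxi : x⁻¹ = x := inv_eq_of_mul_eq_one_left hx
  have hyi : y⁻¹ = y := inv_eq_of_mul_eq_one_left hy
  have hstep : ∀ u ∈ ({x, y} : Set G), ∀ v, ((∃ k : ℤ, v = (x * y) ^ k) ∨ (∃ k : ℤ, v = (x * y) ^ k * x)) →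
      ((∃ k : ℤ, u * v = (x * y) ^ k) ∨ (∃ k : ℤ, u * v = (x * y) ^ k * x)) := by
    intro u hu v hv
    have hyx : y = (x * y) ^ (-1 : ℤ) * x := y_eq hx hy
    rcases hu with rfl | hu
    · rcases hv with ⟨k, rfl⟩ | ⟨k, rfl⟩
      · exact Or.inr ⟨-k, x_mul_zpow hx hy k⟩
      · left
        refine ⟨-k, ?_⟩
        rw [← mul_assoc, x_mul_zpow hx hy k, mul_assoc, hx, mul_one]
    · rw [Set.mem_singleton_iff] at hu
      subst hu
      rcases hv with ⟨k, rfl⟩ | ⟨k, rfl⟩
      · right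
        refine ⟨-1 - k, ?_⟩
        nth_rewrite 1 [hyx]
        rw [mul_assoc, x_mul_zpow hx hy k, ← mul_assoc, ← zpow_add]
        congr 2
      · left
        refine ⟨-1 - k, ?_⟩
        nth_rewrite 1 [hyx]
        rw [mul_assoc, ← mul_assoc x, x_mul_zpow hx hy k, mul_assoc, hx, mul_one, ← zpow_add]
        congr 1
  induction hd using Subgroup.closure_induction_left with
  | one => exact Or.inl ⟨0, by simp⟩
  | mul_left u hu v _ ih => exact hstep u hu v ih
  | inv_mul_cancel u hu v _ ih =>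
    have : u⁻¹ = u := by
      rcases hu with rfl | hu
      · exact hxi
      · rw [Set.mem_singleton_iff] at hu
        subst hu
        exact hyi
    rw [this]
    exact hstep u hu v ih

/-- Every element of `⟨x, y⟩` conjugates `x` to an element of the form `(xy)^(2k) x`, and every
such form arises. -/
lemma conj_form {x y : G} (hx : x * x = 1) (hy : y * y = 1) {d : G}
    (hd : d ∈ Subgroup.closure ({x, y} : Set G)) :
    ∃ k : ℤ, d * x * d⁻¹ = (x * y) ^ (2 * k) * x := by
  have hxi : x⁻¹ = x := inv_eq_of_mul_eq_one_left hx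
  have h1 : ∀ k : ℤ, (x * y) ^ k * x * ((x * y) ^ k)⁻¹ = (x * y) ^ (2 * k) * x := by
    intro k
    have h2 := x_mul_zpow hx hy (-k)
    rw [neg_neg] at h2
    rw [← zpow_neg, mul_assoc, h2, ← mul_assoc, ← zpow_add, two_mul]
  rcases closure_cases hx hy hd with ⟨k, rfl⟩ | ⟨k, rfl⟩
  · exact ⟨k, h1 k⟩
  · refine ⟨k, ?_⟩
    rw [← h1 k, mul_inv_rev, hxi]
    have : (x * y) ^ k * x * x * (x * ((x * y) ^ k)⁻¹) = (x * y) ^ k * (x * x) * (x * ((x * y) ^ k)⁻¹) := by
      group
    rw [this, hx, mul_one, mul_assoc]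

lemma conj_zpow_form {x y : G} (hx : x * x = 1) (hy : y * y = 1) (k : ℤ) :
    (x * y) ^ k * x * ((x * y) ^ k)⁻¹ = (x * y) ^ (2 * k) * x := by
  have h2 := x_mul_zpow hx hy (-k)
  rw [neg_neg] at h2
  rw [← zpow_neg, mul_assoc, h2, ← mul_assoc, ← zpow_add, two_mul]

lemma card_subtype_succ {α : Type*} [Finite α] {Q : α → Prop} {a : α} (ha : Q a) :
    Nat.card {t // Q t ∧ t ≠ a} + 1 = Nat.card {t // Q t} := by
  classical
  have e1 : {t // Q t ∧ t ≠ a} ≃ {b : {t // Q t} // b ≠ ⟨a, ha⟩} :=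
    { toFun := fun t => ⟨⟨t.1, t.2.1⟩, fun h => t.2.2 (congrArg Subtype.val h)⟩
      invFun := fun b => ⟨b.1.1, b.1.2, fun h => b.2 (Subtype.ext h)⟩
      left_inv := fun t => rfl
      right_inv := fun b => rfl }
  rw [Nat.card_congr e1, ← Finite.card_option, Nat.card_congr (Equiv.optionSubtypeNe _)]

/-- The pairs of involutions with product `x` inject into the inverters of `x`. -/
lemma inverts_of_pair {u v x : G} (hu : orderOf u = 2) (hv : orderOf v = 2) (e : u * v = x) :
    u * x * u⁻¹ = x⁻¹ := by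
  have hu2 := mul_self_of_order hu
  rw [← e, inv_of_order hu, mul_inv_rev, inv_of_order hu, inv_of_order hv]
  calc u * (u * v) * u = (u * u) * v * u := by group
    _ = v * u := by rw [hu2, one_mul]

/-- Commuting involutions lie in a common Sylow `2`-subgroup. -/
lemma exists_sylow_of_commute [Finite G] {u z : G} (hu : orderOf u = 2) (hz : orderOf z = 2)
    (hc : Commute u z) : ∃ Q : Sylow 2 G, u ∈ Q ∧ z ∈ Q := by
  haveI : Fact (Nat.Prime 2) := ⟨Nat.prime_two⟩
  have h1 : IsPGroup 2 (Subgroup.zpowers u) := by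
    apply IsPGroup.of_card (n := 1)
    rw [Nat.card_zpowers, hu, pow_one]
  have h2 : IsPGroup 2 (Subgroup.zpowers z) := by
    apply IsPGroup.of_card (n := 1)
    rw [Nat.card_zpowers, hz, pow_one]
  have h3 : Subgroup.zpowers u ≤ Subgroup.normalizer ((Subgroup.zpowers z : Subgroup G) : Set G) := by
    rw [Subgroup.zpowers_le, Subgroup.mem_normalizer_iff]
    intro h
    have hall : ∀ y ∈ Subgroup.zpowers z, u * y * u⁻¹ = y := by
      rintro _ ⟨k, rfl⟩
      have : Commute u (z ^ k) := hc.zpow_right k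
      simp only
      rw [this.eq, mul_inv_cancel_right]
    constructor
    · intro hh
      rw [hall h hh]
      exact hh
    · intro hh
      have hui : u⁻¹ = u := inv_of_order hu
      have hall2 : u * (u * h * u⁻¹) * u⁻¹ = h := by
        rw [hui]
        have e : u * (u * h * u) * u = (u * u) * h * (u * u) := by group
        rw [e, mul_self_of_order hu, one_mul, mul_one]
      rw [hall _ hh] at hall2
      rw [← hall2]
      exact hh
  have h4 := IsPGroup.to_sup_of_normal_right' h1 h2 h3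
  obtain ⟨Q, hQ⟩ := h4.exists_le_sylow
  refine ⟨Q, hQ ?_, hQ ?_⟩
  · exact (le_sup_left : Subgroup.zpowers u ≤ _) (Subgroup.mem_zpowers u)
  · exact (le_sup_right : Subgroup.zpowers z ≤ _) (Subgroup.mem_zpowers z)

/-- An isolated involution of a Sylow `2`-subgroup: conjugates commuting with it are itself. -/
lemma isolated_conj_eq [Finite G] (P : Sylow 2 G) {u : G} (hu : orderOf u = 2) (huP : u ∈ P)
    (hiso : ∀ g : G, g * u * g⁻¹ ∈ P → g * u * g⁻¹ = u) {z g : G} (hz : orderOf z = 2)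
    (hc : Commute u z) (he : g * u * g⁻¹ = u * z) : False := by
  haveI : Fact (Nat.Prime 2) := ⟨Nat.prime_two⟩
  obtain ⟨Q, hQu, hQz⟩ := exists_sylow_of_commute hu hz hc
  obtain ⟨h, rfl⟩ := MulAction.exists_smul_eq G P Q
  have hmem : ∀ y : G, y ∈ (h • P : Sylow 2 G) → h⁻¹ * y * h ∈ P := by
    intro y hy
    have h5 : y ∈ MulAut.conj h • (P : Subgroup G) := by
      rw [Sylow.smul_def] at hy
      exact hy
    rw [Subgroup.mem_pointwise_smul_iff_inv_smul_mem, MulAut.smul_def, ← map_inv,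
      MulAut.conj_apply, inv_inv] at h5
    exact h5
  have h1 := hiso h⁻¹ (by simpa using hmem u hQu)
  have h2 : h⁻¹ * (u * z) * h ∈ P := hmem _ (mul_mem hQu hQz)
  have h3 : (h⁻¹ * g) * u * (h⁻¹ * g)⁻¹ = h⁻¹ * (u * z) * h := by
    rw [← he]; group
  have h4 := hiso (h⁻¹ * g) (by rw [h3]; exact h2)
  rw [h3] at h4
  have h5 : h⁻¹ * u * h⁻¹⁻¹ = h⁻¹ * (u * z) * h := by
    rw [h1, h4]
  rw [inv_inv] at h5
  have h6 : u = u * z := by
    have := congrArg (fun w => h * w * h⁻¹) h5
    simpa [mul_assoc] using this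
  have h7 : z = 1 := by
    have : u * z = u * 1 := by rw [mul_one]; exact h6.symm
    exact mul_left_cancel this
  rw [h7, orderOf_one] at hz
  omega

end Cfsg.Agent.Lib.InvPair
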