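import Mathlib
import Cfsg.Agent.Lib.InvPair
import Cfsg.Agent.Lib.SylowCount

/-! Groups with a Klein four Sylow 2-subgroup: the classes of involutions. -/

set_option autoImplicit false

namespace Cfsg.Agent.Lib.KleinSylow

open Cfsg.Agent.Lib.InvPair

variable {G : Type*} [Group G] [Finite G] (P : Sylow 2 G) [hK : IsKleinFour (P : Subgroup G)]

lemma comm' (a b : (P : Subgroup G)) : a * b = b * a :=
  (IsKleinFour.isMulCommutative (G := (P : Subgroup G))).is_comm.comm a b

lemma exists_pair : ∃ x y : (P : Subgroup G), x ≠ 1 ∧ y ≠ 1 ∧ x ≠ y := by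
  classical
  haveI := Fintype.ofFinite (P : Subgroup G)
  have h4 : Fintype.card (P : Subgroup G) = 4 := IsKleinFour.card_four'
  obtain ⟨x, hx⟩ : ∃ x : (P : Subgroup G), x ≠ 1 := by
    apply Fintype.exists_ne_of_one_lt_card
    omega
  obtain ⟨y, hy⟩ : ∃ y : (P : Subgroup G), y ∉ ({1, x} : Finset (P : Subgroup G)) := by
    by_contra hcon
    push Not at hcon
    have h5 : Finset.univ ⊆ ({1, x} : Finset (P : Subgroup G)) := fun z _ => hcon z
    have h6 := Finset.card_le_card h5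
    rw [Finset.card_univ, h4] at h6
    have h7 : ({1, x} : Finset (P : Subgroup G)).card ≤ 2 := Finset.card_le_two
    omega
  simp only [Finset.mem_insert, Finset.mem_singleton, not_or] at hy
  exact ⟨x, y, hx, hy.1, fun h => hy.2 h.symm⟩

lemma fusion {a b : (P : Subgroup G)} (h : IsConj a.1 b.1) :
    ∃ n ∈ Subgroup.normalizer ((P : Subgroup G) : Set G), n * a.1 * n⁻¹ = b.1 := by
  obtain ⟨g, hg⟩ := isConj_iff.1 h
  have hcen : ∀ c : (P : Subgroup G), c.1 ∈ Subgroup.centralizer ((P : Subgroup G) : Set G) := by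
    intro c
    rw [Subgroup.mem_centralizer_iff]
    intro h hh
    exact congrArg Subtype.val (comm' P ⟨h, hh⟩ c)
  have h1 : g⁻¹⁻¹ * a.1 * g⁻¹ ∈ Subgroup.centralizer ((P : Subgroup G) : Set G) := by
    rw [inv_inv, hg]
    exact hcen b
  obtain ⟨n, hn, e⟩ := Sylow.conj_eq_normalizer_conj_of_mem_centralizer P a.1 g⁻¹ (hcen a) h1
  refine ⟨n⁻¹, inv_mem hn, ?_⟩
  rw [inv_inv] at e ⊢
  rw [← e, hg]

lemma mem_of_normalizes {u : G} (hu : u ∈ Subgroup.normalizer ((P : Subgroup G) : Set G))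
    {e : ℕ} (he : u ^ 2 ^ e = 1) : u ∈ (P : Subgroup G) := by
  haveI : Fact (Nat.Prime 2) := ⟨Nat.prime_two⟩
  have hz : IsPGroup 2 (Subgroup.zpowers u) := by
    obtain ⟨k, -, hk⟩ := (Nat.dvd_prime_pow Nat.prime_two).1 (orderOf_dvd_of_pow_eq_one he)
    apply IsPGroup.of_card (n := k)
    rw [Nat.card_zpowers, hk]
  have hle : Subgroup.zpowers u ≤ Subgroup.normalizer ((P : Subgroup G) : Set G) := by
    rw [Subgroup.zpowers_le]
    exact hu
  have hmax := P.is_maximal' (IsPGroup.to_sup_of_normal_left' P.2 hz hle) le_sup_left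
  rw [← hmax]
  exact (le_sup_right : Subgroup.zpowers u ≤ _) (Subgroup.mem_zpowers u)

lemma no_swap {n : G} (hn : n ∈ Subgroup.normalizer ((P : Subgroup G) : Set G))
    {a b : (P : Subgroup G)} (hab : a ≠ b) (h1 : n * a.1 * n⁻¹ = b.1) (h2 : n * b.1 * n⁻¹ = a.1) :
    False := by
  obtain ⟨e, m, hm, hoe⟩ := Nat.exists_eq_two_pow_mul_odd (orderOf_pos n).ne'
  obtain ⟨r, rfl⟩ := hm
  have hsq : Commute (n * n) a.1 := by
    have h3 : n * n * a.1 * (n * n)⁻¹ = a.1 := by
      calc n * n * a.1 * (n * n)⁻¹ = n * (n * a.1 * n⁻¹) * n⁻¹ := by group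
        _ = a.1 := by rw [h1, h2]
    exact mul_inv_eq_iff_eq_mul.1 h3
  set u := n ^ (2 * r + 1) with hu
  have hua : u * a.1 * u⁻¹ = b.1 := by
    have h4 : u = n * (n * n) ^ r := by
      rw [hu, pow_succ', pow_mul, pow_two]
    rw [h4]
    have h5 := hsq.pow_left r
    calc n * (n * n) ^ r * a.1 * (n * (n * n) ^ r)⁻¹
        = n * ((n * n) ^ r * a.1 * ((n * n) ^ r)⁻¹) * n⁻¹ := by group
      _ = n * a.1 * n⁻¹ := by rw [h5.eq, mul_inv_cancel_right]
      _ = b.1 := h1
  have huN : u ∈ Subgroup.normalizer ((P : Subgroup G) : Set G) := pow_mem hn _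
  have hu2 : u ^ 2 ^ e = 1 := by
    rw [hu, ← pow_mul, mul_comm, ← hoe, pow_orderOf_eq_one]
  have huP := mem_of_normalizes P huN hu2
  have hc : u * a.1 = a.1 * u := congrArg Subtype.val (comm' P ⟨u, huP⟩ a)
  rw [hc, mul_inv_cancel_right] at hua
  exact hab (Subtype.ext hua)

lemma conj_third {x y : (P : Subgroup G)} (hx : x ≠ 1) (hy : y ≠ 1) (hxy : x ≠ y)
    (h : IsConj x.1 y.1) : IsConj y.1 (x * y).1 := by
  obtain ⟨n, hn, e⟩ := fusion P h
  have hmem : n * y.1 * n⁻¹ ∈ (P : Subgroup G) := (Subgroup.mem_normalizer_iff.1 hn y.1).1 y.2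
  let z : (P : Subgroup G) := ⟨n * y.1 * n⁻¹, hmem⟩
  have hz1 : z ≠ 1 := by
    intro h0
    have h1 : n * y.1 * n⁻¹ = 1 := congrArg Subtype.val h0
    have h2 : y.1 = 1 := by
      have : y.1 = n⁻¹ * (n * y.1 * n⁻¹) * n := by group
      rw [this, h1]
      group
    exact hy (Subtype.ext h2)
  have hzx : z ≠ x := by
    intro h0
    have h1 : n * y.1 * n⁻¹ = x.1 := congrArg Subtype.val h0
    exact no_swap P hn hxy e h1
  have hzy : z ≠ y := by
    intro h0
    have h1 : n * y.1 * n⁻¹ = y.1 := congrArg Subtype.val h0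
    apply hxy
    apply Subtype.ext
    have h2 : n * x.1 * n⁻¹ = n * y.1 * n⁻¹ := by rw [e, h1]
    exact mul_left_cancel (mul_right_cancel h2)
  have hz := IsKleinFour.eq_mul_of_ne_all hx hy hxy hz1 hzx hzy
  refine isConj_iff.2 ⟨n, ?_⟩
  exact congrArg Subtype.val hz

/-- Every involution is conjugate into `P`. -/
lemma exists_conj_mem {t : G} (ht : orderOf t = 2) : ∃ g : G, g * t * g⁻¹ ∈ (P : Subgroup G) := by
  obtain ⟨Q, hQ, -⟩ := exists_sylow_of_commute ht ht (Commute.refl t)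
  obtain ⟨h, rfl⟩ := MulAction.exists_smul_eq G P Q
  refine ⟨h⁻¹, ?_⟩
  have := (Cfsg.Agent.Lib.SylowCount.mem_smul_sylow h t P).1 hQ
  simpa using this

lemma orderOf_of_ne_one {x : (P : Subgroup G)} (hx : x ≠ 1) : orderOf x.1 = 2 := by
  apply orderOf_eq_prime
  · rw [pow_two]
    exact congrArg Subtype.val (IsKleinFour.mul_self x)
  · exact fun h => hx (Subtype.ext h)

theorem classes_eq {x y : (P : Subgroup G)} (hx : x ≠ 1) (hy : y ≠ 1) (hxy : x ≠ y) :
    {C : ConjClasses G | ∃ t : G, orderOf t = 2 ∧ ConjClasses.mk t = C} =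
      {ConjClasses.mk x.1, ConjClasses.mk y.1, ConjClasses.mk (x * y).1} := by
  have hw : x * y ≠ 1 := by
    intro h
    apply hxy
    have h2 : x * x = 1 := IsKleinFour.mul_self x
    exact mul_left_cancel (h2.trans h.symm)
  ext C
  simp only [Set.mem_setOf_eq, Set.mem_insert_iff, Set.mem_singleton_iff]
  constructor
  · rintro ⟨t, ht, rfl⟩
    obtain ⟨g, hg⟩ := exists_conj_mem P ht
    let u : (P : Subgroup G) := ⟨g * t * g⁻¹, hg⟩
    have hmk : ConjClasses.mk t = ConjClasses.mk u.1 :=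
      ConjClasses.mk_eq_mk_iff_isConj.2 (isConj_iff.2 ⟨g, rfl⟩)
    rw [hmk]
    have hu1 : u ≠ 1 := by
      intro h0
      have h1 : g * t * g⁻¹ = 1 := congrArg Subtype.val h0
      have h2 : t = 1 := by
        have : t = g⁻¹ * (g * t * g⁻¹) * g := by group
        rw [this, h1]
        group
      rw [h2, orderOf_one] at ht
      omega
    by_cases h1 : u = x
    · left; rw [h1]
    by_cases h2 : u = y
    · right; left; rw [h2]
    · right; right
      rw [IsKleinFour.eq_mul_of_ne_all hx hy hxy hu1 h1 h2]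
  · rintro (rfl | rfl | rfl)
    · exact ⟨_, orderOf_of_ne_one P hx, rfl⟩
    · exact ⟨_, orderOf_of_ne_one P hy, rfl⟩
    · exact ⟨_, orderOf_of_ne_one P hw, rfl⟩

theorem card_cases {x y : (P : Subgroup G)} (hx : x ≠ 1) (hy : y ≠ 1) (hxy : x ≠ y) :
    (ConjClasses.mk x.1 ≠ ConjClasses.mk y.1 ∧ ConjClasses.mk x.1 ≠ ConjClasses.mk (x * y).1 ∧
      ConjClasses.mk y.1 ≠ ConjClasses.mk (x * y).1 ∧
      Nat.card {C : ConjClasses G // ∃ t : G, orderOf t = 2 ∧ ConjClasses.mk t = C} = 3) ∨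
    Nat.card {C : ConjClasses G // ∃ t : G, orderOf t = 2 ∧ ConjClasses.mk t = C} = 1 := by
  classical
  have hcl := classes_eq P hx hy hxy
  have hcard : Nat.card {C : ConjClasses G // ∃ t : G, orderOf t = 2 ∧ ConjClasses.mk t = C} =
      ({ConjClasses.mk x.1, ConjClasses.mk y.1, ConjClasses.mk (x * y).1} : Set (ConjClasses G)).ncard := by
    rw [← hcl, ← Nat.card_coe_set_eq]
    rfl
  have hxx : x * x = 1 := IsKleinFour.mul_self x
  have hyy : y * y = 1 := IsKleinFour.mul_self y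
  have hw : x * y ≠ 1 := by
    intro h
    apply hxy
    exact mul_left_cancel (hxx.trans h.symm)
  have hxw : x ≠ x * y := by
    intro h
    apply hy
    have : x * 1 = x * y := by rw [mul_one]; exact h
    exact (mul_left_cancel this).symm
  have hyw : y ≠ x * y := by
    intro h
    apply hx
    have : 1 * y = x * y := by rw [one_mul]; exact h
    exact (mul_right_cancel this).symm
  have hone : ∀ a b c : ConjClasses G, a = b → a = c → ({a, b, c} : Set (ConjClasses G)).ncard = 1 := by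
    rintro a _ _ rfl rfl
    simp
  by_cases h1 : ConjClasses.mk x.1 = ConjClasses.mk y.1
  · right
    have h2 : IsConj x.1 y.1 := ConjClasses.mk_eq_mk_iff_isConj.1 h1
    have h3 := conj_third P hx hy hxy h2
    rw [hcard]
    exact hone _ _ _ h1 (h1.trans (ConjClasses.mk_eq_mk_iff_isConj.2 h3))
  by_cases h2 : ConjClasses.mk x.1 = ConjClasses.mk (x * y).1
  · right
    have h3 : IsConj x.1 (x * y).1 := ConjClasses.mk_eq_mk_iff_isConj.1 h2
    have h4 := conj_third P hx hw hxw h3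
    have e : x * (x * y) = y := by rw [← mul_assoc, hxx, one_mul]
    rw [e] at h4
    rw [hcard]
    have h5 : ConjClasses.mk x.1 = ConjClasses.mk y.1 := h2.trans (ConjClasses.mk_eq_mk_iff_isConj.2 h4)
    exact hone _ _ _ h5 h2
  by_cases h3 : ConjClasses.mk y.1 = ConjClasses.mk (x * y).1
  · right
    have h4 : IsConj y.1 (x * y).1 := ConjClasses.mk_eq_mk_iff_isConj.1 h3
    have h5 := conj_third P hy hw hyw h4
    have e : y * (x * y) = x := by
      rw [comm' P x y, ← mul_assoc, hyy, one_mul]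
    rw [e] at h5
    rw [hcard]
    have h6 : ConjClasses.mk x.1 = ConjClasses.mk y.1 :=
      (h3.trans (ConjClasses.mk_eq_mk_iff_isConj.2 h5)).symm
    exact hone _ _ _ h6 (h6.trans h3)
  · left
    refine ⟨h1, h2, h3, ?_⟩
    rw [hcard]
    rw [Set.ncard_insert_of_notMem, Set.ncard_pair h3]
    simp only [Set.mem_insert_iff, Set.mem_singleton_iff, not_or]
    exact ⟨h1, h2⟩

end Cfsg.Agent.Lib.KleinSylow
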