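import Mathlib
import Cfsg.Prelude.Def_Blocks
import Cfsg.Agent.Lib.CharBlockSection
import Cfsg.Agent.Lib.KleinSylow
import Cfsg.Agent.Lib.PNilpB
import Cfsg.Agent.Lib.SolvCore
import Cfsg.Agent.Lib.CharDecomp
import Cfsg.Agent.Lib.SylowCount

/-!
# The principal `2`-block of a group with a Klein four Sylow `2`-subgroup and one class of involutions
-/

set_option autoImplicit false
set_option linter.style.haveILetI false
set_option linter.unusedSectionVars false

namespace Cfsg.Agent.Lib.CharBlockKlein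

open scoped ComplexConjugate
open Module Cfsg Cfsg.Agent.Lib.CharBlockLocal Cfsg.Agent.Lib.CharBlockConv Cfsg.Agent.Lib.CharBlockRot
  Cfsg.Agent.Lib.CharBlockOrth Cfsg.Agent.Lib.CharOps Cfsg.Agent.Lib.CharIrr
  Cfsg.Agent.Lib.CharBlockDefect Cfsg.Agent.Lib.CharBlockMinMax Cfsg.Agent.Lib.CharBlockBrauer
  Cfsg.Agent.Lib.CharBlockInd Cfsg.Agent.Lib.CharBlockDom Cfsg.Agent.Lib.CharBlockKer
  Cfsg.Agent.Lib.CharBlockSecond Cfsg.Agent.Lib.CharBlockThird Cfsg.Agent.Lib.CharBlockSylow Cfsg.Agent.Lib.CharBlockRank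
  Cfsg.Agent.Lib.CharBlockSection

universe u

/-- A group with a normal `p`-complement has `O_{p'}` of `p`-power index. -/
theorem exists_index_core {H : Type u} [Group H] [Finite H] (p : ℕ) [hp : Fact p.Prime] (h : HasNormalPComplement p H) :
    ∃ k : ℕ, (pPrimeCore p H).index = p ^ k := by
  obtain ⟨S, N, hN, hc⟩ := h
  have h1 : (S : Subgroup H).index = Nat.card N := hc.index_eq_card
  have hNp : ¬ p ∣ Nat.card N := by
    rw [← h1]
    exact S.not_dvd_index
  have hle : N ≤ pPrimeCore p H := Cfsg.Agent.Lib.SolvCore.le_pPrimeCore N hN hNp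
  have h2 : (pPrimeCore p H).index ∣ N.index := Subgroup.index_dvd_of_le hle
  have h3 : N.index = Nat.card S := hc.symm.index_eq_card
  have h4 : Nat.card S = p ^ (Nat.card H).factorization p := Sylow.card_eq_multiplicity S
  rw [h3, h4] at h2
  obtain ⟨k, -, hk⟩ := (Nat.dvd_prime_pow hp.out).1 h2
  exact ⟨k, hk⟩

variable {G : Type u} [Group G] [Fintype G] {M : Ideal AlgInt}

section
variable (P : Sylow 2 G) [hK : IsKleinFour (P : Subgroup G)]

/-- `2`-elements square to the identity. -/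
theorem two_element_sq (P : Sylow 2 G) [hK : IsKleinFour (P : Subgroup G)] {u : G} {k : ℕ} (hu : orderOf u = 2 ^ k) : u * u = 1 := by
  haveI : Fact (Nat.Prime 2) := ⟨Nat.prime_two⟩
  have h1 : IsPGroup 2 (Subgroup.zpowers u) := IsPGroup.of_card (n := k) (by rw [Nat.card_zpowers, hu])
  obtain ⟨Q, hQ⟩ := IsPGroup.exists_le_sylow h1
  obtain ⟨h, rfl⟩ := MulAction.exists_smul_eq G P Q
  have hm : u ∈ (h • P : Sylow 2 G) := hQ (Subgroup.mem_zpowers u)
  have h2 := (Cfsg.Agent.Lib.SylowCount.mem_smul_sylow h u P).1 hm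
  have h3 : (⟨h⁻¹ * u * h, h2⟩ : (P : Subgroup G)) * ⟨h⁻¹ * u * h, h2⟩ = 1 := IsKleinFour.mul_self _
  have h4 : h⁻¹ * u * h * (h⁻¹ * u * h) = 1 := congrArg Subtype.val h3
  have h5 : u * u = h * (h⁻¹ * u * h * (h⁻¹ * u * h)) * h⁻¹ := by group
  rw [h5, h4]
  group

/-- `P` lies in the centralizer of any of its elements. -/
theorem sylow_le_centralizer {z : G} (hz : z ∈ (P : Subgroup G)) : (P : Subgroup G) ≤ Subgroup.centralizer ({z} : Set G) := by
  intro a ha
  rw [Subgroup.mem_centralizer_singleton_iff]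
  exact congrArg Subtype.val (Cfsg.Agent.Lib.KleinSylow.comm' P ⟨a, ha⟩ ⟨z, hz⟩)

/-- The centralizer of an involution in a Klein four Sylow has a normal `2`-complement. -/
theorem npc_centralizer {z : G} (hz : z ∈ (P : Subgroup G)) (hzo : orderOf z = 2) :
    HasNormalPComplement 2 (Subgroup.centralizer ({z} : Set G)) := by
  classical
  haveI : Fact (Nat.Prime 2) := ⟨Nat.prime_two⟩
  set C := Subgroup.centralizer ({z} : Set G) with hC
  have hPC := sylow_le_centralizer P hz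
  set D := (P : Subgroup G).subgroupOf C with hD
  have hDp : IsPGroup 2 D := P.isPGroup'.of_equiv (Subgroup.subgroupOfEquivOfLe hPC).symm
  have hidx : ¬ 2 ∣ D.index := by
    intro h
    apply P.not_dvd_index
    have h1 : (P : Subgroup G).relIndex C * C.index = (P : Subgroup G).index := Subgroup.relIndex_mul_index hPC
    rw [← h1]
    exact Dvd.dvd.mul_right h _
  refine Cfsg.Agent.Lib.PNilpB.npc_of_normalizer_le (hDp.toSylow hidx) ?_
  intro x hx
  rw [Subgroup.mem_centralizer_iff]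
  rintro ⟨a, haC⟩ ha
  have ha' : a ∈ (P : Subgroup G) := by
    have : (⟨a, haC⟩ : C) ∈ D := ha
    exact Subgroup.mem_subgroupOf.1 this
  have hx' : (x : G) ∈ Subgroup.normalizer ((P : Subgroup G) : Set G) := by
    rw [Subgroup.mem_normalizer_iff]
    intro y
    constructor
    · intro hy
      have hyC : y ∈ C := hPC hy
      have h1 : (⟨y, hyC⟩ : C) ∈ (hDp.toSylow hidx : Subgroup C) := Subgroup.mem_subgroupOf.2 hy
      have h2 := (Subgroup.mem_normalizer_iff.1 hx (⟨y, hyC⟩ : C)).1 h1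
      exact Subgroup.mem_subgroupOf.1 h2
    · intro hy
      have hyC : y ∈ C := by
        have h1 : (x : G) * y * (x : G)⁻¹ ∈ C := hPC hy
        have h2 : y = (x : G)⁻¹ * ((x : G) * y * (x : G)⁻¹) * (x : G) := by group
        rw [h2]
        exact C.mul_mem (C.mul_mem (C.inv_mem x.2) h1) x.2
      have h1 : (x * ⟨y, hyC⟩ * x⁻¹ : C) ∈ (hDp.toSylow hidx : Subgroup C) := Subgroup.mem_subgroupOf.2 hy
      have h2 := (Subgroup.mem_normalizer_iff.1 hx (⟨y, hyC⟩ : C)).2 h1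
      exact Subgroup.mem_subgroupOf.1 h2
  have hxz : (x : G) * z = z * x := Subgroup.mem_centralizer_singleton_iff.1 x.2
  have hxz' : (x : G) * z * (x : G)⁻¹ = z := by rw [hxz]; group
  -- it suffices to show `x` commutes with `a`
  suffices h : (x : G) * a * (x : G)⁻¹ = a by
    apply Subtype.ext
    show a * x = x * a
    rw [mul_inv_eq_iff_eq_mul] at h
    exact h.symm
  by_cases ha1 : a = 1
  · rw [ha1]; group
  by_cases haz : a = z
  · rw [haz]; exact hxz'
  -- the three non-identity elements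
  let a' : (P : Subgroup G) := ⟨a, ha'⟩
  let z' : (P : Subgroup G) := ⟨z, hz⟩
  have hxa : (x : G) * a * (x : G)⁻¹ ∈ (P : Subgroup G) := (Subgroup.mem_normalizer_iff.1 hx' a).1 ha'
  let w : (P : Subgroup G) := ⟨(x : G) * a * (x : G)⁻¹, hxa⟩
  have ha'1 : a' ≠ 1 := fun h => ha1 (congrArg Subtype.val h)
  have hz'1 : z' ≠ 1 := by
    intro h
    have h2 : z = 1 := congrArg Subtype.val h
    rw [h2, orderOf_one] at hzo
    omega
  have ha'z' : a' ≠ z' := fun h => haz (congrArg Subtype.val h)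
  have hw1 : w ≠ 1 := by
    intro h
    have h2 : (x : G) * a * (x : G)⁻¹ = 1 := congrArg Subtype.val h
    apply ha1
    have h3 : a = (x : G)⁻¹ * ((x : G) * a * (x : G)⁻¹) * (x : G) := by group
    rw [h3, h2]; group
  have hwz : w ≠ z' := by
    intro h
    have h2 : (x : G) * a * (x : G)⁻¹ = z := congrArg Subtype.val h
    apply haz
    have h3 : (x : G) * a * (x : G)⁻¹ = (x : G) * z * (x : G)⁻¹ := by rw [h2, hxz']
    exact mul_left_cancel (mul_right_cancel h3)
  by_contra hne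
  have hwa : w ≠ a' := fun h => hne (congrArg Subtype.val h)
  have hw := IsKleinFour.eq_mul_of_ne_all ha'1 hz'1 ha'z' hw1 hwa hwz
  -- `w = a z`, so `x` swaps `a` and `a z`
  have hw' : (x : G) * a * (x : G)⁻¹ = a * z := congrArg Subtype.val hw
  have hzz : z * z = 1 := by
    rw [← pow_two, ← hzo]; exact pow_orderOf_eq_one z
  have h2 : (x : G) * (a * z) * (x : G)⁻¹ = a := by
    calc (x : G) * (a * z) * (x : G)⁻¹ = ((x : G) * a * (x : G)⁻¹) * ((x : G) * z * (x : G)⁻¹) := by group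
      _ = a * z * z := by rw [hw', hxz']
      _ = a := by rw [mul_assoc, hzz, mul_one]
  have hne' : a' ≠ a' * z' := by
    intro h
    apply hz'1
    have := mul_left_cancel (a := a') (b := 1) (c := z') (by rw [mul_one]; exact h)
    exact this.symm
  exact Cfsg.Agent.Lib.KleinSylow.no_swap P hx' hne' hw' h2

end

/-- Character values at involutions: integrality and congruence with the degree. -/
theorem exists_nat_sum (K : Subgroup G) [Fintype K] (χ : IrrCharacter G) (z : G) (hK : ∀ k ∈ K, k ≠ 1 → IsConj k z) :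
    ∃ m : ℕ, (χ : G → ℂ) 1 + ((Nat.card K : ℂ) - 1) * (χ : G → ℂ) z = (Nat.card K : ℂ) * m := by
  classical
  obtain ⟨m, hm⟩ := Cfsg.Agent.Lib.CharDecomp.exists_nat_classInner
    (isCharacter_restrict K (IsIrrCharacter.isCharacter' χ.2)) (Cfsg.Agent.Lib.CharBlockThird.triv K)
  refine ⟨m, ?_⟩
  have hK0 : (Nat.card K : ℂ) ≠ 0 := by exact_mod_cast Nat.card_pos.ne'
  rw [← hm]
  unfold classInner
  rw [mul_inv_cancel_left₀ hK0]
  simp only [Cfsg.Agent.Lib.CharBlockThird.triv, map_one, mul_one]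
  rw [← Finset.add_sum_erase Finset.univ _ (Finset.mem_univ (1 : K))]
  have hcl : IsClassFunction G (χ : G → ℂ) := IsCharacter.isClassFunction' (IsIrrCharacter.isCharacter' χ.2)
  have h1 : ∀ k ∈ Finset.univ.erase (1 : K), (χ : G → ℂ) (k : G) = (χ : G → ℂ) z := by
    intro k hk
    have hk1 : (k : G) ≠ 1 := by
      intro h
      exact (Finset.mem_erase.1 hk).1 (Subtype.ext h)
    exact classFun_eq_of_isConj hcl (hK k k.2 hk1)
  rw [Finset.sum_congr rfl h1, Finset.sum_const, Finset.card_erase_of_mem (Finset.mem_univ _), Finset.card_univ, nsmul_eq_mul]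
  have hpos : 1 ≤ Fintype.card K := Fintype.card_pos
  rw [Nat.cast_sub hpos, Nat.card_eq_fintype_card]
  simp

/-- Character values at involutions of `G`. -/
theorem exists_int_value (P : Sylow 2 G) [hK : IsKleinFour (P : Subgroup G)] (χ : IrrCharacter G) (z : G) (hzo : orderOf z = 2)
    (hone : ∀ s t : G, orderOf s = 2 → orderOf t = 2 → IsConj s t) (hzP : z ∈ (P : Subgroup G)) :
    ∃ a : ℤ, (χ : G → ℂ) z = a ∧ (4 : ℤ) ∣ (charDegree (χ : G → ℂ) : ℤ) - a := by
  classical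
  have hd := charDegree_cast (IsIrrCharacter.isCharacter' χ.2)
  -- the subgroup `⟨z⟩`
  letI : Fintype (Subgroup.zpowers z) := Fintype.ofFinite _
  letI : Fintype (P : Subgroup G) := Fintype.ofFinite _
  have hsq : z * z = 1 := by
    rw [← pow_two, ← hzo]; exact pow_orderOf_eq_one z
  have h1 : ∀ k ∈ Subgroup.zpowers z, k ≠ 1 → IsConj k z := by
    intro k hk hk1
    obtain ⟨n, rfl⟩ := Subgroup.mem_zpowers_iff.1 hk
    obtain ⟨r, hr | hr⟩ := Int.even_or_odd' n
    · exfalso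
      apply hk1
      rw [hr, zpow_mul, zpow_two, hsq, one_zpow]
    · have : z ^ n = z := by
        rw [hr, zpow_add, zpow_mul, zpow_two, hsq, one_zpow, one_mul, zpow_one]
      rw [this]
  have h2 : ∀ k ∈ (P : Subgroup G), k ≠ 1 → IsConj k z := by
    intro k hk hk1
    refine hone k z ?_ hzo
    apply orderOf_eq_prime
    · rw [pow_two]
      exact congrArg Subtype.val (IsKleinFour.mul_self (⟨k, hk⟩ : (P : Subgroup G)))
    · exact hk1
  obtain ⟨m₂, hm₂⟩ := exists_nat_sum (Subgroup.zpowers z) χ z h1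
  obtain ⟨m₄, hm₄⟩ := exists_nat_sum (P : Subgroup G) χ z h2
  have hc2 : Nat.card (Subgroup.zpowers z) = 2 := by rw [Nat.card_zpowers, hzo]
  have hc4 : Nat.card (P : Subgroup G) = 4 := IsKleinFour.card_four
  rw [hc2] at hm₂
  rw [hc4] at hm₄
  push_cast at hm₂ hm₄
  rw [← hd] at hm₂ hm₄
  set d := charDegree (χ : G → ℂ)
  refine ⟨2 * m₂ - d, ?_, ⟨m₄ - (2 * m₂ - d), ?_⟩⟩
  · push_cast
    linear_combination hm₂
  · -- `d + 3 a = 4 m₄` with `a = 2 m₂ - d`
    have h3 : (d : ℂ) + 3 * (χ : G → ℂ) z = 4 * m₄ := by linear_combination hm₄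
    have h4 : (χ : G → ℂ) z = ((2 * m₂ - d : ℤ) : ℂ) := by
      push_cast
      linear_combination hm₂
    rw [h4] at h3
    have h5 : ((d : ℤ) + 3 * (2 * m₂ - d) : ℤ) = 4 * m₄ := by
      have : (((d : ℤ) + 3 * (2 * m₂ - d) : ℤ) : ℂ) = ((4 * m₄ : ℤ) : ℂ) := by
        push_cast at h3 ⊢
        exact h3
      exact_mod_cast this
    linarith

/-- A `p`-regular element lies in `O_{p'}` when `O_{p'}` has `p`-power index. -/
theorem regular_mem_core {H : Type u} [Group H] [Finite H] {p : ℕ} (hp : p.Prime) (hnc : ∃ k : ℕ, (pPrimeCore p H).index = p ^ k) {y : H}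
    (hy : ¬ p ∣ orderOf y) : y ∈ pPrimeCore p H := by
  obtain ⟨k, hk⟩ := hnc
  haveI hNn : (pPrimeCore p H).Normal := Cfsg.Agent.Lib.FitCore.pPrimeCore_normal p
  have h1 : y ^ (p ^ k) ∈ pPrimeCore p H := by
    rw [← hk]
    exact Subgroup.pow_index_mem _ y
  have hcop : Nat.Coprime (p ^ k) (orderOf y) :=
    Nat.Coprime.pow_left _ ((Nat.Prime.coprime_iff_not_dvd hp).2 hy)
  obtain ⟨m, hm⟩ := exists_pow_eq_self_of_coprime hcop
  rw [← hm]
  exact Subgroup.pow_mem _ h1 _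

/-- Characters of the principal block do not vanish on involutions. -/
theorem principal_ne_zero (hM : IsPModular 2 M) (P : Sylow 2 G) [hK : IsKleinFour (P : Subgroup G)]
    (hone : ∀ s t : G, orderOf s = 2 → orderOf t = 2 → IsConj s t) {z : G} (hzP : z ∈ (P : Subgroup G)) (hzo : orderOf z = 2)
    {χ : IrrCharacter G} (hχ : χ ∈ principalBlock M G) : (χ : G → ℂ) z ≠ 0 := by
  classical
  haveI : Fact (Nat.Prime 2) := ⟨Nat.prime_two⟩
  intro h0
  have hcl : IsClassFunction G (χ : G → ℂ) := IsCharacter.isClassFunction' (IsIrrCharacter.isCharacter' χ.2)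
  have hnc := exists_index_core 2 (npc_centralizer P hzP hzo)
  have hvan : ∀ x : G, 2 ∣ orderOf x → (χ : G → ℂ) x = 0 := by
    intro x hx
    obtain ⟨u, hu⟩ := exists_pPart hM.1 x
    obtain ⟨v, huv, hc, ⟨k, hk⟩, hv⟩ := id hu
    have hu1 : u ≠ 1 := by
      intro h
      rw [h, one_mul] at huv
      rw [huv] at hv
      exact hv hx
    have huo : orderOf u = 2 := by
      apply orderOf_eq_prime
      · rw [pow_two]; exact two_element_sq P hk
      · exact hu1
    obtain ⟨g, hg⟩ := isConj_iff.1 (hone u z huo hzo)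
    have h1 : g * x * g⁻¹ = z * (g * v * g⁻¹) := by
      rw [← huv, ← hg]; group
    have hvC : g * v * g⁻¹ ∈ Subgroup.centralizer ({z} : Set G) := by
      rw [Subgroup.mem_centralizer_singleton_iff, ← hg]
      have hc' : v * u = u * v := hc.symm
      calc g * v * g⁻¹ * (g * u * g⁻¹) = g * (v * u) * g⁻¹ := by group
        _ = g * (u * v) * g⁻¹ := by rw [hc']
        _ = g * u * g⁻¹ * (g * v * g⁻¹) := by group
    have hvo : ¬ 2 ∣ orderOf (⟨g * v * g⁻¹, hvC⟩ : Subgroup.centralizer ({z} : Set G)) := by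
      rw [← Subgroup.orderOf_coe]
      show ¬ 2 ∣ orderOf (g * v * g⁻¹)
      rw [orderOf_conj']
      exact hv
    have hcore := regular_mem_core Nat.prime_two hnc hvo
    have hmem : g * v * g⁻¹ ∈ centralizerPPrimeCore 2 z := ⟨_, hcore, rfl⟩
    have h2 := section_principal_const hM ⟨1, by rw [hzo, pow_one]⟩ hmem hχ
    have h3 := hcl x g
    rw [h1] at h3
    rw [← h3, h2, h0]
  have hval := pow_dvd_degree_of_vanish (p := 2) inferInstance χ hvan
  have hdvd := charDegree_dvd_card χ.2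
  have hd0 := charDegree_ne_zero χ.2
  have hnd : ¬ 2 ∣ Nat.card G / charDegree (χ : G → ℂ) := by
    intro h
    have h3 : Nat.card G / charDegree (χ : G → ℂ) ≠ 0 := by
      intro h4
      have := Nat.div_eq_zero_iff.1 h4
      rcases this with h5 | h5
      · exact hd0 h5
      · have := Nat.le_of_dvd Nat.card_pos hdvd
        omega
    have h4 := (Nat.Prime.dvd_iff_one_le_factorization Nat.prime_two h3).1 h
    rw [Nat.factorization_div hdvd] at h4
    simp only [Finsupp.coe_tsub, Pi.sub_apply] at h4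
    omega
  have hsing := (defect_zero_iff hM χ).1 hnd
  have hB : principalBlock M G = blockOf M (χ : G → ℂ) := blockOf_eq_of_mem hM (principal_isPBlock M) hχ
  have h5 : triv G ∈ blockOf M (χ : G → ℂ) := hB ▸ triv_mem_principal hM
  rw [hsing] at h5
  have h6 : triv G = χ := h5
  rw [← h6] at h0
  simp [triv] at h0

/-- **Brauer**: the principal `2`-block of a group with a Klein four Sylow `2`-subgroup and one class of involutions. -/
theorem klein_principal (hM : IsPModular 2 M) (P : Sylow 2 G) [hK : IsKleinFour (P : Subgroup G)]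
    (hone : ∀ s t : G, orderOf s = 2 → orderOf t = 2 → IsConj s t) :
    ∃ ζ₂ ζ₃ ζ₄ : IrrCharacter G, ∃ ε : ℤ, (ε = 1 ∨ ε = -1) ∧ (ζ₂ : G → ℂ) ≠ (fun _ => 1) ∧ (ζ₃ : G → ℂ) ≠ (fun _ => 1) ∧ ζ₂ ≠ ζ₃ ∧ ζ₂ ≠ ζ₄ ∧ ζ₃ ≠ ζ₄ ∧
      principalBlock M G = {χ : IrrCharacter G | (χ : G → ℂ) = (fun _ => 1) ∨ χ = ζ₂ ∨ χ = ζ₃ ∨ χ = ζ₄} ∧
      (∀ z : G, orderOf z = 2 → (ζ₂ : G → ℂ) z = 1 ∧ (ζ₃ : G → ℂ) z = (ε : ℂ) ∧ (ζ₄ : G → ℂ) z = -1) ∧
      (4 : ℤ) ∣ (charDegree (ζ₂ : G → ℂ) : ℤ) - 1 ∧ (4 : ℤ) ∣ (charDegree (ζ₃ : G → ℂ) : ℤ) - ε ∧ (4 : ℤ) ∣ (charDegree (ζ₄ : G → ℂ) : ℤ) + 1 ∧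
      ∀ y : G, Odd (orderOf y) → 1 + (ζ₂ : G → ℂ) y + (ε : ℂ) * (ζ₃ : G → ℂ) y - (ζ₄ : G → ℂ) y = 0 := by
  classical
  haveI : Fact (Nat.Prime 2) := ⟨Nat.prime_two⟩
  -- an involution in `P`
  obtain ⟨x₀, y₀, hx₀, -, -⟩ := Cfsg.Agent.Lib.KleinSylow.exists_pair P
  set z : G := (x₀ : G) with hzdef
  have hzP : z ∈ (P : Subgroup G) := x₀.2
  have hzo : orderOf z = 2 := Cfsg.Agent.Lib.KleinSylow.orderOf_of_ne_one P hx₀
  have hz2 : ∃ k : ℕ, orderOf z = 2 ^ k := ⟨1, by rw [hzo, pow_one]⟩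
  -- integer values
  have hint := fun χ : IrrCharacter G => exists_int_value P χ z hzo hone hzP
  choose a ha had using hint
  let S : Finset (IrrCharacter G) := Finset.univ.filter (· ∈ principalBlock M G)
  have hS : ∀ χ, χ ∈ S ↔ χ ∈ principalBlock M G := by intro χ; simp [S]
  have ha0 : ∀ χ ∈ S, a χ ≠ 0 := by
    intro χ hχ h0
    apply principal_ne_zero hM P hone hzP hzo ((hS χ).1 hχ)
    rw [ha, h0]; simp
  have hatriv : a (triv G) = 1 := by
    have h1 := ha (triv G)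
    have h2 : ((triv G : IrrCharacter G) : G → ℂ) z = 1 := rfl
    rw [h2] at h1
    exact_mod_cast h1.symm
  have htS : triv G ∈ S := (hS _).2 (triv_mem_principal hM)
  -- the sum of squares
  letI : Fintype (Subgroup.centralizer ({z} : Set G)) := Fintype.ofFinite _
  have hsum : ∑ χ ∈ S, (a χ) ^ 2 = 4 := by
    have h1 := sum_principal_section hM hz2 (1 : Subgroup.centralizer ({z} : Set G)) (by simp)
    have hnc := exists_index_core 2 (npc_centralizer P hzP hzo)
    have h2 := sum_principal_complement hM hnc (1 : Subgroup.centralizer ({z} : Set G)) (by simp)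
    rw [h2] at h1
    have hPC := sylow_le_centralizer P hzP
    have hval : (Nat.card (Subgroup.centralizer ({z} : Set G))).factorization 2 = 2 := by
      set C := Subgroup.centralizer ({z} : Set G) with hC
      have h3 : Nat.card ((P : Subgroup G).subgroupOf C) = 4 := by
        rw [Nat.card_congr (Subgroup.subgroupOfEquivOfLe hPC).toEquiv]
        exact IsKleinFour.card_four
      have h4 : Nat.card ((P : Subgroup G).subgroupOf C) * ((P : Subgroup G).subgroupOf C).index = Nat.card C :=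
        Subgroup.card_mul_index _
      have hidx : ¬ 2 ∣ ((P : Subgroup G).subgroupOf C).index := by
        intro h
        apply P.not_dvd_index
        have h1 : (P : Subgroup G).relIndex C * C.index = (P : Subgroup G).index := Subgroup.relIndex_mul_index hPC
        rw [← h1]
        exact Dvd.dvd.mul_right h _
      have hne : ((P : Subgroup G).subgroupOf C).index ≠ 0 := Subgroup.index_ne_zero_of_finite
      rw [← h4, h3, Nat.factorization_mul (by norm_num) hne]
      have h5 : (4 : ℕ) = 2 ^ 2 := by norm_num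
      simp only [Finsupp.coe_add, Pi.add_apply, Nat.factorization_eq_zero_of_not_dvd hidx, add_zero]
      rw [h5, Nat.factorization_pow]
      simp [Nat.prime_two.factorization_self]
    rw [hval, finsum_mem_eq_sum_ite] at h1
    have h3 : ∑ χ : IrrCharacter G, (if χ ∈ principalBlock M G then (χ : G → ℂ) (z * ((1 : Subgroup.centralizer ({z} : Set G)) : G)) * conj ((χ : G → ℂ) (z * ((1 : Subgroup.centralizer ({z} : Set G)) : G))) else 0) =
        ((∑ χ ∈ S, (a χ) ^ 2 : ℤ) : ℂ) := by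
      push_cast
      rw [Finset.sum_filter]
      refine Finset.sum_congr rfl fun χ _ => ?_
      split_ifs
      · simp only [mul_one]
        rw [ha]
        simp [pow_two]
      · rfl
    rw [h3] at h1
    have h4 : ((∑ χ ∈ S, (a χ) ^ 2 : ℤ) : ℂ) = ((4 : ℤ) : ℂ) := by
      rw [h1]; norm_num
    exact_mod_cast h4
  -- each value is a sign
  have hsq1 : ∀ χ ∈ S, (a χ) ^ 2 = 1 := by
    intro χ hχ
    by_cases hχt : χ = triv G
    · rw [hχt, hatriv]; norm_num
    · have h1 : (a (triv G)) ^ 2 + (a χ) ^ 2 ≤ ∑ ψ ∈ S, (a ψ) ^ 2 := by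
        have hsub : ({triv G, χ} : Finset (IrrCharacter G)) ⊆ S := by
          intro ψ hψ
          simp only [Finset.mem_insert, Finset.mem_singleton] at hψ
          rcases hψ with rfl | rfl
          · exact htS
          · exact hχ
        have := Finset.sum_le_sum_of_subset_of_nonneg (f := fun ψ => (a ψ) ^ 2) hsub (fun _ _ _ => sq_nonneg _)
        rwa [Finset.sum_pair (Ne.symm hχt)] at this
      rw [hsum, hatriv] at h1
      have h2 : (a χ) ^ 2 ≤ 3 := by linarith
      have h3 : a χ ≠ 0 := ha0 χ hχ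
      have h4 : -1 ≤ a χ ∧ a χ ≤ 1 := by
        constructor <;> nlinarith
      have h5 : a χ = -1 ∨ a χ = 1 := by
        obtain ⟨h6, h7⟩ := h4
        omega
      rcases h5 with h5 | h5 <;> rw [h5] <;> norm_num
  have hsign : ∀ χ ∈ S, a χ = 1 ∨ a χ = -1 := by
    intro χ hχ
    have h1 := hsq1 χ hχ
    have h2 : (a χ - 1) * (a χ + 1) = 0 := by
      ring_nf
      linarith
    rcases mul_eq_zero.1 h2 with h3 | h3
    · left; linarith
    · right; linarith
  have hcardS : S.card = 4 := by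
    have h1 : ∑ χ ∈ S, (a χ) ^ 2 = ∑ χ ∈ S, (1 : ℤ) := Finset.sum_congr rfl hsq1
    rw [hsum] at h1
    simp only [Finset.sum_const, nsmul_eq_mul, mul_one] at h1
    exact_mod_cast h1.symm
  -- weak orthogonality
  have hA : BlockClosed M (principalBlock M G) := blockClosed_of_isPBlock hM (principal_isPBlock M)
  have h2z : 2 ∣ orderOf z := by rw [hzo]
  have hW : ∀ x : G, ¬ 2 ∣ orderOf x → ∑ χ ∈ S, (χ : G → ℂ) x * (a χ : ℂ) = 0 := by
    intro x hx
    have h1 := weak_orthogonality hM hA hx h2z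
    rw [finsum_mem_eq_sum_ite] at h1
    have h2 : ∑ χ ∈ S, (χ : G → ℂ) x * (a χ : ℂ) = ∑ χ : IrrCharacter G, if χ ∈ principalBlock M G then (χ : G → ℂ) x * conj ((χ : G → ℂ) z) else 0 := by
      rw [Finset.sum_filter]
      refine Finset.sum_congr rfl fun χ _ => ?_
      split_ifs
      · rw [ha]
        simp
      · rfl
    rw [h2]
    exact h1
  have hdpos : ∀ χ : IrrCharacter G, (1 : ℤ) ≤ (charDegree (χ : G → ℂ) : ℤ) := by
    intro χ
    have := charDegree_ne_zero χ.2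
    have : 1 ≤ charDegree (χ : G → ℂ) := Nat.pos_of_ne_zero this
    exact_mod_cast this
  have hdt : charDegree ((triv G : IrrCharacter G) : G → ℂ) = 1 := by
    have h1 := charDegree_cast (IsIrrCharacter.isCharacter' (triv G).2)
    have h2 : ((triv G : IrrCharacter G) : G → ℂ) 1 = 1 := rfl
    rw [h2] at h1
    exact_mod_cast h1
  have hW1 : ∑ χ ∈ S, (charDegree (χ : G → ℂ) : ℤ) * a χ = 0 := by
    have h1 := hW 1 (by simp)
    have h2 : ((∑ χ ∈ S, (charDegree (χ : G → ℂ) : ℤ) * a χ : ℤ) : ℂ) = 0 := by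
      rw [← h1]
      push_cast
      refine Finset.sum_congr rfl fun χ _ => ?_
      rw [charDegree_cast (IsIrrCharacter.isCharacter' χ.2)]
    exact_mod_cast h2
  let T : Finset (IrrCharacter G) := S.erase (triv G)
  have hTS : S = insert (triv G) T := (Finset.insert_erase htS).symm
  have htT : triv G ∉ T := Finset.notMem_erase _ _
  have hcardT : T.card = 3 := by
    rw [Finset.card_erase_of_mem htS, hcardS]
  -- the final assembly
  have key : ∀ (ζ₂ ζ₃ ζ₄ : IrrCharacter G) (ε : ℤ), (ε = 1 ∨ ε = -1) → ζ₂ ≠ ζ₃ → ζ₂ ≠ ζ₄ → ζ₃ ≠ ζ₄ →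
      T = {ζ₂, ζ₃, ζ₄} → a ζ₂ = 1 → a ζ₃ = ε → a ζ₄ = -1 →
      ∃ ζ₂ ζ₃ ζ₄ : IrrCharacter G, ∃ ε : ℤ, (ε = 1 ∨ ε = -1) ∧ (ζ₂ : G → ℂ) ≠ (fun _ => 1) ∧ (ζ₃ : G → ℂ) ≠ (fun _ => 1) ∧ ζ₂ ≠ ζ₃ ∧ ζ₂ ≠ ζ₄ ∧ ζ₃ ≠ ζ₄ ∧
      principalBlock M G = {χ : IrrCharacter G | (χ : G → ℂ) = (fun _ => 1) ∨ χ = ζ₂ ∨ χ = ζ₃ ∨ χ = ζ₄} ∧
      (∀ z : G, orderOf z = 2 → (ζ₂ : G → ℂ) z = 1 ∧ (ζ₃ : G → ℂ) z = (ε : ℂ) ∧ (ζ₄ : G → ℂ) z = -1) ∧
      (4 : ℤ) ∣ (charDegree (ζ₂ : G → ℂ) : ℤ) - 1 ∧ (4 : ℤ) ∣ (charDegree (ζ₃ : G → ℂ) : ℤ) - ε ∧ (4 : ℤ) ∣ (charDegree (ζ₄ : G → ℂ) : ℤ) + 1 ∧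
      ∀ y : G, Odd (orderOf y) → 1 + (ζ₂ : G → ℂ) y + (ε : ℂ) * (ζ₃ : G → ℂ) y - (ζ₄ : G → ℂ) y = 0 := by
    intro ζ₂ ζ₃ ζ₄ ε hε h23 h24 h34 hT h2 h3 h4
    have hm2 : ζ₂ ∈ T := by rw [hT]; simp
    have hm3 : ζ₃ ∈ T := by rw [hT]; simp
    have hm4 : ζ₄ ∈ T := by rw [hT]; simp
    have hne : ∀ χ ∈ T, (χ : G → ℂ) ≠ (fun _ => 1) := by
      intro χ hχ h
      exact (Finset.mem_erase.1 hχ).1 (Subtype.ext h)
    refine ⟨ζ₂, ζ₃, ζ₄, ε, hε, hne _ hm2, hne _ hm3, h23, h24, h34, ?_, ?_, ?_, ?_, ?_, ?_⟩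
    · ext χ
      rw [← hS, hTS, hT]
      simp only [Finset.mem_insert, Finset.mem_singleton, Set.mem_ofPred_eq]
      constructor
      · rintro (h | h | h | h)
        · left; rw [h]; rfl
        · right; left; exact h
        · right; right; left; exact h
        · right; right; right; exact h
      · rintro (h | h | h | h)
        · left; exact Subtype.ext h
        · right; left; exact h
        · right; right; left; exact h
        · right; right; right; exact h
    · intro w hw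
      have hc := hone w z hw hzo
      have hcl : ∀ χ : IrrCharacter G, (χ : G → ℂ) w = a χ := by
        intro χ
        rw [← ha]
        exact classFun_eq_of_isConj (IsCharacter.isClassFunction' (IsIrrCharacter.isCharacter' χ.2)) hc
      rw [hcl, hcl, hcl, h2, h3, h4]
      simp
    · have := had ζ₂
      rwa [h2] at this
    · have := had ζ₃
      rwa [h3] at this
    · have := had ζ₄
      rw [h4] at this
      simpa using this
    · intro y hy
      have hy' : ¬ 2 ∣ orderOf y := by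
        intro h
        exact (Nat.not_even_iff_odd.2 hy) (even_iff_two_dvd.2 h)
      have h1 := hW y hy'
      rw [hTS, Finset.sum_insert htT, hT, Finset.sum_insert (by simp [h23, h24]), Finset.sum_pair h34, h2, h3, h4, hatriv] at h1
      have h5 : ((triv G : IrrCharacter G) : G → ℂ) y = 1 := rfl
      rw [h5] at h1
      push_cast at h1
      linear_combination h1
  -- the sign analysis
  let A : Finset (IrrCharacter G) := T.filter (fun χ => a χ = 1)
  let B : Finset (IrrCharacter G) := T.filter (fun χ => ¬ a χ = 1)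
  have hcardAB : A.card + B.card = 3 := by
    rw [← hcardT]
    exact Finset.card_filter_add_card_filter_not _
  have hAa : ∀ χ ∈ A, a χ = 1 := fun χ hχ => (Finset.mem_filter.1 hχ).2
  have hBa : ∀ χ ∈ B, a χ = -1 := by
    intro χ hχ
    obtain ⟨h1, h2⟩ := Finset.mem_filter.1 hχ
    exact (hsign χ (Finset.mem_of_mem_erase h1)).resolve_left h2
  have hAT : ∀ χ ∈ A, χ ∈ T := fun χ hχ => (Finset.mem_filter.1 hχ).1
  have hBT : ∀ χ ∈ B, χ ∈ T := fun χ hχ => (Finset.mem_filter.1 hχ).1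
  have hdeg : 1 + ∑ χ ∈ A, (charDegree (χ : G → ℂ) : ℤ) - ∑ χ ∈ B, (charDegree (χ : G → ℂ) : ℤ) = 0 := by
    have h1 := hW1
    rw [hTS, Finset.sum_insert htT, hatriv, hdt, ← Finset.sum_filter_add_sum_filter_not T (fun χ => a χ = 1)] at h1
    have h2 : ∑ χ ∈ T.filter (fun χ => a χ = 1), (charDegree (χ : G → ℂ) : ℤ) * a χ = ∑ χ ∈ A, (charDegree (χ : G → ℂ) : ℤ) :=
      Finset.sum_congr rfl fun χ hχ => by rw [hAa χ hχ, mul_one]
    have h3 : ∑ χ ∈ T.filter (fun χ => ¬ a χ = 1), (charDegree (χ : G → ℂ) : ℤ) * a χ = - ∑ χ ∈ B, (charDegree (χ : G → ℂ) : ℤ) := by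
      rw [← Finset.sum_neg_distrib]
      exact Finset.sum_congr rfl fun χ hχ => by rw [hBa χ hχ]; ring
    rw [h2, h3] at h1
    push_cast at h1
    linarith
  have hAsum : 0 ≤ ∑ χ ∈ A, (charDegree (χ : G → ℂ) : ℤ) := Finset.sum_nonneg fun χ _ => by positivity
  have hBsum : (B.card : ℤ) ≤ ∑ χ ∈ B, (charDegree (χ : G → ℂ) : ℤ) := by
    have := Finset.card_nsmul_le_sum B (fun χ => (charDegree (χ : G → ℂ) : ℤ)) 1 (fun χ _ => hdpos χ)
    simpa using this
  have hAU : T = A ∪ B := (Finset.filter_union_filter_not_eq (fun χ => a χ = 1) T).symm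
  have hBne : B.card ≠ 0 := by
    intro h
    have h1 : B = ∅ := Finset.card_eq_zero.1 h
    rw [h1] at hdeg
    simp only [Finset.sum_empty] at hdeg
    linarith
  have hB3 : B.card ≠ 3 := by
    intro h
    have h1 : A.card = 0 := by omega
    have h2 : A = ∅ := Finset.card_eq_zero.1 h1
    rw [h2] at hdeg
    simp only [Finset.sum_empty] at hdeg
    rw [h] at hBsum
    push_cast at hBsum
    linarith
  have hcases : B.card = 1 ∨ B.card = 2 := by omega
  rcases hcases with hB1 | hB2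
  · have hA2 : A.card = 2 := by omega
    obtain ⟨ζ₄, hζ₄⟩ := Finset.card_eq_one.1 hB1
    obtain ⟨ζ₂, ζ₃, h23, hζ⟩ := Finset.card_eq_two.1 hA2
    have hm2 : ζ₂ ∈ A := by rw [hζ]; simp
    have hm3 : ζ₃ ∈ A := by rw [hζ]; simp
    have hm4 : ζ₄ ∈ B := by rw [hζ₄]; simp
    have hne : ∀ χ ∈ A, χ ≠ ζ₄ := by
      intro χ hχ h
      have h1 := hAa χ hχ
      have h2 := hBa ζ₄ hm4
      rw [h] at h1
      omega
    refine key ζ₂ ζ₃ ζ₄ 1 (Or.inl rfl) h23 (hne _ hm2) (hne _ hm3) ?_ (hAa _ hm2) (hAa _ hm3) (hBa _ hm4)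
    rw [hAU, hζ, hζ₄]
    ext χ
    simp only [Finset.mem_union, Finset.mem_insert, Finset.mem_singleton]
    tauto
  · have hA1 : A.card = 1 := by omega
    obtain ⟨ζ₂, hζ₂⟩ := Finset.card_eq_one.1 hA1
    obtain ⟨ζ₃, ζ₄, h34, hζ⟩ := Finset.card_eq_two.1 hB2
    have hm2 : ζ₂ ∈ A := by rw [hζ₂]; simp
    have hm3 : ζ₃ ∈ B := by rw [hζ]; simp
    have hm4 : ζ₄ ∈ B := by rw [hζ]; simp
    have hne : ∀ χ ∈ B, ζ₂ ≠ χ := by
      intro χ hχ h
      have h1 := hBa χ hχ
      have h2 := hAa ζ₂ hm2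
      rw [h] at h2
      omega
    refine key ζ₂ ζ₃ ζ₄ (-1) (Or.inr rfl) (hne _ hm3) (hne _ hm4) h34 ?_ (hAa _ hm2) (hBa _ hm3) (hBa _ hm4)
    rw [hAU, hζ₂, hζ]
    ext χ
    simp only [Finset.mem_union, Finset.mem_insert, Finset.mem_singleton]

end Cfsg.Agent.Lib.CharBlockKlein
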