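import Mathlib
import Cfsg.Agent.Lib.CompsLocal
import Cfsg.Agent.Lib.CharP
import Cfsg.Agent.Lib.Commutators
import Cfsg.Agent.Lib.H2Basic

/-! Characteristic 2 along chains of 2-subgroups. -/

set_option autoImplicit false
set_option linter.all false

namespace Cfsg.Agent.Lib.CharChain

open Subgroup Cfsg Cfsg.Agent.Lib

/-- characteristic `2`. -/
abbrev Ch (H : Type*) [Group H] : Prop := centralizer (pCore 2 H : Set H) ≤ pCore 2 H

instance : Fact (Nat.Prime 2) := ⟨Nat.prime_two⟩

/-- A normal subgroup of characteristic `2` and `2`-power index. -/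
theorem ch_of_normal_pow {W : Type*} [Group W] [Finite W] (D : Subgroup W) [D.Normal]
    (hD : Ch D) (h : ∀ w : W, ∃ k : ℕ, w ^ (2 ^ k) ∈ D) : Ch W := by
  haveI := FitCore.pCore_normal (G := W) 2
  have hN : (centralizer (pCore 2 W : Set W)).Normal := inferInstance
  refine FitCore.le_pCore 2 _ hN ?_
  intro e
  obtain ⟨k, hk⟩ := h (e : W)
  have hm : (e : W) ^ (2 ^ k) ∈ centralizer (pCore 2 W : Set W) := pow_mem e.2 _
  have he' : (⟨(e : W) ^ (2 ^ k), hk⟩ : D) ∈ centralizer (pCore 2 D : Set D) := by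
    rw [mem_centralizer_iff]
    intro c hc
    apply Subtype.ext
    have hc' : (c : W) ∈ pCore 2 W := CharP.map_pCore_le_pCore D ⟨c, hc, rfl⟩
    exact mem_centralizer_iff.1 hm _ hc'
  have h2 := hD he'
  obtain ⟨j, hj⟩ := FitCore.pCore_isPGroup 2 (⟨_, h2⟩ : pCore 2 D)
  refine ⟨k + j, ?_⟩
  apply Subtype.ext
  have hj' := congrArg (fun x : pCore 2 D => ((x : D) : W)) hj
  simp only [SubgroupClass.coe_pow, OneMemClass.coe_one] at hj' ⊢
  rw [pow_add, pow_mul]
  exact hj'

/-- `Ch N(P) → Ch C(P)`. -/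
theorem ch_centralizer_of_normalizer {G : Type*} [Group G] [Finite G] (P : Subgroup G)
    (h : Ch (normalizer (P : Set G))) : Ch (centralizer (P : Set G)) := by
  haveI := CompsLocal.centralizer_subgroupOf_normal P
  have h3 := CharP.char_of_normal h ((centralizer (P : Set G)).subgroupOf (normalizer (P : Set G)))
  exact PCore.centralizer_pCore_le_of_equiv
    (Subgroup.subgroupOfEquivOfLe (centralizer_le_normalizer _)) h3

/-- `Ch X → Ch C_X(P)`. -/
theorem ch_centralizer {X : Type*} [Group X] [Finite X] (hX : Ch X) (P : Subgroup X)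
    (hP : IsPGroup 2 P) : Ch (centralizer (P : Set X)) :=
  ch_centralizer_of_normalizer P (CompsLocal.char_normalizer hX P hP)

/-- centralizers computed in an overgroup -/
theorem ch_centralizer_in {G : Type*} [Group G] [Finite G] (W P : Subgroup G) (hW : Ch W)
    (hPW : P ≤ W) (hP : IsPGroup 2 P) (hC : centralizer (P : Set G) ≤ W) :
    Ch (centralizer (P : Set G)) := by
  have h1 := ch_centralizer hW (P.subgroupOf W)
    (hP.comap_of_injective W.subtype W.subtype_injective)
  have hmap : (centralizer ((P.subgroupOf W : Subgroup W) : Set W)).map W.subtype =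
      centralizer (P : Set G) := by
    ext x
    constructor
    · rintro ⟨y, hy, rfl⟩
      rw [mem_centralizer_iff]
      intro p hp
      have := mem_centralizer_iff.1 hy ⟨p, hPW hp⟩ hp
      exact congrArg Subtype.val this
    · intro hx
      refine ⟨⟨x, hC hx⟩, ?_, rfl⟩
      rw [SetLike.mem_coe, mem_centralizer_iff]
      intro p hp
      apply Subtype.ext
      exact mem_centralizer_iff.1 hx p hp
  exact PCore.centralizer_pCore_le_of_equiv
    ((Subgroup.equivMapOfInjective _ W.subtype W.subtype_injective).trans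
      (MulEquiv.subgroupCongr hmap)) h1

/-- one step up -/
theorem ch_step {G : Type*} [Group G] [Finite G] (P P' : Subgroup G) (hle : P ≤ P')
    (hn : P' ≤ normalizer (P : Set G)) (hP' : IsPGroup 2 P')
    (hP : Ch (centralizer (P : Set G))) : Ch (centralizer (P' : Set G)) := by
  set C := centralizer (P : Set G) with hCdef
  have hnorm : ∀ p ∈ P', ∀ c ∈ C, p * c * p⁻¹ ∈ C := by
    intro p hp c hc
    rw [hCdef, mem_centralizer_iff] at hc ⊢
    intro a ha
    have hp' := (mem_normalizer_iff.1 (hn hp)) a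
    have h1 : p⁻¹ * a * p ∈ P := by
      have hi := mem_normalizer_iff.1 (inv_mem (hn hp)) a
      have := hi.1 ha
      simpa using this
    have h2 := hc _ h1
    calc a * (p * c * p⁻¹) = p * (p⁻¹ * a * p * c) * p⁻¹ := by group
      _ = p * (c * (p⁻¹ * a * p)) * p⁻¹ := by rw [h2]
      _ = _ := by group
  let W : Subgroup G :=
    { carrier := {g | ∃ c ∈ C, ∃ p ∈ P', g = c * p}
      mul_mem' := by
        rintro _ _ ⟨c1, h1, p1, q1, rfl⟩ ⟨c2, h2, p2, q2, rfl⟩
        refine ⟨c1 * (p1 * c2 * p1⁻¹), C.mul_mem h1 (hnorm p1 q1 c2 h2), p1 * p2,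
          P'.mul_mem q1 q2, by group⟩
      one_mem' := ⟨1, C.one_mem, 1, P'.one_mem, by simp⟩
      inv_mem' := by
        rintro _ ⟨c, h, p, q, rfl⟩
        refine ⟨p⁻¹ * c⁻¹ * p, ?_, p⁻¹, P'.inv_mem q, by group⟩
        have := hnorm p⁻¹ (P'.inv_mem q) c⁻¹ (C.inv_mem h)
        simpa using this }
  have hCW : C ≤ W := fun c hc => ⟨c, hc, 1, P'.one_mem, by simp⟩
  have hP'W : P' ≤ W := fun p hp => ⟨1, C.one_mem, p, hp, by simp⟩
  haveI hDn : (C.subgroupOf W).Normal := by
    refine ⟨?_⟩
    rintro ⟨d, hd⟩ hd' ⟨w, c, hc, p, hp, rfl⟩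
    show (c * p) * d * (c * p)⁻¹ ∈ C
    have h1 := hnorm p hp d hd'
    have : (c * p) * d * (c * p)⁻¹ = c * (p * d * p⁻¹) * c⁻¹ := by group
    rw [this]
    exact C.mul_mem (C.mul_mem hc h1) (C.inv_mem hc)
  have hDch : Ch (C.subgroupOf W) :=
    PCore.centralizer_pCore_le_of_equiv (Subgroup.subgroupOfEquivOfLe hCW).symm hP
  have hW : Ch W := by
    refine ch_of_normal_pow (C.subgroupOf W) hDch ?_
    rintro ⟨w, c, hc, p, hp, rfl⟩
    obtain ⟨j, hj⟩ := hP' ⟨p, hp⟩
    have hj' : p ^ (2 ^ j) = 1 := congrArg Subtype.val hj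
    refine ⟨j, ?_⟩
    have key : ∀ n : ℕ, ∃ c' ∈ C, (c * p) ^ n = c' * p ^ n := by
      intro n
      induction n with
      | zero => exact ⟨1, C.one_mem, by simp⟩
      | succ n ih =>
        obtain ⟨c', hc', e⟩ := ih
        refine ⟨c' * (p ^ n * c * (p ^ n)⁻¹), C.mul_mem hc'
          (hnorm _ (pow_mem hp n) c hc), ?_⟩
        rw [pow_succ, e, pow_succ]
        group
    obtain ⟨c', hc', e⟩ := key (2 ^ j)
    rw [hj', mul_one] at e
    show ((⟨c * p, _⟩ : W) ^ (2 ^ j) : W).1 ∈ C
    rw [SubgroupClass.coe_pow]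
    show (c * p) ^ (2 ^ j) ∈ C
    rw [e]
    exact hc'
  refine ch_centralizer_in W P' hW hP'W hP' ?_
  intro x hx
  apply hCW
  rw [hCdef, mem_centralizer_iff]
  intro a ha
  exact mem_centralizer_iff.1 hx a (hle ha)

/-- A proper subgroup of a nilpotent subgroup is properly contained in its normalizer. -/
theorem exists_normalizer_of_lt' {G : Type*} [Group G] {A B : Subgroup G} (h : A < B)
    (hB : Group.IsNilpotent B) : ∃ y ∈ B, y ∉ A ∧ y ∈ Subgroup.normalizer (A : Set G) := by
  have h1 : A.subgroupOf B < ⊤ := by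
    rw [lt_top_iff_ne_top]
    intro h2
    apply h.not_ge
    intro x hx
    have h3 : (⟨x, hx⟩ : B) ∈ A.subgroupOf B := by
      rw [h2]
      exact Subgroup.mem_top _
    exact Subgroup.mem_subgroupOf.1 h3
  have h2 := (Group.normalizerCondition_of_isNilpotent (G := B)) _ h1
  obtain ⟨y, hy, hy'⟩ := SetLike.exists_of_lt h2
  refine ⟨y, y.2, fun hA => hy' (Subgroup.mem_subgroupOf.2 hA), ?_⟩
  have hAB : A ≤ B := h.le
  apply Cfsg.Agent.Lib.Commutators.mem_normalizer_of_conj_mem
  · intro a ha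
    have h3 := (Subgroup.mem_normalizer_iff.1 hy ⟨a, hAB ha⟩).1 (Subgroup.mem_subgroupOf.2 ha)
    exact Subgroup.mem_subgroupOf.1 h3
  · intro a ha
    have h3 := (Subgroup.mem_normalizer_iff.1 (Subgroup.inv_mem _ hy) ⟨a, hAB ha⟩).1 (Subgroup.mem_subgroupOf.2 ha)
    have h4 := Subgroup.mem_subgroupOf.1 h3
    have h5 : y⁻¹ * (⟨a, hAB ha⟩ : B) * y⁻¹⁻¹ = ((y : G)⁻¹ * a * y : G) := by
      push_cast
      simp
    rw [← h5]
    exact h4

/-- the whole chain -/
theorem ch_chain {G : Type*} [Group G] [Finite G] (Q : Subgroup G) (hQ : IsPGroup 2 Q) :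
    ∀ P : Subgroup G, P ≤ Q → Ch (centralizer (P : Set G)) → Ch (centralizer (Q : Set G)) := by
  intro P
  induction P using WellFoundedGT.induction with
  | ind P ih =>
    intro hPQ hP
    rcases eq_or_lt_of_le hPQ with rfl | hlt
    · exact hP
    · haveI := hQ.isNilpotent
      obtain ⟨y, hyQ, hy, hyN⟩ := exists_normalizer_of_lt' hlt inferInstance
      have hlt2 : P < Q ⊓ normalizer (P : Set G) := by
        refine lt_of_le_of_ne (le_inf hPQ le_normalizer) ?_
        intro h
        apply hy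
        rw [h]
        exact ⟨hyQ, hyN⟩
      refine ih _ hlt2 inf_le_left (ch_step P _ (le_inf hPQ le_normalizer) inf_le_right
        (hQ.to_le inf_le_left) hP)

/-- characteristic `2` passes up from `N(P₀)`, `P₀ ≤ U`, to `N(U)`. -/
theorem ch_normalizer_of_le {G : Type*} [Group G] [Finite G] (P₀ U : Subgroup G) (hle : P₀ ≤ U)
    (hU : IsPGroup 2 U) (h : Ch (normalizer (P₀ : Set G))) : Ch (normalizer (U : Set G)) := by
  set H := normalizer (U : Set G) with hH
  set Q := (pCore 2 H).map H.subtype with hQ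
  have hUH : U.subgroupOf H ≤ pCore 2 H :=
    FitCore.le_pCore 2 _ normal_in_normalizer (hU.comap_of_injective H.subtype H.subtype_injective)
  have hUQ : U ≤ Q := by
    intro u hu
    exact ⟨⟨u, le_normalizer hu⟩, hUH hu, rfl⟩
  have hQp : IsPGroup 2 Q := (FitCore.pCore_isPGroup 2).map _
  have hCQ : Ch (centralizer (Q : Set G)) :=
    ch_chain Q hQp P₀ (hle.trans hUQ) (ch_centralizer_of_normalizer P₀ h)
  have hCH : centralizer (Q : Set G) ≤ H := by
    intro x hx
    apply H2Basic.mem_normalizer_of_forall_comm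
    intro a ha
    exact (mem_centralizer_iff.1 hx a (hUQ ha)).symm
  have hmap : (centralizer (pCore 2 H : Set H)).map H.subtype = centralizer (Q : Set G) := by
    ext x
    constructor
    · rintro ⟨y, hy, rfl⟩
      rw [mem_centralizer_iff]
      rintro _ ⟨a, ha, rfl⟩
      exact congrArg Subtype.val (mem_centralizer_iff.1 hy a ha)
    · intro hx
      refine ⟨⟨x, hCH hx⟩, ?_, rfl⟩
      rw [SetLike.mem_coe, mem_centralizer_iff]
      intro a ha
      apply Subtype.ext
      exact mem_centralizer_iff.1 hx a ⟨a, ha, rfl⟩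
  have hD : Ch (centralizer (pCore 2 H : Set H)) :=
    PCore.centralizer_pCore_le_of_equiv
      ((MulEquiv.subgroupCongr hmap).symm.trans
        (Subgroup.equivMapOfInjective _ H.subtype H.subtype_injective).symm) hCQ
  exact CompsLocal.char_of_subgroup_contains _ le_rfl hD

/-- the `F*` form -/
theorem genFitting_normalizer_of_le {G : Type*} [Group G] [Finite G] (P₀ U : Subgroup G)
    (hle : P₀ ≤ U) (hU : IsPGroup 2 U) (h : Ch (normalizer (P₀ : Set G))) :
    generalizedFittingSubgroup (normalizer (U : Set G)) = pCore 2 (normalizer (U : Set G)) :=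
  CompsLocal.genFitting_of_centralizer_pCore_le (ch_normalizer_of_le P₀ U hle hU h)

end Cfsg.Agent.Lib.CharChain
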