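import Cfsg.Agent.Lib.CharOps

/-!
# Representations with equal characters are equivalent
-/

set_option linter.unusedSectionVars false
set_option linter.style.haveILetI false

namespace Cfsg.Agent.Lib.CharEquiv

open scoped ComplexConjugate
open Module Cfsg Cfsg.Agent.Lib.CharCore Cfsg.Agent.Lib.CharBasic Cfsg.Agent.Lib.CharIrr

universe u v w

variable {G : Type u} [Group G] [Fintype G]

theorem isCompl_toSubmodule {V : Type v} [AddCommGroup V] [Module ℂ V]
    {ρ : Representation ℂ G V} {S S' : Subrepresentation ρ} (h : IsCompl S S') :
    IsCompl S.toSubmodule S'.toSubmodule := by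
  constructor
  · rw [disjoint_iff]
    exact congrArg Subrepresentation.toSubmodule h.inf_eq_bot
  · rw [codisjoint_iff]
    exact congrArg Subrepresentation.toSubmodule h.sup_eq_top

/-- A nonzero intertwining map out of an irreducible representation is injective. -/
theorem injective_of_irreducible {V : Type v} [AddCommGroup V] [Module ℂ V]
    {W : Type w} [AddCommGroup W] [Module ℂ W] {ρ : Representation ℂ G V}
    {σ : Representation ℂ G W} (hρ : ρ.IsIrreducible) (T : ρ.IntertwiningMap σ) (hT : T ≠ 0) :
    Function.Injective T.toLinearMap := by
  rw [← LinearMap.ker_eq_bot]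
  rcases hρ.eq_bot_or_eq_top T.ker with h | h
  · exact congrArg Subrepresentation.toSubmodule h
  · exfalso
    apply hT
    apply Representation.IntertwiningMap.ext
    have h2 : LinearMap.ker T.toLinearMap = ⊤ := congrArg Subrepresentation.toSubmodule h
    exact LinearMap.ker_eq_top.mp h2

theorem equiv_of_char_eq_aux (n : ℕ) :
    ∀ (V : Type v) [AddCommGroup V] [Module ℂ V] [FiniteDimensional ℂ V]
      (W : Type w) [AddCommGroup W] [Module ℂ W] [FiniteDimensional ℂ W]
      (ρ : Representation ℂ G V) (σ : Representation ℂ G W),
      finrank ℂ V = n → ρ.character = σ.character → Nonempty (ρ.Equiv σ) := by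
  induction n using Nat.strong_induction_on with
  | _ n ih =>
    intro V _ _ _ W _ _ _ ρ σ hn hc
    have hdim : finrank ℂ V = finrank ℂ W := by
      have := congrFun hc 1
      rw [Representation.char_one, Representation.char_one] at this
      exact_mod_cast this
    by_cases hV : Nontrivial V
    · obtain ⟨S, hSb, hSirr⟩ := exists_irreducible_sub V ρ hV
      obtain ⟨S', hcompl⟩ := exists_compl ρ S
      have hcompl' := isCompl_toSubmodule hcompl
      have hsplit : ρ.character = S.toRepresentation.character + S'.toRepresentation.character :=
        funext (character_split ρ S S' hcompl)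
      -- a nonzero intertwiner
      have hinner : classInner σ.character S.toRepresentation.character ≠ 0 := by
        rw [← hc, hsplit, classInner_add_left]
        have h1 := classInner_irreducible S.toRepresentation S.toRepresentation hSirr hSirr
        rw [if_pos ⟨Representation.Equiv.refl _⟩] at h1
        rw [h1, classInner_character S'.toRepresentation S.toRepresentation]
        intro h0
        have : ((1 + finrank ℂ (S.toRepresentation.IntertwiningMap S'.toRepresentation) : ℕ) : ℂ) = 0 := by
          push_cast
          exact h0
        have h2 : (1 + finrank ℂ (S.toRepresentation.IntertwiningMap S'.toRepresentation) : ℕ) = 0 := by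
          exact_mod_cast this
        omega
      rw [classInner_character] at hinner
      have hpos : finrank ℂ (S.toRepresentation.IntertwiningMap σ) ≠ 0 := by
        intro h
        rw [h] at hinner
        simp at hinner
      obtain ⟨T, hT⟩ : ∃ T : S.toRepresentation.IntertwiningMap σ, T ≠ 0 := by
        have : Nontrivial (S.toRepresentation.IntertwiningMap σ) := by
          apply Module.nontrivial_of_finrank_pos (R := ℂ)
          omega
        exact exists_ne 0
      have hinj := injective_of_irreducible hSirr T hT
      obtain ⟨U', hU⟩ := exists_compl σ T.range
      have hU' := isCompl_toSubmodule hU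
      let eT : S.toSubmodule ≃ₗ[ℂ] T.range.toSubmodule := LinearEquiv.ofInjective T.toLinearMap hinj
      have heT : ∀ x, ((eT x : T.range.toSubmodule) : W) = T x := fun x => rfl
      have hRep : S.toRepresentation.character = T.range.toRepresentation.character := by
        apply Representation.char_iso
        refine Representation.Equiv.mk eT fun g => LinearMap.ext fun x => ?_
        apply Subtype.ext
        show T (S.toRepresentation g x) = σ g (T x)
        exact Representation.IntertwiningMap.isIntertwining _ _ T g x
      have hsplit2 : σ.character = T.range.toRepresentation.character + U'.toRepresentation.character :=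
        funext (character_split σ T.range U' hU)
      have hchar' : S'.toRepresentation.character = U'.toRepresentation.character := by
        have h3 := hc
        rw [hsplit, hsplit2, hRep] at h3
        exact add_left_cancel h3
      have hdim' : finrank ℂ S'.toSubmodule < n := by
        have h4 := Submodule.finrank_add_eq_of_isCompl hcompl'
        have h5 : 0 < finrank ℂ S.toSubmodule := by
          rw [Module.finrank_pos_iff]
          apply Submodule.nontrivial_iff_ne_bot.mpr
          exact fun h => hSb (Subrepresentation.toSubmodule_injective h)
        omega
      obtain ⟨φ⟩ := ih _ hdim' S'.toSubmodule U'.toSubmodule S'.toRepresentation U'.toRepresentation rfl hchar'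
      let P := Submodule.prodEquivOfIsCompl S.toSubmodule S'.toSubmodule hcompl'
      let Q := Submodule.prodEquivOfIsCompl T.range.toSubmodule U'.toSubmodule hU'
      let e : V ≃ₗ[ℂ] W := P.symm ≪≫ₗ (LinearEquiv.prodCongr eT φ.toLinearEquiv) ≪≫ₗ Q
      have he : ∀ p : S.toSubmodule × S'.toSubmodule,
          e (P p) = T p.1 + ((φ.toLinearEquiv p.2 : U'.toSubmodule) : W) := by
        intro p
        simp only [e, LinearEquiv.trans_apply, LinearEquiv.symm_apply_apply]
        rfl
      have hP : ∀ p : S.toSubmodule × S'.toSubmodule, (P p : V) = p.1 + p.2 := fun p => rfl
      refine ⟨Representation.Equiv.mk e fun g => LinearMap.ext fun v => ?_⟩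
      obtain ⟨p, rfl⟩ := P.surjective v
      have h6 : ρ g (P p) = P (S.toRepresentation g p.1, S'.toRepresentation g p.2) := by
        rw [hP, hP, map_add]
        rfl
      show e (ρ g (P p)) = σ g (e (P p))
      rw [h6, he, he, map_add]
      congr 1
      · exact Representation.IntertwiningMap.isIntertwining _ _ T g p.1
      · have h7 := equiv_intertwine φ g p.2
        exact congrArg Subtype.val h7
    · have hs : Subsingleton V := not_nontrivial_iff_subsingleton.mp hV
      have h0 : finrank ℂ V = 0 := finrank_zero_of_subsingleton
      have hW : Subsingleton W := (Module.finrank_zero_iff (R := ℂ) (M := W)).mp (by omega)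
      refine ⟨Representation.Equiv.mk (LinearEquiv.ofFinrankEq V W hdim) fun g => ?_⟩
      exact LinearMap.ext fun v => Subsingleton.elim _ _

/-- Representations with equal characters are equivalent. -/
theorem equiv_of_character_eq' {V : Type v} [AddCommGroup V] [Module ℂ V] [FiniteDimensional ℂ V]
    {W : Type w} [AddCommGroup W] [Module ℂ W] [FiniteDimensional ℂ W]
    (ρ : Representation ℂ G V) (σ : Representation ℂ G W) (h : ρ.character = σ.character) :
    Nonempty (ρ.Equiv σ) :=
  equiv_of_char_eq_aux _ V W ρ σ rfl h

end Cfsg.Agent.Lib.CharEquiv
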