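import Cfsg.Agent.Lib.GlaubM
import Cfsg.Agent.Lib.CharEquiv
import Cfsg.Prelude.Def_CharExt

/-!
# Determinantal characters
-/

set_option autoImplicit false
set_option linter.all false

namespace Cfsg.Agent.Lib.CharDet

open Cfsg Cfsg.Agent.Lib.CharOps Cfsg.Agent.Lib.CharIrr Cfsg.Agent.Lib.GlaubM
open scoped ComplexConjugate

universe u

section Basic

variable {G : Type u} [Group G] [Finite G]

theorem detChar_of_rep {V : Type*} [AddCommGroup V] [Module ℂ V] [FiniteDimensional ℂ V]
    (ρ : Representation ℂ G V) (g : G) : detChar ρ.character g = LinearMap.det (ρ g) := by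
  classical
  letI : Fintype G := Fintype.ofFinite G
  have h : IsCharacter G ρ.character := Cfsg.Agent.Lib.CharBasic.isCharacter_character ρ
  unfold detChar
  rw [dif_pos h]
  have hρ₀ := Classical.choose_spec (Classical.choose_spec h)
  obtain ⟨e⟩ := Cfsg.Agent.Lib.CharEquiv.equiv_of_character_eq' _ ρ hρ₀
  have h1 : ρ g = e.toLinearEquiv.toLinearMap ∘ₗ (Classical.choose (Classical.choose_spec h)) g ∘ₗ e.toLinearEquiv.symm.toLinearMap := by
    ext v
    have h2 := Cfsg.Agent.Lib.CharBasic.equiv_intertwine e g (e.toLinearEquiv.symm v)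
    simp only [LinearEquiv.apply_symm_apply] at h2
    exact h2.symm
  rw [h1]
  exact (LinearMap.det_conj _ e.toLinearEquiv).symm

theorem det_ne_zero_rep {V : Type*} [AddCommGroup V] [Module ℂ V] [FiniteDimensional ℂ V]
    (ρ : Representation ℂ G V) (g : G) : LinearMap.det (ρ g) ≠ 0 := by
  intro h0
  have h1 : ρ g * ρ g⁻¹ = 1 := by
    rw [← map_mul, mul_inv_cancel, map_one]
  have h2 := congrArg LinearMap.det h1
  rw [map_mul, h0, zero_mul, map_one] at h2
  exact zero_ne_one h2

/-- The determinantal character as a homomorphism. -/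
noncomputable def detHom {χ : G → ℂ} (hχ : IsCharacter G χ) : G →* ℂˣ :=
  MonoidHom.toHomUnits
    { toFun := detChar χ
      map_one' := by
        obtain ⟨n, ρ, rfl⟩ := hχ
        rw [detChar_of_rep, map_one, map_one]
      map_mul' := by
        obtain ⟨n, ρ, rfl⟩ := hχ
        intro a b
        rw [detChar_of_rep, detChar_of_rep, detChar_of_rep, map_mul, map_mul] }

theorem detHom_apply {χ : G → ℂ} (hχ : IsCharacter G χ) (g : G) : ((detHom hχ g : ℂˣ) : ℂ) = detChar χ g := rfl

theorem isCharacter_detChar {χ : G → ℂ} (hχ : IsCharacter G χ) : IsCharacter G (detChar χ) := by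
  classical
  letI : Fintype G := Fintype.ofFinite G
  exact IsIrrCharacter.isCharacter' (Cfsg.Agent.Lib.CharAb.isIrrCharacter_of_hom (detHom hχ))

theorem detChar_one {χ : G → ℂ} (hχ : IsCharacter G χ) : detChar χ 1 = 1 := by
  rw [← detHom_apply hχ, map_one]
  rfl

theorem detChar_comp {H : Type u} [Group H] [Finite H] (f : H →* G) {χ : G → ℂ} (hχ : IsCharacter G χ) (x : H) :
    detChar (fun y => χ (f y)) x = detChar χ (f x) := by
  obtain ⟨n, ρ, rfl⟩ := hχ
  let σ : Representation ℂ H (Fin n → ℂ) := ρ.comp f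
  have h1 : (fun y => ρ.character (f y)) = σ.character := rfl
  rw [h1, detChar_of_rep, detChar_of_rep]
  rfl

end Basic

section Twist

variable {G : Type u} [Group G]

/-- A representation twisted by a linear character. -/
noncomputable def twistRep {V : Type*} [AddCommGroup V] [Module ℂ V] (l : G →* ℂˣ) (ρ : Representation ℂ G V) :
    Representation ℂ G V where
  toFun g := ((l g : ℂˣ) : ℂ) • ρ g
  map_one' := by simp
  map_mul' a b := by
    rw [map_mul, map_mul, Units.val_mul, smul_mul_smul_comm]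

theorem twistRep_apply {V : Type*} [AddCommGroup V] [Module ℂ V] (l : G →* ℂˣ) (ρ : Representation ℂ G V) (g : G) :
    twistRep l ρ g = ((l g : ℂˣ) : ℂ) • ρ g := rfl

theorem twistRep_character {V : Type*} [AddCommGroup V] [Module ℂ V] (l : G →* ℂˣ) (ρ : Representation ℂ G V) (g : G) :
    (twistRep l ρ).character g = (l g : ℂ) * ρ.character g := by
  unfold Representation.character
  rw [twistRep_apply, map_smul, smul_eq_mul]

theorem finrank_eq_of_one {V : Type*} [AddCommGroup V] [Module ℂ V] [FiniteDimensional ℂ V]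
    (ρ : Representation ℂ G V) (d : ℕ) (hd : ρ.character 1 = d) : Module.finrank ℂ V = d := by
  rw [Representation.char_one] at hd
  exact_mod_cast hd

theorem detChar_twist [Finite G] {χ : G → ℂ} (hχ : IsCharacter G χ) (l : G →* ℂˣ) (d : ℕ) (hd : χ 1 = d) (g : G) :
    detChar (fun x => (l x : ℂ) * χ x) g = (l g : ℂ) ^ d * detChar χ g := by
  obtain ⟨n, ρ, rfl⟩ := hχ
  have h1 : (fun x => (l x : ℂ) * ρ.character x) = (twistRep l ρ).character := by
    funext x
    rw [twistRep_character]
  rw [h1, detChar_of_rep, detChar_of_rep, twistRep_apply, LinearMap.det_smul, finrank_eq_of_one ρ d hd]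

end Twist

section Schur

variable {H : Type u} [Group H] [Finite H]
  {V : Type*} [AddCommGroup V] [Module ℂ V] [FiniteDimensional ℂ V]

theorem schur (ρ : Representation ℂ H V) (hρ : ρ.IsIrreducible) (A : V →ₗ[ℂ] V)
    (hA : ∀ h, A ∘ₗ ρ h = ρ h ∘ₗ A) : ∃ c : ℂ, A = c • LinearMap.id := by
  classical
  letI : Fintype H := Fintype.ofFinite H
  have := hρ
  let T : ρ.IntertwiningMap ρ :=
    { toLinearMap := A
      isIntertwining' := hA }
  obtain ⟨c, hc⟩ := (Representation.IsIrreducible.algebraMap_intertwiningMap_bijective_of_isAlgClosed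
    (ρ := ρ)).2 T
  refine ⟨c, ?_⟩
  have h1 : (algebraMap ℂ (ρ.IntertwiningMap ρ) c).toLinearMap = T.toLinearMap := by rw [hc]
  rw [show A = T.toLinearMap from rfl, ← h1]
  rfl

end Schur

section ExtTwist

variable {G : Type u} [Group G] [Finite G] (N : Subgroup G) [hN : N.Normal]

theorem twist_of_equiv {V V' : Type*} [AddCommGroup V] [Module ℂ V] [FiniteDimensional ℂ V]
    [AddCommGroup V'] [Module ℂ V'] [FiniteDimensional ℂ V']
    (ρ : Representation ℂ G V) (ρ' : Representation ℂ G V')
    (hirr : Representation.IsIrreducible (ρ.comp N.subtype)) [Nontrivial V] (φ : V ≃ₗ[ℂ] V')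
    (hφ : ∀ (n : N) (v : V), φ (ρ n v) = ρ' n (φ v)) :
    ∃ l : G →* ℂˣ, (∀ n : N, l n = 1) ∧ ∀ g v, ρ' g (φ v) = ((l g : ℂˣ) : ℂ) • φ (ρ g v) := by
  have key : ∀ g : G, ∃ c : ℂ, ∀ v, ρ' g (φ v) = c • φ (ρ g v) := by
    intro g
    let A : V →ₗ[ℂ] V := φ.symm.toLinearMap ∘ₗ ρ' g ∘ₗ φ.toLinearMap ∘ₗ ρ g⁻¹
    obtain ⟨c, hc⟩ := schur (ρ.comp N.subtype) hirr A (by
      intro n
      ext v
      simp only [LinearMap.comp_apply, A, MonoidHom.comp_apply, Subgroup.subtype_apply,
        LinearEquiv.coe_coe]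
      apply φ.injective
      simp only [LinearEquiv.apply_symm_apply]
      have hm : g⁻¹ * n * g ∈ N := by
        have := hN.conj_mem n n.2 g⁻¹
        simpa using this
      have h1 : ρ g⁻¹ (ρ n v) = ρ (⟨g⁻¹ * n * g, hm⟩ : N) (ρ g⁻¹ v) := by
        rw [← Module.End.mul_apply, ← Module.End.mul_apply, ← map_mul, ← map_mul]
        congr 2
        simp [mul_assoc]
      rw [h1, hφ]
      rw [hφ n]
      simp only [LinearEquiv.apply_symm_apply]
      rw [← Module.End.mul_apply, ← Module.End.mul_apply, ← map_mul, ← map_mul]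
      congr 2
      simp [mul_assoc])
    refine ⟨c, fun v => ?_⟩
    have h2 := LinearMap.congr_fun hc (ρ g v)
    simp only [LinearMap.comp_apply, A, LinearEquiv.coe_coe, LinearMap.smul_apply, LinearMap.id_apply] at h2
    have h3 : ρ g⁻¹ (ρ g v) = v := by
      rw [← Module.End.mul_apply, ← map_mul, inv_mul_cancel, map_one, Module.End.one_apply]
    rw [h3] at h2
    have h4 := congrArg φ h2
    rw [LinearEquiv.apply_symm_apply, map_smul] at h4
    exact h4
  choose c hc using key
  obtain ⟨v₀, hv₀⟩ := exists_ne (0 : V)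
  have hne : ∀ g, φ (ρ g v₀) ≠ 0 := by
    intro g h0
    have h1 : ρ g v₀ = 0 := by simpa using h0
    have h2 : ρ g⁻¹ (ρ g v₀) = v₀ := by
      rw [← Module.End.mul_apply, ← map_mul, inv_mul_cancel, map_one, Module.End.one_apply]
    rw [h1, map_zero] at h2
    exact hv₀ h2.symm
  have hc1 : c 1 = 1 := by
    have h1 := hc 1 v₀
    simp only [map_one, Module.End.one_apply] at h1
    have h2 : φ v₀ ≠ 0 := by simpa using hv₀
    have h3 : (c 1 - 1) • φ v₀ = 0 := by
      rw [sub_smul, ← h1, one_smul, sub_self]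
    rcases smul_eq_zero.mp h3 with h4 | h4
    · exact sub_eq_zero.mp h4
    · exact absurd h4 h2
  have hcm : ∀ a b, c (a * b) = c a * c b := by
    intro a b
    have h1 := hc (a * b) v₀
    have h2 : ρ' (a * b) (φ v₀) = ρ' a (ρ' b (φ v₀)) := by
      rw [map_mul, Module.End.mul_apply]
    rw [h2, hc b v₀, map_smul, hc a (ρ b v₀)] at h1
    have h3 : ρ a (ρ b v₀) = ρ (a * b) v₀ := by
      rw [map_mul, Module.End.mul_apply]
    rw [h3, smul_smul] at h1
    have h4 : (c b * c a - c (a * b)) • φ (ρ (a * b) v₀) = 0 := by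
      rw [sub_smul, h1, sub_self]
    rcases smul_eq_zero.mp h4 with h5 | h5
    · rw [← sub_eq_zero.mp h5, mul_comm]
    · exact absurd h5 (hne _)
  let l0 : G →* ℂ := { toFun := c, map_one' := hc1, map_mul' := hcm }
  refine ⟨MonoidHom.toHomUnits l0, ?_, ?_⟩
  · intro n
    apply Units.ext
    show c n = 1
    have h1 := hc n v₀
    rw [← hφ] at h1
    have h4 : (c n - 1) • φ (ρ n v₀) = 0 := by
      rw [sub_smul, ← h1, one_smul, sub_self]
    rcases smul_eq_zero.mp h4 with h5 | h5
    · exact sub_eq_zero.mp h5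
    · exact absurd h5 (hne _)
  · intro g v
    exact hc g v

/-- Restriction of a representation has the restricted character. -/
theorem char_comp_subtype {V : Type*} [AddCommGroup V] [Module ℂ V] (ρ : Representation ℂ G V) (n : N) :
    Representation.character (ρ.comp N.subtype) n = ρ.character n := rfl

/-- A representation whose character restricts to an irreducible character restricts to an
irreducible representation. -/
theorem isIrreducible_of_restrict {V : Type*} [AddCommGroup V] [Module ℂ V] [FiniteDimensional ℂ V]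
    {K : Type u} [Group K] [Finite K] (σ : Representation ℂ K V) {θ : K → ℂ} (hθ : IsIrrCharacter K θ)
    (h : σ.character = θ) : σ.IsIrreducible := by
  classical
  letI : Fintype K := Fintype.ofFinite K
  obtain ⟨n, τ, hτ, hτc⟩ := hθ
  obtain ⟨e⟩ := Cfsg.Agent.Lib.CharEquiv.equiv_of_character_eq' τ σ (by rw [hτc, h])
  exact Cfsg.Agent.Lib.CharBasic.isIrreducible_of_equiv e hτ

/-- **Gallagher, linear form.**  Two irreducible characters of `G` restricting to the same
irreducible character of a normal subgroup differ by a linear character trivial on it. -/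
theorem ext_twist {χ χ' : G → ℂ} (hχ : IsCharacter G χ) (hχ' : IsCharacter G χ')
    {θ : N → ℂ} (hθ : IsIrrCharacter N θ) (h1 : ∀ n : N, χ n = θ n) (h2 : ∀ n : N, χ' n = θ n) :
    ∃ l : G →* ℂˣ, (∀ n : N, l n = 1) ∧ ∀ g, χ' g = (l g : ℂ) * χ g := by
  classical
  letI : Fintype N := Fintype.ofFinite N
  obtain ⟨a, ρ, rfl⟩ := hχ
  obtain ⟨b, ρ', rfl⟩ := hχ'
  have hc : Representation.character (ρ.comp N.subtype) = θ := by
    funext n
    exact h1 n
  have hc' : Representation.character (ρ'.comp N.subtype) = θ := by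
    funext n
    exact h2 n
  have hirr := isIrreducible_of_restrict (ρ.comp N.subtype) hθ hc
  obtain ⟨e⟩ := Cfsg.Agent.Lib.CharEquiv.equiv_of_character_eq' (ρ.comp N.subtype) (ρ'.comp N.subtype)
    (by rw [hc, hc'])
  have hpos := Cfsg.Agent.Lib.CharBasic.finrank_pos_of_irreducible _ hirr
  haveI : Nontrivial (Fin a → ℂ) := Module.nontrivial_of_finrank_pos hpos
  obtain ⟨l, hl1, hl2⟩ := twist_of_equiv N ρ ρ' hirr e.toLinearEquiv
    (fun n v => Cfsg.Agent.Lib.CharBasic.equiv_intertwine e n v)
  refine ⟨l, hl1, fun g => ?_⟩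
  have h3 : ρ' g = e.toLinearEquiv.conj (((l g : ℂˣ) : ℂ) • ρ g) := by
    refine LinearMap.ext fun v => ?_
    rw [LinearEquiv.conj_apply]
    simp only [LinearMap.comp_apply, LinearMap.smul_apply, LinearEquiv.coe_coe, map_smul]
    have h4 := hl2 g (e.toLinearEquiv.symm v)
    rw [LinearEquiv.apply_symm_apply] at h4
    rw [h4]
    rfl
  unfold Representation.character
  rw [h3, LinearMap.trace_conj', map_smul, smul_eq_mul]

end ExtTwist

end Cfsg.Agent.Lib.CharDet
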