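import Cfsg.Agent.Lib.CharDet

/-!
# Projective lifting for coprime cocycles; extending invariant characters of coprime degree
-/

set_option autoImplicit false
set_option linter.all false

namespace Cfsg.Agent.Lib.CharDet2

open Cfsg Cfsg.Agent.Lib.CharOps Cfsg.Agent.Lib.CharIrr Cfsg.Agent.Lib.CharDet
open scoped ComplexConjugate

universe u

section Cocycle

variable {G : Type u} [Group G] [Finite G] {A : Type*} [CommGroup A]

/-- A two cocycle with values of order prime to the index of `N`, and constant on the left cosets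
of `N` in its second argument, is a coboundary, by a function trivial on `N` if the cocycle is
trivial on `N` in its first argument. -/
theorem cocycle_split (N : Subgroup G) (c : G → G → A)
    (hco : ∀ x y z, c x y * c (x * y) z = c y z * c x (y * z))
    (hinv : ∀ x y (n : N), c x (y * n) = c x y)
    (hN : ∀ (n : N) y, c n y = 1)
    (e : ℕ) (he : e.Coprime N.index) (hc : ∀ x y, c x y ^ e = 1) :
    ∃ γ : G → A, (∀ n : N, γ n = 1) ∧ ∀ x y, γ x * γ y * c x y = γ (x * y) := by
  classical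
  letI : Fintype (G ⧸ N) := Fintype.ofFinite _
  let β : G → A := fun x => ∏ q : G ⧸ N, c x q.out
  have hk : ∀ x (a b : G), (QuotientGroup.mk a : G ⧸ N) = QuotientGroup.mk b → c x a = c x b := by
    intro x a b hab
    have h1 : a⁻¹ * b ∈ N := QuotientGroup.eq.mp hab
    have h2 := hinv x a ⟨_, h1⟩
    rw [Subgroup.coe_mk, mul_inv_cancel_left] at h2
    exact h2.symm
  have hβ : ∀ x y, c x y ^ N.index * β (x * y) = β x * β y := by
    intro x y
    have h1 : ∏ q : G ⧸ N, (c x y * c (x * y) q.out) = ∏ q : G ⧸ N, (c y q.out * c x (y * q.out)) :=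
      Finset.prod_congr rfl fun q _ => hco x y q.out
    rw [Finset.prod_mul_distrib, Finset.prod_mul_distrib, Finset.prod_const, Finset.card_univ,
      ← Nat.card_eq_fintype_card, ← Subgroup.index_eq_card] at h1
    have h2 : ∏ q : G ⧸ N, c x (y * q.out) = β x := by
      rw [show β x = ∏ q : G ⧸ N, c x q.out from rfl,
        ← Equiv.prod_comp (MulAction.toPerm y : Equiv.Perm (G ⧸ N)) (fun q : G ⧸ N => c x q.out)]
      refine Finset.prod_congr rfl fun q _ => hk _ _ _ ?_
      simp only [MulAction.toPerm_apply]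
      rw [QuotientGroup.out_eq']
      conv_rhs => rw [← QuotientGroup.out_eq' q]
      rfl
    rw [h2] at h1
    rw [h1, mul_comm]
  obtain ⟨a, b, hab⟩ : ∃ a b : ℤ, (N.index : ℤ) * a + (e : ℤ) * b = 1 := by
    have h := Nat.gcd_eq_gcd_ab N.index e
    rw [Nat.Coprime.symm he |>.gcd_eq_one] at h
    exact ⟨_, _, by rw [← h]; simp⟩
  refine ⟨fun x => (β x)⁻¹ ^ a, ?_, ?_⟩
  · intro n
    have h1 : β n = 1 := Finset.prod_eq_one fun q _ => hN n _
    simp [h1]
  · intro x y
    have h1 : c x y = (c x y ^ N.index) ^ a := by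
      have h2 : c x y ^ ((N.index : ℤ) * a + (e : ℤ) * b) = c x y := by rw [hab, zpow_one]
      rw [zpow_add, zpow_mul, zpow_mul, zpow_natCast, zpow_natCast, hc, one_zpow, mul_one] at h2
      exact h2.symm
    have h3 : c x y ^ N.index = β x * β y * (β (x * y))⁻¹ := by
      rw [← hβ]
      simp
    rw [h1, h3]
    simp only [mul_zpow, inv_zpow, inv_inv]
    simp only [mul_comm, mul_left_comm, mul_assoc]
    simp

end Cocycle

section Proj

variable {G : Type u} [Group G] [Finite G]
  {V : Type*} [AddCommGroup V] [Module ℂ V] [Nontrivial V]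

/-- **Projective lifting.**  A projective representation extending a representation of a subgroup
`N`, with cocycle of order prime to the index of `N`, can be rescaled to a representation. -/
theorem rep_of_proj (N : Subgroup G) (ρ : Representation ℂ N V) (T : G → (V →ₗ[ℂ] V))
    (hl : ∀ (n : N) g, T (n * g) = ρ n ∘ₗ T g)
    (hr : ∀ g (n : N), T (g * n) = T g ∘ₗ ρ n)
    (h1 : T 1 = LinearMap.id)
    (e : ℕ) (he : e.Coprime N.index)
    (hprod : ∀ x y, ∃ c : ℂˣ, c ^ e = 1 ∧ T x ∘ₗ T y = (c : ℂ) • T (x * y)) :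
    ∃ σ : Representation ℂ G V, ∀ n : N, σ n = ρ n := by
  classical
  choose c hc1 hc2 using hprod
  have hTN : ∀ n : N, T n = ρ n := by
    intro n
    have := hl n 1
    rw [mul_one, h1] at this
    simpa using this
  have hne : ∀ g, T g ≠ 0 := by
    intro g h0
    have h3 := hc2 g g⁻¹
    rw [h0, LinearMap.zero_comp, mul_inv_cancel, h1] at h3
    have h4 : (LinearMap.id : V →ₗ[ℂ] V) = 0 := by
      have h5 := congrArg (fun f => ((c g g⁻¹)⁻¹ : ℂˣ).val • f) h3
      simp only [smul_zero, smul_smul, Units.inv_mul, one_smul] at h5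
      exact h5.symm
    obtain ⟨v, hv⟩ := exists_ne (0 : V)
    exact hv (LinearMap.congr_fun h4 v)
  have huniq : ∀ (a b : ℂˣ) (g : G), (a : ℂ) • T g = (b : ℂ) • T g → a = b := by
    intro a b g hab
    have h3 : ((a : ℂ) - b) • T g = 0 := by rw [sub_smul, hab, sub_self]
    rcases smul_eq_zero.mp h3 with h4 | h4
    · exact Units.ext (sub_eq_zero.mp h4)
    · exact absurd h4 (hne g)
  obtain ⟨γ, hγ1, hγ2⟩ := cocycle_split N c
    (by
      intro x y z
      apply huniq _ _ (x * y * z)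
      have h3 : (T x ∘ₗ T y) ∘ₗ T z = T x ∘ₗ (T y ∘ₗ T z) := rfl
      rw [hc2 x y, hc2 y z, LinearMap.smul_comp, LinearMap.comp_smul, hc2 _ z, hc2 x _, smul_smul, smul_smul] at h3
      rw [Units.val_mul, Units.val_mul, mul_assoc x y z]
      rw [mul_assoc x y z] at h3
      exact h3)
    (by
      intro x y n
      apply huniq _ _ (x * y * n)
      have h3 : T x ∘ₗ T (y * n) = (T x ∘ₗ T y) ∘ₗ ρ n := by
        rw [hr]
        rfl
      rw [hc2 x y, LinearMap.smul_comp, ← hr, hc2 x (y * n), ← mul_assoc] at h3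
      exact h3)
    (by
      intro n y
      apply huniq _ 1 (n * y)
      have h3 := hc2 n y
      rw [hTN, ← hl] at h3
      simpa using h3.symm)
    e he hc1
  refine ⟨{ toFun := fun g => ((γ g : ℂˣ) : ℂ) • T g
            map_one' := ?_
            map_mul' := ?_ }, ?_⟩
  · have h3 := hγ1 1
    simp only [OneMemClass.coe_one] at h3
    rw [h3, h1]
    simp
    rfl
  · intro x y
    rw [Module.End.mul_eq_comp, LinearMap.smul_comp, LinearMap.comp_smul, hc2, smul_smul, smul_smul, ← hγ2 x y]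
    simp [mul_comm, mul_left_comm]
  · intro n
    show ((γ n : ℂˣ) : ℂ) • T n = ρ n
    rw [hγ1, hTN]
    simp

end Proj

section Ext

variable {G : Type u} [Group G] [Finite G]

theorem isIrreducible_of_restrict' {V : Type*} [AddCommGroup V] [Module ℂ V] [Nontrivial V]
    (N : Subgroup G) (ρ : Representation ℂ N V) (σ : Representation ℂ G V) (h : ∀ n : N, σ n = ρ n)
    (hρ : ρ.IsIrreducible) : σ.IsIrreducible := by
  have hs : IsSimpleOrder (Subrepresentation ρ) := hρ
  have hbot : ∀ W : Subrepresentation σ, W.toSubmodule = ⊥ → W = ⊥ := fun W hW =>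
    Subrepresentation.toSubmodule_injective hW
  have htop : ∀ W : Subrepresentation σ, W.toSubmodule = ⊤ → W = ⊤ := fun W hW =>
    Subrepresentation.toSubmodule_injective hW
  haveI : Nontrivial (Subrepresentation σ) := by
    refine ⟨⟨⊥, ⊤, fun h0 => ?_⟩⟩
    have h1 : (⊥ : Submodule ℂ V) = ⊤ := congrArg Subrepresentation.toSubmodule h0
    exact bot_ne_top h1
  refine IsSimpleOrder.mk fun W => ?_
  let W' : Subrepresentation ρ :=
    { toSubmodule := W.toSubmodule
      apply_mem_toSubmodule := fun n v hv => by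
        rw [← h]
        exact W.apply_mem_toSubmodule _ hv }
  rcases hs.eq_bot_or_eq_top W' with h1 | h1
  · left
    exact hbot W (congrArg Subrepresentation.toSubmodule h1)
  · right
    exact htop W (congrArg Subrepresentation.toSubmodule h1)

variable (N : Subgroup G) [hN : N.Normal]

theorem exists_rep_of_det {V : Type*} [AddCommGroup V] [Module ℂ V] [FiniteDimensional ℂ V] [Nontrivial V]
    (ρ : Representation ℂ N V) (hρ : ρ.IsIrreducible)
    (d : ℕ) (hdim : Module.finrank ℂ V = d) (hcop : N.index.Coprime d) (μ : G →* ℂˣ)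
    (hμ : ∀ n : N, LinearMap.det (ρ n) = μ n)
    (S : G → (V →ₗ[ℂ] V))
    (hS : ∀ g n v, S g (ρ n v) = ρ (MulAut.conjNormal g n) (S g v))
    (hSd : ∀ g, LinearMap.det (S g) = μ g)
    (hS1 : S 1 = LinearMap.id) :
    ∃ σ : Representation ℂ G V, ∀ n : N, σ n = ρ n := by
  classical
  let r : G ⧸ N → G := fun q => if q = 1 then 1 else q.out
  have hr : ∀ q, (QuotientGroup.mk (r q) : G ⧸ N) = q := by
    intro q
    by_cases hq : q = 1
    · simp [r, hq]
    · simp [r, hq]
  have hr1 : r 1 = 1 := by simp [r]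
  have hmem : ∀ g : G, g * (r (QuotientGroup.mk g))⁻¹ ∈ N := by
    intro g
    have h1 := hr (QuotientGroup.mk g)
    rw [← div_eq_mul_inv]
    exact (QuotientGroup.eq_iff_div_mem).mp h1.symm
  let a : G → N := fun g => ⟨g * (r (QuotientGroup.mk g))⁻¹, hmem g⟩
  have ha : ∀ g, (a g : G) * r (QuotientGroup.mk g) = g := fun g => by simp [a]
  let T : G → (V →ₗ[ℂ] V) := fun g => ρ (a g) ∘ₗ S (r (QuotientGroup.mk g))
  have hTa : ∀ g n v, T g (ρ n v) = ρ (MulAut.conjNormal g n) (T g v) := by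
    intro g n v
    simp only [T, LinearMap.comp_apply]
    have hρm : ∀ x y w, ρ x (ρ y w) = ρ (x * y) w := fun x y w => by
      rw [map_mul]
      rfl
    rw [hS, hρm, hρm]
    have e : a g * MulAut.conjNormal (r (QuotientGroup.mk g)) n = MulAut.conjNormal g n * a g := by
      apply Subtype.ext
      simp only [Subgroup.coe_mul, MulAut.conjNormal_apply]
      have h5 : ∀ (x c m g : G), x * c = g → x * (c * m * c⁻¹) = g * m * g⁻¹ * x := by
        rintro x c m _ rfl
        group
      exact h5 _ _ _ _ (ha g)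
    rw [e]
  have hTd : ∀ g, LinearMap.det (T g) = μ g := by
    intro g
    simp only [T]
    rw [LinearMap.det_comp, hμ, hSd, ← Units.val_mul, ← map_mul, ha]
  have hl : ∀ (n : N) g, T (n * g) = ρ n ∘ₗ T g := by
    intro n g
    have h1 : (QuotientGroup.mk ((n : G) * g) : G ⧸ N) = QuotientGroup.mk g := by
      rw [QuotientGroup.mk_mul, (QuotientGroup.eq_one_iff (n : G)).mpr n.2, one_mul]
    have h2 : a ((n : G) * g) = n * a g := by
      apply Subtype.ext
      simp [a, h1, mul_assoc]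
    simp only [T]
    rw [h1, h2, map_mul]
    rfl
  have hr' : ∀ g (n : N), T (g * n) = T g ∘ₗ ρ n := by
    intro g n
    have h1 : (QuotientGroup.mk (g * (n : G)) : G ⧸ N) = QuotientGroup.mk g := by
      rw [QuotientGroup.mk_mul, (QuotientGroup.eq_one_iff (n : G)).mpr n.2, mul_one]
    have h2 : a (g * (n : G)) = MulAut.conjNormal g n * a g := by
      apply Subtype.ext
      simp only [a, h1, Subgroup.coe_mul, MulAut.conjNormal_apply]
      group
    refine LinearMap.ext fun v => ?_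
    have h3 : (T g ∘ₗ ρ n) v = T g (ρ n v) := rfl
    rw [h3, hTa]
    simp only [T]
    rw [h1, h2, map_mul]
    rfl
  have h1 : T 1 = LinearMap.id := by
    have h2 : (QuotientGroup.mk (1 : G) : G ⧸ N) = 1 := rfl
    have h3 : a 1 = 1 := by
      apply Subtype.ext
      simp [a, h2, hr1]
    simp only [T]
    rw [h2, h3, hr1, hS1, map_one]
    rfl
  have hd0 : 0 < d := by
    rw [← hdim]
    exact Module.finrank_pos
  refine rep_of_proj N ρ T hl hr' h1 d hcop.symm ?_
  intro x y
  have hU : IsUnit (T (x * y)) := by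
    rw [LinearMap.isUnit_iff_isUnit_det, hTd]
    exact (μ (x * y)).isUnit
  obtain ⟨U, hU⟩ := hU
  have hcomm : ∀ n : N, (T (x * y)) * ρ n = ρ (MulAut.conjNormal (x * y) n) * T (x * y) := by
    intro n
    refine LinearMap.ext fun v => ?_
    exact hTa (x * y) n v
  have hcomm2 : ∀ n : N, (T x * T y) * ρ n = ρ (MulAut.conjNormal (x * y) n) * (T x * T y) := by
    intro n
    refine LinearMap.ext fun v => ?_
    rw [Module.End.mul_apply, Module.End.mul_apply, Module.End.mul_apply, Module.End.mul_apply, hTa, hTa, map_mul]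
    rfl
  obtain ⟨c, hc⟩ := Cfsg.Agent.Lib.CharDet.schur ρ hρ (((U⁻¹ : (Module.End ℂ V)ˣ) : Module.End ℂ V) * (T x * T y)) (by
    intro n
    have h2 : ((U⁻¹ : (Module.End ℂ V)ˣ) : Module.End ℂ V) * ρ (MulAut.conjNormal (x * y) n)
        = ρ n * ((U⁻¹ : (Module.End ℂ V)ˣ) : Module.End ℂ V) := by
      have h3 := hcomm n
      rw [← hU] at h3
      calc ((U⁻¹ : (Module.End ℂ V)ˣ) : Module.End ℂ V) * ρ (MulAut.conjNormal (x * y) n)
          = ((U⁻¹ : (Module.End ℂ V)ˣ) : Module.End ℂ V) * (ρ (MulAut.conjNormal (x * y) n) * ((U : Module.End ℂ V) * ((U⁻¹ : (Module.End ℂ V)ˣ) : Module.End ℂ V))) := by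
            rw [Units.mul_inv, mul_one]
        _ = ((U⁻¹ : (Module.End ℂ V)ˣ) : Module.End ℂ V) * ((ρ (MulAut.conjNormal (x * y) n) * (U : Module.End ℂ V)) * ((U⁻¹ : (Module.End ℂ V)ˣ) : Module.End ℂ V)) := by
            rw [mul_assoc]
        _ = ((U⁻¹ : (Module.End ℂ V)ˣ) : Module.End ℂ V) * (((U : Module.End ℂ V) * ρ n) * ((U⁻¹ : (Module.End ℂ V)ˣ) : Module.End ℂ V)) := by
            rw [h3]
        _ = ρ n * ((U⁻¹ : (Module.End ℂ V)ˣ) : Module.End ℂ V) := by
            rw [mul_assoc (U : Module.End ℂ V), ← mul_assoc, Units.inv_mul, one_mul]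
    show ((U⁻¹ : (Module.End ℂ V)ˣ) : Module.End ℂ V) * (T x * T y) * ρ n = ρ n * (((U⁻¹ : (Module.End ℂ V)ˣ) : Module.End ℂ V) * (T x * T y))
    rw [mul_assoc, hcomm2, ← mul_assoc, h2, mul_assoc])
  have hmain : T x * T y = c • T (x * y) := by
    have h2 : (U : Module.End ℂ V) * (((U⁻¹ : (Module.End ℂ V)ˣ) : Module.End ℂ V) * (T x * T y)) = (U : Module.End ℂ V) * (c • LinearMap.id) :=
      congrArg _ hc
    rw [← mul_assoc, Units.mul_inv, one_mul] at h2
    rw [h2, hU]
    refine LinearMap.ext fun v => ?_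
    simp
  have hdet : μ x * μ y = (c : ℂ) ^ d * μ (x * y) := by
    have h2 := congrArg LinearMap.det hmain
    rw [map_mul, LinearMap.det_smul, hTd, hTd, hTd, hdim] at h2
    exact_mod_cast h2
  have hc1 : c ^ d = 1 := by
    rw [map_mul, Units.val_mul] at hdet
    have h2 : ((μ x : ℂˣ) : ℂ) * μ y ≠ 0 := mul_ne_zero (μ x).ne_zero (μ y).ne_zero
    have h3 : (c ^ d - 1) * (((μ x : ℂˣ) : ℂ) * μ y) = 0 := by
      rw [sub_mul, one_mul, ← hdet, sub_self]
    rcases mul_eq_zero.mp h3 with h4 | h4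
    · exact sub_eq_zero.mp h4
    · exact absurd h4 h2
  have hc0 : c ≠ 0 := by
    intro h0
    rw [h0, zero_pow hd0.ne'] at hc1
    exact zero_ne_one hc1
  refine ⟨Units.mk0 c hc0, ?_, ?_⟩
  · apply Units.ext
    simpa using hc1
  · exact hmain

theorem exists_ext (θ : N → ℂ) (hθ : IsIrrCharacter N θ)
    (hinv : ∀ (g : G) (n : N), θ ⟨g * n * g⁻¹, hN.conj_mem (n : G) n.2 g⟩ = θ n) (d : ℕ) (hd : θ 1 = d)
    (hcop : N.index.Coprime d) (μ : G →* ℂˣ) (hμ : ∀ n : N, (μ n : ℂ) = detChar θ n) :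
    ∃ χ : G → ℂ, IsIrrCharacter G χ ∧ ∀ n : N, χ n = θ n := by
  classical
  letI : Fintype N := Fintype.ofFinite N
  obtain ⟨k, ρ, hρ, rfl⟩ := hθ
  have hpos := Cfsg.Agent.Lib.CharBasic.finrank_pos_of_irreducible ρ hρ
  haveI : Nontrivial (Fin k → ℂ) := Module.nontrivial_of_finrank_pos hpos
  have hdim := finrank_eq_of_one ρ d hd
  have hd0 : d ≠ 0 := by
    rw [← hdim]
    exact hpos.ne'
  have hS : ∀ g : G, ∃ S : (Fin k → ℂ) →ₗ[ℂ] (Fin k → ℂ),
      (∀ n v, S (ρ n v) = ρ (MulAut.conjNormal g n) (S v)) ∧ LinearMap.det S = μ g ∧ (g = 1 → S = LinearMap.id) := by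
    intro g
    by_cases hg : g = 1
    · subst hg
      refine ⟨LinearMap.id, fun n v => ?_, ?_, fun _ => rfl⟩
      · simp
      · simp
    · let σ : Representation ℂ N (Fin k → ℂ) := ρ.comp (MulAut.conjNormal g).toMonoidHom
      have hσ : ρ.character = σ.character := by
        funext n
        exact (hinv g n).symm
      obtain ⟨e⟩ := Cfsg.Agent.Lib.CharEquiv.equiv_of_character_eq' ρ σ hσ
      have hdet0 : LinearMap.det (e.toLinearEquiv.toLinearMap) ≠ 0 := by
        exact (LinearEquiv.isUnit_det' e.toLinearEquiv).ne_zero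
      obtain ⟨t, ht⟩ := IsAlgClosed.exists_pow_nat_eq (((μ g : ℂˣ) : ℂ) / LinearMap.det (e.toLinearEquiv.toLinearMap))
        (Nat.pos_of_ne_zero hd0)
      refine ⟨t • e.toLinearEquiv.toLinearMap, fun n v => ?_, ?_, fun h => absurd h hg⟩
      · simp only [LinearMap.smul_apply, map_smul]
        congr 1
        exact Cfsg.Agent.Lib.CharBasic.equiv_intertwine e n v
      · rw [LinearMap.det_smul, Module.finrank_fin_fun]
        have hkd : k = d := by simpa using hdim
        have ht' : t ^ k = ((μ g : ℂˣ) : ℂ) / LinearMap.det (e.toLinearEquiv.toLinearMap) := by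
          have h6 : t ^ k = t ^ d := by rw [hkd]
          rw [h6]
          exact ht
        rw [ht']
        field_simp
  choose S hS1 hS2 hS3 using hS
  obtain ⟨σ, hσ⟩ := exists_rep_of_det N ρ hρ d hdim hcop μ (fun n => by
      rw [← detChar_of_rep, hμ]) S hS1 hS2 (hS3 1 rfl)
  refine ⟨σ.character, ?_, fun n => ?_⟩
  · exact Cfsg.Agent.Lib.CharBasic.isIrrCharacter_character σ (isIrreducible_of_restrict' N ρ σ hσ hρ)
  · show LinearMap.trace ℂ _ (σ n) = LinearMap.trace ℂ _ (ρ n)
    rw [hσ]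

/-- The restriction of the determinantal character. -/
theorem detChar_restrict {χ : G → ℂ} (hχ : IsCharacter G χ) {θ : N → ℂ} (h : ∀ n : N, χ n = θ n) (n : N) :
    detChar χ n = detChar θ n := by
  have h1 : θ = fun y : N => χ (N.subtype y) := by
    funext y
    exact (h y).symm
  rw [h1, detChar_comp N.subtype hχ]
  rfl

/-- The equivalence of the extension theorem. -/
theorem ext_iff_det (θ : N → ℂ) (hθ : IsIrrCharacter N θ)
    (hinv : ∀ (g : G) (n : N), θ ⟨g * n * g⁻¹, hN.conj_mem (n : G) n.2 g⟩ = θ n) (d : ℕ) (hd : θ 1 = d)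
    (hcop : N.index.Coprime d) :
    (∃ χ : G → ℂ, IsIrrCharacter G χ ∧ (∀ n : N, χ n = θ n)) ↔
      ∃ μ : G → ℂ, IsCharacter G μ ∧ μ 1 = 1 ∧ ∀ n : N, μ n = detChar θ n := by
  classical
  letI : Fintype G := Fintype.ofFinite G
  constructor
  · rintro ⟨χ, hχ, h⟩
    have hχ' := Cfsg.Agent.Lib.CharOps.IsIrrCharacter.isCharacter' hχ
    exact ⟨detChar χ, isCharacter_detChar hχ', detChar_one hχ', detChar_restrict N hχ' h⟩
  · rintro ⟨μ, h1, h2, h3⟩
    exact exists_ext N θ hθ hinv d hd hcop (Cfsg.Agent.Lib.CharAb.homOfDegreeOne h1 h2) h3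

end Ext

end Cfsg.Agent.Lib.CharDet2
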