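import Cfsg.Agent.Lib.CharDet2

/-!
# Canonical extensions; transfer for linear characters
-/

set_option autoImplicit false
set_option linter.all false

namespace Cfsg.Agent.Lib.CharDet3

open Cfsg Cfsg.Agent.Lib.CharOps Cfsg.Agent.Lib.CharIrr Cfsg.Agent.Lib.CharDet Cfsg.Agent.Lib.CharDet2
open scoped ComplexConjugate

universe u

section Uniq

variable {G : Type u} [Group G] [Finite G] (N : Subgroup G) [hN : N.Normal]

theorem hom_pow_index_eq_one (l : G →* ℂˣ) (h : ∀ n : N, l n = 1) : l ^ N.index = 1 := by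
  ext g
  have h1 : g ^ N.index ∈ N := Subgroup.pow_index_mem N g
  have h2 := h ⟨_, h1⟩
  have h3 : (l ^ N.index) g = l (g ^ N.index) := by simp
  rw [h3]
  simpa using congrArg Units.val h2

/-- The unique extension of given determinant. -/
theorem existsUnique_ext_det (θ : N → ℂ) (hθ : IsIrrCharacter N θ) (d : ℕ) (hd : θ 1 = d)
    (hcop : N.index.Coprime d) (hext : ∃ η : G → ℂ, IsIrrCharacter G η ∧ ∀ n : N, η n = θ n)
    (μ : G →* ℂˣ) (hμ : ∀ n : N, (μ n : ℂ) = detChar θ n) :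
    ∃! χ : G → ℂ, IsIrrCharacter G χ ∧ (∀ n : N, χ n = θ n) ∧ detChar χ = fun g => (μ g : ℂ) := by
  classical
  letI : Fintype G := Fintype.ofFinite G
  obtain ⟨η, hη, hηN⟩ := hext
  have hη' := IsIrrCharacter.isCharacter' hη
  let δ : G →* ℂˣ := μ * (detHom hη')⁻¹
  have hδN : ∀ n : N, δ n = 1 := by
    intro n
    apply Units.ext
    have h1 : ((detHom hη' n : ℂˣ) : ℂ) = μ n := by
      rw [detHom_apply, hμ, detChar_restrict N hη' hηN]
    have h2 : detHom hη' n = μ n := Units.ext h1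
    simp [δ, h2]
  have hδm := hom_pow_index_eq_one N δ hδN
  have hη1 : η 1 = d := by
    have := hηN 1
    simpa [hd] using this
  obtain ⟨u, v, huv⟩ : ∃ u v : ℤ, (d : ℤ) * u + (N.index : ℤ) * v = 1 := by
    have h := Nat.gcd_eq_gcd_ab d N.index
    rw [hcop.symm.gcd_eq_one] at h
    exact ⟨_, _, by rw [← h]; simp⟩
  let l₀ : G →* ℂˣ := (zpowGroupHom u).comp δ
  have hl₀ : ∀ g, (l₀ g) ^ d = δ g := by
    intro g
    have h2 : (δ g) ^ ((d : ℤ) * u + (N.index : ℤ) * v) = δ g := by rw [huv, zpow_one]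
    have h3 : (δ g) ^ N.index = 1 := by
      have := congrArg (fun f : G →* ℂˣ => f g) hδm
      simpa using this
    rw [zpow_add, zpow_mul, zpow_mul (δ g) (N.index : ℤ), zpow_natCast, zpow_natCast, h3, one_zpow, mul_one,
      ← zpow_natCast (δ g), ← zpow_mul, mul_comm, zpow_mul, zpow_natCast] at h2
    exact h2
  have hl₀N : ∀ n : N, l₀ n = 1 := by
    intro n
    show (δ n) ^ u = 1
    rw [hδN, one_zpow]
  have hdet : ∀ g, detChar (fun x => (l₀ x : ℂ) * η x) g = (μ g : ℂ) := by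
    intro g
    rw [detChar_twist hη' l₀ d hη1]
    have h1 : (l₀ g : ℂ) ^ d = (δ g : ℂ) := by
      rw [← hl₀]
      simp
    rw [h1, ← detHom_apply hη']
    simp only [δ, MonoidHom.mul_apply, MonoidHom.inv_apply]
    rw [← Units.val_mul]
    simp
  refine ⟨fun x => (l₀ x : ℂ) * η x, ⟨?_, ?_, ?_⟩, ?_⟩
  · exact (Cfsg.Agent.Lib.GlaubM.twist l₀ ⟨η, hη⟩).2
  · intro n
    show (l₀ n : ℂ) * η n = θ n
    rw [hl₀N, hηN]
    simp
  · funext g
    exact hdet g
  · rintro χ' ⟨h1, h2, h3⟩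
    have hχ₀ : IsCharacter G (fun x => (l₀ x : ℂ) * η x) :=
      IsIrrCharacter.isCharacter' (Cfsg.Agent.Lib.GlaubM.twist l₀ ⟨η, hη⟩).2
    obtain ⟨l, hl1, hl2⟩ := ext_twist N hχ₀ (IsIrrCharacter.isCharacter' h1) hθ
      (fun n => by
        show (l₀ n : ℂ) * η n = θ n
        rw [hl₀N, hηN]
        simp) h2
    have hl3 : l ^ d = 1 := by
      ext g
      have h4 : χ' = fun x => (l x : ℂ) * (fun x => (l₀ x : ℂ) * η x) x := funext hl2
      have h5 := congrFun h3 g
      rw [h4, detChar_twist hχ₀ l d (by simp [hη1]), hdet] at h5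
      have h6 : (μ g : ℂ) ≠ 0 := (μ g).ne_zero
      have h7 : ((l g : ℂ) ^ d - 1) * (μ g : ℂ) = 0 := by
        rw [sub_mul, h5, one_mul, sub_self]
      rcases mul_eq_zero.mp h7 with h8 | h8
      · simpa using sub_eq_zero.mp h8
      · exact absurd h8 h6
    have hl4 := hom_pow_index_eq_one N l hl1
    have hl5 : l = 1 := by
      have h4 : orderOf l ∣ d := orderOf_dvd_of_pow_eq_one hl3
      have h5 : orderOf l ∣ N.index := orderOf_dvd_of_pow_eq_one hl4
      have h6 : orderOf l ∣ Nat.gcd N.index d := Nat.dvd_gcd h5 h4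
      rw [hcop.gcd_eq_one, Nat.dvd_one] at h6
      exact orderOf_eq_one_iff.mp h6
    funext g
    rw [hl2, hl5]
    simp

end Uniq

section Transfer

variable {G : Type u} [Group G] [Finite G] (N H : Subgroup G) [hN : N.Normal]

/-- The value of the transfer of a character on a normal subgroup on which it is invariant. -/
theorem transfer_apply_normal (hNH : N ≤ H) (ν : H →* ℂˣ) (l : N →* ℂˣ)
    (hν : ∀ n : N, ν ⟨n, hNH n.2⟩ = l n)
    (hinv : ∀ (g : G) (n : N), l (MulAut.conjNormal g n) = l n) (n : N) :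
    (ν.transfer (n : G)) = l n ^ H.index := by
  classical
  let T : H.LeftTransversal := default
  rw [MonoidHom.transfer_def ν T]
  unfold Subgroup.leftTransversals.diff
  simp only
  have htriv : ∀ q : G ⧸ H, (n : G)⁻¹ • q = q := by
    intro q
    induction q using QuotientGroup.induction_on with
    | H x =>
      show (QuotientGroup.mk ((n : G)⁻¹ * x) : G ⧸ H) = QuotientGroup.mk x
      apply QuotientGroup.eq.mpr
      have h1 : x⁻¹ * (n : G) * x ∈ N := by
        have := hN.conj_mem n n.2 x⁻¹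
        simpa using this
      have h2 := hNH h1
      simpa [mul_assoc] using h2
  letI := H.fintypeQuotientOfFiniteIndex
  have hall : ∀ q : G ⧸ H, ∀ hmem, ν ⟨((T.2.leftQuotientEquiv q : G))⁻¹ * ((n : G) • T).2.leftQuotientEquiv q, hmem⟩ = l n := by
    intro q hmem
    have h1 : ((((n : G) • T).2.leftQuotientEquiv q : G)) = (n : G) * (T.2.leftQuotientEquiv q : G) := by
      rw [Subgroup.smul_apply_eq_smul_apply_inv_smul, htriv]
      rfl
    have h2 := hν (MulAut.conjNormal ((T.2.leftQuotientEquiv q : G))⁻¹ n)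
    rw [hinv] at h2
    rw [← h2]
    congr 1
    apply Subtype.ext
    simp only [MulAut.conjNormal_apply, inv_inv]
    rw [h1, mul_assoc]
  rw [Finset.prod_congr rfl (fun q _ => hall q _), Finset.prod_const, Finset.card_univ,
    ← Nat.card_eq_fintype_card, ← Subgroup.index_eq_card]

theorem transfer_pow_eq_one [H.FiniteIndex] (ν : H →* ℂˣ) (k : ℕ) (hk : ∀ x, ν x ^ k = 1) (g : G) :
    (ν.transfer g) ^ k = 1 := by
  classical
  let T : H.LeftTransversal := default
  rw [MonoidHom.transfer_def ν T]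
  unfold Subgroup.leftTransversals.diff
  simp only
  letI := H.fintypeQuotientOfFiniteIndex
  rw [← Finset.prod_pow]
  exact Finset.prod_eq_one fun q _ => hk _

end Transfer

section LinearExt

variable {G : Type u} [Group G] [Finite G] (N : Subgroup G) [hN : N.Normal]

/-- Characters as functions. -/
noncomputable def funHom (K : Type*) [Group K] : (K →* ℂˣ) →* (K → ℂ) where
  toFun l := fun g => (l g : ℂ)
  map_one' := by
    funext g
    simp
  map_mul' a b := by
    funext g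
    simp

theorem funHom_apply (K : Type*) [Group K] (l : K →* ℂˣ) (g : K) : funHom K l g = (l g : ℂ) := rfl

theorem funHom_injective (K : Type*) [Group K] : Function.Injective (funHom K) := by
  intro a b h
  ext g
  exact congrFun h g

theorem orderOf_fun {K : Type*} [Group K] (l : K →* ℂˣ) : orderOf (fun g => (l g : ℂ)) = orderOf l :=
  orderOf_injective (funHom K) (funHom_injective K) l

theorem orderOf_of_degree_one {K : Type u} [Group K] [Fintype K] {f : K → ℂ} (h1 : IsCharacter K f) (h2 : f 1 = 1) :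
    orderOf f = orderOf (Cfsg.Agent.Lib.CharAb.homOfDegreeOne h1 h2) :=
  orderOf_fun (Cfsg.Agent.Lib.CharAb.homOfDegreeOne h1 h2)

theorem hom_order_apply {K : Type*} [Group K] (f : K →* ℂˣ) (g : K) : (f g) ^ orderOf f = 1 := by
  have h1 : (f ^ orderOf f) g = (f g) ^ orderOf f := rfl
  rw [← h1, pow_orderOf_eq_one]
  rfl

/-- Burnside type extension criterion by transfer. -/
theorem linear_ext_of_syl (l : N →* ℂˣ)
    (hinv : ∀ (g : G) (n : N), l (MulAut.conjNormal g n) = l n)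
    (hsyl : ∀ p : ℕ, p.Prime → p ∣ orderOf l → ∃ (H : Subgroup G) (hNH : N ≤ H) (ν : H →* ℂˣ),
      H.index.Coprime p ∧ ∀ n : N, ν ⟨n, hNH n.2⟩ = l n) :
    ∃ μ : G →* ℂˣ, ∀ n : N, μ n = l n := by
  classical
  let res : (G →* ℂˣ) →* (N →* ℂˣ) := MonoidHom.compHom' N.subtype
  let L : Subgroup (N →* ℂˣ) := res.range
  haveI : L.Normal := ⟨fun n hn g => by
    have h : g * n * g⁻¹ = n := by
      ext x
      show ((g x * n x * (g x)⁻¹ : ℂˣ) : ℂ) = n x
      rw [mul_comm (g x), mul_inv_cancel_right]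
    rw [h]
    exact hn⟩
  have hs : orderOf (QuotientGroup.mk l : (N →* ℂˣ) ⧸ L) = 1 := by
    by_contra hne
    obtain ⟨p, hp, hps⟩ := Nat.exists_prime_and_dvd hne
    have h1 : orderOf (QuotientGroup.mk l : (N →* ℂˣ) ⧸ L) ∣ orderOf l :=
      orderOf_map_dvd (QuotientGroup.mk' L) l
    obtain ⟨H, hNH, ν, hcop, hν⟩ := hsyl p hp (hps.trans h1)
    have h2 : res ν.transfer = l ^ H.index := by
      ext n
      have h3 := transfer_apply_normal N H hNH ν l hν hinv n
      show ((ν.transfer (n : G) : ℂˣ) : ℂ) = _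
      rw [h3]
      simp
    have h3 : (QuotientGroup.mk l : (N →* ℂˣ) ⧸ L) ^ H.index = 1 := by
      rw [← QuotientGroup.mk_pow, QuotientGroup.eq_one_iff]
      exact ⟨_, h2⟩
    have h4 := orderOf_dvd_of_pow_eq_one h3
    exact (hp.coprime_iff_not_dvd.mp hcop.symm) (hps.trans h4)
  have h5 : (QuotientGroup.mk l : (N →* ℂˣ) ⧸ L) = 1 := orderOf_eq_one_iff.mp hs
  rw [QuotientGroup.eq_one_iff] at h5
  obtain ⟨μ, hμ⟩ := h5
  exact ⟨μ, fun n => by
    rw [← hμ]
    rfl⟩

/-- The unique extension of a linear character of coprime order. -/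
theorem linear_ext (l : N →* ℂˣ)
    (hinv : ∀ (g : G) (n : N), l (MulAut.conjNormal g n) = l n)
    (hcop : N.index.Coprime (orderOf l)) :
    ∃ μ : G →* ℂˣ, (∀ n : N, μ n = l n) ∧ orderOf μ = orderOf l ∧
      ∀ μ' : G →* ℂˣ, (∀ n : N, μ' n = l n) → N.index.Coprime (orderOf μ') → μ' = μ := by
  classical
  let τ : G →* ℂˣ := l.transfer
  have hτ : ∀ n : N, τ n = l n ^ N.index := fun n =>
    transfer_apply_normal N N le_rfl l l (fun _ => rfl) hinv n
  have hlo : ∀ x, l x ^ orderOf l = 1 := by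
    intro x
    exact hom_order_apply l x
  have hτo : ∀ g, τ g ^ orderOf l = 1 := transfer_pow_eq_one N l _ hlo
  obtain ⟨u, v, huv⟩ : ∃ u v : ℤ, (N.index : ℤ) * u + (orderOf l : ℤ) * v = 1 := by
    have h := Nat.gcd_eq_gcd_ab N.index (orderOf l)
    rw [hcop.gcd_eq_one] at h
    exact ⟨_, _, by rw [← h]; simp⟩
  let μ : G →* ℂˣ := (zpowGroupHom u).comp τ
  have hμ : ∀ n : N, μ n = l n := by
    intro n
    show (τ n) ^ u = l n
    rw [hτ]
    have h2 : (l n) ^ ((N.index : ℤ) * u + (orderOf l : ℤ) * v) = l n := by rw [huv, zpow_one]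
    rw [zpow_add, zpow_mul, zpow_mul (l n) (orderOf l : ℤ), zpow_natCast, zpow_natCast, hlo, one_zpow, mul_one] at h2
    exact h2
  have hμo : μ ^ orderOf l = 1 := by
    ext g
    have h1 : (μ ^ orderOf l) g = (τ g ^ u) ^ orderOf l := rfl
    rw [h1, ← zpow_natCast, ← zpow_mul, mul_comm, zpow_mul, zpow_natCast, hτo, one_zpow]
    rfl
  have hord : orderOf μ = orderOf l := by
    apply Nat.dvd_antisymm (orderOf_dvd_of_pow_eq_one hμo)
    apply orderOf_dvd_of_pow_eq_one
    ext n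
    have h1 : (l ^ orderOf μ) n = (μ n) ^ orderOf μ := by
      rw [hμ]
      rfl
    rw [h1]
    exact congrArg Units.val (hom_order_apply μ n)
  refine ⟨μ, hμ, hord, fun μ' h1 h2 => ?_⟩
  let δ : G →* ℂˣ := μ' * μ⁻¹
  have hδN : ∀ n : N, δ n = 1 := by
    intro n
    simp [δ, h1, hμ]
  have h3 := hom_pow_index_eq_one N δ hδN
  have h4 : δ ^ (orderOf μ' * orderOf μ) = 1 := by
    ext g
    have h5 : (δ ^ (orderOf μ' * orderOf μ)) g = (μ' g * (μ g)⁻¹) ^ (orderOf μ' * orderOf μ) := rfl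
    rw [h5, mul_pow, inv_pow, pow_mul, hom_order_apply, one_pow, mul_comm (orderOf μ'), pow_mul, hom_order_apply, one_pow, inv_one, one_mul]
    rfl
  have h6 : orderOf δ ∣ N.index := orderOf_dvd_of_pow_eq_one h3
  have h7 : orderOf δ ∣ orderOf μ' * orderOf μ := orderOf_dvd_of_pow_eq_one h4
  have h8 : N.index.Coprime (orderOf μ' * orderOf μ) := Nat.Coprime.mul_right h2 (by rw [hord]; exact hcop)
  have h9 : orderOf δ ∣ Nat.gcd N.index (orderOf μ' * orderOf μ) := Nat.dvd_gcd h6 h7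
  rw [h8.gcd_eq_one, Nat.dvd_one] at h9
  have h10 : δ = 1 := orderOf_eq_one_iff.mp h9
  exact mul_inv_eq_one.mp h10

/-- Invariance of the determinantal character. -/
theorem detChar_invariant (θ : N → ℂ) (hθ : IsCharacter N θ)
    (hinv : ∀ (g : G) (n : N), θ ⟨g * n * g⁻¹, hN.conj_mem (n : G) n.2 g⟩ = θ n) (g : G) (n : N) :
    detChar θ (MulAut.conjNormal g n) = detChar θ n := by
  have h1 := detChar_comp (MulAut.conjNormal g).toMonoidHom hθ n
  have h2 : (fun y : N => θ ((MulAut.conjNormal g).toMonoidHom y)) = θ := by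
    funext y
    exact hinv g y
  rw [h2] at h1
  exact h1.symm

theorem detOrder_eq {K : Type u} [Group K] [Finite K] {θ : K → ℂ} (hθ : IsCharacter K θ) :
    detOrder θ = orderOf (detHom hθ) :=
  orderOf_fun (detHom hθ)

/-- **The canonical extension.** -/
theorem canonical_ext (θ : N → ℂ) (hθ : IsIrrCharacter N θ)
    (hinv : ∀ (g : G) (n : N), θ ⟨g * n * g⁻¹, hN.conj_mem (n : G) n.2 g⟩ = θ n) (d : ℕ) (hd : θ 1 = d)
    (hcop : N.index.Coprime (detOrder θ * d)) :
    ∃ χ : G → ℂ, (IsIrrCharacter G χ ∧ (∀ n : N, χ n = θ n) ∧ detOrder χ = detOrder θ) ∧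
      ∀ χ' : G → ℂ, IsIrrCharacter G χ' → (∀ n : N, χ' n = θ n) → N.index.Coprime (detOrder χ') → χ' = χ := by
  classical
  letI : Fintype G := Fintype.ofFinite G
  letI : Fintype N := Fintype.ofFinite N
  have hθ' := IsIrrCharacter.isCharacter' hθ
  have h1 : N.index.Coprime (detOrder θ) := Nat.Coprime.coprime_mul_right_right hcop
  have h2 : N.index.Coprime d := Nat.Coprime.coprime_mul_left_right hcop
  have hD := detOrder_eq hθ'
  obtain ⟨μ, hμ1, hμ2, hμ3⟩ := linear_ext N (detHom hθ')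
    (fun g n => Units.ext (detChar_invariant N θ hθ' hinv g n)) (by rw [← hD]; exact h1)
  have hμ1' : ∀ n : N, (μ n : ℂ) = detChar θ n := fun n => by
    rw [hμ1, detHom_apply]
  obtain ⟨η, hη1, hη2⟩ := exists_ext N θ hθ hinv d hd h2 μ hμ1'
  obtain ⟨χ, ⟨hχ1, hχ2, hχ3⟩, hχ4⟩ := existsUnique_ext_det N θ hθ d hd h2 ⟨η, hη1, hη2⟩ μ hμ1'
  refine ⟨χ, ⟨hχ1, hχ2, ?_⟩, ?_⟩
  · unfold detOrder
    rw [hχ3, orderOf_fun, hμ2, ← hD]
    rfl
  · intro χ' h3 h4 h5
    have h3' := IsIrrCharacter.isCharacter' h3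
    apply hχ4
    refine ⟨h3, h4, ?_⟩
    have h6 : detHom h3' = μ := hμ3 _ (fun n => Units.ext (by
      rw [detHom_apply, detHom_apply]
      exact detChar_restrict N h3' h4 n)) (by
        rw [← detOrder_eq h3']
        exact h5)
    funext g
    rw [← h6]
    rfl

end LinearExt

end Cfsg.Agent.Lib.CharDet3
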