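import Cfsg.Agent.Lib.CharNormal

/-!
# Frobenius groups: elementary facts, the induced characters, the class number
-/

set_option linter.unusedSectionVars false
set_option linter.style.haveILetI false

namespace Cfsg.Agent.Lib.CharFrob

open scoped ComplexConjugate
open Module Cfsg Cfsg.Agent.Lib.CharCore Cfsg.Agent.Lib.CharBasic Cfsg.Agent.Lib.CharIrr
  Cfsg.Agent.Lib.CharOps Cfsg.Agent.Lib.CharAb Cfsg.Agent.Lib.CharPerm Cfsg.Agent.Lib.CharNormal

universe u v w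

variable {G : Type u} [Group G] [Finite G]

/-- Every element of `K h` is a `K`-conjugate of `h`. -/
theorem frob_conj (K : Subgroup G) [hK : K.Normal] {h : G}
    (hfpf : ∀ k ∈ K, h * k = k * h → k = 1) {y : G} (hy : y ∈ K) :
    ∃ z ∈ K, y * h = z * h * z⁻¹ := by
  let φ : K → K := fun z => ⟨(z : G) * h * (z : G)⁻¹ * h⁻¹, by
    have h1 : h * (z : G)⁻¹ * h⁻¹ ∈ K := hK.conj_mem _ (K.inv_mem z.2) h
    have h2 := K.mul_mem z.2 h1
    simpa [mul_assoc] using h2⟩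
  have hinj : Function.Injective φ := by
    intro a b hab
    have h1 : (a : G) * h * (a : G)⁻¹ * h⁻¹ = (b : G) * h * (b : G)⁻¹ * h⁻¹ :=
      congrArg Subtype.val hab
    have h2 : (a : G) * h * (a : G)⁻¹ = (b : G) * h * (b : G)⁻¹ := mul_right_cancel h1
    have h3 : h * ((b : G)⁻¹ * a) = ((b : G)⁻¹ * a) * h := by
      have : h = (b : G)⁻¹ * ((b : G) * h * (b : G)⁻¹) * b := by group
      calc h * ((b : G)⁻¹ * a) = (b : G)⁻¹ * ((b : G) * h * (b : G)⁻¹) * a := by group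
        _ = (b : G)⁻¹ * ((a : G) * h * (a : G)⁻¹) * a := by rw [h2]
        _ = ((b : G)⁻¹ * a) * h := by group
    have h4 := hfpf _ (K.mul_mem (K.inv_mem b.2) a.2) h3
    apply Subtype.ext
    exact (inv_mul_eq_one.mp h4).symm
  obtain ⟨z, hz⟩ := (Finite.surjective_of_injective hinj) ⟨y, hy⟩
  refine ⟨z, z.2, ?_⟩
  have h1 : (z : G) * h * (z : G)⁻¹ * h⁻¹ = y := congrArg Subtype.val hz
  rw [← h1]
  group

/-- A class of `K` fixed by a fixed point free `h` is trivial. -/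
theorem frob_fixed_class (K : Subgroup G) [hK : K.Normal] {h : G}
    (hfpf : ∀ k ∈ K, h * k = k * h → k = 1) {k y : G} (hk : k ∈ K) (hy : y ∈ K)
    (hc : h * k * h⁻¹ = y * k * y⁻¹) : k = 1 := by
  obtain ⟨z, hz, hzc⟩ := frob_conj K hfpf (K.inv_mem hy)
  -- `y⁻¹ h` commutes with `k`
  have h1 : (y⁻¹ * h) * k = k * (y⁻¹ * h) := by
    have h2 : h * k = y * k * y⁻¹ * h := by
      rw [← hc]
      group
    calc (y⁻¹ * h) * k = y⁻¹ * (h * k) := by group
      _ = y⁻¹ * (y * k * y⁻¹ * h) := by rw [h2]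
      _ = k * (y⁻¹ * h) := by group
  rw [hzc] at h1
  have h3 : h * (z⁻¹ * k * z) = (z⁻¹ * k * z) * h := by
    have h4 : z * h * z⁻¹ * k = k * (z * h * z⁻¹) := h1
    calc h * (z⁻¹ * k * z) = z⁻¹ * (z * h * z⁻¹ * k) * z := by group
      _ = z⁻¹ * (k * (z * h * z⁻¹)) * z := by rw [h4]
      _ = (z⁻¹ * k * z) * h := by group
  have h5 : z⁻¹ * k * z ∈ K := by
    have := hK.conj_mem k hk z⁻¹
    simpa using this
  have h6 := hfpf _ h5 h3
  have : k = z * (z⁻¹ * k * z) * z⁻¹ := by group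
  rw [this, h6]
  group

variable (K H : Subgroup G)

/-- The factorization `G = K H`. -/
theorem exists_factor [hK : K.Normal] (hKH' : K ⊔ H = ⊤) (g : G) : ∃ k ∈ K, ∃ h ∈ H, g = k * h := by
  have hg : g ∈ ((K ⊔ H : Subgroup G) : Set G) := by rw [hKH']; trivial
  rw [Subgroup.normal_mul] at hg
  obtain ⟨k, hk, h, hh, rfl⟩ := Set.mem_mul.mp hg
  exact ⟨k, hk, h, hh, rfl⟩

/-- The equivalence `K × H ≃ G`. -/
noncomputable def prodEquiv [hK : K.Normal] (hKH : K ⊓ H = ⊥) (hKH' : K ⊔ H = ⊤) : K × H ≃ G :=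
  Equiv.ofBijective (fun p => (p.1 : G) * p.2) (by
    constructor
    · rintro ⟨a, b⟩ ⟨c, d⟩ h
      have h1 : (a : G) * b = c * d := h
      have h2 : (c : G)⁻¹ * a = d * (b : G)⁻¹ := by
        calc (c : G)⁻¹ * a = (c : G)⁻¹ * (a * b) * (b : G)⁻¹ := by group
          _ = (c : G)⁻¹ * (c * d) * (b : G)⁻¹ := by rw [h1]
          _ = d * (b : G)⁻¹ := by group
      have h3 : (c : G)⁻¹ * a ∈ K ⊓ H := ⟨K.mul_mem (K.inv_mem c.2) a.2, by
        rw [h2]; exact H.mul_mem d.2 (H.inv_mem b.2)⟩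
      rw [hKH, Subgroup.mem_bot] at h3
      have h4 : (a : G) = c := (inv_mul_eq_one.mp h3).symm
      have h5 : (b : G) = d := by
        have := h1
        rw [h4] at this
        exact mul_left_cancel this
      rw [Subtype.ext h4, Subtype.ext h5]
    · intro g
      obtain ⟨k, hk, h, hh, rfl⟩ := exists_factor K H hKH' g
      exact ⟨(⟨k, hk⟩, ⟨h, hh⟩), rfl⟩)

@[simp] theorem prodEquiv_apply [hK : K.Normal] (hKH : K ⊓ H = ⊥) (hKH' : K ⊔ H = ⊤) (p : K × H) :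
    prodEquiv K H hKH hKH' p = (p.1 : G) * p.2 := rfl

/-- Centralizers of nontrivial elements of `K` lie in `K`. -/
theorem centralizer_le_kernel [hK : K.Normal] (hKH' : K ⊔ H = ⊤)
    (hfpf : ∀ h ∈ H, h ≠ 1 → ∀ k ∈ K, h * k = k * h → k = 1) {k g : G} (hk : k ∈ K) (hk1 : k ≠ 1)
    (hg : g * k = k * g) : g ∈ K := by
  obtain ⟨y, hy, h, hh, rfl⟩ := exists_factor K H hKH' g
  by_cases h1 : h = 1
  · simpa [h1] using hy
  · exfalso
    apply hk1
    apply frob_fixed_class K (h := h) (hfpf h hh h1) hk (K.inv_mem hy)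
    have : y * h * k = k * (y * h) := hg
    calc h * k * h⁻¹ = y⁻¹ * (y * h * k) * h⁻¹ := by group
      _ = y⁻¹ * (k * (y * h)) * h⁻¹ := by rw [this]
      _ = y⁻¹ * k * y⁻¹⁻¹ := by group

/-- Centralizers of nontrivial elements of `H` lie in `H`. -/
theorem centralizer_le_complement [hK : K.Normal] (hKH : K ⊓ H = ⊥) (hKH' : K ⊔ H = ⊤)
    (hfpf : ∀ h ∈ H, h ≠ 1 → ∀ k ∈ K, h * k = k * h → k = 1) {h g : G} (hh : h ∈ H) (hh1 : h ≠ 1)
    (hg : g * h = h * g) : g ∈ H := by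
  obtain ⟨y, hy, h', hh', rfl⟩ := exists_factor K H hKH' g
  -- `h₁ = h' h h'⁻¹` and `y h₁ y⁻¹ = h`
  have h1 : y * (h' * h * h'⁻¹) * y⁻¹ = h := by
    have : y * h' * h = h * (y * h') := hg
    calc y * (h' * h * h'⁻¹) * y⁻¹ = (y * h' * h) * (y * h')⁻¹ := by group
      _ = h * (y * h') * (y * h')⁻¹ := by rw [this]
      _ = h := by group
  have hmem : h' * h * h'⁻¹ ∈ H := H.mul_mem (H.mul_mem hh' hh) (H.inv_mem hh')
  -- compare modulo `K`
  obtain ⟨u, hu⟩ : ∃ u, u = h' * h * h'⁻¹ := ⟨_, rfl⟩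
  rw [← hu] at h1 hmem
  have h2 : u * h⁻¹ ∈ K ⊓ H := by
    refine ⟨?_, H.mul_mem hmem (H.inv_mem hh)⟩
    have h3 : u * h⁻¹ = (u * y * u⁻¹) * y⁻¹ := by
      have h8 : h⁻¹ = y * u⁻¹ * y⁻¹ := by
        rw [← h1]
        group
      rw [h8]
      group
    rw [h3]
    exact K.mul_mem (hK.conj_mem _ hy u) (K.inv_mem hy)
  rw [hKH, Subgroup.mem_bot] at h2
  have h5 : u = h := mul_inv_eq_one.mp h2
  rw [h5] at h1
  have h6 : h * y = y * h := by
    have : y * h = h * y := by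
      calc y * h = y * h * y⁻¹ * y := by group
        _ = h * y := by rw [h1]
    exact this.symm
  have h7 := hfpf h hh hh1 y hy h6
  subst h7
  simpa using hh'

end Cfsg.Agent.Lib.CharFrob
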