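import Cfsg.Agent.Lib.CharDet3
import Cfsg.Agent.Lib.CharInflate
import Cfsg.Agent.Lib.CharCliff2
import Cfsg.Agent.Lib.CharKernel
import Cfsg.Agent.Lib.CharBlockDefect

/-!
# Gallagher's theorem; restriction of irreducible characters of degree coprime to the index
-/

set_option autoImplicit false
set_option linter.all false

namespace Cfsg.Agent.Lib.CharGal

open Cfsg Cfsg.Agent.Lib.CharOps Cfsg.Agent.Lib.CharIrr Cfsg.Agent.Lib.CharDet Cfsg.Agent.Lib.CharDet2
  Cfsg.Agent.Lib.CharDet3 Cfsg.Agent.Lib.CharAb Cfsg.Agent.Lib.CharInflate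
open scoped ComplexConjugate

universe u

section Self

variable {G : Type u} [Group G] [Fintype G]

theorem classInner_self_ne_zero {a : G → ℂ} (h : a 1 ≠ 0) : classInner a a ≠ 0 := by
  classical
  unfold classInner
  have hG : ((Nat.card G : ℂ))⁻¹ ≠ 0 := inv_ne_zero (by exact_mod_cast Nat.card_pos.ne')
  refine mul_ne_zero hG ?_
  have h1 : ∑ g : G, a g * conj (a g) = ((∑ g : G, Complex.normSq (a g) : ℝ) : ℂ) := by
    push_cast
    exact Finset.sum_congr rfl fun g _ => Complex.mul_conj _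
  rw [h1]
  have h2 : 0 < ∑ g : G, Complex.normSq (a g) := by
    apply Finset.sum_pos' (fun g _ => Complex.normSq_nonneg _)
    exact ⟨1, Finset.mem_univ _, Complex.normSq_pos.mpr h⟩
  exact_mod_cast h2.ne'

variable (N : Subgroup G) [hN : N.Normal] [Fintype (G ⧸ N)]

open scoped Classical in
theorem sum_degree_inflate (g : G) :
    ∑ β : IrrCharacter (G ⧸ N), (β : G ⧸ N → ℂ) (g : G ⧸ N) * (β : G ⧸ N → ℂ) 1 =
      if g ∈ N then (N.index : ℂ) else 0 := by
  classical
  have h := column_orthogonality (g : G ⧸ N) (1 : G ⧸ N)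
  have h1 : ∀ β : IrrCharacter (G ⧸ N), conj ((β : G ⧸ N → ℂ) 1) = (β : G ⧸ N → ℂ) 1 := by
    intro β
    rw [apply_one_eq_deg, Complex.conj_natCast]
  simp only [h1] at h
  rw [h]
  have h2 : Subgroup.centralizer ({(1 : G ⧸ N)} : Set (G ⧸ N)) = ⊤ := by
    ext x
    simp [Subgroup.mem_centralizer_iff]
  have h3 : IsConj (g : G ⧸ N) 1 ↔ g ∈ N := by
    rw [isConj_comm, isConj_one_right, QuotientGroup.eq_one_iff]
  by_cases hg : g ∈ N
  · rw [if_pos (h3.mpr hg), if_pos hg, h2, Subgroup.card_top, Subgroup.index_eq_card]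
  · rw [if_neg (fun h' => hg (h3.mp h')), if_neg hg]

theorem inner_sum_mul [Fintype N] (ψ a : G → ℂ) :
    ∑ β : IrrCharacter (G ⧸ N), (β : G ⧸ N → ℂ) 1 *
        classInner a (fun g => ψ g * (β : G ⧸ N → ℂ) (g : G ⧸ N)) =
      classInner (fun n : N => a n) (fun n : N => ψ n) := by
  classical
  have h1 : ∀ β : IrrCharacter (G ⧸ N), conj ((β : G ⧸ N → ℂ) 1) = (β : G ⧸ N → ℂ) 1 := by
    intro β
    rw [apply_one_eq_deg, Complex.conj_natCast]
  unfold classInner
  simp only [Finset.mul_sum, map_mul]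
  rw [Finset.sum_comm]
  have h2 : ∀ g : G, ∑ β : IrrCharacter (G ⧸ N), (β : G ⧸ N → ℂ) 1 *
      ((Nat.card G : ℂ)⁻¹ * (a g * (conj (ψ g) * conj ((β : G ⧸ N → ℂ) (g : G ⧸ N))))) =
      (Nat.card G : ℂ)⁻¹ * (a g * conj (ψ g)) * conj (if g ∈ N then (N.index : ℂ) else 0) := by
    intro g
    rw [← sum_degree_inflate N g, map_sum, Finset.mul_sum]
    refine Finset.sum_congr rfl fun β _ => ?_
    rw [map_mul, h1]
    ring
  rw [Finset.sum_congr rfl (fun g _ => h2 g)]
  rw [sum_over_subgroup N _ (fun g hg => by rw [if_neg hg, map_zero, mul_zero])]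
  have hcard : (Nat.card G : ℂ) = (Nat.card N : ℂ) * (N.index : ℂ) := by
    exact_mod_cast (Subgroup.card_mul_index N).symm
  have hN0 : (Nat.card N : ℂ) ≠ 0 := by exact_mod_cast Nat.card_pos.ne'
  have hi0 : (N.index : ℂ) ≠ 0 := by exact_mod_cast Subgroup.index_ne_zero_of_finite
  refine Finset.sum_congr rfl fun n _ => ?_
  rw [if_pos n.2, Complex.conj_natCast, hcard]
  field_simp

/-- **Gallagher**: the products of an extension with inflated irreducible characters are orthonormal. -/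
theorem gallagher_orth [Fintype N] {ψ : G → ℂ} (hψ : IsCharacter G ψ) (hres : IsIrrCharacter N (fun n : N => ψ n))
    (β β' : IrrCharacter (G ⧸ N)) :
    classInner (fun g => ψ g * (β : G ⧸ N → ℂ) (g : G ⧸ N)) (fun g => ψ g * (β' : G ⧸ N → ℂ) (g : G ⧸ N)) =
      if β = β' then 1 else 0 := by
  classical
  have hchar : ∀ γ : IrrCharacter (G ⧸ N), IsCharacter G (fun g => ψ g * (γ : G ⧸ N → ℂ) (g : G ⧸ N)) := fun γ =>
    isCharacter_mul hψ (IsIrrCharacter.isCharacter' (isIrr_inflate N γ.2))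
  have hn : ∀ γ : IrrCharacter (G ⧸ N), ∃ n : ℕ, classInner (fun g => ψ g * (β : G ⧸ N → ℂ) (g : G ⧸ N))
      (fun g => ψ g * (γ : G ⧸ N → ℂ) (g : G ⧸ N)) = n := fun γ =>
    exists_nat_classInner (hchar β) (hchar γ)
  choose n hn using hn
  have h1 := inner_sum_mul N ψ (fun g => ψ g * (β : G ⧸ N → ℂ) (g : G ⧸ N))
  have h2 : (fun m : N => ψ m * (β : G ⧸ N → ℂ) ((m : G) : G ⧸ N)) = ((β : G ⧸ N → ℂ) 1) • (fun m : N => ψ m) := by
    funext m
    have h3 : (((m : G) : G ⧸ N)) = 1 := (QuotientGroup.eq_one_iff (m : G)).mpr m.2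
    simp only [h3, Pi.smul_apply, smul_eq_mul]
    ring
  rw [h2, classInner_smul_left, classInner_irr hres hres, if_pos rfl, mul_one] at h1
  simp only [hn, apply_one_eq_deg] at h1
  have h4 : ∑ γ : IrrCharacter (G ⧸ N), deg γ * n γ = deg β := by exact_mod_cast h1
  have h5 : n β ≠ 0 := by
    intro h0
    have h6 := hn β
    rw [h0, Nat.cast_zero] at h6
    refine classInner_self_ne_zero ?_ h6
    show ψ 1 * (β : G ⧸ N → ℂ) ((1 : G) : G ⧸ N) ≠ 0
    refine mul_ne_zero ?_ (by simpa using degree_ne_zero β.2)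
    intro h7
    apply degree_ne_zero hres
    simpa using h7
  have h6 : deg β * n β ≤ deg β := by
    have h7 := Finset.single_le_sum (f := fun γ => deg γ * n γ) (fun _ _ => Nat.zero_le _) (Finset.mem_univ β)
    rw [h4] at h7
    exact h7
  have hd := deg_pos β
  have h7 : n β = 1 := by
    have h8 : n β ≤ 1 := by
      by_contra h9
      push Not at h9
      have : deg β * 2 ≤ deg β * n β := Nat.mul_le_mul_left _ h9
      omega
    omega
  rw [hn]
  by_cases hβ : β = β'
  · subst hβ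
    rw [if_pos rfl, h7]
    simp
  · rw [if_neg hβ]
    have h8 : deg β * n β + deg β' * n β' ≤ ∑ γ : IrrCharacter (G ⧸ N), deg γ * n γ := by
      have := Finset.add_le_sum (f := fun γ => deg γ * n γ) (s := Finset.univ) (fun _ _ => Nat.zero_le _) (Finset.mem_univ β) (Finset.mem_univ β') hβ
      exact this
    rw [h4, h7, mul_one] at h8
    have h9 : deg β' * n β' = 0 := by omega
    have h10 := deg_pos β'
    have h11 : n β' = 0 := by
      rcases Nat.mul_eq_zero.mp h9 with h | h
      · omega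
      · exact h
    rw [h11]
    simp

theorem isIrr_mul_inflate [Fintype N] {ψ : G → ℂ} (hψ : IsCharacter G ψ) (hres : IsIrrCharacter N (fun n : N => ψ n))
    (β : IrrCharacter (G ⧸ N)) : IsIrrCharacter G (fun g => ψ g * (β : G ⧸ N → ℂ) (g : G ⧸ N)) := by
  apply isIrr_of_norm_one (isCharacter_mul hψ (IsIrrCharacter.isCharacter' (isIrr_inflate N β.2)))
  rw [gallagher_orth N hψ hres, if_pos rfl]

theorem gallagher_inj [Fintype N] {ψ : G → ℂ} (hψ : IsCharacter G ψ) (hres : IsIrrCharacter N (fun n : N => ψ n))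
    (β β' : IrrCharacter (G ⧸ N))
    (h : (fun g => ψ g * (β : G ⧸ N → ℂ) (g : G ⧸ N)) = (fun g => ψ g * (β' : G ⧸ N → ℂ) (g : G ⧸ N))) : β = β' := by
  classical
  have h1 := gallagher_orth N hψ hres β β'
  rw [← h, gallagher_orth N hψ hres β β, if_pos rfl] at h1
  by_contra h2
  rw [if_neg h2] at h1
  exact one_ne_zero h1

/-- **Gallagher**: every irreducible character over an extendible irreducible character is
a product. -/
theorem gallagher_surj [Fintype N] {ψ : G → ℂ} (hψ : IsIrrCharacter G ψ) (hres : IsIrrCharacter N (fun n : N => ψ n))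
    {χ : G → ℂ} (hχ : IsIrrCharacter G χ) (hover : classInner (fun n : N => χ n) (fun n : N => ψ n) ≠ 0) :
    ∃ β : IrrCharacter (G ⧸ N), χ = fun g => ψ g * (β : G ⧸ N → ℂ) (g : G ⧸ N) := by
  classical
  have h1 := inner_sum_mul N ψ χ
  rw [← h1] at hover
  obtain ⟨β, -, hβ⟩ := Finset.exists_ne_zero_of_sum_ne_zero hover
  refine ⟨β, ?_⟩
  have h2 : classInner χ (fun g => ψ g * (β : G ⧸ N → ℂ) (g : G ⧸ N)) ≠ 0 := right_ne_zero_of_mul hβ
  rw [classInner_irr hχ (isIrr_mul_inflate N (IsIrrCharacter.isCharacter' hψ) hres β)] at h2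
  by_contra h3
  rw [if_neg h3] at h2
  exact h2 rfl

end Self

section Restrict

variable {G : Type u} [Group G] [Fintype G] (K : Subgroup G) [hK : K.Normal]

open Cfsg.Agent.Lib.CharNormal Cfsg.Agent.Lib.CharCliff Cfsg.Agent.Lib.CharCliff2 Cfsg.Agent.Lib.CharBlockDefect

/-- An irreducible character of degree prime to the index, over which all invariant characters
of degree prime to the index extend, restricts irreducibly. -/
theorem restrict_irr_of_coprime
    (hext : ∀ θ : K → ℂ, IsIrrCharacter K θ → (∀ (g : G) (n : K), θ ⟨g * n * g⁻¹, hK.conj_mem (n : G) n.2 g⟩ = θ n) →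
      K.index.Coprime (charDegree θ) → ∃ ψ : G → ℂ, IsIrrCharacter G ψ ∧ ∀ n : K, ψ n = θ n)
    {χ : G → ℂ} (hχ : IsIrrCharacter G χ) (hcop : K.index.Coprime (charDegree χ)) :
    IsIrrCharacter K (fun n : K => χ n) := by
  classical
  letI : Fintype K := Fintype.ofFinite K
  letI : Fintype (G ⧸ K) := Fintype.ofFinite _
  obtain ⟨θ, hθ, hov⟩ := Cfsg.Agent.Lib.CharKernel.exists_constituent_restrict K hχ
  have hχ' := IsIrrCharacter.isCharacter' hχ
  have hθ' := IsIrrCharacter.isCharacter' hθ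
  obtain ⟨f, hf⟩ := exists_nat_classInner (isCharacter_restrict K hχ') hθ'
  have hf0 : f ≠ 0 := by
    intro h0
    rw [h0] at hf
    exact hov (by simpa using hf)
  have hdeg := degree_of_over K hχ hθ (d := charDegree θ) hf hf0 (charDegree_cast hθ').symm
  have hdeg2 : charDegree χ = f * (inertia K θ).index * charDegree θ := by
    have h1 := charDegree_cast hχ'
    rw [hdeg] at h1
    exact_mod_cast h1
  have hle : K ≤ inertia K θ := le_inertia K (IsCharacter.isClassFunction' hθ')
  have h2 : (inertia K θ).index ∣ K.index := Subgroup.index_dvd_of_le hle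
  have h3 : (inertia K θ).index ∣ charDegree χ := by
    rw [hdeg2]
    exact ⟨f * charDegree θ, by ring⟩
  have h4 : (inertia K θ).index = 1 := Nat.eq_one_of_dvd_coprimes hcop h2 h3
  have h5 : inertia K θ = ⊤ := Subgroup.index_eq_one.mp h4
  have hinv : ∀ (g : G) (n : K), θ ⟨g * n * g⁻¹, hK.conj_mem (n : G) n.2 g⟩ = θ n := by
    intro g n
    have h6 : g ∈ inertia K θ := by
      rw [h5]
      exact Subgroup.mem_top g
    exact congrFun h6 n
  have h7 : K.index.Coprime (charDegree θ) := by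
    refine Nat.Coprime.coprime_dvd_right ?_ hcop
    rw [hdeg2]
    exact Dvd.intro_left _ rfl
  obtain ⟨ψ, hψ, hψK⟩ := hext θ hθ hinv h7
  have hψK' : (fun n : K => ψ n) = θ := funext hψK
  have hres : IsIrrCharacter K (fun n : K => ψ n) := by
    rw [hψK']
    exact hθ
  obtain ⟨β, hβ⟩ := gallagher_surj K hψ hres hχ (by
    rw [hψK']
    exact hov)
  have h8 : charDegree χ = charDegree θ * charDegree (β : G ⧸ K → ℂ) := by
    have h9 := charDegree_cast hχ'
    rw [hβ] at h9
    have h10 := charDegree_cast (IsIrrCharacter.isCharacter' β.2)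
    have h11 := charDegree_cast hθ'
    have h12 : ψ 1 = θ 1 := by
      have := hψK 1
      simpa using this
    simp only [QuotientGroup.mk_one] at h9
    rw [h12, ← h10, ← h11] at h9
    rw [hβ]
    have h13 : charDegree (fun g => ψ g * (β : G ⧸ K → ℂ) (g : G ⧸ K)) = charDegree θ * charDegree (β : G ⧸ K → ℂ) := by
      have h14 : ((charDegree (fun g => ψ g * (β : G ⧸ K → ℂ) (g : G ⧸ K)) : ℕ) : ℂ) = ((charDegree θ * charDegree (β : G ⧸ K → ℂ) : ℕ) : ℂ) := by
        push_cast
        exact h9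
      exact_mod_cast h14
    exact h13
  have h9 : charDegree (β : G ⧸ K → ℂ) = 1 := by
    apply Nat.eq_one_of_dvd_coprimes hcop
    · have := charDegree_dvd_card β.2
      rwa [← Subgroup.index_eq_card] at this
    · rw [h8]
      exact Dvd.intro_left _ rfl
  have h10 : (β : G ⧸ K → ℂ) 1 = 1 := by
    rw [← charDegree_cast (IsIrrCharacter.isCharacter' β.2), h9]
    simp
  have h11 : (fun n : K => χ n) = θ := by
    funext n
    have h12 : ((n : G) : G ⧸ K) = 1 := (QuotientGroup.eq_one_iff (n : G)).mpr n.2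
    rw [hβ]
    simp only [h12, h10, mul_one]
    exact hψK n
  rw [h11]
  exact hθ

end Restrict

end Cfsg.Agent.Lib.CharGal
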