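import Cfsg.Agent.Lib.CharCliff

/-!
# Galois action on character values
-/

set_option linter.unusedSectionVars false
set_option linter.style.haveILetI false

namespace Cfsg.Agent.Lib.CharGalois

open scoped ComplexConjugate
open Module Cfsg Cfsg.Agent.Lib.CharCore Cfsg.Agent.Lib.CharBasic Cfsg.Agent.Lib.CharIrr
  Cfsg.Agent.Lib.CharOps Cfsg.Agent.Lib.CharAb

universe u v w

section Field

/-- A primitive root of unity. -/
noncomputable def zeta (n : ℕ) : ℂ := Complex.exp (2 * Real.pi * Complex.I / n)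

theorem zeta_prim {n : ℕ} (hn : n ≠ 0) : IsPrimitiveRoot (zeta n) n :=
  Complex.isPrimitiveRoot_exp n hn

/-- The cyclotomic subfield of `ℂ`. -/
noncomputable def cyc (n : ℕ) : IntermediateField ℚ ℂ := IntermediateField.adjoin ℚ {zeta n}

theorem isIntegral_zeta {n : ℕ} (hn : n ≠ 0) : IsIntegral ℚ (zeta n) :=
  ((zeta_prim hn).isIntegral (Nat.pos_of_ne_zero hn)).tower_top

theorem finiteDimensional_cyc {n : ℕ} (hn : n ≠ 0) : FiniteDimensional ℚ (cyc n) :=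
  IntermediateField.adjoin.finiteDimensional (isIntegral_zeta hn)

theorem zeta_mem (n : ℕ) : zeta n ∈ cyc n :=
  IntermediateField.subset_adjoin ℚ _ (Set.mem_singleton _)

theorem root_mem {n : ℕ} (hn : n ≠ 0) {μ : ℂ} (h : μ ^ n = 1) : μ ∈ cyc n := by
  haveI : NeZero n := ⟨hn⟩
  obtain ⟨j, _, rfl⟩ := (zeta_prim hn).eq_pow_of_pow_eq_one h
  exact pow_mem (zeta_mem n) j

/-- Two algebra maps from `cyc n` agreeing at the generator agree. -/
theorem exists_coprime {n : ℕ} (hn : n ≠ 0) (σ : cyc n →ₐ[ℚ] ℂ) :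
    ∃ m, m.Coprime n ∧ ∀ (μ : ℂ) (hμ : μ ∈ cyc n), μ ^ n = 1 → σ ⟨μ, hμ⟩ = μ ^ m := by
  haveI : NeZero n := ⟨hn⟩
  have hprim := zeta_prim hn
  let z : cyc n := ⟨zeta n, zeta_mem n⟩
  have hz : z ^ n = 1 := by
    apply Subtype.ext
    simpa [z] using hprim.pow_eq_one
  have hσz : (σ z) ^ n = 1 := by
    rw [← map_pow, hz, map_one]
  obtain ⟨m, _, hm⟩ := hprim.eq_pow_of_pow_eq_one hσz
  -- `σ z` is primitive
  have hprimz : IsPrimitiveRoot z n := by
    exact IsPrimitiveRoot.of_map_of_injective (f := (cyc n).val) (hf := Subtype.val_injective) hprim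
  have hprim2 : IsPrimitiveRoot (σ z) n := hprimz.map_of_injective σ.injective
  have hcop : m.Coprime n := by
    rw [← hm] at hprim2
    exact (hprim.pow_iff_coprime (Nat.pos_of_ne_zero hn) m).mp hprim2
  refine ⟨m, hcop, ?_⟩
  intro μ hμ hpow
  obtain ⟨j, _, rfl⟩ := hprim.eq_pow_of_pow_eq_one hpow
  have h1 : (⟨zeta n ^ j, hμ⟩ : cyc n) = z ^ j := by
    apply Subtype.ext
    simp [z]
  rw [h1, map_pow, ← hm, ← pow_mul, ← pow_mul, mul_comm]

/-- Every power coprime to `n` comes from an algebra map. -/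
theorem exists_algHom {n : ℕ} (hn : n ≠ 0) {m : ℕ} (hm : m.Coprime n) :
    ∃ σ : cyc n →ₐ[ℚ] ℂ, ∀ (μ : ℂ) (hμ : μ ∈ cyc n), μ ^ n = 1 → σ ⟨μ, hμ⟩ = μ ^ m := by
  haveI : NeZero n := ⟨hn⟩
  have hprim := zeta_prim hn
  have hint := isIntegral_zeta hn
  have hroot : zeta n ^ m ∈ (minpoly ℚ (zeta n)).aroots ℂ := by
    rw [← Polynomial.cyclotomic_eq_minpoly_rat hprim (Nat.pos_of_ne_zero hn)]
    rw [Polynomial.mem_aroots]
    constructor
    · exact Polynomial.cyclotomic_ne_zero n ℚ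
    · have h1 : IsPrimitiveRoot (zeta n ^ m) n := hprim.pow_of_coprime m hm
      haveI : NeZero n := ⟨hn⟩
      have h2 := (Polynomial.isRoot_cyclotomic_iff (R := ℂ)).mpr h1
      simpa [Polynomial.aeval_def, Polynomial.eval₂_eq_eval_map] using h2
  let σ : cyc n →ₐ[ℚ] ℂ := (IntermediateField.algHomAdjoinIntegralEquiv ℚ hint).symm ⟨zeta n ^ m, hroot⟩
  refine ⟨σ, ?_⟩
  intro μ hμ hpow
  obtain ⟨j, _, rfl⟩ := hprim.eq_pow_of_pow_eq_one hpow
  let z : cyc n := ⟨zeta n, zeta_mem n⟩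
  have h1 : (⟨zeta n ^ j, hμ⟩ : cyc n) = z ^ j := by
    apply Subtype.ext
    simp [z]
  have h2 : σ z = zeta n ^ m :=
    IntermediateField.algHomAdjoinIntegralEquiv_symm_apply_gen ℚ hint ⟨zeta n ^ m, hroot⟩
  rw [h1, map_pow, h2, ← pow_mul, ← pow_mul, mul_comm]

/-- An element of `cyc n` fixed by all embeddings is rational. -/
theorem exists_rat_of_fixed {n : ℕ} (hn : n ≠ 0) (x : cyc n)
    (h : ∀ σ : cyc n →ₐ[ℚ] ℂ, σ x = x.1) : ∃ q : ℚ, x.1 = q := by
  haveI := finiteDimensional_cyc hn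
  have h1 := trace_eq_sum_embeddings (K := ℚ) (L := cyc n) ℂ (x := x)
  have h2 : (∑ σ : cyc n →ₐ[ℚ] ℂ, σ x) = (finrank ℚ (cyc n) : ℂ) * x.1 := by
    rw [Finset.sum_congr rfl (fun σ _ => h σ), Finset.sum_const, Finset.card_univ,
      AlgHom.card ℚ (cyc n) ℂ, nsmul_eq_mul]
  rw [h2] at h1
  have hpos : (finrank ℚ (cyc n) : ℂ) ≠ 0 := by
    exact_mod_cast (finrank_pos (R := ℚ) (M := cyc n)).ne'
  refine ⟨Algebra.trace ℚ (cyc n) x / (finrank ℚ (cyc n) : ℚ), ?_⟩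
  push_cast
  have h3 : algebraMap ℚ ℂ (Algebra.trace ℚ (cyc n) x) = (((Algebra.trace ℚ (cyc n) x : ℚ)) : ℂ) := rfl
  rw [h3] at h1
  rw [h1]
  field_simp

/-- A nonzero algebraic integer in `cyc n` fixed by all embeddings has norm at least one. -/
theorem one_le_norm_of_fixed {n : ℕ} (hn : n ≠ 0) (x : cyc n) (hx0 : x.1 ≠ 0)
    (hint : IsIntegral ℤ x.1) (h : ∀ σ : cyc n →ₐ[ℚ] ℂ, σ x = x.1) : 1 ≤ ‖x.1‖ := by
  obtain ⟨q, hq⟩ := exists_rat_of_fixed hn x h
  rw [hq] at hint hx0 ⊢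
  have h1 : IsIntegral ℤ q := by
    have : IsIntegral ℤ ((algebraMap ℚ ℂ) q) := hint
    exact (isIntegral_algebraMap_iff (algebraMap ℚ ℂ).injective).mp this
  obtain ⟨y, rfl⟩ := IsIntegrallyClosed.isIntegral_iff.mp h1
  have hy0 : y ≠ 0 := by
    rintro rfl
    simp at hx0
  have : ((algebraMap ℤ ℚ y : ℚ) : ℂ) = (y : ℂ) := by simp
  rw [this, Complex.norm_intCast]
  exact_mod_cast Int.one_le_abs hy0

end Field

section Chars

variable {G : Type u} [Group G] [Finite G]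
variable {V : Type*} [AddCommGroup V] [Module ℂ V] [FiniteDimensional ℂ V]

theorem character_mem (ρ : Representation ℂ G V) (g : G) :
    ρ.character g ∈ cyc (Nat.card G) := by
  obtain ⟨ι, _, b, μ, h1, h2⟩ := exists_eigenbasis_rep ρ g
  have h3 : ρ.character g = ∑ i, μ i := trace_eq_sum_of_eigenbasis b μ (ρ g) h1
  rw [h3]
  exact sum_mem fun i _ => root_mem Nat.card_pos.ne' (h2 i)

/-- The action of the Galois group on character values. -/
theorem algHom_character (ρ : Representation ℂ G V) (g : G) (m : ℕ)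
    (σ : cyc (Nat.card G) →ₐ[ℚ] ℂ)
    (hσ : ∀ (μ : ℂ) (hμ : μ ∈ cyc (Nat.card G)), μ ^ Nat.card G = 1 → σ ⟨μ, hμ⟩ = μ ^ m) :
    σ ⟨ρ.character g, character_mem ρ g⟩ = ρ.character (g ^ m) := by
  obtain ⟨ι, _, b, μ, h1, h2⟩ := exists_eigenbasis_rep ρ g
  have h3 : ρ.character g = ∑ i, μ i := trace_eq_sum_of_eigenbasis b μ (ρ g) h1
  have h4 : ∀ (m : ℕ) i, ρ (g ^ m) (b i) = (μ i ^ m) • b i := by
    intro m i
    induction m with
    | zero => simp
    | succ k ih =>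
      have : ρ (g ^ (k + 1)) (b i) = ρ (g ^ k) (ρ g (b i)) := by
        rw [pow_succ, map_mul]; rfl
      rw [this, h1, map_smul, ih, smul_smul, pow_succ']
  have h5 : ρ.character (g ^ m) = ∑ i, μ i ^ m := trace_eq_sum_of_eigenbasis b _ (ρ (g ^ m)) (h4 m)
  have hmem : ∀ i, μ i ∈ cyc (Nat.card G) := fun i => root_mem Nat.card_pos.ne' (h2 i)
  have h6 : (⟨ρ.character g, character_mem ρ g⟩ : cyc (Nat.card G)) =
      ∑ i, (⟨μ i, hmem i⟩ : cyc (Nat.card G)) := by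
    apply Subtype.ext
    simp [h3]
  rw [h6, map_sum, h5]
  exact Finset.sum_congr rfl fun i _ => hσ _ _ (h2 i)

end Chars

end Cfsg.Agent.Lib.CharGalois
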