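import Mathlib
import Cfsg.Agent.Lib.CharNormal
import Cfsg.Agent.Lib.CharIrr
import Cfsg.Agent.Lib.CharOps
import Cfsg.Agent.Lib.CharGen

/-!
# Fully ramified characters
-/

set_option autoImplicit false
set_option linter.style.haveILetI false
set_option linter.unusedSectionVars false
set_option linter.unusedVariables false

namespace Cfsg.Agent.Lib.FullyRamified

open scoped ComplexConjugate
open Module Cfsg Cfsg.Agent.Lib.CharOps Cfsg.Agent.Lib.CharIrr Cfsg.Agent.Lib.CharGen Cfsg.Agent.Lib.CharNormal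

universe u

variable {G : Type u} [Group G] [Fintype G] (N : Subgroup G) [hN : N.Normal] [Fintype N]

/-- Invariance gives homogeneity. -/
theorem homogeneous_of_invariant {χ : G → ℂ} (hχ : IsIrrCharacter G χ) {ϑ : N → ℂ} (hϑ : IsIrrCharacter N ϑ)
    (hcon : classInner (fun n : N => χ n) ϑ ≠ 0)
    (hinv : ∀ (g : G) (n : N), ϑ ⟨g * n * g⁻¹, hN.conj_mem (n : G) n.2 g⟩ = ϑ n) :
    ∃ e : ℕ, e ≠ 0 ∧ (fun n : N => χ n) = (e : ℂ) • ϑ := by
  classical
  have h1 := clifford N hN hχ hϑ hcon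
  have h2 : {ψ : N → ℂ | ∃ g : G, ψ = fun n : N => ϑ ⟨g * n * g⁻¹, hN.conj_mem n n.2 g⟩} = {ϑ} := by
    ext ψ
    constructor
    · rintro ⟨g, rfl⟩
      exact funext fun n => hinv g n
    · rintro rfl
      exact ⟨1, funext fun n => (hinv 1 n).symm⟩
  rw [h2, finsum_mem_singleton] at h1
  obtain ⟨e, he⟩ := exists_nat_classInner
    (isCharacter_restrict N (IsIrrCharacter.isCharacter' hχ)) (IsIrrCharacter.isCharacter' hϑ)
  refine ⟨e, ?_, ?_⟩
  · rintro rfl
    apply hcon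
    rw [he]; simp
  · rw [he] at h1
    exact h1

theorem invariant_of_homogeneous {χ : G → ℂ} (hχ : IsIrrCharacter G χ) {ϑ : N → ℂ} {e : ℕ} (he0 : e ≠ 0)
    (he : (fun n : N => χ n) = (e : ℂ) • ϑ) (g : G) (n : N) :
    ϑ ⟨g * n * g⁻¹, hN.conj_mem (n : G) n.2 g⟩ = ϑ n := by
  have hcl := IsCharacter.isClassFunction' (IsIrrCharacter.isCharacter' hχ)
  have h1 := congrFun he n
  have h2 := congrFun he ⟨g * n * g⁻¹, hN.conj_mem (n : G) n.2 g⟩
  simp only [Pi.smul_apply, smul_eq_mul] at h1 h2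
  rw [hcl n g, h1] at h2
  have hc : (e : ℂ) ≠ 0 := by exact_mod_cast he0
  exact (mul_left_cancel₀ hc h2).symm

theorem sum_normSq {χ : G → ℂ} (hχ : IsIrrCharacter G χ) :
    ∑ g : G, Complex.normSq (χ g) = (Nat.card G : ℝ) := by
  have h := classInner_irr hχ hχ
  rw [if_pos rfl, classInner] at h
  have hG : (Nat.card G : ℂ) ≠ 0 := by exact_mod_cast Nat.card_pos.ne'
  have h2 : ∑ g : G, χ g * conj (χ g) = (Nat.card G : ℂ) := by
    field_simp at h
    exact h
  have h3 : ∀ g : G, χ g * conj (χ g) = ((Complex.normSq (χ g) : ℝ) : ℂ) := fun g => Complex.mul_conj _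
  simp only [h3] at h2
  exact_mod_cast h2

theorem sum_normSq_sub {χ : G → ℂ} [DecidablePred (· ∈ N)] :
    ∑ g ∈ Finset.univ.filter (· ∈ N), Complex.normSq (χ g) = ∑ n : N, Complex.normSq (χ n) := by
  rw [Finset.sum_subtype (Finset.univ.filter (· ∈ N)) (p := (· ∈ N)) (by simp)
    (fun g => Complex.normSq (χ g))]

theorem sum_normSq_hom {χ : G → ℂ} {ϑ : N → ℂ} (hϑ : IsIrrCharacter N ϑ) {e : ℕ}
    (he : (fun n : N => χ n) = (e : ℂ) • ϑ) :
    ∑ n : N, Complex.normSq (χ n) = (e : ℝ) ^ 2 * (Nat.card N : ℝ) := by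
  rw [← sum_normSq hϑ, Finset.mul_sum]
  refine Finset.sum_congr rfl fun n _ => ?_
  have h1 := congrFun he n
  simp only [Pi.smul_apply, smul_eq_mul] at h1
  rw [h1, Complex.normSq_mul, Complex.normSq_natCast]
  ring

theorem index_mul_card : (N.index : ℝ) * (Nat.card N : ℝ) = (Nat.card G : ℝ) := by
  rw [mul_comm]
  exact_mod_cast Subgroup.card_mul_index N

/-- Two-sided description. -/
theorem vanish_iff {χ : G → ℂ} (hχ : IsIrrCharacter G χ) {ϑ : N → ℂ} (hϑ : IsIrrCharacter N ϑ)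
    (hcon : classInner (fun n : N => χ n) ϑ ≠ 0) :
    (∃ e : ℕ, (fun n : N => χ n) = (e : ℂ) • ϑ ∧ e ^ 2 = N.index) ↔
      ((∀ g : G, g ∉ N → χ g = 0) ∧
        ∀ (g : G) (n : N), ϑ ⟨g * n * g⁻¹, hN.conj_mem (n : G) n.2 g⟩ = ϑ n) := by
  classical
  have hNpos : (Nat.card N : ℝ) ≠ 0 := by exact_mod_cast Nat.card_pos.ne'
  have hsplit := Finset.sum_filter_add_sum_filter_not (Finset.univ : Finset G) (· ∈ N)
    (fun g => Complex.normSq (χ g))
  rw [sum_normSq hχ, sum_normSq_sub N] at hsplit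
  constructor
  · rintro ⟨e, he, hei⟩
    have he0 : e ≠ 0 := by
      rintro rfl
      have : N.index ≠ 0 := Subgroup.index_ne_zero_of_finite
      apply this
      rw [← hei]; simp
    refine ⟨?_, invariant_of_homogeneous N hχ he0 he⟩
    intro g hg
    rw [sum_normSq_hom N hϑ he] at hsplit
    have h1 : ((e : ℝ)) ^ 2 = N.index := by exact_mod_cast hei
    rw [h1, index_mul_card N] at hsplit
    have h2 : ∑ g ∈ Finset.univ.filter (fun g => g ∉ N), Complex.normSq (χ g) = 0 := by linarith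
    rw [Finset.sum_eq_zero_iff_of_nonneg (fun g _ => Complex.normSq_nonneg _)] at h2
    have h3 := h2 g (by simp [hg])
    exact Complex.normSq_eq_zero.1 h3
  · rintro ⟨hvan, hinv⟩
    obtain ⟨e, he0, he⟩ := homogeneous_of_invariant N hχ hϑ hcon hinv
    refine ⟨e, he, ?_⟩
    rw [sum_normSq_hom N hϑ he] at hsplit
    have h2 : ∑ g ∈ Finset.univ.filter (fun g => g ∉ N), Complex.normSq (χ g) = 0 := by
      apply Finset.sum_eq_zero
      intro g hg
      rw [hvan g (Finset.mem_filter.1 hg).2]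
      simp
    rw [h2, add_zero, ← index_mul_card N] at hsplit
    have h3 : (e : ℝ) ^ 2 = N.index := mul_right_cancel₀ hNpos hsplit
    exact_mod_cast h3

theorem indFun_invariant_coe {ϑ : N → ℂ}
    (hinv : ∀ (g : G) (n : N), ϑ ⟨g * n * g⁻¹, hN.conj_mem (n : G) n.2 g⟩ = ϑ n) (n : N) :
    indFun N ϑ (n : G) = (N.index : ℂ) * ϑ n := by
  rw [indFun_coe]
  have h1 : ∀ x : G, conjFun N ϑ x n = ϑ n := fun x => hinv x n
  simp only [h1, Finset.sum_const, Finset.card_univ, nsmul_eq_mul]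
  have h2 : (Fintype.card G : ℂ) = (Nat.card N : ℂ) * (N.index : ℂ) := by
    rw [← Nat.card_eq_fintype_card]
    exact_mod_cast (Subgroup.card_mul_index N).symm
  rw [h2]
  have hNpos : (Nat.card N : ℂ) ≠ 0 := by exact_mod_cast Nat.card_pos.ne'
  field_simp

theorem indFun_of_not_mem {ϑ : N → ℂ} {g : G} (hg : g ∉ N) : indFun N ϑ g = 0 := by
  rw [indFun_apply]
  have : ∀ x : G, extendByZero N ϑ (x⁻¹ * g * x) = 0 := by
    intro x
    apply extendByZero_of_not_mem
    intro h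
    apply hg
    have := hN.conj_mem _ h x
    simpa [mul_assoc] using this
  simp [this]

theorem main {χ : G → ℂ} (hχ : IsIrrCharacter G χ) {ϑ : N → ℂ} (hϑ : IsIrrCharacter N ϑ)
    (hcon : classInner (fun n : N => χ n) ϑ ≠ 0) :
    ((∃ e : ℕ, (fun n : N => χ n) = (e : ℂ) • ϑ ∧ e ^ 2 = N.index) ↔
      ((∀ g : G, g ∉ N → χ g = 0) ∧
        ∀ (g : G) (n : N), ϑ ⟨g * n * g⁻¹, hN.conj_mem (n : G) n.2 g⟩ = ϑ n)) ∧
    ((∃ e : ℕ, (fun n : N => χ n) = (e : ℂ) • ϑ ∧ e ^ 2 = N.index) ↔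
      (∀ (g : G) (n : N), ϑ ⟨g * n * g⁻¹, hN.conj_mem (n : G) n.2 g⟩ = ϑ n ∧
        ∀ ψ : G → ℂ, IsIrrCharacter G ψ → classInner (indFun N ϑ) ψ ≠ 0 → ψ = χ)) := by
  classical
  have hA := vanish_iff N hχ hϑ hcon
  refine ⟨hA, ?_⟩
  have hcχ := IsCharacter.isClassFunction' (IsIrrCharacter.isCharacter' hχ)
  constructor
  · intro h
    obtain ⟨hvan, hinv⟩ := hA.1 h
    obtain ⟨e, he, hei⟩ := h
    intro g n
    refine ⟨hinv g n, ?_⟩
    intro ψ hψ hne
    have hind : indFun N ϑ = (e : ℂ) • χ := by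
      funext x
      by_cases hx : x ∈ N
      · have h1 := indFun_invariant_coe N hinv ⟨x, hx⟩
        have h2 := congrFun he ⟨x, hx⟩
        simp only [Pi.smul_apply, smul_eq_mul] at h2
        simp only [Pi.smul_apply, smul_eq_mul]
        rw [h2, ← mul_assoc]
        rw [show (e : ℂ) * (e : ℂ) = (N.index : ℂ) by rw [← hei]; push_cast; ring]
        exact h1
      · rw [indFun_of_not_mem N hx]
        simp [hvan x hx]
    by_contra hψχ
    apply hne
    rw [hind, classInner_smul_left, classInner_irr hχ hψ, if_neg (Ne.symm hψχ), mul_zero]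
  · intro h
    have hinv : ∀ (g : G) (n : N), ϑ ⟨g * n * g⁻¹, hN.conj_mem (n : G) n.2 g⟩ = ϑ n := fun g n => (h g n).1
    have honly := (h 1 1).2
    obtain ⟨e, he0, he⟩ := homogeneous_of_invariant N hχ hϑ hcon hinv
    refine ⟨e, he, ?_⟩
    have hexp := classFunction_expand (indFun_isClassFunction N ϑ)
    have hval : indFun N ϑ = classInner (indFun N ϑ) χ • χ := by
      rw [hexp]
      funext x
      rw [Finset.sum_apply]
      have hexp' := hexp
      rw [← hexp]
      rw [Finset.sum_eq_single (⟨χ, hχ⟩ : IrrCharacter G)]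
      · intro ψ _ hψ
        have : classInner (indFun N ϑ) (ψ : G → ℂ) = 0 := by
          by_contra hne
          exact hψ (Subtype.ext (honly _ ψ.2 hne))
        simp [this]
      · simp
    have hinner : classInner (indFun N ϑ) χ = (e : ℂ) := by
      rw [frobenius_reciprocity N ϑ hcχ, he, classInner_smul_right, classInner_irr hϑ hϑ, if_pos rfl]
      simp
    rw [hinner] at hval
    have h1 := congrFun hval 1
    have h2 := indFun_invariant_coe N hinv 1
    have h3 := congrFun he 1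
    simp only [Pi.smul_apply, smul_eq_mul] at h1 h3
    have h4 : indFun N ϑ 1 = (N.index : ℂ) * ϑ 1 := h2
    have h5 : χ 1 = (e : ℂ) * ϑ 1 := h3
    rw [h4, h5] at h1
    have hd : ϑ 1 ≠ 0 := degree_ne_zero hϑ
    have h6 : (N.index : ℂ) = (e : ℂ) * (e : ℂ) := by
      apply mul_right_cancel₀ hd
      rw [h1]; ring
    have h7 : N.index = e * e := by exact_mod_cast h6
    rw [h7, sq]

end Cfsg.Agent.Lib.FullyRamified
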