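import Mathlib
import Cfsg.Agent.Lib.CharClass
import Cfsg.Agent.Lib.CharEquiv
import Cfsg.Agent.Lib.CharDeg
import Cfsg.Agent.Lib.CharOps
import Cfsg.Agent.Lib.CharGen
import Cfsg.Agent.Lib.CharCliff
import Cfsg.Agent.Lib.CharNormal
import Cfsg.Agent.Lib.CharInflate
import Cfsg.Agent.Lib.CharAb
import Cfsg.Agent.Lib.FullyRamified
import Cfsg.Agent.Lib.CharKernel
import Cfsg.Agent.Lib.CharLinear

/-!
# The central extension attached to an invariant irreducible representation of a normal subgroup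
-/

set_option autoImplicit false
set_option linter.style.haveILetI false
set_option linter.unusedSectionVars false
set_option linter.unusedVariables false

namespace Cfsg.Agent.Lib.CharLift

open scoped ComplexConjugate
open Module Cfsg Cfsg.Agent.Lib.CharOps Cfsg.Agent.Lib.CharIrr Cfsg.Agent.Lib.CharGen
  Cfsg.Agent.Lib.CharNormal Cfsg.Agent.Lib.CharCliff

universe u v

/-- Irreducibility is reflected by a homomorphism into the group of operators. -/
theorem isIrreducible_of_comp {X : Type*} {Y : Type*} [Group X] [Group Y] {V : Type*} [AddCommGroup V]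
    [Module ℂ V] (f : Y →* X) (Q : Representation ℂ X V) (h : Representation.IsIrreducible (Q.comp f)) :
    Representation.IsIrreducible Q := by
  obtain ⟨a, b, hab⟩ := h.toNontrivial
  have hs := h.eq_bot_or_eq_top
  have htr : (⊥ : Submodule ℂ V) ≠ ⊤ := by
    intro h1
    apply hab
    have h2 : ∀ s : Subrepresentation (Q.comp f), s.toSubmodule = ⊥ := by
      intro s
      exact eq_bot_iff.2 ((le_top : s.toSubmodule ≤ ⊤).trans h1.symm.le)
    exact Subrepresentation.toSubmodule_injective ((h2 a).trans (h2 b).symm)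
  refine { exists_pair_ne := ⟨⊥, ⊤, fun h1 => htr (congrArg Subrepresentation.toSubmodule h1)⟩, eq_bot_or_eq_top := ?_ }
  intro W
  let W' : Subrepresentation (Q.comp f) := ⟨W.toSubmodule, fun g v hv => W.apply_mem_toSubmodule (f g) hv⟩
  rcases hs W' with h1 | h1
  · left
    apply Subrepresentation.toSubmodule_injective
    have h2 := congrArg Subrepresentation.toSubmodule h1
    exact h2
  · right
    apply Subrepresentation.toSubmodule_injective
    have h2 := congrArg Subrepresentation.toSubmodule h1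
    exact h2

/-- Irreducibility is preserved under composition with a surjective homomorphism. -/
theorem isIrreducible_comp_surjective {X : Type*} {Y : Type*} [Group X] [Group Y] {V : Type*} [AddCommGroup V]
    [Module ℂ V] (f : Y →* X) (hf : Function.Surjective f) (Q : Representation ℂ X V)
    (h : Representation.IsIrreducible Q) :
    Representation.IsIrreducible (Q.comp f) := by
  obtain ⟨a, b, hab⟩ := h.toNontrivial
  have hs := h.eq_bot_or_eq_top
  have htr : (⊥ : Submodule ℂ V) ≠ ⊤ := by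
    intro h1
    apply hab
    have h2 : ∀ s : Subrepresentation Q, s.toSubmodule = ⊥ := by
      intro s
      exact eq_bot_iff.2 ((le_top : s.toSubmodule ≤ ⊤).trans h1.symm.le)
    exact Subrepresentation.toSubmodule_injective ((h2 a).trans (h2 b).symm)
  refine { exists_pair_ne := ⟨⊥, ⊤, fun h1 => htr (congrArg Subrepresentation.toSubmodule h1)⟩, eq_bot_or_eq_top := ?_ }
  intro W
  let W' : Subrepresentation Q := ⟨W.toSubmodule, fun g v hv => by
    obtain ⟨y, rfl⟩ := hf g
    exact W.apply_mem_toSubmodule y hv⟩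
  rcases hs W' with h1 | h1
  · left
    apply Subrepresentation.toSubmodule_injective
    have h2 := congrArg Subrepresentation.toSubmodule h1
    exact h2
  · right
    apply Subrepresentation.toSubmodule_injective
    have h2 := congrArg Subrepresentation.toSubmodule h1
    exact h2

/-- Endomorphisms of coordinate space. -/
abbrev EndV (d : ℕ) := Module.End ℂ (Fin d → ℂ)

theorem dim_pos {Y : Type*} [Group Y] [Finite Y] {d : ℕ} (ρ : Representation ℂ Y (Fin d → ℂ))
    (h : Representation.IsIrreducible ρ) : 0 < d := by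
  letI : Fintype Y := Fintype.ofFinite _
  have := Cfsg.Agent.Lib.CharBasic.finrank_pos_of_irreducible ρ h
  simpa using this

section Lift

variable {G : Type u} [Group G] (N : Subgroup G) [hN : N.Normal] {d : ℕ}
  (ρ : Representation ℂ N (Fin d → ℂ))

/-- Conjugation inside a normal subgroup. -/
def cn (g : G) (n : N) : N := ⟨g * n * g⁻¹, hN.conj_mem n n.2 g⟩

theorem cn_mul (g h : G) (n : N) : cn N (g * h) n = cn N g (cn N h n) := by
  apply Subtype.ext
  simp [cn, mul_assoc]

theorem cn_one (n : N) : cn N 1 n = n := by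
  apply Subtype.ext
  simp [cn]

theorem cn_mul_right (g : G) (n m : N) : cn N g (n * m) = cn N g n * cn N g m := by
  apply Subtype.ext
  simp [cn, mul_assoc]

theorem cn_inv_cn (g : G) (n : N) : cn N g (cn N g⁻¹ n) = n := by
  rw [← cn_mul, mul_inv_cancel, cn_one]

theorem cn_coe (m n : N) : cn N (m : G) n = m * n * m⁻¹ := rfl

/-- Conjugation on the normal subgroup, as a homomorphism. -/
def cnHom (g : G) : N →* N where
  toFun := cn N g
  map_one' := by
    apply Subtype.ext
    simp [cn]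
  map_mul' := cn_mul_right N g

/-- The lifted group. -/
def Lift : Subgroup (G × (EndV d)ˣ) where
  carrier := {x | (∀ n : N, (x.2 : EndV d) * ρ n = ρ (cn N x.1 n) * (x.2 : EndV d)) ∧
    LinearMap.det (x.2 : EndV d) ^ Nat.card N = 1}
  mul_mem' := by
    rintro ⟨g, T⟩ ⟨h, S⟩ ⟨hT, dT⟩ ⟨hS, dS⟩
    refine ⟨fun n => ?_, ?_⟩
    · simp only [Prod.mk_mul_mk, Units.val_mul]
      rw [mul_assoc, hS n, ← mul_assoc, hT (cn N h n), cn_mul, mul_assoc]
    · simp only [Prod.mk_mul_mk, Units.val_mul, map_mul, mul_pow]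
      simp only at dT dS
      rw [dT, dS, one_mul]
  one_mem' := by
    refine ⟨fun n => ?_, ?_⟩
    · simp [cn_one]
    · simp
  inv_mem' := by
    rintro ⟨g, T⟩ ⟨hT, dT⟩
    simp only at hT dT
    refine ⟨fun n => ?_, ?_⟩
    · simp only [Prod.fst_inv, Prod.snd_inv]
      have h1 := hT (cn N g⁻¹ n)
      rw [cn_inv_cn] at h1
      have h2 : (T : EndV d) * ρ (cn N g⁻¹ n) * ((T⁻¹ : (EndV d)ˣ) : EndV d) = ρ n := by
        rw [h1, mul_assoc, Units.mul_inv, mul_one]
      calc ((T⁻¹ : (EndV d)ˣ) : EndV d) * ρ n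
          = ((T⁻¹ : (EndV d)ˣ) : EndV d) * ((T : EndV d) * ρ (cn N g⁻¹ n) * ((T⁻¹ : (EndV d)ˣ) : EndV d)) := by rw [h2]
        _ = ((T⁻¹ : (EndV d)ˣ) : EndV d) * (T : EndV d) * ρ (cn N g⁻¹ n) * ((T⁻¹ : (EndV d)ˣ) : EndV d) := by
            simp only [mul_assoc]
        _ = _ := by rw [Units.inv_mul, one_mul]
    · simp only [Prod.snd_inv]
      have h1 : LinearMap.det ((T⁻¹ : (EndV d)ˣ) : EndV d) * LinearMap.det (T : EndV d) = 1 := by
        rw [← map_mul, Units.inv_mul, map_one]
      have h2 : (LinearMap.det ((T⁻¹ : (EndV d)ˣ) : EndV d)) ^ Nat.card N * (LinearMap.det (T : EndV d)) ^ Nat.card N = 1 := by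
        rw [← mul_pow, h1, one_pow]
      rwa [dT, mul_one] at h2

/-- Projection to `G`. -/
def piL : Lift N ρ →* G := (MonoidHom.fst _ _).comp (Lift N ρ).subtype

/-- Projection to the units of the endomorphism ring. -/
def Qu : Lift N ρ →* (EndV d)ˣ := (MonoidHom.snd _ _).comp (Lift N ρ).subtype

/-- The representation of the lifted group. -/
def Q : Representation ℂ (Lift N ρ) (Fin d → ℂ) := (Units.coeHom _).comp (Qu N ρ)

theorem Q_apply (x : Lift N ρ) : Q N ρ x = ((x : G × (EndV d)ˣ).2 : EndV d) := rfl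

theorem piL_apply (x : Lift N ρ) : piL N ρ x = (x : G × (EndV d)ˣ).1 := rfl

theorem Qu_val (x : Lift N ρ) : ((Qu N ρ x : (EndV d)ˣ) : EndV d) = Q N ρ x := rfl

theorem ext_lift {x y : Lift N ρ} (h1 : piL N ρ x = piL N ρ y) (h2 : Q N ρ x = Q N ρ y) : x = y := by
  apply Subtype.ext
  apply Prod.ext h1
  exact Units.ext h2

theorem Q_intertwine (x : Lift N ρ) (n : N) : Q N ρ x * ρ n = ρ (cn N (piL N ρ x) n) * Q N ρ x := x.2.1 n

/-- The embedding of `N`. -/
def iotaL : N →* Lift N ρ where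
  toFun n := ⟨(n, MonoidHom.toHomUnits ρ n), by
    refine ⟨fun m => ?_, ?_⟩
    · simp only [MonoidHom.coe_toHomUnits]
      rw [cn_coe, ← map_mul, ← map_mul]
      congr 1
      group
    · simp only [MonoidHom.coe_toHomUnits]
      rw [← map_pow, ← map_pow, pow_card_eq_one']
      simp⟩
  map_one' := by
    apply Subtype.ext
    simp
  map_mul' a b := by
    apply Subtype.ext
    simp

theorem piL_iota (n : N) : piL N ρ (iotaL N ρ n) = n := rfl

theorem Q_iota (n : N) : Q N ρ (iotaL N ρ n) = ρ n := rfl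

theorem iota_injective : Function.Injective (iotaL N ρ) := by
  intro a b h
  apply Subtype.ext
  have := congrArg (piL N ρ) h
  simpa [piL_iota] using this

theorem conj_iota (x : Lift N ρ) (n : N) : x * iotaL N ρ n * x⁻¹ = iotaL N ρ (cn N (piL N ρ x) n) := by
  apply ext_lift
  · simp [piL_iota, cn]
  · rw [Q_iota, map_mul, map_mul]
    have h1 := Q_intertwine N ρ x n
    rw [Q_iota, h1, mul_assoc, ← map_mul, mul_inv_cancel, map_one, mul_one]

variable [Representation.IsIrreducible ρ]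

/-- Schur in the lifted group. -/
theorem commute_scalar (T : EndV d) (hT : ∀ n : N, T * ρ n = ρ n * T) : ∃ c : ℂ, T = c • 1 := by
  obtain ⟨c, hc⟩ := Cfsg.Agent.Lib.CharClass.schur_scalar ρ T (fun n => hT n)
  exact ⟨c, hc⟩

/-- Two lifts of an element differ by a scalar. -/
theorem scalar_of_eq {x y : Lift N ρ} (h : piL N ρ x = piL N ρ y) : ∃ c : ℂ, Q N ρ y = c • Q N ρ x := by
  have h1 : ∃ c : ℂ, Q N ρ x⁻¹ * Q N ρ y = c • 1 := by
    apply commute_scalar N ρ
    intro n
    have h2 := Q_intertwine N ρ y n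
    have h3 := Q_intertwine N ρ x⁻¹ (cn N (piL N ρ x) n)
    have hpi : piL N ρ x⁻¹ = (piL N ρ x)⁻¹ := map_inv _ _
    rw [hpi, ← cn_mul, inv_mul_cancel, cn_one] at h3
    rw [mul_assoc, h2, ← h, ← mul_assoc, h3, mul_assoc]
  obtain ⟨c, hc⟩ := h1
  refine ⟨c, ?_⟩
  have h4 : Q N ρ x * (Q N ρ x⁻¹ * Q N ρ y) = Q N ρ y := by
    rw [← mul_assoc, ← map_mul, mul_inv_cancel, map_one, one_mul]
  rw [← h4, hc, mul_smul_comm, mul_one]

/-- Elements over the identity are scalars. -/
theorem scalar_of_ker {z : Lift N ρ} (hz : piL N ρ z = 1) : ∃ c : ℂ, Q N ρ z = c • 1 := by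
  have := scalar_of_eq N ρ (x := 1) (y := z) (by rw [map_one, hz])
  simpa using this

/-- Elements over the identity are central. -/
theorem central_of_ker {z : Lift N ρ} (hz : piL N ρ z = 1) (y : Lift N ρ) : z * y = y * z := by
  obtain ⟨c, hc⟩ := scalar_of_ker N ρ hz
  apply ext_lift
  · simp [hz]
  · rw [map_mul, map_mul, hc]
    simp

/-- A lift over an element of `N` is a scalar multiple of its image. -/
theorem exists_decomp (x : Lift N ρ) (h : piL N ρ x ∈ N) :
    ∃ z : Lift N ρ, piL N ρ z = 1 ∧ x = iotaL N ρ ⟨piL N ρ x, h⟩ * z := by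
  refine ⟨(iotaL N ρ ⟨piL N ρ x, h⟩)⁻¹ * x, ?_, ?_⟩
  · simp [piL_iota]
  · simp

variable [Finite G]

instance instFiniteLift : Finite (Lift N ρ) := by
  classical
  have hd := dim_pos ρ ‹_›
  have hN0 : 0 < Nat.card N := Nat.card_pos
  set m := d * Nat.card N with hm
  have hm0 : 0 < m := Nat.mul_pos hd hN0
  have hS : Set.Finite {c : ℂ | c ^ m = 1} := by
    apply Set.Finite.subset (Finset.finite_toSet (Polynomial.nthRootsFinset m (1 : ℂ)))
    intro c hc
    simp only [Finset.mem_coe]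
    rw [Polynomial.mem_nthRootsFinset hm0]
    exact hc
  haveI : Finite {c : ℂ | c ^ m = 1} := hS
  -- the kernel is finite
  have hker : Finite (piL N ρ).ker := by
    have hex : ∀ z : (piL N ρ).ker, ∃ c : {c : ℂ | c ^ m = 1}, Q N ρ z = (c : ℂ) • 1 := by
      intro z
      obtain ⟨c, hc⟩ := scalar_of_ker N ρ (MonoidHom.mem_ker.1 z.2)
      have hdet : LinearMap.det (Q N ρ (z : Lift N ρ)) ^ Nat.card N = 1 := (z : Lift N ρ).2.2
      rw [hc, LinearMap.det_smul, map_one, mul_one, Module.finrank_fin_fun, ← pow_mul] at hdet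
      exact ⟨⟨c, hdet⟩, hc⟩
    choose f hf using hex
    apply Finite.of_injective f
    intro a b hab
    apply Subtype.ext
    apply ext_lift
    · rw [MonoidHom.mem_ker.1 a.2, MonoidHom.mem_ker.1 b.2]
    · rw [hf a, hf b, hab]
  have hq : Finite ((Lift N ρ) ⧸ (piL N ρ).ker) :=
    Finite.of_equiv _ (QuotientGroup.quotientKerEquivRange (piL N ρ)).symm.toEquiv
  exact Finite.of_equiv _ (Subgroup.groupEquivQuotientProdSubgroup (s := (piL N ρ).ker)).symm

/-- Surjectivity of the lift under invariance. -/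
theorem piL_surjective (hinv : ∀ (g : G) (n : N), ρ.character (cn N g n) = ρ.character n) :
    Function.Surjective (piL N ρ) := by
  have hd := dim_pos ρ ‹_›
  letI : Fintype N := Fintype.ofFinite _
  intro g
  let σ : Representation ℂ N (Fin d → ℂ) := ρ.comp (cnHom N g)
  have hchar : ρ.character = σ.character := by
    funext n
    exact (hinv g n).symm
  obtain ⟨φ⟩ := Cfsg.Agent.Lib.CharEquiv.equiv_of_character_eq' ρ σ hchar
  let T : EndV d := φ.toLinearEquiv.toLinearMap
  let S : EndV d := φ.toLinearEquiv.symm.toLinearMap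
  have hTS : T * S = 1 := LinearMap.ext fun v => φ.toLinearEquiv.apply_symm_apply v
  have hST : S * T = 1 := LinearMap.ext fun v => φ.toLinearEquiv.symm_apply_apply v
  have hdet : LinearMap.det T ≠ 0 := by
    intro h
    have := congrArg LinearMap.det hTS
    rw [map_mul, map_one, h, zero_mul] at this
    exact zero_ne_one this
  obtain ⟨c, hc⟩ := IsAlgClosed.exists_pow_nat_eq (LinearMap.det T)⁻¹ hd
  have hc0 : c ≠ 0 := by
    rintro rfl
    rw [zero_pow hd.ne'] at hc
    exact inv_ne_zero hdet hc.symm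
  let U : (EndV d)ˣ := ⟨c • T, c⁻¹ • S, by
      rw [smul_mul_smul_comm, hTS, mul_inv_cancel₀ hc0, one_smul], by
      rw [smul_mul_smul_comm, hST, inv_mul_cancel₀ hc0, one_smul]⟩
  have hT : ∀ n : N, T * ρ n = ρ (cn N g n) * T := by
    intro n
    exact φ.isIntertwining' n
  refine ⟨⟨(g, U), ?_, ?_⟩, rfl⟩
  · intro n
    show (c • T) * ρ n = ρ (cn N g n) * (c • T)
    rw [smul_mul_assoc, mul_smul_comm, hT]
  · show LinearMap.det (c • T) ^ _ = 1
    rw [LinearMap.det_smul, Module.finrank_fin_fun, hc, inv_mul_cancel₀ hdet, one_pow]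

/-- The lifted representation is irreducible. -/
theorem Q_irreducible : Representation.IsIrreducible (Q N ρ) := by
  apply isIrreducible_of_comp (iotaL N ρ) (Q N ρ)
  have : MonoidHom.comp (Q N ρ) (iotaL N ρ) = ρ := by
    ext1 n
    rfl
  rw [this]
  infer_instance

theorem scalar_inj {c c' : ℂ} (hd : 0 < d) (h : c • (1 : EndV d) = c' • (1 : EndV d)) : c = c' := by
  have h1 := congrArg (fun T : EndV d => T (fun _ => 1) ⟨0, hd⟩) h
  simpa using h1

/-- Extension criterion. -/
theorem exists_extension (hs : Function.Surjective (piL N ρ)) (L : Lift N ρ →* ℂˣ)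
    (h1 : ∀ n : N, L (iotaL N ρ n) = 1)
    (h2 : ∀ z : Lift N ρ, piL N ρ z = 1 → Q N ρ z = ((L z : ℂˣ) : ℂ) • (1 : EndV d)) :
    ∃ σ : Representation ℂ G (Fin d → ℂ), ∀ n : N, σ n = ρ n := by
  let τ : Lift N ρ → EndV d := fun x => (((L x)⁻¹ : ℂˣ) : ℂ) • Q N ρ x
  have hτ1 : τ 1 = 1 := by
    simp [τ]
  have hτm : ∀ x y, τ (x * y) = τ x * τ y := by
    intro x y
    simp only [τ, map_mul, mul_inv, Units.val_mul]
    rw [smul_mul_smul_comm, mul_comm]
  have hτz : ∀ z, piL N ρ z = 1 → τ z = 1 := by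
    intro z hz
    simp only [τ]
    rw [h2 z hz, smul_smul]
    simp
  have hτe : ∀ x y, piL N ρ x = piL N ρ y → τ x = τ y := by
    intro x y hxy
    have h3 : piL N ρ (y⁻¹ * x) = 1 := by
      rw [map_mul, map_inv, hxy, inv_mul_cancel]
    have h4 : x = y * (y⁻¹ * x) := by group
    rw [h4, hτm, hτz _ h3, mul_one]
  let s := Function.surjInv hs
  have hsr : ∀ g, piL N ρ (s g) = g := Function.surjInv_eq hs
  refine ⟨{ toFun := fun g => τ (s g), map_one' := ?_, map_mul' := ?_ }, ?_⟩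
  · rw [← hτ1]
    apply hτe
    rw [hsr, map_one]
  · intro a b
    rw [← hτm]
    apply hτe
    rw [map_mul, hsr, hsr, hsr]
  · intro n
    show τ (s n) = ρ n
    rw [hτe (s n) (iotaL N ρ n) (by rw [hsr, piL_iota])]
    simp only [τ]
    rw [h1 n, Q_iota]
    simp

omit [Finite G] in
/-- A local extension gives a linear function on the preimage. -/
theorem exists_local_lift (hd : 0 < d) (P : Subgroup G) (hNP : N ≤ P) (σ : Representation ℂ P (Fin d → ℂ))
    (hσ : ∀ n : N, σ ⟨n, hNP n.2⟩ = ρ n) :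
    ∃ l : (P.comap (piL N ρ)) →* ℂˣ, ∀ x : P.comap (piL N ρ),
      Q N ρ x = ((l x : ℂˣ) : ℂ) • σ ⟨piL N ρ x, x.2⟩ := by
  classical
  have hex : ∀ x : P.comap (piL N ρ), ∃ c : ℂˣ, Q N ρ x = (c : ℂ) • σ ⟨piL N ρ x, x.2⟩ := by
    intro x
    set p : P := ⟨piL N ρ x, x.2⟩ with hp
    have h1 : ∃ c : ℂ, σ p⁻¹ * Q N ρ x = c • 1 := by
      apply commute_scalar N ρ
      intro n
      have h2 := Q_intertwine N ρ (x : Lift N ρ) n
      rw [mul_assoc, h2, ← mul_assoc, ← mul_assoc]
      congr 1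
      have h3 : ρ (cn N (piL N ρ x) n) = σ ⟨cn N (piL N ρ x) n, hNP (cn N (piL N ρ x) n).2⟩ := (hσ _).symm
      rw [h3, ← hσ n, ← map_mul, ← map_mul]
      congr 1
      apply Subtype.ext
      simp only [p, cn, Subgroup.coe_mul, InvMemClass.coe_inv]
      group
    obtain ⟨c, hc⟩ := h1
    have h4 : Q N ρ x = c • σ p := by
      have h5 : σ p * (σ p⁻¹ * Q N ρ x) = Q N ρ x := by
        rw [← mul_assoc, ← map_mul, mul_inv_cancel, map_one, one_mul]
      rw [← h5, hc, mul_smul_comm, mul_one]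
    have hc0 : c ≠ 0 := by
      rintro rfl
      rw [zero_smul] at h4
      have h6 : Q N ρ (x : Lift N ρ) * Q N ρ (x : Lift N ρ)⁻¹ = 1 := by
        rw [← map_mul, mul_inv_cancel, map_one]
      change Q N ρ (x : Lift N ρ) = 0 at h4
      rw [h4, zero_mul] at h6
      have h7 := congrArg (fun T : EndV d => T (fun _ => 1) ⟨0, hd⟩) h6
      simp at h7
    exact ⟨Units.mk0 c hc0, h4⟩
  choose f hf using hex
  have huniq : ∀ (c c' : ℂˣ) (A : P), (c : ℂ) • σ A = (c' : ℂ) • σ A → c = c' := by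
    intro c c' A h
    apply Units.ext
    apply scalar_inj (d := d) hd
    have h3 := congrArg (fun T : EndV d => T * σ A⁻¹) h
    simp only [smul_mul_assoc] at h3
    rwa [← map_mul, mul_inv_cancel, map_one] at h3
  refine ⟨MonoidHom.mk' f ?_, fun x => hf x⟩
  intro x y
  apply huniq _ _ ⟨piL N ρ (x * y : P.comap (piL N ρ)), (x * y).2⟩
  rw [← hf (x * y)]
  simp only [Units.val_mul]
  have h8 : (⟨piL N ρ (x * y : P.comap (piL N ρ)), (x * y).2⟩ : P) = ⟨piL N ρ x, x.2⟩ * ⟨piL N ρ y, y.2⟩ := by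
    apply Subtype.ext
    simp
  rw [h8, map_mul, ← smul_mul_smul_comm, ← hf x, ← hf y]
  simp

end Lift

section Gallagher

variable {X : Type u} [Group X] [Fintype X]

theorem norm_ne_zero_of_char {f : X → ℂ} (hf : IsCharacter X f) (h1 : f 1 ≠ 0) : classInner f f ≠ 0 := by
  classical
  intro h
  rw [classInner] at h
  have hX : (Nat.card X : ℂ)⁻¹ ≠ 0 := by
    apply inv_ne_zero
    exact_mod_cast Nat.card_pos.ne'
  have h2 : ∑ x : X, f x * conj (f x) = 0 := by
    rcases mul_eq_zero.1 h with h3 | h3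
    · exact absurd h3 hX
    · exact h3
  have h3 : ∀ x : X, f x * conj (f x) = ((Complex.normSq (f x) : ℝ) : ℂ) := fun x => Complex.mul_conj _
  simp only [h3] at h2
  have h4 : ∑ x : X, Complex.normSq (f x) = 0 := by exact_mod_cast h2
  rw [Finset.sum_eq_zero_iff_of_nonneg (fun x _ => Complex.normSq_nonneg _)] at h4
  have h5 := h4 1 (Finset.mem_univ _)
  exact h1 (Complex.normSq_eq_zero.1 h5)

/-- The induced character of the trivial character from a normal subgroup. -/
theorem indFun_one_normal_expand (K : Subgroup X) [hK : K.Normal] [Fintype K] [Fintype (X ⧸ K)] (x : X) :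
    indFun K (fun _ => 1) x =
      ∑ β : IrrCharacter (X ⧸ K), (Cfsg.Agent.Lib.CharAb.deg β : ℂ) * (β : X ⧸ K → ℂ) (x : X ⧸ K) := by
  classical
  have h1 := column_orthogonality (G := X ⧸ K) (x : X ⧸ K) 1
  have h2 : ∑ β : IrrCharacter (X ⧸ K), (Cfsg.Agent.Lib.CharAb.deg β : ℂ) * (β : X ⧸ K → ℂ) (x : X ⧸ K) =
      ∑ β : IrrCharacter (X ⧸ K), (β : X ⧸ K → ℂ) (x : X ⧸ K) * conj ((β : X ⧸ K → ℂ) 1) := by
    refine Finset.sum_congr rfl fun β _ => ?_
    rw [Cfsg.Agent.Lib.CharAb.apply_one_eq_deg β, Complex.conj_natCast, mul_comm]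
  rw [h2, h1]
  have hXK : ((Nat.card K : ℂ))⁻¹ * (Nat.card X : ℂ) = (Nat.card (X ⧸ K) : ℂ) := by
    have h3 : Nat.card X = Nat.card K * Nat.card (X ⧸ K) := by
      rw [← Subgroup.index_eq_card]
      exact (Subgroup.card_mul_index K).symm
    rw [h3]
    push_cast
    have hKc : (Nat.card K : ℂ) ≠ 0 := by exact_mod_cast Nat.card_pos.ne'
    field_simp
  by_cases hx : x ∈ K
  · have h3 : (x : X ⧸ K) = 1 := (QuotientGroup.eq_one_iff x).2 hx
    rw [h3, if_pos (IsConj.refl _)]
    rw [indFun_apply]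
    have h4 : ∀ t : X, extendByZero K (fun _ => (1 : ℂ)) (t⁻¹ * x * t) = 1 := by
      intro t
      rw [extendByZero_of_mem K _ (by simpa using hK.conj_mem x hx t⁻¹)]
    simp only [h4, Finset.sum_const, Finset.card_univ, nsmul_eq_mul, mul_one]
    rw [← Nat.card_eq_fintype_card, hXK]
    have hcent : Subgroup.centralizer ({1} : Set (X ⧸ K)) = ⊤ := by
      simp
    rw [hcent, Subgroup.card_top]
  · have h3 : (x : X ⧸ K) ≠ 1 := fun h => hx ((QuotientGroup.eq_one_iff x).1 h)
    rw [if_neg (fun h' => h3 (isConj_one_right.1 h'.symm))]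
    exact Cfsg.Agent.Lib.FullyRamified.indFun_of_not_mem K hx

/-- **Gallagher's theorem**: when an irreducible character `q` of `X` restricts irreducibly to a normal
subgroup `K`, the irreducible characters over `q|_K` are the products with characters of `X/K`. -/
theorem gallagher (K : Subgroup X) [hK : K.Normal] [Fintype K] {q : X → ℂ} (hq : IsIrrCharacter X q)
    (hφ : IsIrrCharacter K (fun k : K => q k)) {χ : X → ℂ} (hχ : IsIrrCharacter X χ)
    (h : classInner (fun k : K => χ k) (fun k : K => q k) ≠ 0) :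
    ∃ β : X ⧸ K → ℂ, IsIrrCharacter (X ⧸ K) β ∧ ∀ x : X, χ x = q x * β (x : X ⧸ K) := by
  classical
  letI : Fintype (X ⧸ K) := Fintype.ofFinite _
  set φ : K → ℂ := fun k : K => q k with hφdef
  have hqc := IsIrrCharacter.isCharacter' hq
  have hqcl := IsCharacter.isClassFunction' hqc
  let f : IrrCharacter (X ⧸ K) → X → ℂ := fun β x => q x * (β : X ⧸ K → ℂ) (x : X ⧸ K)
  have hfc : ∀ β, IsCharacter X (f β) := fun β =>
    isCharacter_mul hqc (isCharacter_comp (QuotientGroup.mk' K) (IsIrrCharacter.isCharacter' β.2))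
  let D : IrrCharacter (X ⧸ K) → ℕ := fun β => Cfsg.Agent.Lib.CharAb.deg β
  have hind : indFun K φ = ∑ β : IrrCharacter (X ⧸ K), ((D β : ℕ) : ℂ) • f β := by
    funext x
    have h1 := indFun_mul_restrict K (fun _ => (1 : ℂ)) hqcl x
    simp only [one_mul] at h1
    rw [Finset.sum_apply]
    simp only [hφdef]
    rw [h1, indFun_one_normal_expand K x, Finset.sum_mul]
    refine Finset.sum_congr rfl fun β _ => ?_
    simp only [Pi.smul_apply, smul_eq_mul, f, D]
    ring
  -- the norm of the induced character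
  have hnorm : classInner (indFun K φ) (indFun K φ) = (Nat.card (X ⧸ K) : ℂ) := by
    have h1 := card_mul_norm_ind K hφ
    have h2 : Nat.card {g : X // ∀ h : K, φ ⟨g * h * g⁻¹, hK.conj_mem h h.2 g⟩ = φ h} = Nat.card X := by
      exact Nat.card_congr (Equiv.subtypeUnivEquiv (fun g => fun h => hqcl h g))
    rw [h2] at h1
    have h3 : Nat.card X = Nat.card K * Nat.card (X ⧸ K) := by
      rw [← Subgroup.index_eq_card]
      exact (Subgroup.card_mul_index K).symm
    rw [h3] at h1
    push_cast at h1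
    have hKc : (Nat.card K : ℂ) ≠ 0 := by exact_mod_cast Nat.card_pos.ne'
    exact mul_left_cancel₀ hKc h1
  -- multiplicities
  have hnat : ∀ β β', ∃ n : ℕ, classInner (f β) (f β') = n := fun β β' => exists_nat_classInner (hfc β) (hfc β')
  choose a ha using hnat
  have hsum : ∑ β, ∑ β', D β * D β' * a β β' = ∑ β, D β ^ 2 := by
    have h1 := Cfsg.Agent.Lib.CharAb.sum_deg_sq (G := X ⧸ K)
    have h2 : ((∑ β, ∑ β', D β * D β' * a β β' : ℕ) : ℂ) = ((Nat.card (X ⧸ K) : ℕ) : ℂ) := by
      rw [← hnorm, hind, classInner_sum_left]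
      push_cast
      refine Finset.sum_congr rfl fun β _ => ?_
      rw [classInner_smul_left, classInner_sum_right, Finset.mul_sum]
      refine Finset.sum_congr rfl fun β' _ => ?_
      rw [classInner_smul_right, ha, Complex.conj_natCast]
      ring
    have h3 : (∑ β, ∑ β', D β * D β' * a β β' : ℕ) = Nat.card (X ⧸ K) := by exact_mod_cast h2
    rw [h3, ← h1]
  have hpos : ∀ β, 1 ≤ a β β := by
    intro β
    have h1 := norm_ne_zero_of_char (hfc β) (by
      simp only [f]
      rw [QuotientGroup.mk_one, mul_ne_zero_iff]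
      exact ⟨degree_ne_zero hq, degree_ne_zero β.2⟩)
    rw [ha] at h1
    have : a β β ≠ 0 := by
      intro h0
      apply h1
      rw [h0]
      simp
    omega
  have hDpos : ∀ β, 0 < D β := fun β => Cfsg.Agent.Lib.CharAb.deg_pos β
  have hle : ∀ β ∈ Finset.univ, D β ^ 2 ≤ ∑ β', D β * D β' * a β β' := by
    intro β _
    calc D β ^ 2 = D β * D β * 1 := by ring
      _ ≤ D β * D β * a β β := Nat.mul_le_mul_left _ (hpos β)
      _ ≤ _ := Finset.single_le_sum (f := fun β' => D β * D β' * a β β') (fun _ _ => Nat.zero_le _) (Finset.mem_univ β)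
  have heq := (Finset.sum_eq_sum_iff_of_le hle).1 hsum.symm
  have hone : ∀ β, a β β = 1 := by
    intro β
    have h1 := heq β (Finset.mem_univ _)
    have h2 : D β * D β * a β β ≤ D β ^ 2 := by
      rw [h1]
      exact Finset.single_le_sum (f := fun β' => D β * D β' * a β β') (fun _ _ => Nat.zero_le _) (Finset.mem_univ β)
    have h3 : 0 < D β * D β := Nat.mul_pos (hDpos β) (hDpos β)
    have h4 : a β β ≤ 1 := by
      have : D β * D β * a β β ≤ D β * D β * 1 := by
        rw [mul_one]; rw [sq] at h2; exact h2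
      exact Nat.le_of_mul_le_mul_left this h3
    exact le_antisymm h4 (hpos β)
  have hirr : ∀ β, IsIrrCharacter X (f β) := by
    intro β
    apply isIrr_of_norm_one (hfc β)
    rw [ha, hone]
    simp
  have hfrob : classInner (indFun K φ) χ ≠ 0 := by
    rw [frobenius_reciprocity K φ (IsCharacter.isClassFunction' (IsIrrCharacter.isCharacter' hχ))]
    intro h0
    apply h
    rw [← classInner_conj, h0, map_zero]
  rw [hind, classInner_sum_left] at hfrob
  obtain ⟨β, -, hβ⟩ := Finset.exists_ne_zero_of_sum_ne_zero hfrob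
  rw [classInner_smul_left] at hβ
  have h5 : classInner (f β) χ ≠ 0 := right_ne_zero_of_mul hβ
  rw [classInner_irr (hirr β) hχ] at h5
  have h6 : f β = χ := by
    by_contra h7
    exact h5 (if_neg h7)
  exact ⟨β, β.2, fun x => (congrFun h6 x).symm⟩

end Gallagher

section Invariant

variable {G : Type u} [Group G] [Fintype G] (N : Subgroup G) [hN : N.Normal]

/-- The degree of an irreducible character over an invariant character. -/
theorem degree_of_invariant [Fintype N] {χ : G → ℂ} (hχ : IsIrrCharacter G χ) {ϑ : N → ℂ}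
    (hϑ : IsIrrCharacter N ϑ) (hcon : classInner (fun n : N => χ n) ϑ ≠ 0)
    (hinv : ∀ (g : G) (n : N), ϑ ⟨g * n * g⁻¹, hN.conj_mem (n : G) n.2 g⟩ = ϑ n) :
    ∃ e : ℕ, χ 1 = ϑ 1 * (e : ℂ) ∧ e ∣ N.index := by
  classical
  obtain ⟨d, ρ, hρ, rfl⟩ := hϑ
  obtain ⟨c, σ, hσ, rfl⟩ := hχ
  haveI := hρ
  haveI := hσ
  let X := Lift N ρ
  haveI : Finite X := instFiniteLift N ρ
  letI : Fintype X := Fintype.ofFinite _
  have hsurj : Function.Surjective (piL N ρ) := piL_surjective N ρ hinv
  let q : X → ℂ := (Q N ρ).character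
  have hq : IsIrrCharacter X q := ⟨d, Q N ρ, Q_irreducible N ρ, rfl⟩
  let K : Subgroup X := (iotaL N ρ).range
  have hKn : K.Normal := by
    constructor
    rintro _ ⟨n, rfl⟩ x
    exact ⟨_, (conj_iota N ρ x n).symm⟩
  haveI := hKn
  letI : Fintype K := Fintype.ofFinite _
  let e : K ≃* N := (MonoidHom.ofInjective (iota_injective N ρ)).symm
  have he : ∀ k : K, iotaL N ρ (e k) = k := fun k => MonoidHom.apply_ofInjective_symm _ k
  have hqk : ∀ k : K, q k = ρ.character (e k) := by
    intro k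
    show (Q N ρ).character (k : X) = _
    rw [← he k]
    rfl
  have hπk : ∀ k : K, piL N ρ k = e k := by
    intro k
    rw [← he k, piL_iota]
  have hφ : IsIrrCharacter K (fun k : K => q k) := by
    have h1 := Cfsg.Agent.Lib.CharCliff.isIrr_comp_mulEquiv e (⟨d, ρ, hρ, rfl⟩ : IsIrrCharacter N ρ.character)
    convert h1 using 2 with k
    exact hqk k
  let chat : X → ℂ := fun x => σ.character (piL N ρ x)
  have hchat : IsIrrCharacter X chat :=
    ⟨c, σ.comp (piL N ρ), isIrreducible_comp_surjective _ hsurj σ hσ, rfl⟩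
  have hover : classInner (fun k : K => chat k) (fun k : K => q k) ≠ 0 := by
    intro h0
    apply hcon
    rw [classInner] at h0 ⊢
    have hc : Nat.card K = Nat.card N := Nat.card_congr e.toEquiv
    rw [hc] at h0
    rw [← h0]
    congr 1
    refine Fintype.sum_equiv e.symm.toEquiv _ _ fun n => ?_
    have h1 : ∀ n : N, ((e.symm n : K) : X) = iotaL N ρ n := by
      intro n
      rfl
    simp only [MulEquiv.toEquiv_eq_coe, EquivLike.coe_coe, chat]
    rw [h1 n, piL_iota]
    rfl
  obtain ⟨β, hβ, hχβ⟩ := gallagher K hq hφ hchat hover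
  have h1 := hχβ 1
  obtain ⟨b, τ, hτ, rfl⟩ := hβ
  haveI := hτ
  refine ⟨b, ?_, ?_⟩
  · have h2 : chat 1 = σ.character 1 := by
      simp only [chat, map_one]
    rw [h2] at h1
    rw [h1]
    congr 1
    · show (Q N ρ).character 1 = ρ.character 1
      rw [Representation.char_one, Representation.char_one]
    · rw [QuotientGroup.mk_one, Representation.char_one]
      simp
  · let τ' : Representation ℂ X (Fin b → ℂ) := τ.comp (QuotientGroup.mk' K)
    have hτ' : τ'.IsIrreducible := isIrreducible_comp_surjective _ (QuotientGroup.mk'_surjective K) τ hτ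
    haveI := hτ'
    have h2 := Cfsg.Agent.Lib.CharDeg.finrank_dvd_index_of_scalar τ' hτ' (N.comap (piL N ρ)) ?_
    · rw [Module.finrank_fin_fun, Subgroup.index_comap_of_surjective _ hsurj] at h2
      exact h2
    · intro a ha
      obtain ⟨z, hz, hza⟩ := exists_decomp N ρ a ha
      have h3 : τ' (iotaL N ρ ⟨piL N ρ a, ha⟩) = 1 := by
        have h4 : QuotientGroup.mk' K (iotaL N ρ ⟨piL N ρ a, ha⟩) = 1 :=
          (QuotientGroup.eq_one_iff _).2 ⟨_, rfl⟩
        show τ (QuotientGroup.mk' K (iotaL N ρ ⟨piL N ρ a, ha⟩)) = 1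
        rw [h4, map_one]
      have h5 : τ' a = τ' z := by
        conv_lhs => rw [hza]
        rw [map_mul, h3, one_mul]
      rw [h5]
      obtain ⟨c', hc'⟩ := Cfsg.Agent.Lib.CharClass.schur_scalar τ' (τ' z) (fun y => by
        show τ' z * τ' y = τ' y * τ' z
        rw [← map_mul, ← map_mul, central_of_ker N ρ hz y])
      exact ⟨c', hc'⟩

/-- **Degree of an irreducible character over a character of a normal subgroup.** -/
theorem degree_dvd [Fintype N] {χ : G → ℂ} (hχ : IsIrrCharacter G χ) {ϑ : N → ℂ}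
    (hϑ : IsIrrCharacter N ϑ) (hcon : classInner (fun n : N => χ n) ϑ ≠ 0) :
    ∃ e : ℕ, χ 1 = ϑ 1 * (e : ℂ) ∧ e ∣ N.index := by
  classical
  obtain ⟨ψ, hψ, hχψ, e₀, he₀, hval⟩ := clifford_corr N hχ hϑ hcon
  let T : Subgroup G := inertia N ϑ
  have hcl := IsCharacter.isClassFunction' (IsIrrCharacter.isCharacter' hϑ)
  have hle : N ≤ T := le_inertia N hcl
  letI : Fintype T := Fintype.ofFinite _
  let N₀ : Subgroup T := N.subgroupOf T
  haveI hN₀n : N₀.Normal := Subgroup.normal_subgroupOf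
  letI : Fintype N₀ := Fintype.ofFinite _
  let ε : N₀ ≃* N := Subgroup.subgroupOfEquivOfLe hle
  have hε : ∀ k : N₀, ((ε k : N) : G) = ((k : T) : G) := fun k => rfl
  let ϑ₀ : N₀ → ℂ := fun k => ϑ (ε k)
  have hϑ₀ : IsIrrCharacter N₀ ϑ₀ := isIrr_comp_mulEquiv ε hϑ
  have hinv₀ : ∀ (g : T) (n : N₀), ϑ₀ ⟨g * n * g⁻¹, hN₀n.conj_mem (n : T) n.2 g⟩ = ϑ₀ n := by
    intro g n
    have h1 : conjFun N ϑ (g : G) = ϑ := g.2
    have h2 := congrFun h1 (ε n)
    rw [conjFun_apply] at h2
    exact h2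
  have hres : ∀ k : N₀, ψ (k : T) = (e₀ : ℂ) * ϑ₀ k := by
    intro k
    exact hval (ε k) (hle (ε k).2)
  have hcon₀ : classInner (fun n : N₀ => ψ n) ϑ₀ ≠ 0 := by
    have h1 : (fun n : N₀ => ψ n) = (e₀ : ℂ) • ϑ₀ := by
      funext k
      simp only [Pi.smul_apply, smul_eq_mul]
      exact hres k
    rw [h1, classInner_smul_left, classInner_irr hϑ₀ hϑ₀, if_pos rfl, mul_one]
    exact_mod_cast he₀
  obtain ⟨e, h1, h2⟩ := degree_of_invariant N₀ hψ hϑ₀ hcon₀ hinv₀
  refine ⟨T.index * e, ?_, ?_⟩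
  · rw [hχψ, indFun_one, h1]
    have h3 : ϑ₀ 1 = ϑ 1 := by
      simp only [ϑ₀, map_one]
    rw [h3]
    push_cast
    ring
  · have h3 : N₀.index * T.index = N.index := Subgroup.relIndex_mul_index hle
    rw [← h3, mul_comm]
    exact Nat.mul_dvd_mul_right h2 _

end Invariant

section Extend

variable {G : Type u} [Group G] [Finite G] (N : Subgroup G) [hN : N.Normal] {d : ℕ}
  (ρ : Representation ℂ N (Fin d → ℂ)) [Representation.IsIrreducible ρ]

/-- Exponents `t` such that the `t`-th power of the scalar character extends. -/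
def goodExp : AddSubgroup ℤ where
  carrier := {t | ∃ L : Lift N ρ →* ℂˣ, (∀ n : N, L (iotaL N ρ n) = 1) ∧
    ∀ z : Lift N ρ, piL N ρ z = 1 → (((Qu N ρ z) ^ t : (EndV d)ˣ) : EndV d) = ((L z : ℂˣ) : ℂ) • (1 : EndV d)}
  add_mem' := by
    rintro s t ⟨L1, h1, h1'⟩ ⟨L2, h2, h2'⟩
    refine ⟨L1 * L2, fun n => by simp [h1, h2], fun z hz => ?_⟩
    rw [zpow_add, Units.val_mul, h1' z hz, h2' z hz, smul_mul_smul_comm]
    simp
  zero_mem' := ⟨1, by simp, by simp⟩
  neg_mem' := by
    rintro t ⟨L, h, h'⟩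
    refine ⟨L⁻¹, by simp [h], fun z hz => ?_⟩
    rw [zpow_neg]
    apply Units.inv_eq_of_mul_eq_one_right
    rw [h' z hz, smul_mul_smul_comm]
    simp

/-- The local lift is trivial on the image of `N`. -/
theorem local_lift_iota (hd : 0 < d) {P : Subgroup G} (hNP : N ≤ P) {σ : Representation ℂ P (Fin d → ℂ)}
    (hσ : ∀ n : N, σ ⟨n, hNP n.2⟩ = ρ n) {l : (P.comap (piL N ρ)) →* ℂˣ}
    (hl : ∀ x : P.comap (piL N ρ), Q N ρ x = ((l x : ℂˣ) : ℂ) • σ ⟨piL N ρ x, x.2⟩)
    (x : P.comap (piL N ρ)) (n : N) (hx : (x : Lift N ρ) = iotaL N ρ n) : l x = 1 := by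
  have h1 := hl x
  have h2 : (⟨piL N ρ x, x.2⟩ : P) = ⟨n, hNP n.2⟩ := by
    apply Subtype.ext
    show piL N ρ x = n
    rw [hx, piL_iota]
  rw [h2, hσ, hx, Q_iota] at h1
  apply Units.ext
  apply scalar_inj hd
  have h3 := congrArg (fun T : EndV d => T * ρ n⁻¹) h1
  simp only [smul_mul_assoc] at h3
  rw [← map_mul, mul_inv_cancel, map_one] at h3
  simp only [Units.val_one, one_smul]
  exact h3.symm

/-- The index of a subgroup to which `ρ` extends is a good exponent. -/
theorem index_mem_goodExp (hs : Function.Surjective (piL N ρ)) {P : Subgroup G} (hNP : N ≤ P)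
    (σ : Representation ℂ P (Fin d → ℂ)) (hσ : ∀ n : N, σ ⟨n, hNP n.2⟩ = ρ n) :
    (P.index : ℤ) ∈ goodExp N ρ := by
  classical
  have hd := dim_pos ρ ‹_›
  haveI : Finite (Lift N ρ) := instFiniteLift N ρ
  obtain ⟨l, hl⟩ := exists_local_lift N ρ hd P hNP σ hσ
  let H : Subgroup (Lift N ρ) := P.comap (piL N ρ)
  refine ⟨MonoidHom.transfer l, fun n => ?_, fun z hz => ?_⟩
  · letI : Fintype (Quotient (MulAction.orbitRel (Subgroup.zpowers (iotaL N ρ n)) (Lift N ρ ⧸ H))) :=
      Fintype.ofFinite _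
    rw [MonoidHom.transfer_eq_prod_quotient_orbitRel_zpowers_quot]
    apply Finset.prod_eq_one
    intro q _
    apply local_lift_iota N ρ hd hNP hσ hl
    show _ * (iotaL N ρ n) ^ _ * _ = iotaL N ρ _
    rw [← map_pow]
    have h1 := conj_iota N ρ (Quotient.out (Quotient.out q))⁻¹
      (n ^ Function.minimalPeriod (fun x => (iotaL N ρ n) • x) (Quotient.out q))
    rw [inv_inv] at h1
    exact h1
  · have hcent : ∀ (k : ℕ) (g₀ : Lift N ρ), g₀⁻¹ * z ^ k * g₀ ∈ H → g₀⁻¹ * z ^ k * g₀ = z ^ k := by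
      intro k g₀ _
      have h1 : piL N ρ (z ^ k) = 1 := by rw [map_pow, hz, one_pow]
      rw [mul_assoc, central_of_ker N ρ h1 g₀, inv_mul_cancel_left]
    rw [MonoidHom.transfer_eq_pow l z hcent]
    have hidx : H.index = P.index := Subgroup.index_comap_of_surjective _ hs
    have h2 := hl ⟨z ^ H.index, MonoidHom.transfer_eq_pow_aux z hcent⟩
    have h3 : (⟨piL N ρ (⟨z ^ H.index, MonoidHom.transfer_eq_pow_aux z hcent⟩ : H), (⟨z ^ H.index, MonoidHom.transfer_eq_pow_aux z hcent⟩ : H).2⟩ : P) = 1 := by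
      apply Subtype.ext
      show piL N ρ (z ^ H.index) = 1
      rw [map_pow, hz, one_pow]
    rw [h3, map_one] at h2
    rw [zpow_natCast, ← hidx]
    rw [← h2]
    rfl

/-- **Local to global extension** -/
theorem extends_of_local (hs : Function.Surjective (piL N ρ))
    (hloc : ∀ p : ℕ, p.Prime → ∃ (P : Subgroup G) (hNP : N ≤ P) (σ : Representation ℂ P (Fin d → ℂ)),
      Nat.Coprime P.index p ∧ ∀ n : N, σ ⟨n, hNP n.2⟩ = ρ n) :
    ∃ σ : Representation ℂ G (Fin d → ℂ), ∀ n : N, σ n = ρ n := by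
  classical
  have hd := dim_pos ρ ‹_›
  obtain ⟨t, ht⟩ := Int.subgroup_cyclic (goodExp N ρ)
  have hmem : ∀ p : ℕ, p.Prime → ∃ m : ℕ, (m : ℤ) ∈ goodExp N ρ ∧ Nat.Coprime m p ∧ m ≠ 0 := by
    intro p hp
    obtain ⟨P, hNP, σ, hc, hσ⟩ := hloc p hp
    exact ⟨P.index, index_mem_goodExp N ρ hs hNP σ hσ, hc, Subgroup.index_ne_zero_of_finite⟩
  -- `t` must be a unit
  have hone : (1 : ℤ) ∈ goodExp N ρ := by
    have hdvd : ∀ m : ℤ, m ∈ goodExp N ρ → t ∣ m := by
      intro m hm
      rw [ht] at hm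
      obtain ⟨k, rfl⟩ := AddSubgroup.mem_closure_singleton.1 hm
      exact ⟨k, by simp [mul_comm]⟩
    have hnat : t.natAbs = 1 := by
      by_contra hne
      obtain ⟨p, hp, hpd⟩ := Nat.exists_prime_and_dvd hne
      obtain ⟨m, hm, hc, hm0⟩ := hmem p hp
      have h1 := hdvd _ hm
      have h2 : t.natAbs ∣ m := by
        have := Int.natAbs_dvd_natAbs.2 h1
        simpa using this
      have h3 : p ∣ m := hpd.trans h2
      exact ((Nat.Prime.coprime_iff_not_dvd hp).1 hc.symm) h3
    have htmem : t ∈ goodExp N ρ := by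
      rw [ht]
      exact AddSubgroup.mem_closure_singleton.2 ⟨1, by simp⟩
    rcases Int.natAbs_eq t with h | h
    · rw [hnat] at h
      rw [h] at htmem
      simpa using htmem
    · rw [hnat] at h
      rw [h] at htmem
      have := neg_mem htmem
      simpa using this
  obtain ⟨L, h1, h2⟩ := hone
  refine exists_extension N ρ hs L h1 fun z hz => ?_
  have := h2 z hz
  rwa [zpow_one] at this

end Extend

section Extend2

variable {G : Type u} [Group G] [Finite G] (N : Subgroup G) [hN : N.Normal] {d : ℕ}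
  (ρ : Representation ℂ N (Fin d → ℂ))

/-- A character of `P` extending the character of `ρ` comes from a representation on the same space
extending `ρ` on the nose. -/
theorem local_model {P : Subgroup G} (hNP : N ≤ P) {η : P → ℂ} (hη : IsCharacter P η)
    (hext : ∀ n : N, η ⟨n, hNP n.2⟩ = ρ.character n) :
    ∃ σ : Representation ℂ P (Fin d → ℂ), ∀ n : N, σ ⟨n, hNP n.2⟩ = ρ n := by
  classical
  letI : Fintype N := Fintype.ofFinite _
  obtain ⟨d₀, σ₀, rfl⟩ := hη
  let σ₁ : Representation ℂ N (Fin d₀ → ℂ) := σ₀.comp (Subgroup.inclusion hNP)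
  have hchar : ρ.character = σ₁.character := by
    funext n
    exact (hext n).symm
  obtain ⟨φ⟩ := Cfsg.Agent.Lib.CharEquiv.equiv_of_character_eq' ρ σ₁ hchar
  let e := φ.toLinearEquiv
  refine ⟨{ toFun := fun p => e.symm.toLinearMap ∘ₗ σ₀ p ∘ₗ e.toLinearMap, map_one' := ?_, map_mul' := ?_ }, ?_⟩
  · apply LinearMap.ext
    intro v
    simp
  · intro a b
    apply LinearMap.ext
    intro v
    simp [map_mul, Module.End.mul_apply]
  · intro n
    apply LinearMap.ext
    intro v
    have h1 : e (ρ n v) = σ₁ n (e v) := congrFun (congrArg DFunLike.coe (φ.isIntertwining' n)) v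
    show e.symm (σ₀ ⟨n, hNP n.2⟩ (e v)) = ρ n v
    have h2 : σ₀ ⟨n, hNP n.2⟩ (e v) = σ₁ n (e v) := rfl
    rw [h2, ← h1, LinearEquiv.symm_apply_apply]

/-- The character of an extension is an irreducible character extending. -/
theorem isIrr_of_extension [Representation.IsIrreducible ρ] (σ : Representation ℂ G (Fin d → ℂ)) (h : ∀ n : N, σ n = ρ n) :
    IsIrrCharacter G σ.character ∧ ∀ n : N, σ.character n = ρ.character n := by
  refine ⟨⟨d, σ, ?_, rfl⟩, fun n => ?_⟩
  · apply isIrreducible_of_comp N.subtype σ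
    have : σ.comp N.subtype = ρ := by
      ext1 n
      exact h n
    rw [this]
    infer_instance
  · show LinearMap.trace ℂ _ (σ n) = LinearMap.trace ℂ _ (ρ n)
    rw [h n]

variable [Representation.IsIrreducible ρ]

/-- **Extension across a cyclic quotient.** -/
theorem extends_of_cyclic (hs : Function.Surjective (piL N ρ)) (hcyc : IsCyclic (G ⧸ N)) :
    ∃ σ : Representation ℂ G (Fin d → ℂ), ∀ n : N, σ n = ρ n := by
  classical
  have hd := dim_pos ρ ‹_›
  haveI : Finite (Lift N ρ) := instFiniteLift N ρ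
  letI : Fintype (Lift N ρ) := Fintype.ofFinite _
  obtain ⟨l, hl⟩ := exists_local_lift N ρ hd N le_rfl ρ (fun n => rfl)
  let H : Subgroup (Lift N ρ) := N.comap (piL N ρ)
  letI : Fintype H := Fintype.ofFinite _
  let ω : H → ℂ := fun x => ((l x : ℂˣ) : ℂ)
  have hω : IsIrrCharacter H ω := Cfsg.Agent.Lib.CharAb.isIrrCharacter_of_hom l
  have hInd : IsCharacter (Lift N ρ) (indFun H ω) := isCharacter_indFun H (IsIrrCharacter.isCharacter' hω)
  have hInd1 : indFun H ω 1 ≠ 0 := by
    rw [indFun_one]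
    apply mul_ne_zero
    · exact_mod_cast Subgroup.index_ne_zero_of_finite
    · exact degree_ne_zero hω
  obtain ⟨Ψ, hΨ, hinner⟩ := Cfsg.Agent.Lib.CharAb.exists_constituent hInd hInd1
  have hlι : ∀ (x : H) (n : N), (x : Lift N ρ) = iotaL N ρ n → l x = 1 :=
    fun x n hx => local_lift_iota N ρ hd le_rfl (fun n => rfl) hl x n hx
  have hIndι : ∀ n : N, indFun H ω (iotaL N ρ n) = indFun H ω 1 := by
    intro n
    rw [indFun_apply, indFun_apply]
    congr 1
    refine Finset.sum_congr rfl fun x _ => ?_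
    have h1 : x⁻¹ * iotaL N ρ n * x = iotaL N ρ (cn N (piL N ρ x⁻¹) n) := by
      have := conj_iota N ρ x⁻¹ n
      rwa [inv_inv] at this
    have h2 : x⁻¹ * iotaL N ρ n * x ∈ H := by
      rw [h1]
      show piL N ρ _ ∈ N
      rw [piL_iota]
      exact (cn N (piL N ρ x⁻¹) n).2
    have h3 : x⁻¹ * 1 * x ∈ H := by
      simp [H, Subgroup.mem_comap]
    rw [extendByZero_of_mem H ω h2, extendByZero_of_mem H ω h3]
    have h4 : l ⟨_, h2⟩ = 1 := hlι _ _ h1
    have h5 : l ⟨_, h3⟩ = 1 := hlι ⟨x⁻¹ * 1 * x, h3⟩ 1 (by simp)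
    show ((l ⟨_, h2⟩ : ℂˣ) : ℂ) = ((l ⟨_, h3⟩ : ℂˣ) : ℂ)
    rw [h4, h5]
  have hΨι : ∀ n : N, Ψ (iotaL N ρ n) = Ψ 1 := fun n =>
    Cfsg.Agent.Lib.CharKernel.ker_of_constituent hInd hΨ hinner (hIndι n)
  -- commutators lie in the image of `N`
  let K : Subgroup (Lift N ρ) := (iotaL N ρ).range
  have hKn : K.Normal := by
    constructor
    rintro _ ⟨n, rfl⟩ x
    exact ⟨_, (conj_iota N ρ x n).symm⟩
  haveI := hKn
  let f : (Lift N ρ ⧸ K) →* (G ⧸ N) := QuotientGroup.lift K ((QuotientGroup.mk' N).comp (piL N ρ)) (by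
    rintro _ ⟨n, rfl⟩
    show QuotientGroup.mk' N (piL N ρ (iotaL N ρ n)) = 1
    rw [piL_iota]
    exact (QuotientGroup.eq_one_iff _).2 n.2)
  have hfker : f.ker ≤ Subgroup.center (Lift N ρ ⧸ K) := by
    intro q hq
    obtain ⟨x, rfl⟩ := QuotientGroup.mk_surjective q
    have h1 : piL N ρ x ∈ N := by
      have h2 : f (x : Lift N ρ ⧸ K) = 1 := hq
      exact (QuotientGroup.eq_one_iff _).1 h2
    obtain ⟨z, hz, hzx⟩ := exists_decomp N ρ x h1
    have hmk : ((iotaL N ρ ⟨piL N ρ x, h1⟩ : Lift N ρ) : Lift N ρ ⧸ K) = 1 :=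
      (QuotientGroup.eq_one_iff _).2 ⟨_, rfl⟩
    rw [Subgroup.mem_center_iff]
    intro q'
    obtain ⟨y, rfl⟩ := QuotientGroup.mk_surjective q'
    have hxz : (x : Lift N ρ ⧸ K) = (z : Lift N ρ ⧸ K) := by
      conv_lhs => rw [hzx]
      rw [QuotientGroup.mk_mul, hmk, one_mul]
    rw [hxz, ← QuotientGroup.mk_mul, ← QuotientGroup.mk_mul, central_of_ker N ρ hz y]
  have hcomm : ∀ x y : Lift N ρ, x * y * x⁻¹ * y⁻¹ ∈ K := by
    intro x y
    have h1 := commutative_of_cyclic_center_quotient f hfker (x : Lift N ρ ⧸ K) (y : Lift N ρ ⧸ K)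
    have h2 : ((x * y * x⁻¹ * y⁻¹ : Lift N ρ) : Lift N ρ ⧸ K) = 1 := by
      rw [QuotientGroup.mk_mul, QuotientGroup.mk_mul, QuotientGroup.mk_mul, QuotientGroup.mk_inv,
        QuotientGroup.mk_inv, h1]
      group
    exact (QuotientGroup.eq_one_iff _).1 h2
  have hlin : Ψ 1 = 1 := by
    apply Cfsg.Agent.Lib.CharLinear.degree_one_of_comm hΨ
    intro x y
    obtain ⟨n, hn⟩ := hcomm x y
    rw [← hn]
    exact hΨι n
  have hΨc := IsIrrCharacter.isCharacter' hΨ
  let Λ : Lift N ρ →* ℂˣ := Cfsg.Agent.Lib.CharAb.homOfDegreeOne hΨc hlin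
  have hΛ : ∀ x, ((Λ x : ℂˣ) : ℂ) = Ψ x := Cfsg.Agent.Lib.CharAb.homOfDegreeOne_apply hΨc hlin
  -- comparison with `l`
  have hfrob : classInner ω (fun x : H => Ψ x) ≠ 0 := by
    rw [← frobenius_reciprocity H ω (IsCharacter.isClassFunction' hΨc)]
    exact hinner
  have hres : IsIrrCharacter H (fun x : H => Ψ x) := by
    have h1 := Cfsg.Agent.Lib.CharAb.isIrrCharacter_of_hom (Λ.comp H.subtype)
    convert h1 using 2 with x
    exact (hΛ x).symm
  have heq : ω = fun x : H => Ψ x := by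
    by_contra hne
    rw [classInner_irr hω hres, if_neg hne] at hfrob
    exact hfrob rfl
  refine exists_extension N ρ hs Λ (fun n => ?_) (fun z hz => ?_)
  · apply Units.ext
    rw [hΛ, hΨι, hlin]
    rfl
  · have hzH : z ∈ H := by
      show piL N ρ z ∈ N
      rw [hz]
      exact one_mem _
    have h1 := hl ⟨z, hzH⟩
    have h2 : (⟨piL N ρ z, hzH⟩ : N) = 1 := Subtype.ext hz
    simp only [] at h1
    rw [h2, map_one] at h1
    rw [h1, hΛ]
    congr 1
    exact congrFun heq ⟨z, hzH⟩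

end Extend2

end Cfsg.Agent.Lib.CharLift
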