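import Cfsg.Agent.Lib.CharGal
import Cfsg.Agent.Lib.H7Char
import Cfsg.Prelude.Def_Transfer

/-!
# The order of `O^p(G)` modulo `p` in terms of characters
-/

set_option autoImplicit false
set_option linter.all false

namespace Cfsg.Agent.Lib.CharResid

open Cfsg Cfsg.Agent.Lib.CharOps Cfsg.Agent.Lib.CharIrr Cfsg.Agent.Lib.CharDet Cfsg.Agent.Lib.CharDet2
  Cfsg.Agent.Lib.CharDet3 Cfsg.Agent.Lib.CharAb Cfsg.Agent.Lib.CharGal Cfsg.Agent.Lib.CharBlockDefect
open scoped ComplexConjugate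

universe u

section Orb

variable {P X : Type*} [Group P] [Fintype X] [MulAction P X]

theorem dvd_sum_of_invariant (p : ℕ) (w : X → ℤ) (hw : ∀ (g : P) x, w (g • x) = w x)
    (hcard : ∀ x : X, (∃ g : P, g • x ≠ x) → p ∣ (MulAction.orbit P x).ncard)
    (S : Finset X) (hS : ∀ x ∈ S, ∀ g : P, g • x ∈ S) (hS2 : ∀ x ∈ S, ∃ g : P, g • x ≠ x) :
    (p : ℤ) ∣ ∑ x ∈ S, w x := by
  classical
  induction S using Finset.strongInduction with
  | H S IH =>
  by_cases hne : S.Nonempty
  · obtain ⟨x₀, hx₀⟩ := hne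
    let O := S.filter (fun y => y ∈ MulAction.orbit P x₀)
    have hO : (O : Set X) = MulAction.orbit P x₀ := by
      ext y
      simp only [O, Finset.coe_filter, Set.mem_setOf_eq, and_iff_right_iff_imp]
      rintro ⟨g, rfl⟩
      exact hS x₀ hx₀ g
    have h1 : ∑ x ∈ O, w x = (O.card : ℤ) * w x₀ := by
      rw [Finset.sum_eq_card_nsmul (b := w x₀) (fun y hy => by
        obtain ⟨g, rfl⟩ := (Finset.mem_filter.mp hy).2
        exact hw g x₀), nsmul_eq_mul]
    have h2 : p ∣ O.card := by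
      have h3 := hcard x₀ (hS2 x₀ hx₀)
      rw [← hO, Set.ncard_coe_finset] at h3
      exact h3
    have hsub : O ⊆ S := Finset.filter_subset _ _
    have hx₀O : x₀ ∈ O := Finset.mem_filter.mpr ⟨hx₀, MulAction.mem_orbit_self x₀⟩
    have h4 : (p : ℤ) ∣ ∑ x ∈ S \ O, w x := by
      apply IH (S \ O)
      · refine Finset.sdiff_ssubset hsub ⟨x₀, hx₀O⟩
      · intro x hx g
        rw [Finset.mem_sdiff] at hx ⊢
        refine ⟨hS x hx.1 g, fun h5 => hx.2 ?_⟩
        refine Finset.mem_filter.mpr ⟨hx.1, ?_⟩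
        have h6 := (Finset.mem_filter.mp h5).2
        obtain ⟨c, hc⟩ := h6
        refine ⟨g⁻¹ * c, ?_⟩
        show (g⁻¹ * c) • x₀ = x
        rw [mul_smul]
        rw [show c • x₀ = g • x from hc]
        simp
      · intro x hx
        exact hS2 x (Finset.mem_sdiff.mp hx).1
    rw [← Finset.sum_sdiff hsub, h1]
    exact dvd_add h4 (Dvd.dvd.mul_right (by exact_mod_cast h2) _)
  · rw [Finset.not_nonempty_iff_eq_empty] at hne
    subst hne
    simp

end Orb

section Resid

variable {G : Type u} [Group G] [Fintype G] (p : ℕ)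

theorem pResidual_normal : (pResidual p G).Normal := by
  refine ⟨fun n hn g => ?_⟩
  unfold pResidual at hn ⊢
  induction hn using Subgroup.closure_induction with
  | mem x hx =>
    apply Subgroup.subset_closure
    show Nat.Coprime (orderOf (g * x * g⁻¹)) p
    have h1 : orderOf (g * x * g⁻¹) = orderOf x :=
      orderOf_injective (MulAut.conj g).toMonoidHom (MulAut.conj g).injective x
    rw [h1]
    exact hx
  | one => simp
  | mul x y _ _ hx hy =>
    have h1 : g * (x * y) * g⁻¹ = (g * x * g⁻¹) * (g * y * g⁻¹) := by group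
    rw [h1]
    exact Subgroup.mul_mem _ hx hy
  | inv x _ hx =>
    have h1 : g * x⁻¹ * g⁻¹ = (g * x * g⁻¹)⁻¹ := by group
    rw [h1]
    exact Subgroup.inv_mem _ hx

variable (hp : p.Prime)
include hp

theorem pow_mem_pResidual (g : G) : ∃ k : ℕ, g ^ p ^ k ∈ pResidual p G := by
  refine ⟨(orderOf g).factorization p, Subgroup.subset_closure ?_⟩
  show Nat.Coprime (orderOf (g ^ p ^ (orderOf g).factorization p)) p
  have h0 : orderOf g ≠ 0 := (orderOf_pos g).ne'
  have hd : p ^ (orderOf g).factorization p ∣ orderOf g := Nat.ordProj_dvd _ _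
  rw [orderOf_pow_of_dvd (by positivity [hp.pos]) hd]
  exact (Nat.coprime_ordCompl hp h0).symm

theorem isPGroup_quot : haveI := pResidual_normal (G := G) p; IsPGroup p (G ⧸ pResidual p G) := by
  haveI := pResidual_normal (G := G) p
  intro x
  induction x using QuotientGroup.induction_on with
  | H g =>
    obtain ⟨k, hk⟩ := pow_mem_pResidual p hp g
    refine ⟨k, ?_⟩
    rw [← QuotientGroup.mk_pow]
    exact (QuotientGroup.eq_one_iff _).mpr hk

theorem index_pResidual : ∃ n : ℕ, (pResidual p G).index = p ^ n := by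
  haveI := pResidual_normal (G := G) p
  haveI : Fact p.Prime := ⟨hp⟩
  obtain ⟨n, hn⟩ := IsPGroup.iff_card.mp (isPGroup_quot p hp (G := G))
  exact ⟨n, by rw [Subgroup.index_eq_card, hn]⟩

/-- A linear character of `O^p(G)` has order prime to `p`. -/
theorem not_dvd_orderOf_hom (f : pResidual p G →* ℂˣ) : ¬ p ∣ orderOf f := by
  intro hd
  set s := ordCompl[p] (Nat.card (pResidual p G)) with hs
  have hcardpos : Nat.card (pResidual p G) ≠ 0 := Nat.card_pos.ne'
  let g : pResidual p G →* ℂˣ := (powMonoidHom s).comp f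
  have hle : pResidual p G ≤ (g.ker).map (pResidual p G).subtype := by
    conv_lhs => unfold pResidual
    refine (Subgroup.closure_le _).mpr ?_
    intro x hc
    have hx : x ∈ pResidual p G := Subgroup.subset_closure hc
    refine ⟨⟨x, hx⟩, ?_, rfl⟩
    have h2 : orderOf (⟨x, hx⟩ : pResidual p G) ∣ s := by
      have h3 : orderOf (⟨x, hx⟩ : pResidual p G) ∣ Nat.card (pResidual p G) := orderOf_dvd_natCard _
      have h4 : Nat.Coprime (orderOf (⟨x, hx⟩ : pResidual p G)) p := by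
        rw [Subgroup.orderOf_mk]
        exact hc
      have h5 : Nat.card (pResidual p G) = p ^ (Nat.card (pResidual p G)).factorization p * s :=
        (Nat.ordProj_mul_ordCompl_eq_self _ _).symm
      rw [h5] at h3
      exact (Nat.Coprime.pow_right _ h4).dvd_of_dvd_mul_left h3
    show (f ⟨x, hx⟩) ^ s = 1
    rw [← map_pow, orderOf_dvd_iff_pow_eq_one.mp h2, map_one]
  have h2 : f ^ s = 1 := by
    ext x
    obtain ⟨y, hy, hyx⟩ := hle x.2
    have h4 : y = x := Subtype.ext hyx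
    subst h4
    have h5 : (f ^ s) y = (f y) ^ s := rfl
    rw [h5]
    exact congrArg Units.val hy
  have h3 : orderOf f ∣ s := orderOf_dvd_of_pow_eq_one h2
  exact Nat.not_dvd_ordCompl hp hcardpos (hd.trans h3)

theorem not_dvd_detOrder {θ : pResidual p G → ℂ} (hθ : IsCharacter (pResidual p G) θ) : ¬ p ∣ detOrder θ := by
  rw [detOrder_eq hθ]
  exact not_dvd_orderOf_hom p hp _

end Resid

section Main

variable {G : Type u} [Group G] [Fintype G] (p : ℕ) (hp : p.Prime)
include hp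

theorem charDegree_restrict {K : Subgroup G} (χ : G → ℂ) : charDegree (fun n : K => χ n) = charDegree χ := rfl

theorem residual_congr :
    (Nat.card (pResidual p G) : ℤ) ≡
      (∑ᶠ χ ∈ {χ : IrrCharacter G | ¬ p ∣ charDegree (χ : G → ℂ) ∧ ¬ p ∣ detOrder (χ : G → ℂ)},
        (charDegree (χ : G → ℂ) : ℤ) ^ 2) [ZMOD p] := by
  classical
  set K := pResidual p G with hKdef
  haveI hK : K.Normal := pResidual_normal (G := G) p
  letI : Fintype K := Fintype.ofFinite K
  obtain ⟨i, hi⟩ := index_pResidual (G := G) p hp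
  have hco : ∀ m : ℕ, ¬ p ∣ m → K.index.Coprime m := by
    intro m hm
    rw [hi]
    exact Nat.Coprime.pow_left i ((Nat.Prime.coprime_iff_not_dvd hp).mpr hm)
  have hcanon : ∀ θ : K → ℂ, IsIrrCharacter K θ → (∀ (g : G) (n : K), θ ⟨g * n * g⁻¹, hK.conj_mem (n : G) n.2 g⟩ = θ n) →
      ¬ p ∣ charDegree θ → ∃ χ : G → ℂ, (IsIrrCharacter G χ ∧ (∀ n : K, χ n = θ n) ∧ detOrder χ = detOrder θ) ∧
      ∀ χ' : G → ℂ, IsIrrCharacter G χ' → (∀ n : K, χ' n = θ n) → K.index.Coprime (detOrder χ') → χ' = χ := by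
    intro θ hθ hinv hd
    have hθ' := IsIrrCharacter.isCharacter' hθ
    exact canonical_ext K θ hθ hinv (charDegree θ) (charDegree_cast hθ').symm
      (Nat.Coprime.mul_right (hco _ (not_dvd_detOrder p hp hθ')) (hco _ hd))
  have hext : ∀ θ : K → ℂ, IsIrrCharacter K θ → (∀ (g : G) (n : K), θ ⟨g * n * g⁻¹, hK.conj_mem (n : G) n.2 g⟩ = θ n) →
      K.index.Coprime (charDegree θ) → ∃ ψ : G → ℂ, IsIrrCharacter G ψ ∧ ∀ n : K, ψ n = θ n := by
    intro θ hθ hinv hd
    have hθ' := IsIrrCharacter.isCharacter' hθ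
    obtain ⟨χ, ⟨h1, h2, -⟩, -⟩ := canonical_ext K θ hθ hinv (charDegree θ) (charDegree_cast hθ').symm
      (Nat.Coprime.mul_right (hco _ (not_dvd_detOrder p hp hθ')) hd)
    exact ⟨χ, h1, h2⟩
  let φ : G →* Equiv.Perm (IrrCharacter K) := Cfsg.Agent.Lib.GlaubL.permIrr.comp (MulAut.conjNormal (H := K))
  letI act : MulAction G (IrrCharacter K) := MulAction.compHom _ φ
  have hsm : ∀ (g : G) (θ : IrrCharacter K) (x : K), ((g • θ : IrrCharacter K) : K → ℂ) x = (θ : K → ℂ) ((MulAut.conjNormal g)⁻¹ x) := fun _ _ _ => rfl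
  let w : IrrCharacter K → ℤ := fun θ => (charDegree (θ : K → ℂ) : ℤ) ^ 2
  have hw : ∀ (g : G) θ, w (g • θ) = w θ := by
    intro g θ
    have h1 : charDegree ((g • θ : IrrCharacter K) : K → ℂ) = charDegree (θ : K → ℂ) := by
      unfold charDegree
      rw [hsm, map_one]
    simp only [w, h1]
  have hc1 : ∀ (g : G) (n : K), (MulAut.conjNormal g⁻¹)⁻¹ n = ⟨g * n * g⁻¹, hK.conj_mem (n : G) n.2 g⟩ := by
    intro g n
    apply Subtype.ext
    rw [← map_inv, inv_inv, MulAut.conjNormal_apply]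
  have hfix : ∀ θ : IrrCharacter K, (∀ g : G, g • θ = θ) ↔
      ∀ (g : G) (n : K), (θ : K → ℂ) ⟨g * n * g⁻¹, hK.conj_mem (n : G) n.2 g⟩ = (θ : K → ℂ) n := by
    intro θ
    constructor
    · intro h g n
      have h1 := h g⁻¹
      have h2 : ((g⁻¹ • θ : IrrCharacter K) : K → ℂ) n = (θ : K → ℂ) n := by rw [h1]
      rw [hsm, hc1] at h2
      exact h2
    · intro h g
      apply Subtype.ext
      funext x
      rw [hsm]
      have h2 := h g⁻¹ x
      rw [← hc1, inv_inv] at h2
      exact h2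
  have hKstab : ∀ θ : IrrCharacter K, K ≤ MulAction.stabilizer G θ := by
    intro θ n hn
    show (n : G) • θ = θ
    apply Subtype.ext
    funext x
    rw [hsm]
    have hcl := IsCharacter.isClassFunction' (IsIrrCharacter.isCharacter' θ.2)
    have h1 : (MulAut.conjNormal n)⁻¹ x = (⟨n, hn⟩ : K)⁻¹ * x * (⟨n, hn⟩ : K)⁻¹⁻¹ := by
      apply Subtype.ext
      rw [← map_inv, MulAut.conjNormal_apply]
      simp
    rw [h1, hcl]
  have hcard : ∀ θ : IrrCharacter K, (∃ g : G, g • θ ≠ θ) → p ∣ (MulAction.orbit G θ).ncard := by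
    rintro θ ⟨g, hg⟩
    rw [← MulAction.index_stabilizer]
    have h1 : (MulAction.stabilizer G θ).index ∣ p ^ i := by
      rw [← hi]
      exact Subgroup.index_dvd_of_le (hKstab θ)
    obtain ⟨j, -, hj⟩ := (Nat.dvd_prime_pow hp).mp h1
    rw [hj]
    rcases Nat.eq_zero_or_pos j with h0 | h0
    · exfalso
      rw [h0, pow_zero, Subgroup.index_eq_one] at hj
      apply hg
      have h2 : g ∈ MulAction.stabilizer G θ := by
        rw [hj]
        exact Subgroup.mem_top g
      exact h2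
    · exact dvd_pow_self p h0.ne'
  have hsum0 : (Nat.card K : ℤ) = ∑ θ : IrrCharacter K, w θ := by
    have h1 := Cfsg.Agent.Lib.CharAb.sum_deg_sq (G := K)
    simp only [w, Cfsg.Agent.Lib.H7Char.charDegree_eq_deg]
    exact_mod_cast h1.symm
  let Fx : IrrCharacter K → Prop := fun θ => ∀ g : G, g • θ = θ
  have hnf : (p : ℤ) ∣ ∑ θ ∈ Finset.univ.filter (fun θ => ¬ Fx θ), w θ := by
    apply dvd_sum_of_invariant (P := G) p w hw hcard
    · intro θ hθ g
      simp only [Finset.mem_filter, Finset.mem_univ, true_and] at hθ ⊢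
      intro h2
      apply hθ
      have h3 := h2 g⁻¹
      rw [inv_smul_smul] at h3
      rw [h3]
      exact h2
    · intro θ hθ
      simp only [Finset.mem_filter, Finset.mem_univ, true_and] at hθ
      simpa [Fx] using hθ
  let B : Finset (IrrCharacter K) := Finset.univ.filter (fun θ => Fx θ ∧ ¬ p ∣ charDegree (θ : K → ℂ))
  let C : Finset (IrrCharacter K) := Finset.univ.filter (fun θ => Fx θ ∧ ¬ ¬ p ∣ charDegree (θ : K → ℂ))
  have hBC : ∑ θ ∈ Finset.univ.filter (fun θ => Fx θ), w θ = ∑ θ ∈ B, w θ + ∑ θ ∈ C, w θ := by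
    rw [← Finset.sum_filter_add_sum_filter_not (Finset.univ.filter (fun θ => Fx θ)) (fun θ => ¬ p ∣ charDegree (θ : K → ℂ)) w,
      Finset.filter_filter, Finset.filter_filter]
  have hC : (p : ℤ) ∣ ∑ θ ∈ C, w θ := by
    apply Finset.dvd_sum
    intro θ hθ
    have h1 := (Finset.mem_filter.mp hθ).2.2
    rw [not_not] at h1
    simp only [w]
    exact Dvd.dvd.trans (by exact_mod_cast h1) (dvd_pow_self _ (by norm_num))
  have hAB : (∑ᶠ χ ∈ {χ : IrrCharacter G | ¬ p ∣ charDegree (χ : G → ℂ) ∧ ¬ p ∣ detOrder (χ : G → ℂ)},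
        (charDegree (χ : G → ℂ) : ℤ) ^ 2) = ∑ θ ∈ B, w θ := by
    rw [finsum_mem_eq_finite_toFinset_sum _ (Set.toFinite _)]
    refine Finset.sum_bij (fun χ hχ => (⟨fun n : K => (χ : G → ℂ) n, restrict_irr_of_coprime K hext χ.2
      (hco _ ((Set.Finite.mem_toFinset _).mp hχ).1)⟩ : IrrCharacter K)) ?_ ?_ ?_ ?_
    · intro χ hχ
      have h1 := (Set.Finite.mem_toFinset _).mp hχ
      refine Finset.mem_filter.mpr ⟨Finset.mem_univ _, ?_, h1.1⟩
      refine (hfix _).mpr fun g n => ?_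
      exact IsCharacter.isClassFunction' (IsIrrCharacter.isCharacter' χ.2) _ _
    · intro χ₁ h₁ χ₂ h₂ h
      have h₁' := (Set.Finite.mem_toFinset _).mp h₁
      have h₂' := (Set.Finite.mem_toFinset _).mp h₂
      have hirr := restrict_irr_of_coprime K hext χ₁.2 (hco _ h₁'.1)
      obtain ⟨χ₀, -, hu⟩ := hcanon (fun n : K => (χ₁ : G → ℂ) n) hirr
        (fun g n => IsCharacter.isClassFunction' (IsIrrCharacter.isCharacter' χ₁.2) _ _) h₁'.1
      have h3 : (χ₁ : G → ℂ) = χ₀ := hu _ χ₁.2 (fun _ => rfl) (hco _ h₁'.2)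
      have h4 : (χ₂ : G → ℂ) = χ₀ := hu _ χ₂.2 (fun n => by
        have h5 := congrArg (fun θ : IrrCharacter K => (θ : K → ℂ) n) h
        exact h5.symm) (hco _ h₂'.2)
      exact Subtype.ext (h3.trans h4.symm)
    · intro θ hθ
      have h1 := (Finset.mem_filter.mp hθ).2
      obtain ⟨χ₀, ⟨h2, h3, h4⟩, -⟩ := hcanon θ θ.2 ((hfix θ).mp h1.1) h1.2
      have h5 : (fun n : K => χ₀ n) = (θ : K → ℂ) := funext h3
      refine ⟨⟨χ₀, h2⟩, (Set.Finite.mem_toFinset _).mpr ⟨?_, ?_⟩, Subtype.ext h5⟩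
      · show ¬ p ∣ charDegree χ₀
        rw [← charDegree_restrict (K := K) p hp χ₀, h5]
        exact h1.2
      · show ¬ p ∣ detOrder χ₀
        rw [h4]
        exact not_dvd_detOrder p hp (IsIrrCharacter.isCharacter' θ.2)
    · intro χ hχ
      rfl
  rw [hAB]
  refine (Int.modEq_iff_dvd).mpr ?_
  have h5 : ∑ θ ∈ B, w θ - (Nat.card K : ℤ) = -(∑ θ ∈ C, w θ + ∑ θ ∈ Finset.univ.filter (fun θ => ¬ Fx θ), w θ) := by
    rw [hsum0, ← Finset.sum_filter_add_sum_filter_not Finset.univ (fun θ => Fx θ) w, hBC]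
    ring
  rw [h5]
  exact dvd_neg.mpr (dvd_add hC hnf)

end Main

end Cfsg.Agent.Lib.CharResid
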