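import Cfsg.Agent.Lib.ChevCore
import Cfsg.Prelude.Def_ChevE8

/-! Certificate for type E8 (generated, helper4). -/

set_option autoImplicit false
set_option linter.all false
set_option maxRecDepth 1000000

namespace Cfsg.Agent.Lib.ChevSym

open Cfsg.Lie

def certE8 : Cert where
  wTab := [89010710832726070714151161094414522261048587326581510595392028524030207563957026801107561780730543875635899695872657540013727267355752929009945983259756149830046491061614462711827468647410691219483793969699872786852253216181086040217948769591709564461412580249235256415527480204464476331546285723345807496788342194623506928674460502856817942549765057009024427281542244180397900240359504473124310118170232911525014401390998667463253019886626284409262937152958555578213187162928665144744945462487135302530904835859273767658661597756841433802992835089440598390061610903988634517760, 89010710832725403821992757481139071596698173965191600472753702822147364158672239454480583766054916428145578667561196346286240294973106193453481602022994238457747057000441148872921567985804927830925184562410761361820642221993159403124364699503886667373585590236200204532233412719031984404037316613648740789033672441744072877792284927471549198215319587161646246739142712406116015301396244861203768991281616970164435876457802828834673089209444828885868975419990867550410752616208765434029454275512555058899218984728513362813046938098819618253410658999715481853523381007317721022720,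 89010710832725745165782235459872475154280622121245305451935284189796891986609553508120115617800247381425903506913793501621740144058856426409726296520870105944088071210077208036158123281336922507974837557012631125147342853176418750825867691433342788636856825459490268921107323757655376441022236038140059219790486132896388440655383746867478063393865412376222232171226315736044435218013124881770230153482484127468225324367815592321859374033917761553313348740424564716417650837788186550135374827969386553419933334973793356178552598849513931315254120302644802431154599699746591473920, 89010710832640042910111002570656357653715391413141566596331023776964856083669365258548140478906507872628955595684419254834843229232697776527642939107948214787375489097164882990093468904723498389665687901900427190291264427804358237891932228052664145351264877813819956450891804972988388003365098856358027288215824823748769396133189946047224742087238448032137898031788973343765419247008549016964559503462021292736161599259527505720347129268890925678250880711178934622972084815217513580310228965341853079554683461698062554884656178636540855221896711318667953180723757473301824405760, 89010710810700264150582617630331042255881895932910918226714852776874391712560822123306201324846964430844654021744796813142187524010757855487702572916830330127298365693899458709456758086075824036756691770046586241064145029133056116495308293743993175776525086010282095515927038476928213975218102397351640852387061258815504561004829092548212349860608510285292324260881662547262759342960965261517043933646963449207241238405678966067672724730749373320049762418207315511506201541333274614526630211416916896943463791273270459031700074181856090797289197533059447945620264098913323188480,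 89010705194116901706207898042593272076635715598316080962368373660183275904963211241670112868150747514853452339348300442536856573504108070476071578517515459877170448087740084341605535907786739352171560154020690462814959752126950608726406504555309146021826472933762216957718802688115433395906838355161543700798538259399617365590114206434373053162203444095549298876781670225955956867766795389687715615088611026287293754751444324085777775017164061220134326830106176777561728721517073324255709968496742906099242262077598598897834567242933249561462858944112061751703801260570581336320, 89009267348776115946259729773659820922684365030336125747795389469672832738436486560006107076294386215399861108218061426761033223202858027703265974144867968881077088308644070388014335446175521462296218898606490586008687349314690079072884976809321978274044767002146488503282587066531463532201212884356974697146753815329103501718218155712615386612077501918825553327818300954160685785812314943431026242586854979814233718477042248871847137512423246283316098823861341191045350782894843980481615436882682789356038401372194376474142161795991775560137622389820726250948292215778419212800, 88641178941534961399528574982133574396814677498906256381400989866246665564627449953229161844680194659074190077933092506923116215135179707304662642718937925229953648022107495859618087372822661764163967864959498616813225990959921021107342227069879379961702186122601970179144962718114610669862116384906490085474227268535270866071537994068712179526991254658483445889533178669162414355083484286780054293952034942920139124176531856893144339475625188267984313062904125435984721199090783521652049076887975122872968631645246134704052914889999252209582043955376412284065663104007717126145]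
  etaTab := [20597399253703088803137291363919720476649811351842022074600809197223744, 41464424276439592458547658795802407934099191135292454134463122888474720, 34534849182311705006499453394853494570293073576682290393498244893048992, 58692198817062529918959764646698662451337801727423465191247917552271632, 112167290887630127568134548647500768953880284869065220113818780602270216, 221725565796465234069846255712747878990393484658275795028023269379933188, 442146608110382968443535400616058046441516637287510334612417353510815746, 883640953424295284539211242083837250739230978062844892341602038697168897]

theorem sortedE8 : chainSortedB chevE8 = true := by decide +kernel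
theorem negE8 : negCheck chevE8 = true := by decide +kernel
theorem wE8 : wCheck chevE8 certE8 = true := by decide +kernel
theorem nE8 : nCheck chevE8 certE8 = true := by decide +kernel
theorem conjE8_0_0 : conjChunk chevE8 certE8 0 0 20 = true := by decide +kernel
theorem conjE8_0_1 : conjChunk chevE8 certE8 0 20 20 = true := by decide +kernel
theorem conjE8_0_2 : conjChunk chevE8 certE8 0 40 20 = true := by decide +kernel
theorem conjE8_0_3 : conjChunk chevE8 certE8 0 60 20 = true := by decide +kernel
theorem conjE8_0_4 : conjChunk chevE8 certE8 0 80 20 = true := by decide +kernel
theorem conjE8_0_5 : conjChunk chevE8 certE8 0 100 20 = true := by decide +kernel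
theorem conjE8_0_6 : conjChunk chevE8 certE8 0 120 20 = true := by decide +kernel
theorem conjE8_0_7 : conjChunk chevE8 certE8 0 140 20 = true := by decide +kernel
theorem conjE8_0_8 : conjChunk chevE8 certE8 0 160 20 = true := by decide +kernel
theorem conjE8_0_9 : conjChunk chevE8 certE8 0 180 20 = true := by decide +kernel
theorem conjE8_0_10 : conjChunk chevE8 certE8 0 200 20 = true := by decide +kernel
theorem conjE8_0_11 : conjChunk chevE8 certE8 0 220 20 = true := by decide +kernel
theorem conjE8_0 : ∀ r < chevE8.nroots, conjCheck1 chevE8 certE8 0 r = true := by
  apply conj_of_chunks 20 12 (by decide)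
  intro c hc
  interval_cases c
  · exact conjE8_0_0
  · exact conjE8_0_1
  · exact conjE8_0_2
  · exact conjE8_0_3
  · exact conjE8_0_4
  · exact conjE8_0_5
  · exact conjE8_0_6
  · exact conjE8_0_7
  · exact conjE8_0_8
  · exact conjE8_0_9
  · exact conjE8_0_10
  · exact conjE8_0_11
theorem conjE8_1_0 : conjChunk chevE8 certE8 1 0 20 = true := by decide +kernel
theorem conjE8_1_1 : conjChunk chevE8 certE8 1 20 20 = true := by decide +kernel
theorem conjE8_1_2 : conjChunk chevE8 certE8 1 40 20 = true := by decide +kernel
theorem conjE8_1_3 : conjChunk chevE8 certE8 1 60 20 = true := by decide +kernel
theorem conjE8_1_4 : conjChunk chevE8 certE8 1 80 20 = true := by decide +kernel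
theorem conjE8_1_5 : conjChunk chevE8 certE8 1 100 20 = true := by decide +kernel
theorem conjE8_1_6 : conjChunk chevE8 certE8 1 120 20 = true := by decide +kernel
theorem conjE8_1_7 : conjChunk chevE8 certE8 1 140 20 = true := by decide +kernel
theorem conjE8_1_8 : conjChunk chevE8 certE8 1 160 20 = true := by decide +kernel
theorem conjE8_1_9 : conjChunk chevE8 certE8 1 180 20 = true := by decide +kernel
theorem conjE8_1_10 : conjChunk chevE8 certE8 1 200 20 = true := by decide +kernel
theorem conjE8_1_11 : conjChunk chevE8 certE8 1 220 20 = true := by decide +kernel
theorem conjE8_1 : ∀ r < chevE8.nroots, conjCheck1 chevE8 certE8 1 r = true := by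
  apply conj_of_chunks 20 12 (by decide)
  intro c hc
  interval_cases c
  · exact conjE8_1_0
  · exact conjE8_1_1
  · exact conjE8_1_2
  · exact conjE8_1_3
  · exact conjE8_1_4
  · exact conjE8_1_5
  · exact conjE8_1_6
  · exact conjE8_1_7
  · exact conjE8_1_8
  · exact conjE8_1_9
  · exact conjE8_1_10
  · exact conjE8_1_11
theorem conjE8_2_0 : conjChunk chevE8 certE8 2 0 20 = true := by decide +kernel
theorem conjE8_2_1 : conjChunk chevE8 certE8 2 20 20 = true := by decide +kernel
theorem conjE8_2_2 : conjChunk chevE8 certE8 2 40 20 = true := by decide +kernel
theorem conjE8_2_3 : conjChunk chevE8 certE8 2 60 20 = true := by decide +kernel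
theorem conjE8_2_4 : conjChunk chevE8 certE8 2 80 20 = true := by decide +kernel
theorem conjE8_2_5 : conjChunk chevE8 certE8 2 100 20 = true := by decide +kernel
theorem conjE8_2_6 : conjChunk chevE8 certE8 2 120 20 = true := by decide +kernel
theorem conjE8_2_7 : conjChunk chevE8 certE8 2 140 20 = true := by decide +kernel
theorem conjE8_2_8 : conjChunk chevE8 certE8 2 160 20 = true := by decide +kernel
theorem conjE8_2_9 : conjChunk chevE8 certE8 2 180 20 = true := by decide +kernel
theorem conjE8_2_10 : conjChunk chevE8 certE8 2 200 20 = true := by decide +kernel
theorem conjE8_2_11 : conjChunk chevE8 certE8 2 220 20 = true := by decide +kernel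
theorem conjE8_2 : ∀ r < chevE8.nroots, conjCheck1 chevE8 certE8 2 r = true := by
  apply conj_of_chunks 20 12 (by decide)
  intro c hc
  interval_cases c
  · exact conjE8_2_0
  · exact conjE8_2_1
  · exact conjE8_2_2
  · exact conjE8_2_3
  · exact conjE8_2_4
  · exact conjE8_2_5
  · exact conjE8_2_6
  · exact conjE8_2_7
  · exact conjE8_2_8
  · exact conjE8_2_9
  · exact conjE8_2_10
  · exact conjE8_2_11
theorem conjE8_3_0 : conjChunk chevE8 certE8 3 0 20 = true := by decide +kernel
theorem conjE8_3_1 : conjChunk chevE8 certE8 3 20 20 = true := by decide +kernel
theorem conjE8_3_2 : conjChunk chevE8 certE8 3 40 20 = true := by decide +kernel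
theorem conjE8_3_3 : conjChunk chevE8 certE8 3 60 20 = true := by decide +kernel
theorem conjE8_3_4 : conjChunk chevE8 certE8 3 80 20 = true := by decide +kernel
theorem conjE8_3_5 : conjChunk chevE8 certE8 3 100 20 = true := by decide +kernel
theorem conjE8_3_6 : conjChunk chevE8 certE8 3 120 20 = true := by decide +kernel
theorem conjE8_3_7 : conjChunk chevE8 certE8 3 140 20 = true := by decide +kernel
theorem conjE8_3_8 : conjChunk chevE8 certE8 3 160 20 = true := by decide +kernel
theorem conjE8_3_9 : conjChunk chevE8 certE8 3 180 20 = true := by decide +kernel
theorem conjE8_3_10 : conjChunk chevE8 certE8 3 200 20 = true := by decide +kernel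
theorem conjE8_3_11 : conjChunk chevE8 certE8 3 220 20 = true := by decide +kernel
theorem conjE8_3 : ∀ r < chevE8.nroots, conjCheck1 chevE8 certE8 3 r = true := by
  apply conj_of_chunks 20 12 (by decide)
  intro c hc
  interval_cases c
  · exact conjE8_3_0
  · exact conjE8_3_1
  · exact conjE8_3_2
  · exact conjE8_3_3
  · exact conjE8_3_4
  · exact conjE8_3_5
  · exact conjE8_3_6
  · exact conjE8_3_7
  · exact conjE8_3_8
  · exact conjE8_3_9
  · exact conjE8_3_10
  · exact conjE8_3_11
theorem conjE8_4_0 : conjChunk chevE8 certE8 4 0 20 = true := by decide +kernel
theorem conjE8_4_1 : conjChunk chevE8 certE8 4 20 20 = true := by decide +kernel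
theorem conjE8_4_2 : conjChunk chevE8 certE8 4 40 20 = true := by decide +kernel
theorem conjE8_4_3 : conjChunk chevE8 certE8 4 60 20 = true := by decide +kernel
theorem conjE8_4_4 : conjChunk chevE8 certE8 4 80 20 = true := by decide +kernel
theorem conjE8_4_5 : conjChunk chevE8 certE8 4 100 20 = true := by decide +kernel
theorem conjE8_4_6 : conjChunk chevE8 certE8 4 120 20 = true := by decide +kernel
theorem conjE8_4_7 : conjChunk chevE8 certE8 4 140 20 = true := by decide +kernel
theorem conjE8_4_8 : conjChunk chevE8 certE8 4 160 20 = true := by decide +kernel
theorem conjE8_4_9 : conjChunk chevE8 certE8 4 180 20 = true := by decide +kernel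
theorem conjE8_4_10 : conjChunk chevE8 certE8 4 200 20 = true := by decide +kernel
theorem conjE8_4_11 : conjChunk chevE8 certE8 4 220 20 = true := by decide +kernel
theorem conjE8_4 : ∀ r < chevE8.nroots, conjCheck1 chevE8 certE8 4 r = true := by
  apply conj_of_chunks 20 12 (by decide)
  intro c hc
  interval_cases c
  · exact conjE8_4_0
  · exact conjE8_4_1
  · exact conjE8_4_2
  · exact conjE8_4_3
  · exact conjE8_4_4
  · exact conjE8_4_5
  · exact conjE8_4_6
  · exact conjE8_4_7
  · exact conjE8_4_8
  · exact conjE8_4_9
  · exact conjE8_4_10
  · exact conjE8_4_11
theorem conjE8_5_0 : conjChunk chevE8 certE8 5 0 20 = true := by decide +kernel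
theorem conjE8_5_1 : conjChunk chevE8 certE8 5 20 20 = true := by decide +kernel
theorem conjE8_5_2 : conjChunk chevE8 certE8 5 40 20 = true := by decide +kernel
theorem conjE8_5_3 : conjChunk chevE8 certE8 5 60 20 = true := by decide +kernel
theorem conjE8_5_4 : conjChunk chevE8 certE8 5 80 20 = true := by decide +kernel
theorem conjE8_5_5 : conjChunk chevE8 certE8 5 100 20 = true := by decide +kernel
theorem conjE8_5_6 : conjChunk chevE8 certE8 5 120 20 = true := by decide +kernel
theorem conjE8_5_7 : conjChunk chevE8 certE8 5 140 20 = true := by decide +kernel
theorem conjE8_5_8 : conjChunk chevE8 certE8 5 160 20 = true := by decide +kernel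
theorem conjE8_5_9 : conjChunk chevE8 certE8 5 180 20 = true := by decide +kernel
theorem conjE8_5_10 : conjChunk chevE8 certE8 5 200 20 = true := by decide +kernel
theorem conjE8_5_11 : conjChunk chevE8 certE8 5 220 20 = true := by decide +kernel
theorem conjE8_5 : ∀ r < chevE8.nroots, conjCheck1 chevE8 certE8 5 r = true := by
  apply conj_of_chunks 20 12 (by decide)
  intro c hc
  interval_cases c
  · exact conjE8_5_0
  · exact conjE8_5_1
  · exact conjE8_5_2
  · exact conjE8_5_3
  · exact conjE8_5_4
  · exact conjE8_5_5
  · exact conjE8_5_6
  · exact conjE8_5_7
  · exact conjE8_5_8
  · exact conjE8_5_9
  · exact conjE8_5_10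
  · exact conjE8_5_11
theorem conjE8_6_0 : conjChunk chevE8 certE8 6 0 20 = true := by decide +kernel
theorem conjE8_6_1 : conjChunk chevE8 certE8 6 20 20 = true := by decide +kernel
theorem conjE8_6_2 : conjChunk chevE8 certE8 6 40 20 = true := by decide +kernel
theorem conjE8_6_3 : conjChunk chevE8 certE8 6 60 20 = true := by decide +kernel
theorem conjE8_6_4 : conjChunk chevE8 certE8 6 80 20 = true := by decide +kernel
theorem conjE8_6_5 : conjChunk chevE8 certE8 6 100 20 = true := by decide +kernel
theorem conjE8_6_6 : conjChunk chevE8 certE8 6 120 20 = true := by decide +kernel
theorem conjE8_6_7 : conjChunk chevE8 certE8 6 140 20 = true := by decide +kernel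
theorem conjE8_6_8 : conjChunk chevE8 certE8 6 160 20 = true := by decide +kernel
theorem conjE8_6_9 : conjChunk chevE8 certE8 6 180 20 = true := by decide +kernel
theorem conjE8_6_10 : conjChunk chevE8 certE8 6 200 20 = true := by decide +kernel
theorem conjE8_6_11 : conjChunk chevE8 certE8 6 220 20 = true := by decide +kernel
theorem conjE8_6 : ∀ r < chevE8.nroots, conjCheck1 chevE8 certE8 6 r = true := by
  apply conj_of_chunks 20 12 (by decide)
  intro c hc
  interval_cases c
  · exact conjE8_6_0
  · exact conjE8_6_1
  · exact conjE8_6_2
  · exact conjE8_6_3
  · exact conjE8_6_4
  · exact conjE8_6_5
  · exact conjE8_6_6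
  · exact conjE8_6_7
  · exact conjE8_6_8
  · exact conjE8_6_9
  · exact conjE8_6_10
  · exact conjE8_6_11
theorem conjE8_7_0 : conjChunk chevE8 certE8 7 0 20 = true := by decide +kernel
theorem conjE8_7_1 : conjChunk chevE8 certE8 7 20 20 = true := by decide +kernel
theorem conjE8_7_2 : conjChunk chevE8 certE8 7 40 20 = true := by decide +kernel
theorem conjE8_7_3 : conjChunk chevE8 certE8 7 60 20 = true := by decide +kernel
theorem conjE8_7_4 : conjChunk chevE8 certE8 7 80 20 = true := by decide +kernel
theorem conjE8_7_5 : conjChunk chevE8 certE8 7 100 20 = true := by decide +kernel
theorem conjE8_7_6 : conjChunk chevE8 certE8 7 120 20 = true := by decide +kernel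
theorem conjE8_7_7 : conjChunk chevE8 certE8 7 140 20 = true := by decide +kernel
theorem conjE8_7_8 : conjChunk chevE8 certE8 7 160 20 = true := by decide +kernel
theorem conjE8_7_9 : conjChunk chevE8 certE8 7 180 20 = true := by decide +kernel
theorem conjE8_7_10 : conjChunk chevE8 certE8 7 200 20 = true := by decide +kernel
theorem conjE8_7_11 : conjChunk chevE8 certE8 7 220 20 = true := by decide +kernel
theorem conjE8_7 : ∀ r < chevE8.nroots, conjCheck1 chevE8 certE8 7 r = true := by
  apply conj_of_chunks 20 12 (by decide)
  intro c hc
  interval_cases c
  · exact conjE8_7_0
  · exact conjE8_7_1
  · exact conjE8_7_2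
  · exact conjE8_7_3
  · exact conjE8_7_4
  · exact conjE8_7_5
  · exact conjE8_7_6
  · exact conjE8_7_7
  · exact conjE8_7_8
  · exact conjE8_7_9
  · exact conjE8_7_10
  · exact conjE8_7_11

end Cfsg.Agent.Lib.ChevSym
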