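import Mathlib
import Cfsg.Agent.Lib.SylowCount

/-!
Small general lemmas on finite groups (helper6).
-/

set_option autoImplicit false

namespace Cfsg.Agent.Lib.H6Basic

open Subgroup

variable {G : Type*} [Group G]

/-- The size of a conjugacy class is the index of the centralizer. -/
theorem card_class_eq_index [Finite G] (x : G) :
    Nat.card {y : G // IsConj x y} = (centralizer ({x} : Set G)).index := by
  have h1 := Cfsg.Agent.Lib.SylowCount.card_class_mul_centralizer x
  have h2 := (centralizer ({x} : Set G)).card_mul_index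
  have h3 : 0 < Nat.card (centralizer ({x} : Set G)) := Nat.card_pos
  rw [← h2, mul_comm] at h1
  exact Nat.eq_of_mul_eq_mul_left h3 h1

/-- Conjugation preserves inverses. -/
theorem isConj_inv_inv {x y : G} (h : IsConj x y) : IsConj x⁻¹ y⁻¹ := by
  obtain ⟨c, hc⟩ := isConj_iff.mp h
  exact isConj_iff.mpr ⟨c, by rw [← hc]; group⟩

/-- A subgroup containing a Sylow `p`-subgroup has index prime to `p`. -/
theorem not_dvd_index_of_sylow_le [Finite G] {p : ℕ} [Fact p.Prime] (P : Sylow p G) {K : Subgroup G}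
    (h : (P : Subgroup G) ≤ K) : ¬ p ∣ K.index := by
  intro hd
  exact P.not_dvd_index (hd.trans (Subgroup.index_dvd_of_le h))

/-- The three subgroups lemma modulo a normal subgroup. -/
theorem three_subgroups (A B C N : Subgroup G) [N.Normal]
    (h1 : ⁅⁅A, B⁆, C⁆ ≤ N) (h2 : ⁅⁅B, C⁆, A⁆ ≤ N) : ⁅⁅C, A⁆, B⁆ ≤ N := by
  have key : ∀ X Y Z : Subgroup G, ⁅⁅X, Y⁆, Z⁆ ≤ N ↔
      ⁅⁅X.map (QuotientGroup.mk' N), Y.map (QuotientGroup.mk' N)⁆, Z.map (QuotientGroup.mk' N)⁆ = ⊥ := by
    intro X Y Z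
    rw [← Subgroup.map_commutator, ← Subgroup.map_commutator, Subgroup.map_eq_bot_iff]
    simp
  rw [key] at h1 h2 ⊢
  exact Subgroup.commutator_commutator_eq_bot_of_rotate h1 h2

end Cfsg.Agent.Lib.H6Basic
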