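import Mathlib
import Cfsg.Prelude
import Cfsg.Agent.Lib.CoprimeGen
import Cfsg.Agent.Lib.SigFunc
import Cfsg.Agent.Lib.SylowCount

/-!
# The counting formula for a coprime action of an elementary abelian group of order `p²`
-/

set_option autoImplicit false
set_option linter.all false

namespace Cfsg.Agent.Lib.WielandtCount

open Subgroup Cfsg Cfsg.Agent.Lib.CoprimeGen

section Lines

variable {Γ : Type*} [Group Γ] [Finite Γ] {p : ℕ} [Fact p.Prime]

/-- subgroups of order `p` -/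
def Lines (Γ : Type*) [Group Γ] (p : ℕ) : Type _ := {B : Subgroup Γ // Nat.card B = p}

instance Lines.instFinite : Finite (Lines Γ p) := Subtype.finite

noncomputable instance Lines.instFintype : Fintype (Lines Γ p) := Fintype.ofFinite _

theorem orderOf_of_exp (hexp : ∀ γ : Γ, γ ^ p = 1) {g : Γ} (hg : g ≠ 1) : orderOf g = p :=
  orderOf_eq_prime (hexp g) hg

theorem eq_zpowers (hexp : ∀ γ : Γ, γ ^ p = 1) {B : Subgroup Γ} (hB : Nat.card B = p) {g : Γ} (hg : g ∈ B)
    (h1 : g ≠ 1) : B = zpowers g := by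
  symm
  apply Subgroup.eq_of_le_of_card_ge ((Subgroup.zpowers_le).2 hg)
  rw [Nat.card_zpowers, orderOf_of_exp hexp h1, hB]

/-- the line through a nontrivial element -/
def lineOf (hexp : ∀ γ : Γ, γ ^ p = 1) (g : Γ) (hg : g ≠ 1) : Lines Γ p :=
  ⟨zpowers g, by rw [Nat.card_zpowers, orderOf_of_exp hexp hg]⟩

variable [Fintype Γ]

open Classical in
/-- the elements of a line -/
noncomputable def ptsOf (B : Subgroup Γ) : Finset Γ := Finset.univ.filter (· ∈ B)

omit [Finite Γ] [Fact p.Prime] in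
theorem mem_ptsOf {B : Subgroup Γ} {g : Γ} : g ∈ ptsOf B ↔ g ∈ B := by
  simp [ptsOf]

omit [Finite Γ] [Fact p.Prime] in
theorem card_ptsOf (B : Subgroup Γ) : (ptsOf B).card = Nat.card B := by
  classical
  rw [Nat.card_eq_fintype_card, Fintype.card_subtype]
  rfl

open Classical in
/-- partition of the nonidentity elements into lines -/
theorem biUnion_lines (hexp : ∀ γ : Γ, γ ^ p = 1) :
    (Finset.univ : Finset (Lines Γ p)).biUnion (fun B => (ptsOf B.1).erase 1) = Finset.univ.erase (1 : Γ) := by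
  ext g
  simp only [Finset.mem_biUnion, Finset.mem_univ, true_and, Finset.mem_erase, mem_ptsOf, and_true]
  constructor
  · rintro ⟨B, h1, -⟩
    exact h1
  · intro h1
    exact ⟨lineOf hexp g h1, h1, Subgroup.mem_zpowers g⟩

open Classical in
theorem disjoint_lines (hexp : ∀ γ : Γ, γ ^ p = 1) :
    ((Finset.univ : Finset (Lines Γ p)) : Set (Lines Γ p)).PairwiseDisjoint (fun B => (ptsOf B.1).erase 1) := by
  intro B _ B' _ hne
  simp only [Function.onFun]
  rw [Finset.disjoint_left]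
  intro g hg hg'
  simp only [Finset.mem_erase, mem_ptsOf] at hg hg'
  apply hne
  apply Subtype.ext
  rw [eq_zpowers hexp B.2 hg.2 hg.1, eq_zpowers hexp B'.2 hg'.2 hg'.1]

/-- the partition identity -/
theorem prod_lines {M : Type*} [CommMonoid M] (hexp : ∀ γ : Γ, γ ^ p = 1) (f : Γ → M) :
    (∏ B : Lines Γ p, ∏ b ∈ ptsOf B.1, f b) * f 1 = (f 1) ^ (Fintype.card (Lines Γ p)) * ∏ g, f g := by
  classical
  have h1 : ∀ B : Lines Γ p, ∏ b ∈ ptsOf B.1, f b = f 1 * ∏ b ∈ (ptsOf B.1).erase 1, f b := by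
    intro B
    rw [Finset.mul_prod_erase _ _ (mem_ptsOf.2 (Subgroup.one_mem _))]
  have h2 : ∏ g, f g = f 1 * ∏ g ∈ Finset.univ.erase (1 : Γ), f g := by
    rw [Finset.mul_prod_erase _ _ (Finset.mem_univ _)]
  rw [h2, ← biUnion_lines hexp, Finset.prod_biUnion (disjoint_lines hexp)]
  simp only [h1]
  rw [Finset.prod_mul_distrib, Finset.prod_const, Finset.card_univ]
  calc _ = f 1 ^ Fintype.card (Lines Γ p) * (f 1 * ∏ x : Lines Γ p, ∏ i ∈ (ptsOf x.1).erase 1, f i) := by
        rw [mul_comm (f 1), mul_assoc]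
    _ = _ := rfl

/-- number of lines -/
theorem card_lines (hexp : ∀ γ : Γ, γ ^ p = 1) (hcard : Nat.card Γ = p ^ 2) :
    Fintype.card (Lines Γ p) = p + 1 := by
  classical
  have hp : p.Prime := Fact.out
  have h1 : (Finset.univ.erase (1 : Γ)).card = p ^ 2 - 1 := by
    rw [Finset.card_erase_of_mem (Finset.mem_univ _), Finset.card_univ, ← Nat.card_eq_fintype_card, hcard]
  rw [← biUnion_lines hexp, Finset.card_biUnion (disjoint_lines hexp)] at h1
  have h2 : ∀ B : Lines Γ p, ((ptsOf B.1).erase 1).card = p - 1 := by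
    intro B
    rw [Finset.card_erase_of_mem (mem_ptsOf.2 (Subgroup.one_mem _)), card_ptsOf, B.2]
  simp only [h2, Finset.sum_const, Finset.card_univ, smul_eq_mul] at h1
  have h3 : (p + 1) * (p - 1) = p ^ 2 - 1 := by
    have := hp.pos
    obtain ⟨q, rfl⟩ : ∃ q, p = q + 1 := ⟨p - 1, by omega⟩
    simp
    ring_nf
    omega
  rw [← h3] at h1
  exact Nat.eq_of_mul_eq_mul_right (Nat.sub_pos_of_lt hp.one_lt) h1

omit [Fintype Γ] in
theorem sup_lines_eq_top (hcard : Nat.card Γ = p ^ 2) {B B' : Subgroup Γ} (hB : Nat.card B = p)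
    (hB' : Nat.card B' = p) (hne : B ≠ B') : B ⊔ B' = ⊤ := by
  have hp : p.Prime := Fact.out
  have h1 : Nat.card ↥(B ⊔ B') ∣ p ^ 2 := by
    rw [← hcard]
    exact Subgroup.card_subgroup_dvd_card _
  obtain ⟨k, hk, hk2⟩ := (Nat.dvd_prime_pow hp).1 h1
  have h2 : p ∣ Nat.card ↥(B ⊔ B') := by
    rw [← hB]
    exact Subgroup.card_dvd_of_le le_sup_left
  have h3 : B' ≤ B ⊔ B' := le_sup_right
  have h4 : B ≤ B ⊔ B' := le_sup_left
  interval_cases k
  · rw [hk2] at h2
    simp at h2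
    exact absurd h2 hp.one_lt.ne'
  · exfalso
    rw [pow_one] at hk2
    have h5 : B = B ⊔ B' := Subgroup.eq_of_le_of_card_ge h4 (by rw [hk2, hB])
    have h6 : B' = B ⊔ B' := Subgroup.eq_of_le_of_card_ge h3 (by rw [hk2, hB'])
    exact hne (h5.trans h6.symm)
  · apply Subgroup.eq_top_of_card_eq
    rw [hk2, hcard]

end Lines

section Abelian

variable {Γ : Type*} [Group Γ] [Fintype Γ] {W : Type*} [CommGroup W] [Finite W] {p : ℕ} [Fact p.Prime]

/-- the norm along a subgroup -/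
noncomputable def normB (ρ : Γ →* MulAut W) (B : Subgroup Γ) : W →* W where
  toFun w := ∏ b ∈ ptsOf B, ρ b w
  map_one' := by simp
  map_mul' u v := by simp [Finset.prod_mul_distrib]

omit [Finite W] [Fact p.Prime] in
theorem normB_apply (ρ : Γ →* MulAut W) (B : Subgroup Γ) (w : W) : normB ρ B w = ∏ b ∈ ptsOf B, ρ b w := rfl

omit [Finite W] [Fact p.Prime] in
theorem normB_mem_fix (ρ : Γ →* MulAut W) (B : Subgroup Γ) (w : W) : normB ρ B w ∈ fixS ρ B := by
  classical
  intro b' hb'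
  rw [normB_apply, map_prod]
  refine Finset.prod_nbij' (fun b => b' * b) (fun b => b'⁻¹ * b) ?_ ?_ ?_ ?_ ?_
  · intro b hb
    exact mem_ptsOf.2 (B.mul_mem hb' (mem_ptsOf.1 hb))
  · intro b hb
    exact mem_ptsOf.2 (B.mul_mem (B.inv_mem hb') (mem_ptsOf.1 hb))
  · intro b _
    simp
  · intro b _
    simp
  · intro b _
    rw [map_mul]
    rfl

omit [Fact p.Prime] [Finite W] in
theorem normB_of_fix (ρ : Γ →* MulAut W) {B : Subgroup Γ} {u : W} (hu : u ∈ fixS ρ B) :
    normB ρ B u = u ^ Nat.card B := by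
  rw [normB_apply, ← card_ptsOf, ← Finset.prod_const]
  exact Finset.prod_congr rfl fun b hb => hu b (mem_ptsOf.1 hb)

omit [Fact p.Prime] [Finite W] in
theorem normB_comm (hcomm : ∀ a b : Γ, a * b = b * a) (ρ : Γ →* MulAut W) (B : Subgroup Γ) {u : W} {c : Γ}
    (hc : ρ c u = u) : ρ c (normB ρ B u) = normB ρ B u := by
  rw [normB_apply, map_prod]
  refine Finset.prod_congr rfl fun b _ => ?_
  have h1 : ρ c (ρ b u) = ρ (c * b) u := by rw [map_mul]; rfl
  rw [h1, hcomm c b, map_mul]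
  show ρ b (ρ c u) = ρ b u
  rw [hc]

omit [Finite W] [Fact p.Prime] in
theorem mem_fix_top_of_sup (ρ : Γ →* MulAut W) {B B' : Subgroup Γ} (hsup : B ⊔ B' = ⊤) {u : W}
    (h1 : u ∈ fixS ρ B) (h2 : ∀ b ∈ B', ρ b u = u) : u ∈ fixS ρ ⊤ := by
  intro γ _
  have hle : B ⊔ B' ≤ Subgroup.comap ρ (MulAction.stabilizer (MulAut W) u) := by
    apply sup_le
    · intro d hd
      exact h1 d hd
    · intro d hd
      exact h2 d hd
  rw [hsup] at hle
  exact hle (Subgroup.mem_top γ)

/-- the formula for abelian groups -/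
theorem abelian_formula_aux (hcomm : ∀ a b : Γ, a * b = b * a) (hexp : ∀ γ : Γ, γ ^ p = 1)
    (hcard : Nat.card Γ = p ^ 2) (ρ : Γ →* MulAut W) (hW : ¬ p ∣ Nat.card W) :
    ∏ B : Lines Γ p, Nat.card (fixS ρ B.1) = Nat.card W * (Nat.card (fixS ρ (⊤ : Subgroup Γ))) ^ p := by
  classical
  have hp : p.Prime := Fact.out
  have hlines := card_lines (p := p) hexp hcard
  have hne : Nonempty (Lines Γ p) := by
    rw [← Fintype.card_pos_iff, hlines]
    omega
  obtain ⟨B₀⟩ := hne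
  have hco : ∀ w : W, (orderOf w).Coprime p := fun w =>
    Nat.Coprime.coprime_dvd_left (orderOf_dvd_natCard w) ((Nat.Prime.coprime_iff_not_dvd hp).2 hW).symm
  let Φ : (∀ B : Lines Γ p, fixS ρ B.1) →* W :=
    { toFun := fun f => ∏ B, (f B : W)
      map_one' := by simp
      map_mul' := fun f g => by simp [Finset.prod_mul_distrib] }
  have hΦ : ∀ f, Φ f = ∏ B, (f B : W) := fun f => rfl
  have hsingle : ∀ B : Lines Γ p, ∀ u ∈ fixS ρ B.1, u ∈ Φ.range := by
    intro B u hu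
    refine ⟨Pi.mulSingle B ⟨u, hu⟩, ?_⟩
    rw [hΦ, Finset.prod_eq_single B]
    · simp
    · intro C _ hC
      simp [Pi.mulSingle_eq_of_ne hC]
    · simp
  have htopR : ∀ u ∈ fixS ρ (⊤ : Subgroup Γ), u ∈ Φ.range := fun u hu =>
    hsingle B₀ u (fixS_anti le_top hu)
  have hnormtop : ∀ w : W, ∏ g, ρ g w ∈ fixS ρ (⊤ : Subgroup Γ) := by
    intro w
    have h1 := normB_mem_fix ρ (⊤ : Subgroup Γ) w
    rw [normB_apply] at h1
    have h2 : ptsOf (⊤ : Subgroup Γ) = Finset.univ := by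
      ext g
      simp [mem_ptsOf]
    rwa [h2] at h1
  have hpow : ∀ w : W, w ^ p ∈ Φ.range := by
    intro w
    have h1 := prod_lines (p := p) hexp (fun g => ρ g w)
    simp only [map_one, MulAut.one_apply] at h1
    rw [hlines, pow_succ] at h1
    have h2 : w ^ p = (∏ B : Lines Γ p, normB ρ B.1 w) * (∏ g, ρ g w)⁻¹ := by
      have h3 : (∏ B : Lines Γ p, ∏ b ∈ ptsOf B.1, ρ b w) = w ^ p * ∏ g, ρ g w := by
        have h4 : (∏ B : Lines Γ p, ∏ b ∈ ptsOf B.1, ρ b w) * w = (w ^ p * ∏ g, ρ g w) * w := by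
          rw [h1]
          exact mul_right_comm _ _ _
        exact mul_right_cancel h4
      simp only [normB_apply]
      rw [h3]
      simp
    rw [h2]
    refine Subgroup.mul_mem _ (Subgroup.prod_mem _ fun B _ => hsingle B _ (normB_mem_fix ρ B.1 w)) ?_
    exact Subgroup.inv_mem _ (htopR _ (hnormtop w))
  have hsurj : Function.Surjective Φ := by
    intro w
    exact Cfsg.Agent.Lib.H7Basic.mem_of_pow_mem_of_coprime Φ.range w p (hco w) (hpow w)
  have hker : ∀ f ∈ Φ.ker, ∀ B₁ : Lines Γ p, (f B₁ : W) ∈ fixS ρ (⊤ : Subgroup Γ) := by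
    intro f hf B₁
    have h1 : ∏ B, (f B : W) = 1 := hf
    have h2 : normB ρ B₁.1 (∏ B, (f B : W)) = 1 := by rw [h1, map_one]
    rw [map_prod, ← Finset.mul_prod_erase _ _ (Finset.mem_univ B₁), normB_of_fix ρ (f B₁).2, B₁.2] at h2
    have h3 : ∏ B ∈ Finset.univ.erase B₁, normB ρ B₁.1 (f B : W) ∈ fixS ρ (⊤ : Subgroup Γ) := by
      refine Subgroup.prod_mem _ fun B hB => ?_
      have hBne : B ≠ B₁ := (Finset.mem_erase.1 hB).1
      have hsup : B₁.1 ⊔ B.1 = ⊤ := sup_lines_eq_top hcard B₁.2 B.2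
        (fun h => hBne (Subtype.ext h.symm))
      refine mem_fix_top_of_sup ρ hsup (normB_mem_fix ρ B₁.1 _) ?_
      intro b hb
      exact normB_comm hcomm ρ B₁.1 ((f B).2 b hb)
    have h4 : (f B₁ : W) ^ p ∈ fixS ρ (⊤ : Subgroup Γ) := by
      rw [eq_inv_of_mul_eq_one_left h2]
      exact Subgroup.inv_mem _ h3
    exact Cfsg.Agent.Lib.H7Basic.mem_of_pow_mem_of_coprime _ _ p (hco _) h4
  -- counting for `Φ`
  have hc1 : ∏ B : Lines Γ p, Nat.card (fixS ρ B.1) = Nat.card W * Nat.card Φ.ker := by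
    have h1 := Subgroup.card_mul_index Φ.ker
    rw [Subgroup.index_ker] at h1
    have h2 : Φ.range = ⊤ := MonoidHom.range_eq_top.2 hsurj
    rw [h2, Subgroup.card_top, Nat.card_pi] at h1
    rw [← h1, mul_comm]
  -- counting for the restriction to the fixed points
  set F := fixS ρ (⊤ : Subgroup Γ) with hF
  let Ψ : (Lines Γ p → F) →* F :=
    { toFun := fun f => ∏ B, f B
      map_one' := by simp
      map_mul' := fun f g => by simp [Finset.prod_mul_distrib] }
  have hΨ : ∀ f, Ψ f = ∏ B, f B := fun f => rfl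
  have hΨs : Function.Surjective Ψ := by
    intro z
    refine ⟨Pi.mulSingle B₀ z, ?_⟩
    rw [hΨ, Finset.prod_eq_single B₀]
    · simp
    · intro C _ hC
      simp [Pi.mulSingle_eq_of_ne hC]
    · simp
  have hc2 : (Nat.card F) ^ (p + 1) = Nat.card F * Nat.card Ψ.ker := by
    have h1 := Subgroup.card_mul_index Ψ.ker
    rw [Subgroup.index_ker] at h1
    have h2 : Ψ.range = ⊤ := MonoidHom.range_eq_top.2 hΨs
    rw [h2, Subgroup.card_top, Nat.card_fun, Nat.card_eq_fintype_card (α := Lines Γ p), hlines] at h1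
    rw [← h1, mul_comm]
  have hFpos : 0 < Nat.card F := Nat.card_pos
  have hc3 : Nat.card Ψ.ker = (Nat.card F) ^ p := by
    rw [pow_succ, mul_comm] at hc2
    exact (Nat.eq_of_mul_eq_mul_left hFpos hc2).symm
  have hc4 : Nat.card Φ.ker = Nat.card Ψ.ker := by
    apply Nat.card_congr
    exact
      { toFun := fun f => ⟨fun B => ⟨(f.1 B : W), hker f.1 f.2 B⟩, by
          have h1 : ∏ B, ((f.1 B : W)) = 1 := f.2
          apply Subtype.ext
          show ((∏ B, (⟨(f.1 B : W), hker f.1 f.2 B⟩ : F)) : F).1 = 1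
          rw [show ((∏ B, (⟨(f.1 B : W), hker f.1 f.2 B⟩ : F)) : F).1 = ∏ B, (f.1 B : W) from by
            simp [SubmonoidClass.coe_finset_prod]]
          exact h1⟩
        invFun := fun g => ⟨fun B => ⟨(g.1 B : W), fixS_anti le_top (g.1 B).2⟩, by
          have h1 : ∏ B, g.1 B = 1 := g.2
          show ∏ B, ((g.1 B : F) : W) = 1
          have h2 := congrArg (Subtype.val) h1
          simpa [SubmonoidClass.coe_finset_prod] using h2⟩
        left_inv := fun f => by
          apply Subtype.ext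
          funext B
          rfl
        right_inv := fun g => by
          apply Subtype.ext
          funext B
          rfl }
  rw [hc1, hc4, hc3]

end Abelian

section General

variable {Γ : Type*} [Group Γ] [Fintype Γ] {p : ℕ} [Fact p.Prime]

theorem abelian_formula {W : Type*} [Group W] [Finite W] (hcomm : ∀ a b : Γ, a * b = b * a)
    (hexp : ∀ γ : Γ, γ ^ p = 1) (hcard : Nat.card Γ = p ^ 2) (ρ : Γ →* MulAut W)
    (hWc : ∀ a b : W, a * b = b * a) (hW : ¬ p ∣ Nat.card W) :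
    ∏ B : Lines Γ p, Nat.card (fixS ρ B.1) = Nat.card W * (Nat.card (fixS ρ (⊤ : Subgroup Γ))) ^ p := by
  letI : CommGroup W := { (inferInstance : Group W) with mul_comm := hWc }
  exact abelian_formula_aux hcomm hexp hcard ρ hW

/-- fixed points are multiplicative in an invariant normal subgroup -/
theorem card_fix_mul {W : Type*} [Group W] [Finite W] (ρ : Γ →* MulAut W) (N : Subgroup W) [hN : N.Normal]
    (h : ∀ γ : Γ, ∀ n ∈ N, ρ γ n ∈ N) (hNp : ¬ p ∣ Nat.card N) {B : Subgroup Γ} (hB : IsPGroup p B) :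
    Nat.card (fixS ρ B) = Nat.card (fixS (subρ ρ N h) B) * Nat.card (fixS (quotρ ρ N h) B) := by
  classical
  let ψ : fixS ρ B →* fixS (quotρ ρ N h) B :=
    { toFun := fun w => ⟨(w.1 : W ⧸ N), fun b hb => by
        rw [quotρ_mk, w.2 b hb]⟩
      map_one' := rfl
      map_mul' := fun _ _ => rfl }
  have hψ : Function.Surjective ψ := by
    rintro ⟨z, hz⟩
    induction z using QuotientGroup.induction_on with
    | H z =>
      obtain ⟨n, hn, hfix⟩ := lift_fixed ρ N h hNp hB hz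
      refine ⟨⟨z * n, hfix⟩, Subtype.ext ?_⟩
      show ((z * n : W) : W ⧸ N) = z
      rw [QuotientGroup.mk_mul]
      have : (n : W ⧸ N) = 1 := (QuotientGroup.eq_one_iff n).2 hn
      rw [this, mul_one]
  have h1 := Subgroup.card_mul_index ψ.ker
  rw [Subgroup.index_ker, MonoidHom.range_eq_top.2 hψ, Subgroup.card_top] at h1
  rw [← h1]
  congr 1
  apply Nat.card_congr
  exact
    { toFun := fun k => ⟨⟨k.1.1, by
        have h2 : ψ k.1 = 1 := k.2
        have h3 : ((k.1.1 : W) : W ⧸ N) = 1 := congrArg Subtype.val h2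
        exact (QuotientGroup.eq_one_iff _).1 h3⟩, fun b hb => Subtype.ext (k.1.2 b hb)⟩
      invFun := fun z => ⟨⟨z.1.1, fun b hb => congrArg Subtype.val (z.2 b hb)⟩, by
        apply Subtype.ext
        exact (QuotientGroup.eq_one_iff _).2 z.1.2⟩
      left_inv := fun k => rfl
      right_inv := fun z => rfl }

universe v

/-- the formula for `q`-groups -/
theorem pgroup_formula {q : ℕ} [Fact q.Prime] (hcomm : ∀ a b : Γ, a * b = b * a) (hexp : ∀ γ : Γ, γ ^ p = 1)
    (hcard : Nat.card Γ = p ^ 2) :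
    ∀ (n : ℕ) (W : Type v) [Group W] [Finite W] (ρ : Γ →* MulAut W), Nat.card W = n →
      IsPGroup q W → ¬ p ∣ Nat.card W →
      ∏ B : Lines Γ p, Nat.card (fixS ρ B.1) = Nat.card W * (Nat.card (fixS ρ (⊤ : Subgroup Γ))) ^ p := by
  classical
  intro n
  induction n using Nat.strong_induction_on with
  | _ n ih =>
    intro W _ _ ρ hn hnil hW
    by_cases htriv : Subsingleton W
    · have h1 : ∀ S : Subgroup W, Nat.card S = 1 := fun S => by
        haveI : Subsingleton S := ⟨fun a b => Subtype.ext (Subsingleton.elim _ _)⟩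
        exact Nat.card_of_subsingleton (1 : S)
      simp [h1, Nat.card_of_subsingleton (1 : W)]
    rw [not_subsingleton_iff_nontrivial] at htriv
    set Z := Subgroup.center W with hZ
    have hchar : ∀ γ : Γ, ∀ z ∈ Z, ρ γ z ∈ Z := by
      intro γ z hz
      have hc : Z.Characteristic := inferInstance
      exact (Subgroup.characteristic_iff_le_map.1 hc (ρ γ)⁻¹) hz |> fun ⟨m, hm, hme⟩ => by
        rw [← hme]
        show ρ γ ((ρ γ)⁻¹ m) ∈ Z
        simpa using hm
    haveI hZnt : Nontrivial Z := hnil.center_nontrivial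
    have hZp : ¬ p ∣ Nat.card Z := fun h => hW (h.trans (Subgroup.card_subgroup_dvd_card Z))
    have hQp : ¬ p ∣ Nat.card (W ⧸ Z) := fun h => hW (h.trans (Subgroup.card_quotient_dvd_card Z))
    have hcardW : Nat.card W = Nat.card (W ⧸ Z) * Nat.card Z := Subgroup.card_eq_card_quotient_mul_card_subgroup Z
    have hlt : Nat.card (W ⧸ Z) < n := by
      rw [← hn, hcardW]
      have h1 : 1 < Nat.card Z := Finite.one_lt_card
      have h2 : 0 < Nat.card (W ⧸ Z) := Nat.card_pos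
      nlinarith
    have hF1 := abelian_formula (p := p) hcomm hexp hcard (subρ ρ Z hchar)
      (fun a b => Subtype.ext (Subgroup.mem_center_iff.1 a.2 b.1).symm) hZp
    have hF2 := ih _ hlt (W ⧸ Z) (quotρ ρ Z hchar) rfl (hnil.to_quotient Z) hQp
    have hBp : ∀ B : Subgroup Γ, IsPGroup p B := fun B => isPGroup_of_exp (fun γ _ => hexp γ)
    calc ∏ B : Lines Γ p, Nat.card (fixS ρ B.1)
        = ∏ B : Lines Γ p, (Nat.card (fixS (subρ ρ Z hchar) B.1) * Nat.card (fixS (quotρ ρ Z hchar) B.1)) :=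
          Finset.prod_congr rfl fun B _ => card_fix_mul ρ Z hchar hZp (hBp B.1)
      _ = (Nat.card Z * (Nat.card (fixS (subρ ρ Z hchar) (⊤ : Subgroup Γ))) ^ p) *
            (Nat.card (W ⧸ Z) * (Nat.card (fixS (quotρ ρ Z hchar) (⊤ : Subgroup Γ))) ^ p) := by
          rw [Finset.prod_mul_distrib, hF1, hF2]
      _ = Nat.card W * (Nat.card (fixS ρ (⊤ : Subgroup Γ))) ^ p := by
          rw [hcardW, card_fix_mul ρ Z hchar hZp (hBp ⊤), mul_pow]
          ring

end General

section Concrete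

variable {H : Type*} [Group H] [Finite H] {p : ℕ} [Fact p.Prime]

/-- the fixed points of the conjugation action of a subgroup of `A₀` on `W`, in the ambient group -/
theorem card_fixS_conjHom (A₀ W : Subgroup H) (hAW : ∀ a ∈ A₀, ∀ x ∈ W, a * x * a⁻¹ ∈ W) (B : Subgroup ↥A₀) :
    Nat.card (fixS (Cfsg.Agent.Lib.CoprimeGen.conjHom A₀ W hAW) B) =
      Nat.card ↥(W ⊓ centralizer ((B.map A₀.subtype : Subgroup H) : Set H)) := by
  apply Nat.card_congr
  exact
    { toFun := fun z => ⟨z.1.1, z.1.2, Subgroup.mem_centralizer_iff.2 (by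
        rintro _ ⟨b, hb, rfl⟩
        have h1 := congrArg Subtype.val (z.2 b hb)
        have h2 : (b : H) * z.1.1 * (b : H)⁻¹ = z.1.1 := h1
        show (b : H) * z.1.1 = z.1.1 * (b : H)
        rw [mul_inv_eq_iff_eq_mul] at h2
        exact h2)⟩
      invFun := fun z => ⟨⟨z.1, z.2.1⟩, fun b hb => Subtype.ext (by
        have h1 : (b : H) * z.1 = z.1 * (b : H) :=
          Subgroup.mem_centralizer_iff.1 z.2.2 _ ⟨b, hb, rfl⟩
        show (b : H) * z.1 * (b : H)⁻¹ = z.1
        rw [h1]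
        group)⟩
      left_inv := fun z => rfl
      right_inv := fun z => rfl }

theorem map_top_subtype (A₀ : Subgroup H) : ((⊤ : Subgroup ↥A₀).map A₀.subtype) = A₀ := by
  ext x
  constructor
  · rintro ⟨a, -, rfl⟩
    exact a.2
  · intro hx
    exact ⟨⟨x, hx⟩, trivial, rfl⟩

/-- the part of an invariant Sylow subgroup in the centralizer of `B` is full -/
theorem card_inf_centralizer_sylow {q : ℕ} [Fact q.Prime] (A₀ W Q : Subgroup H) (hA₀ : IsPGroup p A₀)
    (hA₀s : Group.IsSolvable A₀) (hA₀c : ∀ a ∈ A₀, ∀ b ∈ A₀, a * b = b * a)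
    (hAW : ∀ a ∈ A₀, ∀ x ∈ W, a * x * a⁻¹ ∈ W) (hW : ¬ p ∣ Nat.card W) (hQW : Q ≤ W)
    (hQq : IsPGroup q Q) (hQc : Nat.card Q = q ^ (Nat.card W).factorization q)
    (hQA : ∀ a ∈ A₀, ∀ x ∈ Q, a * x * a⁻¹ ∈ Q) (B : Subgroup H) (hBA : B ≤ A₀) :
    Nat.card ↥(Q ⊓ centralizer (B : Set H)) =
      q ^ (Nat.card ↥(W ⊓ centralizer (B : Set H))).factorization q := by
  classical
  have hqq : q.Prime := Fact.out
  set V := W ⊓ centralizer (B : Set H) with hV
  have hVW : V ≤ W := inf_le_left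
  have hVp : ¬ p ∣ Nat.card V := fun h => hW (dvd_trans h (Subgroup.card_dvd_of_le hVW))
  have hcent : ∀ a ∈ A₀, ∀ x ∈ centralizer (B : Set H), a * x * a⁻¹ ∈ centralizer (B : Set H) := by
    intro a ha x hx
    apply Subgroup.mem_centralizer_iff.2
    intro b hb
    have h1 : b * x = x * b := Subgroup.mem_centralizer_iff.1 hx b hb
    have h2 : b * a = a * b := hA₀c b (hBA hb) a ha
    have h3 : b * a⁻¹ = a⁻¹ * b := by
      rw [eq_inv_mul_iff_mul_eq, ← mul_assoc, ← h2, mul_assoc, mul_inv_cancel, mul_one]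
    calc b * (a * x * a⁻¹) = (b * a) * x * a⁻¹ := by group
      _ = a * (b * x) * a⁻¹ := by rw [h2]; group
      _ = a * (x * b) * a⁻¹ := by rw [h1]
      _ = a * x * (b * a⁻¹) := by group
      _ = a * x * (a⁻¹ * b) := by rw [h3]
      _ = (a * x * a⁻¹) * b := by group
  have hVA : ∀ a ∈ A₀, ∀ x ∈ V, a * x * a⁻¹ ∈ V := fun a ha x hx =>
    ⟨hAW a ha x hx.1, hcent a ha x hx.2⟩
  obtain ⟨S, -, hSV, hSq, hSc, hSA⟩ := Cfsg.Agent.Lib.CoprimeSylow.exists_invariant_sylow_ge (r := q) A₀ V ⊥ hA₀ hVp hVA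
    bot_le IsPGroup.of_bot (fun a ha x hx => by
      have hx1 : x = 1 := Subgroup.mem_bot.1 hx
      subst hx1
      simp)
  obtain ⟨S', hSS', hS'W, hS'q, hS'c, hS'A⟩ := Cfsg.Agent.Lib.CoprimeSylow.exists_invariant_sylow_ge (r := q) A₀ W S hA₀ hW hAW
    (hSV.trans hVW) hSq hSA
  obtain ⟨c, hcW, hcA, hcQ⟩ := Cfsg.Agent.Lib.SigFunc.glauberman_sylow hA₀ hA₀s W Q S' hAW hW hQW hS'W hQc hS'c hQA hS'A
  apply le_antisymm
  · have h1 : IsPGroup q ↥(Q ⊓ centralizer (B : Set H)) := hQq.to_le inf_le_left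
    obtain ⟨k, hk⟩ := IsPGroup.iff_card.1 h1
    have h2 : Nat.card ↥(Q ⊓ centralizer (B : Set H)) ∣ Nat.card V :=
      Subgroup.card_dvd_of_le (inf_le_inf_right _ hQW)
    rw [hk] at h2 ⊢
    apply Nat.pow_le_pow_right hqq.pos
    exact (hqq.pow_dvd_iff_le_factorization Nat.card_pos.ne').1 h2
  · rw [← hSc]
    have hle : S.map (MulAut.conj c⁻¹).toMonoidHom ≤ Q ⊓ centralizer (B : Set H) := by
      rintro _ ⟨s, hs, rfl⟩
      have hs' : (c⁻¹ * s * c⁻¹⁻¹) = (MulAut.conj c⁻¹).toMonoidHom s := rfl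
      rw [← hs']
      constructor
      · have h1 : s ∈ Q.map (MulAut.conj c).toMonoidHom := by
          rw [hcQ]
          exact hSS' hs
        rw [Cfsg.Agent.Lib.H2Basic.mem_map_conj_iff] at h1
        simpa using h1
      · have hcC : c ∈ centralizer (B : Set H) := Subgroup.mem_centralizer_iff.2 fun b hb =>
          hcA b (hBA hb)
        exact Subgroup.mul_mem _ (Subgroup.mul_mem _ (Subgroup.inv_mem _ hcC) (hSV hs).2)
          (Subgroup.inv_mem _ (Subgroup.inv_mem _ hcC))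
    have := Subgroup.card_le_of_le hle
    rwa [Cfsg.Agent.Lib.H2Basic.card_map_conj] at this

/-- Wielandt's formula, in the ambient group. -/
theorem wielandt_formula (A₀ W : Subgroup H) (hA₀c : ∀ a ∈ A₀, ∀ b ∈ A₀, a * b = b * a)
    (hexp : ∀ a ∈ A₀, a ^ p = 1) (hcard : Nat.card A₀ = p ^ 2)
    (hAW : ∀ a ∈ A₀, ∀ x ∈ W, a * x * a⁻¹ ∈ W) (hW : ¬ p ∣ Nat.card W) :
    letI : Fintype ↥A₀ := Fintype.ofFinite _
    ∏ B : Lines ↥A₀ p, Nat.card ↥(W ⊓ centralizer ((B.1.map A₀.subtype : Subgroup H) : Set H)) =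
      Nat.card W * (Nat.card ↥(W ⊓ centralizer (A₀ : Set H))) ^ p := by
  classical
  letI : Fintype ↥A₀ := Fintype.ofFinite _
  have hpp : p.Prime := Fact.out
  have hA₀p : IsPGroup p A₀ := fun a => ⟨1, by
    rw [pow_one]
    exact Subtype.ext (hexp a.1 a.2)⟩
  have hA₀s : Group.IsSolvable A₀ := by
    haveI := hA₀p.isNilpotent
    infer_instance
  have hΓc : ∀ a b : ↥A₀, a * b = b * a := fun a b => Subtype.ext (hA₀c a.1 a.2 b.1 b.2)
  have hΓe : ∀ γ : ↥A₀, γ ^ p = 1 := fun γ => Subtype.ext (hexp γ.1 γ.2)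
  set v : Subgroup H → ℕ → ℕ := fun S q => (Nat.card S).factorization q with hv
  apply Nat.eq_of_factorization_eq
  · exact Finset.prod_ne_zero_iff.2 fun B _ => Nat.card_pos.ne'
  · exact mul_ne_zero Nat.card_pos.ne' (pow_ne_zero _ Nat.card_pos.ne')
  intro q
  by_cases hq : q.Prime
  swap
  · rw [Nat.factorization_eq_zero_of_not_prime _ hq, Nat.factorization_eq_zero_of_not_prime _ hq]
  haveI : Fact q.Prime := ⟨hq⟩
  obtain ⟨Q, -, hQW, hQq, hQc, hQA⟩ := Cfsg.Agent.Lib.CoprimeSylow.exists_invariant_sylow_ge (r := q) A₀ W ⊥ hA₀p hW hAW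
    bot_le IsPGroup.of_bot (fun a ha x hx => by
      have hx1 : x = 1 := Subgroup.mem_bot.1 hx
      subst hx1
      simp)
  have hQp : ¬ p ∣ Nat.card Q := fun h => hW (dvd_trans h (Subgroup.card_dvd_of_le hQW))
  have hform := pgroup_formula (q := q) hΓc hΓe hcard _ Q (Cfsg.Agent.Lib.CoprimeGen.conjHom A₀ Q hQA) rfl
    hQq hQp
  rw [Finset.prod_congr rfl (fun B _ => card_fixS_conjHom A₀ Q hQA B.1), card_fixS_conjHom A₀ Q hQA ⊤,
    map_top_subtype] at hform
  have hfull : ∀ B : Subgroup H, B ≤ A₀ → Nat.card ↥(Q ⊓ centralizer (B : Set H)) =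
      q ^ (Nat.card ↥(W ⊓ centralizer (B : Set H))).factorization q := fun B hB =>
    card_inf_centralizer_sylow A₀ W Q hA₀p hA₀s hA₀c hAW hW hQW hQq hQc hQA B hB
  have hB' : ∀ B : Lines ↥A₀ p, (B.1.map A₀.subtype) ≤ A₀ := fun B => Subgroup.map_subtype_le _
  rw [Finset.prod_congr rfl (fun B _ => hfull _ (hB' B)), hfull A₀ le_rfl, hQc, Finset.prod_pow_eq_pow_sum,
    ← pow_mul, ← pow_add] at hform
  have hinj := Nat.pow_right_injective hq.two_le hform
  rw [Nat.factorization_prod (fun B _ => Nat.card_pos.ne'), Finset.sum_apply', hinj,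
    Nat.factorization_mul Nat.card_pos.ne' (pow_ne_zero _ Nat.card_pos.ne'), Nat.factorization_pow]
  simp [mul_comm]

open scoped Pointwise in
/-- the order of a product set of two subgroups -/
theorem card_mul_set (S T : Subgroup H) :
    Nat.card ↥((S : Set H) * (T : Set H)) * Nat.card ↥(S ⊓ T) = Nat.card S * Nat.card T := by
  classical
  let f : ↥S × ↥T → ↥((S : Set H) * (T : Set H)) := fun a => ⟨a.1.1 * a.2.1, Set.mul_mem_mul a.1.2 a.2.2⟩
  have h := Cfsg.Agent.Lib.SylowCount.card_eq_mul_of_fibers f (Nat.card ↥(S ⊓ T)) (by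
    rintro ⟨b, s₀, hs₀, t₀, ht₀, hb⟩
    have hb' : s₀ * t₀ = b := hb
    subst hb'
    apply Nat.card_congr
    exact
      { toFun := fun a => ⟨s₀⁻¹ * a.1.1.1, by
          have h1 : a.1.1.1 * a.1.2.1 = s₀ * t₀ := congrArg Subtype.val a.2
          refine ⟨S.mul_mem (S.inv_mem hs₀) a.1.1.2, ?_⟩
          have h2 : s₀⁻¹ * a.1.1.1 = t₀ * a.1.2.1⁻¹ := by
            calc s₀⁻¹ * a.1.1.1 = s₀⁻¹ * (a.1.1.1 * a.1.2.1) * a.1.2.1⁻¹ := by group
              _ = s₀⁻¹ * (s₀ * t₀) * a.1.2.1⁻¹ := by rw [h1]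
              _ = t₀ * a.1.2.1⁻¹ := by group
          rw [h2]
          exact T.mul_mem ht₀ (T.inv_mem a.1.2.2)⟩
        invFun := fun d => ⟨(⟨s₀ * d.1, S.mul_mem hs₀ d.2.1⟩, ⟨d.1⁻¹ * t₀, T.mul_mem (T.inv_mem d.2.2) ht₀⟩), by
          apply Subtype.ext
          show s₀ * d.1 * (d.1⁻¹ * t₀) = s₀ * t₀
          group⟩
        left_inv := fun a => by
          have h1 : a.1.1.1 * a.1.2.1 = s₀ * t₀ := congrArg Subtype.val a.2
          apply Subtype.ext
          apply Prod.ext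
          · apply Subtype.ext
            show s₀ * (s₀⁻¹ * a.1.1.1) = a.1.1.1
            group
          · apply Subtype.ext
            show (s₀⁻¹ * a.1.1.1)⁻¹ * t₀ = a.1.2.1
            have h2 : s₀⁻¹ * a.1.1.1 = t₀ * a.1.2.1⁻¹ := by
              calc s₀⁻¹ * a.1.1.1 = s₀⁻¹ * (a.1.1.1 * a.1.2.1) * a.1.2.1⁻¹ := by group
                _ = s₀⁻¹ * (s₀ * t₀) * a.1.2.1⁻¹ := by rw [h1]
                _ = t₀ * a.1.2.1⁻¹ := by group
            rw [h2]
            group
        right_inv := fun d => by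
          apply Subtype.ext
          show s₀⁻¹ * (s₀ * d.1) = d.1
          group })
  rw [Nat.card_prod] at h
  exact h.symm

open scoped Pointwise in
/-- factorization from factorization of the centralizers -/
theorem eq_mul_of_centralizers (A K X Y : Subgroup H) (hA : IsElementaryAbelian p A) (hA2 : p ^ 2 ≤ Nat.card A)
    (hK : ¬ p ∣ Nat.card K) (hAK : A ≤ normalizer (K : Set H)) (hX : X ≤ K) (hY : Y ≤ K)
    (hAX : A ≤ normalizer (X : Set H)) (hAY : A ≤ normalizer (Y : Set H))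
    (hfac : ∀ a ∈ A, a ≠ 1 → ((K ⊓ centralizer {a} : Subgroup H) : Set H) =
      ((X ⊓ centralizer {a} : Subgroup H) : Set H) * ((Y ⊓ centralizer {a} : Subgroup H) : Set H)) :
    (K : Set H) = (X : Set H) * (Y : Set H) := by
  classical
  have hpp : p.Prime := Fact.out
  have hAc : ∀ a ∈ A, ∀ b ∈ A, a * b = b * a := fun a ha b hb => by
    haveI := hA.1
    exact congrArg Subtype.val (mul_comm' (⟨a, ha⟩ : A) ⟨b, hb⟩)
  -- a subgroup of order `p²`
  have hAp : IsPGroup p A := fun a => ⟨1, by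
    rw [pow_one]
    exact Subtype.ext (hA.2 a.1 a.2)⟩
  obtain ⟨m, hm⟩ := IsPGroup.iff_card.1 hAp
  have hm2 : 2 ≤ m := by
    rw [hm] at hA2
    exact (Nat.pow_le_pow_iff_right hpp.one_lt).1 hA2
  have hdvd : p ^ 2 ∣ Nat.card A := by
    rw [hm]
    exact pow_dvd_pow p hm2
  obtain ⟨E, hE⟩ := Sylow.exists_subgroup_card_pow_prime p hdvd
  set A₀ : Subgroup H := E.map A.subtype with hA₀def
  have hA₀A : A₀ ≤ A := Subgroup.map_subtype_le _
  have hA₀card : Nat.card A₀ = p ^ 2 := by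
    rw [hA₀def, Subgroup.card_map_of_injective A.subtype_injective, hE]
  have hA₀c : ∀ a ∈ A₀, ∀ b ∈ A₀, a * b = b * a := fun a ha b hb => hAc a (hA₀A ha) b (hA₀A hb)
  have hexp : ∀ a ∈ A₀, a ^ p = 1 := fun a ha => hA.2 a (hA₀A ha)
  have hconj : ∀ W : Subgroup H, A ≤ normalizer (W : Set H) → ∀ a ∈ A₀, ∀ x ∈ W, a * x * a⁻¹ ∈ W :=
    fun W hW a ha x hx => (Subgroup.mem_normalizer_iff.1 (hW (hA₀A ha)) x).1 hx
  set D := X ⊓ Y with hD
  have hAD : A ≤ normalizer (D : Set H) := fun a ha =>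
    Subgroup.inf_normalizer_le_normalizer_inf ⟨hAX ha, hAY ha⟩
  have hXp : ¬ p ∣ Nat.card X := fun h => hK (dvd_trans h (Subgroup.card_dvd_of_le hX))
  have hYp : ¬ p ∣ Nat.card Y := fun h => hK (dvd_trans h (Subgroup.card_dvd_of_le hY))
  have hDX : D ≤ X := inf_le_left
  have hDp : ¬ p ∣ Nat.card D := fun h => hXp (dvd_trans h (Subgroup.card_dvd_of_le hDX))
  letI : Fintype ↥A₀ := Fintype.ofFinite _
  have FK := wielandt_formula A₀ K hA₀c hexp hA₀card (hconj K hAK) hK
  have FX := wielandt_formula A₀ X hA₀c hexp hA₀card (hconj X hAX) hXp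
  have FY := wielandt_formula A₀ Y hA₀c hexp hA₀card (hconj Y hAY) hYp
  have FD := wielandt_formula A₀ D hA₀c hexp hA₀card (hconj D hAD) hDp
  have hΓe : ∀ γ : ↥A₀, γ ^ p = 1 := fun γ => Subtype.ext (hexp γ.1 γ.2)
  -- the centralizer factorization gives the counts
  have hcount : ∀ a ∈ A₀, a ≠ 1 → Nat.card ↥(K ⊓ centralizer {a}) * Nat.card ↥(D ⊓ centralizer {a}) =
      Nat.card ↥(X ⊓ centralizer {a}) * Nat.card ↥(Y ⊓ centralizer {a}) := by
    intro a ha ha1
    have h1 := card_mul_set (X ⊓ centralizer {a}) (Y ⊓ centralizer {a})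
    rw [← hfac a (hA₀A ha) ha1] at h1
    have h2 : (X ⊓ centralizer {a}) ⊓ (Y ⊓ centralizer {a}) = D ⊓ centralizer {a} := by
      rw [hD]
      exact (inf_inf_distrib_right _ _ _).symm
    rw [h2] at h1
    exact h1
  have hline : ∀ B : Lines ↥A₀ p, ∃ a ∈ A₀, a ≠ 1 ∧
      centralizer ((B.1.map A₀.subtype : Subgroup H) : Set H) = centralizer {a} := by
    intro B
    have h1 : Nontrivial B.1 := by
      apply Finite.one_lt_card_iff_nontrivial.1
      rw [B.2]
      exact hpp.one_lt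
    obtain ⟨g, hg⟩ := exists_ne (1 : B.1)
    have hg1 : (g : ↥A₀) ≠ 1 := fun h => hg (Subtype.ext h)
    have hgz := eq_zpowers hΓe B.2 g.2 hg1
    refine ⟨(g : ↥A₀).1, (g : ↥A₀).2, fun h => hg1 (Subtype.ext h), ?_⟩
    ext x
    rw [Subgroup.mem_centralizer_iff, Subgroup.mem_centralizer_singleton_iff]
    constructor
    · intro h
      exact (h _ ⟨g, g.2, rfl⟩).symm
    · rintro h _ ⟨b, hb, rfl⟩
      rw [hgz] at hb
      obtain ⟨k, rfl⟩ := Subgroup.mem_zpowers_iff.1 hb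
      have h2 : Commute x ((g : ↥A₀) : H) := h
      have h3 : Commute x (((g : ↥A₀) ^ k : ↥A₀) : H) := by
        have : (((g : ↥A₀) ^ k : ↥A₀) : H) = ((g : ↥A₀) : H) ^ k := by simp
        rw [this]
        exact h2.zpow_right k
      exact h3.eq.symm
  have hprod : (∏ B : Lines ↥A₀ p, Nat.card ↥(K ⊓ centralizer ((B.1.map A₀.subtype : Subgroup H) : Set H))) *
      (∏ B : Lines ↥A₀ p, Nat.card ↥(D ⊓ centralizer ((B.1.map A₀.subtype : Subgroup H) : Set H))) =
      (∏ B : Lines ↥A₀ p, Nat.card ↥(X ⊓ centralizer ((B.1.map A₀.subtype : Subgroup H) : Set H))) *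
      (∏ B : Lines ↥A₀ p, Nat.card ↥(Y ⊓ centralizer ((B.1.map A₀.subtype : Subgroup H) : Set H))) := by
    rw [← Finset.prod_mul_distrib, ← Finset.prod_mul_distrib]
    refine Finset.prod_congr rfl fun B _ => ?_
    obtain ⟨a, ha, ha1, hc⟩ := hline B
    rw [hc]
    exact hcount a ha ha1
  rw [FK, FX, FY, FD] at hprod
  -- a nontrivial element of `A₀`
  have hne : Nontrivial A₀ := by
    apply Finite.one_lt_card_iff_nontrivial.1
    rw [hA₀card]
    exact Nat.one_lt_pow (by norm_num) hpp.one_lt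
  obtain ⟨g, hg⟩ := exists_ne (1 : A₀)
  have hg1 : (g : H) ≠ 1 := fun h => hg (Subtype.ext h)
  have hA₀p : IsPGroup p A₀ := hAp.to_le hA₀A
  -- the top level factorization
  have htop : ((K ⊓ centralizer (A₀ : Set H) : Subgroup H) : Set H) =
      ((X ⊓ centralizer (A₀ : Set H) : Subgroup H) : Set H) * ((Y ⊓ centralizer (A₀ : Set H) : Subgroup H) : Set H) := by
    apply Set.Subset.antisymm
    · rintro z ⟨hzK, hzC⟩
      have hzC' : z ∈ centralizer {(g : H)} := Subgroup.mem_centralizer_singleton_iff.2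
        (Subgroup.mem_centralizer_iff.1 hzC g g.2).symm
      have hz : z ∈ ((K ⊓ centralizer {(g : H)} : Subgroup H) : Set H) := ⟨hzK, hzC'⟩
      rw [hfac g (hA₀A g.2) hg1] at hz
      obtain ⟨u, hu, v, hv, rfl⟩ := hz
      have hu' : u ∈ X ⊓ centralizer {(g : H)} := hu
      have hv' : v ∈ Y ⊓ centralizer {(g : H)} := hv
      have hcg : ∀ b ∈ A₀, ∀ c ∈ centralizer {(g : H)}, b * c * b⁻¹ ∈ centralizer {(g : H)} := by
        intro b hb c hc
        have hbg : b ∈ centralizer {(g : H)} := Subgroup.mem_centralizer_singleton_iff.2 (hA₀c b hb g g.2)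
        exact Subgroup.mul_mem _ (Subgroup.mul_mem _ hbg hc) (Subgroup.inv_mem _ hbg)
      have hinv : ∀ b ∈ A₀, u⁻¹ * (b * u * b⁻¹) ∈ D ⊓ centralizer {(g : H)} := by
        intro b hb
        have hfix : b * (u * v) * b⁻¹ = u * v :=by
          have h1 := Subgroup.mem_centralizer_iff.1 hzC b hb
          rw [h1]
          group
        have h2 : u⁻¹ * (b * u * b⁻¹) = v * (b * v * b⁻¹)⁻¹ := by
          have h6 : (b * u * b⁻¹) * (b * v * b⁻¹) = u * v := by
            rw [← hfix]; group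
          calc u⁻¹ * (b * u * b⁻¹) = u⁻¹ * ((b * u * b⁻¹) * (b * v * b⁻¹)) * (b * v * b⁻¹)⁻¹ := by group
            _ = v * (b * v * b⁻¹)⁻¹ := by rw [h6]; group
        refine ⟨⟨X.mul_mem (X.inv_mem hu'.1) (hconj X hAX b hb u hu'.1), ?_⟩, ?_⟩
        · rw [h2]
          exact Y.mul_mem hv'.1 (Y.inv_mem (hconj Y hAY b hb v hv'.1))
        · exact Subgroup.mul_mem _ (Subgroup.inv_mem _ hu'.2) (hcg b hb u hu'.2)
      obtain ⟨n, hn, hfix⟩ := Cfsg.Agent.Lib.CoprimeGen.exists_mul_mem_centralizer (p := p) hA₀p (N := D ⊓ centralizer {(g : H)})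
        (fun h => hDp (dvd_trans h (Subgroup.card_dvd_of_le inf_le_left)))
        (fun b hb n hn => ⟨hconj D hAD b hb n hn.1, hcg b hb n hn.2⟩) hinv
      have hun : u * n ∈ X ⊓ centralizer (A₀ : Set H) := by
        refine ⟨X.mul_mem hu'.1 hn.1.1, Subgroup.mem_centralizer_iff.2 ?_⟩
        intro b hb
        have h7 := hfix b hb
        symm
        calc u * n * b = b * (u * n) * b⁻¹ * b := by rw [h7]
          _ = b * (u * n) := by group
      have hnv : n⁻¹ * v ∈ Y ⊓ centralizer (A₀ : Set H) := by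
        refine ⟨Y.mul_mem (Y.inv_mem hn.1.2) hv'.1, ?_⟩
        have h8 : n⁻¹ * v = (u * n)⁻¹ * (u * v) := by group
        rw [h8]
        exact Subgroup.mul_mem _ (Subgroup.inv_mem _ hun.2) hzC
      exact ⟨u * n, hun, n⁻¹ * v, hnv, by group⟩
    · rintro _ ⟨u, hu, v, hv, rfl⟩
      exact ⟨K.mul_mem (hX hu.1) (hY hv.1), Subgroup.mul_mem _ hu.2 hv.2⟩
  have hkd : Nat.card ↥(K ⊓ centralizer (A₀ : Set H)) * Nat.card ↥(D ⊓ centralizer (A₀ : Set H)) =
      Nat.card ↥(X ⊓ centralizer (A₀ : Set H)) * Nat.card ↥(Y ⊓ centralizer (A₀ : Set H)) := by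
    have h1 := card_mul_set (X ⊓ centralizer (A₀ : Set H)) (Y ⊓ centralizer (A₀ : Set H))
    rw [← htop] at h1
    have h2 : (X ⊓ centralizer (A₀ : Set H)) ⊓ (Y ⊓ centralizer (A₀ : Set H)) = D ⊓ centralizer (A₀ : Set H) := by
      rw [hD]
      exact (inf_inf_distrib_right _ _ _).symm
    rw [h2] at h1
    exact h1
  -- cancel
  have hmain : Nat.card K * Nat.card D = Nat.card X * Nat.card Y := by
    set k := Nat.card ↥(K ⊓ centralizer (A₀ : Set H))
    set d := Nat.card ↥(D ⊓ centralizer (A₀ : Set H))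
    set x := Nat.card ↥(X ⊓ centralizer (A₀ : Set H))
    set y := Nat.card ↥(Y ⊓ centralizer (A₀ : Set H))
    have h3 : (Nat.card K * Nat.card D) * (k * d) ^ p = (Nat.card X * Nat.card Y) * (x * y) ^ p := by
      rw [mul_pow, mul_pow]
      calc _ = Nat.card K * k ^ p * (Nat.card D * d ^ p) := by ring
        _ = Nat.card X * x ^ p * (Nat.card Y * y ^ p) := hprod
        _ = _ := by ring
    rw [← hkd] at h3
    have hpos : 0 < (k * d) ^ p := pow_pos (Nat.mul_pos Nat.card_pos Nat.card_pos) _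
    exact Nat.eq_of_mul_eq_mul_right hpos h3
  have hfinal := card_mul_set X Y
  rw [← hmain] at hfinal
  have hcardXY : Nat.card ↥((X : Set H) * (Y : Set H)) = Nat.card K :=
    Nat.eq_of_mul_eq_mul_right Nat.card_pos hfinal
  symm
  apply Set.eq_of_subset_of_ncard_le
  · rintro _ ⟨u, hu, v, hv, rfl⟩
    exact K.mul_mem (hX hu) (hY hv)
  · rw [← Nat.card_coe_set_eq, ← Nat.card_coe_set_eq, hcardXY]
    rfl
  · exact Set.toFinite _

end Concrete

end Cfsg.Agent.Lib.WielandtCount
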