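import Mathlib
import Cfsg.Prelude
import Cfsg.Agent.Lib.H2Basic
import Cfsg.Agent.Lib.WielandtCount
import Cfsg.Agent.S1498

/-! The Dade map: uniqueness of the coset decomposition, values, and the isometry formula. -/

set_option autoImplicit false
set_option linter.all false

namespace Cfsg.Agent.Lib.DadeIso

open Cfsg
open scoped Pointwise

section parts

variable {G : Type*} [Group G] [Finite G]
variable {A : Set G} {L : Subgroup G} {H : G → Subgroup G}

/-- The decomposition `a * u` is preserved by conjugation. -/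
theorem parts (hD : DadeHypothesis A L H) {a b u v g : G} (ha : a ∈ A) (hb : b ∈ A) (hu : u ∈ H a)
    (hv : v ∈ H b) (h : g * (a * u) * g⁻¹ = b * v) : g * a * g⁻¹ = b ∧ g * u * g⁻¹ = v := by
  set m := Nat.card ↥(L ⊓ Subgroup.centralizer ({a} : Set G)) * Nat.card ↥(L ⊓ Subgroup.centralizer ({b} : Set G)) with hm
  set w := Nat.card (H a) * Nat.card (H b) with hw
  have hcop : Nat.Coprime m w := by
    have h1 := hD.coprime a ha a ha
    have h2 := hD.coprime a ha b hb
    have h3 := hD.coprime b hb a ha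
    have h4 := hD.coprime b hb b hb
    refine Nat.Coprime.symm ?_
    rw [hw, hm]
    exact Nat.Coprime.mul_left (Nat.Coprime.mul_right h1 h2) (Nat.Coprime.mul_right h3 h4)
  obtain ⟨t, ht1, ht0⟩ := Nat.chineseRemainder hcop 1 0
  have key : ∀ e ∈ A, ∀ y ∈ H e, Nat.card ↥(L ⊓ Subgroup.centralizer ({e} : Set G)) ∣ m → Nat.card (H e) ∣ w → (e * y) ^ t = e := by
    intro e he y hy h1 h2
    have hc : Commute e y := (Subgroup.mem_centralizer_singleton_iff.1 (hD.le_centralizer e he hy)).symm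
    have h3 : e ∈ L ⊓ Subgroup.centralizer ({e} : Set G) :=
      ⟨hD.subset he, Subgroup.mem_centralizer_singleton_iff.2 rfl⟩
    have h4 : orderOf e ∣ m := (Subgroup.orderOf_dvd_natCard _ h3).trans h1
    have h5 : orderOf y ∣ w := (Subgroup.orderOf_dvd_natCard _ hy).trans h2
    have h6 : e ^ t = e ^ 1 := (pow_eq_pow_iff_modEq).2 (ht1.of_dvd h4)
    have h7 : y ^ t = y ^ 0 := (pow_eq_pow_iff_modEq).2 (ht0.of_dvd h5)
    rw [hc.mul_pow, h6, h7, pow_one, pow_zero, mul_one]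
  have h1 := key a ha u hu (Dvd.intro _ rfl) (Dvd.intro _ rfl)
  have h2 := key b hb v hv (Dvd.intro_left _ rfl) (Dvd.intro_left _ rfl)
  have h3 : g * a * g⁻¹ = b := by
    rw [← h2, ← h, conj_pow, h1]
  refine ⟨h3, ?_⟩
  have h4 : g * (a * u) * g⁻¹ = (g * a * g⁻¹) * (g * u * g⁻¹) := by group
  rw [h4, h3] at h
  exact mul_left_cancel h

theorem mem_H_of_conj (hD : DadeHypothesis A L H) {a y u : G} (ha : a ∈ A) (hy : y * a * y⁻¹ ∈ A) (hu : u ∈ H a) :
    y * u * y⁻¹ ∈ H (y * a * y⁻¹) ∧ Nat.card (H (y * a * y⁻¹)) = Nat.card (H a) := by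
  obtain ⟨l, hl, hle⟩ := hD.fusion a ha y hy
  have h1 := Cfsg.Agent.S1498.result A L H hD a ha l hl
  rw [← hle, h1]
  refine ⟨?_, Cfsg.Agent.Lib.H2Basic.card_map_conj _ _⟩
  have hc : l⁻¹ * y ∈ Subgroup.centralizer ({a} : Set G) := by
    rw [Subgroup.mem_centralizer_singleton_iff]
    calc l⁻¹ * y * a = l⁻¹ * (y * a * y⁻¹) * y := by group
      _ = l⁻¹ * (l * a * l⁻¹) * y := by rw [hle]
      _ = a * (l⁻¹ * y) := by group
  have h2 := hD.conj_mem_H a ha _ hc u hu
  refine ⟨_, h2, ?_⟩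
  show l * ((l⁻¹ * y) * u * (l⁻¹ * y)⁻¹) * l⁻¹ = y * u * y⁻¹
  group

/-- The first part of S1499. -/
theorem conj_of_coset (hD : DadeHypothesis A L H) {a b : G} (ha : a ∈ A) (hb : b ∈ A)
    (h : ∃ u ∈ H a, ∃ v ∈ H b, ∃ g : G, g * (a * u) * g⁻¹ = b * v) : ∃ x ∈ L, x * a * x⁻¹ = b := by
  obtain ⟨u, hu, v, hv, g, hg⟩ := h
  have h1 := (parts hD ha hb hu hv hg).1
  obtain ⟨x, hx, hxe⟩ := hD.fusion a ha g (h1 ▸ hb)
  exact ⟨x, hx, hxe.trans h1⟩

/-- The second part of S1499. -/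
theorem normalizer_coset (hD : DadeHypothesis A L H) {a : G} (ha : a ∈ A) :
    Subgroup.normalizer ((fun u : G => a * u) '' (H a : Set G)) = Subgroup.centralizer ({a} : Set G) := by
  ext g
  rw [Subgroup.mem_set_normalizer_iff]
  constructor
  · intro h
    have h1 : a ∈ (fun u : G => a * u) '' (H a : Set G) := ⟨1, (H a).one_mem, mul_one a⟩
    obtain ⟨v, hv, hve⟩ := (h a).1 h1
    have h2 : g * (a * 1) * g⁻¹ = a * v := by
      rw [mul_one]
      exact hve.symm
    have h3 := (parts hD ha ha (H a).one_mem hv h2).1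
    rw [Subgroup.mem_centralizer_singleton_iff]
    calc g * a = g * a * g⁻¹ * g := by group
      _ = a * g := by rw [h3]
  · intro hg x
    have hc : g * a = a * g := Subgroup.mem_centralizer_singleton_iff.1 hg
    have hc2 : g⁻¹ ∈ Subgroup.centralizer ({a} : Set G) := Subgroup.inv_mem _ hg
    have hc3 : g⁻¹ * a = a * g⁻¹ := Subgroup.mem_centralizer_singleton_iff.1 hc2
    constructor
    · rintro ⟨u, hu, rfl⟩
      refine ⟨g * u * g⁻¹, hD.conj_mem_H a ha g hg u hu, ?_⟩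
      show a * (g * u * g⁻¹) = g * (a * u) * g⁻¹
      calc a * (g * u * g⁻¹) = (a * g) * u * g⁻¹ := by group
        _ = (g * a) * u * g⁻¹ := by rw [hc]
        _ = _ := by group
    · rintro ⟨v, hv, hve⟩
      have hve' : a * v = g * x * g⁻¹ := hve
      refine ⟨g⁻¹ * v * g⁻¹⁻¹, hD.conj_mem_H a ha g⁻¹ hc2 v hv, ?_⟩
      show a * (g⁻¹ * v * g⁻¹⁻¹) = x
      calc a * (g⁻¹ * v * g⁻¹⁻¹) = (a * g⁻¹) * v * g := by group
        _ = (g⁻¹ * a) * v * g := by rw [hc3]
        _ = g⁻¹ * (a * v) * g := by group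
        _ = g⁻¹ * (g * x * g⁻¹) * g := by rw [hve']
        _ = x := by group

theorem card_Z (hD : DadeHypothesis A L H) {a : G} (ha : a ∈ A) :
    Nat.card {y : G // y * a * y⁻¹ ∈ A} = Nat.card L * Nat.card (H a) := by
  classical
  set C := Subgroup.centralizer ({a} : Set G) with hC
  have hset : {y : G | y * a * y⁻¹ ∈ A} = (L : Set G) * (C : Set G) := by
    ext y
    constructor
    · intro hy
      obtain ⟨l, hl, hle⟩ := hD.fusion a ha y hy
      refine Set.mem_mul.2 ⟨l, hl, l⁻¹ * y, ?_, by group⟩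
      show l⁻¹ * y ∈ C
      rw [hC, Subgroup.mem_centralizer_singleton_iff]
      calc l⁻¹ * y * a = l⁻¹ * (y * a * y⁻¹) * y := by group
        _ = l⁻¹ * (l * a * l⁻¹) * y := by rw [hle]
        _ = a * (l⁻¹ * y) := by group
    · rintro hy
      obtain ⟨l, hl, c, hc, rfl⟩ := Set.mem_mul.1 hy
      have hc' : c * a = a * c := Subgroup.mem_centralizer_singleton_iff.1 hc
      have e : l * c * a * (l * c)⁻¹ = l * a * l⁻¹ := by
        calc l * c * a * (l * c)⁻¹ = l * (c * a) * c⁻¹ * l⁻¹ := by group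
          _ = l * (a * c) * c⁻¹ * l⁻¹ := by rw [hc']
          _ = l * a * l⁻¹ := by group
      show l * c * a * (l * c)⁻¹ ∈ A
      rw [e]
      exact hD.conj_mem l hl a ha
  have h1 := Cfsg.Agent.Lib.WielandtCount.card_mul_set L C
  have hHN : (L ⊓ C : Subgroup G) ≤ Subgroup.normalizer (H a : Set G) := by
    intro c hc
    apply Cfsg.Agent.Lib.H2Basic.mem_normalizer_of_conj_le
    intro u hu
    exact hD.conj_mem_H a ha c hc.2 u hu
  have h2 : Nat.card C = Nat.card (H a) * Nat.card ↥(L ⊓ C) := by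
    have h3 := Cfsg.Agent.Lib.WielandtCount.card_mul_set (L ⊓ C : Subgroup G) (H a)
    have h4 := hD.sup_eq a ha
    have h5 := hD.inf_eq_bot a ha
    rw [← Subgroup.coe_mul_of_left_le_normalizer_right _ _ hHN, sup_comm, h4, inf_comm, h5] at h3
    rw [Subgroup.card_bot, mul_one] at h3
    have h6 : Nat.card ((Subgroup.centralizer ({a} : Set G) : Subgroup G) : Set G) = Nat.card (Subgroup.centralizer ({a} : Set G)) := rfl
    rw [h6] at h3
    rw [h3, mul_comm]
  have h7 : Nat.card {y : G // y * a * y⁻¹ ∈ A} = Nat.card ↥((L : Set G) * (C : Set G)) := by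
    rw [← hset]
    rfl
  rw [h7]
  have hpos : 0 < Nat.card ↥(L ⊓ C) := Nat.card_pos
  apply Nat.eq_of_mul_eq_mul_right hpos
  rw [h1, h2]
  ring

end parts

section formula

variable {G : Type*} [Group G] [Fintype G] {A : Set G} {L : Subgroup G} [Fintype L] {H : G → Subgroup G}
variable {K : Type*} [Field K] [CharZero K]

/-- The set of elements of `G` conjugate into a coset `a * H a` with `a ∈ A`. -/
def Sup {G : Type*} [Group G] (A : Set G) (L : Subgroup G) (H : G → Subgroup G) (g : G) : Prop :=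
  ∃ a : L, (a : G) ∈ A ∧ ∃ x : G, ∃ u ∈ H (a : G), x * g * x⁻¹ = (a : G) * u

omit [Fintype G] [Fintype L] in
theorem sup_conj (y g : G) : Sup A L H (y * g * y⁻¹) ↔ Sup A L H g := by
  constructor
  · rintro ⟨a, ha, x, u, hu, e⟩
    refine ⟨a, ha, x * y, u, hu, ?_⟩
    rw [← e]
    group
  · rintro ⟨a, ha, x, u, hu, e⟩
    refine ⟨a, ha, x * y⁻¹, u, hu, ?_⟩
    rw [← e]
    group

open Classical in
theorem inner_weight (hD : DadeHypothesis A L H) {a₀ u₀ : G} (ha₀ : a₀ ∈ A) (hu₀ : u₀ ∈ H a₀) (y : G) :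
    ∑ a : L, ∑ u : G, (if (a : G) ∈ A ∧ u ∈ H a ∧ y * (a₀ * u₀) * y⁻¹ = a * u then (Nat.card (H a) : K)⁻¹ else 0)
      = if y * a₀ * y⁻¹ ∈ A then (Nat.card (H a₀) : K)⁻¹ else 0 := by
  split_ifs with hy
  · have hyL : y * a₀ * y⁻¹ ∈ L := hD.subset hy
    obtain ⟨h1, h2⟩ := mem_H_of_conj hD ha₀ hy hu₀
    rw [Finset.sum_eq_single (⟨_, hyL⟩ : L), Finset.sum_eq_single (y * u₀ * y⁻¹)]
    · rw [if_pos]
      · simp only [h2]
      · refine ⟨hy, h1, ?_⟩
        group
    · intro u _ hne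
      rw [if_neg]
      rintro ⟨_, hu, he⟩
      exact hne (parts hD ha₀ hy hu₀ hu he).2.symm
    · simp
    · intro a _ hne
      apply Finset.sum_eq_zero
      intro u _
      rw [if_neg]
      rintro ⟨ha, hu, he⟩
      exact hne (Subtype.ext (parts hD ha₀ ha hu₀ hu he).1.symm)
    · simp
  · apply Finset.sum_eq_zero
    intro a _
    apply Finset.sum_eq_zero
    intro u _
    rw [if_neg]
    rintro ⟨ha, hu, he⟩
    exact hy ((parts hD ha₀ ha hu₀ hu he).1 ▸ ha)

open Classical in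
theorem weight_eq (hD : DadeHypothesis A L H) {g : G} (hg : Sup A L H g) :
    ∑ x : G, ∑ a : L, ∑ u : G,
      (if (a : G) ∈ A ∧ u ∈ H a ∧ x⁻¹ * (a * u) * x = g then (Nat.card (H a) : K)⁻¹ else 0)
      = (Nat.card L : K) := by
  obtain ⟨a₀, ha₀, x₀, u₀, hu₀, e⟩ := hg
  have hsub : ∀ (x : G) (c : G), x⁻¹ * c * x = g ↔ (x * x₀⁻¹) * ((a₀ : G) * u₀) * (x * x₀⁻¹)⁻¹ = c := by
    intro x c
    rw [← e]
    constructor
    · intro h
      rw [← h]
      group
    · intro h
      rw [← h]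
      group
  have h1 : ∀ x : G, ∑ a : L, ∑ u : G,
      (if (a : G) ∈ A ∧ u ∈ H a ∧ x⁻¹ * (a * u) * x = g then (Nat.card (H a) : K)⁻¹ else 0)
      = if (x * x₀⁻¹) * (a₀ : G) * (x * x₀⁻¹)⁻¹ ∈ A then (Nat.card (H a₀) : K)⁻¹ else 0 := by
    intro x
    rw [← inner_weight hD ha₀ hu₀ (x * x₀⁻¹)]
    simp only [hsub]
  simp only [h1]
  rw [← Equiv.sum_comp (Equiv.mulRight x₀)]
  simp only [Equiv.coe_mulRight, mul_inv_cancel_right]
  rw [Finset.sum_ite, Finset.sum_const_zero, add_zero, Finset.sum_const, nsmul_eq_mul]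
  have h2 := card_Z hD ha₀
  have h3 : (Finset.univ.filter fun y : G => y * (a₀ : G) * y⁻¹ ∈ A).card = Nat.card L * Nat.card (H a₀) := by
    rw [← h2, Nat.card_eq_fintype_card, Fintype.card_subtype]
  rw [h3]
  have h4 : (Nat.card (H a₀) : K) ≠ 0 := by
    exact_mod_cast (Nat.card_pos (α := H a₀)).ne'
  push_cast
  field_simp

open Classical in
/-- The summation formula behind the Dade isometry. -/
theorem sum_formula (hD : DadeHypothesis A L H) (F : G → K) (hF : ∀ g x, F (x * g * x⁻¹) = F g) :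
    (Nat.card L : K) * ∑ g : G, (if Sup A L H g then F g else 0) =
      (Nat.card G : K) * ∑ a : L, ∑ u : G,
        (if (a : G) ∈ A ∧ u ∈ H a then (Nat.card (H a) : K)⁻¹ * F (a * u) else 0) := by
  have h1 : ∀ (x a u : G), F (x⁻¹ * (a * u) * x) = F (a * u) := by
    intro x a u
    have := hF (a * u) x⁻¹
    rwa [inv_inv] at this
  have hT : ∑ x : G, ∑ a : L, ∑ u : G,
      (if (a : G) ∈ A ∧ u ∈ H a then (Nat.card (H a) : K)⁻¹ * F (x⁻¹ * (a * u) * x) else 0)
      = (Nat.card G : K) * ∑ a : L, ∑ u : G,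
        (if (a : G) ∈ A ∧ u ∈ H a then (Nat.card (H a) : K)⁻¹ * F (a * u) else 0) := by
    simp only [h1]
    rw [Finset.sum_const, Finset.card_univ, nsmul_eq_mul, Nat.card_eq_fintype_card]
  rw [← hT]
  have hW : ∀ g : G, (Nat.card L : K) * (if Sup A L H g then F g else 0) =
      F g * ∑ x : G, ∑ a : L, ∑ u : G,
      (if (a : G) ∈ A ∧ u ∈ H a ∧ x⁻¹ * (a * u) * x = g then (Nat.card (H a) : K)⁻¹ else 0) := by
    intro g
    by_cases hg : Sup A L H g
    · rw [weight_eq hD hg, if_pos hg, mul_comm]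
    · rw [if_neg hg, mul_zero]
      have : ∑ x : G, ∑ a : L, ∑ u : G,
          (if (a : G) ∈ A ∧ u ∈ H a ∧ x⁻¹ * (a * u) * x = g then (Nat.card (H a) : K)⁻¹ else 0) = 0 := by
        apply Finset.sum_eq_zero
        intro x _
        apply Finset.sum_eq_zero
        intro a _
        apply Finset.sum_eq_zero
        intro u _
        rw [if_neg]
        rintro ⟨ha, hu, he⟩
        refine hg ⟨a, ha, x, u, hu, ?_⟩
        rw [← he]
        group
      rw [this, mul_zero]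
  rw [Finset.mul_sum]
  simp only [hW, Finset.mul_sum]
  rw [Finset.sum_comm]
  refine Finset.sum_congr rfl fun x _ => ?_
  rw [Finset.sum_comm]
  refine Finset.sum_congr rfl fun a _ => ?_
  rw [Finset.sum_comm]
  refine Finset.sum_congr rfl fun u _ => ?_
  by_cases hc : (a : G) ∈ A ∧ u ∈ H a
  · rw [if_pos hc, Finset.sum_eq_single (x⁻¹ * (a * u) * x)]
    · rw [if_pos ⟨hc.1, hc.2, rfl⟩, mul_comm]
    · intro g _ hne
      rw [if_neg, mul_zero]
      rintro ⟨_, _, he⟩
      exact hne he.symm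
    · simp
  · rw [if_neg hc]
    apply Finset.sum_eq_zero
    intro g _
    rw [if_neg, mul_zero]
    rintro ⟨h1', h2', _⟩
    exact hc ⟨h1', h2'⟩

end formula

section values

variable {G : Type*} [Group G] {A : Set G} {L : Subgroup G} {H : G → Subgroup G}

theorem dade_eq [Finite G] (hD : DadeHypothesis A L H) {α : L → ℂ} (hα : IsClassFunction L α) {a : L}
    (ha : (a : G) ∈ A) {x u g : G} (hu : u ∈ H a) (e : x * g * x⁻¹ = a * u) :
    dadeIsometry A L H α g = α a := by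
  classical
  have hw : ∃ a : L, (a : G) ∈ A ∧ ∃ x : G, ∃ u ∈ H (a : G), x * g * x⁻¹ = (a : G) * u :=
    ⟨a, ha, x, u, hu, e⟩
  unfold dadeIsometry
  rw [dif_pos hw]
  obtain ⟨hc, x', u', hu', e'⟩ := Classical.choose_spec hw
  set c := Classical.choose hw with hcdef
  have h1 : (x' * x⁻¹) * ((a : G) * u) * (x' * x⁻¹)⁻¹ = (c : G) * u' := by
    rw [← e', ← e]
    group
  have h2 := (parts hD ha hc hu hu' h1).1
  obtain ⟨l, hl, hle⟩ := hD.fusion a ha _ (h2 ▸ hc)
  have h3 : (⟨l, hl⟩ : L) * a * (⟨l, hl⟩ : L)⁻¹ = c := by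
    apply Subtype.ext
    show l * (a : G) * l⁻¹ = c
    rw [hle, h2]
  rw [← h3, hα]

theorem dade_of_not {α : L → ℂ} {g : G} (h : ¬ Sup A L H g) : dadeIsometry A L H α g = 0 := by
  classical
  exact dif_neg h

theorem dade_class [Finite G] (hD : DadeHypothesis A L H) {α : L → ℂ} (hα : IsClassFunction L α) :
    IsClassFunction G (dadeIsometry A L H α) := by
  intro g y
  by_cases hg : Sup A L H g
  · obtain ⟨a, ha, x, u, hu, e⟩ := hg
    rw [dade_eq hD hα ha hu e]
    refine dade_eq hD hα ha (x := x * y⁻¹) hu ?_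
    rw [← e]
    group
  · rw [dade_of_not hg, dade_of_not (fun h => hg ((sup_conj y g).1 h))]

end values

section finsum

theorem finsum_mem_subgroup {G : Type*} [Group G] [Fintype G] (S : Subgroup G) (f : G → ℂ) [DecidablePred (· ∈ S)] :
    ∑ᶠ u ∈ (S : Set G), f u = ∑ u : G, if u ∈ S then f u else 0 := by
  classical
  rw [finsum_mem_def, finsum_eq_sum_of_fintype]
  refine Finset.sum_congr rfl fun u _ => ?_
  by_cases h : u ∈ S
  · rw [Set.indicator_of_mem (by exact h), if_pos h]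
  · rw [Set.indicator_of_notMem (by exact h), if_neg h]

theorem finsum_mem_ite {X R : Type*} [Fintype X] [AddCommMonoid R] (s : Set X) (f : X → R) [DecidablePred (· ∈ s)] :
    ∑ᶠ x ∈ s, f x = ∑ x : X, if x ∈ s then f x else 0 := by
  classical
  rw [finsum_mem_def, finsum_eq_sum_of_fintype]
  refine Finset.sum_congr rfl fun u _ => ?_
  by_cases h : u ∈ s
  · rw [Set.indicator_of_mem h, if_pos h]
  · rw [Set.indicator_of_notMem h, if_neg h]

theorem sum_ite_subgroup {G : Type*} [Group G] [Fintype G] (S : Subgroup G) [DecidablePred (· ∈ S)] (c : ℂ) :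
    ∑ u : G, (if u ∈ S then c else 0) = (Nat.card S : ℂ) * c := by
  classical
  rw [Finset.sum_ite, Finset.sum_const_zero, add_zero, Finset.sum_const, nsmul_eq_mul]
  congr 2
  rw [Nat.card_eq_fintype_card, Fintype.card_subtype]

end finsum

open ComplexConjugate

section inner

variable {G : Type*} [Group G] [Fintype G] {A : Set G} {L : Subgroup G} [Fintype L] {H : G → Subgroup G}

theorem inner_dade_dade (hD : DadeHypothesis A L H) {α β : L → ℂ} (hα : IsClassFunction L α) (hαA : ∀ x : L, (x : G) ∉ A → α x = 0)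
    (hβ : IsClassFunction L β) :
    classInner (dadeIsometry A L H α) (dadeIsometry A L H β) = classInner α β := by
  classical
  set F : G → ℂ := fun g => dadeIsometry A L H α g * conj (dadeIsometry A L H β g) with hFd
  have hF : ∀ g x, F (x * g * x⁻¹) = F g := by
    intro g x
    simp only [hFd, dade_class hD hα g x, dade_class hD hβ g x]
  have h := sum_formula hD F hF
  have h1 : ∑ g : G, (if Sup A L H g then F g else 0) = ∑ g : G, F g := by
    refine Finset.sum_congr rfl fun g _ => ?_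
    by_cases hg : Sup A L H g
    · rw [if_pos hg]
    · rw [if_neg hg, hFd]
      simp only [dade_of_not hg, zero_mul]
  have h2 : ∀ a : L, ∑ u : G, (if (a : G) ∈ A ∧ u ∈ H a then (Nat.card (H a) : ℂ)⁻¹ * F (a * u) else 0) = α a * conj (β a) := by
    intro a
    by_cases ha : (a : G) ∈ A
    · have h3 : ∀ u : G, (if (a : G) ∈ A ∧ u ∈ H a then (Nat.card (H a) : ℂ)⁻¹ * F (a * u) else 0)
          = if u ∈ H a then (Nat.card (H a) : ℂ)⁻¹ * (α a * conj (β a)) else 0 := by
        intro u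
        by_cases hu : u ∈ H a
        · have e : (1 : G) * ((a : G) * u) * 1⁻¹ = a * u := by group
          rw [if_pos ⟨ha, hu⟩, if_pos hu, hFd]
          simp only [dade_eq hD hα ha hu e, dade_eq hD hβ ha hu e]
        · rw [if_neg (fun h => hu h.2), if_neg hu]
      simp only [h3]
      rw [sum_ite_subgroup]
      have h4 : (Nat.card (H a) : ℂ) ≠ 0 := by exact_mod_cast (Nat.card_pos (α := H a)).ne'
      field_simp
    · rw [hαA a ha, zero_mul]
      apply Finset.sum_eq_zero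
      intro u _
      rw [if_neg (fun h => ha h.1)]
  simp only [h2] at h
  rw [h1] at h
  have hG : (Nat.card G : ℂ) ≠ 0 := by exact_mod_cast (Nat.card_pos (α := G)).ne'
  have hL : (Nat.card L : ℂ) ≠ 0 := by exact_mod_cast (Nat.card_pos (α := L)).ne'
  unfold classInner
  field_simp
  linear_combination h

theorem inner_dade_class (hD : DadeHypothesis A L H) {α : L → ℂ} (hα : IsClassFunction L α) (hαA : ∀ x : L, (x : G) ∉ A → α x = 0)
    (χ : G → ℂ) (ψ : L → ℂ) (hχ : IsClassFunction G χ)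
    (hψ : ∀ a : L, (a : G) ∈ A → ψ a = (Nat.card (H a) : ℂ)⁻¹ * ∑ᶠ u ∈ (H a : Set G), χ (a * u)) :
    classInner (dadeIsometry A L H α) χ = classInner α ψ := by
  classical
  set F : G → ℂ := fun g => dadeIsometry A L H α g * conj (χ g) with hFd
  have hF : ∀ g x, F (x * g * x⁻¹) = F g := by
    intro g x
    simp only [hFd, dade_class hD hα g x, hχ g x]
  have h := sum_formula hD F hF
  have h1 : ∑ g : G, (if Sup A L H g then F g else 0) = ∑ g : G, F g := by
    refine Finset.sum_congr rfl fun g _ => ?_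
    by_cases hg : Sup A L H g
    · rw [if_pos hg]
    · rw [if_neg hg, hFd]
      simp only [dade_of_not hg, zero_mul]
  have h2 : ∀ a : L, ∑ u : G, (if (a : G) ∈ A ∧ u ∈ H a then (Nat.card (H a) : ℂ)⁻¹ * F (a * u) else 0) = α a * conj (ψ a) := by
    intro a
    by_cases ha : (a : G) ∈ A
    · have h3 : ∀ u : G, (if (a : G) ∈ A ∧ u ∈ H a then (Nat.card (H a) : ℂ)⁻¹ * F (a * u) else 0)
          = (Nat.card (H a) : ℂ)⁻¹ * α a * conj (if u ∈ H a then χ (a * u) else 0) := by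
        intro u
        by_cases hu : u ∈ H a
        · have e : (1 : G) * ((a : G) * u) * 1⁻¹ = a * u := by group
          rw [if_pos ⟨ha, hu⟩, if_pos hu, hFd]
          simp only [dade_eq hD hα ha hu e]
          ring
        · rw [if_neg (fun h => hu h.2), if_neg hu, map_zero, mul_zero]
      simp only [h3]
      rw [← Finset.mul_sum, ← map_sum, hψ a ha, finsum_mem_subgroup, map_mul, map_inv₀, Complex.conj_natCast]
      have h4 : (Nat.card (H a) : ℂ) ≠ 0 := by exact_mod_cast (Nat.card_pos (α := H a)).ne'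
      ring
    · rw [hαA a ha, zero_mul]
      apply Finset.sum_eq_zero
      intro u _
      rw [if_neg (fun h => ha h.1)]
  simp only [h2] at h
  rw [h1] at h
  have hG : (Nat.card G : ℂ) ≠ 0 := by exact_mod_cast (Nat.card_pos (α := G)).ne'
  have hL : (Nat.card L : ℂ) ≠ 0 := by exact_mod_cast (Nat.card_pos (α := L)).ne'
  unfold classInner
  field_simp
  linear_combination h

theorem mean_bound (S : Subgroup G) (f : G → ℂ) :
    ‖(Nat.card S : ℂ)⁻¹ * ∑ᶠ u ∈ (S : Set G), f u‖ ^ 2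
      ≤ (Nat.card S : ℝ)⁻¹ * ∑ᶠ u ∈ (S : Set G), ‖f u‖ ^ 2 := by
  classical
  rw [finsum_mem_subgroup, finsum_mem_ite (S : Set G) (fun u => ‖f u‖ ^ 2)]
  have hn : (0 : ℝ) < (Nat.card S : ℝ) := by exact_mod_cast (Nat.card_pos (α := S))
  set U : Finset G := Finset.univ.filter (fun u => u ∈ S) with hU
  have hcard : U.card = Nat.card S := by
    rw [Nat.card_eq_fintype_card, Fintype.card_subtype]
  have e1 : ∑ u : G, (if u ∈ S then f u else 0) = ∑ u ∈ U, f u := by
    rw [hU, Finset.sum_filter]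
  have e2 : ∑ u : G, (if u ∈ (S : Set G) then ‖f u‖ ^ 2 else 0) = ∑ u ∈ U, ‖f u‖ ^ 2 := by
    rw [hU, Finset.sum_filter]
    refine Finset.sum_congr rfl fun u _ => ?_
    by_cases h : u ∈ S
    · rw [if_pos (by exact h), if_pos h]
    · rw [if_neg (by exact h), if_neg h]
  rw [e1, e2, norm_mul, norm_inv, Complex.norm_natCast, mul_pow]
  have h1 : ‖∑ u ∈ U, f u‖ ≤ ∑ u ∈ U, ‖f u‖ := norm_sum_le _ _
  have h2 : (∑ u ∈ U, ‖f u‖) ^ 2 ≤ U.card * ∑ u ∈ U, ‖f u‖ ^ 2 := sq_sum_le_card_mul_sum_sq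
  have h3 : ‖∑ u ∈ U, f u‖ ^ 2 ≤ (Nat.card S : ℝ) * ∑ u ∈ U, ‖f u‖ ^ 2 := by
    calc ‖∑ u ∈ U, f u‖ ^ 2 ≤ (∑ u ∈ U, ‖f u‖) ^ 2 := by
          exact pow_le_pow_left₀ (norm_nonneg _) h1 2
      _ ≤ _ := by rw [← hcard]; exact h2
  calc ((Nat.card S : ℝ)⁻¹) ^ 2 * ‖∑ u ∈ U, f u‖ ^ 2
      ≤ ((Nat.card S : ℝ)⁻¹) ^ 2 * ((Nat.card S : ℝ) * ∑ u ∈ U, ‖f u‖ ^ 2) := by
        exact mul_le_mul_of_nonneg_left h3 (by positivity)
    _ = _ := by field_simp

theorem energy_bound (hD : DadeHypothesis A L H) (χ : G → ℂ) (hχ : IsClassFunction G χ) (ψ : L → ℂ)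
    (hψ : ∀ a : L, (a : G) ∈ A → ψ a = (Nat.card (H a) : ℂ)⁻¹ * ∑ᶠ u ∈ (H a : Set G), χ (a * u)) :
    (Nat.card L : ℝ)⁻¹ * ∑ᶠ a ∈ {a : L | (a : G) ∈ A}, ‖ψ a‖ ^ 2
      ≤ (Nat.card G : ℝ)⁻¹ * ∑ᶠ g ∈ {g : G | ∃ a ∈ A, ∃ u ∈ H a, ∃ x : G, x * g * x⁻¹ = a * u}, ‖χ g‖ ^ 2 := by
  classical
  have hset : {g : G | ∃ a ∈ A, ∃ u ∈ H a, ∃ x : G, x * g * x⁻¹ = a * u} = {g | Sup A L H g} := by
    ext g
    constructor
    · rintro ⟨a, ha, u, hu, x, e⟩
      exact ⟨⟨a, hD.subset ha⟩, ha, x, u, hu, e⟩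
    · rintro ⟨a, ha, x, u, hu, e⟩
      exact ⟨a, ha, u, hu, x, e⟩
  rw [hset, finsum_mem_ite, finsum_mem_ite]
  set F : G → ℝ := fun g => ‖χ g‖ ^ 2 with hFd
  have hF : ∀ g x, F (x * g * x⁻¹) = F g := by
    intro g x
    simp only [hFd, hχ g x]
  have h := sum_formula hD F hF
  have h1 : ∀ a : L, (if a ∈ {a : L | (a : G) ∈ A} then ‖ψ a‖ ^ 2 else 0)
      ≤ ∑ u : G, (if (a : G) ∈ A ∧ u ∈ H a then (Nat.card (H a) : ℝ)⁻¹ * F (a * u) else 0) := by
    intro a
    by_cases ha : (a : G) ∈ A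
    · rw [if_pos (by exact ha), hψ a ha]
      refine (mean_bound (H a) (fun u => χ (a * u))).trans (le_of_eq ?_)
      rw [finsum_mem_ite (H a : Set G) (fun u => ‖χ (a * u)‖ ^ 2), Finset.mul_sum]
      refine Finset.sum_congr rfl fun u _ => ?_
      by_cases hu : u ∈ H a
      · rw [if_pos (by exact hu), if_pos ⟨ha, hu⟩]
      · rw [if_neg (by exact hu), if_neg (fun h => hu h.2), mul_zero]
    · rw [if_neg (by exact ha)]
      apply Finset.sum_nonneg
      intro u _
      rw [if_neg (fun h => ha h.1)]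
  have h2 := Finset.sum_le_sum (fun a (_ : a ∈ (Finset.univ : Finset L)) => h1 a)
  have hG : (0 : ℝ) < (Nat.card G : ℝ) := by exact_mod_cast (Nat.card_pos (α := G))
  have hL : (0 : ℝ) < (Nat.card L : ℝ) := by exact_mod_cast (Nat.card_pos (α := L))
  refine (mul_le_mul_of_nonneg_left h2 (by positivity)).trans (le_of_eq ?_)
  have h3 : ∑ x : G, (if x ∈ {g | Sup A L H g} then ‖χ x‖ ^ 2 else 0) = ∑ g : G, if Sup A L H g then F g else 0 := by
    refine Finset.sum_congr rfl fun g _ => ?_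
    by_cases hg : Sup A L H g
    · rw [if_pos hg, if_pos (by exact hg)]
    · rw [if_neg hg, if_neg (by exact hg)]
  rw [h3]
  generalize (∑ g : G, if Sup A L H g then F g else 0) = S at h
  generalize (∑ a : L, ∑ u : G, (if (a : G) ∈ A ∧ u ∈ H a then (Nat.card (H a) : ℝ)⁻¹ * F (a * u) else 0)) = T at h
  have hG' := hG.ne'
  have hL' := hL.ne'
  field_simp
  linarith [h]

end inner

end Cfsg.Agent.Lib.DadeIso
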