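import Mathlib
import Cfsg.Prelude
import Cfsg.Agent.Lib.H2Basic
import Cfsg.Agent.Lib.DadeIso
import Cfsg.Agent.Lib.SchurZ
import Cfsg.Agent.Lib.SchurZ2
import Cfsg.Agent.Lib.CharGen
import Cfsg.Agent.Lib.BrauerThm
import Cfsg.Agent.Lib.ThompsonFpf
import Cfsg.Agent.Lib.PNilp
import Cfsg.Agent.Lib.CharIso

/-! The image of a generalized character under the Dade map is a generalized character. -/

set_option autoImplicit false
set_option linter.all false

namespace Cfsg.Agent.Lib.DadeGen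

open Cfsg Cfsg.Agent.Lib.H2Basic

universe u

section points

variable {G : Type u} [Group G] [Finite G] {A : Set G} {L : Subgroup G} {H : G → Subgroup G}

/-- Elements of order prime to every `|C_L(b)|`, `b ∈ A`. -/
def Rho (A : Set G) (L : Subgroup G) (w : G) : Prop :=
  ∀ b ∈ A, Nat.Coprime (orderOf w) (Nat.card ↥(L ⊓ Subgroup.centralizer ({b} : Set G)))

omit [Finite G] in
theorem rho_conj {w : G} (h : Rho A L w) (g : G) : Rho A L (g * w * g⁻¹) := by
  intro b hb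
  have h1 : orderOf (g * w * g⁻¹) = orderOf w :=
    orderOf_injective (MulAut.conj g).toMonoidHom (MulAut.conj g).injective w
  rw [h1]
  exact h b hb

theorem rho_of_mem (hD : DadeHypothesis A L H) {a u : G} (ha : a ∈ A) (hu : u ∈ H a) : Rho A L u := by
  intro b hb
  exact Nat.Coprime.coprime_dvd_left (Subgroup.orderOf_dvd_natCard _ hu) (hD.coprime a ha b hb)

theorem inf_le_norm (hD : DadeHypothesis A L H) {a : G} (ha : a ∈ A) :
    (L ⊓ Subgroup.centralizer ({a} : Set G) : Subgroup G) ≤ Subgroup.normalizer (H a : Set G) := by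
  intro c hc
  apply mem_normalizer_of_conj_le
  intro u hu
  exact hD.conj_mem_H a ha c hc.2 u hu

theorem exists_mul_of_comm (hD : DadeHypothesis A L H) {a w : G} (ha : a ∈ A) (hc : w * a = a * w) :
    ∃ c ∈ (L ⊓ Subgroup.centralizer ({a} : Set G) : Subgroup G), ∃ h ∈ H a, w = c * h := by
  have h1 : w ∈ Subgroup.centralizer ({a} : Set G) := Subgroup.mem_centralizer_singleton_iff.2 hc
  rw [← hD.sup_eq a ha, sup_comm] at h1
  have h2 : w ∈ ((L ⊓ Subgroup.centralizer ({a} : Set G) ⊔ H a : Subgroup G) : Set G) := h1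
  rw [Subgroup.coe_mul_of_left_le_normalizer_right _ _ (inf_le_norm hD ha)] at h2
  obtain ⟨c, hc, h, hh, e⟩ := Set.mem_mul.1 h2
  exact ⟨c, hc, h, hh, e.symm⟩

theorem mem_H_of_rho (hD : DadeHypothesis A L H) {a w : G} (ha : a ∈ A) (hc : w * a = a * w)
    (hr : Rho A L w) : w ∈ H a := by
  obtain ⟨c, hcC, h, hh, rfl⟩ := exists_mul_of_comm hD ha hc
  have hcc : c ∈ Subgroup.centralizer ({a} : Set G) := hcC.2
  have hpow : ∀ n : ℕ, ∃ h' ∈ H a, (c * h) ^ n = c ^ n * h' := by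
    intro n
    induction n with
    | zero => exact ⟨1, (H a).one_mem, by simp⟩
    | succ n ih =>
      obtain ⟨h', hh', e⟩ := ih
      refine ⟨(c⁻¹ * h' * c⁻¹⁻¹) * h, (H a).mul_mem (hD.conj_mem_H a ha c⁻¹ (Subgroup.inv_mem _ hcc) h' hh') hh, ?_⟩
      rw [pow_succ, e, pow_succ]
      group
  obtain ⟨h', hh', e⟩ := hpow (orderOf (c * h))
  rw [pow_orderOf_eq_one] at e
  have h1 : c ^ orderOf (c * h) = h'⁻¹ := by
    rw [eq_inv_iff_mul_eq_one]
    exact e.symm
  have h2 : c ^ orderOf (c * h) ∈ H a ⊓ (L ⊓ Subgroup.centralizer ({a} : Set G)) :=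
    ⟨h1 ▸ (H a).inv_mem hh', Subgroup.pow_mem _ hcC _⟩
  rw [hD.inf_eq_bot a ha, Subgroup.mem_bot] at h2
  have h3 : orderOf c ∣ orderOf (c * h) := orderOf_dvd_of_pow_eq_one h2
  have h4 : orderOf c ∣ Nat.card ↥(L ⊓ Subgroup.centralizer ({a} : Set G)) :=
    Subgroup.orderOf_dvd_natCard _ hcC
  have h5 : orderOf c = 1 := Nat.eq_one_of_dvd_coprimes (hr a ha) h3 h4
  rw [orderOf_eq_one_iff] at h5
  rw [h5, one_mul]
  exact hh

/-- The conjugate of `L` by `x`. -/
def Lx (L : Subgroup G) (x : G) : Subgroup G := L.map (MulAut.conj x).toMonoidHom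

omit [Finite G] in
theorem mem_Lx {x g : G} : g ∈ Lx L x ↔ x⁻¹ * g * x ∈ L := mem_map_conj_iff L x g

/-- The conjugate of `H (x⁻¹ e x)` by `x`: in fact independent of `x`. -/
def Hx (H : G → Subgroup G) (x e : G) : Subgroup G :=
  (H (x⁻¹ * e * x)).map (MulAut.conj x).toMonoidHom

omit [Finite G] in
theorem mem_Hx {x e h : G} : h ∈ Hx H x e ↔ x⁻¹ * h * x ∈ H (x⁻¹ * e * x) := mem_map_conj_iff _ x h

theorem mem_Hx_iff (hD : DadeHypothesis A L H) {x e h : G} (hx : x⁻¹ * e * x ∈ A) :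
    h ∈ Hx H x e ↔ (h * e = e * h) ∧ Rho A L h := by
  rw [mem_Hx]
  constructor
  · intro hu
    have h1 := Subgroup.mem_centralizer_singleton_iff.1 (hD.le_centralizer _ hx hu)
    constructor
    · have h2 : x⁻¹ * (h * e) * x = x⁻¹ * (e * h) * x := by
        calc x⁻¹ * (h * e) * x = (x⁻¹ * h * x) * (x⁻¹ * e * x) := by group
          _ = (x⁻¹ * e * x) * (x⁻¹ * h * x) := h1
          _ = x⁻¹ * (e * h) * x := by group
      exact mul_left_cancel (mul_right_cancel h2)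
    · have h3 := rho_conj (rho_of_mem hD hx hu) x
      have h4 : x * (x⁻¹ * h * x) * x⁻¹ = h := by group
      rwa [h4] at h3
  · rintro ⟨h1, h2⟩
    apply mem_H_of_rho hD hx
    · calc (x⁻¹ * h * x) * (x⁻¹ * e * x) = x⁻¹ * (h * e) * x := by group
        _ = x⁻¹ * (e * h) * x := by rw [h1]
        _ = (x⁻¹ * e * x) * (x⁻¹ * h * x) := by group
    · have h3 := rho_conj h2 x⁻¹
      have h4 : x⁻¹ * h * x⁻¹⁻¹ = x⁻¹ * h * x := by group
      rwa [h4] at h3

theorem coset_of_two (hD : DadeHypothesis A L H) {x y e : G} (hx : x⁻¹ * e * x ∈ A) (hy : y⁻¹ * e * y ∈ A) :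
    ∃ h ∈ Hx H x e, (h * x)⁻¹ * y ∈ L := by
  set a := x⁻¹ * e * x with ha
  have h1 : (y⁻¹ * x) * a * (y⁻¹ * x)⁻¹ = y⁻¹ * e * y := by
    rw [ha]
    group
  obtain ⟨l, hl, hle⟩ := hD.fusion a hx (y⁻¹ * x) (h1 ▸ hy)
  have hw : (x⁻¹ * y * l) * a = a * (x⁻¹ * y * l) := by
    calc (x⁻¹ * y * l) * a = (x⁻¹ * y) * (l * a * l⁻¹) * l := by group
      _ = (x⁻¹ * y) * ((y⁻¹ * x) * a * (y⁻¹ * x)⁻¹) * l := by rw [hle]
      _ = a * (x⁻¹ * y * l) := by group
  obtain ⟨c, hc, u, hu, e1⟩ := exists_mul_of_comm hD hx hw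
  have hcu : c * u * c⁻¹ ∈ H a := hD.conj_mem_H a hx c hc.2 u hu
  refine ⟨x * (c * u * c⁻¹) * x⁻¹, ?_, ?_⟩
  · rw [mem_Hx]
    have : x⁻¹ * (x * (c * u * c⁻¹) * x⁻¹) * x = c * u * c⁻¹ := by group
    rw [this]
    exact hcu
  · have h2 : x⁻¹ * y = c * u * l⁻¹ := by
      rw [← e1]
      group
    have h3 : (x * (c * u * c⁻¹) * x⁻¹ * x)⁻¹ * y = (c * u * c⁻¹)⁻¹ * (x⁻¹ * y) := by group
    rw [h3, h2]
    have h4 : (c * u * c⁻¹)⁻¹ * (c * u * l⁻¹) = c * l⁻¹ := by group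
    rw [h4]
    exact L.mul_mem hc.1 (L.inv_mem hl)

theorem eq_one_of_mem_Hx (hD : DadeHypothesis A L H) {x e h : G} (hx : x⁻¹ * e * x ∈ A) (hh : h ∈ Hx H x e)
    (hL : x⁻¹ * h * x ∈ L) : h = 1 := by
  rw [mem_Hx] at hh
  have h1 : x⁻¹ * h * x ∈ H (x⁻¹ * e * x) ⊓ (L ⊓ Subgroup.centralizer ({x⁻¹ * e * x} : Set G)) :=
    ⟨hh, hL, hD.le_centralizer _ hx hh⟩
  rw [hD.inf_eq_bot _ hx, Subgroup.mem_bot] at h1
  have h2 : h = x * (x⁻¹ * h * x) * x⁻¹ := by group
  rw [h2, h1]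
  group

theorem exists_norm_step {F D : Subgroup G} (hn : Group.IsNilpotent F) (hlt : D < F) :
    ∃ t ∈ F, t ∉ D ∧ ∀ y ∈ D, t * y * t⁻¹ ∈ D := by
  have h1 : D.subgroupOf F < ⊤ := by
    rw [lt_top_iff_ne_top]
    intro h
    have h2 : F ≤ D := Subgroup.subgroupOf_eq_top.1 h
    exact absurd h2 (not_le_of_gt hlt)
  have h2 := normalizerCondition_of_isNilpotent _ h1
  obtain ⟨t, ht, hnt⟩ := SetLike.exists_of_lt h2
  refine ⟨t, t.2, ?_, ?_⟩
  · intro h
    exact hnt (Subgroup.mem_subgroupOf.2 h)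
  · intro y hy
    have hy' : (⟨y, hlt.le hy⟩ : F) ∈ D.subgroupOf F := Subgroup.mem_subgroupOf.2 hy
    have h3 := (Subgroup.mem_normalizer_iff.1 ht _).1 hy'
    exact Subgroup.mem_subgroupOf.1 h3

/-- A key fact: two conjugates of `L` containing a nilpotent group with a common element of `A`
differ by an element centralizing that group. -/
theorem centralizes (hD : DadeHypothesis A L H) {F : Subgroup G} (hn : Group.IsNilpotent F) {x e h : G}
    (heF : e ∈ F) (hx : x⁻¹ * e * x ∈ A) (hh : h ∈ Hx H x e) (h1 : F ≤ Lx L x) (h2 : F ≤ Lx L (h * x)) :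
    ∀ t ∈ F, t * h = h * t := by
  obtain ⟨hce, hr⟩ := (mem_Hx_iff hD hx).1 hh
  set F₁ : Subgroup G := F ⊓ Subgroup.centralizer ({h} : Set G) with hF₁
  have hle : F₁ ≤ F := inf_le_left
  by_cases heq : F₁ = F
  · intro t ht
    have : t ∈ F₁ := heq ▸ ht
    exact Subgroup.mem_centralizer_singleton_iff.1 this.2
  · exfalso
    obtain ⟨t, htF, htn, hty⟩ := exists_norm_step hn (lt_of_le_of_ne hle heq)
    have htN : t ∈ Subgroup.normalizer (F₁ : Set G) := mem_normalizer_of_conj_le hty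
    have htN' : t⁻¹ ∈ Subgroup.normalizer (F₁ : Set G) := Subgroup.inv_mem _ htN
    have heF₁ : e ∈ F₁ := ⟨heF, Subgroup.mem_centralizer_singleton_iff.2 hce.symm⟩
    have h3 : t⁻¹ * e * t⁻¹⁻¹ ∈ F₁ := (Subgroup.mem_normalizer_iff.1 htN' e).1 heF₁
    have h4 := Subgroup.mem_centralizer_singleton_iff.1 h3.2
    have h5 : (t * h * t⁻¹) * e = e * (t * h * t⁻¹) := by
      have h6 : t⁻¹ * e * t⁻¹⁻¹ * h = h * (t⁻¹ * e * t⁻¹⁻¹) := h4
      calc (t * h * t⁻¹) * e = t * (h * (t⁻¹ * e * t⁻¹⁻¹)) * t⁻¹ := by group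
        _ = t * (t⁻¹ * e * t⁻¹⁻¹ * h) * t⁻¹ := by rw [h6]
        _ = e * (t * h * t⁻¹) := by group
    have hh' : t * h * t⁻¹ ∈ Hx H x e := (mem_Hx_iff hD hx).2 ⟨h5, rho_conj hr t⟩
    have h7 : h⁻¹ * (t * h * t⁻¹) ∈ Hx H x e := Subgroup.mul_mem _ (Subgroup.inv_mem _ hh) hh'
    have h8 : x⁻¹ * (h⁻¹ * (t * h * t⁻¹)) * x ∈ L := by
      have h9 := mem_Lx.1 (h2 htF)
      have h10 := mem_Lx.1 (h1 htF)
      have h11 : x⁻¹ * (h⁻¹ * (t * h * t⁻¹)) * x = ((h * x)⁻¹ * t * (h * x)) * (x⁻¹ * t * x)⁻¹ := by group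
      rw [h11]
      exact L.mul_mem h9 (L.inv_mem h10)
    have h12 := eq_one_of_mem_Hx hD hx h7 h8
    have h13 : t * h = h * t := by
      have h14 : t * h * t⁻¹ = h := by
        rw [inv_mul_eq_one] at h12
        exact h12.symm
      calc t * h = t * h * t⁻¹ * t := by group
        _ = h * t := by rw [h14]
    exact htn ⟨htF, Subgroup.mem_centralizer_singleton_iff.2 h13⟩

end points

section fixed

variable {G : Type u} [Group G] [Finite G] {A : Set G} {L : Subgroup G} {H : G → Subgroup G}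

theorem nil_of_le {E D : Subgroup G} (h : D ≤ E) (hn : Group.IsNilpotent E) : Group.IsNilpotent D := by
  haveI := hn
  exact nilpotent_of_mulEquiv (Subgroup.subgroupOfEquivOfLe h)

theorem Y_conj (hD : DadeHypothesis A L H) {D : Subgroup G} {x e : G} (heD : e ∈ D)
    (hx : x⁻¹ * e * x ∈ A) {y w : G} (hy : y ∈ Hx H x e ⊓ Subgroup.centralizer (D : Set G))
    (hw : w ∈ Subgroup.normalizer (D : Set G)) :
    w * y * w⁻¹ ∈ Hx H x e ⊓ Subgroup.centralizer (D : Set G) := by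
  have hyC : y ∈ Subgroup.centralizer (D : Set G) := hy.2
  have h1 : w * y * w⁻¹ ∈ Subgroup.centralizer (D : Set G) := by
    rw [Subgroup.mem_centralizer_iff]
    intro d hd
    have hd' : w⁻¹ * d * w⁻¹⁻¹ ∈ D := (Subgroup.mem_normalizer_iff.1 (Subgroup.inv_mem _ hw) d).1 hd
    have h2 := Subgroup.mem_centralizer_iff.1 hyC _ hd'
    calc d * (w * y * w⁻¹) = w * ((w⁻¹ * d * w⁻¹⁻¹) * y) * w⁻¹ := by group
      _ = w * (y * (w⁻¹ * d * w⁻¹⁻¹)) * w⁻¹ := by rw [h2]
      _ = (w * y * w⁻¹) * d := by group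
  refine ⟨?_, h1⟩
  obtain ⟨h3, h4⟩ := (mem_Hx_iff hD hx).1 hy.1
  exact (mem_Hx_iff hD hx).2 ⟨(Subgroup.mem_centralizer_iff.1 h1 e heD).symm, rho_conj h4 w⟩

theorem fixed_point (hD : DadeHypothesis A L H) {E D : Subgroup G} (hn : Group.IsNilpotent E)
    (hE : ∀ b ∈ A, Nat.Coprime (Nat.card E) (Nat.card (H b))) {x e : G} (heD : e ∈ D)
    (hx : x⁻¹ * e * x ∈ A) :
    ∃ n ∈ Hx H x e ⊓ Subgroup.centralizer (D : Set G),
      ∀ w ∈ E, w ∈ Subgroup.normalizer (D : Set G) →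
        (∃ c ∈ Hx H x e ⊓ Subgroup.centralizer (D : Set G), c * w ∈ Lx L x) → w ∈ Lx L (n * x) := by
  classical
  set Y : Subgroup G := Hx H x e ⊓ Subgroup.centralizer (D : Set G) with hY
  have hYc : ∀ y ∈ Y, ∀ w ∈ Subgroup.normalizer (D : Set G), w * y * w⁻¹ ∈ Y :=
    fun y hy w hw => Y_conj hD heD hx hy hw
  let Q : Subgroup G :=
    { carrier := {w | w ∈ E ∧ w ∈ Subgroup.normalizer (D : Set G) ∧ ∃ c ∈ Y, c * w ∈ Lx L x}
      mul_mem' := by
        rintro a b ⟨ha, hna, c, hc, hcL⟩ ⟨hb, hnb, d, hd, hdL⟩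
        refine ⟨E.mul_mem ha hb, Subgroup.mul_mem _ hna hnb, c * (a * d * a⁻¹), Y.mul_mem hc (hYc d hd a hna), ?_⟩
        have : c * (a * d * a⁻¹) * (a * b) = (c * a) * (d * b) := by group
        rw [this]
        exact Subgroup.mul_mem _ hcL hdL
      one_mem' := ⟨E.one_mem, Subgroup.one_mem _, 1, Y.one_mem, by
        rw [mul_one]
        exact (Lx L x).one_mem⟩
      inv_mem' := by
        rintro a ⟨ha, hna, c, hc, hcL⟩
        refine ⟨E.inv_mem ha, Subgroup.inv_mem _ hna, a⁻¹ * c⁻¹ * a⁻¹⁻¹,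
          hYc _ (Y.inv_mem hc) _ (Subgroup.inv_mem _ hna), ?_⟩
        have : a⁻¹ * c⁻¹ * a⁻¹⁻¹ * a⁻¹ = (c * a)⁻¹ := by group
        rw [this]
        exact Subgroup.inv_mem _ hcL }
  have hQE : Q ≤ E := fun w hw => hw.1
  have hQN : Q ≤ Subgroup.normalizer (Y : Set G) := by
    intro w hw
    apply mem_normalizer_of_conj_le
    intro y hy
    exact hYc y hy w hw.2.1
  have hcop : Nat.Coprime (Nat.card Y) (Nat.card Q) := by
    have h1 : Nat.card Y ∣ Nat.card (Hx H x e) := Subgroup.card_dvd_of_le inf_le_left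
    have h2 : Nat.card (Hx H x e) = Nat.card (H (x⁻¹ * e * x)) := card_map_conj _ _
    have h3 : Nat.card Q ∣ Nat.card E := Subgroup.card_dvd_of_le hQE
    have h4 := hE _ hx
    rw [h2] at h1
    exact Nat.Coprime.coprime_dvd_left h1 (Nat.Coprime.coprime_dvd_right h3 h4.symm)
  set B : Subgroup G := (Y ⊔ Q) ⊓ Lx L x with hB
  have hTN : Y ⊔ Q ≤ Subgroup.normalizer (Y : Set G) := sup_le Subgroup.le_normalizer hQN
  have hBN : B ≤ Subgroup.normalizer (Y : Set G) := inf_le_left.trans hTN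
  have hYB : Y ⊓ B = ⊥ := by
    rw [eq_bot_iff]
    rintro c ⟨hc1, _, hc3⟩
    rw [Subgroup.mem_bot]
    exact eq_one_of_mem_Hx hD hx hc1.1 (mem_Lx.1 hc3)
  have hsup : Y ⊔ B = Y ⊔ Q := by
    apply le_antisymm
    · exact sup_le le_sup_left (inf_le_left)
    · refine sup_le le_sup_left ?_
      intro w hw
      obtain ⟨c, hc, hcw⟩ := hw.2.2
      have h1 : c * w ∈ B := ⟨Subgroup.mul_mem _ ((le_sup_left : Y ≤ Y ⊔ Q) hc) ((le_sup_right : Q ≤ Y ⊔ Q) hw), hcw⟩
      have h2 : w = c⁻¹ * (c * w) := by group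
      rw [h2]
      exact Subgroup.mul_mem _ ((le_sup_left : Y ≤ Y ⊔ B) (Y.inv_mem hc)) ((le_sup_right : B ≤ Y ⊔ B) h1)
  have hc1 := Cfsg.Agent.Lib.SchurZ2.card_sup_mul_card_inf Y Q hQN
  have hc2 := Cfsg.Agent.Lib.SchurZ2.card_sup_mul_card_inf Y B hBN
  rw [Cfsg.Agent.Lib.SchurZ.inf_eq_bot_of_coprime hcop, Subgroup.card_bot, mul_one] at hc1
  rw [hYB, Subgroup.card_bot, mul_one, hsup, hc1] at hc2
  have hcard : Nat.card B = Nat.card Q := (Nat.eq_of_mul_eq_mul_left Nat.card_pos hc2).symm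
  haveI hQnil : Group.IsNilpotent Q := nil_of_le hQE hn
  obtain ⟨n, hnY, hnQ⟩ := Cfsg.Agent.Lib.SchurZ.sz_conj_ambient Y Q B hQN inf_le_left hcard hcop (Or.inr inferInstance)
  refine ⟨n⁻¹, Y.inv_mem hnY, ?_⟩
  intro w hw hwN hc
  have hwQ : w ∈ Q := ⟨hw, hwN, hc⟩
  have h1 : n * w * n⁻¹ ∈ B := by
    rw [← hnQ]
    exact ⟨w, hwQ, rfl⟩
  have h2 := mem_Lx.1 h1.2
  rw [mem_Lx]
  have h3 : (n⁻¹ * x)⁻¹ * w * (n⁻¹ * x) = x⁻¹ * (n * w * n⁻¹) * x := by group
  rw [h3]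
  exact h2

/-- The stabilizer in `E` of the point `x`. -/
def Sx (E : Subgroup G) (L : Subgroup G) (x : G) : Subgroup G := E ⊓ Lx L x

theorem Lx_eq_of_mem {x y : G} (h : x⁻¹ * y ∈ L) : Lx L x = Lx L y := by
  ext g
  rw [mem_Lx, mem_Lx]
  constructor
  · intro hg
    have h1 : y⁻¹ * g * y = (x⁻¹ * y)⁻¹ * (x⁻¹ * g * x) * (x⁻¹ * y) := by group
    rw [h1]
    exact L.mul_mem (L.mul_mem (L.inv_mem h) hg) h
  · intro hg
    have h1 : x⁻¹ * g * x = (x⁻¹ * y) * (y⁻¹ * g * y) * (x⁻¹ * y)⁻¹ := by group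
    rw [h1]
    exact L.mul_mem (L.mul_mem h hg) (L.inv_mem h)

theorem card_lt_of_lt {D U : Subgroup G} (h : D < U) : Nat.card D < Nat.card U := by
  by_contra hc
  push Not at hc
  exact h.ne (Subgroup.eq_of_le_of_card_ge h.le hc)

theorem directed (hD : DadeHypothesis A L H) {E : Subgroup G} (hn : Group.IsNilpotent E)
    (hE : ∀ b ∈ A, Nat.Coprime (Nat.card E) (Nat.card (H b))) {e : G} (heE : e ∈ E) :
    ∀ (k : ℕ) (x y : G), Nat.card E - Nat.card ↥(Sx E L x ⊓ Sx E L y) = k →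
      x⁻¹ * e * x ∈ A → y⁻¹ * e * y ∈ A →
      ∃ z, z⁻¹ * e * z ∈ A ∧ Sx E L x ≤ Sx E L z ∧ Sx E L y ≤ Sx E L z := by
  intro k
  induction k using Nat.strong_induction_on with
  | _ k ih =>
  intro x y hk hx hy
  set D : Subgroup G := Sx E L x ⊓ Sx E L y with hDdef
  by_cases h1 : D = Sx E L x
  · refine ⟨y, hy, ?_, le_rfl⟩
    rw [← h1]
    exact inf_le_right
  by_cases h2 : D = Sx E L y
  · refine ⟨x, hx, le_rfl, ?_⟩
    rw [← h2]
    exact inf_le_left
  have hDx : D < Sx E L x := lt_of_le_of_ne inf_le_left h1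
  have hDy : D < Sx E L y := lt_of_le_of_ne inf_le_right h2
  have hDE : D ≤ E := inf_le_left.trans inf_le_left
  have hDLx : D ≤ Lx L x := inf_le_left.trans inf_le_right
  have hmemL : ∀ z, z⁻¹ * e * z ∈ A → e ∈ Sx E L z := fun z hz => ⟨heE, mem_Lx.2 (hD.subset hz)⟩
  have heD : e ∈ D := ⟨hmemL x hx, hmemL y hy⟩
  obtain ⟨t₁, ht₁, ht₁D, ht₁N⟩ := exists_norm_step (nil_of_le inf_le_left hn) hDx
  obtain ⟨t₂, ht₂, ht₂D, ht₂N⟩ := exists_norm_step (nil_of_le inf_le_left hn) hDy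
  obtain ⟨h, hh, hl⟩ := coset_of_two hD hx hy
  have hLy : Lx L (h * x) = Lx L y := Lx_eq_of_mem hl
  have hDLy : D ≤ Lx L (h * x) := by
    rw [hLy]
    exact inf_le_right.trans inf_le_right
  have hcent := centralizes hD (nil_of_le hDE hn) heD hx hh hDLx hDLy
  have hhY : h ∈ Hx H x e ⊓ Subgroup.centralizer (D : Set G) :=
    ⟨hh, Subgroup.mem_centralizer_iff.2 hcent⟩
  obtain ⟨n, hnY, hfix⟩ := fixed_point (L := L) hD hn hE heD hx
  have hone : (1 : G) ∈ Hx H x e ⊓ Subgroup.centralizer (D : Set G) := Subgroup.one_mem _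
  have hdfix : ∀ d ∈ D, d ∈ Lx L (n * x) := by
    intro d hd
    refine hfix d (hDE hd) (Subgroup.le_normalizer hd) ⟨1, hone, ?_⟩
    rw [one_mul]
    exact hDLx hd
  have ht₁fix : t₁ ∈ Lx L (n * x) := by
    refine hfix t₁ ht₁.1 (mem_normalizer_of_conj_le ht₁N) ⟨1, hone, ?_⟩
    rw [one_mul]
    exact ht₁.2
  have ht₂fix : t₂ ∈ Lx L (n * x) := by
    have hN : t₂ ∈ Subgroup.normalizer (D : Set G) := mem_normalizer_of_conj_le ht₂N
    refine hfix t₂ ht₂.1 hN ⟨h⁻¹ * (t₂ * h * t₂⁻¹),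
      Subgroup.mul_mem _ (Subgroup.inv_mem _ hhY) (Y_conj hD heD hx hhY hN), ?_⟩
    have h3 : h⁻¹ * (t₂ * h * t₂⁻¹) * t₂ = h⁻¹ * t₂ * h := by group
    rw [h3, mem_Lx]
    have h4 : t₂ ∈ Lx L (h * x) := by
      rw [hLy]
      exact ht₂.2
    have h5 := mem_Lx.1 h4
    have h6 : x⁻¹ * (h⁻¹ * t₂ * h) * x = (h * x)⁻¹ * t₂ * (h * x) := by group
    rw [h6]
    exact h5
  have hne : n * e = e * n := ((mem_Hx_iff hD hx).1 hnY.1).1
  have hz₀ : (n * x)⁻¹ * e * (n * x) ∈ A := by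
    have h3 : (n * x)⁻¹ * e * (n * x) = x⁻¹ * (n⁻¹ * (e * n)) * x := by group
    rw [h3, ← hne]
    have h4 : x⁻¹ * (n⁻¹ * (n * e)) * x = x⁻¹ * e * x := by group
    rw [h4]
    exact hx
  have hDz : D ≤ Sx E L (n * x) := fun d hd => ⟨hDE hd, hdfix d hd⟩
  have hm : ∀ U : Subgroup G, D < U → U ≤ E → Nat.card E - Nat.card U < k := by
    intro U hU hUE
    have h3 := card_lt_of_lt hU
    have h4 : Nat.card U ≤ Nat.card E := Subgroup.card_le_of_le hUE
    omega
  have hlt : ∀ (a b : G) (t : G), D ≤ Sx E L a → D ≤ Sx E L b → t ∈ Sx E L a → t ∈ Sx E L b → t ∉ D →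
      D < Sx E L a ⊓ Sx E L b := by
    intro a b t h3 h4 h5 h6 h7
    refine lt_of_le_of_ne (le_inf h3 h4) ?_
    intro h8
    exact h7 (h8 ▸ ⟨h5, h6⟩)
  have hinfE : ∀ a b : G, Sx E L a ⊓ Sx E L b ≤ E := fun a b => inf_le_left.trans inf_le_left
  obtain ⟨z₁, hz₁, h3, h4⟩ := ih _ (hm _ (hlt x (n * x) t₁ inf_le_left hDz ht₁ ⟨ht₁.1, ht₁fix⟩ ht₁D) (hinfE _ _))
    x (n * x) rfl hx hz₀
  obtain ⟨z₂, hz₂, h5, h6⟩ := ih _ (hm _ (hlt y (n * x) t₂ inf_le_right hDz ht₂ ⟨ht₂.1, ht₂fix⟩ ht₂D) (hinfE _ _))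
    y (n * x) rfl hy hz₀
  obtain ⟨z₃, hz₃, h7, h8⟩ := ih _ (hm _ (hlt z₁ z₂ t₁ (hDz.trans h4) (hDz.trans h6)
      (h4 ⟨ht₁.1, ht₁fix⟩) (h6 ⟨ht₁.1, ht₁fix⟩) ht₁D) (hinfE _ _)) z₁ z₂ rfl hz₁ hz₂
  exact ⟨z₃, hz₃, h3.trans h7, h5.trans h8⟩

/-- `x` is a point with a maximal stabilizer among all points where `e` lies in the conjugate of `A`. -/
def IsTop (E : Subgroup G) (A : Set G) (L : Subgroup G) (x e : G) : Prop :=
  e ∈ E ∧ x⁻¹ * e * x ∈ A ∧ ∀ y, y⁻¹ * e * y ∈ A → Sx E L y ≤ Sx E L x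

theorem exists_top (hD : DadeHypothesis A L H) {E : Subgroup G} (hn : Group.IsNilpotent E)
    (hE : ∀ b ∈ A, Nat.Coprime (Nat.card E) (Nat.card (H b))) {e x : G} (heE : e ∈ E) (hx : x⁻¹ * e * x ∈ A) :
    ∃ z, IsTop E A L z e := by
  classical
  letI := Fintype.ofFinite G
  obtain ⟨z, hz, hmax⟩ := Finset.exists_max_image (Finset.univ.filter (fun y : G => y⁻¹ * e * y ∈ A))
    (fun y => Nat.card (Sx E L y)) ⟨x, by simp [hx]⟩
  simp only [Finset.mem_filter, Finset.mem_univ, true_and] at hz hmax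
  refine ⟨z, heE, hz, ?_⟩
  intro y hy
  obtain ⟨w, hw, h1, h2⟩ := directed hD hn hE heE _ z y rfl hz hy
  have h3 : Sx E L z = Sx E L w := Subgroup.eq_of_le_of_card_ge h1 (hmax w hw)
  rw [h3]
  exact h2

theorem conj_mem_of_coset (hD : DadeHypothesis A L H) {x y f : G} (h : x⁻¹ * y ∈ L) (hf : x⁻¹ * f * x ∈ A) :
    y⁻¹ * f * y ∈ A := by
  have h1 : y⁻¹ * f * y = (x⁻¹ * y)⁻¹ * (x⁻¹ * f * x) * (x⁻¹ * y)⁻¹⁻¹ := by group
  rw [h1]
  exact hD.conj_mem _ (L.inv_mem h) _ hf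

theorem top_of_top (hD : DadeHypothesis A L H) {E : Subgroup G} (hn : Group.IsNilpotent E)
    (hE : ∀ b ∈ A, Nat.Coprime (Nat.card E) (Nat.card (H b))) {x f f' : G} (hT : IsTop E A L x f)
    (hf' : f' ∈ E) (hx : x⁻¹ * f' * x ∈ A) : IsTop E A L x f' := by
  refine ⟨hf', hx, ?_⟩
  intro y hy
  obtain ⟨z, hz, h1, h2⟩ := directed hD hn hE hf' _ x y rfl hx hy
  obtain ⟨h, hh, hl⟩ := coset_of_two hD hx hz
  have hLz : Lx L (h * x) = Lx L z := Lx_eq_of_mem hl
  have hf'S : f' ∈ Sx E L x := ⟨hf', mem_Lx.2 (hD.subset hx)⟩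
  have hcent := centralizes hD (nil_of_le (inf_le_left : Sx E L x ≤ E) hn) hf'S hx hh inf_le_right
    (by rw [hLz]; exact h1.trans inf_le_right)
  have hfS : f ∈ Sx E L x := ⟨hT.1, mem_Lx.2 (hD.subset hT.2.1)⟩
  have hfh := hcent f hfS
  -- `f` lies in the conjugate of `A` at `h * x`, hence at `z`
  have h3 : (h * x)⁻¹ * f * (h * x) ∈ A := by
    have h4 : (h * x)⁻¹ * f * (h * x) = x⁻¹ * (h⁻¹ * (f * h)) * x := by group
    rw [h4, hfh]
    have h5 : x⁻¹ * (h⁻¹ * (h * f)) * x = x⁻¹ * f * x := by group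
    rw [h5]
    exact hT.2.1
  have h6 := conj_mem_of_coset hD hl h3
  exact h2.trans (hT.2.2 z h6)

theorem top_unique (hD : DadeHypothesis A L H) {E : Subgroup G} (hn : Group.IsNilpotent E)
    {x y e : G} (hx : IsTop E A L x e) (hy : IsTop E A L y e) :
    Sx E L x = Sx E L y ∧ ∃ h ∈ Hx H x e, (h * x)⁻¹ * y ∈ L ∧ ∀ t ∈ Sx E L x, t * h = h * t := by
  have h1 : Sx E L x = Sx E L y := le_antisymm (hy.2.2 x hx.2.1) (hx.2.2 y hy.2.1)
  refine ⟨h1, ?_⟩
  obtain ⟨h, hh, hl⟩ := coset_of_two hD hx.2.1 hy.2.1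
  refine ⟨h, hh, hl, ?_⟩
  have hLz : Lx L (h * x) = Lx L y := Lx_eq_of_mem hl
  have heS : e ∈ Sx E L x := ⟨hx.1, mem_Lx.2 (hD.subset hx.2.1)⟩
  exact centralizes hD (nil_of_le (inf_le_left : Sx E L x ≤ E) hn) heS hx.2.1 hh inf_le_right
    (by
      rw [hLz]
      show Sx E L x ≤ _
      rw [h1]
      exact inf_le_right)

/-- Two top points sharing one element share all of them. -/
theorem top_same (hD : DadeHypothesis A L H) {E : Subgroup G} (hn : Group.IsNilpotent E)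
    {x y e : G} (hx : IsTop E A L x e) (hy : IsTop E A L y e) {f : G} (hf : f ∈ E)
    (hfx : x⁻¹ * f * x ∈ A) : y⁻¹ * f * y ∈ A := by
  obtain ⟨h1, h, hh, hl, hc⟩ := top_unique hD hn hx hy
  have hfS : f ∈ Sx E L x := ⟨hf, mem_Lx.2 (hD.subset hfx)⟩
  have hfh := hc f hfS
  have h3 : (h * x)⁻¹ * f * (h * x) ∈ A := by
    have h4 : (h * x)⁻¹ * f * (h * x) = x⁻¹ * (h⁻¹ * (f * h)) * x := by group
    rw [h4, hfh]
    have h5 : x⁻¹ * (h⁻¹ * (h * f)) * x = x⁻¹ * f * x := by group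
    rw [h5]
    exact hfx
  exact conj_mem_of_coset hD hl h3

omit [Finite G] in
theorem top_smul {E : Subgroup G} {x e t : G} (hT : IsTop E A L x e) (ht : t ∈ E) :
    IsTop E A L (t * x) (t * e * t⁻¹) := by
  refine ⟨E.mul_mem (E.mul_mem ht hT.1) (E.inv_mem ht), ?_, ?_⟩
  · have h1 : (t * x)⁻¹ * (t * e * t⁻¹) * (t * x) = x⁻¹ * e * x := by group
    rw [h1]
    exact hT.2.1
  · intro y hy
    have h1 : (t⁻¹ * y)⁻¹ * e * (t⁻¹ * y) = y⁻¹ * (t * e * t⁻¹) * y := by group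
    have h2 := hT.2.2 (t⁻¹ * y) (by rw [h1]; exact hy)
    intro w hw
    have h3 : t⁻¹ * w * t⁻¹⁻¹ ∈ Sx E L (t⁻¹ * y) := by
      refine ⟨E.mul_mem (E.mul_mem (E.inv_mem ht) hw.1) (E.inv_mem (E.inv_mem ht)), mem_Lx.2 ?_⟩
      have h4 : (t⁻¹ * y)⁻¹ * (t⁻¹ * w * t⁻¹⁻¹) * (t⁻¹ * y) = y⁻¹ * w * y := by group
      rw [h4]
      exact mem_Lx.1 hw.2
    have h5 := h2 h3
    refine ⟨hw.1, mem_Lx.2 ?_⟩
    have h6 : (t * x)⁻¹ * w * (t * x) = x⁻¹ * (t⁻¹ * w * t⁻¹⁻¹) * x := by group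
    rw [h6]
    exact mem_Lx.1 h5.2

/-- The stabilizer of a top point is the whole set-stabilizer. -/
theorem stab_of_top (hD : DadeHypothesis A L H) {E : Subgroup G} (hn : Group.IsNilpotent E)
    (hE : ∀ b ∈ A, Nat.Coprime (Nat.card E) (Nat.card (H b))) {x f s : G} (hT : IsTop E A L x f)
    (hs : s ∈ E) (hsx : (s * x)⁻¹ * f * (s * x) ∈ A) : s ∈ Lx L x := by
  have h0 : s⁻¹ * f * s ∈ E := E.mul_mem (E.mul_mem (E.inv_mem hs) hT.1) hs
  have h1 : x⁻¹ * (s⁻¹ * f * s) * x ∈ A := by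
    have h2 : x⁻¹ * (s⁻¹ * f * s) * x = (s * x)⁻¹ * f * (s * x) := by group
    rw [h2]
    exact hsx
  have hT' := top_of_top hD hn hE hT h0 h1
  have hT'' := top_smul hT' hs
  have h3 : s * (s⁻¹ * f * s) * s⁻¹ = f := by group
  rw [h3] at hT''
  obtain ⟨h4, h, hh, hl, hc⟩ := top_unique hD hn hT hT''
  set D := Sx E L x with hDdef
  have hfD : f ∈ D := ⟨hT.1, mem_Lx.2 (hD.subset hT.2.1)⟩
  have hhY : h ∈ Hx H x f ⊓ Subgroup.centralizer (D : Set G) :=
    ⟨hh, Subgroup.mem_centralizer_iff.2 hc⟩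
  obtain ⟨n, hnY, hfix⟩ := fixed_point (L := L) hD hn hE hfD hT.2.1
  have hsN : s ∈ Subgroup.normalizer (D : Set G) := by
    apply mem_normalizer_of_conj_le
    intro d hd
    have h5 : s * d * s⁻¹ ∈ Sx E L (s * x) := by
      refine ⟨E.mul_mem (E.mul_mem hs hd.1) (E.inv_mem hs), mem_Lx.2 ?_⟩
      have h6 : (s * x)⁻¹ * (s * d * s⁻¹) * (s * x) = x⁻¹ * d * x := by group
      rw [h6]
      exact mem_Lx.1 hd.2
    show s * d * s⁻¹ ∈ D
    rw [h4]
    exact h5
  have hsfix : s ∈ Lx L (n * x) := by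
    refine hfix s hs hsN ⟨h⁻¹, Subgroup.inv_mem _ hhY, ?_⟩
    rw [mem_Lx]
    have h6 : x⁻¹ * (h⁻¹ * s) * x = (h * x)⁻¹ * (s * x) := by group
    rw [h6]
    exact hl
  have hne : n * f = f * n := ((mem_Hx_iff hD hT.2.1).1 hnY.1).1
  have hz₀ : (n * x)⁻¹ * f * (n * x) ∈ A := by
    have h7 : (n * x)⁻¹ * f * (n * x) = x⁻¹ * (n⁻¹ * (f * n)) * x := by group
    rw [h7, ← hne]
    have h8 : x⁻¹ * (n⁻¹ * (n * f)) * x = x⁻¹ * f * x := by group
    rw [h8]
    exact hT.2.1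
  exact (hT.2.2 _ hz₀ ⟨hs, hsfix⟩).2

end fixed

section powers

variable {G : Type u} [Group G] [Finite G] {A : Set G} {L : Subgroup G} {H : G → Subgroup G}

theorem exists_powers (hD : DadeHypothesis A L H) {a u : G} (ha : a ∈ A) (hu : u ∈ H a) :
    (∃ t : ℕ, (a * u) ^ t = a) ∧ (∃ s : ℕ, (a * u) ^ s = u) := by
  have hcop : Nat.Coprime (Nat.card ↥(L ⊓ Subgroup.centralizer ({a} : Set G))) (Nat.card (H a)) :=
    (hD.coprime a ha a ha).symm
  have hc : Commute a u := (Subgroup.mem_centralizer_singleton_iff.1 (hD.le_centralizer a ha hu)).symm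
  have h3 : a ∈ L ⊓ Subgroup.centralizer ({a} : Set G) :=
    ⟨hD.subset ha, Subgroup.mem_centralizer_singleton_iff.2 rfl⟩
  have h4 : orderOf a ∣ Nat.card ↥(L ⊓ Subgroup.centralizer ({a} : Set G)) := Subgroup.orderOf_dvd_natCard _ h3
  have h5 : orderOf u ∣ Nat.card (H a) := Subgroup.orderOf_dvd_natCard _ hu
  constructor
  · obtain ⟨t, ht1, ht0⟩ := Nat.chineseRemainder hcop 1 0
    refine ⟨t, ?_⟩
    have h6 : a ^ t = a ^ 1 := (pow_eq_pow_iff_modEq).2 (ht1.of_dvd h4)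
    have h7 : u ^ t = u ^ 0 := (pow_eq_pow_iff_modEq).2 (ht0.of_dvd h5)
    rw [hc.mul_pow, h6, h7, pow_one, pow_zero, mul_one]
  · obtain ⟨t, ht1, ht0⟩ := Nat.chineseRemainder hcop 0 1
    refine ⟨t, ?_⟩
    have h6 : a ^ t = a ^ 0 := (pow_eq_pow_iff_modEq).2 (ht1.of_dvd h4)
    have h7 : u ^ t = u ^ 1 := (pow_eq_pow_iff_modEq).2 (ht0.of_dvd h5)
    rw [hc.mul_pow, h6, h7, pow_one, pow_zero, one_mul]

theorem comm_of_comm_coset (hD : DadeHypothesis A L H) {a u w : G} (ha : a ∈ A) (hu : u ∈ H a)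
    (h : w * (a * u) = (a * u) * w) : w * a = a * w := by
  obtain ⟨⟨t, ht⟩, _⟩ := exists_powers hD ha hu
  have h1 : Commute w (a * u) := h
  have h2 : Commute w ((a * u) ^ t) := h1.pow_right t
  rw [ht] at h2
  exact h2

open Cfsg.Agent.Lib.DadeIso in
theorem dade_mul_rho (hD : DadeHypothesis A L H) {α : L → ℂ} (hα : IsClassFunction L α) {k w : G}
    (hc : k * w = w * k) (hr : Rho A L w) :
    dadeIsometry A L H α (k * w) = dadeIsometry A L H α k := by
  by_cases hs : Sup A L H k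
  · obtain ⟨a, ha, x, u, hu, e⟩ := hs
    have h1 : (x * w * x⁻¹) * ((a : G) * u) = ((a : G) * u) * (x * w * x⁻¹) := by
      rw [← e]
      calc (x * w * x⁻¹) * (x * k * x⁻¹) = x * (w * k) * x⁻¹ := by group
        _ = x * (k * w) * x⁻¹ := by rw [hc]
        _ = (x * k * x⁻¹) * (x * w * x⁻¹) := by group
    have h2 := comm_of_comm_coset hD ha hu h1
    have h3 : x * w * x⁻¹ ∈ H a := mem_H_of_rho hD ha h2 (rho_conj hr x)
    have h4 : x * (k * w) * x⁻¹ = (a : G) * (u * (x * w * x⁻¹)) := by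
      calc x * (k * w) * x⁻¹ = (x * k * x⁻¹) * (x * w * x⁻¹) := by group
        _ = ((a : G) * u) * (x * w * x⁻¹) := by rw [e]
        _ = _ := by group
    rw [dade_eq hD hα ha hu e, dade_eq hD hα ha ((H a).mul_mem hu h3) h4]
  · have hs' : ¬ Sup A L H (k * w) := by
      rintro ⟨a, ha, x, u, hu, e⟩
      have h1 : (x * w * x⁻¹) * ((a : G) * u) = ((a : G) * u) * (x * w * x⁻¹) := by
        rw [← e]
        calc (x * w * x⁻¹) * (x * (k * w) * x⁻¹) = x * (w * k * w) * x⁻¹ := by group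
          _ = x * (k * w * w) * x⁻¹ := by rw [hc]
          _ = (x * (k * w) * x⁻¹) * (x * w * x⁻¹) := by group
      have h2 := comm_of_comm_coset hD ha hu h1
      have h3 : x * w * x⁻¹ ∈ H a := mem_H_of_rho hD ha h2 (rho_conj hr x)
      refine hs ⟨a, ha, x, u * (x * w * x⁻¹)⁻¹, (H a).mul_mem hu ((H a).inv_mem h3), ?_⟩
      have h4 : x * k * x⁻¹ = (x * (k * w) * x⁻¹) * (x * w * x⁻¹)⁻¹ := by group
      rw [h4, e]
      group
    rw [dade_of_not hs, dade_of_not hs']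

theorem exists_proj {N : Type u} [Group N] [Finite N] (K P : Subgroup N) (hK : K.Normal) (hP : P.Normal)
    (hc : K.IsComplement' P) : ∃ p : N →* K, ∀ g, ∃ w ∈ P, g = (p g : N) * w := by
  let φ : K →* N ⧸ P := (QuotientGroup.mk' P).comp K.subtype
  have hinj : Function.Injective φ := by
    rw [injective_iff_map_eq_one]
    intro k hk
    have h1 : (k : N) ∈ P := (QuotientGroup.eq_one_iff _).1 hk
    have h2 : (k : N) ∈ K ⊓ P := ⟨k.2, h1⟩
    rw [hc.disjoint.eq_bot, Subgroup.mem_bot] at h2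
    exact Subtype.ext h2
  have hsurj : Function.Surjective φ := by
    intro q
    obtain ⟨g, rfl⟩ := QuotientGroup.mk_surjective q
    obtain ⟨⟨k, w⟩, e⟩ := hc.2 g
    refine ⟨k, ?_⟩
    show (QuotientGroup.mk (k : N) : N ⧸ P) = QuotientGroup.mk g
    rw [QuotientGroup.eq]
    have e' : (k : N) * (w : N) = g := e
    rw [← e']
    simp
  let e := MulEquiv.ofBijective φ ⟨hinj, hsurj⟩
  refine ⟨e.symm.toMonoidHom.comp (QuotientGroup.mk' P), fun g => ?_⟩
  set k : K := e.symm (QuotientGroup.mk g) with hk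
  have h1 : φ k = QuotientGroup.mk g := e.apply_symm_apply _
  have h2 : (k : N)⁻¹ * g ∈ P := QuotientGroup.eq.1 h1
  refine ⟨(k : N)⁻¹ * g, h2, ?_⟩
  show g = (k : N) * ((k : N)⁻¹ * g)
  group

end powers

section chars

open Cfsg.Agent.Lib.DadeIso Cfsg.Agent.Lib.CharGen Cfsg.Agent.Lib.CharOps

variable {G : Type u} [Group G] [Fintype G] {A : Set G} {L : Subgroup G} {H : G → Subgroup G}

/-- Conjugation from the stabilizer of the point `x` in `E` to `L`. -/
def conjHom (E L : Subgroup G) (x : G) : ↥((Lx L x).subgroupOf E) →* L where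
  toFun w := ⟨x⁻¹ * ((w : E) : G) * x, mem_Lx.1 (Subgroup.mem_subgroupOf.1 w.2)⟩
  map_one' := by
    apply Subtype.ext
    show x⁻¹ * 1 * x = 1
    group
  map_mul' a b := by
    apply Subtype.ext
    show x⁻¹ * (((a : E) : G) * ((b : E) : G)) * x = (x⁻¹ * ((a : E) : G) * x) * (x⁻¹ * ((b : E) : G) * x)
    group

theorem ind_top (hD : DadeHypothesis A L H) {E : Subgroup G} (hn : Group.IsNilpotent E)
    (hE : ∀ b ∈ A, Nat.Coprime (Nat.card E) (Nat.card (H b))) [Fintype E]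
    {α : L → ℂ} (hα : IsClassFunction L α) (hαA : ∀ x : L, (x : G) ∉ A → α x = 0) {x f : G}
    (hT : IsTop E A L x f) (e : E) [Decidable (∃ t : E, ((t : G) * x)⁻¹ * (e : G) * ((t : G) * x) ∈ A)] :
    indFun ((Lx L x).subgroupOf E) (fun w => α (conjHom E L x w)) e =
      if ∃ t : E, ((t : G) * x)⁻¹ * (e : G) * ((t : G) * x) ∈ A then dadeIsometry A L H α e else 0 := by
  classical
  have hterm : ∀ t : E, extendByZero ((Lx L x).subgroupOf E) (fun w => α (conjHom E L x w)) (t⁻¹ * e * t) =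
      if ((t : G) * x)⁻¹ * (e : G) * ((t : G) * x) ∈ A then dadeIsometry A L H α e else 0 := by
    intro t
    have hconj : x⁻¹ * (((t⁻¹ * e * t : E)) : G) * x = ((t : G) * x)⁻¹ * (e : G) * ((t : G) * x) := by
      push_cast
      group
    by_cases hm : t⁻¹ * e * t ∈ (Lx L x).subgroupOf E
    · rw [extendByZero_of_mem ((Lx L x).subgroupOf E) _ hm]
      have hval : conjHom E L x ⟨t⁻¹ * e * t, hm⟩ = ⟨((t : G) * x)⁻¹ * (e : G) * ((t : G) * x), by
          rw [← hconj]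
          exact mem_Lx.1 (Subgroup.mem_subgroupOf.1 hm)⟩ := Subtype.ext hconj
      rw [hval]
      by_cases hA : ((t : G) * x)⁻¹ * (e : G) * ((t : G) * x) ∈ A
      · rw [if_pos hA]
        symm
        refine dade_eq hD hα (a := ⟨_, hD.subset hA⟩) (x := ((t : G) * x)⁻¹) (u := 1) hA (H _).one_mem ?_
        show ((t : G) * x)⁻¹ * (e : G) * ((t : G) * x)⁻¹⁻¹ = ((t : G) * x)⁻¹ * (e : G) * ((t : G) * x) * 1
        group
      · rw [if_neg hA]
        exact hαA _ hA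
    · rw [extendByZero_of_not_mem ((Lx L x).subgroupOf E) _ hm, if_neg]
      intro hA
      apply hm
      rw [Subgroup.mem_subgroupOf, mem_Lx, hconj]
      exact hD.subset hA
  rw [Cfsg.Agent.Lib.CharOps.indFun_apply]
  simp only [hterm]
  by_cases hU : ∃ t : E, ((t : G) * x)⁻¹ * (e : G) * ((t : G) * x) ∈ A
  · rw [if_pos hU]
    obtain ⟨t₀, ht₀⟩ := hU
    rw [Finset.sum_ite, Finset.sum_const_zero, add_zero, Finset.sum_const, nsmul_eq_mul]
    have hcount : (Finset.univ.filter fun t : E => ((t : G) * x)⁻¹ * (e : G) * ((t : G) * x) ∈ A).card = Nat.card ((Lx L x).subgroupOf E) := by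
      letI : Fintype ((Lx L x).subgroupOf E) := Fintype.ofFinite _
      rw [Nat.card_eq_fintype_card, ← Finset.card_univ]
      symm
      refine Finset.card_bij (fun w _ => t₀ * (w : E)) ?_ ?_ ?_
      · intro w _
        simp only [Finset.mem_filter, Finset.mem_univ, true_and]
        have hw : x⁻¹ * (((w : E)) : G) * x ∈ L := mem_Lx.1 (Subgroup.mem_subgroupOf.1 w.2)
        have h1 : (((t₀ * (w : E) : E) : G) * x)⁻¹ * (e : G) * (((t₀ * (w : E) : E) : G) * x) =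
            (x⁻¹ * (((w : E)) : G) * x)⁻¹ * (((t₀ : G) * x)⁻¹ * (e : G) * ((t₀ : G) * x)) * (x⁻¹ * (((w : E)) : G) * x)⁻¹⁻¹ := by
          push_cast
          group
        rw [h1]
        exact hD.conj_mem _ (L.inv_mem hw) _ ht₀
      · intro a _ b _ hab
        exact Subtype.ext (mul_left_cancel hab)
      · intro t ht
        simp only [Finset.mem_filter, Finset.mem_univ, true_and] at ht
        have h0 : (t₀ : G)⁻¹ * (e : G) * (t₀ : G) ∈ E := E.mul_mem (E.mul_mem (E.inv_mem t₀.2) e.2) t₀.2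
        have h1 : x⁻¹ * ((t₀ : G)⁻¹ * (e : G) * (t₀ : G)) * x ∈ A := by
          have h2 : x⁻¹ * ((t₀ : G)⁻¹ * (e : G) * (t₀ : G)) * x = ((t₀ : G) * x)⁻¹ * (e : G) * ((t₀ : G) * x) := by group
          rw [h2]
          exact ht₀
        have hT' := top_of_top hD hn hE hT h0 h1
        have hs : (t₀ : G)⁻¹ * (t : G) ∈ E := E.mul_mem (E.inv_mem t₀.2) t.2
        have h3 : ((t₀ : G)⁻¹ * (t : G) * x)⁻¹ * ((t₀ : G)⁻¹ * (e : G) * (t₀ : G)) * ((t₀ : G)⁻¹ * (t : G) * x) ∈ A := by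
          have h4 : ((t₀ : G)⁻¹ * (t : G) * x)⁻¹ * ((t₀ : G)⁻¹ * (e : G) * (t₀ : G)) * ((t₀ : G)⁻¹ * (t : G) * x) =
              ((t : G) * x)⁻¹ * (e : G) * ((t : G) * x) := by group
          rw [h4]
          exact ht
        have h5 := stab_of_top hD hn hE hT' hs h3
        refine ⟨⟨t₀⁻¹ * t, Subgroup.mem_subgroupOf.2 h5⟩, Finset.mem_univ _, ?_⟩
        show t₀ * (t₀⁻¹ * t) = t
        group
    rw [hcount]
    have h0 : (Nat.card ((Lx L x).subgroupOf E) : ℂ) ≠ 0 := by exact_mod_cast (Nat.card_pos (α := ((Lx L x).subgroupOf E))).ne'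
    field_simp
  · rw [if_neg hU, mul_eq_zero]
    right
    apply Finset.sum_eq_zero
    intro t _
    rw [if_neg]
    exact fun h => hU ⟨t, h⟩

theorem vanish_of_coprime (hD : DadeHypothesis A L H) {E : Subgroup G}
    (hE : ∀ b ∈ A, Nat.Coprime (Nat.card E) (Nat.card (H b))) {e : G} (he : e ∈ E)
    (hs : Sup A L H e) : ∃ x : G, x⁻¹ * e * x ∈ A := by
  obtain ⟨a, ha, x, u, hu, h⟩ := hs
  obtain ⟨_, s, hs⟩ := exists_powers hD ha hu
  have h1 : u = x * (e ^ s) * x⁻¹ := by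
    rw [← hs, ← h, conj_pow]
  have h2 : orderOf u = orderOf (e ^ s) := by
    rw [h1]
    exact orderOf_injective (MulAut.conj x).toMonoidHom (MulAut.conj x).injective _
  have h3 : orderOf u ∣ Nat.card E := by
    rw [h2]
    exact Subgroup.orderOf_dvd_natCard _ (E.pow_mem he s)
  have h4 : orderOf u ∣ Nat.card (H a) := Subgroup.orderOf_dvd_natCard _ hu
  have h5 : orderOf u = 1 := Nat.eq_one_of_dvd_coprimes (hE a ha) h3 h4
  rw [orderOf_eq_one_iff] at h5
  rw [h5, mul_one] at h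
  refine ⟨x⁻¹, ?_⟩
  have h6 : x⁻¹⁻¹ * e * x⁻¹ = (a : G) := by
    rw [← h]
    group
  rw [h6]
  exact ha

theorem gen_of_coprime (hD : DadeHypothesis A L H) {E : Subgroup G} (hn : Group.IsNilpotent E)
    (hE : ∀ b ∈ A, Nat.Coprime (Nat.card E) (Nat.card (H b)))
    {α : L → ℂ} (hα : IsGeneralizedCharacter L α) (hαA : ∀ x : L, (x : G) ∉ A → α x = 0) :
    IsGeneralizedCharacter E (fun e : E => dadeIsometry A L H α e) := by
  classical
  letI : Fintype E := Fintype.ofFinite _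
  have hαc : IsClassFunction L α := IsGen.isClassFunction hα
  let U : G → Finset E := fun x => Finset.univ.filter fun e : E =>
    ∃ t : E, ((t : G) * x)⁻¹ * (e : G) * ((t : G) * x) ∈ A
  let 𝓤 : Finset (Finset E) := (Finset.univ.filter fun x : G => ∃ f, IsTop E A L x f).image U
  have hgen : ∀ u ∈ 𝓤, IsGeneralizedCharacter E (fun e : E => if e ∈ u then dadeIsometry A L H α e else 0) := by
    intro u hu
    obtain ⟨x, hx, rfl⟩ := Finset.mem_image.1 hu
    obtain ⟨f, hT⟩ := (Finset.mem_filter.1 hx).2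
    have h1 : IsGeneralizedCharacter ((Lx L x).subgroupOf E) (fun w => α (conjHom E L x w)) :=
      isGen_comp (conjHom E L x) hα
    have h2 := isGen_indFun _ h1
    have h3 : indFun ((Lx L x).subgroupOf E) (fun w => α (conjHom E L x w)) =
        (fun e : E => if e ∈ U x then dadeIsometry A L H α e else 0) := by
      funext e
      rw [ind_top hD hn hE hαc hαA hT e]
      by_cases h4 : ∃ t : E, ((t : G) * x)⁻¹ * (e : G) * ((t : G) * x) ∈ A
      · rw [if_pos h4, if_pos]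
        exact Finset.mem_filter.2 ⟨Finset.mem_univ _, h4⟩
      · rw [if_neg h4, if_neg]
        exact fun h => h4 (Finset.mem_filter.1 h).2
    rw [← h3]
    exact h2
  have hsum := isGen_sum 𝓤 _ hgen
  have hval : (∑ u ∈ 𝓤, fun e : E => if e ∈ u then dadeIsometry A L H α e else 0) =
      fun e : E => dadeIsometry A L H α e := by
    funext e
    rw [Finset.sum_apply]
    by_cases hA : ∃ x : G, x⁻¹ * (e : G) * x ∈ A
    · obtain ⟨x, hx⟩ := hA
      obtain ⟨z, hz⟩ := exists_top hD hn hE e.2 hx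
      have hzU : U z ∈ 𝓤 := Finset.mem_image.2 ⟨z, Finset.mem_filter.2 ⟨Finset.mem_univ _, e, hz⟩, rfl⟩
      have hez : e ∈ U z := by
        refine Finset.mem_filter.2 ⟨Finset.mem_univ _, 1, ?_⟩
        have h1 : (((1 : E) : G) * z)⁻¹ * (e : G) * (((1 : E) : G) * z) = z⁻¹ * (e : G) * z := by
          push_cast
          group
        rw [h1]
        exact hz.2.1
      rw [Finset.sum_eq_single (U z)]
      · rw [if_pos hez]
      · intro u hu hne
        rw [if_neg]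
        intro heu
        apply hne
        obtain ⟨y, hy, rfl⟩ := Finset.mem_image.1 hu
        obtain ⟨f, hTy⟩ := (Finset.mem_filter.1 hy).2
        obtain ⟨t, ht⟩ := (Finset.mem_filter.1 heu).2
        -- `t * y` is top for `e`
        have hT1 : IsTop E A L ((t : G) * y) ((t : G) * f * (t : G)⁻¹) := top_smul hTy t.2
        have hT2 : IsTop E A L ((t : G) * y) (e : G) := top_of_top hD hn hE hT1 e.2 ht
        ext e'
        simp only [U, Finset.mem_filter, Finset.mem_univ, true_and]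
        constructor
        · rintro ⟨t', ht'⟩
          have h0 : ((t' * t⁻¹ : E) : G)⁻¹ * (e' : G) * ((t' * t⁻¹ : E) : G) ∈ E :=
            E.mul_mem (E.mul_mem (E.inv_mem (t' * t⁻¹).2) e'.2) (t' * t⁻¹).2
          have h1 : ((t : G) * y)⁻¹ * (((t' * t⁻¹ : E) : G)⁻¹ * (e' : G) * ((t' * t⁻¹ : E) : G)) * ((t : G) * y) ∈ A := by
            have h2 : ((t : G) * y)⁻¹ * (((t' * t⁻¹ : E) : G)⁻¹ * (e' : G) * ((t' * t⁻¹ : E) : G)) * ((t : G) * y) =
                ((t' : G) * y)⁻¹ * (e' : G) * ((t' : G) * y) := by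
              push_cast
              group
            rw [h2]
            exact ht'
          have h3 := top_same hD hn hT2 hz h0 h1
          refine ⟨t' * t⁻¹, ?_⟩
          have h4 : (((t' * t⁻¹ : E) : G) * z)⁻¹ * (e' : G) * (((t' * t⁻¹ : E) : G) * z) =
              z⁻¹ * (((t' * t⁻¹ : E) : G)⁻¹ * (e' : G) * ((t' * t⁻¹ : E) : G)) * z := by group
          rw [h4]
          exact h3
        · rintro ⟨t', ht'⟩
          have h0 : (t' : G)⁻¹ * (e' : G) * (t' : G) ∈ E := E.mul_mem (E.mul_mem (E.inv_mem t'.2) e'.2) t'.2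
          have h1 : z⁻¹ * ((t' : G)⁻¹ * (e' : G) * (t' : G)) * z ∈ A := by
            have h2 : z⁻¹ * ((t' : G)⁻¹ * (e' : G) * (t' : G)) * z = ((t' : G) * z)⁻¹ * (e' : G) * ((t' : G) * z) := by group
            rw [h2]
            exact ht'
          have h3 := top_same hD hn hz hT2 h0 h1
          refine ⟨t' * t, ?_⟩
          have h4 : (((t' * t : E) : G) * y)⁻¹ * (e' : G) * (((t' * t : E) : G) * y) =
              ((t : G) * y)⁻¹ * ((t' : G)⁻¹ * (e' : G) * (t' : G)) * ((t : G) * y) := by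
            push_cast
            group
          rw [h4]
          exact h3
      · intro h
        exact absurd hzU h
    · have h1 : ¬ Sup A L H (e : G) := fun hs => hA (vanish_of_coprime hD hE e.2 hs)
      rw [dade_of_not h1]
      apply Finset.sum_eq_zero
      intro u hu
      by_cases he : e ∈ u
      · rw [if_pos he]
      · rw [if_neg he]
  rw [← hval]
  exact hsum

theorem gen_of_nilpotent (hD : DadeHypothesis A L H) {α : L → ℂ} (hα : IsGeneralizedCharacter L α)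
    (hαA : ∀ x : L, (x : G) ∉ A → α x = 0) :
    ∀ (n : ℕ) (E : Subgroup G), Nat.card E = n → Group.IsNilpotent E →
      IsGeneralizedCharacter E (fun e : E => dadeIsometry A L H α e) := by
  classical
  intro n
  induction n using Nat.strong_induction_on with
  | _ n ih =>
  intro E hcard hn
  by_cases hE : ∀ b ∈ A, Nat.Coprime (Nat.card E) (Nat.card (H b))
  · exact gen_of_coprime hD hn hE hα hαA
  · push Not at hE
    obtain ⟨b, hb, hnc⟩ := hE
    obtain ⟨q, hq, hqE, hqH⟩ := Nat.Prime.not_coprime_iff_dvd.1 hnc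
    haveI hfq : Fact q.Prime := ⟨hq⟩
    haveI := hn
    obtain ⟨P, K, hK, hc⟩ := Cfsg.Agent.Lib.ThompsonFpf.npc_of_nilpotent (N := E) q
    haveI hPn : (P : Subgroup E).Normal :=
      Sylow.normal_of_normalizerCondition normalizerCondition_of_isNilpotent P
    obtain ⟨p, hp⟩ := exists_proj K (P : Subgroup E) hK hPn hc
    have hcm : Nat.card K * Nat.card (P : Subgroup E) = Nat.card E := hc.card_mul
    have hPbot : (P : Subgroup E) ≠ ⊥ := P.ne_bot_of_dvd_card hqE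
    have hP1 : 1 < Nat.card (P : Subgroup E) := (Subgroup.one_lt_card_iff_ne_bot _).2 hPbot
    have hKlt : Nat.card K < Nat.card E := by
      rw [← hcm]
      have hKpos : 0 < Nat.card K := Nat.card_pos
      nlinarith
    have hKcard : Nat.card (K.map E.subtype) = Nat.card K :=
      Subgroup.card_map_of_injective E.subtype_injective
    have hih := ih (Nat.card (K.map E.subtype)) (by rw [hKcard, ← hcard]; exact hKlt) (K.map E.subtype) rfl
      (nil_of_le (Subgroup.map_subtype_le K) hn)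
    have h1 : IsGeneralizedCharacter K (fun k : K => dadeIsometry A L H α ((k : E) : G)) :=
      isGen_comp (E.subtype.subgroupMap K) hih
    have h2 := isGen_comp p h1
    have h3 : (fun e : E => dadeIsometry A L H α (e : G)) =
        fun e : E => dadeIsometry A L H α (((p e : K) : E) : G) := by
      funext g
      obtain ⟨w, hw, hgw⟩ := hp g
      have hcomm : Commute ((p g : K) : E) w :=
        Subgroup.commute_of_normal_of_disjoint K (P : Subgroup E) hK hPn hc.disjoint _ _ (p g).2 hw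
      have hg : (g : G) = (((p g : K) : E) : G) * (w : G) := by
        conv_lhs => rw [hgw]
        rfl
      have hrho : Rho A L (w : G) := by
        intro c hc'
        have h4 : ¬ q ∣ Nat.card ↥(L ⊓ Subgroup.centralizer ({c} : Set G)) := by
          intro h5
          have h6 := Nat.dvd_gcd hqH h5
          rw [hD.coprime b hb c hc'] at h6
          exact hq.one_lt.ne' (Nat.dvd_one.1 h6)
        obtain ⟨i, hi⟩ := (IsPGroup.iff_orderOf.1 P.isPGroup') ⟨w, hw⟩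
        have h7 : orderOf (w : G) = q ^ i := by
          rw [← hi, Subgroup.orderOf_mk, Subgroup.orderOf_coe]
        rw [h7]
        exact Nat.Coprime.pow_left i ((Nat.Prime.coprime_iff_not_dvd hq).2 h4)
      have hcomm' : (((p g : K) : E) : G) * (w : G) = (w : G) * (((p g : K) : E) : G) := by
        have := congrArg (Subtype.val) hcomm.eq
        exact this
      rw [hg]
      rw [dade_mul_rho hD (IsGen.isClassFunction hα) hcomm' hrho]
    rw [h3]
    exact h2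

/-- **Dade**: the Dade map sends generalized characters vanishing off `A` to generalized characters. -/
theorem dade_isGen (hD : DadeHypothesis A L H) {α : L → ℂ} (hα : IsGeneralizedCharacter L α)
    (hαA : ∀ x : L, (x : G) ∉ A → α x = 0) : IsGeneralizedCharacter G (dadeIsometry A L H α) := by
  apply Cfsg.Agent.Lib.BrauerThm.isGen_of_elementary (dade_class hD (IsGen.isClassFunction hα))
  intro E p hp hE
  exact gen_of_nilpotent hD hα hαA _ E rfl (Cfsg.Agent.Lib.BrauerThm.isNilpotent_of_isElementary hp hE)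

end chars

section skew

open Cfsg.Agent.Lib.DadeIso Cfsg.Agent.Lib.CharGen Cfsg.Agent.Lib.CharOps Cfsg.Agent.Lib.CharIso
open ComplexConjugate

variable {G : Type u} [Group G] [Fintype G] {A : Set G} {L : Subgroup G} {H : G → Subgroup G}

omit [Fintype G] in
theorem dade_conj (α : L → ℂ) : dadeIsometry A L H (conjFun α) = conjFun (dadeIsometry A L H α) := by
  classical
  funext g
  by_cases hw : ∃ a : L, (a : G) ∈ A ∧ ∃ x : G, ∃ u ∈ H (a : G), x * g * x⁻¹ = (a : G) * u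
  · simp only [dadeIsometry, conjFun, dif_pos hw]
  · simp only [dadeIsometry, conjFun, dif_neg hw, map_zero]

omit [Fintype G] in
theorem dade_neg (α : L → ℂ) : dadeIsometry A L H (-α) = -dadeIsometry A L H α := by
  classical
  funext g
  by_cases hw : ∃ a : L, (a : G) ∈ A ∧ ∃ x : G, ∃ u ∈ H (a : G), x * g * x⁻¹ = (a : G) * u
  · simp only [dadeIsometry, Pi.neg_apply, dif_pos hw]
  · simp only [dadeIsometry, Pi.neg_apply, dif_neg hw, neg_zero]

omit [Fintype G] in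
theorem dade_zero : dadeIsometry A L H (0 : L → ℂ) = 0 := by
  classical
  funext g
  by_cases hw : ∃ a : L, (a : G) ∈ A ∧ ∃ x : G, ∃ u ∈ H (a : G), x * g * x⁻¹ = (a : G) * u
  · simp only [dadeIsometry, Pi.zero_apply, dif_pos hw]
  · simp only [dadeIsometry, Pi.zero_apply, dif_neg hw]

theorem dade_apply_one (hD : DadeHypothesis A L H) (α : L → ℂ) : dadeIsometry A L H α 1 = 0 := by
  apply dade_of_not
  rintro ⟨a, ha, x, u, hu, e⟩
  have h1 : (a : G) * u = 1 := by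
    rw [← e]
    group
  have h2 : (a : G) = u⁻¹ := eq_inv_of_mul_eq_one_left h1
  have h4 : (a : G) ∈ H a := by
    have := (H a).inv_mem hu
    rwa [← h2] at this
  have h3 : (a : G) ∈ H a ⊓ (L ⊓ Subgroup.centralizer ({(a : G)} : Set G)) :=
    ⟨h4, a.2, Subgroup.mem_centralizer_singleton_iff.2 rfl⟩
  rw [hD.inf_eq_bot a ha, Subgroup.mem_bot] at h3
  exact hD.one_not_mem (h3 ▸ ha)

theorem classInner_sub_sub {X : Type u} [Group X] [Fintype X] (a b : X → ℂ) :
    classInner (a - b) (a - b) = classInner a a - classInner a b - classInner b a + classInner b b := by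
  unfold classInner
  rw [← mul_sub, ← mul_sub, ← mul_add]
  congr 1
  rw [← Finset.sum_sub_distrib, ← Finset.sum_sub_distrib, ← Finset.sum_add_distrib]
  refine Finset.sum_congr rfl fun g _ => ?_
  simp only [Pi.sub_apply, map_sub]
  ring

theorem dade_skew [Fintype L] (hD : DadeHypothesis A L H) {χ : L → ℂ} (hχ : IsIrrCharacter L χ)
    (hsupp : ∀ x : L, x ≠ 1 → (x : G) ∉ A → χ x = 0) :
    ∃ μ : G → ℂ, IsIrrCharacter G μ ∧ dadeIsometry A L H (χ - conjFun χ) = μ - conjFun μ := by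
  classical
  by_cases h : χ = conjFun χ
  · refine ⟨fun _ => 1, isIrr_one, ?_⟩
    have h1 : χ - conjFun χ = 0 := by
      rw [← h]
      exact sub_self _
    rw [h1, dade_zero]
    funext g
    simp [conjFun]
  · have hχ' : IsIrrCharacter L (conjFun χ) := isIrr_conj hχ
    have hχc : IsCharacter L χ := IsIrrCharacter.isCharacter' hχ
    have hχc' : IsCharacter L (conjFun χ) := IsIrrCharacter.isCharacter' hχ'
    set θ : L → ℂ := χ - conjFun χ with hθ
    have hgen : IsGeneralizedCharacter L θ := isGen_sub (isGen_of_char hχc) (isGen_of_char hχc')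
    have hθA : ∀ x : L, (x : G) ∉ A → θ x = 0 := by
      intro x hx
      by_cases hx1 : x = 1
      · obtain ⟨n, hn⟩ := exists_degree hχc
        rw [hx1, hθ]
        simp [conjFun, hn]
      · rw [hθ]
        simp [conjFun, hsupp x hx1 hx]
    have hθc : IsClassFunction L θ := IsGen.isClassFunction hgen
    have hnorm : classInner θ θ = 2 := by
      rw [hθ, classInner_sub_sub, Cfsg.Agent.Lib.CharIrr.classInner_irr hχ hχ,
        Cfsg.Agent.Lib.CharIrr.classInner_irr hχ hχ', Cfsg.Agent.Lib.CharIrr.classInner_irr hχ' hχ,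
        Cfsg.Agent.Lib.CharIrr.classInner_irr hχ' hχ', if_pos rfl, if_pos rfl, if_neg h, if_neg (Ne.symm h)]
      norm_num
    have hgen' := dade_isGen hD hgen hθA
    have hnorm' : classInner (dadeIsometry A L H θ) (dadeIsometry A L H θ) = 2 := by
      rw [inner_dade_dade hD hθc hθA hθc, hnorm]
    obtain ⟨μ₁, μ₂, h₁, h₂, hne, hsub⟩ := exists_irr_sub_of_norm_two hgen' hnorm' (dade_apply_one hD θ)
    have hconjθ : conjFun θ = -θ := by
      funext x
      simp [hθ, conjFun]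
    have hskew : conjFun (dadeIsometry A L H θ) = -dadeIsometry A L H θ := by
      rw [← dade_conj, hconjθ, dade_neg]
    rw [hsub] at hskew
    have hadd : conjFun μ₁ + μ₁ = conjFun μ₂ + μ₂ := by
      funext g
      have := congrFun hskew g
      simp only [conjFun, Pi.sub_apply, Pi.neg_apply, map_sub] at this
      simp only [conjFun, Pi.add_apply]
      linear_combination this
    have h₁' : IsIrrCharacter G (conjFun μ₁) := isIrr_conj h₁
    have h₂' : IsIrrCharacter G (conjFun μ₂) := isIrr_conj h₂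
    have hinner := congrArg (fun f => classInner f μ₁) hadd
    simp only [Cfsg.Agent.Lib.CharIrr.classInner_add_left] at hinner
    rw [Cfsg.Agent.Lib.CharIrr.classInner_irr h₁' h₁, Cfsg.Agent.Lib.CharIrr.classInner_irr h₁ h₁,
      Cfsg.Agent.Lib.CharIrr.classInner_irr h₂' h₁, Cfsg.Agent.Lib.CharIrr.classInner_irr h₂ h₁,
      if_pos rfl, if_neg (Ne.symm hne)] at hinner
    have hkey : conjFun μ₂ = μ₁ := by
      by_contra hc
      rw [if_neg hc] at hinner
      split_ifs at hinner <;> norm_num at hinner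
    have hμ₂ : μ₂ = conjFun μ₁ := by
      rw [← hkey]
      funext g
      simp [conjFun]
    refine ⟨μ₁, h₁, ?_⟩
    rw [hsub, hμ₂]

end skew

end Cfsg.Agent.Lib.DadeGen
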