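import Mathlib

set_option autoImplicit false

namespace Cfsg.Agent.Lib.Derange

open MulAction

variable {G Ω : Type*} [Group G] [Finite G] [MulAction G Ω] [Fintype Ω]

/-- Orbits of a Sylow subgroup on a transitive set: the `p`-part of the degree divides each orbit. -/
theorem sylow_orbit_dvd (htr : MulAction.IsPretransitive G Ω) (p : ℕ) [Fact p.Prime]
    (P : Sylow p G) (j : ℕ) (hj : p ^ j ∣ Fintype.card Ω) (ω : Ω) :
    p ^ j ∣ Nat.card (orbit (P : Subgroup G) ω) := by
  classical
  have h1 : Nat.card Ω * Nat.card (stabilizer G ω) = Nat.card G := by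
    have h := Subgroup.index_mul_card (stabilizer G ω)
    rw [index_stabilizer_of_transitive] at h
    exact h
  have h2 : Nat.card (orbit (P : Subgroup G) ω) * Nat.card (stabilizer (P : Subgroup G) ω)
      = Nat.card (P : Subgroup G) := by
    have h := Subgroup.index_mul_card (stabilizer (P : Subgroup G) ω)
    rw [index_stabilizer] at h
    rw [Nat.card_coe_set_eq]
    exact h
  have h3 : Nat.card (P : Subgroup G) * (P : Subgroup G).index = Nat.card G :=
    Subgroup.card_mul_index _
  -- the stabilizer in P embeds in the stabilizer in G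
  let f : stabilizer (P : Subgroup G) ω →* stabilizer G ω :=
    { toFun := fun x => ⟨(x : (P : Subgroup G)), x.2⟩
      map_one' := rfl
      map_mul' := fun _ _ => rfl }
  have hf : Function.Injective f := by
    intro x y hxy
    have : ((x : (P : Subgroup G)) : G) = ((y : (P : Subgroup G)) : G) :=
      congrArg (fun u : stabilizer G ω => (u : G)) hxy
    exact Subtype.ext (Subtype.ext this)
  obtain ⟨c, hc⟩ := Subgroup.card_dvd_of_injective f hf
  have hpos : 0 < Nat.card (stabilizer (P : Subgroup G) ω) := Nat.card_pos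
  have h4 : Nat.card Ω * c = Nat.card (orbit (P : Subgroup G) ω) * (P : Subgroup G).index := by
    apply Nat.eq_of_mul_eq_mul_left hpos
    calc Nat.card (stabilizer (P : Subgroup G) ω) * (Nat.card Ω * c)
        = Nat.card Ω * (Nat.card (stabilizer (P : Subgroup G) ω) * c) := by ring
      _ = Nat.card G := by rw [← hc, h1]
      _ = Nat.card (stabilizer (P : Subgroup G) ω) * (Nat.card (orbit (P : Subgroup G) ω) * (P : Subgroup G).index) := by
          rw [← h3, ← h2]; ring
  have hcop : Nat.Coprime (p ^ j) (P : Subgroup G).index := by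
    apply Nat.Coprime.pow_left
    exact (Nat.Prime.coprime_iff_not_dvd (Fact.out)).mpr (P.not_dvd_index)
  apply hcop.dvd_of_dvd_mul_right
  rw [← h4, Nat.card_eq_fintype_card]
  exact Dvd.dvd.mul_right hj c

/-- The Jordan argument: if a Sylow subgroup is transitive, a central element of order p has no
fixed point. -/
theorem exists_derangement_of_sylow_transitive [FaithfulSMul G Ω] (p : ℕ) [Fact p.Prime]
    (P : Sylow p G) (htr : MulAction.IsPretransitive (P : Subgroup G) Ω) (hnt : Nontrivial (P : Subgroup G)) :
    ∃ g : G, orderOf g = p ∧ ∀ ω : Ω, g • ω ≠ ω := by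
  classical
  have hp : IsPGroup p (P : Subgroup G) := P.isPGroup'
  have hZ : Nontrivial (Subgroup.center (P : Subgroup G)) := hp.center_nontrivial
  have hcard : p ∣ Nat.card (Subgroup.center (P : Subgroup G)) := by
    have hpg : IsPGroup p (Subgroup.center (P : Subgroup G)) := hp.to_subgroup _
    obtain ⟨n, hn⟩ := IsPGroup.iff_card.mp hpg
    have hone : 1 < Nat.card (Subgroup.center (P : Subgroup G)) := Finite.one_lt_card
    rw [hn] at hone ⊢
    have : n ≠ 0 := by rintro rfl; simp at hone
    exact dvd_pow_self p this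
  obtain ⟨z, hz⟩ := exists_prime_orderOf_dvd_card' (G := Subgroup.center (P : Subgroup G)) p hcard
  refine ⟨(z : (P : Subgroup G)), ?_, ?_⟩
  · have h1 : orderOf (((z : (P : Subgroup G)) : G)) = orderOf (z : (P : Subgroup G)) :=
      Subgroup.orderOf_coe _
    have h2 : orderOf (z : (P : Subgroup G)) = orderOf z := Subgroup.orderOf_coe _
    exact (h1.trans h2).trans hz
  · intro ω hω
    have hz1 : ((z : (P : Subgroup G)) : G) = 1 := by
      apply FaithfulSMul.eq_of_smul_eq_smul (α := Ω)
      intro ω'
      obtain ⟨h, rfl⟩ := htr.exists_smul_eq ω ω'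
      rw [one_smul]
      have hc : (h : (P : Subgroup G)) * (z : (P : Subgroup G)) = (z : (P : Subgroup G)) * h :=
        (Subgroup.mem_center_iff.mp z.2 h)
      have hc' : (h : G) * ((z : (P : Subgroup G)) : G) = ((z : (P : Subgroup G)) : G) * (h : G) := by
        exact_mod_cast congrArg Subtype.val hc
      change ((z : (P : Subgroup G)) : G) • ((h : G) • ω) = (h : G) • ω
      rw [← mul_smul, ← hc', mul_smul, hω]
    have : z = 1 := Subtype.ext (Subtype.ext hz1)
    rw [this, orderOf_one] at hz
    exact (Fact.out : p.Prime).one_lt.ne hz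

/-- Case degree `p ^ k`. -/
theorem exists_derangement_prime_pow [FaithfulSMul G Ω] (htr : MulAction.IsPretransitive G Ω)
    (p k : ℕ) (hp : p.Prime) (hk : 1 ≤ k) (hΩ : Fintype.card Ω = p ^ k) :
    ∃ g : G, orderOf g = p ∧ ∀ ω : Ω, g • ω ≠ ω := by
  classical
  haveI : Fact p.Prime := ⟨hp⟩
  obtain ⟨P⟩ : Nonempty (Sylow p G) := inferInstance
  have hpos : 0 < Fintype.card Ω := by rw [hΩ]; exact pow_pos hp.pos k
  haveI : Nonempty Ω := Fintype.card_pos_iff.mp hpos
  obtain ⟨ω⟩ : Nonempty Ω := inferInstance
  have htop : orbit (P : Subgroup G) ω = Set.univ := by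
    have h1 := sylow_orbit_dvd htr p P k (by rw [hΩ]) ω
    have h2 : Nat.card (orbit (P : Subgroup G) ω) ≤ Fintype.card Ω := by
      rw [Nat.card_eq_fintype_card]
      exact Fintype.card_subtype_le _
    have hopos : 0 < Nat.card (orbit (P : Subgroup G) ω) := by
      haveI : Nonempty (orbit (P : Subgroup G) ω) := ⟨⟨ω, mem_orbit_self ω⟩⟩
      exact Nat.card_pos
    have h3 : Nat.card (orbit (P : Subgroup G) ω) = Fintype.card Ω :=
      le_antisymm h2 (by rw [hΩ]; exact Nat.le_of_dvd hopos h1)
    apply Set.eq_univ_of_forall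
    intro x
    by_contra hx
    have h4 : Nat.card (orbit (P : Subgroup G) ω) < Fintype.card Ω := by
      rw [Nat.card_eq_fintype_card]
      exact Fintype.card_subtype_lt hx
    omega
  have htr' : MulAction.IsPretransitive (P : Subgroup G) Ω := by
    refine ⟨fun a b => ?_⟩
    have ha : a ∈ orbit (P : Subgroup G) ω := htop ▸ Set.mem_univ a
    have hb : b ∈ orbit (P : Subgroup G) ω := htop ▸ Set.mem_univ b
    obtain ⟨x, rfl⟩ := ha
    obtain ⟨y, rfl⟩ := hb
    refine ⟨y * x⁻¹, ?_⟩
    simp [mul_smul]
  have hnt : Nontrivial (P : Subgroup G) := by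
    -- the orbit has at least two elements
    have h2 : 1 < Fintype.card Ω := by
      rw [hΩ]; exact Nat.one_lt_pow (by omega) hp.one_lt
    obtain ⟨a, b, hab⟩ := Fintype.exists_pair_of_one_lt_card h2
    obtain ⟨x, hx⟩ := htr'.exists_smul_eq a b
    refine ⟨⟨x, 1, ?_⟩⟩
    rintro rfl
    rw [one_smul] at hx
    exact hab hx
  exact exists_derangement_of_sylow_transitive p P htr' hnt

/-- Case degree `m p`, `m < p`. -/
theorem exists_derangement_small [FaithfulSMul G Ω] (htr : MulAction.IsPretransitive G Ω)
    (p m : ℕ) (hp : p.Prime) (hmp : m < p) (hm : 1 ≤ m) (hΩ : Fintype.card Ω = m * p) :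
    ∃ g : G, orderOf g = p ∧ ∀ ω : Ω, g • ω ≠ ω := by
  classical
  haveI : Fact p.Prime := ⟨hp⟩
  obtain ⟨P⟩ : Nonempty (Sylow p G) := inferInstance
  have hpg : IsPGroup p (P : Subgroup G) := P.isPGroup'
  -- every orbit has size exactly p
  have horb : ∀ ω : Ω, Nat.card (orbit (P : Subgroup G) ω) = p := by
    intro ω
    have h1 := sylow_orbit_dvd htr p P 1 (by rw [pow_one, hΩ]; exact dvd_mul_left _ _) ω
    rw [pow_one] at h1
    obtain ⟨a, ha⟩ := hpg.card_orbit ω
    have ha' : Nat.card (orbit (P : Subgroup G) ω) = p ^ a := ha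
    have h2 : Nat.card (orbit (P : Subgroup G) ω) ≤ Fintype.card Ω := by
      rw [Nat.card_eq_fintype_card]
      exact Fintype.card_subtype_le _
    rw [ha'] at h1 h2 ⊢
    rcases a with _ | _ | a
    · simp at h1
      exact absurd h1 hp.one_lt.ne'
    · simp
    · exfalso
      have h3 : p ^ 2 ≤ p ^ (a + 1 + 1) := Nat.pow_le_pow_right hp.pos (by omega)
      have h4 : m * p < p * p := Nat.mul_lt_mul_of_pos_right hmp hp.pos
      rw [hΩ] at h2
      nlinarith
  -- stabilizers are normal of index p
  have hidx : ∀ ω : Ω, (stabilizer (P : Subgroup G) ω).index = p := by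
    intro ω
    have h := horb ω
    rw [Nat.card_coe_set_eq] at h
    rw [index_stabilizer]
    exact h
  have hcardP : p ∣ Nat.card (P : Subgroup G) := by
    obtain ⟨ω⟩ : Nonempty Ω := by
      apply Fintype.card_pos_iff.mp
      rw [hΩ]; exact Nat.mul_pos (by omega) hp.pos
    have h := Subgroup.card_mul_index (stabilizer (P : Subgroup G) ω)
    rw [hidx] at h
    exact Dvd.intro_left _ h
  have hminFac : (Nat.card (P : Subgroup G)).minFac = p := by
    obtain ⟨n, hn⟩ := IsPGroup.iff_card.mp hpg
    rw [hn] at hcardP ⊢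
    have hn0 : n ≠ 0 := by
      rintro rfl
      simp at hcardP
      exact hp.one_lt.ne' hcardP
    exact Nat.Prime.pow_minFac hp hn0
  have hnormal : ∀ ω : Ω, (stabilizer (P : Subgroup G) ω).Normal := by
    intro ω
    apply Subgroup.normal_of_index_eq_minFac_card
    rw [hidx, hminFac]
  -- counting
  have hnum : Fintype.card (orbitRel.Quotient (P : Subgroup G) Ω) = m := by
    have h := Fintype.card_congr (selfEquivSigmaOrbits (P : Subgroup G) Ω)
    rw [Fintype.card_sigma] at h
    have h' : ∀ q : orbitRel.Quotient (P : Subgroup G) Ω,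
        Fintype.card (orbit (P : Subgroup G) (Quotient.out q)) = p := by
      intro q
      rw [← Nat.card_eq_fintype_card]
      exact horb _
    simp only [h', Finset.sum_const, Finset.card_univ, smul_eq_mul] at h
    rw [hΩ] at h
    exact (Nat.eq_of_mul_eq_mul_right hp.pos h).symm
  obtain ⟨x, hx⟩ : ∃ x : (P : Subgroup G), ∀ q : orbitRel.Quotient (P : Subgroup G) Ω,
      x ∉ stabilizer (P : Subgroup G) (Quotient.out q) := by
    by_contra hcon
    push Not at hcon
    haveI : Fintype (P : Subgroup G) := Fintype.ofFinite _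
    have hsub : (Finset.univ : Finset (P : Subgroup G)) ⊆
        Finset.univ.biUnion (fun q : orbitRel.Quotient (P : Subgroup G) Ω =>
          Finset.univ.filter (fun y : (P : Subgroup G) => y ∈ stabilizer (P : Subgroup G) (Quotient.out q))) := by
      intro y _
      obtain ⟨q, hq⟩ := hcon y
      exact Finset.mem_biUnion.mpr ⟨q, Finset.mem_univ _, Finset.mem_filter.mpr ⟨Finset.mem_univ _, hq⟩⟩
    have hle := (Finset.card_le_card hsub).trans Finset.card_biUnion_le
    have hcard1 : ∀ q : orbitRel.Quotient (P : Subgroup G) Ω,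
        (Finset.univ.filter (fun y : (P : Subgroup G) =>
          y ∈ stabilizer (P : Subgroup G) (Quotient.out q))).card * p = Nat.card (P : Subgroup G) := by
      intro q
      have h := Subgroup.card_mul_index (stabilizer (P : Subgroup G) (Quotient.out q))
      rw [hidx] at h
      rw [← h]
      congr 1
      rw [Nat.card_eq_fintype_card, Fintype.card_subtype]
    have hbound : (Finset.univ : Finset (P : Subgroup G)).card * p ≤ m * Nat.card (P : Subgroup G) := by
      calc (Finset.univ : Finset (P : Subgroup G)).card * p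
          ≤ (∑ q : orbitRel.Quotient (P : Subgroup G) Ω, (Finset.univ.filter (fun y : (P : Subgroup G) =>
              y ∈ stabilizer (P : Subgroup G) (Quotient.out q))).card) * p := Nat.mul_le_mul_right _ hle
        _ = ∑ q : orbitRel.Quotient (P : Subgroup G) Ω, (Finset.univ.filter (fun y : (P : Subgroup G) =>
              y ∈ stabilizer (P : Subgroup G) (Quotient.out q))).card * p := by rw [Finset.sum_mul]
        _ = m * Nat.card (P : Subgroup G) := by
            simp only [hcard1, Finset.sum_const, Finset.card_univ, smul_eq_mul, hnum]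
    rw [Finset.card_univ, ← Nat.card_eq_fintype_card] at hbound
    have hpos : 0 < Nat.card (P : Subgroup G) := Nat.card_pos
    have : Nat.card (P : Subgroup G) * p ≤ Nat.card (P : Subgroup G) * m := by
      rw [mul_comm (Nat.card _) m]; exact hbound
    have := Nat.le_of_mul_le_mul_left this hpos
    omega
  -- x fixes no point
  have hfix : ∀ ω : Ω, (x : G) • ω ≠ ω := by
    intro ω hω
    let q : orbitRel.Quotient (P : Subgroup G) Ω := Quotient.mk _ ω
    have hmem : Quotient.out q ∈ orbit (P : Subgroup G) ω := by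
      have : (Quotient.out q) ∈ orbitRel.Quotient.orbit q := by
        exact orbitRel.Quotient.mem_orbit.mpr (Quotient.out_eq q)
      rwa [orbitRel.Quotient.orbit_mk] at this
    obtain ⟨h, hh⟩ := hmem
    have hxω : x ∈ stabilizer (P : Subgroup G) ω := hω
    have hconj : h * x * h⁻¹ ∈ stabilizer (P : Subgroup G) (Quotient.out q) := by
      rw [mem_stabilizer_iff, ← hh]
      change (h * x * h⁻¹) • (h • ω) = h • ω
      rw [mul_smul, mul_smul, inv_smul_smul]
      congr 1
    have := (hnormal (Quotient.out q)).mem_comm (a := h * x) (b := h⁻¹)  hconj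
    rw [inv_mul_cancel_left] at this
    exact hx q this
  refine ⟨x, ?_, hfix⟩
  have h1 : orderOf (x : G) = orderOf x := Subgroup.orderOf_coe _
  rw [h1]
  apply orderOf_eq_prime
  · -- x ^ p = 1
    apply Subtype.ext
    apply FaithfulSMul.eq_of_smul_eq_smul (α := Ω)
    intro ω
    haveI := hnormal ω
    have h2 := Subgroup.pow_index_mem (stabilizer (P : Subgroup G) ω) x
    rw [hidx] at h2
    rw [mem_stabilizer_iff] at h2
    rw [OneMemClass.coe_one, one_smul]
    exact h2
  · rintro rfl
    obtain ⟨ω⟩ : Nonempty Ω := by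
      apply Fintype.card_pos_iff.mp
      rw [hΩ]; exact Nat.mul_pos (by omega) hp.pos
    exact hfix ω (by simp)

end Cfsg.Agent.Lib.Derange
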