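import Mathlib

/-! A counting lemma behind Dickson's theorem on subgroups of `SL₂`: a finite group acting on a set
so that every nonidentity element has one or two fixed points, one exactly for `p`-elements. -/

set_option autoImplicit false
set_option linter.all false

namespace Cfsg.Agent.Lib.DicksonCount

open scoped Pointwise
open MulAction

theorem arith {q n c e : ℕ} (hq : 3 ≤ q) (hn : 2 ≤ n) (hmod : q ∣ n - 1) (hc : 1 ≤ c)
    (hcq : c ≤ q - 1) (h : e * (n * (q - 2) + 2) = n * (q * c)) : n = q + 1 ∨ (q = 3 ∧ n = 10) := by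
  obtain ⟨r, hr⟩ := hmod
  obtain ⟨t, rfl⟩ : ∃ t, q = t + 2 := ⟨q - 2, by omega⟩
  have ht : 1 ≤ t := by omega
  have hn' : n = r * (t + 2) + 1 := by
    have : n = (t + 2) * r + 1 := by omega
    rw [this, mul_comm]
  have h1 : t + 2 - 2 = t := by omega
  have hct : c ≤ t + 1 := by omega
  rw [h1] at h
  set D := r * t + 1 with hD
  have e1 : n * t + 2 = (t + 2) * D := by
    rw [hn', hD]; ring
  have e2 : e * D = n * c := by
    rw [e1] at h
    have h3 : (t + 2) * (e * D) = (t + 2) * (n * c) := by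
      calc (t + 2) * (e * D) = e * ((t + 2) * D) := by ring
        _ = n * ((t + 2) * c) := h
        _ = (t + 2) * (n * c) := by ring
    exact Nat.eq_of_mul_eq_mul_left (by omega) h3
  have e3 : n = D + 2 * r := by
    rw [hn', hD]; ring
  have e4 : D ∣ 2 * r * c := by
    have h5 : D ∣ D * c + 2 * r * c := by
      refine ⟨e, ?_⟩
      calc D * c + 2 * r * c = (D + 2 * r) * c := by ring
        _ = n * c := by rw [e3]
        _ = e * D := e2.symm
        _ = D * e := by ring
    exact (Nat.dvd_add_right (dvd_mul_right D c)).1 h5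
  have hco : Nat.Coprime D r := by
    have h6 : Nat.gcd D r ∣ 1 := by
      have h7 : Nat.gcd D r ∣ r * t := dvd_mul_of_dvd_left (Nat.gcd_dvd_right _ _) t
      have h8 : Nat.gcd D r ∣ r * t + 1 := Nat.gcd_dvd_left _ _
      exact (Nat.dvd_add_right h7).1 h8
    exact Nat.dvd_one.1 h6
  have e5 : D ∣ 2 * c := by
    have h9 : D ∣ r * (2 * c) := by
      have : 2 * r * c = r * (2 * c) := by ring
      rwa [this] at e4
    exact hco.dvd_of_dvd_mul_left h9
  rcases r with _ | _ | r
  · exfalso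
    simp at hn'
    omega
  · left
    rw [hn']
    ring
  · right
    obtain ⟨k, hk⟩ := e5
    have hD2 : 2 * t + 1 ≤ D := by
      rw [hD]
      nlinarith
    have hk1 : k = 1 := by
      rcases k with _ | _ | k
      · omega
      · rfl
      · exfalso
        have : D * (k + 1 + 1) ≥ D * 2 := Nat.mul_le_mul_left D (by omega)
        omega
    rw [hk1, mul_one] at hk
    have hD3 : D = 2 * t + 2 := by omega
    have h10 : (r + 1 + 1) * t + 1 = 2 * t + 2 := by
      rw [← hD3, hD]
    have h11 : r * t = 1 := by nlinarith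
    have h12 : r = 1 := Nat.eq_one_of_mul_eq_one_right h11
    have h13 : t = 1 := Nat.eq_one_of_mul_eq_one_left h11
    subst h12 h13
    constructor
    · rfl
    · omega

section main

variable {Γ X : Type*} [Group Γ] [MulAction Γ X] {p : ℕ}

/-- `p`-elements. -/
def IsP (p : ℕ) (γ : Γ) : Prop := ∃ k : ℕ, γ ^ p ^ k = 1

/-- The hypotheses. -/
structure Hyp (p : ℕ) (Γ X : Type*) [Group Γ] [MulAction Γ X] : Prop where
  two : ∀ γ : Γ, γ ≠ 1 → (fixedBy X γ).ncard = 1 ∨ (fixedBy X γ).ncard = 2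
  one : ∀ γ : Γ, γ ≠ 1 → ((fixedBy X γ).ncard = 1 ↔ IsP p γ)
  mul : ∀ (x : X) (a b : Γ), a • x = x → b • x = x → IsP p a → IsP p b → IsP p (a * b)

variable [Finite Γ] [hpp : Fact p.Prime]

theorem isP_of_mem (P : Sylow p Γ) {t : Γ} (ht : t ∈ P) : IsP p t := by
  obtain ⟨k, hk⟩ := P.isPGroup' ⟨t, ht⟩
  exact ⟨k, by simpa using congrArg Subtype.val hk⟩

theorem mem_of_fix (h : Hyp p Γ X) (P : Sylow p Γ) {v : X} (hv : ∀ s ∈ P, s • v = v) {w : Γ}
    (hw : w • v = v) (hwP : IsP p w) : w ∈ P := by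
  let PI : Subgroup Γ :=
    { carrier := {γ | γ • v = v ∧ IsP p γ}
      mul_mem' := by
        rintro a b ⟨ha, ha'⟩ ⟨hb, hb'⟩
        exact ⟨by rw [mul_smul, hb, ha], h.mul v a b ha hb ha' hb'⟩
      one_mem' := ⟨one_smul _ _, 0, by simp⟩
      inv_mem' := by
        rintro a ⟨ha, k, hk⟩
        refine ⟨?_, k, by rw [inv_pow, hk, inv_one]⟩
        rw [inv_smul_eq_iff, ha] }
  have hPI : IsPGroup p PI := by
    rintro ⟨a, ha, k, hk⟩
    exact ⟨k, Subtype.ext (by simpa using hk)⟩
  have e1 := P.is_maximal' hPI (fun s hs => ⟨hv s hs, isP_of_mem P hs⟩)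
  have : w ∈ PI := ⟨hw, hwP⟩
  rw [e1] at this
  exact this

theorem eq_of_fix (h : Hyp p Γ X) {P P' : Sylow p Γ} {v : X} (hv : ∀ s ∈ P, s • v = v)
    (hv' : ∀ s ∈ P', s • v = v) : P = P' := by
  apply Sylow.ext
  apply le_antisymm
  · intro s hs
    exact mem_of_fix h P' hv' (hv s hs) (isP_of_mem P hs)
  · intro s hs
    exact mem_of_fix h P hv (hv' s hs) (isP_of_mem P' hs)

theorem exists_pt (h : Hyp p Γ X) (P : Sylow p Γ) (hP : (P : Subgroup Γ) ≠ ⊥) :
    ∃ v : X, (∀ s ∈ P, s • v = v) ∧ ∀ s ∈ P, s ≠ 1 → fixedBy X s = {v} := by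
  haveI : Nontrivial ↥(P : Subgroup Γ) := (Subgroup.nontrivial_iff_ne_bot _).2 hP
  haveI := P.isPGroup'.center_nontrivial
  obtain ⟨z, hz⟩ := exists_ne (1 : Subgroup.center ↥(P : Subgroup Γ))
  have hz₀ : (((z : ↥(P : Subgroup Γ)) : Γ)) ≠ 1 := by
    intro h0
    apply hz
    apply Subtype.ext
    apply Subtype.ext
    exact h0
  have hz₀P : ((z : ↥(P : Subgroup Γ)) : Γ) ∈ P := (z : ↥(P : Subgroup Γ)).2
  obtain ⟨v, hv⟩ := Set.ncard_eq_one.1 ((h.one _ hz₀).2 (isP_of_mem P hz₀P))
  have hv0 : v ∈ fixedBy X (((z : ↥(P : Subgroup Γ)) : Γ)) := by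
    rw [hv]
    rfl
  have hfix : ∀ s ∈ P, s • v = v := by
    intro s hs
    have h1 : s • v ∈ fixedBy X (((z : ↥(P : Subgroup Γ)) : Γ)) := by
      show ((z : ↥(P : Subgroup Γ)) : Γ) • s • v = s • v
      have h2 := (Subgroup.mem_center_iff.1 z.2) ⟨s, hs⟩
      have h3 : s * ((z : ↥(P : Subgroup Γ)) : Γ) = ((z : ↥(P : Subgroup Γ)) : Γ) * s :=
        congrArg Subtype.val h2
      rw [smul_smul, ← h3, mul_smul, (show ((z : ↥(P : Subgroup Γ)) : Γ) • v = v from hv0)]
    rw [hv] at h1
    exact h1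
  refine ⟨v, hfix, fun s hs hs1 => ?_⟩
  obtain ⟨w, hw⟩ := Set.ncard_eq_one.1 ((h.one _ hs1).2 (isP_of_mem P hs))
  have h1 : v ∈ fixedBy X s := hfix s hs
  rw [hw] at h1
  rw [hw, Set.mem_singleton_iff.1 h1]

theorem smul_mem_sylow {P : Sylow p Γ} {s g : Γ} (hs : s ∈ P) : g * s * g⁻¹ ∈ (g • P : Sylow p Γ) := by
  show g * s * g⁻¹ ∈ ((g • P : Sylow p Γ) : Subgroup Γ)
  rw [Sylow.smul_def, Sylow.pointwise_smul_def]
  exact ⟨s, hs, rfl⟩

theorem mem_smul_sylow {P : Sylow p Γ} {s g : Γ} (hs : s ∈ (g • P : Sylow p Γ)) : g⁻¹ * s * g ∈ P := by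
  have h1 : s ∈ ((g • P : Sylow p Γ) : Subgroup Γ) := hs
  rw [Sylow.smul_def, Sylow.pointwise_smul_def] at h1
  obtain ⟨t, ht, rfl⟩ := h1
  have : g⁻¹ * ((MulAut.conj g) t) * g = t := by
    simp [MulAut.conj_apply]
    group
  show g⁻¹ * ((MulAut.conj g) t) * g ∈ P
  rw [this]
  exact ht

theorem card_dvd_of_free {G Y : Type*} [Group G] [Finite Y] [MulAction G Y]
    (h : ∀ y : Y, stabilizer G y = ⊥) : Nat.card G ∣ Nat.card Y := by
  rw [Nat.card_congr (selfEquivOrbitsQuotientProd h), Nat.card_prod]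
  exact dvd_mul_left _ _

theorem card_stabilizer_of_mem_orbit [Finite X] {x y : X} (hy : y ∈ orbit Γ x) :
    Nat.card (stabilizer Γ y) = Nat.card (stabilizer Γ x) := by
  have h1 := Subgroup.card_mul_index (stabilizer Γ y)
  have h2 := Subgroup.card_mul_index (stabilizer Γ x)
  rw [index_stabilizer, orbit_eq_iff.2 hy] at h1
  rw [index_stabilizer] at h2
  have h3 : 0 < (orbit Γ x).ncard := (Set.ncard_pos (Set.toFinite _)).2 (nonempty_orbit x)
  exact Nat.eq_of_mul_eq_mul_right h3 (h1.trans h2.symm)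

theorem card_orbit_mul_stabilizer (x : X) :
    Nat.card (stabilizer Γ x) * (orbit Γ x).ncard = Nat.card Γ := by
  rw [← index_stabilizer]
  exact Subgroup.card_mul_index _

set_option maxHeartbeats 4000000 in
theorem main [Finite X] (h : Hyp p Γ X) (hp : p ≠ 2) (h2 : 2 ≤ Nat.card (Sylow p Γ)) (P₀ : Sylow p Γ) :
    Nat.card (Sylow p Γ) = Nat.card (P₀ : Subgroup Γ) + 1 ∨
      (Nat.card (P₀ : Subgroup Γ) = 3 ∧ Nat.card (Sylow p Γ) = 10) := by
  classical
  haveI := Fintype.ofFinite Γ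
  haveI := Fintype.ofFinite X
  haveI : Finite (Sylow p Γ) := inferInstance
  haveI := Fintype.ofFinite (Sylow p Γ)
  -- all Sylow subgroups have the same order
  have hcardP : ∀ P : Sylow p Γ, Nat.card (P : Subgroup Γ) = Nat.card (P₀ : Subgroup Γ) := fun P =>
    Nat.card_congr (P.equiv P₀).toEquiv
  have hne : ∀ P : Sylow p Γ, (P : Subgroup Γ) ≠ ⊥ := by
    intro P hP
    have h1 : Nat.card (P : Subgroup Γ) = 1 := by rw [hP]; exact Subgroup.card_bot
    have hall : ∀ Q : Sylow p Γ, (Q : Subgroup Γ) = ⊥ := by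
      intro Q
      have := hcardP Q
      rw [← hcardP P, h1] at this
      exact Subgroup.card_eq_one.1 this
    have : Subsingleton (Sylow p Γ) := ⟨fun a b => Sylow.ext ((hall a).trans (hall b).symm)⟩
    have := Nat.card_of_subsingleton (α := Sylow p Γ) P₀
    omega
  choose pt hpt1 hpt2 using fun P => exists_pt h P (hne P)
  have hpt_inj : Function.Injective pt := by
    intro P P' he
    exact eq_of_fix h (hpt1 P) (by rw [he]; exact hpt1 P')
  have hex1 : ∀ P : Sylow p Γ, ∃ s ∈ P, s ≠ 1 := by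
    intro P
    obtain ⟨x, hx, hx1⟩ := (Subgroup.bot_or_exists_ne_one (P : Subgroup Γ)).resolve_left (hne P)
    exact ⟨x, hx, hx1⟩
  have hpt_uniq : ∀ (P : Sylow p Γ) (v : X), (∀ s ∈ P, s • v = v) → v = pt P := by
    intro P v hv
    obtain ⟨s, hs, hs1⟩ := hex1 P
    have : v ∈ fixedBy X s := hv s hs
    rw [hpt2 P s hs hs1] at this
    exact this
  -- equivariance
  have hpt_smul : ∀ (g : Γ) (P : Sylow p Γ), pt (g • P) = g • pt P := by
    intro g P
    symm
    apply hpt_uniq
    intro s hs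
    have h1 := hpt1 P _ (mem_smul_sylow hs)
    calc s • g • pt P = g • ((g⁻¹ * s * g) • pt P) := by
          simp only [smul_smul]
          congr 1
          group
      _ = g • pt P := by rw [h1]
  set n := Nat.card (Sylow p Γ) with hn
  set q := Nat.card (P₀ : Subgroup Γ) with hq
  set v₀ := pt P₀ with hv₀
  set S₀ := Nat.card (stabilizer Γ v₀) with hS₀
  set g := Nat.card Γ with hg
  have hrange : Set.range pt = orbit Γ v₀ := by
    ext x
    constructor
    · rintro ⟨P, rfl⟩
      obtain ⟨a, ha⟩ := exists_smul_eq Γ P₀ P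
      exact ⟨a, by
        show a • pt P₀ = pt P
        rw [← hpt_smul, ha]⟩
    · rintro ⟨a, rfl⟩
      exact ⟨a • P₀, hpt_smul a P₀⟩
  have hncard : (orbit Γ v₀).ncard = n := by
    rw [← hrange, ← Set.image_univ, Set.ncard_image_of_injective _ hpt_inj, Set.ncard_univ]
  have hgn : S₀ * n = g := by
    rw [← hncard]
    exact card_orbit_mul_stabilizer v₀
  have hgpos : 0 < g := Nat.card_pos
  have hnpos : 0 < n := by omega
  have hS₀pos : 0 < S₀ := Nat.card_pos
  -- the order of a Sylow subgroup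
  have hq3 : 3 ≤ q := by
    obtain ⟨k, hk⟩ := IsPGroup.iff_card.1 P₀.isPGroup'
    have hk0 : k ≠ 0 := by
      rintro rfl
      rw [pow_zero] at hk
      exact hne P₀ (Subgroup.card_eq_one.1 hk)
    have h1 : p ≤ q := by
      rw [hq, hk]
      exact Nat.le_self_pow hk0 p
    have h3 := hpp.out.two_le
    omega
  have hqle : (P₀ : Subgroup Γ) ≤ stabilizer Γ v₀ := fun s hs => hpt1 P₀ s hs
  obtain ⟨c, hc⟩ : q ∣ S₀ := Subgroup.card_dvd_of_le hqle
  have hc1 : 1 ≤ c := by
    rcases c with _ | c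
    · simp at hc
      omega
    · omega
  -- helper on subgroups
  have hcardF : ∀ P : Subgroup Γ, (Finset.univ.filter (· ∈ P)).card = Nat.card P := by
    intro P
    rw [Nat.card_eq_fintype_card, Fintype.card_subtype]
  -- the bound on `c`
  have hcq : c ≤ q - 1 := by
    obtain ⟨t, ht, ht1⟩ := hex1 P₀
    have hC : ∀ w : Γ, w • v₀ = v₀ → w * t = t * w → w ∈ P₀ := by
      intro w hw hwt
      by_contra hwP
      have hw1 : w ≠ 1 := by
        rintro rfl
        exact hwP (Subgroup.one_mem _)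
      have hwn : ¬ IsP p w := fun hw2 => hwP (mem_of_fix h P₀ (hpt1 P₀) hw hw2)
      have h3 : (fixedBy X w).ncard = 2 := by
        rcases h.two w hw1 with h4 | h4
        · exact absurd ((h.one w hw1).1 h4) hwn
        · exact h4
      obtain ⟨a, b, hab, hfb⟩ := Set.ncard_eq_two.1 h3
      have hv0 : v₀ ∈ fixedBy X w := hw
      obtain ⟨y, hy, hy1, hy2⟩ : ∃ y, y ≠ v₀ ∧ y ∈ fixedBy X w ∧ ∀ z ∈ fixedBy X w, z = v₀ ∨ z = y := by
        rw [hfb] at hv0
        rcases hv0 with rfl | hv0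
        · refine ⟨b, hab.symm, by rw [hfb]; simp, ?_⟩
          intro z hz
          rw [hfb] at hz
          exact hz
        · have hv0' : v₀ = b := hv0
          refine ⟨a, ?_, by rw [hfb]; simp, ?_⟩
          · rw [hv0']
            exact hab
          · intro z hz
            rw [hfb] at hz
            rcases hz with rfl | hz
            · right; rfl
            · left
              rw [hv0']
              exact hz
      have h5 : t • y ∈ fixedBy X w := by
        show w • t • y = t • y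
        rw [smul_smul, hwt, mul_smul, (show w • y = y from hy1)]
      rcases hy2 _ h5 with h6 | h6
      · apply hy
        have h7 : t • v₀ = v₀ := hpt1 P₀ t ht
        exact MulAction.injective t (h6.trans h7.symm)
      · apply hy
        have h7 : y ∈ fixedBy X t := h6
        rw [hpt2 P₀ t ht ht1] at h7
        exact h7
    let ff : ↥(stabilizer Γ v₀) → Γ := fun s => (s : Γ) * t * (s : Γ)⁻¹
    have hmemP : ∀ s : ↥(stabilizer Γ v₀), ff s ∈ P₀ ∧ ff s ≠ 1 := by
      intro s
      have h3 : (s : Γ) • P₀ = P₀ := by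
        apply hpt_inj
        rw [hpt_smul]
        exact s.2
      constructor
      · have := smul_mem_sylow (P := P₀) (g := (s : Γ)) ht
        rw [h3] at this
        exact this
      · intro h4
        apply ht1
        have h5 : (s : Γ) * t * (s : Γ)⁻¹ = 1 := h4
        have h6 : (s : Γ) * t = (s : Γ) := mul_inv_eq_one.1 h5
        exact mul_eq_left.1 h6
    have hle1 := Finset.card_le_mul_card_image (f := ff) (Finset.univ : Finset ↥(stabilizer Γ v₀)) q (by
      intro a ha
      obtain ⟨s₀, -, rfl⟩ := Finset.mem_image.1 ha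
      have h3 : (Finset.univ.filter (fun x : ↥(stabilizer Γ v₀) => ff x = ff s₀)).card ≤
          (Finset.univ.filter (· ∈ (P₀ : Subgroup Γ))).card := by
        refine Finset.card_le_card_of_injOn (fun x => (s₀ : Γ)⁻¹ * x) ?_ ?_
        · intro x hx
          have hx' : ff x = ff s₀ := (Finset.mem_filter.1 hx).2
          have h4 : ((s₀ : Γ)⁻¹ * x) * t = t * ((s₀ : Γ)⁻¹ * x) := by
            have h5 : (x : Γ) * t * (x : Γ)⁻¹ = (s₀ : Γ) * t * (s₀ : Γ)⁻¹ := hx'
            have h6 : (x : Γ) * t = (s₀ : Γ) * t * (s₀ : Γ)⁻¹ * x := by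
              rw [← h5]
              group
            calc ((s₀ : Γ)⁻¹ * x) * t = (s₀ : Γ)⁻¹ * ((x : Γ) * t) := by group
              _ = (s₀ : Γ)⁻¹ * ((s₀ : Γ) * t * (s₀ : Γ)⁻¹ * x) := by rw [h6]
              _ = _ := by group
          have h7 : ((s₀ : Γ)⁻¹ * x) • v₀ = v₀ := by
            rw [mul_smul, (show (x : Γ) • v₀ = v₀ from x.2), inv_smul_eq_iff]
            exact (show (s₀ : Γ) • v₀ = v₀ from s₀.2).symm
          have := hC _ h7 h4
          simp only [Finset.coe_filter, Finset.mem_univ, true_and, Set.mem_setOf_eq]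
          exact this
        · intro x _ y _ hxy
          apply Subtype.ext
          exact mul_left_cancel hxy
      rw [hcardF] at h3
      exact h3)
    have hle2 : (Finset.univ.image ff).card ≤ q - 1 := by
      have h3 : Finset.univ.image ff ⊆ (Finset.univ.filter (· ∈ (P₀ : Subgroup Γ))).erase 1 := by
        intro x hx
        obtain ⟨s, -, rfl⟩ := Finset.mem_image.1 hx
        exact Finset.mem_erase.2 ⟨(hmemP s).2, Finset.mem_filter.2 ⟨Finset.mem_univ _, (hmemP s).1⟩⟩
      have h4 := Finset.card_le_card h3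
      rw [Finset.card_erase_of_mem (Finset.mem_filter.2 ⟨Finset.mem_univ _, Subgroup.one_mem _⟩),
        hcardF] at h4
      exact h4
    have hle3 : S₀ ≤ q * (q - 1) := by
      have h3 : (Finset.univ : Finset ↥(stabilizer Γ v₀)).card = S₀ := by
        rw [Finset.card_univ, ← Nat.card_eq_fintype_card]
      rw [h3] at hle1
      exact hle1.trans (Nat.mul_le_mul_left _ hle2)
    rw [hc] at hle3
    exact Nat.le_of_mul_le_mul_left hle3 (by omega)
  -- the congruence
  have hmod : q ∣ n - 1 := by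
    let Sm : SubMulAction ↥(P₀ : Subgroup Γ) (Sylow p Γ) :=
      { carrier := {Q | Q ≠ P₀}
        smul_mem' := by
          intro t Q hQ he
          apply hQ
          have h3 : (t : Γ) • Q = P₀ := he
          have h4 : (t : Γ) • P₀ = P₀ := by
            apply hpt_inj
            rw [hpt_smul]
            exact hpt1 P₀ t t.2
          have h5 : Q = (t : Γ)⁻¹ • P₀ := by
            rw [eq_inv_smul_iff]
            exact h3
          rw [h5, inv_smul_eq_iff, h4] }
    have hfree : ∀ y : Sm, stabilizer ↥(P₀ : Subgroup Γ) y = ⊥ := by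
      rintro ⟨Q, hQ⟩
      rw [eq_bot_iff]
      intro t ht
      rw [Subgroup.mem_bot]
      by_contra ht1
      have h3 : (t : Γ) • Q = Q := congrArg Subtype.val ht
      have h4 : (t : Γ) ≠ 1 := fun h0 => ht1 (Subtype.ext h0)
      have h5 : pt Q ∈ fixedBy X (t : Γ) := by
        show (t : Γ) • pt Q = pt Q
        rw [← hpt_smul, h3]
      rw [hpt2 P₀ _ t.2 h4] at h5
      exact hQ (hpt_inj h5)
    have h3 := card_dvd_of_free hfree
    have h4 : Nat.card Sm = n - 1 := by
      have h5 : Nat.card Sm = ({P₀}ᶜ : Set (Sylow p Γ)).ncard := by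
        rw [← Nat.card_coe_set_eq]
        rfl
      rw [h5, Set.ncard_compl, Set.ncard_singleton]
    rwa [h4] at h3
  -- the elements of order a power of `p`
  let PE : Finset Γ := Finset.univ.filter (fun γ => γ ≠ 1 ∧ IsP p γ)
  have hPEcard : PE.card = n * (q - 1) := by
    have hPE : PE = Finset.univ.biUnion
        (fun P : Sylow p Γ => (Finset.univ.filter (· ∈ (P : Subgroup Γ))).erase 1) := by
      ext γ
      simp only [PE, Finset.mem_filter, Finset.mem_univ, true_and, Finset.mem_biUnion, Finset.mem_erase]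
      constructor
      · rintro ⟨hγ, k, hk⟩
        have h3 : IsPGroup p (Subgroup.zpowers γ) := by
          rintro ⟨a, ha⟩
          obtain ⟨m, rfl⟩ := Subgroup.mem_zpowers_iff.1 ha
          refine ⟨k, Subtype.ext ?_⟩
          show (γ ^ m) ^ p ^ k = 1
          rw [← zpow_natCast, ← zpow_mul, mul_comm, zpow_mul, zpow_natCast, hk, one_zpow]
        obtain ⟨Q, hQ⟩ := h3.exists_le_sylow
        exact ⟨Q, hγ, hQ (Subgroup.mem_zpowers γ)⟩
      · rintro ⟨Q, hγ, hQ⟩
        exact ⟨hγ, isP_of_mem Q hQ⟩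
    rw [hPE, Finset.card_biUnion]
    · have h3 : ∀ P : Sylow p Γ, ((Finset.univ.filter (· ∈ (P : Subgroup Γ))).erase 1).card = q - 1 := by
        intro P
        rw [Finset.card_erase_of_mem (Finset.mem_filter.2 ⟨Finset.mem_univ _, Subgroup.one_mem _⟩),
          hcardF, hcardP]
      simp only [h3, Finset.sum_const, Finset.card_univ, smul_eq_mul]
      rw [hn, Nat.card_eq_fintype_card]
    · intro P _ Q _ hPQ
      show Disjoint _ _
      rw [Finset.disjoint_left]
      intro γ hγ hγ'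
      obtain ⟨h3, h4⟩ := Finset.mem_erase.1 hγ
      obtain ⟨h5, h6⟩ := Finset.mem_erase.1 hγ'
      have h7 : γ ∈ P := (Finset.mem_filter.1 h4).2
      have h8 : γ ∈ Q := (Finset.mem_filter.1 h6).2
      have h9 := hpt2 P γ h7 h3
      rw [hpt2 Q γ h8 h3] at h9
      exact hPQ (hpt_inj (Set.singleton_eq_singleton_iff.1 h9).symm)
  -- double counting
  let E : Finset Γ := Finset.univ.erase 1
  have hEcard : E.card = g - 1 := by
    rw [Finset.card_erase_of_mem (Finset.mem_univ _), Finset.card_univ, hg, Nat.card_eq_fintype_card]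
  have hfx : ∀ γ : Γ, (Finset.univ.filter (fun x : X => γ • x = x)).card = (fixedBy X γ).ncard := by
    intro γ
    rw [← Set.ncard_coe_finset]
    congr 1
    ext x
    simp [mem_fixedBy]
  have hdc := Finset.sum_card_bipartiteAbove_eq_sum_card_bipartiteBelow (s := E)
    (t := (Finset.univ : Finset X)) (fun (γ : Γ) (x : X) => γ • x = x)
  have hsum1 : (∑ γ ∈ E, (Finset.univ.filter (fun x : X => γ • x = x)).card) + PE.card = 2 * (g - 1) := by
    have h3 : ∀ γ ∈ E, (Finset.univ.filter (fun x : X => γ • x = x)).card + (if γ ∈ PE then 1 else 0) = 2 := by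
      intro γ hγ
      have hγ1 : γ ≠ 1 := (Finset.mem_erase.1 hγ).1
      rw [hfx]
      by_cases hP : IsP p γ
      · have h4 : γ ∈ PE := Finset.mem_filter.2 ⟨Finset.mem_univ _, hγ1, hP⟩
        rw [if_pos h4, (h.one γ hγ1).2 hP]
      · have h4 : γ ∉ PE := fun h5 => hP (Finset.mem_filter.1 h5).2.2
        rw [if_neg h4]
        rcases h.two γ hγ1 with h5 | h5
        · exact absurd ((h.one γ hγ1).1 h5) hP
        · rw [h5]
    have h4 : PE.card = ∑ γ ∈ E, (if γ ∈ PE then 1 else 0) := by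
      rw [Finset.sum_boole]
      simp only [Nat.cast_id]
      congr 1
      ext γ
      simp only [PE, E, Finset.mem_filter, Finset.mem_univ, true_and, Finset.mem_erase, ne_eq, and_true]
      tauto
    rw [h4, ← Finset.sum_add_distrib, Finset.sum_congr rfl h3, Finset.sum_const, hEcard, smul_eq_mul,
      mul_comm]
  have hcardS : ∀ x : X, ((Finset.univ.erase (1 : Γ)).filter (fun γ => γ • x = x)).card =
      Nat.card (stabilizer Γ x) - 1 := by
    intro x
    have h3 : (Finset.univ.erase (1 : Γ)).filter (fun γ => γ • x = x) =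
        (Finset.univ.filter (· ∈ stabilizer Γ x)).erase 1 := by
      ext γ
      simp only [Finset.mem_filter, Finset.mem_erase, Finset.mem_univ, mem_stabilizer_iff, and_true, true_and]
    rw [h3, Finset.card_erase_of_mem (Finset.mem_filter.2 ⟨Finset.mem_univ _, Subgroup.one_mem _⟩)]
    exact congrArg (· - 1) (hcardF _)
  have hsum2 : (∑ γ ∈ E, (Finset.univ.filter (fun x : X => γ • x = x)).card) =
      ∑ x : X, (Nat.card (stabilizer Γ x) - 1) := by
    refine hdc.trans (Finset.sum_congr rfl fun x _ => hcardS x)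
  -- split the sum
  let Om : Finset X := Finset.univ.filter (· ∈ orbit Γ v₀)
  let Rest : Finset X := Finset.univ.filter (fun x => ¬ x ∈ orbit Γ v₀)
  have hOmcard : Om.card = n := by
    rw [← hncard, ← Set.ncard_coe_finset]
    congr 1
    ext x
    simp [Om]
  have hsplit : ∑ x : X, (Nat.card (stabilizer Γ x) - 1) =
      n * (S₀ - 1) + ∑ x ∈ Rest, (Nat.card (stabilizer Γ x) - 1) := by
    rw [← Finset.sum_filter_add_sum_filter_not Finset.univ (· ∈ orbit Γ v₀)]
    congr 1
    rw [Finset.sum_congr rfl (g := fun _ => S₀ - 1) (fun x hx => by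
      rw [card_stabilizer_of_mem_orbit (Finset.mem_filter.1 hx).2])]
    rw [Finset.sum_const, smul_eq_mul]
    congr 1
  set T := ∑ x ∈ Rest, (Nat.card (stabilizer Γ x) - 1) with hT
  have hTeq : T + n * q + 2 = g + 2 * n := by
    have h3 : T + n * (S₀ - 1) + n * (q - 1) = 2 * (g - 1) := by
      rw [← hsum1, hsum2, hsplit, hPEcard]
      ring
    obtain ⟨a, ha⟩ : ∃ a, S₀ = a + 1 := ⟨S₀ - 1, by omega⟩
    obtain ⟨b, hb⟩ : ∃ b, q = b + 1 := ⟨q - 1, by omega⟩
    obtain ⟨d, hd⟩ : ∃ d, g = d + 1 := ⟨g - 1, by omega⟩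
    rw [ha, hb, hd] at h3
    simp only [Nat.add_sub_cancel] at h3
    have h4 : (a + 1) * n = d + 1 := by
      rw [← ha, ← hd]
      exact hgn
    rw [hb, hd]
    nlinarith
  have hgq : n * q ≤ g := by
    rw [← hgn, hc]
    have h3 := Nat.mul_le_mul_left (n * q) hc1
    calc n * q = n * q * 1 := (mul_one _).symm
      _ ≤ n * q * c := h3
      _ = q * c * n := by ring
  have hTpos : T ≠ 0 := by
    intro h0
    rw [h0] at hTeq
    omega
  obtain ⟨y₀, hy₀, hy₀1⟩ := Finset.exists_ne_zero_of_sum_ne_zero hTpos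
  have hy₀o : ¬ y₀ ∈ orbit Γ v₀ := (Finset.mem_filter.1 hy₀).2
  set e := Nat.card (stabilizer Γ y₀) with he
  have hepos : 0 < e := Nat.card_pos
  have he2 : 2 ≤ e := by omega
  -- an orbit in the remainder
  have horbit : ∀ y : X, y ∈ Rest → ∃ O : Finset X, O ⊆ Rest ∧ y ∈ O ∧ (∀ x, x ∈ O ↔ x ∈ orbit Γ y) ∧
      O.card = (orbit Γ y).ncard ∧
      ∑ x ∈ O, (Nat.card (stabilizer Γ x) - 1) = (orbit Γ y).ncard * (Nat.card (stabilizer Γ y) - 1) := by
    intro y hy
    have hyo : ¬ y ∈ orbit Γ v₀ := (Finset.mem_filter.1 hy).2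
    refine ⟨Finset.univ.filter (· ∈ orbit Γ y), ?_, ?_, ?_, ?_, ?_⟩
    · intro x hx
      have hx' : x ∈ orbit Γ y := (Finset.mem_filter.1 hx).2
      refine Finset.mem_filter.2 ⟨Finset.mem_univ _, fun hx2 => hyo ?_⟩
      rw [← orbit_eq_iff.2 hx2, orbit_eq_iff.2 hx']
      exact mem_orbit_self y
    · exact Finset.mem_filter.2 ⟨Finset.mem_univ _, mem_orbit_self y⟩
    · intro x
      simp
    · rw [← Set.ncard_coe_finset]
      congr 1
      ext x
      simp
    · rw [Finset.sum_congr rfl (g := fun _ => Nat.card (stabilizer Γ y) - 1) (fun x hx => by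
        rw [card_stabilizer_of_mem_orbit (Finset.mem_filter.1 hx).2])]
      rw [Finset.sum_const, smul_eq_mul]
      congr 1
      rw [← Set.ncard_coe_finset]
      congr 1
      ext x
      simp
  obtain ⟨O, hORest, hy₀O, hOmem, hOcard, hOsum⟩ := horbit y₀ hy₀
  set m := (orbit Γ y₀).ncard with hm
  have hme : e * m = g := card_orbit_mul_stabilizer y₀
  -- every other point has a trivial stabilizer
  have htriv : ∀ x ∈ Rest, x ∉ O → Nat.card (stabilizer Γ x) - 1 = 0 := by
    intro x hx hxO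
    by_contra hne1
    obtain ⟨O₁, hO₁Rest, hxO₁, hO₁mem, hO₁card, hO₁sum⟩ := horbit x hx
    have hdisj : Disjoint O O₁ := by
      rw [Finset.disjoint_left]
      intro w hw hw1
      apply hxO
      rw [hOmem]
      have h3 := (hOmem w).1 hw
      have h4 := (hO₁mem w).1 hw1
      rw [← orbit_eq_iff.2 h3, orbit_eq_iff.2 h4]
      exact mem_orbit_self x
    have h3 : ∑ z ∈ O ∪ O₁, (Nat.card (stabilizer Γ z) - 1) ≤ T :=
      Finset.sum_le_sum_of_subset (Finset.union_subset hORest hO₁Rest)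
    rw [Finset.sum_union hdisj, hOsum, hO₁sum] at h3
    have hm₁ := card_orbit_mul_stabilizer (Γ := Γ) x
    set e₁ := Nat.card (stabilizer Γ x) with he₁
    set m₁ := (orbit Γ x).ncard with hm₁d
    have h3' : m * (e - 1) + m₁ * (e₁ - 1) ≤ T := h3
    have he₁2 : 2 ≤ e₁ := by omega
    obtain ⟨e', he'⟩ : ∃ e', e = e' + 1 := ⟨e - 1, by omega⟩
    obtain ⟨e₁', hh⟩ : ∃ e', e₁ = e' + 1 := ⟨e₁ - 1, by omega⟩
    rw [he', hh] at h3'
    simp only [Nat.add_sub_cancel] at h3'
    have h1e : 1 ≤ e' := by omega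
    have h1e₁ : 1 ≤ e₁' := by omega
    have h5 : m ≤ m * e' := Nat.le_mul_of_pos_right _ (by omega)
    have h6 : m₁ ≤ m₁ * e₁' := Nat.le_mul_of_pos_right _ (by omega)
    have e5 : g = m * e' + m := by
      rw [← hme, he']
      ring
    have hm₁' : e₁ * m₁ = g := hm₁
    have e6 : g = m₁ * e₁' + m₁ := by
      rw [← hm₁', hh]
      ring
    have h7 : g ≤ T := by linarith
    have h8 := Nat.mul_le_mul_left n hq3
    linarith
  have hTm : T = m * (e - 1) := by
    rw [← hOsum]
    symm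
    apply Finset.sum_subset hORest
    exact htriv
  have hmT : T + m = g := by
    rw [hTm, ← hme]
    obtain ⟨e', he'⟩ : ∃ e', e = e' + 1 := ⟨e - 1, by omega⟩
    rw [he']
    simp only [Nat.add_sub_cancel]
    ring
  have hmval : m = n * (q - 2) + 2 := by
    obtain ⟨b, hb⟩ : ∃ b, q = b + 2 := ⟨q - 2, by omega⟩
    rw [hb] at hTeq ⊢
    simp only [Nat.add_sub_cancel]
    nlinarith
  refine arith hq3 h2 hmod hc1 hcq (e := e) ?_
  rw [← hmval, hme, ← hgn, hc]
  ring

end main

section reduct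

variable {Γ X : Type*} [Group Γ] [MulAction Γ X] {p : ℕ}

/-- The points fixed by some nonidentity element. -/
def supp (Γ X : Type*) [Group Γ] [MulAction Γ X] : SubMulAction Γ X where
  carrier := {x | ∃ γ : Γ, γ ≠ 1 ∧ γ • x = x}
  smul_mem' := by
    rintro g x ⟨γ, h1, h2⟩
    refine ⟨g * γ * g⁻¹, ?_, ?_⟩
    · intro h3
      apply h1
      have h4 : g * γ = g := mul_inv_eq_one.1 h3
      exact mul_eq_left.1 h4
    · simp [mul_smul, h2]

theorem ncard_fixedBy_supp {γ : Γ} (hγ : γ ≠ 1) :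
    (fixedBy (supp Γ X) γ).ncard = (fixedBy X γ).ncard := by
  have h1 : fixedBy X γ = Subtype.val '' (fixedBy (supp Γ X) γ) := by
    ext x
    constructor
    · intro hx
      exact ⟨⟨x, γ, hγ, hx⟩, Subtype.ext hx, rfl⟩
    · rintro ⟨y, hy, rfl⟩
      exact congrArg Subtype.val hy
  rw [h1, Set.ncard_image_of_injective _ Subtype.val_injective]

theorem hyp_supp (h : Hyp p Γ X) : Hyp p Γ (supp Γ X) where
  two := by
    intro γ hγ
    rw [ncard_fixedBy_supp hγ]
    exact h.two γ hγ
  one := by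
    intro γ hγ
    rw [ncard_fixedBy_supp hγ]
    exact h.one γ hγ
  mul := by
    intro x a b ha hb hpa hpb
    exact h.mul x a b (congrArg Subtype.val ha) (congrArg Subtype.val hb) hpa hpb

theorem finite_supp [Finite Γ] (h : Hyp p Γ X) : Finite (supp Γ X) := by
  have h1 : ((supp Γ X : SubMulAction Γ X) : Set X) = ⋃ γ : {γ : Γ // γ ≠ 1}, fixedBy X (γ : Γ) := by
    ext x
    constructor
    · rintro ⟨γ, h1, h2⟩
      exact Set.mem_iUnion.2 ⟨⟨γ, h1⟩, h2⟩
    · intro h3
      obtain ⟨⟨γ, h1⟩, h2⟩ := Set.mem_iUnion.1 h3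
      exact ⟨γ, h1, h2⟩
  have h2 : ((supp Γ X : SubMulAction Γ X) : Set X).Finite := by
    rw [h1]
    apply Set.finite_iUnion
    rintro ⟨γ, hγ⟩
    apply Set.finite_of_ncard_ne_zero
    rcases h.two γ hγ with h3 | h3 <;> rw [h3] <;> norm_num
  exact h2.to_subtype

variable [Finite Γ] [hpp : Fact p.Prime]

/-- The version for a possibly infinite set, with the orbit of the fixed point. -/
theorem main' (h : Hyp p Γ X) (hp : p ≠ 2) (h2 : 2 ≤ Nat.card (Sylow p Γ)) (P₀ : Sylow p Γ) {v₀ : X}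
    (hv₀ : ∀ s ∈ P₀, s • v₀ = v₀) :
    (orbit Γ v₀).ncard = Nat.card (Sylow p Γ) ∧
    (Nat.card (Sylow p Γ) = Nat.card (P₀ : Subgroup Γ) + 1 ∨
      (Nat.card (P₀ : Subgroup Γ) = 3 ∧ Nat.card (Sylow p Γ) = 10)) := by
  haveI := finite_supp h
  refine ⟨?_, main (hyp_supp h) hp h2 P₀⟩
  classical
  have hcardP : ∀ P : Sylow p Γ, Nat.card (P : Subgroup Γ) = Nat.card (P₀ : Subgroup Γ) := fun P =>
    Nat.card_congr (P.equiv P₀).toEquiv
  have hne : ∀ P : Sylow p Γ, (P : Subgroup Γ) ≠ ⊥ := by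
    intro P hP
    have h1 : Nat.card (P : Subgroup Γ) = 1 := by rw [hP]; exact Subgroup.card_bot
    have hall : ∀ Q : Sylow p Γ, (Q : Subgroup Γ) = ⊥ := by
      intro Q
      have := hcardP Q
      rw [← hcardP P, h1] at this
      exact Subgroup.card_eq_one.1 this
    have : Subsingleton (Sylow p Γ) := ⟨fun a b => Sylow.ext ((hall a).trans (hall b).symm)⟩
    have := Nat.card_of_subsingleton (α := Sylow p Γ) P₀
    omega
  choose pt hpt1 hpt2 using fun P => exists_pt h P (hne P)
  have hpt_inj : Function.Injective pt := by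
    intro P P' he
    exact eq_of_fix h (hpt1 P) (by rw [he]; exact hpt1 P')
  have hex1 : ∀ P : Sylow p Γ, ∃ s ∈ P, s ≠ 1 := by
    intro P
    obtain ⟨x, hx, hx1⟩ := (Subgroup.bot_or_exists_ne_one (P : Subgroup Γ)).resolve_left (hne P)
    exact ⟨x, hx, hx1⟩
  have hpt_uniq : ∀ (P : Sylow p Γ) (v : X), (∀ s ∈ P, s • v = v) → v = pt P := by
    intro P v hv
    obtain ⟨s, hs, hs1⟩ := hex1 P
    have : v ∈ fixedBy X s := hv s hs
    rw [hpt2 P s hs hs1] at this
    exact this
  have hpt_smul : ∀ (g : Γ) (P : Sylow p Γ), pt (g • P) = g • pt P := by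
    intro g P
    symm
    apply hpt_uniq
    intro s hs
    have h1 := hpt1 P _ (mem_smul_sylow hs)
    calc s • g • pt P = g • ((g⁻¹ * s * g) • pt P) := by
          simp only [smul_smul]
          congr 1
          group
      _ = g • pt P := by rw [h1]
  have hv₀' : v₀ = pt P₀ := hpt_uniq P₀ v₀ hv₀
  have hrange : Set.range pt = orbit Γ v₀ := by
    ext x
    constructor
    · rintro ⟨P, rfl⟩
      obtain ⟨a, ha⟩ := exists_smul_eq Γ P₀ P
      exact ⟨a, by
        show a • v₀ = pt P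
        rw [hv₀', ← hpt_smul, ha]⟩
    · rintro ⟨a, rfl⟩
      refine ⟨a • P₀, ?_⟩
      show pt (a • P₀) = a • v₀
      rw [hpt_smul, hv₀']
  rw [← hrange, ← Set.image_univ, Set.ncard_image_of_injective _ hpt_inj, Set.ncard_univ]

end reduct

end Cfsg.Agent.Lib.DicksonCount
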