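import Mathlib
import Cfsg.Agent.Lib.DicksonCount

/-! A weak form of Dickson's theorem on the subgroups of `SL₂` generated by two transvections. -/

set_option autoImplicit false
set_option linter.all false

namespace Cfsg.Agent.Lib.DicksonLite

open Cfsg.Agent.Lib.DicksonCount
open MulAction Matrix

section basics

variable {K : Type*} [Field K] [DecidableEq K]

/-- The action of `SL₂` on the projective line. -/
noncomputable def phi : Matrix.SpecialLinearGroup (Fin 2) K →* Equiv.Perm (OnePoint K) :=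
  (MulAction.toPermHom (GL (Fin 2) K) (OnePoint K)).comp Matrix.SpecialLinearGroup.toGL

theorem det_eq (g : Matrix.SpecialLinearGroup (Fin 2) K) : g 0 0 * g 1 1 - g 0 1 * g 1 0 = 1 := by
  have := g.2
  rwa [Matrix.det_fin_two] at this

theorem phi_apply (g : Matrix.SpecialLinearGroup (Fin 2) K) (x : OnePoint K) :
    phi g x = (Matrix.SpecialLinearGroup.toGL g) • x := rfl

theorem phi_infty (g : Matrix.SpecialLinearGroup (Fin 2) K) :
    phi g OnePoint.infty = if g 1 0 = 0 then OnePoint.infty else ((g 0 0 / g 1 0 : K) : OnePoint K) := by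
  rw [phi_apply, OnePoint.smul_infty_eq_ite]
  rfl

theorem phi_coe (g : Matrix.SpecialLinearGroup (Fin 2) K) (k : K) :
    phi g (k : OnePoint K) = if g 1 0 * k + g 1 1 = 0 then OnePoint.infty else
      (((g 0 0 * k + g 0 1) / (g 1 0 * k + g 1 1) : K) : OnePoint K) := by
  rw [phi_apply, OnePoint.smul_some_eq_ite]
  rfl

theorem fix_infty (g : Matrix.SpecialLinearGroup (Fin 2) K) :
    phi g OnePoint.infty = OnePoint.infty ↔ g 1 0 = 0 := by
  rw [phi_infty]
  split_ifs with h
  · simp [h]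
  · simp [h]

theorem fix_coe (g : Matrix.SpecialLinearGroup (Fin 2) K) (k : K) :
    phi g (k : OnePoint K) = (k : OnePoint K) ↔
      g 1 0 * k ^ 2 + (g 1 1 - g 0 0) * k - g 0 1 = 0 := by
  have hd := det_eq g
  rw [phi_coe]
  split_ifs with h
  · constructor
    · intro h1
      exact absurd h1 (OnePoint.infty_ne_coe k)
    · intro h1
      exfalso
      have h2 : g 0 0 * k + g 0 1 = 0 := by
        linear_combination k * h - h1
      have h3 : g 0 0 * g 1 1 - g 0 1 * g 1 0 = 0 := by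
        have h4 : g 1 1 = - (g 1 0 * k) := by linear_combination h
        have h5 : g 0 1 = - (g 0 0 * k) := by linear_combination h2
        rw [h4, h5]
        ring
      rw [hd] at h3
      exact one_ne_zero h3
  · rw [OnePoint.coe_eq_coe, div_eq_iff h]
    constructor
    · intro h1
      linear_combination -h1
    · intro h1
      linear_combination -h1

/-- An element acting trivially is scalar. -/
theorem scalar_of_phi (g : Matrix.SpecialLinearGroup (Fin 2) K) (hg : phi g = 1) :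
    g 1 0 = 0 ∧ g 0 1 = 0 ∧ g 0 0 = g 1 1 := by
  have h1 : g 1 0 = 0 := (fix_infty g).1 (by rw [hg]; rfl)
  have h2 := (fix_coe g 0).1 (by rw [hg]; rfl)
  have h3 := (fix_coe g 1).1 (by rw [hg]; rfl)
  rw [h1] at h2 h3
  have h4 : g 0 1 = 0 := by linear_combination -h2
  refine ⟨h1, h4, ?_⟩
  rw [h4] at h3
  linear_combination -h3

theorem phi_of_scalar (g : Matrix.SpecialLinearGroup (Fin 2) K) (h1 : g 1 0 = 0) (h2 : g 0 1 = 0)
    (h3 : g 0 0 = g 1 1) : phi g = 1 := by
  ext x
  induction x using OnePoint.rec with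
  | infty => exact (fix_infty g).2 h1
  | coe k =>
    apply (fix_coe g k).2
    rw [h1, h2, h3]
    ring

end basics

section count

variable {K : Type*} [Field K] [DecidableEq K]

/-- The set of fixed points of an element. -/
def Fx (g : Matrix.SpecialLinearGroup (Fin 2) K) : Set (OnePoint K) := {x | phi g x = x}

theorem fx_count [IsAlgClosed K] (h2 : (2 : K) ≠ 0) (g : Matrix.SpecialLinearGroup (Fin 2) K)
    (hg : phi g ≠ 1) :
    ((Fx g).ncard = 1 ∧ (g 0 0 + g 1 1) ^ 2 = 4) ∨ ((Fx g).ncard = 2 ∧ (g 0 0 + g 1 1) ^ 2 ≠ 4) := by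
  have hd := det_eq g
  by_cases hc : g 1 0 = 0
  · have hinf : OnePoint.infty ∈ Fx g := (fix_infty g).2 hc
    rw [hc] at hd
    by_cases had : g 0 0 = g 1 1
    · left
      have hb : g 0 1 ≠ 0 := fun hb => hg (phi_of_scalar g hc hb had)
      constructor
      · have : Fx g = {OnePoint.infty} := by
          ext x
          simp only [Set.mem_singleton_iff]
          constructor
          · intro hx
            induction x using OnePoint.rec with
            | infty => rfl
            | coe k =>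
              exfalso
              have h3 := (fix_coe g k).1 hx
              rw [hc, had] at h3
              apply hb
              linear_combination -h3
          · rintro rfl
            exact hinf
        rw [this, Set.ncard_singleton]
      · rw [← had]
        rw [← had] at hd
        linear_combination 4 * hd
    · right
      have hne : g 1 1 - g 0 0 ≠ 0 := fun h => had (by linear_combination -h)
      constructor
      · have : Fx g = {OnePoint.infty, ((g 0 1 / (g 1 1 - g 0 0) : K) : OnePoint K)} := by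
          ext x
          simp only [Set.mem_insert_iff, Set.mem_singleton_iff]
          constructor
          · intro hx
            induction x using OnePoint.rec with
            | infty => left; rfl
            | coe k =>
              right
              have h3 := (fix_coe g k).1 hx
              rw [hc] at h3
              rw [OnePoint.coe_eq_coe, eq_div_iff hne]
              linear_combination h3
          · rintro (rfl | rfl)
            · exact hinf
            · apply (fix_coe g _).2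
              rw [hc]
              field_simp
              ring
        rw [this, Set.ncard_pair (OnePoint.infty_ne_coe _)]
      · intro h3
        apply hne
        have : (g 1 1 - g 0 0) ^ 2 = 0 := by linear_combination h3 - 4 * hd
        exact pow_eq_zero_iff (two_ne_zero) |>.1 this
  · obtain ⟨w, hw⟩ := IsAlgClosed.exists_pow_nat_eq ((g 0 0 + g 1 1) ^ 2 - 4) (n := 2) (by norm_num)
    have hinf : ∀ x ∈ Fx g, x ≠ OnePoint.infty := by
      rintro x hx rfl
      exact hc ((fix_infty g).1 hx)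
    have h2c : 2 * g 1 0 ≠ 0 := mul_ne_zero h2 hc
    have hroot : ∀ k : K, (k : OnePoint K) ∈ Fx g ↔
        k = (g 0 0 - g 1 1 + w) / (2 * g 1 0) ∨ k = (g 0 0 - g 1 1 - w) / (2 * g 1 0) := by
      intro k
      show phi g (k : OnePoint K) = (k : OnePoint K) ↔ _
      rw [fix_coe, eq_div_iff h2c, eq_div_iff h2c]
      constructor
      · intro h3
        have h4 : (k * (2 * g 1 0) - (g 0 0 - g 1 1 + w)) * (k * (2 * g 1 0) - (g 0 0 - g 1 1 - w)) = 0 := by
          linear_combination 4 * g 1 0 * h3 - hw - 4 * hd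
        rcases mul_eq_zero.1 h4 with h5 | h5
        · left
          linear_combination h5
        · right
          linear_combination h5
      · intro h3
        have h4 : (k * (2 * g 1 0) - (g 0 0 - g 1 1 + w)) * (k * (2 * g 1 0) - (g 0 0 - g 1 1 - w)) = 0 := by
          rcases h3 with h5 | h5
          · rw [h5]; ring
          · rw [h5]; ring
        have h6 : 4 * g 1 0 * (g 1 0 * k ^ 2 + (g 1 1 - g 0 0) * k - g 0 1) = 0 := by
          linear_combination h4 + hw + 4 * hd
        have h7 : (4 : K) * g 1 0 ≠ 0 := by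
          have : (4 : K) = 2 * 2 := by norm_num
          rw [this]
          exact mul_ne_zero (mul_ne_zero h2 h2) hc
        exact (mul_eq_zero.1 h6).resolve_left h7
    by_cases hw0 : w = 0
    · left
      constructor
      · have : Fx g = {(((g 0 0 - g 1 1 + w) / (2 * g 1 0) : K) : OnePoint K)} := by
          ext x
          simp only [Set.mem_singleton_iff]
          constructor
          · intro hx
            induction x using OnePoint.rec with
            | infty => exact absurd rfl (hinf _ hx)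
            | coe k =>
              rcases (hroot k).1 hx with h5 | h5
              · rw [h5]
              · rw [h5, hw0]
                simp
          · rintro rfl
            exact (hroot _).2 (Or.inl rfl)
        rw [this, Set.ncard_singleton]
      · rw [hw0] at hw
        linear_combination -hw
    · right
      constructor
      · have : Fx g = {(((g 0 0 - g 1 1 + w) / (2 * g 1 0) : K) : OnePoint K),
            (((g 0 0 - g 1 1 - w) / (2 * g 1 0) : K) : OnePoint K)} := by
          ext x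
          simp only [Set.mem_insert_iff, Set.mem_singleton_iff]
          constructor
          · intro hx
            induction x using OnePoint.rec with
            | infty => exact absurd rfl (hinf _ hx)
            | coe k =>
              rcases (hroot k).1 hx with h5 | h5
              · left; rw [h5]
              · right; rw [h5]
          · rintro (rfl | rfl)
            · exact (hroot _).2 (Or.inl rfl)
            · exact (hroot _).2 (Or.inr rfl)
        rw [this, Set.ncard_pair]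
        intro h5
        rw [OnePoint.coe_eq_coe, div_left_inj' h2c] at h5
        apply hw0
        have : 2 * w = 0 := by linear_combination h5
        exact (mul_eq_zero.1 this).resolve_left h2
      · intro h3
        apply hw0
        have : w ^ 2 = 0 := by rw [hw, h3]; ring
        exact pow_eq_zero_iff (two_ne_zero) |>.1 this

theorem tr_mul_of_infty (g h : Matrix.SpecialLinearGroup (Fin 2) K) (h2 : (2 : K) ≠ 0)
    (hg : g 1 0 = 0) (hh : h 1 0 = 0)
    (hgt : (g 0 0 + g 1 1) ^ 2 = 4) (hht : (h 0 0 + h 1 1) ^ 2 = 4) :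
    ((g * h) 0 0 + (g * h) 1 1) ^ 2 = 4 := by
  have dg := det_eq g
  have dh := det_eq h
  rw [hg] at dg
  rw [hh] at dh
  have e1 : g 0 0 = g 1 1 := by
    have : (g 0 0 - g 1 1) ^ 2 = 0 := by linear_combination hgt - 4 * dg
    have := pow_eq_zero_iff (two_ne_zero) |>.1 this
    linear_combination this
  have e2 : h 0 0 = h 1 1 := by
    have : (h 0 0 - h 1 1) ^ 2 = 0 := by linear_combination hht - 4 * dh
    have := pow_eq_zero_iff (two_ne_zero) |>.1 this
    linear_combination this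
  rw [e1] at dg
  rw [e2] at dh
  have m00 : (g * h) 0 0 = g 0 0 * h 0 0 + g 0 1 * h 1 0 := by
    simp [Matrix.SpecialLinearGroup.coe_mul, Matrix.mul_apply, Fin.sum_univ_two]
  have m11 : (g * h) 1 1 = g 1 0 * h 0 1 + g 1 1 * h 1 1 := by
    simp [Matrix.SpecialLinearGroup.coe_mul, Matrix.mul_apply, Fin.sum_univ_two]
  rw [m00, m11, hg, hh, e1, e2]
  have d1 : g 1 1 ^ 2 = 1 := by linear_combination dg
  have d2 : h 1 1 ^ 2 = 1 := by linear_combination dh
  have : (g 1 1 * h 1 1 + g 0 1 * 0 + (0 * h 0 1 + g 1 1 * h 1 1)) ^ 2 = 4 * (g 1 1 ^ 2 * h 1 1 ^ 2) := by ring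
  rw [this, d1, d2]
  ring

theorem tr_mul_of_coe (g h : Matrix.SpecialLinearGroup (Fin 2) K) (h2 : (2 : K) ≠ 0) (k : K)
    (hg : phi g (k : OnePoint K) = k) (hh : phi h (k : OnePoint K) = k)
    (hgt : (g 0 0 + g 1 1) ^ 2 = 4) (hht : (h 0 0 + h 1 1) ^ 2 = 4) :
    ((g * h) 0 0 + (g * h) 1 1) ^ 2 = 4 := by
  have dg := det_eq g
  have dh := det_eq h
  have fg := (fix_coe g k).1 hg
  have fh := (fix_coe h k).1 hh
  set s := g 1 0 * k + g 1 1 with hs
  set s' := h 1 0 * k + h 1 1 with hs'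
  have e1 : s * (g 0 0 - g 1 0 * k) = 1 := by
    rw [hs]
    linear_combination dg - g 1 0 * fg
  have e1' : s' * (h 0 0 - h 1 0 * k) = 1 := by
    rw [hs']
    linear_combination dh - h 1 0 * fh
  have e2 : g 0 0 - g 1 0 * k = s := by
    have : (s - (g 0 0 - g 1 0 * k)) ^ 2 = 0 := by
      have : g 0 0 + g 1 1 = s + (g 0 0 - g 1 0 * k) := by rw [hs]; ring
      rw [this] at hgt
      linear_combination hgt - 4 * e1
    have := pow_eq_zero_iff (two_ne_zero) |>.1 this
    linear_combination -this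
  have e2' : h 0 0 - h 1 0 * k = s' := by
    have : (s' - (h 0 0 - h 1 0 * k)) ^ 2 = 0 := by
      have : h 0 0 + h 1 1 = s' + (h 0 0 - h 1 0 * k) := by rw [hs']; ring
      rw [this] at hht
      linear_combination hht - 4 * e1'
    have := pow_eq_zero_iff (two_ne_zero) |>.1 this
    linear_combination -this
  rw [e2] at e1
  rw [e2'] at e1'
  have m00 : (g * h) 0 0 = g 0 0 * h 0 0 + g 0 1 * h 1 0 := by
    simp [Matrix.SpecialLinearGroup.coe_mul, Matrix.mul_apply, Fin.sum_univ_two]
  have m11 : (g * h) 1 1 = g 1 0 * h 0 1 + g 1 1 * h 1 1 := by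
    simp [Matrix.SpecialLinearGroup.coe_mul, Matrix.mul_apply, Fin.sum_univ_two]
  have a00 : g 0 0 = s + g 1 0 * k := by linear_combination e2
  have a11 : g 1 1 = s - g 1 0 * k := by rw [hs]; ring
  have a01 : g 0 1 = - (g 1 0 * k ^ 2) := by
    rw [a00, a11] at fg
    linear_combination -fg
  have b00 : h 0 0 = s' + h 1 0 * k := by linear_combination e2'
  have b11 : h 1 1 = s' - h 1 0 * k := by rw [hs']; ring
  have b01 : h 0 1 = - (h 1 0 * k ^ 2) := by
    rw [b00, b11] at fh
    linear_combination -fh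
  rw [m00, m11, a00, a11, a01, b00, b11, b01]
  have : ((s + g 1 0 * k) * (s' + h 1 0 * k) + -(g 1 0 * k ^ 2) * h 1 0 +
      (g 1 0 * -(h 1 0 * k ^ 2) + (s - g 1 0 * k) * (s' - h 1 0 * k))) = 2 * (s * s') := by ring
  rw [this]
  have hss : s * s = 1 := e1
  have hss' : s' * s' = 1 := e1'
  have : (2 * (s * s')) ^ 2 = 4 * ((s * s) * (s' * s')) := by ring
  rw [this, hss, hss']
  ring

end count

section frob

variable {K : Type*} [Field K] [DecidableEq K] {p : ℕ} [hpp : Fact p.Prime] [CharP K p]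

theorem nil_sq (M : Matrix (Fin 2) (Fin 2) K) (e : K) (hd : M 0 0 * M 1 1 - M 0 1 * M 1 0 = 1)
    (hte : M 0 0 + M 1 1 = 2 * e) (hee : e ^ 2 = 1) : (e • M - 1) * (e • M - 1) = 0 := by
  ext i j
  fin_cases i <;> fin_cases j <;>
    simp [Matrix.mul_apply, Fin.sum_univ_two, Matrix.sub_apply, Matrix.one_apply]
  · linear_combination (M 0 0 ^ 2 + M 0 1 * M 1 0) * hee - hd + M 0 0 * hte
  · linear_combination e ^ 2 * M 0 1 * hte + 2 * e * M 0 1 * hee
  · linear_combination e ^ 2 * M 1 0 * hte + 2 * e * M 1 0 * hee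
  · linear_combination (M 1 1 ^ 2 + M 0 1 * M 1 0) * hee - hd + M 1 1 * hte

theorem isP_of_tr (h2 : (2 : K) ≠ 0) (g : Matrix.SpecialLinearGroup (Fin 2) K)
    (ht : (g 0 0 + g 1 1) ^ 2 = 4) : phi g ^ p = 1 := by
  have hd := det_eq g
  obtain ⟨e, hte⟩ : ∃ e : K, g 0 0 + g 1 1 = 2 * e := ⟨(g 0 0 + g 1 1) / 2, by field_simp⟩
  have hee : e ^ 2 = 1 := by
    rw [hte] at ht
    have h4 : (4 : K) ≠ 0 := by
      have : (4 : K) = 2 * 2 := by norm_num
      rw [this]
      exact mul_ne_zero h2 h2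
    have : 4 * (e ^ 2 - 1) = 0 := by linear_combination ht
    have := (mul_eq_zero.1 this).resolve_left h4
    linear_combination this
  have he0 : e ≠ 0 := by
    rintro rfl
    norm_num at hee
  have hN := nil_sq (g : Matrix (Fin 2) (Fin 2) K) e hd hte hee
  set N : Matrix (Fin 2) (Fin 2) K := e • (g : Matrix (Fin 2) (Fin 2) K) - 1 with hNd
  have hNp : N ^ p = 0 := by
    have h3 : p = (p - 2) + 2 := by
      have := hpp.out.two_le
      omega
    rw [h3, pow_add, pow_two, hN, mul_zero]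
  have h5 : (1 + N) ^ p = 1 := by
    rw [add_pow_expChar_of_commute _ (Commute.one_left N), hNp, one_pow, add_zero]
  have h6 : (1 + N) = e • (g : Matrix (Fin 2) (Fin 2) K) := by
    rw [hNd]
    abel
  rw [h6, smul_pow] at h5
  have h7 : ((g ^ p : Matrix.SpecialLinearGroup (Fin 2) K) : Matrix (Fin 2) (Fin 2) K) =
      (g : Matrix (Fin 2) (Fin 2) K) ^ p := Matrix.SpecialLinearGroup.coe_pow g p
  have hep : e ^ p ≠ 0 := pow_ne_zero _ he0
  have e10 : (g ^ p) 1 0 = 0 := by
    have := congrFun (congrFun h5 1) 0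
    simp only [Matrix.smul_apply, smul_eq_mul, Matrix.one_apply, Fin.isValue] at this
    have h8 : (g ^ p) 1 0 = ((g : Matrix (Fin 2) (Fin 2) K) ^ p) 1 0 := by rw [← h7]
    rw [h8]
    simpa [hep] using this
  have e01 : (g ^ p) 0 1 = 0 := by
    have := congrFun (congrFun h5 0) 1
    simp only [Matrix.smul_apply, smul_eq_mul, Matrix.one_apply, Fin.isValue] at this
    have h8 : (g ^ p) 0 1 = ((g : Matrix (Fin 2) (Fin 2) K) ^ p) 0 1 := by rw [← h7]
    rw [h8]
    simpa [hep] using this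
  have e00 : (g ^ p) 0 0 = (g ^ p) 1 1 := by
    have h9 := congrFun (congrFun h5 0) 0
    have h10 := congrFun (congrFun h5 1) 1
    simp only [Matrix.smul_apply, smul_eq_mul, Matrix.one_apply, Fin.isValue] at h9 h10
    have h8 : (g ^ p) 0 0 = ((g : Matrix (Fin 2) (Fin 2) K) ^ p) 0 0 := by rw [← h7]
    have h8' : (g ^ p) 1 1 = ((g : Matrix (Fin 2) (Fin 2) K) ^ p) 1 1 := by rw [← h7]
    rw [h8, h8']
    apply mul_left_cancel₀ hep
    simp at h9 h10
    rw [h9, h10]
  rw [← map_pow]
  exact phi_of_scalar _ e10 e01 e00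

theorem tr_of_isP [IsAlgClosed K] (h2 : (2 : K) ≠ 0) (g : Matrix.SpecialLinearGroup (Fin 2) K) (k : ℕ)
    (hk : phi g ^ p ^ k = 1) : (g 0 0 + g 1 1) ^ 2 = 4 := by
  have hd := det_eq g
  set q := p ^ k with hq
  rw [← map_pow] at hk
  obtain ⟨e10, e01, e00⟩ := scalar_of_phi _ hk
  have h7 : ((g ^ q : Matrix.SpecialLinearGroup (Fin 2) K) : Matrix (Fin 2) (Fin 2) K) =
      (g : Matrix (Fin 2) (Fin 2) K) ^ q := Matrix.SpecialLinearGroup.coe_pow g q
  set c := (g ^ q) 0 0 with hc
  have hG : (g : Matrix (Fin 2) (Fin 2) K) ^ q = c • (1 : Matrix (Fin 2) (Fin 2) K) := by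
    rw [← h7]
    ext i j
    fin_cases i <;> fin_cases j
    · simp [hc]
    · simpa using e01
    · simpa using e10
    · simpa [hc] using e00.symm
  have key : ∀ s : K, s ^ 2 - (g 0 0 + g 1 1) * s + 1 = 0 → c = s ^ q := by
    intro s hs
    haveI : Nonempty (Fin 2) := ⟨0⟩
    have hcomm : Commute (g : Matrix (Fin 2) (Fin 2) K) (s • (1 : Matrix (Fin 2) (Fin 2) K)) :=
      (Commute.one_right _).smul_right s
    have h1 := sub_pow_expChar_pow_of_commute (p := p) (n := k) hcomm
    rw [← hq, hG, smul_pow, one_pow] at h1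
    have h3 : ((g : Matrix (Fin 2) (Fin 2) K) - s • 1).det = 0 := by
      rw [Matrix.det_fin_two]
      simp [Matrix.sub_apply, Matrix.one_apply]
      linear_combination hd + hs
    have h4 := congrArg Matrix.det h1
    rw [Matrix.det_pow, h3, zero_pow (pow_ne_zero _ hpp.out.ne_zero), ← sub_smul, Matrix.det_smul] at h4
    simp at h4
    have h5 := h4.symm
    have h6 := (mul_self_eq_zero.1 (by simpa [pow_two] using h5) : c - s ^ q = 0)
    linear_combination h6
  obtain ⟨w, hw⟩ := IsAlgClosed.exists_pow_nat_eq ((g 0 0 + g 1 1) ^ 2 - 4) (n := 2) (by norm_num)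
  have e1 := key ((g 0 0 + g 1 1 + w) / 2) (by
    field_simp
    linear_combination hw)
  have e2 := key ((g 0 0 + g 1 1 - w) / 2) (by
    field_simp
    linear_combination hw)
  have e3 : ((g 0 0 + g 1 1 + w) / 2 - (g 0 0 + g 1 1 - w) / 2) ^ q = 0 := by
    rw [hq, sub_pow_expChar_pow, ← hq, ← e1, ← e2, sub_self]
  have e4 := pow_eq_zero_iff (pow_ne_zero k hpp.out.ne_zero) |>.1 e3
  have e5 : w = 0 := by
    have : w = (g 0 0 + g 1 1 + w) / 2 - (g 0 0 + g 1 1 - w) / 2 := by
      field_simp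
      ring
    rw [this, e4]
  rw [e5] at hw
  linear_combination -hw

end frob

section transv

variable {K : Type*} [Field K]

/-- Upper transvections. -/
def t₁ (a : K) : Matrix.SpecialLinearGroup (Fin 2) K :=
  ⟨!![1, a; 0, 1], by simp [Matrix.det_fin_two]⟩

/-- Lower transvections. -/
def t₂ (a : K) : Matrix.SpecialLinearGroup (Fin 2) K :=
  ⟨!![1, 0; a, 1], by simp [Matrix.det_fin_two]⟩

@[simp] theorem t₁_00 (a : K) : t₁ a 0 0 = 1 := rfl
@[simp] theorem t₁_01 (a : K) : t₁ a 0 1 = a := rfl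
@[simp] theorem t₁_10 (a : K) : t₁ a 1 0 = 0 := rfl
@[simp] theorem t₁_11 (a : K) : t₁ a 1 1 = 1 := rfl
@[simp] theorem t₂_00 (a : K) : t₂ a 0 0 = 1 := rfl
@[simp] theorem t₂_01 (a : K) : t₂ a 0 1 = 0 := rfl
@[simp] theorem t₂_10 (a : K) : t₂ a 1 0 = a := rfl
@[simp] theorem t₂_11 (a : K) : t₂ a 1 1 = 1 := rfl

theorem sl_ext {g h : Matrix.SpecialLinearGroup (Fin 2) K} (h00 : g 0 0 = h 0 0) (h01 : g 0 1 = h 0 1)
    (h10 : g 1 0 = h 1 0) (h11 : g 1 1 = h 1 1) : g = h := by
  apply Subtype.ext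
  ext i j
  fin_cases i <;> fin_cases j
  · exact h00
  · exact h01
  · exact h10
  · exact h11

theorem mul_00 (g h : Matrix.SpecialLinearGroup (Fin 2) K) : (g * h) 0 0 = g 0 0 * h 0 0 + g 0 1 * h 1 0 := by
  simp [Matrix.SpecialLinearGroup.coe_mul, Matrix.mul_apply, Fin.sum_univ_two]

theorem mul_01 (g h : Matrix.SpecialLinearGroup (Fin 2) K) : (g * h) 0 1 = g 0 0 * h 0 1 + g 0 1 * h 1 1 := by
  simp [Matrix.SpecialLinearGroup.coe_mul, Matrix.mul_apply, Fin.sum_univ_two]

theorem mul_10 (g h : Matrix.SpecialLinearGroup (Fin 2) K) : (g * h) 1 0 = g 1 0 * h 0 0 + g 1 1 * h 1 0 := by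
  simp [Matrix.SpecialLinearGroup.coe_mul, Matrix.mul_apply, Fin.sum_univ_two]

theorem mul_11 (g h : Matrix.SpecialLinearGroup (Fin 2) K) : (g * h) 1 1 = g 1 0 * h 0 1 + g 1 1 * h 1 1 := by
  simp [Matrix.SpecialLinearGroup.coe_mul, Matrix.mul_apply, Fin.sum_univ_two]

theorem t₁_add (a b : K) : t₁ a * t₁ b = t₁ (a + b) := by
  apply sl_ext <;> simp [mul_00, mul_01, mul_10, mul_11]
  exact add_comm _ _

theorem t₂_add (a b : K) : t₂ a * t₂ b = t₂ (a + b) := by
  apply sl_ext <;> simp [mul_00, mul_01, mul_10, mul_11]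

theorem t₁_zero : t₁ (0 : K) = 1 := by
  apply sl_ext <;> simp

theorem t₂_zero : t₂ (0 : K) = 1 := by
  apply sl_ext <;> simp

theorem t₁_inv (a : K) : (t₁ a)⁻¹ = t₁ (-a) := by
  rw [inv_eq_iff_mul_eq_one, t₁_add, add_neg_cancel, t₁_zero]

theorem t₂_inv (a : K) : (t₂ a)⁻¹ = t₂ (-a) := by
  rw [inv_eq_iff_mul_eq_one, t₂_add, add_neg_cancel, t₂_zero]

theorem t₁_pow (a : K) (n : ℕ) : t₁ a ^ n = t₁ ((n : K) * a) := by
  induction n with
  | zero => simp [t₁_zero]
  | succ n ih =>
    rw [pow_succ, ih, t₁_add]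
    congr 1
    push_cast
    ring

end transv

section hyp

variable {K : Type*} [Field K] [DecidableEq K] {p : ℕ} [hpp : Fact p.Prime] [CharP K p]

theorem hyp_map [IsAlgClosed K] (h2 : (2 : K) ≠ 0) (H : Subgroup (Matrix.SpecialLinearGroup (Fin 2) K)) :
    Hyp p ↥(H.map (phi (K := K))) (OnePoint K) where
  two := by
    rintro ⟨_, g, hg, rfl⟩ hγ
    have hg1 : phi g ≠ 1 := fun h => hγ (Subtype.ext h)
    rcases fx_count h2 g hg1 with h3 | h3
    · exact Or.inl h3.1
    · exact Or.inr h3.1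
  one := by
    rintro ⟨_, g, hg, rfl⟩ hγ
    have hg1 : phi g ≠ 1 := fun h => hγ (Subtype.ext h)
    constructor
    · intro h3
      refine ⟨1, Subtype.ext ?_⟩
      have h4 : (g 0 0 + g 1 1) ^ 2 = 4 := by
        rcases fx_count h2 g hg1 with h5 | h5
        · exact h5.2
        · have h6 : (fixedBy (OnePoint K) (⟨phi g, g, hg, rfl⟩ : ↥(H.map (phi (K := K))))).ncard = (Fx g).ncard := rfl
          rw [h6, h5.1] at h3
          omega
      have := isP_of_tr (p := p) h2 g h4
      simpa using this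
    · rintro ⟨k, hk⟩
      have h4 : phi g ^ p ^ k = 1 := congrArg Subtype.val hk
      have h5 := tr_of_isP h2 g k h4
      rcases fx_count h2 g hg1 with h6 | h6
      · exact h6.1
      · exact absurd h5 h6.2
  mul := by
    rintro x ⟨_, g, hg, rfl⟩ ⟨_, h, hh, rfl⟩ ha hb ⟨k, hk⟩ ⟨l, hl⟩
    have h4 : phi g ^ p ^ k = 1 := congrArg Subtype.val hk
    have h5 : phi h ^ p ^ l = 1 := congrArg Subtype.val hl
    have t1 := tr_of_isP h2 g k h4
    have t2 := tr_of_isP h2 h l h5
    have ha' : phi g x = x := ha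
    have hb' : phi h x = x := hb
    have t3 : ((g * h) 0 0 + (g * h) 1 1) ^ 2 = 4 := by
      induction x using OnePoint.rec with
      | infty => exact tr_mul_of_infty g h h2 ((fix_infty g).1 ha') ((fix_infty h).1 hb') t1 t2
      | coe k => exact tr_mul_of_coe g h h2 k ha' hb' t1 t2
    refine ⟨1, Subtype.ext ?_⟩
    have := isP_of_tr (p := p) h2 (g * h) t3
    simpa using this

theorem fx_t₁ (a : K) (ha : a ≠ 0) : Fx (t₁ a) = {OnePoint.infty} := by
  ext x
  simp only [Set.mem_singleton_iff]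
  constructor
  · intro hx
    induction x using OnePoint.rec with
    | infty => rfl
    | coe k =>
      exfalso
      have h3 := (fix_coe (t₁ a) k).1 hx
      simp at h3
      exact ha h3
  · rintro rfl
    exact (fix_infty _).2 rfl

theorem fx_t₂ (a : K) (ha : a ≠ 0) : Fx (t₂ a) = {((0 : K) : OnePoint K)} := by
  ext x
  simp only [Set.mem_singleton_iff]
  constructor
  · intro hx
    induction x using OnePoint.rec with
    | infty =>
      exfalso
      exact ha ((fix_infty (t₂ a)).1 hx)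
    | coe k =>
      have h3 := (fix_coe (t₂ a) k).1 hx
      simp at h3
      rw [OnePoint.coe_eq_coe]
      exact h3.resolve_left ha
  · rintro rfl
    apply (fix_coe _ _).2
    simp

theorem phi_t₁_coe (a k : K) : phi (t₁ a) (k : OnePoint K) = ((k + a : K) : OnePoint K) := by
  rw [phi_coe]
  simp

theorem phi_t₁_infty (a : K) : phi (t₁ a) OnePoint.infty = OnePoint.infty :=
  (fix_infty _).2 rfl

theorem phi_t₂_infty (a : K) (ha : a ≠ 0) : phi (t₂ a) OnePoint.infty = ((a⁻¹ : K) : OnePoint K) := by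
  rw [phi_infty]
  simp [ha]

theorem phi_t₂_coe (a k : K) (ha : a * k + 1 ≠ 0) :
    phi (t₂ a) (k : OnePoint K) = ((k / (a * k + 1) : K) : OnePoint K) := by
  rw [phi_coe]
  simp [ha]

/-- Unipotent elements fixing the point at infinity. -/
theorem unip_of_fix (hp : p ≠ 2) (h2 : (2 : K) ≠ 0) (H : Subgroup (Matrix.SpecialLinearGroup (Fin 2) K))
    {g : Matrix.SpecialLinearGroup (Fin 2) K} (hg : g ∈ H) (h0 : g 1 0 = 0)
    (ht : (g 0 0 + g 1 1) ^ 2 = 4) : ∃ b : K, t₁ b ∈ H ∧ phi g = phi (t₁ b) := by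
  have hd := det_eq g
  rw [h0] at hd
  have e1 : g 0 0 = g 1 1 := by
    have : (g 0 0 - g 1 1) ^ 2 = 0 := by linear_combination ht - 4 * hd
    have := pow_eq_zero_iff (two_ne_zero) |>.1 this
    linear_combination this
  rw [e1] at hd
  have e2 : (g 1 1 - 1) * (g 1 1 + 1) = 0 := by linear_combination hd
  rcases mul_eq_zero.1 e2 with e3 | e3
  · have e4 : g 1 1 = 1 := by linear_combination e3
    refine ⟨g 0 1, ?_, ?_⟩
    · have : g = t₁ (g 0 1) := by
        apply sl_ext <;> simp [e1, e4, h0]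
      rw [← this]
      exact hg
    · congr 1
      apply sl_ext <;> simp [e1, e4, h0]
  · have e4 : g 1 1 = -1 := by linear_combination e3
    -- `g = n₀ * t₁ (-b)` where `n₀ = -1`
    let n₀ : Matrix.SpecialLinearGroup (Fin 2) K :=
      ⟨!![-1, 0; 0, -1], by simp [Matrix.det_fin_two]⟩
    have n00 : n₀ 0 0 = -1 := rfl
    have n01 : n₀ 0 1 = 0 := rfl
    have n10 : n₀ 1 0 = 0 := rfl
    have n11 : n₀ 1 1 = -1 := rfl
    have hgdec : g = n₀ * t₁ (- g 0 1) := by
      apply sl_ext <;> simp [mul_00, mul_01, mul_10, mul_11, n00, n01, n10, n11, e1, e4, h0]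
    have hn2 : n₀ * n₀ = 1 := by
      apply sl_ext <;> simp [mul_00, mul_01, mul_10, mul_11, n00, n01, n10, n11]
    have hcomm : Commute n₀ (t₁ (- g 0 1)) := by
      show n₀ * t₁ (- g 0 1) = t₁ (- g 0 1) * n₀
      apply sl_ext <;> simp [mul_00, mul_01, mul_10, mul_11, n00, n01, n10, n11]
    have hpodd : Odd p := hpp.out.odd_of_ne_two hp
    have hnp : n₀ ^ p = n₀ := by
      obtain ⟨m, hm⟩ := hpodd
      rw [hm, pow_succ, pow_mul, pow_two, hn2, one_pow, one_mul]
    have htp : t₁ (- g 0 1) ^ p = 1 := by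
      rw [t₁_pow, CharP.cast_eq_zero K p, zero_mul, t₁_zero]
    have hn : n₀ ∈ H := by
      have h3 : g ^ p = n₀ := by
        rw [hgdec, hcomm.mul_pow, hnp, htp, mul_one]
      rw [← h3]
      exact H.pow_mem hg p
    have hphi : phi n₀ = 1 := phi_of_scalar n₀ n10 n01 (by rw [n00, n11])
    refine ⟨- g 0 1, ?_, ?_⟩
    · have : t₁ (- g 0 1) = n₀ * g := by
        rw [hgdec, ← mul_assoc, hn2, one_mul]
        simp [mul_00, mul_01, mul_10, mul_11, n00, n01, n10, n11]
      rw [this]
      exact H.mul_mem hn hg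
    · conv_lhs => rw [hgdec]
      rw [map_mul, hphi, one_mul]

end hyp

section dl

variable {K : Type*} [Field K] {p : ℕ} [hpp : Fact p.Prime] [CharP K p]

theorem exists_sylow_of_isP {Γ : Type*} [Group Γ] [Finite Γ] {γ : Γ} (h : IsP p γ) :
    ∃ Q : Sylow p Γ, γ ∈ Q := by
  obtain ⟨k, hk⟩ := h
  have h3 : IsPGroup p (Subgroup.zpowers γ) := by
    rintro ⟨a, ha⟩
    obtain ⟨m, rfl⟩ := Subgroup.mem_zpowers_iff.1 ha
    refine ⟨k, Subtype.ext ?_⟩
    show (γ ^ m) ^ p ^ k = 1
    rw [← zpow_natCast, ← _root_.zpow_mul, mul_comm, _root_.zpow_mul, zpow_natCast, hk, _root_.one_zpow]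
  obtain ⟨Q, hQ⟩ := h3.exists_le_sylow
  exact ⟨Q, hQ (Subgroup.mem_zpowers γ)⟩

set_option maxHeartbeats 4000000 in
/-- A weak form of Dickson's theorem. -/
theorem dickson_lite [IsAlgClosed K] (hp : p ≠ 2) (H : Subgroup (Matrix.SpecialLinearGroup (Fin 2) K))
    [Finite H] {lam : K} (hlam : lam ≠ 0) (h1 : t₁ lam ∈ H) (h2' : t₂ (1 : K) ∈ H) :
    t₁ (1 : K) ∈ H ∨ lam ^ 4 = 1 ∨ lam ^ 4 = -1 := by
  classical
  have h2 : (2 : K) ≠ 0 := by
    intro h
    have h3 : ((2 : ℕ) : K) = 0 := by exact_mod_cast h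
    have h4 := (CharP.cast_eq_zero_iff K p 2).1 h3
    exact hp ((Nat.prime_dvd_prime_iff_eq hpp.out Nat.prime_two).1 h4)
  let Γ : Subgroup (Equiv.Perm (OnePoint K)) := H.map (phi (K := K))
  have hyp : Hyp p ↥Γ (OnePoint K) := hyp_map h2 H
  haveI : Finite ↥Γ := by
    have : Function.Surjective (fun g : H => (⟨phi (g : Matrix.SpecialLinearGroup (Fin 2) K), (g : Matrix.SpecialLinearGroup (Fin 2) K), g.2, rfl⟩ : ↥Γ)) := by
      rintro ⟨_, g, hg, rfl⟩
      exact ⟨⟨g, hg⟩, rfl⟩
    exact Finite.of_surjective _ this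
  let mk (g : Matrix.SpecialLinearGroup (Fin 2) K) (hg : g ∈ H) : ↥Γ := ⟨phi g, g, hg, rfl⟩
  have hmk : ∀ (g) (hg : g ∈ H) (x : OnePoint K), mk g hg • x = phi g x := fun _ _ _ => rfl
  have hfxs : ∀ (g) (hg : g ∈ H), fixedBy (OnePoint K) (mk g hg) = Fx g := fun _ _ => rfl
  have hisP : ∀ (g) (hg : g ∈ H), (g 0 0 + g 1 1) ^ 2 = 4 → IsP p (mk g hg) := by
    intro g hg ht
    refine ⟨1, Subtype.ext ?_⟩
    have := isP_of_tr (p := p) h2 g ht
    simpa [mk] using this
  have h4 : (4 : K) = (1 + 1) ^ 2 := by norm_num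
  have ht₁ : ∀ a : K, (t₁ a 0 0 + t₁ a 1 1) ^ 2 = 4 := by
    intro a
    simp only [t₁_00, t₁_11]
    rw [h4]
  have ht₂ : ∀ a : K, (t₂ a 0 0 + t₂ a 1 1) ^ 2 = 4 := by
    intro a
    simp only [t₂_00, t₂_11]
    rw [h4]
  have hne1 : mk (t₁ lam) h1 ≠ 1 := by
    intro h
    have h3 : phi (t₁ lam) = 1 := congrArg Subtype.val h
    have := (scalar_of_phi _ h3).2.1
    exact hlam this
  have hne2 : mk (t₂ (1 : K)) h2' ≠ 1 := by
    intro h
    have h3 : phi (t₂ (1 : K)) = 1 := congrArg Subtype.val h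
    have := (scalar_of_phi _ h3).1
    simp at this
  obtain ⟨P₀, hP₀⟩ := exists_sylow_of_isP (hisP _ h1 (ht₁ lam))
  obtain ⟨Q₀, hQ₀⟩ := exists_sylow_of_isP (hisP _ h2' (ht₂ 1))
  have hP₀ne : (P₀ : Subgroup ↥Γ) ≠ ⊥ := by
    intro h
    have hP₀' : mk (t₁ lam) h1 ∈ (P₀ : Subgroup ↥Γ) := hP₀
    rw [h] at hP₀'
    exact hne1 hP₀'
  have hQ₀ne : (Q₀ : Subgroup ↥Γ) ≠ ⊥ := by
    intro h
    have hQ₀' : mk (t₂ (1 : K)) h2' ∈ (Q₀ : Subgroup ↥Γ) := hQ₀
    rw [h] at hQ₀'
    exact hne2 hQ₀'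
  obtain ⟨v, hv, hv2⟩ := exists_pt hyp P₀ hP₀ne
  obtain ⟨w, hw, hw2⟩ := exists_pt hyp Q₀ hQ₀ne
  have hvinf : v = OnePoint.infty := by
    have h3 := hv2 _ hP₀ hne1
    rw [hfxs _ h1, fx_t₁ lam hlam] at h3
    exact (Set.singleton_eq_singleton_iff.1 h3).symm
  have hw0 : w = ((0 : K) : OnePoint K) := by
    have h3 := hw2 _ hQ₀ hne2
    rw [hfxs _ h2', fx_t₂ 1 one_ne_zero] at h3
    exact (Set.singleton_eq_singleton_iff.1 h3).symm
  subst hvinf
  subst hw0
  have hPQ : P₀ ≠ Q₀ := by
    rintro rfl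
    have h3 : ((0 : K) : OnePoint K) ∈ Fx (t₁ lam) := hw _ hP₀
    rw [fx_t₁ lam hlam] at h3
    exact OnePoint.coe_ne_infty _ h3
  have hn2 : 2 ≤ Nat.card (Sylow p ↥Γ) := by
    haveI : Finite (Sylow p ↥Γ) := inferInstance
    have : Nontrivial (Sylow p ↥Γ) := ⟨P₀, Q₀, hPQ⟩
    exact Finite.one_lt_card
  obtain ⟨hΩcard, hcases⟩ := main' hyp hp hn2 P₀ hv
  set Ω := orbit ↥Γ (OnePoint.infty : OnePoint K) with hΩ
  have hΩpos : 0 < Ω.ncard := by omega
  have hΩfin : Ω.Finite := Set.finite_of_ncard_pos hΩpos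
  have hΩg : ∀ (g) (_ : g ∈ H) (x), x ∈ Ω → phi g x ∈ Ω := by
    intro g hg x hx
    obtain ⟨a, rfl⟩ := hx
    refine ⟨mk g hg * a, ?_⟩
    show (mk g hg * a) • (OnePoint.infty : OnePoint K) = phi g (a • OnePoint.infty)
    rw [mul_smul]
    rfl
  have hΩinf : (OnePoint.infty : OnePoint K) ∈ Ω := mem_orbit_self _
  have hΩ0 : ((0 : K) : OnePoint K) ∈ Ω := by
    obtain ⟨a, ha⟩ := exists_smul_eq ↥Γ P₀ Q₀
    have h3 : a • (OnePoint.infty : OnePoint K) ∈ fixedBy (OnePoint K) (mk (t₂ (1 : K)) h2') := by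
      show mk (t₂ (1 : K)) h2' • a • (OnePoint.infty : OnePoint K) = a • OnePoint.infty
      have h5 : mk (t₂ (1 : K)) h2' ∈ (a • P₀ : Sylow p ↥Γ) := by
        rw [ha]
        exact hQ₀
      have h6 := hv _ (mem_smul_sylow h5)
      rw [smul_smul]
      have h7 : mk (t₂ (1 : K)) h2' * a = a * (a⁻¹ * mk (t₂ (1 : K)) h2' * a) := by group
      rw [h7, mul_smul, h6]
    rw [hw2 _ hQ₀ hne2] at h3
    have h5 : a • (OnePoint.infty : OnePoint K) = ((0 : K) : OnePoint K) := h3
    rw [← h5]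
    exact ⟨a, rfl⟩
  have hΩ1 : ((1 : K) : OnePoint K) ∈ Ω := by
    have := hΩg _ h2' _ hΩinf
    rwa [phi_t₂_infty 1 one_ne_zero, inv_one] at this
  have hm1 : t₂ (-1 : K) ∈ H := by
    rw [← t₂_inv]
    exact H.inv_mem h2'
  have hΩm1 : ((-1 : K) : OnePoint K) ∈ Ω := by
    have := hΩg _ hm1 _ hΩinf
    rw [phi_t₂_infty (-1) (neg_ne_zero.2 one_ne_zero)] at this
    simpa using this
  -- the translations
  have hΩtr : ∀ a k : K, t₁ a ∈ H → (k : OnePoint K) ∈ Ω → ((k + a : K) : OnePoint K) ∈ Ω := by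
    intro a k ha hk
    have := hΩg _ ha _ hk
    rwa [phi_t₁_coe] at this
  have hΩU : ∀ a : K, t₁ a ∈ H → (a : OnePoint K) ∈ Ω := by
    intro a ha
    have := hΩtr a 0 ha hΩ0
    rwa [zero_add] at this
  -- the order of the Sylow subgroup
  let U : Set K := {a | t₁ a ∈ H}
  have hUcard : U.ncard = Nat.card (P₀ : Subgroup ↥Γ) := by
    rw [← Nat.card_coe_set_eq]
    let ee : ↥U → ↥(P₀ : Subgroup ↥Γ) := fun a => ⟨mk (t₁ (a : K)) a.2, by
      apply mem_of_fix hyp P₀ hv
      · exact phi_t₁_infty _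
      · exact hisP _ a.2 (ht₁ _)⟩
    have hee : Function.Bijective ee := by
      constructor
      · intro a b hab
        have h3 : phi (t₁ (a : K)) = phi (t₁ (b : K)) := congrArg (fun x : ↥(P₀ : Subgroup ↥Γ) => ((x : ↥Γ) : Equiv.Perm (OnePoint K))) hab
        have h5 := congrArg (fun f : Equiv.Perm (OnePoint K) => f ((0 : K) : OnePoint K)) h3
        simp only [phi_t₁_coe, zero_add, OnePoint.coe_eq_coe] at h5
        exact Subtype.ext h5
      · rintro ⟨⟨_, g, hg, rfl⟩, hs⟩
        have h3 : phi g OnePoint.infty = OnePoint.infty := hv _ hs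
        obtain ⟨kk, hk⟩ := isP_of_mem P₀ hs
        have h5 : phi g ^ p ^ kk = 1 := congrArg Subtype.val hk
        have h6 := tr_of_isP h2 g kk h5
        obtain ⟨b, hb, hb2⟩ := unip_of_fix hp h2 H hg ((fix_infty g).1 h3) h6
        refine ⟨⟨b, hb⟩, ?_⟩
        apply Subtype.ext
        apply Subtype.ext
        exact hb2.symm
    exact Nat.card_congr (Equiv.ofBijective ee hee)
  have hS₁ : insert (OnePoint.infty : OnePoint K) ((fun a : K => (a : OnePoint K)) '' U) ⊆ Ω := by
    rintro x (rfl | ⟨a, ha, rfl⟩)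
    · exact hΩinf
    · exact hΩU a ha
  have hcoe_inj : Function.Injective (fun a : K => (a : OnePoint K)) := OnePoint.coe_injective
  have hS₁card : (insert (OnePoint.infty : OnePoint K) ((fun a : K => (a : OnePoint K)) '' U)).ncard =
      Nat.card (P₀ : Subgroup ↥Γ) + 1 := by
    have hUfin : U.Finite := by
      apply Set.Finite.of_injOn (f := fun a : K => (a : OnePoint K)) (t := Ω) _ hcoe_inj.injOn hΩfin
      intro a ha
      exact hΩU a ha
    rw [Set.ncard_insert_of_notMem _ (hUfin.image _), Set.ncard_image_of_injective _ hcoe_inj, hUcard]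
    rintro ⟨a, -, ha⟩
    exact OnePoint.coe_ne_infty a ha
  rcases hcases with hc | ⟨hq3, hn10⟩
  · left
    have h3 := Set.eq_of_subset_of_ncard_le hS₁ (by rw [hS₁card, hΩcard, hc]) hΩfin
    rw [← h3] at hΩ1
    rcases hΩ1 with h5 | ⟨a, ha, h5⟩
    · exact absurd h5 (OnePoint.coe_ne_infty _)
    · have : a = 1 := OnePoint.coe_injective h5
      rw [← this]
      exact ha
  · by_cases h1U : t₁ (1 : K) ∈ H
    · exact Or.inl h1U
    right
    -- the characteristic
    have hp3 : p = 3 := by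
      obtain ⟨k, hk⟩ := IsPGroup.iff_card.1 P₀.isPGroup'
      rw [hq3] at hk
      have h5 : p ∣ 3 := by
        rw [hk]
        apply dvd_pow_self
        rintro rfl
        simp at hk
      exact (Nat.prime_dvd_prime_iff_eq hpp.out Nat.prime_three).1 h5
    subst hp3
    have h30 : (3 : K) = 0 := by
      have : ((3 : ℕ) : K) = 0 := CharP.cast_eq_zero K 3
      exact_mod_cast this
    have hl1 : lam ≠ 1 := by
      rintro rfl
      exact h1U h1
    have hl2 : lam ≠ -1 := by
      rintro rfl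
      apply h1U
      have := H.inv_mem h1
      rw [t₁_inv, neg_neg] at this
      exact this
    let c : Fin 3 → K := ![0, 1, -1]
    have hc0 : c 0 = 0 := rfl
    have hc1 : c 1 = 1 := rfl
    have hc2 : c 2 = -1 := rfl
    have hcd : ∀ i j : Fin 3, (c i - c j = 0 ∧ i = j) ∨ (c i - c j = 1) ∨ (c i - c j = -1) := by
      intro i j
      fin_cases i <;> fin_cases j
      · exact Or.inl ⟨by show (0 : K) - 0 = 0; ring, rfl⟩
      · exact Or.inr (Or.inr (by show (0 : K) - 1 = -1; ring))
      · exact Or.inr (Or.inl (by show (0 : K) - (-1) = 1; ring))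
      · exact Or.inr (Or.inl (by show (1 : K) - 0 = 1; ring))
      · exact Or.inl ⟨by show (1 : K) - 1 = 0; ring, rfl⟩
      · exact Or.inr (Or.inr (by show (1 : K) - (-1) = -1; linear_combination h30))
      · exact Or.inr (Or.inr (by show (-1 : K) - 0 = -1; ring))
      · exact Or.inr (Or.inl (by show (-1 : K) - 1 = 1; linear_combination -h30))
      · exact Or.inl ⟨by show (-1 : K) - (-1) = 0; ring, rfl⟩
    have hcval : ∀ i : Fin 3, c i = 0 ∨ c i = 1 ∨ c i = -1 := by
      intro i
      fin_cases i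
      · exact Or.inl rfl
      · exact Or.inr (Or.inl rfl)
      · exact Or.inr (Or.inr rfl)
    let f : Fin 3 × Fin 3 → K := fun ij => c ij.1 * lam + c ij.2
    have hne10 : (1 : K) ≠ 0 := one_ne_zero
    have hnem : (0 : K) ≠ -1 := by
      intro h
      apply hne10
      linear_combination h
    have hfinj : Function.Injective f := by
      rintro ⟨i, j⟩ ⟨i', j'⟩ hij
      have h3 : c i * lam + c j = c i' * lam + c j' := hij
      have h5 : (c i - c i') * lam = c j' - c j := by linear_combination h3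
      rcases hcd i i' with ⟨h6, rfl⟩ | h6 | h6
      · rw [h6, zero_mul] at h5
        rcases hcd j' j with ⟨h7, rfl⟩ | h7 | h7
        · rfl
        · rw [h7] at h5
          exact absurd h5.symm hne10
        · rw [h7] at h5
          exact absurd h5 hnem
      · rw [h6, one_mul] at h5
        exfalso
        rcases hcd j' j with ⟨h7, -⟩ | h7 | h7
        · rw [h7] at h5
          exact hlam h5
        · rw [h7] at h5
          exact hl1 h5
        · rw [h7] at h5
          exact hl2 h5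
      · exfalso
        have h8 : lam = c j - c j' := by linear_combination -h5 + (lam) * h6
        rcases hcd j j' with ⟨h7, -⟩ | h7 | h7
        · rw [h7] at h8
          exact hlam h8
        · rw [h7] at h8
          exact hl1 h8
        · rw [h7] at h8
          exact hl2 h8
    let S₂ : Set (OnePoint K) := insert OnePoint.infty (Set.range (fun ij => ((f ij : K) : OnePoint K)))
    have hS₂card : S₂.ncard = 10 := by
      have hinj : Function.Injective (fun ij => ((f ij : K) : OnePoint K)) :=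
        OnePoint.coe_injective.comp hfinj
      have h3 : (Set.range (fun ij => ((f ij : K) : OnePoint K))).ncard = 9 := by
        rw [← Set.image_univ, Set.ncard_image_of_injective _ hinj, Set.ncard_univ, Nat.card_prod]
        simp
      rw [Set.ncard_insert_of_notMem _ (Set.toFinite _), h3]
      rintro ⟨ij, h5⟩
      exact OnePoint.coe_ne_infty _ h5
    have hc_mem : ∀ i : Fin 3, t₁ (c i * lam) ∈ H := by
      intro i
      rcases hcval i with h3 | h3 | h3
      · rw [h3, zero_mul, t₁_zero]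
        exact H.one_mem
      · rw [h3, one_mul]
        exact h1
      · rw [h3, neg_one_mul, ← t₁_inv]
        exact H.inv_mem h1
    have hc_Ω : ∀ j : Fin 3, ((c j : K) : OnePoint K) ∈ Ω := by
      intro j
      rcases hcval j with h3 | h3 | h3
      · rw [h3]
        exact hΩ0
      · rw [h3]
        exact hΩ1
      · rw [h3]
        exact hΩm1
    have hS₂ : S₂ ⊆ Ω := by
      rintro x (rfl | ⟨⟨i, j⟩, rfl⟩)
      · exact hΩinf
      · have := hΩtr _ _ (hc_mem i) (hc_Ω j)
        rw [add_comm] at this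
        exact this
    have hS₂Ω : S₂ = Ω := Set.eq_of_subset_of_ncard_le hS₂ (by rw [hS₂card, hΩcard, hn10]) hΩfin
    have hlp : 1 * lam + 1 ≠ 0 := by
      intro h
      apply hl2
      linear_combination h
    have h3 := hΩg _ h2' _ (hΩU lam h1)
    rw [phi_t₂_coe 1 lam hlp, ← hS₂Ω] at h3
    rcases h3 with h3 | ⟨⟨i, j⟩, h3⟩
    · exact absurd h3 (OnePoint.coe_ne_infty _)
    have h5 : c i * lam + c j = lam / (1 * lam + 1) := OnePoint.coe_injective h3
    rw [eq_div_iff hlp] at h5
    rcases hcval i with ei | ei | ei <;> rcases hcval j with ej | ej | ej <;> rw [ei, ej] at h5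
    · exact absurd (by linear_combination -h5) hlam
    · exact absurd (by linear_combination h5) hne10
    · exact absurd (by linear_combination h5 + lam * h30) hl1
    · have h6 : lam ^ 2 = 0 := by linear_combination h5
      exact absurd (pow_eq_zero_iff (two_ne_zero) |>.1 h6) hlam
    · have h6 : (lam - 1) ^ 2 = 0 := by linear_combination h5 - lam * h30
      have h7 := pow_eq_zero_iff (two_ne_zero) |>.1 h6
      exact absurd (by linear_combination h7) hl1
    · right
      linear_combination (lam ^ 2 + lam + 2) * h5 + (lam + 1) * h30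
    · have h6 : lam * (lam + 2) = 0 := by linear_combination -h5
      have h7 := (mul_eq_zero.1 h6).resolve_left hlam
      exact absurd (by linear_combination h7 - h30) hl1
    · right
      linear_combination -(lam ^ 2 - lam + 2) * h5 + (1 - lam) * h30
    · left
      linear_combination -(lam ^ 2 - 1) * h5 - lam * (lam ^ 2 - 1) * h30

end dl

section pair

variable {F : Type*} [Field F]

theorem dickson_alg [Finite F] {p : ℕ} [hpp : Fact p.Prime] [CharP F p] (hp : p ≠ 2)
    (H : Subgroup (Matrix.SpecialLinearGroup (Fin 2) F)) {lam : F} (hlam : lam ≠ 0)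
    (h1 : t₁ lam ∈ H) (h2 : t₂ (1 : F) ∈ H) : t₁ (1 : F) ∈ H ∨ lam ^ 4 = 1 ∨ lam ^ 4 = -1 := by
  classical
  let K := AlgebraicClosure F
  let ι : F →+* K := algebraMap F K
  haveI : CharP K p := charP_of_injective_algebraMap (algebraMap F K).injective p
  let φ : Matrix.SpecialLinearGroup (Fin 2) F →* Matrix.SpecialLinearGroup (Fin 2) K :=
    Matrix.SpecialLinearGroup.map ι
  have hφ : ∀ (g : Matrix.SpecialLinearGroup (Fin 2) F) (i j : Fin 2), φ g i j = ι (g i j) := fun _ _ _ => rfl
  have hinj : Function.Injective φ := by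
    intro a b hab
    apply Subtype.ext
    ext i j
    apply ι.injective
    rw [← hφ, ← hφ, hab]
  have ht1 : ∀ a : F, φ (t₁ a) = t₁ (ι a) := by
    intro a
    apply sl_ext <;> simp [hφ]
  have ht2 : ∀ a : F, φ (t₂ a) = t₂ (ι a) := by
    intro a
    apply sl_ext <;> simp [hφ]
  haveI : Finite (Matrix.SpecialLinearGroup (Fin 2) F) := by
    exact Finite.of_injective (fun g => (g : Matrix (Fin 2) (Fin 2) F)) Subtype.val_injective
  haveI : Finite ↥(H.map φ) := by
    have : Function.Surjective (fun g : H => (⟨φ g, (g : Matrix.SpecialLinearGroup (Fin 2) F), g.2, rfl⟩ : ↥(H.map φ))) := by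
      rintro ⟨_, g, hg, rfl⟩
      exact ⟨⟨g, hg⟩, rfl⟩
    exact Finite.of_surjective _ this
  have h3 : ι lam ≠ 0 := fun h => hlam (ι.injective (by rw [h, map_zero]))
  have h4 : t₁ (ι lam) ∈ H.map φ := ⟨t₁ lam, h1, ht1 lam⟩
  have h5 : t₂ (1 : K) ∈ H.map φ := ⟨t₂ 1, h2, by rw [ht2, map_one]⟩
  rcases dickson_lite hp (H.map φ) h3 h4 h5 with h6 | h6 | h6
  · left
    obtain ⟨g, hg, hg2⟩ := h6
    rw [← map_one ι, ← ht1] at hg2
    rw [← hinj hg2]
    exact hg
  · right; left
    apply ι.injective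
    rw [map_pow, h6, map_one]
  · right; right
    apply ι.injective
    rw [map_pow, h6, map_neg, map_one]

theorem dickson_pair [Finite F] {p : ℕ} [hpp : Fact p.Prime] [CharP F p] (hp : p ≠ 2)
    (H : Subgroup (Matrix.SpecialLinearGroup (Fin 2) F)) {lam : F} (hlam : lam ≠ 0)
    (h1 : t₁ lam ∈ H) (h2 : t₂ (1 : F) ∈ H) :
    ∃ h₁ ∈ H, ∃ h₂ ∈ H, ∃ f₁ f₂ : Fin 2 → F,
      (h₁ : Matrix (Fin 2) (Fin 2) F).mulVec f₁ = f₁ ∧
      (h₁ : Matrix (Fin 2) (Fin 2) F).mulVec f₂ = f₂ + f₁ ∧
      (h₂ : Matrix (Fin 2) (Fin 2) F).mulVec f₁ = f₁ + f₂ ∧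
      (h₂ : Matrix (Fin 2) (Fin 2) F).mulVec f₂ = f₂ ∧
      f₁ 0 * f₂ 1 - f₁ 1 * f₂ 0 ≠ 0 := by
  have hmv : ∀ (g : Matrix.SpecialLinearGroup (Fin 2) F) (v : Fin 2 → F),
      (g : Matrix (Fin 2) (Fin 2) F).mulVec v = ![g 0 0 * v 0 + g 0 1 * v 1, g 1 0 * v 0 + g 1 1 * v 1] := by
    intro g v
    ext i
    fin_cases i <;> simp [Matrix.mulVec, dotProduct, Fin.sum_univ_two]
  rcases dickson_alg hp H hlam h1 h2 with h3 | h3 | h3
  · refine ⟨t₁ 1, h3, t₂ 1, h2, ![1, 0], ![0, 1], ?_, ?_, ?_, ?_, ?_⟩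
    · rw [hmv]
      ext i
      fin_cases i <;> simp
    · rw [hmv]
      ext i
      fin_cases i <;> simp
    · rw [hmv]
      ext i
      fin_cases i <;> simp
    · rw [hmv]
      ext i
      fin_cases i <;> simp
    · simp
  all_goals
    obtain ⟨e, he, he2, he3⟩ : ∃ e : F, e = - lam ^ 4 ∧ e ^ 2 = 1 ∧ t₁ (e * lam) ∈ H := by
      rcases h3 with h3
      refine ⟨_, rfl, by rw [h3]; ring, ?_⟩
      rw [h3]
      first
        | (have : -(1 : F) * lam = -lam := by ring
           rw [this, ← t₁_inv]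
           exact H.inv_mem h1)
        | (have : - -(1 : F) * lam = lam := by ring
           rw [this]
           exact h1)
    let x₂ := t₂ (1 : F) * t₁ lam * (t₂ (1 : F))⁻¹
    have hx₂ : x₂ ∈ H := H.mul_mem (H.mul_mem h2 h1) (H.inv_mem h2)
    have hinv : x₂⁻¹ = t₂ (1 : F) * t₁ (-lam) * t₂ (-1 : F) := by
      show (t₂ (1 : F) * t₁ lam * (t₂ (1 : F))⁻¹)⁻¹ = _
      rw [_root_.mul_inv_rev, _root_.mul_inv_rev, inv_inv, t₁_inv, t₂_inv, mul_assoc]
    have ex00 : x₂ 0 0 = 1 - lam := by
      show (t₂ (1 : F) * t₁ lam * (t₂ (1 : F))⁻¹) 0 0 = _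
      rw [t₂_inv]
      simp [mul_00, mul_01, mul_10, mul_11]
      ring
    have ex01 : x₂ 0 1 = lam := by
      show (t₂ (1 : F) * t₁ lam * (t₂ (1 : F))⁻¹) 0 1 = _
      rw [t₂_inv]
      simp [mul_00, mul_01, mul_10, mul_11]
    have ex10 : x₂ 1 0 = -lam := by
      show (t₂ (1 : F) * t₁ lam * (t₂ (1 : F))⁻¹) 1 0 = _
      rw [t₂_inv]
      simp [mul_00, mul_01, mul_10, mul_11]
    have ex11 : x₂ 1 1 = 1 + lam := by
      show (t₂ (1 : F) * t₁ lam * (t₂ (1 : F))⁻¹) 1 1 = _
      rw [t₂_inv]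
      simp [mul_00, mul_01, mul_10, mul_11]
      ring
    have ey00 : x₂⁻¹ 0 0 = 1 + lam := by
      rw [hinv]
      simp [mul_00, mul_01, mul_10, mul_11]
    have ey01 : x₂⁻¹ 0 1 = -lam := by
      rw [hinv]
      simp [mul_00, mul_01, mul_10, mul_11]
    have ey10 : x₂⁻¹ 1 0 = lam := by
      rw [hinv]
      simp [mul_00, mul_01, mul_10, mul_11]
    have ey11 : x₂⁻¹ 1 1 = 1 - lam := by
      rw [hinv]
      simp [mul_00, mul_01, mul_10, mul_11]
      ring
    let h₂ := x₂ * t₁ (e * lam) * x₂⁻¹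
    have hh₂ : h₂ ∈ H := H.mul_mem (H.mul_mem hx₂ he3) (H.inv_mem hx₂)
    have eh00 : h₂ 0 0 = 1 + e * lam * (lam * (1 - lam)) := by
      simp only [h₂, mul_00, mul_01, mul_10, mul_11, ex00, ex01, ex10, ex11, ey00, ey01, ey10, ey11, t₁_00, t₁_01, t₁_10, t₁_11]
      ring
    have eh01 : h₂ 0 1 = e * lam * (1 - lam) ^ 2 := by
      simp only [h₂, mul_00, mul_01, mul_10, mul_11, ex00, ex01, ex10, ex11, ey00, ey01, ey10, ey11, t₁_00, t₁_01, t₁_10, t₁_11]
      ring
    have eh10 : h₂ 1 0 = - (e * lam * lam ^ 2) := by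
      simp only [h₂, mul_00, mul_01, mul_10, mul_11, ex00, ex01, ex10, ex11, ey00, ey01, ey10, ey11, t₁_00, t₁_01, t₁_10, t₁_11]
      ring
    have eh11 : h₂ 1 1 = 1 - e * lam * (lam * (1 - lam)) := by
      simp only [h₂, mul_00, mul_01, mul_10, mul_11, ex00, ex01, ex10, ex11, ey00, ey01, ey10, ey11, t₁_00, t₁_01, t₁_10, t₁_11]
      ring
    have hl4 : lam ^ 4 = - e := by rw [he]; ring
    refine ⟨t₁ lam, h1, h₂, hh₂, ![1, 0], ![lam ^ 2 * e * (1 - lam), lam ^ 2 * e * (-lam)], ?_, ?_, ?_, ?_, ?_⟩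
    · rw [hmv]
      ext i
      fin_cases i <;> simp
    · rw [hmv]
      ext i
      fin_cases i
      · simp
        linear_combination (-e) * hl4 + he2
      · simp
    · rw [hmv, eh00, eh01, eh10, eh11]
      ext i
      fin_cases i
      · simp
        ring
      · simp
        ring
    · rw [hmv, eh00, eh01, eh10, eh11]
      ext i
      fin_cases i
      · simp
        ring
      · simp
        ring
    · have he0 : e ≠ 0 := by
        rintro rfl
        norm_num at he2
      have : (![1, 0] : Fin 2 → F) 0 * (![lam ^ 2 * e * (1 - lam), lam ^ 2 * e * (-lam)] : Fin 2 → F) 1 -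
          (![1, 0] : Fin 2 → F) 1 * (![lam ^ 2 * e * (1 - lam), lam ^ 2 * e * (-lam)] : Fin 2 → F) 0 = lam ^ 2 * e * (-lam) := by
        simp
      rw [this]
      exact mul_ne_zero (mul_ne_zero (pow_ne_zero _ hlam) he0) (neg_ne_zero.2 hlam)

end pair

end Cfsg.Agent.Lib.DicksonLite
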