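import Mathlib
import Cfsg.Agent.Lib.SylowIn
import Cfsg.Agent.Lib.SylowCount
import Cfsg.Agent.Lib.SolvCore

/-! Groups with a cyclic Sylow `2`-subgroup; conjugating a `p`-subgroup into a Sylow subgroup
inside an overgroup of it. -/

set_option autoImplicit false

namespace Cfsg.Agent.Lib.H5Cyc

variable {G : Type*} [Group G] [Finite G]

/-- A `p`-subgroup of an overgroup `M` of the Sylow subgroup `S` can be conjugated into `S` by an
element of `M`. -/
theorem conj_into {p : ℕ} [Fact p.Prime] (S : Sylow p G) (M : Subgroup G) (hSM : (S : Subgroup G) ≤ M)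
    (T : Subgroup G) (hTM : T ≤ M) (hT : IsPGroup p T) :
    ∃ u ∈ M, ∀ x ∈ T, u * x * u⁻¹ ∈ (S : Subgroup G) := by
  have hT' : IsPGroup p (T.subgroupOf M) := hT.of_equiv (Subgroup.subgroupOfEquivOfLe hTM).symm
  obtain ⟨g, hg⟩ := Cfsg.Agent.Lib.SylowIn.exists_conj_mem_sylow (S.subtype hSM) hT'
  refine ⟨g, g.2, fun x hx => ?_⟩
  have := hg ⟨x, hTM hx⟩ hx
  exact this

/-- The normalizer of a cyclic Sylow `2`-subgroup centralizes it. -/
theorem normalizer_le_centralizer (P : Sylow 2 G) (hc : IsCyclic (P : Subgroup G)) :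
    Subgroup.normalizer ((P : Subgroup G) : Set G) ≤ Subgroup.centralizer ((P : Subgroup G) : Set G) := by
  classical
  have hcomm : ∀ a ∈ (P : Subgroup G), ∀ b ∈ (P : Subgroup G), a * b = b * a := by
    intro a ha b hb
    obtain ⟨g, hg⟩ := IsCyclic.exists_generator (α := (P : Subgroup G))
    obtain ⟨i, hi⟩ := hg ⟨a, ha⟩
    obtain ⟨j, hj⟩ := hg ⟨b, hb⟩
    have hi' : (g : G) ^ i = a := congrArg Subtype.val hi
    have hj' : (g : G) ^ j = b := congrArg Subtype.val hj
    rw [← hi', ← hj']
    exact ((Commute.refl (g : G)).zpow_zpow i j).eq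
  have hPC : (P : Subgroup G) ≤ Subgroup.centralizer ((P : Subgroup G) : Set G) := by
    intro a ha
    rw [Subgroup.mem_centralizer_iff]
    intro b hb
    exact hcomm b hb a ha
  have h1 := Cfsg.Agent.Lib.SylowCount.relIndex_centralizer_dvd_card_mulAut (P : Subgroup G)
  have h2 : IsPGroup 2 (MulAut (P : Subgroup G)) :=
    Cfsg.Agent.Lib.SolvCore.isPGroup_mulAut_of_cyclic P.isPGroup' hc
  obtain ⟨e, he⟩ := IsPGroup.iff_card.1 h2
  rw [he] at h1
  have h3 : (Subgroup.centralizer ((P : Subgroup G) : Set G)).relIndex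
      (Subgroup.normalizer ((P : Subgroup G) : Set G)) ∣ (P : Subgroup G).index := by
    have h4 := Subgroup.relIndex_dvd_of_le_left (Subgroup.normalizer ((P : Subgroup G) : Set G)) hPC
    exact h4.trans (Subgroup.relIndex_dvd_index_of_le Subgroup.le_normalizer)
  obtain ⟨j, -, hj⟩ := (Nat.dvd_prime_pow Nat.prime_two).1 h1
  have hj0 : j = 0 := by
    by_contra h0
    apply P.not_dvd_index
    rw [hj] at h3
    exact (dvd_pow_self 2 h0).trans h3
  rw [hj0, pow_zero] at hj
  exact Subgroup.relIndex_eq_one.1 hj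

/-- Burnside: a cyclic Sylow `2`-subgroup has a normal complement. -/
theorem exists_normal_complement (P : Sylow 2 G) (hc : IsCyclic (P : Subgroup G)) :
    ∃ K : Subgroup G, K.Normal ∧ K.IsComplement' (P : Subgroup G) := by
  have hN := normalizer_le_centralizer P hc
  exact ⟨(MonoidHom.transferSylow P hN).ker, inferInstance,
    MonoidHom.ker_transferSylow_isComplement' P hN⟩

end Cfsg.Agent.Lib.H5Cyc
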