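import Mathlib
import Cfsg.Prelude
import Cfsg.Agent.Lib.DadeGen
import Cfsg.Agent.Lib.Central
import Cfsg.Agent.Lib.CharIso

/-!
# An involution which is the only involution of its centralizer

The Dade set-up attached to `C(z)`, and the moment relation coming from the fact that the product
of two conjugates of `z` has odd order.
-/

set_option autoImplicit false
set_option linter.all false

namespace Cfsg.Agent.Lib.ZsCore

open Cfsg Cfsg.Agent.Lib.DadeIso Cfsg.Agent.Lib.DadeGen Cfsg.Agent.Lib.CharGen Cfsg.Agent.Lib.CharOps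
  Cfsg.Agent.Lib.CharIrr Cfsg.Agent.Lib.CharIso
open scoped ComplexConjugate

universe u

section basic

variable {G : Type u} [Group G]

/-- `z` is an involution and the only involution of its centralizer. -/
def UInv (z : G) : Prop := orderOf z = 2 ∧ ∀ x : G, x * z = z * x → orderOf x = 2 → x = z

/-- The elements of even order of `C(z)`. -/
def AZ (z : G) : Set G := {a | a * z = z * a ∧ ¬ Odd (orderOf a)}

/-- The centralizer. -/
abbrev CZ (z : G) : Subgroup G := Subgroup.centralizer ({z} : Set G)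

theorem mem_CZ {z x : G} : x ∈ CZ z ↔ x * z = z * x := by
  rw [Subgroup.mem_centralizer_singleton_iff]

theorem orderOf_cj (g x : G) : orderOf (g * x * g⁻¹) = orderOf x :=
  orderOf_injective (MulAut.conj g).toMonoidHom (MulAut.conj g).injective x

theorem UInv.conj {z : G} (h : UInv z) (g : G) : UInv (g * z * g⁻¹) := by
  refine ⟨by rw [orderOf_cj]; exact h.1, fun x hx hxo => ?_⟩
  have h1 : g⁻¹ * x * g = z := by
    apply h.2
    · have h2 : g⁻¹ * (x * (g * z * g⁻¹)) * g = g⁻¹ * ((g * z * g⁻¹) * x) * g := by rw [hx]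
      calc g⁻¹ * x * g * z = g⁻¹ * (x * (g * z * g⁻¹)) * g := by group
        _ = g⁻¹ * ((g * z * g⁻¹) * x) * g := h2
        _ = z * (g⁻¹ * x * g) := by group
    · have := orderOf_cj (g⁻¹) x
      rw [inv_inv] at this
      rw [this]; exact hxo
  rw [← h1]; group

/-- An element of even order has an involution among its powers. -/
theorem exists_pow_involution {a : G} (ha : ¬ Odd (orderOf a)) (h0 : orderOf a ≠ 0) :
    ∃ k : ℕ, orderOf (a ^ k) = 2 := by
  rw [Nat.not_odd_iff_even] at ha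
  obtain ⟨m, hm⟩ := ha
  refine ⟨m, ?_⟩
  have hm0 : 0 < m := by
    rcases Nat.eq_zero_or_pos m with h | h
    · subst h
      exact absurd (by simpa using hm) h0
    · exact h
  have h3 : orderOf a = m * 2 := by omega
  have h2 := orderOf_pow_orderOf_div (x := a) (n := 2) h0 ⟨m, by omega⟩
  have h1 : orderOf a / 2 = m := by omega
  rwa [h1] at h2

theorem UInv.mem_zpowers {z a : G} (h : UInv z) (ha : a ∈ AZ z) (h0 : orderOf a ≠ 0) :
    z ∈ Subgroup.zpowers a := by
  obtain ⟨k, hk⟩ := exists_pow_involution ha.2 h0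
  have h1 : a ^ k * z = z * a ^ k := ((Commute.pow_left (show Commute a z from ha.1) k)).eq
  have h2 := h.2 _ h1 hk
  rw [← h2]
  exact Subgroup.npow_mem_zpowers a k

variable [Finite G]

theorem UInv.centralizer_le {z a : G} (h : UInv z) (ha : a ∈ AZ z) :
    Subgroup.centralizer ({a} : Set G) ≤ CZ z := by
  intro y hy
  have h1 := h.mem_zpowers ha (orderOf_pos a).ne'
  obtain ⟨k, hk⟩ := Subgroup.mem_zpowers_iff.1 h1
  have h2 : Commute y a := Subgroup.mem_centralizer_singleton_iff.1 hy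
  rw [mem_CZ, ← hk]
  exact (h2.zpow_right k).eq

/-- An element normalizing... sending an element of `AZ` into `AZ` centralizes `z`. -/
theorem UInv.mem_of_conj {z a g : G} (h : UInv z) (ha : a ∈ AZ z) (hg : g * a * g⁻¹ ∈ AZ z) :
    g ∈ CZ z := by
  obtain ⟨k, hk⟩ := Subgroup.mem_zpowers_iff.1 (h.mem_zpowers ha (orderOf_pos a).ne')
  obtain ⟨l, hl⟩ := Subgroup.mem_zpowers_iff.1 (h.mem_zpowers hg (orderOf_pos _).ne')
  have h1 : g * z * g⁻¹ = (g * a * g⁻¹) ^ k := by
    rw [conj_zpow, hk]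
  have h2 : (g * z * g⁻¹) * z = z * (g * z * g⁻¹) := by
    rw [h1]
    have h4 := ((Commute.refl (g * a * g⁻¹)).zpow_zpow k l).eq
    rwa [hl] at h4
  have h3 := h.2 _ h2 (by rw [orderOf_cj]; exact h.1)
  rw [mem_CZ]
  calc g * z = g * z * g⁻¹ * g := by group
    _ = z * g := by rw [h3]

theorem UInv.dade {z : G} (h : UInv z) : DadeHypothesis (AZ z) (CZ z) (fun _ => ⊥) := by
  refine ⟨?_, ?_, ?_, ?_, ?_, ?_, ?_, ?_, ?_⟩
  · intro h1
    apply h1.2
    simp
  · intro a ha
    exact mem_CZ.2 ha.1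
  · intro x hx a ha
    refine ⟨?_, by rw [orderOf_cj]; exact ha.2⟩
    have h1 : Commute x z := mem_CZ.1 hx
    have h2 : Commute a z := ha.1
    exact ((h1.mul_left h2).mul_left h1.inv_left).eq
  · intro a ha g hg
    exact ⟨g, h.mem_of_conj ha hg, rfl⟩
  · intro a _ u hu
    rw [Subgroup.mem_bot] at hu
    subst hu
    exact one_mem _
  · intro a _ c _ u hu
    rw [Subgroup.mem_bot] at hu ⊢
    subst hu
    simp
  · intro a _
    exact bot_inf_eq _
  · intro a ha
    rw [bot_sup_eq]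
    exact inf_eq_right.2 (h.centralizer_le ha)
  · intro a _ b _
    simp

/-- The product of two "unique involutions" has odd order. -/
theorem UInv.odd_mul {x y : G} (hx : UInv x) (hy : UInv y) : Odd (orderOf (x * y)) := by
  by_contra hodd
  obtain ⟨k, hk⟩ := exists_pow_involution hodd (orderOf_pos _).ne'
  have hxx : x * x = 1 := by
    have := pow_orderOf_eq_one x
    rwa [hx.1, pow_two] at this
  have hyy : y * y = 1 := by
    have := pow_orderOf_eq_one y
    rwa [hy.1, pow_two] at this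
  have hc : ((x * y) ^ k) * ((x * y) ^ k) = 1 := by
    have := pow_orderOf_eq_one ((x * y) ^ k)
    rwa [hk, pow_two] at this
  have hcinv : ((x * y) ^ k)⁻¹ = (x * y) ^ k := inv_eq_of_mul_eq_one_left hc
  have hxi : x⁻¹ = x := inv_eq_of_mul_eq_one_left hxx
  have hyi : y⁻¹ = y := inv_eq_of_mul_eq_one_left hyy
  have e1 : x * (x * y) * x⁻¹ = (x * y)⁻¹ := by
    rw [hxi, mul_inv_rev, hxi, hyi, ← mul_assoc, hxx, one_mul]
  have e2 : y * (x * y) * y⁻¹ = (x * y)⁻¹ := by
    rw [hyi, mul_inv_rev, hxi, hyi]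
    calc y * (x * y) * y = y * x * (y * y) := by group
      _ = y * x := by rw [hyy, mul_one]
  have c1 : (x * y) ^ k * x = x * (x * y) ^ k := by
    have h3 : x * (x * y) ^ k * x⁻¹ = (x * y) ^ k := by
      rw [← conj_pow, e1, inv_pow, hcinv]
    calc (x * y) ^ k * x = (x * (x * y) ^ k * x⁻¹) * x := by rw [h3]
      _ = x * (x * y) ^ k := by group
  have c2 : (x * y) ^ k * y = y * (x * y) ^ k := by
    have h3 : y * (x * y) ^ k * y⁻¹ = (x * y) ^ k := by
      rw [← conj_pow, e2, inv_pow, hcinv]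
    calc (x * y) ^ k * y = (y * (x * y) ^ k * y⁻¹) * y := by rw [h3]
      _ = y * (x * y) ^ k := by group
  have h1 := hx.2 _ c1 hk
  have h2 := hy.2 _ c2 hk
  apply hodd
  have e : x = y := h1.symm.trans h2
  rw [← e, hxx]
  simp

end basic

section tau

variable {G : Type u} [Group G] [Fintype G]

/-- The Dade map from `C(z)` to `G`. -/
noncomputable abbrev tau (z : G) : (CZ z → ℂ) → G → ℂ := dadeIsometry (AZ z) (CZ z) (fun _ => ⊥)

variable {z : G}

theorem tau_val (h : UInv z) {α : CZ z → ℂ} (hα : IsClassFunction (CZ z) α) {a : CZ z} (ha : (a : G) ∈ AZ z)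
    {x g : G} (e : x * g * x⁻¹ = a) : tau z α g = α a :=
  dade_eq h.dade hα ha (x := x) (u := 1) (one_mem _) (by rw [e, mul_one])

theorem tau_of_not {α : CZ z → ℂ} {g : G} (hg : ∀ x : G, x * g * x⁻¹ ∉ AZ z) : tau z α g = 0 := by
  apply dade_of_not
  rintro ⟨a, ha, x, u, hu, e⟩
  rw [Subgroup.mem_bot] at hu
  rw [hu, mul_one] at e
  exact hg x (e ▸ ha)

theorem tau_of_odd {α : CZ z → ℂ} {g : G} (hg : Odd (orderOf g)) : tau z α g = 0 :=
  tau_of_not fun x hx => hx.2 (by rwa [orderOf_cj])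

theorem tau_isClass (h : UInv z) {α : CZ z → ℂ} (hα : IsClassFunction (CZ z) α) : IsClassFunction G (tau z α) :=
  dade_class h.dade hα

theorem tau_gen (h : UInv z) {α : CZ z → ℂ} (hα : IsGeneralizedCharacter (CZ z) α)
    (hodd : ∀ c : CZ z, Odd (orderOf (c : G)) → α c = 0) : IsGeneralizedCharacter G (tau z α) :=
  dade_isGen h.dade hα (fun c hc => by
    apply hodd
    by_contra hne
    exact hc ⟨mem_CZ.1 c.2, hne⟩)

variable [Fintype (CZ z)]

theorem tau_inner (h : UInv z) {α β : CZ z → ℂ} (hα : IsClassFunction (CZ z) α) (hβ : IsClassFunction (CZ z) β)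
    (hodd : ∀ c : CZ z, Odd (orderOf (c : G)) → α c = 0) :
    classInner (tau z α) (tau z β) = classInner α β :=
  inner_dade_dade h.dade hα (fun c hc => by
    apply hodd
    by_contra hne
    exact hc ⟨mem_CZ.1 c.2, hne⟩) hβ

theorem tau_res (h : UInv z) {α : CZ z → ℂ} (hα : IsClassFunction (CZ z) α)
    (hodd : ∀ c : CZ z, Odd (orderOf (c : G)) → α c = 0) (χ : G → ℂ) (hχ : IsClassFunction G χ) :
    classInner (tau z α) χ = classInner α (fun c : CZ z => χ c) := by
  refine inner_dade_class h.dade hα (fun c hc => by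
    apply hodd
    by_contra hne
    exact hc ⟨mem_CZ.1 c.2, hne⟩) χ _ hχ ?_
  intro a _
  simp

theorem tau_add (α β : CZ z → ℂ) : tau z (α + β) = tau z α + tau z β := by
  classical
  funext g
  by_cases hw : ∃ a : CZ z, (a : G) ∈ AZ z ∧ ∃ x : G, ∃ u ∈ (⊥ : Subgroup G), x * g * x⁻¹ = (a : G) * u
  · simp only [tau, dadeIsometry, Pi.add_apply, dif_pos hw]
  · simp only [tau, dadeIsometry, Pi.add_apply, dif_neg hw, add_zero]

theorem tau_smul (c : ℂ) (α : CZ z → ℂ) : tau z (c • α) = c • tau z α := by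
  classical
  funext g
  by_cases hw : ∃ a : CZ z, (a : G) ∈ AZ z ∧ ∃ x : G, ∃ u ∈ (⊥ : Subgroup G), x * g * x⁻¹ = (a : G) * u
  · simp only [tau, dadeIsometry, Pi.smul_apply, dif_pos hw]
  · simp only [tau, dadeIsometry, Pi.smul_apply, dif_neg hw, smul_zero]

end tau

section moment

variable {G : Type u} [Group G] [Fintype G] {z : G}

/-- The double sum over conjugates of `z`. -/
noncomputable def W2 (z : G) (f : G → ℂ) : ℂ :=
  open scoped Classical in
  ∑ x : G, ∑ y : G, (if IsConj x z then (1 : ℂ) else 0) * (if IsConj y z then (1 : ℂ) else 0) * f (x * y)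

theorem W2_irr {χ : G → ℂ} (hχ : IsIrrCharacter G χ) (z : G) :
    W2 z χ = ((Subgroup.centralizer ({z} : Set G)).index : ℂ) ^ 2 * (χ z ^ 2 / χ 1) := by
  classical
  obtain ⟨n, ρ, hρ, rfl⟩ := hχ
  have h1 := Cfsg.Agent.Lib.Central.central_mul_central ρ hρ z z
  have h0 : ρ.character 1 ≠ 0 := degree_ne_zero ⟨n, ρ, hρ, rfl⟩
  unfold W2
  convert h1.symm using 1
  unfold centralChar
  field_simp

theorem W2_of_odd (h : UInv z) {f : G → ℂ} (hf : ∀ g, Odd (orderOf g) → f g = 0) : W2 z f = 0 := by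
  classical
  unfold W2
  refine Finset.sum_eq_zero fun x _ => Finset.sum_eq_zero fun y _ => ?_
  split_ifs with hx hy
  · obtain ⟨g, hg⟩ := isConj_iff.1 hx
    obtain ⟨g', hg'⟩ := isConj_iff.1 hy
    have h1 : UInv x := by
      have := h.conj g⁻¹
      have e : g⁻¹ * z * g⁻¹⁻¹ = x := by rw [← hg]; group
      rwa [e] at this
    have h2 : UInv y := by
      have := h.conj g'⁻¹
      have e : g'⁻¹ * z * g'⁻¹⁻¹ = y := by rw [← hg']; group
      rwa [e] at this
    rw [hf _ (h1.odd_mul h2), mul_zero]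
  · simp
  · simp
  · simp

theorem W2_add (f f' : G → ℂ) : W2 z (f + f') = W2 z f + W2 z f' := by
  classical
  unfold W2
  rw [← Finset.sum_add_distrib]
  refine Finset.sum_congr rfl fun x _ => ?_
  rw [← Finset.sum_add_distrib]
  refine Finset.sum_congr rfl fun y _ => ?_
  simp only [Pi.add_apply]
  ring

theorem W2_sub (f f' : G → ℂ) : W2 z (f - f') = W2 z f - W2 z f' := by
  classical
  unfold W2
  rw [← Finset.sum_sub_distrib]
  refine Finset.sum_congr rfl fun x _ => ?_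
  rw [← Finset.sum_sub_distrib]
  refine Finset.sum_congr rfl fun y _ => ?_
  simp only [Pi.sub_apply]
  ring

/-- The second moment relation. -/
theorem moment (h : UInv z) {χ χ' : G → ℂ} (hχ : IsIrrCharacter G χ) (hχ' : IsIrrCharacter G χ')
    (hv : ∀ g, Odd (orderOf g) → 1 + χ' g - χ g = 0) :
    1 - χ z ^ 2 / χ 1 + χ' z ^ 2 / χ' 1 = 0 := by
  have h1 : W2 z ((fun _ => (1 : ℂ)) + χ' - χ) = 0 := W2_of_odd h (fun g hg => hv g hg)
  rw [W2_sub, W2_add, W2_irr hχ, W2_irr hχ', W2_irr isIrr_one] at h1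
  have hn : ((Subgroup.centralizer ({z} : Set G)).index : ℂ) ≠ 0 := by
    exact_mod_cast Subgroup.index_ne_zero_of_finite
  have h2 : ((Subgroup.centralizer ({z} : Set G)).index : ℂ) ^ 2 ≠ 0 := pow_ne_zero _ hn
  apply mul_left_cancel₀ h2
  rw [mul_zero, ← h1]
  ring

end moment

section pair

variable {G : Type u} [Group G] [Fintype G]

/-- A generalized character of norm two. -/
theorem exists_two_of_norm_two {a : G → ℂ} (ha : IsGeneralizedCharacter G a)
    (h : classInner a a = 2) :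
    ∃ (ψ₁ ψ₂ : IrrCharacter G) (n₁ n₂ : ℤ), ψ₁ ≠ ψ₂ ∧ (n₁ = 1 ∨ n₁ = -1) ∧ (n₂ = 1 ∨ n₂ = -1) ∧
      a = (n₁ : ℂ) • (ψ₁ : G → ℂ) + (n₂ : ℂ) • (ψ₂ : G → ℂ) := by
  classical
  obtain ⟨n, hn, hs⟩ := exists_sq_sum ha
  rw [h] at hs
  have hs' : ∑ ψ, n ψ ^ 2 = 2 := by exact_mod_cast hs.symm
  have hex : ∃ ψ, n ψ ≠ 0 := by
    by_contra hno
    push Not at hno
    simp [hno] at hs'
  obtain ⟨ψ₁, hψ₁⟩ := hex
  have hsplit := Finset.add_sum_erase Finset.univ (fun ψ => n ψ ^ 2) (Finset.mem_univ ψ₁)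
  have hrest : 0 ≤ ∑ φ ∈ Finset.univ.erase ψ₁, n φ ^ 2 :=
    Finset.sum_nonneg fun _ _ => sq_nonneg _
  have hsqne : ∀ m : ℤ, m ^ 2 ≠ 2 := by
    intro m hm
    have h4 : m ^ 2 < 2 ^ 2 := by omega
    have h5 : |m| < 2 := by
      have := abs_lt_of_sq_lt_sq h4 (by norm_num)
      exact this
    have h6 := abs_lt.mp h5
    have h7 : m = -1 ∨ m = 0 ∨ m = 1 := by omega
    rcases h7 with rfl | rfl | rfl <;> norm_num at hm
  have hpos1 : 1 ≤ n ψ₁ ^ 2 := by
    have := sq_nonneg (n ψ₁)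
    have h2 : n ψ₁ ^ 2 ≠ 0 := pow_ne_zero 2 hψ₁
    omega
  have h11 : n ψ₁ ^ 2 = 1 := by
    have := hsqne (n ψ₁)
    omega
  have hrest1 : ∑ φ ∈ Finset.univ.erase ψ₁, n φ ^ 2 = 1 := by omega
  have hex2 : ∃ ψ ∈ Finset.univ.erase ψ₁, n ψ ≠ 0 := by
    by_contra hno
    push Not at hno
    rw [Finset.sum_eq_zero (fun φ hφ => by rw [hno φ hφ]; rfl)] at hrest1
    omega
  obtain ⟨ψ₂, hψ₂m, hψ₂⟩ := hex2
  have hsplit2 := Finset.add_sum_erase _ (fun ψ => n ψ ^ 2) hψ₂m
  have hrest2 : 0 ≤ ∑ φ ∈ (Finset.univ.erase ψ₁).erase ψ₂, n φ ^ 2 :=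
    Finset.sum_nonneg fun _ _ => sq_nonneg _
  have hpos2 : 1 ≤ n ψ₂ ^ 2 := by
    have := sq_nonneg (n ψ₂)
    have h2 : n ψ₂ ^ 2 ≠ 0 := pow_ne_zero 2 hψ₂
    omega
  have h12 : n ψ₂ ^ 2 = 1 := by omega
  have hzero : ∑ φ ∈ (Finset.univ.erase ψ₁).erase ψ₂, n φ ^ 2 = 0 := by omega
  have hz : ∀ φ ∈ (Finset.univ.erase ψ₁).erase ψ₂, n φ = 0 := by
    intro φ hφ
    have := (Finset.sum_eq_zero_iff_of_nonneg (fun _ _ => sq_nonneg _)).mp hzero φ hφ
    exact pow_eq_zero_iff (two_ne_zero) |>.mp this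
  have hne12 : ψ₂ ≠ ψ₁ := (Finset.mem_erase.mp hψ₂m).1
  have hasum : a = (n ψ₁ : ℂ) • (ψ₁ : G → ℂ) + (n ψ₂ : ℂ) • (ψ₂ : G → ℂ) := by
    rw [hn, ← Finset.add_sum_erase Finset.univ _ (Finset.mem_univ ψ₁),
      ← Finset.add_sum_erase _ _ hψ₂m, Finset.sum_eq_zero, add_zero]
    intro φ hφ
    rw [hz φ hφ]
    simp
  have hsq1 : (n ψ₁ - 1) * (n ψ₁ + 1) = 0 := by linear_combination h11
  have hsq2 : (n ψ₂ - 1) * (n ψ₂ + 1) = 0 := by linear_combination h12
  refine ⟨ψ₁, ψ₂, n ψ₁, n ψ₂, hne12.symm, ?_, ?_, hasum⟩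
  · rcases mul_eq_zero.mp hsq1 with h3 | h3
    · left; omega
    · right; omega
  · rcases mul_eq_zero.mp hsq2 with h3 | h3
    · left; omega
    · right; omega

/-- The trivial character as an element of `IrrCharacter`. -/
noncomputable def triv1 (G : Type u) [Group G] [Fintype G] : IrrCharacter G := ⟨fun _ => 1, isIrr_one⟩

/-- A generalized character of norm three with principal constituent of multiplicity one, vanishing at `1`. -/
theorem exists_pair {v : G → ℂ} (hv : IsGeneralizedCharacter G v) (h3 : classInner v v = 3)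
    (h1 : classInner v (fun _ => 1) = 1) (h0 : v 1 = 0) :
    ∃ χ χ' : IrrCharacter G, χ ≠ χ' ∧ (χ : G → ℂ) ≠ (fun _ => 1) ∧ (χ' : G → ℂ) ≠ (fun _ => 1) ∧
      v = (fun _ => (1 : ℂ)) + (χ' : G → ℂ) - (χ : G → ℂ) := by
  classical
  set a : G → ℂ := v - fun _ => (1 : ℂ) with ha
  have hgen : IsGeneralizedCharacter G a := isGen_sub hv isGen_one
  have hone : classInner (fun _ : G => (1 : ℂ)) (fun _ => (1 : ℂ)) = 1 := by
    rw [classInner_irr isIrr_one isIrr_one, if_pos rfl]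
  have h1' : classInner (fun _ : G => (1 : ℂ)) v = 1 := by
    rw [← classInner_conj, h1, map_one]
  have hsub : ∀ x y u w : G → ℂ, classInner (x - y) (u - w) = classInner x u - classInner x w - classInner y u + classInner y w := by
    intro x y u w
    simp only [classInner, Pi.sub_apply, map_sub, sub_mul, mul_sub, Finset.sum_sub_distrib]
    ring
  have hnorm : classInner a a = 2 := by
    rw [ha, hsub, h3, h1, h1', hone]
    norm_num
  have hao : classInner a (fun _ => 1) = 0 := by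
    have e : classInner (v - fun _ => (1 : ℂ)) (fun _ => (1 : ℂ)) = classInner v (fun _ => 1) - classInner (fun _ : G => (1 : ℂ)) (fun _ => 1) := by
      simp only [classInner, Pi.sub_apply, sub_mul, Finset.sum_sub_distrib]
      ring
    rw [ha, e, h1, hone, sub_self]
  obtain ⟨ψ₁, ψ₂, n₁, n₂, hne, hn₁, hn₂, hsum⟩ := exists_two_of_norm_two hgen hnorm
  have hcoef : ∀ ψ : IrrCharacter G, classInner a (ψ : G → ℂ) = n₁ * (if (ψ₁ : G → ℂ) = ψ then 1 else 0) + n₂ * (if (ψ₂ : G → ℂ) = ψ then 1 else 0) := by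
    intro ψ
    rw [hsum, classInner_add_left, classInner_smul_left, classInner_smul_left, classInner_irr ψ₁.2 ψ.2, classInner_irr ψ₂.2 ψ.2]
  have hne' : (ψ₁ : G → ℂ) ≠ ψ₂ := fun h => hne (Subtype.ext h)
  have h₁1 : (ψ₁ : G → ℂ) ≠ fun _ => 1 := by
    intro h
    have := hcoef (triv1 G)
    have e0 : ((triv1 G : IrrCharacter G) : G → ℂ) = fun _ => 1 := rfl
    rw [e0, hao, if_pos h, if_neg (fun h' => hne' (h.trans h'.symm))] at this
    rcases hn₁ with rfl | rfl <;> norm_num at this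
  have h₂1 : (ψ₂ : G → ℂ) ≠ fun _ => 1 := by
    intro h
    have := hcoef (triv1 G)
    have e0 : ((triv1 G : IrrCharacter G) : G → ℂ) = fun _ => 1 := rfl
    rw [e0, hao, if_pos h, if_neg (fun h' => hne' (h'.trans h.symm))] at this
    rcases hn₂ with rfl | rfl <;> norm_num at this
  obtain ⟨d₁, hd₁, he₁⟩ := exists_degree_pos ψ₁.2
  obtain ⟨d₂, hd₂, he₂⟩ := exists_degree_pos ψ₂.2
  have hval : (n₁ : ℂ) * d₁ + (n₂ : ℂ) * d₂ = -1 := by
    have h5 := congrFun hsum 1
    simp only [ha, Pi.sub_apply, h0, Pi.add_apply, Pi.smul_apply, smul_eq_mul, he₁, he₂] at h5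
    rw [← h5]
    ring
  have hval' : n₁ * (d₁ : ℤ) + n₂ * d₂ = -1 := by exact_mod_cast hval
  have hv' : v = a + fun _ => (1 : ℂ) := by
    rw [ha]; funext g; simp
  rcases hn₁ with rfl | rfl <;> rcases hn₂ with rfl | rfl
  · omega
  · refine ⟨ψ₂, ψ₁, hne.symm, h₂1, h₁1, ?_⟩
    rw [hv', hsum]
    funext g
    simp
    ring
  · refine ⟨ψ₁, ψ₂, hne, h₁1, h₂1, ?_⟩
    rw [hv', hsum]
    funext g
    simp
    ring
  · omega

/-- Integrality criterion for generalized characters. -/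
theorem isGen_of_int {f : G → ℂ} (hf : IsClassFunction G f)
    (h : ∀ χ : IrrCharacter G, ∃ n : ℤ, classInner f (χ : G → ℂ) = n) : IsGeneralizedCharacter G f := by
  classical
  choose n hn using h
  rw [classFunction_expand hf]
  apply isGen_sum
  intro χ _
  rw [hn χ]
  have := isGen_zsmul (isGen_of_char (IsIrrCharacter.isCharacter' χ.2)) (n χ)
  convert this using 1

end pair

end Cfsg.Agent.Lib.ZsCore
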