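import Mathlib
import Cfsg.Prelude
import Cfsg.Agent.Lib.ZsCore

/-!
# A trivial intersection type Dade set-up and an induced generalized character
-/

set_option autoImplicit false
set_option linter.all false

namespace Cfsg.Agent.Lib.ZsTI

open Cfsg Cfsg.Agent.Lib.DadeIso Cfsg.Agent.Lib.DadeGen Cfsg.Agent.Lib.ZsCore Cfsg.Agent.Lib.CharGen
  Cfsg.Agent.Lib.CharOps Cfsg.Agent.Lib.CharIrr Cfsg.Agent.Lib.CharIso
open scoped ComplexConjugate

universe u

section dade

variable {G : Type u} [Group G]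

/-- The elements whose cyclic group contains `D`. -/
def AD (D : Subgroup G) : Set G := {y | D ≤ Subgroup.zpowers y}

variable [Finite G] {D : Subgroup G}

/-- A cyclic group has at most one subgroup of a given order. -/
theorem eq_of_le_zpowers (y : G) {D₁ D₂ : Subgroup G} (h₁ : D₁ ≤ Subgroup.zpowers y) (h₂ : D₂ ≤ Subgroup.zpowers y)
    (hc : Nat.card D₁ = Nat.card D₂) : D₁ = D₂ := by
  classical
  letI : Fintype (Subgroup.zpowers y) := Fintype.ofFinite _
  set d := Nat.card D₁ with hd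
  have hd0 : 0 < d := Nat.card_pos
  have key : ∀ E : Subgroup G, E ≤ Subgroup.zpowers y → Nat.card E = d →
      Finset.univ.filter (fun g : Subgroup.zpowers y => (g : G) ∈ E) = Finset.univ.filter (fun g : Subgroup.zpowers y => g ^ d = 1) := by
    intro E hE hcE
    apply Finset.eq_of_subset_of_card_le
    · intro g hg
      rw [Finset.mem_filter] at hg ⊢
      refine ⟨Finset.mem_univ _, ?_⟩
      apply Subtype.ext
      have h1 : (⟨(g : G), hg.2⟩ : E) ^ d = 1 := by
        rw [← hcE]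
        exact pow_card_eq_one'
      have h2 := congrArg Subtype.val h1
      simpa using h2
    · have h1 := IsCyclic.card_pow_eq_one_le (α := Subgroup.zpowers y) hd0
      refine h1.trans (le_of_eq ?_)
      rw [← Fintype.card_subtype, ← Nat.card_eq_fintype_card, ← hcE]
      exact Nat.card_congr
        { toFun := fun g => ⟨⟨g.1, hE g.2⟩, g.2⟩
          invFun := fun g => ⟨g.1, g.2⟩
          left_inv := fun _ => rfl
          right_inv := fun _ => rfl }
  have h3 := key D₁ h₁ rfl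
  have h4 := key D₂ h₂ hc.symm
  rw [← h4] at h3
  ext g
  constructor
  · intro hg
    have h5 : (⟨g, h₁ hg⟩ : Subgroup.zpowers y) ∈ Finset.univ.filter (fun g : Subgroup.zpowers y => (g : G) ∈ D₁) := by
      simp [hg]
    rw [h3] at h5
    simpa using h5
  · intro hg
    have h5 : (⟨g, h₂ hg⟩ : Subgroup.zpowers y) ∈ Finset.univ.filter (fun g : Subgroup.zpowers y => (g : G) ∈ D₂) := by
      simp [hg]
    rw [← h3] at h5
    simpa using h5

theorem conj_mem_normalizer {a g : G} (ha : a ∈ AD D) (hg : g * a * g⁻¹ ∈ AD D) :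
    g ∈ Subgroup.normalizer (D : Set G) := by
  have h1 : D.map (MulAut.conj g).toMonoidHom ≤ Subgroup.zpowers (g * a * g⁻¹) := by
    rintro _ ⟨d, hd, rfl⟩
    obtain ⟨k, hk⟩ := Subgroup.mem_zpowers_iff.1 (ha hd)
    refine Subgroup.mem_zpowers_iff.2 ⟨k, ?_⟩
    rw [conj_zpow, hk]
    rfl
  have hc : Nat.card (D.map (MulAut.conj g).toMonoidHom) = Nat.card D :=
    Subgroup.card_map_of_injective (MulAut.conj g).injective
  have h2 := eq_of_le_zpowers _ h1 hg hc
  rw [Subgroup.mem_normalizer_iff]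
  intro h
  constructor
  · intro hh
    rw [← h2]
    exact ⟨h, hh, rfl⟩
  · intro hh
    rw [← h2] at hh
    obtain ⟨h', hh', e⟩ := hh
    have e' : g * h' * g⁻¹ = g * h * g⁻¹ := e
    have := mul_left_cancel (mul_right_cancel e')
    rwa [← this]

theorem ad_dade (hD : D ≠ ⊥) : DadeHypothesis (AD D) (Subgroup.normalizer (D : Set G)) (fun _ => ⊥) := by
  refine ⟨?_, ?_, ?_, ?_, ?_, ?_, ?_, ?_, ?_⟩
  · intro h1
    apply hD
    rw [eq_bot_iff]
    have h2 : D ≤ Subgroup.zpowers 1 := h1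
    simpa using h2
  · intro a ha
    exact conj_mem_normalizer ha (by rwa [mul_inv_cancel_right])
  · intro x hx a ha d hd
    have h1 : x⁻¹ * d * x ∈ D := by
      have := (Subgroup.mem_normalizer_iff.1 hx (x⁻¹ * d * x)).2
      apply this
      have e : x * (x⁻¹ * d * x) * x⁻¹ = d := by group
      rwa [e]
    obtain ⟨k, hk⟩ := Subgroup.mem_zpowers_iff.1 (ha h1)
    refine Subgroup.mem_zpowers_iff.2 ⟨k, ?_⟩
    rw [conj_zpow, hk]
    group
  · intro a ha g hg
    exact ⟨g, conj_mem_normalizer ha hg, rfl⟩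
  · intro a _ u hu
    rw [Subgroup.mem_bot] at hu
    subst hu
    exact one_mem _
  · intro a _ c _ u hu
    rw [Subgroup.mem_bot] at hu ⊢
    subst hu
    simp
  · intro a _
    exact bot_inf_eq _
  · intro a ha
    rw [bot_sup_eq]
    refine inf_eq_right.2 ?_
    intro c hc
    have h1 : c * a = a * c := Subgroup.mem_centralizer_singleton_iff.1 hc
    apply conj_mem_normalizer ha
    rwa [h1, mul_inv_cancel_right]
  · intro a _ b _
    simp

theorem card_dvd_of_mem {y : G} (hy : y ∈ AD D) : Nat.card D ∣ orderOf y := by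
  have := Subgroup.card_dvd_of_le hy
  rwa [Nat.card_zpowers] at this

end dade

section pair

variable {G : Type u} [Group G] [Fintype G] {D : Subgroup G}

/-- The Dade image of `φ`. -/
theorem ti_pair (hD : D ≠ ⊥) [Fintype (Subgroup.normalizer (D : Set G))] {φ : Subgroup.normalizer (D : Set G) → ℂ}
    (hg : IsGeneralizedCharacter (Subgroup.normalizer (D : Set G)) φ)
    (hv : ∀ x : Subgroup.normalizer (D : Set G), (x : G) ∉ AD D → φ x = 0)
    (h3 : classInner φ φ = 3) (h1 : classInner φ (fun _ => 1) = 1) :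
    ∃ χ₁ χ₂ : IrrCharacter G, χ₁ ≠ χ₂ ∧ (χ₁ : G → ℂ) ≠ (fun _ => 1) ∧ (χ₂ : G → ℂ) ≠ (fun _ => 1) ∧
      ∀ g : G, (∀ x : G, x * g * x⁻¹ ∉ AD D) → 1 + (χ₂ : G → ℂ) g - (χ₁ : G → ℂ) g = 0 := by
  classical
  have hDd := ad_dade hD
  have hcl : IsClassFunction _ φ := IsGen.isClassFunction hg
  set v : G → ℂ := dadeIsometry (AD D) (Subgroup.normalizer (D : Set G)) (fun _ => ⊥) φ with hvd
  have hvg : IsGeneralizedCharacter G v := dade_isGen hDd hg hv
  have hv3 : classInner v v = 3 := by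
    rw [hvd, inner_dade_dade hDd hcl hv hcl, h3]
  have hv1 : classInner v (fun _ => 1) = 1 := by
    rw [hvd, inner_dade_class hDd hcl hv (fun _ => 1) (fun _ => 1) (fun _ _ => rfl) (fun a _ => by simp), h1]
  have hvnot : ∀ g : G, (∀ x : G, x * g * x⁻¹ ∉ AD D) → v g = 0 := by
    intro g hg
    apply dade_of_not
    rintro ⟨a, ha, x, u, hu, e⟩
    rw [Subgroup.mem_bot] at hu
    rw [hu, mul_one] at e
    exact hg x (e ▸ ha)
  have hv0 : v 1 = 0 := by
    apply hvnot
    intro x hx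
    apply hDd.one_not_mem
    have e : x * 1 * x⁻¹ = 1 := by group
    rwa [e] at hx
  obtain ⟨χ, χ', hne, h1', h2', he⟩ := exists_pair hvg hv3 hv1 hv0
  refine ⟨χ, χ', hne, h1', h2', fun g hg => ?_⟩
  have e1 := congrFun he g
  rw [hvnot g hg] at e1
  simp only [Pi.sub_apply, Pi.add_apply] at e1
  exact e1.symm

end pair

section ind2

variable {L : Type u} [Group L] [Fintype L] (C : Subgroup L) [hCn : C.Normal] [Fintype C] (μ : C →* ℂˣ)

/-- The function on `L` induced from `1 - μ`. -/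
noncomputable def Phi : L → ℂ := by
  classical
  exact fun g => if h : g ∈ C then 2 - ((μ ⟨g, h⟩ : ℂˣ) : ℂ) - (((μ ⟨g, h⟩)⁻¹ : ℂˣ) : ℂ) else 0

theorem Phi_of_mem {g : L} (h : g ∈ C) : Phi C μ g = 2 - ((μ ⟨g, h⟩ : ℂˣ) : ℂ) - (((μ ⟨g, h⟩)⁻¹ : ℂˣ) : ℂ) := by
  classical
  simp [Phi, h]

theorem Phi_of_not {g : L} (h : g ∉ C) : Phi C μ g = 0 := by
  classical
  simp [Phi, h]

theorem sum_units {X : Type*} [Group X] [Fintype X] (f : X →* ℂˣ) (h : ∃ c, f c ≠ 1) : ∑ c, ((f c : ℂˣ) : ℂ) = 0 := by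
  refine sum_hom_units_eq_zero ((Units.coeHom ℂ).comp f) ?_
  intro e
  obtain ⟨c, hc⟩ := h
  apply hc
  apply Units.ext
  have := congrArg (fun F : X →* ℂ => F c) e
  simpa using this

theorem Phi_eq_ind (hidx : C.index = 2)
    (hconj : ∀ y : L, y ∉ C → ∀ c : C, μ ⟨y⁻¹ * c * y, by
      have := hCn.conj_mem c c.2 y⁻¹
      rwa [inv_inv] at this⟩ = (μ c)⁻¹) :
    Phi C μ = indFun C (fun c => 1 - ((μ c : ℂˣ) : ℂ)) := by
  classical
  have hcard : Nat.card L = Nat.card C * 2 := by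
    rw [← hidx]
    exact (Subgroup.card_mul_index C).symm
  have hC0 : (Nat.card C : ℂ) ≠ 0 := by exact_mod_cast Nat.card_pos.ne'
  funext g
  rw [indFun_apply]
  by_cases hg : g ∈ C
  · rw [Phi_of_mem C μ hg]
    have hm : ∀ x : L, x⁻¹ * g * x ∈ C := by
      intro x
      have := hCn.conj_mem g hg x⁻¹
      rwa [inv_inv] at this
    set u : ℂˣ := μ ⟨g, hg⟩ with hu
    have he : ∀ x : L, extendByZero C (fun c => 1 - ((μ c : ℂˣ) : ℂ)) (x⁻¹ * g * x) =
        (1 - ((u⁻¹ : ℂˣ) : ℂ)) + (if x ∈ C then ((u⁻¹ : ℂˣ) : ℂ) - (u : ℂ) else 0) := by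
      intro x
      rw [extendByZero_of_mem C _ (hm x)]
      by_cases hx : x ∈ C
      · rw [if_pos hx]
        have h1 : (⟨x⁻¹ * g * x, hm x⟩ : C) = (⟨x, hx⟩ : C)⁻¹ * ⟨g, hg⟩ * ⟨x, hx⟩ := rfl
        rw [h1, map_mul, map_mul, map_inv, mul_comm (μ ⟨x, hx⟩)⁻¹, mul_assoc, inv_mul_cancel, mul_one]
        ring
      · rw [if_neg hx, add_zero]
        rw [hconj x hx ⟨g, hg⟩]
    simp only [he]
    rw [Finset.sum_add_distrib, Finset.sum_const, Finset.card_univ, nsmul_eq_mul,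
      ← Nat.card_eq_fintype_card, Cfsg.Agent.Lib.DadeIso.sum_ite_subgroup, hcard]
    push_cast
    field_simp
    ring
  · rw [Phi_of_not C μ hg]
    have : ∀ x : L, extendByZero C (fun c => 1 - ((μ c : ℂˣ) : ℂ)) (x⁻¹ * g * x) = 0 := by
      intro x
      apply extendByZero_of_not_mem
      intro h
      apply hg
      have := hCn.conj_mem _ h x
      have e : x * (x⁻¹ * g * x) * x⁻¹ = g := by group
      rwa [e] at this
    simp [this]

theorem Phi_gen (hidx : C.index = 2)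
    (hconj : ∀ y : L, y ∉ C → ∀ c : C, μ ⟨y⁻¹ * c * y, by
      have := hCn.conj_mem c c.2 y⁻¹
      rwa [inv_inv] at this⟩ = (μ c)⁻¹) :
    IsGeneralizedCharacter L (Phi C μ) := by
  rw [Phi_eq_ind C μ hidx hconj]
  apply isGen_indFun
  apply isGen_sub isGen_one
  exact isGen_of_char (IsIrrCharacter.isCharacter' (Cfsg.Agent.Lib.CharAb.isIrrCharacter_of_hom μ))

theorem Phi_inner (hidx : C.index = 2) (hc : ∀ c : C, conj ((μ c : ℂˣ) : ℂ) = (((μ c)⁻¹ : ℂˣ) : ℂ))
    (h1 : ∃ c, μ c ≠ 1) (h2 : ∃ c, μ c * μ c ≠ 1) : classInner (Phi C μ) (Phi C μ) = 3 := by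
  classical
  have hcard : Nat.card L = Nat.card C * 2 := by
    rw [← hidx]
    exact (Subgroup.card_mul_index C).symm
  have hC0 : (Nat.card C : ℂ) ≠ 0 := by exact_mod_cast Nat.card_pos.ne'
  unfold classInner
  rw [sum_over_subgroup C _ (fun g hg => by rw [Phi_of_not C μ hg, zero_mul])]
  have e : ∀ c : C, Phi C μ (c : L) * conj (Phi C μ (c : L)) =
      6 - 4 * ((μ c : ℂˣ) : ℂ) - 4 * (((μ⁻¹) c : ℂˣ) : ℂ) + (((μ * μ) c : ℂˣ) : ℂ) + (((μ⁻¹ * μ⁻¹) c : ℂˣ) : ℂ) := by
    intro c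
    rw [Phi_of_mem C μ c.2]
    have e1 : (⟨(c : L), c.2⟩ : C) = c := rfl
    rw [e1]
    have hi : ((μ c : ℂˣ) : ℂ) * (((μ c)⁻¹ : ℂˣ) : ℂ) = 1 := Units.mul_inv _
    have hc' : conj (((μ c)⁻¹ : ℂˣ) : ℂ) = ((μ c : ℂˣ) : ℂ) := by
      rw [← hc c, Complex.conj_conj]
    simp only [map_sub, hc, hc', Complex.conj_ofNat, MonoidHom.inv_apply, MonoidHom.mul_apply, Units.val_mul]
    linear_combination (2 : ℂ) * hi
  simp only [e]
  rw [Finset.sum_add_distrib, Finset.sum_add_distrib, Finset.sum_sub_distrib, Finset.sum_sub_distrib,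
    ← Finset.mul_sum, ← Finset.mul_sum, sum_units μ h1,
    sum_units μ⁻¹ (by
      obtain ⟨c, hc⟩ := h1
      refine ⟨c, ?_⟩
      simpa using hc),
    sum_units (μ * μ) (by
      obtain ⟨c, hc⟩ := h2
      exact ⟨c, hc⟩),
    sum_units (μ⁻¹ * μ⁻¹) (by
      obtain ⟨c, hc⟩ := h2
      refine ⟨c, ?_⟩
      simp only [MonoidHom.mul_apply, MonoidHom.inv_apply]
      intro e
      apply hc
      have : (μ c * μ c)⁻¹ = 1 := by rw [mul_inv]; exact e
      exact inv_eq_one.1 this)]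
  rw [Finset.sum_const, Finset.card_univ, nsmul_eq_mul, ← Nat.card_eq_fintype_card, hcard]
  push_cast
  field_simp
  ring

theorem Phi_one (hidx : C.index = 2) (h1 : ∃ c, μ c ≠ 1) : classInner (Phi C μ) (fun _ => 1) = 1 := by
  classical
  have hcard : Nat.card L = Nat.card C * 2 := by
    rw [← hidx]
    exact (Subgroup.card_mul_index C).symm
  have hC0 : (Nat.card C : ℂ) ≠ 0 := by exact_mod_cast Nat.card_pos.ne'
  unfold classInner
  rw [sum_over_subgroup C _ (fun g hg => by rw [Phi_of_not C μ hg, zero_mul])]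
  have e : ∀ c : C, Phi C μ (c : L) * conj 1 = 2 - ((μ c : ℂˣ) : ℂ) - (((μ⁻¹) c : ℂˣ) : ℂ) := by
    intro c
    rw [Phi_of_mem C μ c.2, map_one, mul_one]
    rfl
  simp only [e]
  rw [Finset.sum_sub_distrib, Finset.sum_sub_distrib, sum_units μ h1,
    sum_units μ⁻¹ (by
      obtain ⟨c, hc⟩ := h1
      refine ⟨c, ?_⟩
      simpa using hc)]
  rw [Finset.sum_const, Finset.card_univ, nsmul_eq_mul, ← Nat.card_eq_fintype_card, hcard]
  push_cast
  field_simp
  ring

end ind2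

end Cfsg.Agent.Lib.ZsTI
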