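import Mathlib
import Cfsg.Prelude
import Cfsg.Agent.Lib.ZsTI
import Cfsg.Agent.Lib.H5Cyc
import Cfsg.Agent.Lib.FitCore
import Cfsg.Agent.Lib.SolvCore
import Cfsg.Agent.Lib.SylowCount

/-!
# Generalized quaternion Sylow `2`-subgroups of order at least `16`
-/

set_option autoImplicit false
set_option linter.all false

namespace Cfsg.Agent.Lib.ZsBig

open Cfsg Cfsg.Agent.Lib.ZsCore Cfsg.Agent.Lib.ZsTI Cfsg.Agent.Lib.CharGen Cfsg.Agent.Lib.CharOps
  Cfsg.Agent.Lib.CharIrr Cfsg.Agent.Lib.CharIso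
open scoped ComplexConjugate

universe u

section quat

variable {n : ℕ} [NeZero n]

open QuaternionGroup

theorem two_n : (n : ZMod (2 * n)) + n = 0 := by
  have := ZMod.natCast_self (2 * n)
  push_cast at this
  linear_combination this

theorem inv_a (i : ZMod (2 * n)) : (a i : QuaternionGroup n)⁻¹ = a (-i) := rfl

theorem inv_xa (i : ZMod (2 * n)) : (xa i : QuaternionGroup n)⁻¹ = xa ((n : ZMod (2 * n)) + i) := rfl

theorem q_conj : (xa 0 : QuaternionGroup n) * a 1 * (xa 0)⁻¹ = (a 1)⁻¹ := by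
  simp only [xa_mul_a, inv_xa, xa_mul_xa, inv_a, a.injEq]
  have := two_n (n := n)
  linear_combination this

theorem q_sq : (xa 0 : QuaternionGroup n) * xa 0 = (a 1) ^ n := by
  rw [xa_mul_xa, a_one_pow]
  simp

theorem q_a (i : ZMod (2 * n)) : (a i : QuaternionGroup n) = (a 1) ^ i.val := by
  rw [a_one_pow]
  simp

theorem q_xa (i : ZMod (2 * n)) : (xa i : QuaternionGroup n) = xa 0 * (a 1) ^ i.val := by
  rw [a_one_pow]
  simp

theorem q_comm_form (q q' : QuaternionGroup n) : ∃ k : ℕ, q * q' * q⁻¹ * q'⁻¹ = ((a 1) ^ 2) ^ k := by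
  have key : ∀ t : ZMod (2 * n), ∃ k : ℕ, (a (2 * t) : QuaternionGroup n) = ((a 1) ^ 2) ^ k := by
    intro t
    refine ⟨t.val, ?_⟩
    rw [← pow_mul, a_one_pow]
    simp
  have h2 := two_n (n := n)
  rcases q with i | i <;> rcases q' with j | j
  · obtain ⟨k, hk⟩ := key 0
    refine ⟨k, ?_⟩
    rw [← hk]
    simp only [a_mul_a, inv_a, a.injEq]
    ring
  · obtain ⟨k, hk⟩ := key i
    refine ⟨k, ?_⟩
    rw [← hk]
    simp only [a_mul_xa, xa_mul_a, inv_a, inv_xa, xa_mul_xa, a.injEq]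
    linear_combination h2
  · obtain ⟨k, hk⟩ := key (-j)
    refine ⟨k, ?_⟩
    rw [← hk]
    simp only [a_mul_a, xa_mul_a, inv_a, inv_xa, xa_mul_xa, a.injEq]
    linear_combination h2
  · obtain ⟨k, hk⟩ := key (j - i)
    refine ⟨k, ?_⟩
    rw [← hk]
    simp only [a_mul_xa, xa_mul_a, inv_a, inv_xa, xa_mul_xa, a.injEq]
    linear_combination h2

theorem q_comm_one : (a 1 : QuaternionGroup n) * xa 0 * (a 1)⁻¹ * (xa 0)⁻¹ = (a 1) ^ 2 := by
  rw [a_one_pow]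
  simp only [a_mul_xa, xa_mul_a, inv_a, inv_xa, xa_mul_xa, a.injEq]
  have h2 := two_n (n := n)
  push_cast
  linear_combination h2

end quat

section gens

variable {G : Type u} [Group G] [Finite G]

/-- Generators of a generalized quaternion Sylow subgroup. -/
structure QGens (S : Sylow 2 G) (k : ℕ) (α ξ : G) : Prop where
  hαS : α ∈ (S : Subgroup G)
  hξS : ξ ∈ (S : Subgroup G)
  hord : orderOf α = 2 ^ (k + 1)
  hconj : ξ * α * ξ⁻¹ = α⁻¹
  hsq : ξ * ξ = α ^ (2 ^ k)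
  hform : ∀ s ∈ (S : Subgroup G), (∃ j : ℕ, s = α ^ j) ∨ (∃ j : ℕ, s = ξ * α ^ j)
  hk : 2 ≤ k
  hD : ⁅(S : Subgroup G), (S : Subgroup G)⁆ = Subgroup.zpowers (α ^ 2)

theorem exists_qgens (S : Sylow 2 G) (n : ℕ) (e : (S : Subgroup G) ≃* QuaternionGroup (2 ^ (n + 2))) :
    ∃ α ξ : G, QGens S (n + 2) α ξ := by
  haveI : NeZero (2 ^ (n + 2)) := ⟨by positivity⟩
  let F : QuaternionGroup (2 ^ (n + 2)) →* G := (S : Subgroup G).subtype.comp e.symm.toMonoidHom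
  have hF : Function.Injective F := by
    intro x y h
    apply e.symm.injective
    exact Subtype.ext h
  have hFe : ∀ s (hs : s ∈ (S : Subgroup G)), s = F (e ⟨s, hs⟩) := by
    intro s hs
    show s = ((e.symm (e ⟨s, hs⟩) : (S : Subgroup G)) : G)
    rw [e.symm_apply_apply]
  have hFm : ∀ q, F q ∈ (S : Subgroup G) := fun q => (e.symm q).2
  refine ⟨F (QuaternionGroup.a 1), F (QuaternionGroup.xa 0), ?_⟩
  refine ⟨hFm _, hFm _, ?_, ?_, ?_, ?_, by omega, ?_⟩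
  · rw [orderOf_injective F hF, QuaternionGroup.orderOf_a_one]
    ring
  · rw [← map_mul, ← map_inv, ← map_mul, q_conj, map_inv]
  · rw [← map_mul, ← map_pow, q_sq]
  · intro s hs
    rw [hFe s hs]
    rcases e ⟨s, hs⟩ with i | i
    · left
      refine ⟨i.val, ?_⟩
      rw [← map_pow, ← q_a]
    · right
      refine ⟨i.val, ?_⟩
      rw [← map_pow, ← map_mul, ← q_xa]
  · apply le_antisymm
    · rw [Subgroup.commutator_le]
      intro s hs t ht
      rw [hFe s hs, hFe t ht, commutatorElement_def]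
      generalize e ⟨s, hs⟩ = q
      generalize e ⟨t, ht⟩ = q'
      obtain ⟨k, hk⟩ := q_comm_form q q'
      have e1 : F q * F q' * (F q)⁻¹ * (F q')⁻¹ = F (q * q' * q⁻¹ * q'⁻¹) := by
        simp only [map_mul, map_inv]
      rw [e1, hk, map_pow, map_pow]
      exact Subgroup.npow_mem_zpowers _ _
    · rw [Subgroup.zpowers_le]
      have h1 := Subgroup.commutator_mem_commutator (hFm (QuaternionGroup.a 1)) (hFm (QuaternionGroup.xa 0))
      have e1 : F (QuaternionGroup.a 1) * F (QuaternionGroup.xa 0) * (F (QuaternionGroup.a 1))⁻¹ * (F (QuaternionGroup.xa 0))⁻¹ =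
          F (QuaternionGroup.a 1 * QuaternionGroup.xa 0 * (QuaternionGroup.a 1)⁻¹ * (QuaternionGroup.xa 0)⁻¹) := by
        simp only [map_mul, map_inv]
      rw [commutatorElement_def, e1, q_comm_one, map_pow] at h1
      exact h1

abbrev Dg (α : G) : Subgroup G := Subgroup.zpowers (α ^ 2)
abbrev Cg (α : G) : Subgroup G := Subgroup.centralizer ((Dg α : Subgroup G) : Set G)
abbrev Lg (α : G) : Subgroup G := Subgroup.normalizer ((Dg α : Subgroup G) : Set G)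
abbrev Tg (α : G) : Subgroup G := Subgroup.zpowers α

namespace QGens

variable {S : Sylow 2 G} {k : ℕ} {α ξ : G} (h : QGens S k α ξ)
include h

theorem card_D : Nat.card (Dg α) = 2 ^ k := by
  rw [Nat.card_zpowers, orderOf_pow_of_dvd (by norm_num) (by rw [h.hord]; exact dvd_pow_self 2 (by omega)), h.hord, pow_succ]
  simp

theorem four_dvd : 4 ∣ Nat.card (Dg α) := by
  rw [h.card_D]
  obtain ⟨l, hl⟩ : ∃ l, k = 2 + l := ⟨k - 2, by have := h.hk; omega⟩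
  rw [hl, pow_add]
  exact Dvd.intro _ rfl

theorem D_ne_bot : Dg α ≠ ⊥ := by
  intro e
  have h1 := h.card_D
  rw [e, Subgroup.card_bot] at h1
  have h2 : 0 < k := by have := h.hk; omega
  have h3 : 2 ∣ 2 ^ k := dvd_pow_self 2 h2.ne'
  rw [← h1] at h3
  omega

omit h in
theorem alpha_mem_C : α ∈ Cg α := by
  rw [Subgroup.mem_centralizer_iff]
  intro x hx
  obtain ⟨t, rfl⟩ := Subgroup.mem_zpowers_iff.1 hx
  have : Commute ((α ^ 2) ^ t) α := ((Commute.refl α).pow_left 2).zpow_left t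
  exact this.eq

omit h in
theorem T_le_C : Tg α ≤ Cg α := Subgroup.zpowers_le.2 alpha_mem_C

omit h in
theorem C_le_L : Cg α ≤ Lg α := Subgroup.centralizer_le_normalizer _

omit h in
theorem C_conj {g c : G} (hg : g ∈ Lg α) (hc : c ∈ Cg α) : g * c * g⁻¹ ∈ Cg α := by
  rw [Subgroup.mem_centralizer_iff] at hc ⊢
  intro d hd
  have h1 : g⁻¹ * d * g ∈ Dg α := by
    apply (Subgroup.mem_normalizer_iff.1 hg _).2
    have e : g * (g⁻¹ * d * g) * g⁻¹ = d := by group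
    rwa [e]
  have h2 := hc _ h1
  calc d * (g * c * g⁻¹) = g * ((g⁻¹ * d * g) * c) * g⁻¹ := by group
    _ = g * (c * (g⁻¹ * d * g)) * g⁻¹ := by rw [h2]
    _ = _ := by group

theorem xi_conj_zpow (t : ℤ) : ξ * α ^ t * ξ⁻¹ = α ^ (-t) := by
  rw [← conj_zpow, h.hconj, inv_zpow, zpow_neg]

theorem xi_not_C : ξ ∉ Cg α := by
  intro hx
  have h1 : (α ^ 2) ∈ Dg α := Subgroup.mem_zpowers _
  have h2 := (Subgroup.mem_centralizer_iff.1 hx) _ h1
  have h3 := h.xi_conj_zpow 2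
  have h4 : ξ * α ^ (2 : ℤ) * ξ⁻¹ = α ^ (2 : ℤ) := by
    rw [zpow_ofNat, ← h2, mul_inv_cancel_right]
  rw [h4] at h3
  have h5 : α ^ (4 : ℕ) = 1 := by
    have e : α ^ (4 : ℤ) = α ^ (2 : ℤ) * α ^ (2 : ℤ) := by rw [← zpow_add]; norm_num
    have e2 : α ^ (4 : ℤ) = 1 := by
      rw [e]
      nth_rewrite 2 [h3]
      rw [← zpow_add]
      simp
    exact_mod_cast e2
  have h6 := orderOf_dvd_of_pow_eq_one h5
  rw [h.hord] at h6
  have h7 : 2 ^ (k + 1) ≤ 4 := Nat.le_of_dvd (by norm_num) h6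
  have h8 : 2 ^ 3 ≤ 2 ^ (k + 1) := Nat.pow_le_pow_right (by norm_num) (by have := h.hk; omega)
  omega

theorem xi_mem_L : ξ ∈ Lg α := by
  rw [Subgroup.mem_normalizer_iff]
  intro x
  constructor
  · intro hx
    obtain ⟨t, rfl⟩ := Subgroup.mem_zpowers_iff.1 hx
    refine Subgroup.mem_zpowers_iff.2 ⟨-t, ?_⟩
    rw [← zpow_natCast α 2, ← zpow_mul, ← zpow_mul, h.xi_conj_zpow]
    congr 1
    push_cast
    ring
  · intro hx
    obtain ⟨t, ht⟩ := Subgroup.mem_zpowers_iff.1 hx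
    refine Subgroup.mem_zpowers_iff.2 ⟨-t, ?_⟩
    have h1 : ξ * ((α ^ 2) ^ (-t)) * ξ⁻¹ = ξ * x * ξ⁻¹ := by
      rw [← ht, ← zpow_natCast α 2, ← zpow_mul, ← zpow_mul, h.xi_conj_zpow]
      congr 1
      push_cast
      ring
    exact mul_left_cancel (mul_right_cancel h1)

theorem S_le_L : (S : Subgroup G) ≤ Lg α := by
  intro s hs
  rcases h.hform s hs with ⟨j, rfl⟩ | ⟨j, rfl⟩
  · exact Subgroup.pow_mem _ (C_le_L alpha_mem_C) _
  · exact Subgroup.mul_mem _ h.xi_mem_L (Subgroup.pow_mem _ (C_le_L alpha_mem_C) _)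

theorem S_inf_C : (S : Subgroup G) ⊓ Cg α = Tg α := by
  apply le_antisymm
  · rintro s ⟨hs, hsC⟩
    rcases h.hform s hs with ⟨j, rfl⟩ | ⟨j, rfl⟩
    · exact Subgroup.npow_mem_zpowers _ _
    · exfalso
      apply h.xi_not_C
      have h1 : α ^ j ∈ Cg α := Subgroup.pow_mem _ alpha_mem_C _
      have h2 := Subgroup.mul_mem _ hsC (Subgroup.inv_mem _ h1)
      rwa [mul_inv_cancel_right] at h2
  · exact le_inf (Subgroup.zpowers_le.2 h.hαS) T_le_C

theorem relIndex_T_odd : ¬ 2 ∣ (Tg α).relIndex (Cg α) := by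
  classical
  haveI hCn : ((Cg α).subgroupOf (Lg α)).Normal := by
    refine ⟨fun n hn g => ?_⟩
    have h1 : (n : G) ∈ Cg α := hn
    exact C_conj g.2 h1
  have h1 := Cfsg.Agent.Lib.FitCore.relIndex_dvd_index_of_normal_right ((S : Subgroup G).subgroupOf (Lg α)) ((Cg α).subgroupOf (Lg α))
  rw [Subgroup.relIndex_subgroupOf C_le_L] at h1
  have h2 : ((S : Subgroup G).subgroupOf (Lg α)).index = (S : Subgroup G).relIndex (Lg α) := rfl
  rw [h2] at h1
  have h3 := Subgroup.relIndex_dvd_index_of_le h.S_le_L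
  have h4 : (Tg α).relIndex (Cg α) = (S : Subgroup G).relIndex (Cg α) := by
    rw [← h.S_inf_C, Subgroup.inf_relIndex_right]
  rw [h4]
  intro h5
  exact S.not_dvd_index (h5.trans (h1.trans h3))

theorem T_pGroup : IsPGroup 2 (Tg α) := IsPGroup.of_card (n := k + 1) (by rw [Nat.card_zpowers, h.hord])

/-- The Sylow `2`-subgroup of the centralizer. -/
noncomputable def Pg : Sylow 2 (Cg α) :=
  IsPGroup.toSylow (P := (Tg α).subgroupOf (Cg α))
    (h.T_pGroup.of_equiv (Subgroup.subgroupOfEquivOfLe T_le_C).symm)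
    (show ¬ 2 ∣ ((Tg α).subgroupOf (Cg α)).index from h.relIndex_T_odd)

theorem Pg_coe : ((Pg h : Sylow 2 (Cg α)) : Subgroup (Cg α)) = (Tg α).subgroupOf (Cg α) := by
  rfl

theorem Pg_cyclic : IsCyclic ((Pg h : Sylow 2 (Cg α)) : Subgroup (Cg α)) := by
  rw [Pg_coe]
  exact isCyclic_of_surjective (Subgroup.subgroupOfEquivOfLe T_le_C).symm.toMonoidHom
    (Subgroup.subgroupOfEquivOfLe T_le_C).symm.surjective

theorem card_Pg : Nat.card ((Pg h : Sylow 2 (Cg α)) : Subgroup (Cg α)) = 2 ^ (k + 1) := by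
  rw [Pg_coe, Nat.card_congr (Subgroup.subgroupOfEquivOfLe T_le_C).toEquiv, Nat.card_zpowers, h.hord]

theorem pow_mem_T {x : Cg α} (hx : x ∈ ((Pg h : Sylow 2 (Cg α)) : Subgroup (Cg α))) : ∃ j : ℕ, (x : G) = α ^ j := by
  rw [Pg_coe] at hx
  have h1 : (x : G) ∈ Tg α := hx
  have h2 := mem_powers_iff_mem_zpowers.2 h1
  obtain ⟨j, hj⟩ := Submonoid.mem_powers_iff _ _ |>.1 h2
  exact ⟨j, hj.symm⟩

/-- The unit `i`. -/
noncomputable def uI : ℂˣ := Units.mk0 Complex.I Complex.I_ne_zero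

omit h in
theorem uI_coe : ((uI : ℂˣ) : ℂ) = Complex.I := rfl

omit h in
theorem uI_four : (uI : ℂˣ) ^ 4 = 1 := by
  apply Units.ext
  rw [Units.val_pow_eq_pow_val, uI_coe, Complex.I_pow_four]
  rfl

theorem exists_K : ∃ (K : Subgroup G) (μ : Cg α →* ℂˣ), K ≤ Cg α ∧ Odd (Nat.card K) ∧
    (∀ x ∈ Cg α, Odd (orderOf x) → x ∈ K) ∧
    (∀ c ∈ Cg α, ∃ x ∈ K, ∃ j : ℕ, c = x * α ^ j) ∧
    (∀ c : Cg α, (c : G) ∈ K → μ c = 1) ∧
    μ ⟨α, alpha_mem_C⟩ = uI ∧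
    (∀ c : Cg α, μ c ≠ 1 → 2 ^ k ∣ orderOf (c : G)) := by
  classical
  haveI : Fact (Nat.Prime 2) := ⟨Nat.prime_two⟩
  set P := Pg h with hPdef
  haveI hPc : IsCyclic (P : Subgroup (Cg α)) := h.Pg_cyclic
  obtain ⟨K', hK'n, hK'c⟩ := Cfsg.Agent.Lib.H5Cyc.exists_normal_complement P hPc
  have hcardK' : Nat.card K' = (P : Subgroup (Cg α)).index := hK'c.index_eq_card.symm
  have hindexK' : K'.index = 2 ^ (k + 1) := by
    rw [hK'c.symm.index_eq_card]
    exact h.card_Pg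
  let a' : Cg α := ⟨α, alpha_mem_C⟩
  have hdec' : ∀ c : Cg α, ∃ x ∈ K', ∃ j : ℕ, c = x * a' ^ j := by
    intro c
    have hc : c ∈ K' ⊔ (P : Subgroup (Cg α)) := by
      rw [hK'c.sup_eq_top]
      exact Subgroup.mem_top _
    obtain ⟨x, hx, y, hy, e⟩ := Subgroup.mem_sup_of_normal_left.1 hc
    obtain ⟨j, hj⟩ := h.pow_mem_T hy
    refine ⟨x, hx, j, ?_⟩
    rw [← e]
    congr 1
    apply Subtype.ext
    push_cast
    exact hj
  -- the quotient
  let w : Cg α ⧸ K' := (a' : Cg α ⧸ K')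
  have hmk : ∀ c : Cg α, ∃ j : ℕ, (c : Cg α ⧸ K') = w ^ j ∧ ∃ x ∈ K', c = x * a' ^ j := by
    intro c
    obtain ⟨x, hx, j, e⟩ := hdec' c
    refine ⟨j, ?_, x, hx, e⟩
    rw [e, QuotientGroup.mk_mul, (QuotientGroup.eq_one_iff x).2 hx, one_mul, QuotientGroup.mk_pow]
  have hw : ∀ x : Cg α ⧸ K', x ∈ Subgroup.zpowers w := by
    intro x
    obtain ⟨c, rfl⟩ := QuotientGroup.mk_surjective x
    obtain ⟨j, hj, -⟩ := hmk c
    rw [hj]
    exact Subgroup.npow_mem_zpowers _ _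
  have hdisj : ∀ t : ℕ, a' ^ t ∈ K' → α ^ t = 1 := by
    intro t ht
    have hm : a' ^ t ∈ (P : Subgroup (Cg α)) := by
      rw [Pg_coe]
      have : ((a' ^ t : Cg α) : G) ∈ Tg α := by
        push_cast
        exact Subgroup.npow_mem_zpowers _ _
      exact this
    have h1 := Subgroup.disjoint_def.1 hK'c.disjoint ht hm
    have h2 := congrArg Subtype.val h1
    simpa using h2
  have hwo : ∀ t : ℕ, w ^ t = 1 → 2 ^ (k + 1) ∣ t := by
    intro t ht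
    have h1 : ((a' ^ t : Cg α) : Cg α ⧸ K') = 1 := by
      rw [QuotientGroup.mk_pow]
      exact ht
    have h2 := hdisj t ((QuotientGroup.eq_one_iff _).1 h1)
    rw [← h.hord]
    exact orderOf_dvd_of_pow_eq_one h2
  have hι : orderOf (uI : ℂˣ) ∣ orderOf w := by
    apply orderOf_dvd_of_pow_eq_one
    have h1 := hwo _ (pow_orderOf_eq_one w)
    have h2 : 4 ∣ 2 ^ (k + 1) := by
      obtain ⟨l, hl⟩ : ∃ l, k + 1 = 2 + l := ⟨k + 1 - 2, by have := h.hk; omega⟩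
      rw [hl, pow_add]
      exact Dvd.intro _ rfl
    obtain ⟨t, ht⟩ := h2.trans h1
    rw [ht, pow_mul, uI_four, one_pow]
  let μ₀ : Cg α ⧸ K' →* ℂˣ := monoidHomOfForallMemZpowers hw hι
  have hμ₀ : μ₀ w = uI := monoidHomOfForallMemZpowers_apply_gen hw hι
  let μ : Cg α →* ℂˣ := μ₀.comp (QuotientGroup.mk' K')
  have hμv : ∀ c : Cg α, μ c = μ₀ (c : Cg α ⧸ K') := fun c => rfl
  refine ⟨K'.map (Cg α).subtype, μ, Subgroup.map_subtype_le _, ?_, ?_, ?_, ?_, ?_, ?_⟩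
  · rw [Subgroup.card_map_of_injective (Cg α).subtype_injective, hcardK', ← Nat.not_even_iff_odd, even_iff_two_dvd]
    exact P.not_dvd_index
  · intro x hx hodd
    refine ⟨⟨x, hx⟩, ?_, rfl⟩
    have h1 : (⟨x, hx⟩ : Cg α) ^ K'.index ∈ K' := Subgroup.pow_index_mem _ _
    have hcop : Nat.Coprime K'.index (orderOf (⟨x, hx⟩ : Cg α)) := by
      rw [hindexK']
      apply Nat.Coprime.pow_left
      rw [Nat.coprime_two_left]
      rwa [← Subgroup.orderOf_coe]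
    obtain ⟨m, hm⟩ := exists_pow_eq_self_of_coprime hcop
    rw [← hm]
    exact Subgroup.pow_mem _ h1 _
  · intro c hc
    obtain ⟨x, hx, j, e⟩ := hdec' ⟨c, hc⟩
    refine ⟨x, ⟨x, hx, rfl⟩, j, ?_⟩
    have := congrArg Subtype.val e
    simpa using this
  · rintro c ⟨x, hx, e⟩
    have e' : x = c := Subtype.ext e
    rw [hμv, (QuotientGroup.eq_one_iff c).2 (e' ▸ hx), map_one]
  · exact hμ₀
  · intro c hc
    obtain ⟨j, hj, x, hx, e⟩ := hmk c
    have hμc : μ c = uI ^ j := by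
      rw [hμv, hj, map_pow, hμ₀]
    have hj4 : ¬ 4 ∣ j := by
      rintro ⟨t, rfl⟩
      apply hc
      rw [hμc, pow_mul, uI_four, one_pow]
    -- the order
    set o := orderOf (c : G) with ho
    have h1 : c ^ o = 1 := by
      apply Subtype.ext
      push_cast
      exact pow_orderOf_eq_one _
    have h2 : w ^ (j * o) = 1 := by
      rw [pow_mul, ← hj, ← QuotientGroup.mk_pow, h1, QuotientGroup.mk_one]
    have h3 := hwo _ h2
    rcases Nat.even_or_odd j with hje | hjo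
    · obtain ⟨j', rfl⟩ := even_iff_two_dvd.1 hje
      have hj' : Odd j' := by
        rw [← Nat.not_even_iff_odd]
        intro hj2
        obtain ⟨t, rfl⟩ := even_iff_two_dvd.1 hj2
        apply hj4
        exact ⟨t, by ring⟩
      have h4 : 2 ^ k ∣ j' * o := by
        rw [pow_succ, mul_comm (2 ^ k) 2, mul_assoc] at h3
        exact Nat.dvd_of_mul_dvd_mul_left (by norm_num) h3
      exact (Nat.Coprime.pow_left k (Nat.coprime_two_left.2 hj')).dvd_of_dvd_mul_left h4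
    · have h4 := (Nat.Coprime.pow_left (k + 1) (Nat.coprime_two_left.2 hjo)).dvd_of_dvd_mul_left h3
      exact (pow_dvd_pow 2 (Nat.le_succ k)).trans h4

theorem conj_into_T (y : Cg α) {e : ℕ} (hy : orderOf (y : G) = 2 ^ e) :
    ∃ w : Cg α, ∃ j : ℕ, (w : G) * y * (w : G)⁻¹ = α ^ j := by
  haveI : Fact (Nat.Prime 2) := ⟨Nat.prime_two⟩
  have h2 : IsPGroup 2 (Subgroup.zpowers y) := IsPGroup.of_card (n := e) (by
    rw [Nat.card_zpowers, ← Subgroup.orderOf_coe, hy])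
  obtain ⟨T, hT⟩ := h2.exists_le_sylow
  obtain ⟨g, rfl⟩ := MulAction.exists_smul_eq (Cg α) (Pg h) T
  have hx' : y ∈ (g • (Pg h) : Sylow 2 (Cg α)) := hT (Subgroup.mem_zpowers y)
  have h4 := (Cfsg.Agent.Lib.SylowCount.mem_smul_sylow g y (Pg h)).1 hx'
  obtain ⟨j, hj⟩ := h.pow_mem_T h4
  refine ⟨g⁻¹, j, ?_⟩
  rw [← hj]
  push_cast
  rw [inv_inv]

theorem mem_AD_of_dvd {y : G} (hy : y ∈ Cg α) (hd : 2 ^ k ∣ orderOf y) : y ∈ AD (Dg α) := by
  classical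
  have ho0 : orderOf y ≠ 0 := (orderOf_pos y).ne'
  obtain ⟨s, r, hr, hsr⟩ := Nat.exists_eq_two_pow_mul_odd ho0
  have hks : k ≤ s := by
    have h1 : 2 ^ k ∣ 2 ^ s * r := by rwa [← hsr]
    have h2 : 2 ^ k ∣ 2 ^ s := (Nat.Coprime.pow_left k (Nat.coprime_two_left.2 hr)).dvd_of_dvd_mul_right h1
    exact (Nat.pow_dvd_pow_iff_le_right (by norm_num)).1 h2
  have hrd : r ∣ orderOf y := ⟨2 ^ s, by rw [hsr]; ring⟩
  have hr0 : r ≠ 0 := by
    rintro rfl
    simp at hr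
  have hy2 : orderOf (y ^ r) = 2 ^ s := by
    rw [orderOf_pow_of_dvd hr0 hrd, hsr]
    exact Nat.mul_div_cancel _ (Nat.pos_of_ne_zero hr0)
  have hy2C : y ^ r ∈ Cg α := Subgroup.pow_mem _ hy _
  obtain ⟨w, j, hw⟩ := h.conj_into_T ⟨y ^ r, hy2C⟩ hy2
  have hw' : (w : G) * y ^ r * (w : G)⁻¹ = α ^ j := hw
  have huo : orderOf (α ^ j) = 2 ^ s := by
    rw [← hw', orderOf_cj, hy2]
  have hl : 2 ^ (s - k) ∣ orderOf (α ^ j) := by
    rw [huo]
    exact pow_dvd_pow 2 (Nat.sub_le _ _)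
  have hcE : Nat.card (Subgroup.zpowers ((α ^ j) ^ 2 ^ (s - k))) = 2 ^ k := by
    rw [Nat.card_zpowers, orderOf_pow_of_dvd (by positivity) hl, huo]
    apply Nat.div_eq_of_eq_mul_left (by positivity)
    rw [← pow_add]
    congr 1
    omega
  have hE : Subgroup.zpowers ((α ^ j) ^ 2 ^ (s - k)) ≤ Subgroup.zpowers α := by
    rw [Subgroup.zpowers_le, ← pow_mul]
    exact Subgroup.npow_mem_zpowers _ _
  have hDT : Dg α ≤ Subgroup.zpowers α := by
    rw [Subgroup.zpowers_le]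
    exact Subgroup.npow_mem_zpowers _ _
  have hDE := eq_of_le_zpowers α hDT hE (by rw [h.card_D, hcE])
  intro d hd
  rw [hDE] at hd
  obtain ⟨t, ht⟩ := Subgroup.mem_zpowers_iff.1 hd
  have hcomm : d * w = w * d := by
    have h1 : d ∈ Dg α := by rw [hDE]; exact hd
    exact (Subgroup.mem_centralizer_iff.1 w.2) d h1
  have e1 : d = (w : G)⁻¹ * d * w := by
    rw [mul_assoc, hcomm]
    group
  have e3 : ((α ^ j) ^ 2 ^ (s - k)) ^ t = (w : G) * ((y ^ r) ^ 2 ^ (s - k)) ^ t * (w : G)⁻¹ := by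
    rw [← hw', conj_pow, conj_zpow]
  rw [e1, ← ht, e3]
  have e2 : (w : G)⁻¹ * ((w : G) * ((y ^ r) ^ 2 ^ (s - k)) ^ t * (w : G)⁻¹) * w = ((y ^ r) ^ 2 ^ (s - k)) ^ t := by
    group
  rw [e2]
  apply Subgroup.zpow_mem
  apply Subgroup.pow_mem
  apply Subgroup.npow_mem_zpowers

theorem L_form {g : G} (hg : g ∈ Lg α) : g ∈ Cg α ∨ ∃ c ∈ Cg α, g = ξ * c := by
  classical
  haveI hCn : ((Cg α).subgroupOf (Lg α)).Normal := by
    refine ⟨fun n hn g => ?_⟩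
    have h1 : (n : G) ∈ Cg α := hn
    exact C_conj g.2 h1
  have hDp : IsPGroup 2 (Dg α) := IsPGroup.of_card (n := k) h.card_D
  have h1 := Cfsg.Agent.Lib.SylowCount.relIndex_centralizer_dvd_card_mulAut (Dg α)
  have h2 : IsPGroup 2 (MulAut (Dg α)) := Cfsg.Agent.Lib.SolvCore.isPGroup_mulAut_of_cyclic hDp inferInstance
  obtain ⟨e, he⟩ := IsPGroup.iff_card.1 h2
  rw [he] at h1
  set H : Subgroup (Lg α) := (S : Subgroup G).subgroupOf (Lg α) ⊔ (Cg α).subgroupOf (Lg α) with hH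
  have h3 : H.index ∣ ((Cg α).subgroupOf (Lg α)).index := Subgroup.index_dvd_of_le le_sup_right
  have h4 : H.index ∣ ((S : Subgroup G).subgroupOf (Lg α)).index := Subgroup.index_dvd_of_le le_sup_left
  have h5 : ((Cg α).subgroupOf (Lg α)).index = (Cg α).relIndex (Lg α) := rfl
  have h6 : ((S : Subgroup G).subgroupOf (Lg α)).index = (S : Subgroup G).relIndex (Lg α) := rfl
  have h7 := Subgroup.relIndex_dvd_index_of_le h.S_le_L
  rw [h5] at h3
  rw [h6] at h4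
  obtain ⟨l, -, hl⟩ := (Nat.dvd_prime_pow Nat.prime_two).1 (h3.trans h1)
  have hl0 : l = 0 := by
    by_contra h0
    apply S.not_dvd_index
    rw [hl] at h4
    exact (dvd_pow_self 2 h0).trans (h4.trans h7)
  rw [hl0, pow_zero, Subgroup.index_eq_one] at hl
  have hmem : (⟨g, hg⟩ : Lg α) ∈ H := by
    rw [hl]
    exact Subgroup.mem_top _
  obtain ⟨y, hy, z, hz, e1⟩ := Subgroup.mem_sup_of_normal_right.1 hmem
  have hy' : (y : G) ∈ (S : Subgroup G) := hy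
  have hz' : (z : G) ∈ Cg α := hz
  have e2 : (y : G) * z = g := congrArg Subtype.val e1
  rcases h.hform _ hy' with ⟨j, hj⟩ | ⟨j, hj⟩
  · left
    rw [← e2, hj]
    exact Subgroup.mul_mem _ (Subgroup.pow_mem _ alpha_mem_C _) hz'
  · right
    refine ⟨α ^ j * z, Subgroup.mul_mem _ (Subgroup.pow_mem _ alpha_mem_C _) hz', ?_⟩
    rw [← e2, hj, mul_assoc]

theorem index_two : ((Cg α).subgroupOf (Lg α)).index = 2 := by
  rw [Subgroup.index_eq_two_iff]
  refine ⟨⟨ξ, h.xi_mem_L⟩, ?_⟩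
  rintro ⟨b, hb⟩
  have hx : ξ * ξ ∈ Cg α := by
    rw [h.hsq]
    exact Subgroup.pow_mem _ alpha_mem_C _
  by_cases hbC : b ∈ Cg α
  · right
    refine ⟨hbC, ?_⟩
    intro e1
    have e2 : b * ξ ∈ Cg α := e1
    apply h.xi_not_C
    have := Subgroup.mul_mem _ (Subgroup.inv_mem _ hbC) e2
    rwa [inv_mul_cancel_left] at this
  · left
    refine ⟨?_, hbC⟩
    show b * ξ ∈ Cg α
    rcases h.L_form hb with h1 | ⟨c, hc, rfl⟩
    · exact absurd h1 hbC
    · have e1 : ξ * c * ξ = (ξ * c * ξ⁻¹) * (ξ * ξ) := by group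
      rw [e1]
      exact Subgroup.mul_mem _ (C_conj h.xi_mem_L hc) hx

theorem K_norm {K : Subgroup G} (hKC : K ≤ Cg α) (hKo : Odd (Nat.card K)) (hKm : ∀ x ∈ Cg α, Odd (orderOf x) → x ∈ K)
    {g x : G} (hg : g ∈ Lg α) (hx : x ∈ K) : g * x * g⁻¹ ∈ K := by
  apply hKm _ (C_conj hg (hKC hx))
  rw [orderOf_cj]
  have h1 : orderOf x ∣ Nat.card K := by
    have := Subgroup.orderOf_dvd_natCard K hx
    exact this
  exact Odd.of_dvd_nat hKo h1

theorem K_normalizer {K : Subgroup G} (hKC : K ≤ Cg α) (hKo : Odd (Nat.card K)) (hKm : ∀ x ∈ Cg α, Odd (orderOf x) → x ∈ K) :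
    Lg α ≤ Subgroup.normalizer (K : Set G) := by
  intro g hg
  rw [Subgroup.mem_normalizer_iff]
  intro x
  refine ⟨fun hx => h.K_norm hKC hKo hKm hg hx, fun hx => ?_⟩
  have := h.K_norm hKC hKo hKm (Subgroup.inv_mem _ hg) hx
  have e : g⁻¹ * (g * x * g⁻¹) * g⁻¹⁻¹ = x := by group
  rwa [e] at this

theorem K_sup_S {K : Subgroup G} (hKC : K ≤ Cg α) (hdec : ∀ c ∈ Cg α, ∃ x ∈ K, ∃ j : ℕ, c = x * α ^ j) :
    K ⊔ (S : Subgroup G) = Lg α := by
  apply le_antisymm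
  · exact sup_le (hKC.trans C_le_L) h.S_le_L
  · intro g hg
    have hC : ∀ c ∈ Cg α, c ∈ K ⊔ (S : Subgroup G) := by
      intro c hc
      obtain ⟨x, hx, j, rfl⟩ := hdec c hc
      exact Subgroup.mul_mem _ (Subgroup.mem_sup_left hx) (Subgroup.pow_mem _ (Subgroup.mem_sup_right h.hαS) _)
    rcases h.L_form hg with h1 | ⟨c, hc, rfl⟩
    · exact hC g h1
    · exact Subgroup.mul_mem _ (Subgroup.mem_sup_right h.hξS) (hC c hc)

theorem K_sup_C {K : Subgroup G} (hKC : K ≤ Cg α) (hdec : ∀ c ∈ Cg α, ∃ x ∈ K, ∃ j : ℕ, c = x * α ^ j) :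
    K ⊔ ((S : Subgroup G) ⊓ Cg α) = Cg α := by
  apply le_antisymm
  · exact sup_le hKC inf_le_right
  · intro c hc
    obtain ⟨x, hx, j, rfl⟩ := hdec c hc
    refine Subgroup.mul_mem _ (Subgroup.mem_sup_left hx) (Subgroup.pow_mem _ (Subgroup.mem_sup_right ?_) _)
    exact ⟨h.hαS, alpha_mem_C⟩

end QGens

end gens

section main

variable {G : Type u} [Group G] [Fintype G]

/-- The generalized character for a generalized quaternion Sylow subgroup of order at least `16`. -/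
theorem big_main (S : Sylow 2 G) (n : ℕ) (e : (S : Subgroup G) ≃* QuaternionGroup (2 ^ (n + 2))) :
    ∃ χ₁ χ₂ : IrrCharacter G, χ₁ ≠ χ₂ ∧ (χ₁ : G → ℂ) ≠ (fun _ => 1) ∧ (χ₂ : G → ℂ) ≠ (fun _ => 1) ∧
      ∀ g : G, ¬ 4 ∣ orderOf g → 1 + (χ₂ : G → ℂ) g - (χ₁ : G → ℂ) g = 0 := by
  classical
  obtain ⟨α, ξ, h⟩ := exists_qgens S n e
  obtain ⟨K, μ, hKC, hKo, hKm, hdec, hμK, hμα, hμo⟩ := h.exists_K
  letI : Fintype (Lg α) := Fintype.ofFinite _
  haveI hCn : ((Cg α).subgroupOf (Lg α)).Normal := by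
    refine ⟨fun n hn g => ?_⟩
    have h1 : (n : G) ∈ Cg α := hn
    exact QGens.C_conj g.2 h1
  letI : Fintype ((Cg α).subgroupOf (Lg α)) := Fintype.ofFinite _
  let μ' : (Cg α).subgroupOf (Lg α) →* ℂˣ := μ.comp (Subgroup.subgroupOfEquivOfLe QGens.C_le_L).toMonoidHom
  have hμ' : ∀ c' : (Cg α).subgroupOf (Lg α), μ' c' = μ ⟨c'.1.1, c'.2⟩ := fun _ => rfl
  -- conjugation by `ξ`
  have hform : ∀ c : Cg α, ∃ j : ℕ, μ c = QGens.uI ^ j ∧ ∃ x ∈ K, (c : G) = x * α ^ j := by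
    intro c
    obtain ⟨x, hx, j, e1⟩ := hdec c c.2
    refine ⟨j, ?_, x, hx, e1⟩
    have e2 : c = ⟨x, hKC hx⟩ * (⟨α, QGens.alpha_mem_C⟩ : Cg α) ^ j := by
      apply Subtype.ext
      push_cast
      exact e1
    rw [e2, map_mul, map_pow, hμK _ hx, hμα, one_mul]
  have hξC : ∀ c : Cg α, μ ⟨ξ * c * ξ⁻¹, QGens.C_conj h.xi_mem_L c.2⟩ = (μ c)⁻¹ := by
    intro c
    obtain ⟨j, hj, x, hx, e1⟩ := hform c
    have hx' : ξ * x * ξ⁻¹ ∈ K := h.K_norm hKC hKo hKm h.xi_mem_L hx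
    have e2 : (⟨ξ * c * ξ⁻¹, QGens.C_conj h.xi_mem_L c.2⟩ : Cg α) =
        ⟨ξ * x * ξ⁻¹, hKC hx'⟩ * ((⟨α, QGens.alpha_mem_C⟩ : Cg α)⁻¹) ^ j := by
      apply Subtype.ext
      push_cast
      rw [e1, ← h.hconj, conj_pow]
      group
    rw [e2, map_mul, map_pow, map_inv, hμK _ hx', hμα, one_mul, hj, inv_pow]
  have hconj : ∀ y : Lg α, y ∉ (Cg α).subgroupOf (Lg α) → ∀ c : (Cg α).subgroupOf (Lg α),
      μ' ⟨y⁻¹ * c * y, by
        have := hCn.conj_mem c c.2 y⁻¹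
        rwa [inv_inv] at this⟩ = (μ' c)⁻¹ := by
    intro y hy c
    have hy' : (y : G) ∉ Cg α := hy
    have hyi : ((y : G))⁻¹ ∉ Cg α := fun h1 => hy' (by simpa using Subgroup.inv_mem _ h1)
    rcases h.L_form (Subgroup.inv_mem _ y.2) with h1 | ⟨c₁, hc₁, e1⟩
    · exact absurd h1 hyi
    · let c₀ : Cg α := ⟨(c : Lg α), c.2⟩
      let c₃ : Cg α := ⟨c₁, hc₁⟩
      have e2 : ((⟨⟨(y : G)⁻¹ * (c : Lg α) * y, by
            exact Subgroup.mul_mem _ (Subgroup.mul_mem _ (Subgroup.inv_mem _ y.2) (c : Lg α).2) y.2⟩, by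
            have := hCn.conj_mem c c.2 y⁻¹
            rwa [inv_inv] at this⟩ : (Cg α).subgroupOf (Lg α)) : (Cg α).subgroupOf (Lg α)) =
          ⟨y⁻¹ * c * y, by
        have := hCn.conj_mem c c.2 y⁻¹
        rwa [inv_inv] at this⟩ := rfl
      rw [← e2, hμ', hμ']
      have e3 : (⟨(y : G)⁻¹ * (c : Lg α) * y, by
            have := hCn.conj_mem c c.2 y⁻¹
            rw [inv_inv] at this
            exact this⟩ : Cg α) =
          ⟨ξ * ((c₃ * c₀ * c₃⁻¹ : Cg α) : G) * ξ⁻¹, QGens.C_conj h.xi_mem_L (c₃ * c₀ * c₃⁻¹).2⟩ := by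
        apply Subtype.ext
        show (y : G)⁻¹ * (c : Lg α) * y = ξ * (c₁ * ((c : Lg α) : G) * c₁⁻¹) * ξ⁻¹
        have e4 : (y : G) = ((y : G)⁻¹)⁻¹ := by simp
        nth_rewrite 2 [e4]
        rw [e1]
        group
      refine (congrArg μ e3).trans ?_
      rw [hξC, map_mul, map_mul, map_inv, mul_comm (μ c₃), mul_assoc, mul_inv_cancel, mul_one]
  have hc : ∀ c : (Cg α).subgroupOf (Lg α), conj ((μ' c : ℂˣ) : ℂ) = (((μ' c)⁻¹ : ℂˣ) : ℂ) := by
    intro c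
    obtain ⟨j, hj, -⟩ := hform ⟨c.1.1, c.2⟩
    rw [hμ', hj, ← inv_pow]
    simp only [Units.val_pow_eq_pow_val, map_pow, QGens.uI_coe, Complex.conj_I, Units.val_inv_eq_inv_val, Complex.inv_I]
  have hμ1 : μ ⟨α, QGens.alpha_mem_C⟩ ≠ 1 := by
    rw [hμα]
    intro e1
    have := congrArg (fun u : ℂˣ => (u : ℂ)) e1
    simp [QGens.uI_coe] at this
    have h5 := congrArg Complex.re this
    simp at h5
  have hμ2 : μ ⟨α, QGens.alpha_mem_C⟩ * μ ⟨α, QGens.alpha_mem_C⟩ ≠ 1 := by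
    rw [hμα]
    intro e1
    have := congrArg (fun u : ℂˣ => (u : ℂ)) e1
    simp [QGens.uI_coe] at this
    norm_num at this
  have haL : ⟨α, QGens.C_le_L QGens.alpha_mem_C⟩ ∈ (Cg α).subgroupOf (Lg α) := QGens.alpha_mem_C
  have h1 : ∃ c, μ' c ≠ 1 := ⟨⟨⟨α, QGens.C_le_L QGens.alpha_mem_C⟩, haL⟩, hμ1⟩
  have h2 : ∃ c, μ' c * μ' c ≠ 1 := ⟨⟨⟨α, QGens.C_le_L QGens.alpha_mem_C⟩, haL⟩, hμ2⟩
  have hvan : ∀ x : Lg α, (x : G) ∉ AD (Dg α) → Phi ((Cg α).subgroupOf (Lg α)) μ' x = 0 := by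
    intro x hx
    by_cases hxC : x ∈ (Cg α).subgroupOf (Lg α)
    · rw [Phi_of_mem _ _ hxC]
      by_cases hu : μ' ⟨x, hxC⟩ = 1
      · rw [hu]
        simp
        norm_num
      · exfalso
        apply hx
        apply h.mem_AD_of_dvd hxC
        exact hμo ⟨x.1, hxC⟩ hu
    · exact Phi_of_not _ _ hxC
  obtain ⟨χ₁, χ₂, hne, h₁, h₂, hfin⟩ := ti_pair h.D_ne_bot (Phi_gen _ μ' h.index_two hconj) hvan
    (Phi_inner _ μ' h.index_two hc h1 h2) (Phi_one _ μ' h.index_two h1)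
  refine ⟨χ₁, χ₂, hne, h₁, h₂, fun g hg => hfin g fun x hx => hg ?_⟩
  have h3 := card_dvd_of_mem hx
  rw [orderOf_cj] at h3
  exact h.four_dvd.trans h3

end main

end Cfsg.Agent.Lib.ZsBig
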