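import Mathlib
import Cfsg.Prelude
import Cfsg.Agent.Lib.ZsCore
import Cfsg.Agent.Lib.BrauerSection
import Cfsg.Agent.Lib.CharAb

/-!
# Generalized characters supported on the section of a central involution
-/

set_option autoImplicit false
set_option linter.all false

namespace Cfsg.Agent.Lib.ZsGen

open Cfsg Cfsg.Agent.Lib.ZsCore Cfsg.Agent.Lib.CharGen Cfsg.Agent.Lib.CharOps
  Cfsg.Agent.Lib.CharIrr Cfsg.Agent.Lib.CharIso
open scoped ComplexConjugate

universe u

section defs
variable {C : Type u} [Group C]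

/-- Twice `F` on the section of `z`. -/
noncomputable def Lam (z : C) (F : C → ℂ) : C → ℂ := by
  classical
  exact fun c => if Odd (orderOf (z * c)) then 2 * F c else 0

/-- The function `4` on the section of `z`, `0` on odd elements, `2` elsewhere. -/
noncomputable def Kap (z : C) : C → ℂ := by
  classical
  exact fun c => if Odd (orderOf (z * c)) then 4 else if Odd (orderOf c) then 0 else 2

theorem Lam_of_odd {z c : C} (F : C → ℂ) (h : Odd (orderOf (z * c))) : Lam z F c = 2 * F c := by
  classical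
  simp [Lam, h]

theorem Lam_of_not {z c : C} (F : C → ℂ) (h : ¬ Odd (orderOf (z * c))) : Lam z F c = 0 := by
  classical
  simp [Lam, h]

theorem Kap_of_odd {z c : C} (h : Odd (orderOf (z * c))) : Kap z c = 4 := by
  classical
  simp [Kap, h]

theorem Kap_of_odd' {z c : C} (h : ¬ Odd (orderOf (z * c))) (h' : Odd (orderOf c)) : Kap z c = 0 := by
  classical
  simp [Kap, h, h']

theorem Kap_of_not {z c : C} (h : ¬ Odd (orderOf (z * c))) (h' : ¬ Odd (orderOf c)) : Kap z c = 2 := by
  classical
  simp [Kap, h, h']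

theorem conj_mul_central {z : C} (hz : z ∈ Subgroup.center C) (h c : C) : z * (h * c * h⁻¹) = h * (z * c) * h⁻¹ := by
  have h1 : z * h = h * z := (Subgroup.mem_center_iff.1 hz h).symm
  calc z * (h * c * h⁻¹) = (z * h) * c * h⁻¹ := by group
    _ = (h * z) * c * h⁻¹ := by rw [h1]
    _ = h * (z * c) * h⁻¹ := by group

theorem Lam_isClass {z : C} (hz : z ∈ Subgroup.center C) {F : C → ℂ} (hF : IsClassFunction C F) :
    IsClassFunction C (Lam z F) := by
  intro c h
  by_cases h1 : Odd (orderOf (z * c))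
  · rw [Lam_of_odd F h1, Lam_of_odd F (by rw [conj_mul_central hz, orderOf_cj]; exact h1), hF]
  · rw [Lam_of_not F h1, Lam_of_not F (by rw [conj_mul_central hz, orderOf_cj]; exact h1)]

theorem Kap_isClass {z : C} (hz : z ∈ Subgroup.center C) : IsClassFunction C (Kap z) := by
  classical
  intro c h
  simp only [Kap, conj_mul_central hz, orderOf_cj]

end defs

section nilp

variable {E : Type u} [Group E] [Fintype E] [Group.IsNilpotent E]

/-- Decomposition of a nilpotent group into its `2`-part and its odd part. -/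
theorem exists_decomp (E : Type u) [Group E] [Fintype E] [Group.IsNilpotent E] :
    ∃ (P K : Subgroup E) (q : E →* P) (p : E →* K), P.Normal ∧ K.Normal ∧ K.IsComplement' P ∧ IsPGroup 2 P ∧
      (∀ g, ∃ w ∈ K, g = (q g : E) * w) ∧ (∀ g, ∃ w ∈ P, g = (p g : E) * w) ∧ ¬ 2 ∣ Nat.card K := by
  classical
  haveI : Fact (Nat.Prime 2) := ⟨Nat.prime_two⟩
  obtain ⟨P, K, hK, hc⟩ := Cfsg.Agent.Lib.ThompsonFpf.npc_of_nilpotent (N := E) 2
  haveI hPn : (P : Subgroup E).Normal :=
    Sylow.normal_of_normalizerCondition normalizerCondition_of_isNilpotent P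
  obtain ⟨p, hp⟩ := Cfsg.Agent.Lib.DadeGen.exists_proj K (P : Subgroup E) hK hPn hc
  obtain ⟨q, hq⟩ := Cfsg.Agent.Lib.DadeGen.exists_proj (P : Subgroup E) K hPn hK hc.symm
  refine ⟨P, K, q, p, hPn, hK, hc, P.isPGroup', hq, hp, ?_⟩
  have h1 : (P : Subgroup E).index = Nat.card K := hc.index_eq_card
  rw [← h1]
  exact P.not_dvd_index

/-- `Lam` on a nilpotent group. -/
theorem lam_gen_of_nil (z : E) (hz : z ∈ Subgroup.center E) (hz1 : orderOf z = 2) {F : E → ℂ}
    (hF : IsGeneralizedCharacter E F) (hFz : ∀ e, F (z * e) = F e)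
    (hFv : ∀ e, ¬ Odd (orderOf e) → ¬ Odd (orderOf (z * e)) → F e = 0) :
    IsGeneralizedCharacter E (Lam z F) := by
  classical
  haveI : Fact (Nat.Prime 2) := ⟨Nat.prime_two⟩
  obtain ⟨P, K, q, p, hPn, hKn, hc, hPp, hq, hp, hK2⟩ := exists_decomp E
  letI : Fintype K := Fintype.ofFinite _
  have hdisj : ∀ x, x ∈ K → x ∈ P → x = 1 := fun x h1 h2 => by
    have h3 : x ∈ K ⊓ P := ⟨h1, h2⟩
    rwa [hc.disjoint.eq_bot, Subgroup.mem_bot] at h3
  have hcomm : ∀ a ∈ K, ∀ b ∈ P, Commute a b := fun a ha b hb =>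
    Subgroup.commute_of_normal_of_disjoint K P hKn hPn hc.disjoint a b ha hb
  have hKodd : ∀ x ∈ K, Odd (orderOf x) := by
    intro x hx
    rw [← Nat.not_even_iff_odd, even_iff_two_dvd]
    intro h2
    exact hK2 (h2.trans (Subgroup.orderOf_dvd_natCard K hx))
  have hmemK : ∀ x, Odd (orderOf x) → x ∈ K := by
    intro x hx
    obtain ⟨w, hw, hxw⟩ := hq x
    have h1 : orderOf (q x) ∣ orderOf x := orderOf_map_dvd q x
    obtain ⟨i, hi⟩ := (IsPGroup.iff_orderOf.1 hPp) (q x)
    have h2 : orderOf (q x) = 1 := by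
      rw [hi] at h1 ⊢
      rcases Nat.eq_zero_or_pos i with rfl | hipos
      · simp
      · exfalso
        have h3 : 2 ∣ orderOf x := (dvd_pow_self 2 hipos.ne').trans h1
        rw [← Nat.not_even_iff_odd, even_iff_two_dvd] at hx
        exact hx h3
    rw [orderOf_eq_one_iff] at h2
    rw [h2] at hxw
    simp only [OneMemClass.coe_one, one_mul] at hxw
    rw [hxw]
    exact hw
  have hzz : z * z = 1 := by
    have := pow_orderOf_eq_one z
    rwa [hz1, pow_two] at this
  have hzK : z ∉ K := by
    intro h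
    have := hKodd z h
    rw [hz1] at this
    exact absurd this (by decide)
  have hzP : z ∈ P := by
    obtain ⟨w, hw, hzw⟩ := hq z
    have hcw := hcomm w hw _ (q z).2
    have h1 : (w : E) * w = 1 := by
      have h2 : ((q z : E) * w) * ((q z : E) * w) = 1 := by rw [← hzw]; exact hzz
      have h3 : ((q z : E) * (q z : E)) * (w * w) = 1 := by
        calc ((q z : E) * (q z : E)) * (w * w) = (q z : E) * ((q z : E) * w) * w := by group
          _ = (q z : E) * (w * (q z : E)) * w := by rw [hcw.eq]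
          _ = ((q z : E) * w) * ((q z : E) * w) := by group
          _ = 1 := h2
      have h4 : w * w = ((q z : E) * (q z : E))⁻¹ := eq_inv_of_mul_eq_one_right h3
      exact hdisj _ (K.mul_mem hw hw) (h4 ▸ P.inv_mem (P.mul_mem (q z).2 (q z).2))
    have h5 : w = 1 := by
      have h6 : orderOf w ∣ 2 := orderOf_dvd_of_pow_eq_one (by rw [pow_two]; exact h1)
      have h7 := hKodd w hw
      have h8 : orderOf w = 1 := by
        rcases (Nat.dvd_prime Nat.prime_two).1 h6 with h9 | h9
        · exact h9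
        · rw [h9] at h7; exact absurd h7 (by decide)
      exact orderOf_eq_one_iff.1 h8
    rw [h5, mul_one] at hzw
    rw [hzw]
    exact (q z).2
  have hpz : p z = 1 := by
    obtain ⟨w, hw, hzw⟩ := hp z
    have h1 : (p z : E) = z * w⁻¹ := eq_mul_inv_of_mul_eq hzw.symm
    have h2 : (p z : E) = 1 := hdisj _ (p z).2 (h1 ▸ P.mul_mem hzP (P.inv_mem hw))
    exact Subtype.ext h2
  have hpK : ∀ k : K, p (k : E) = k := by
    intro k
    obtain ⟨w, hw, hkw⟩ := hp (k : E)
    have h1 : w = (p (k : E) : E)⁻¹ * (k : E) := by rw [eq_inv_mul_iff_mul_eq]; exact hkw.symm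
    have h2 : w = 1 := hdisj _ (h1 ▸ K.mul_mem (K.inv_mem (p (k : E)).2) k.2) hw
    rw [h2, mul_one] at hkw
    exact Subtype.ext hkw.symm
  have hFc : IsClassFunction E F := IsGen.isClassFunction hF
  refine isGen_of_int (Lam_isClass hz hFc) (fun θ => ?_)
  -- the central sign
  have hθ1 : (θ : E → ℂ) 1 ≠ 0 := degree_ne_zero θ.2
  set s : ℂ := (θ : E → ℂ) z / (θ : E → ℂ) 1 with hs
  have hsz : ∀ g, (θ : E → ℂ) (z * g) = s * (θ : E → ℂ) g := by
    intro g
    have h1 := Cfsg.Agent.Lib.BrauerSection.irr_apply_mul_central θ.2 hz g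
    have h2 : z * g = g * z := (Subgroup.mem_center_iff.1 hz g).symm
    rw [h2, h1, mul_comm]
  have hs2 : s = 1 ∨ s = -1 := by
    have h1 := hsz z
    rw [hzz] at h1
    have h2 : s * s = 1 := by
      have h3 : (θ : E → ℂ) z = s * (θ : E → ℂ) 1 := by rw [hs]; field_simp
      rw [h3] at h1
      apply mul_right_cancel₀ hθ1
      linear_combination -h1
    have h3 : (s - 1) * (s + 1) = 0 := by linear_combination h2
    rcases mul_eq_zero.1 h3 with h4 | h4
    · left; linear_combination h4
    · right; linear_combination h4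
  have hsconj : conj s = s := by
    rcases hs2 with h | h <;> rw [h] <;> simp
  -- the auxiliary character
  let ν : E → ℂ := fun e => (θ : E → ℂ) ((p e : K) : E)
  have hν : IsCharacter E ν :=
    isCharacter_comp p (isCharacter_restrict K (IsIrrCharacter.isCharacter' θ.2))
  obtain ⟨n, hn⟩ := exists_int_classInner hF (isGen_of_char hν)
  let A : ℂ := ∑ k : K, F (k : E) * conj ((θ : E → ℂ) (k : E))
  have hsum1 : ∑ e : E, Lam z F e * conj ((θ : E → ℂ) e) = 2 * s * A := by
    have h1 : ∑ e : E, Lam z F e * conj ((θ : E → ℂ) e) = ∑ e : E, Lam z F (z * e) * conj ((θ : E → ℂ) (z * e)) :=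
      (Equiv.sum_comp (Equiv.mulLeft z) (fun e => Lam z F e * conj ((θ : E → ℂ) e))).symm
    rw [h1, Cfsg.Agent.Lib.CharOps.sum_over_subgroup K]
    · rw [Finset.mul_sum]
      refine Finset.sum_congr rfl fun k _ => ?_
      have h2 : z * (z * (k : E)) = k := by rw [← mul_assoc, hzz, one_mul]
      rw [Lam_of_odd F (by rw [h2]; exact hKodd _ k.2), hFz, hsz, map_mul, hsconj]
      ring
    · intro e he
      rw [Lam_of_not F, zero_mul]
      rw [← mul_assoc, hzz, one_mul]
      exact fun h => he (hmemK e h)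
  have hsum2 : ∑ e : E, F e * conj (ν e) = 2 * A := by
    have hsplit : ∀ e, F e * conj (ν e) = (if e ∈ K then F e * conj (ν e) else 0) + (if z * e ∈ K then F e * conj (ν e) else 0) := by
      intro e
      by_cases h1 : e ∈ K
      · have h2 : z * e ∉ K := fun h => hzK (by
          have := K.mul_mem h (K.inv_mem h1)
          simpa using this)
        simp [h1, h2]
      · by_cases h2 : z * e ∈ K
        · simp [h1, h2]
        · have h3 : F e = 0 := hFv e (fun h => h1 (hmemK e h)) (fun h => h2 (hmemK _ h))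
          simp [h1, h2, h3]
    rw [Finset.sum_congr rfl (fun e _ => hsplit e), Finset.sum_add_distrib]
    have h1 : ∑ e : E, (if e ∈ K then F e * conj (ν e) else 0) = A := by
      rw [Cfsg.Agent.Lib.CharOps.sum_over_subgroup K _ (fun e he => by simp [he])]
      refine Finset.sum_congr rfl fun k _ => ?_
      simp only [k.2, if_true, ν, hpK]
    have h2 : ∑ e : E, (if z * e ∈ K then F e * conj (ν e) else 0) = A := by
      have hzze : ∀ e : E, z * (z * e) = e := fun e => by rw [← mul_assoc, hzz, one_mul]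
      rw [← Equiv.sum_comp (Equiv.mulLeft z) (fun e => if z * e ∈ K then F e * conj (ν e) else 0)]
      rw [Cfsg.Agent.Lib.CharOps.sum_over_subgroup K _ (fun e he => by
        simp only [Equiv.coe_mulLeft, hzze, he, if_false])]
      refine Finset.sum_congr rfl fun k _ => ?_
      simp only [Equiv.coe_mulLeft, hzze, k.2, if_true, ν, map_mul, hpz, one_mul, hpK, hFz]
    rw [h1, h2]
    ring
  have hfinal : classInner (Lam z F) (θ : E → ℂ) = s * classInner F ν := by
    unfold classInner
    rw [hsum1, hsum2]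
    ring
  rcases hs2 with h | h
  · refine ⟨n, ?_⟩
    rw [hfinal, hn, h, one_mul]
  · refine ⟨-n, ?_⟩
    rw [hfinal, hn, h]
    push_cast
    ring

/-- The function on the `2`-part. -/
noncomputable def hP {P : Type u} [Group P] (z : P) : P → ℂ := by
  classical
  exact fun x => if x = z then 4 else if x = 1 then 0 else 2

theorem hP_gen {P : Type u} [Group P] [Fintype P] (z : P) (hz : z ∈ Subgroup.center P) (hz1 : orderOf z = 2)
    (hP2 : IsPGroup 2 P) (hcard : Nat.card P ≤ 8)
    (hcomm : Nat.card P = 8 → ∃ a b : P, a * b * a⁻¹ * b⁻¹ = z) :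
    IsGeneralizedCharacter P (hP z) := by
  classical
  have hz1' : z ≠ 1 := by
    rintro rfl
    simp at hz1
  have hcl : IsClassFunction P (hP z) := by
    intro g h
    unfold hP
    have e1 : h * g * h⁻¹ = z ↔ g = z := by
      have hcm := Subgroup.mem_center_iff.1 hz h
      have hzc : h⁻¹ * z * h = z := by
        calc h⁻¹ * z * h = h⁻¹ * (z * h) := by group
          _ = h⁻¹ * (h * z) := by rw [hcm]
          _ = z := by group
      constructor
      · intro e
        have : g = h⁻¹ * z * h := by rw [← e]; group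
        rw [this, hzc]
      · intro hg
        rw [hg]
        calc h * z * h⁻¹ = (h * z) * h⁻¹ := rfl
          _ = (z * h) * h⁻¹ := by rw [hcm]
          _ = z := by group
    have e2 : h * g * h⁻¹ = 1 ↔ g = 1 := by
      constructor
      · intro e
        have : g = h⁻¹ * 1 * h := by rw [← e]; group
        rw [this]; group
      · rintro rfl
        group
    simp only [e1, e2]
  refine isGen_of_int hcl (fun θ => ?_)
  have hθ1 : (θ : P → ℂ) 1 ≠ 0 := degree_ne_zero θ.2
  set s : ℂ := (θ : P → ℂ) z / (θ : P → ℂ) 1 with hs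
  have hzz : z * z = 1 := by
    have := pow_orderOf_eq_one z
    rwa [hz1, pow_two] at this
  have hsz : ∀ g, (θ : P → ℂ) (g * z) = (θ : P → ℂ) g * s := fun g =>
    Cfsg.Agent.Lib.BrauerSection.irr_apply_mul_central θ.2 hz g
  have h3z : (θ : P → ℂ) z = (θ : P → ℂ) 1 * s := by rw [hs]; field_simp
  have hs2 : s = 1 ∨ s = -1 := by
    have h1 := hsz z
    rw [hzz, h3z] at h1
    have h2 : s * s = 1 := by
      apply mul_left_cancel₀ hθ1
      rw [mul_one]
      linear_combination -h1
    have h3 : (s - 1) * (s + 1) = 0 := by linear_combination h2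
    rcases mul_eq_zero.1 h3 with h4 | h4
    · left; linear_combination h4
    · right; linear_combination h4
  obtain ⟨d, hd0, hd⟩ := exists_degree_pos θ.2
  -- the value
  have hsum : ∑ x : P, hP z x * conj ((θ : P → ℂ) x) =
      2 * (∑ x : P, conj ((θ : P → ℂ) x)) + 2 * conj ((θ : P → ℂ) z) - 2 * conj ((θ : P → ℂ) 1) := by
    have h1 : ∀ x : P, hP z x * conj ((θ : P → ℂ) x) = 2 * conj ((θ : P → ℂ) x) +
        (if x = z then 2 * conj ((θ : P → ℂ) z) else 0) - (if x = 1 then 2 * conj ((θ : P → ℂ) 1) else 0) := by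
      intro x
      unfold hP
      by_cases h1 : x = z
      · subst h1
        simp only [if_true, if_neg hz1']
        ring
      · by_cases h2 : x = 1
        · subst h2
          simp [Ne.symm hz1', h1]
        · simp [h1, h2]
    rw [Finset.sum_congr rfl (fun x _ => h1 x), Finset.sum_sub_distrib, Finset.sum_add_distrib,
      Finset.sum_ite_eq' , Finset.sum_ite_eq', Finset.mul_sum]
    simp
  have hone : ∃ m : ℕ, classInner (fun _ : P => (1 : ℂ)) (θ : P → ℂ) = m :=
    exists_nat_classInner isCharacter_one (IsIrrCharacter.isCharacter' θ.2)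
  obtain ⟨m, hm⟩ := hone
  have hm' : (Nat.card P : ℂ)⁻¹ * ∑ x : P, conj ((θ : P → ℂ) x) = m := by
    rw [← hm]
    unfold classInner
    simp
  have hcardne : (Nat.card P : ℂ) ≠ 0 := by exact_mod_cast Nat.card_pos.ne'
  have hinner : classInner (hP z) (θ : P → ℂ) = 2 * m + (Nat.card P : ℂ)⁻¹ * (2 * conj ((θ : P → ℂ) z) - 2 * conj ((θ : P → ℂ) 1)) := by
    unfold classInner
    rw [hsum, ← hm']
    ring
  rcases hs2 with h | h
  · refine ⟨2 * m, ?_⟩
    rw [hinner, h3z, h]
    simp
  · -- the faithful case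
    have hval : 2 * conj ((θ : P → ℂ) z) - 2 * conj ((θ : P → ℂ) 1) = -4 * (d : ℂ) := by
      rw [h3z, h, hd]
      simp
      ring
    rw [hinner, hval]
    -- the order of `P`
    obtain ⟨k, hk⟩ := IsPGroup.iff_card.1 hP2
    have h2dvd : 2 ∣ Nat.card P := by
      rw [← hz1]; exact orderOf_dvd_natCard z
    have hk0 : k ≠ 0 := by
      intro h0
      rw [h0, pow_zero] at hk
      rw [hk] at h2dvd
      omega
    have hk3 : k ≤ 3 := by
      by_contra hlt
      have : 2 ^ 4 ≤ 2 ^ k := Nat.pow_le_pow_right (by norm_num) (by omega)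
      rw [← hk] at this
      omega
    have hk' : k = 1 ∨ k = 2 ∨ k = 3 := by omega
    rcases hk' with rfl | rfl | rfl
    · refine ⟨2 * m - 2 * d, ?_⟩
      rw [hk]
      push_cast
      field_simp
      ring
    · refine ⟨2 * m - d, ?_⟩
      rw [hk]
      push_cast
      field_simp
      ring
    · -- `Nat.card P = 8`
      have hc8 : Nat.card P = 8 := by rw [hk]; norm_num
      obtain ⟨a, b, hab⟩ := hcomm hc8
      have hd2 : d = 2 := by
        -- degree one is impossible
        have hd1 : d ≠ 1 := by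
          rintro rfl
          have hθc := IsIrrCharacter.isCharacter' θ.2
          have h11 : (θ : P → ℂ) 1 = 1 := by rw [hd]; simp
          have hm1 := Cfsg.Agent.Lib.CharAb.degree_one_mul hθc h11
          have hinv : (θ : P → ℂ) a * (θ : P → ℂ) a⁻¹ = 1 := by rw [← hm1, mul_inv_cancel, h11]
          have hinvb : (θ : P → ℂ) b * (θ : P → ℂ) b⁻¹ = 1 := by rw [← hm1, mul_inv_cancel, h11]
          have h5 : (θ : P → ℂ) z = 1 := by
            rw [← hab, hm1, hm1, hm1]
            linear_combination (θ : P → ℂ) b * (θ : P → ℂ) b⁻¹ * hinv + hinvb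
          rw [h3z, h, h11] at h5
          norm_num at h5
        have hd3 : d < 3 := by
          by_contra hge
          have h6 := Cfsg.Agent.Lib.CharAb.sum_deg_sq (G := P)
          have h7 : Cfsg.Agent.Lib.CharAb.deg θ = d := by
            have h8 := Cfsg.Agent.Lib.CharAb.apply_one_eq_deg θ
            rw [hd] at h8
            exact_mod_cast h8.symm
          have h9 : Cfsg.Agent.Lib.CharAb.deg θ ^ 2 ≤ ∑ χ : IrrCharacter P, Cfsg.Agent.Lib.CharAb.deg χ ^ 2 :=
            Finset.single_le_sum (f := fun χ : IrrCharacter P => Cfsg.Agent.Lib.CharAb.deg χ ^ 2)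
              (fun _ _ => Nat.zero_le _) (Finset.mem_univ θ)
          rw [h6, h7, hc8] at h9
          nlinarith
        omega
      refine ⟨2 * m - 1, ?_⟩
      rw [hc8, hd2]
      push_cast
      field_simp
      ring

/-- `Kap` on a nilpotent group. -/
theorem kap_gen_of_nil (z : E) (hz : z ∈ Subgroup.center E) (hz1 : orderOf z = 2)
    (huniq : ∀ (P : Subgroup E), IsPGroup 2 P → z ∈ P → Nat.card P ≤ 8 ∧ (Nat.card P = 8 → ∃ a ∈ P, ∃ b ∈ P, a * b * a⁻¹ * b⁻¹ = z)) :
    IsGeneralizedCharacter E (Kap z) := by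
  classical
  haveI : Fact (Nat.Prime 2) := ⟨Nat.prime_two⟩
  obtain ⟨P, K, q, p, hPn, hKn, hc, hPp, hq, hp, hK2⟩ := exists_decomp E
  have hdisj : ∀ x, x ∈ K → x ∈ P → x = 1 := fun x h1 h2 => by
    have h3 : x ∈ K ⊓ P := ⟨h1, h2⟩
    rwa [hc.disjoint.eq_bot, Subgroup.mem_bot] at h3
  have hcomm : ∀ a ∈ K, ∀ b ∈ P, Commute a b := fun a ha b hb =>
    Subgroup.commute_of_normal_of_disjoint K P hKn hPn hc.disjoint a b ha hb
  have hKodd : ∀ x ∈ K, Odd (orderOf x) := by
    intro x hx
    rw [← Nat.not_even_iff_odd, even_iff_two_dvd]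
    intro h2
    exact hK2 (h2.trans (Subgroup.orderOf_dvd_natCard K hx))
  have hmemK : ∀ x, Odd (orderOf x) → q x = 1 := by
    intro x hx
    have h1 : orderOf (q x) ∣ orderOf x := orderOf_map_dvd q x
    obtain ⟨i, hi⟩ := (IsPGroup.iff_orderOf.1 hPp) (q x)
    have h2 : orderOf (q x) = 1 := by
      rw [hi] at h1 ⊢
      rcases Nat.eq_zero_or_pos i with rfl | hipos
      · simp
      · exfalso
        have h3 : 2 ∣ orderOf x := (dvd_pow_self 2 hipos.ne').trans h1
        rw [← Nat.not_even_iff_odd, even_iff_two_dvd] at hx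
        exact hx h3
    exact orderOf_eq_one_iff.1 h2
  have hq1 : ∀ x, q x = 1 → Odd (orderOf x) := by
    intro x hx
    obtain ⟨w, hw, hxw⟩ := hq x
    rw [hx] at hxw
    simp only [OneMemClass.coe_one, one_mul] at hxw
    rw [hxw]
    exact hKodd w hw
  have hzz : z * z = 1 := by
    have := pow_orderOf_eq_one z
    rwa [hz1, pow_two] at this
  have hzP : z ∈ P := by
    obtain ⟨w, hw, hzw⟩ := hq z
    have hcw := hcomm w hw _ (q z).2
    have h1 : (w : E) * w = 1 := by
      have h2 : ((q z : E) * w) * ((q z : E) * w) = 1 := by rw [← hzw]; exact hzz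
      have h3 : ((q z : E) * (q z : E)) * (w * w) = 1 := by
        calc ((q z : E) * (q z : E)) * (w * w) = (q z : E) * ((q z : E) * w) * w := by group
          _ = (q z : E) * (w * (q z : E)) * w := by rw [hcw.eq]
          _ = ((q z : E) * w) * ((q z : E) * w) := by group
          _ = 1 := h2
      have h4 : w * w = ((q z : E) * (q z : E))⁻¹ := eq_inv_of_mul_eq_one_right h3
      exact hdisj _ (K.mul_mem hw hw) (h4 ▸ P.inv_mem (P.mul_mem (q z).2 (q z).2))
    have h5 : w = 1 := by
      have h6 : orderOf w ∣ 2 := orderOf_dvd_of_pow_eq_one (by rw [pow_two]; exact h1)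
      have h7 := hKodd w hw
      have h8 : orderOf w = 1 := by
        rcases (Nat.dvd_prime Nat.prime_two).1 h6 with h9 | h9
        · exact h9
        · rw [h9] at h7; exact absurd h7 (by decide)
      exact orderOf_eq_one_iff.1 h8
    rw [h5, mul_one] at hzw
    rw [hzw]
    exact (q z).2
  let z' : P := ⟨z, hzP⟩
  have hqz : q z = z' := by
    obtain ⟨w, hw, hzw⟩ := hq z
    have h1 : (q z : E)⁻¹ * z = w := inv_mul_eq_of_eq_mul hzw
    have h2 : w = 1 := hdisj _ hw (h1 ▸ P.mul_mem (P.inv_mem (q z).2) hzP)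
    rw [h2, mul_one] at hzw
    exact Subtype.ext hzw.symm
  have hz'zz : z' * z' = 1 := Subtype.ext hzz
  letI : Fintype P := Fintype.ofFinite _
  have hg : IsGeneralizedCharacter P (hP z') := by
    refine hP_gen z' ?_ ?_ hPp ?_ ?_
    · rw [Subgroup.mem_center_iff]
      intro g
      exact Subtype.ext (Subgroup.mem_center_iff.1 hz g)
    · rw [Subgroup.orderOf_mk]; exact hz1
    · exact (huniq P hPp hzP).1
    · intro h8
      obtain ⟨a, ha, b, hb, hab⟩ := (huniq P hPp hzP).2 h8
      exact ⟨⟨a, ha⟩, ⟨b, hb⟩, Subtype.ext hab⟩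
  have hfun : Kap z = fun e => hP z' (q e) := by
    funext e
    by_cases h1 : Odd (orderOf (z * e))
    · have h2 : q (z * e) = 1 := hmemK _ h1
      rw [map_mul, hqz] at h2
      have h3 : q e = z' := by
        have h4 : z' * q e = z' * z' := by rw [h2, hz'zz]
        exact mul_left_cancel h4
      rw [Kap_of_odd h1, h3]
      simp [hP]
    · by_cases h2 : Odd (orderOf e)
      · rw [Kap_of_odd' h1 h2, hmemK e h2]
        have hz'1 : (1 : P) ≠ z' := by
          intro h
          have : (z : E) = 1 := (congrArg Subtype.val h).symm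
          rw [this] at hz1
          simp at hz1
        simp [hP, hz'1]
      · rw [Kap_of_not h1 h2]
        have h3 : q e ≠ z' := by
          intro h
          apply h1
          apply hq1
          rw [map_mul, hqz, h, hz'zz]
        have h4 : q e ≠ 1 := fun h => h2 (hq1 e h)
        simp [hP, h3, h4]
  rw [hfun]
  exact isGen_comp q hg

end nilp

section cent

variable {C : Type u} [Group C] [Fintype C]

theorem mem_of_odd_mul {E : Subgroup C} {z e : C} (hz : z ∈ Subgroup.center C) (hzz : z * z = 1) (he : e ∈ E)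
    (h : Odd (orderOf (z * e))) : z ∈ E := by
  obtain ⟨m, hm⟩ := h
  have h1 : (z * e) ^ orderOf (z * e) = 1 := pow_orderOf_eq_one _
  have hc : Commute z e := (Subgroup.mem_center_iff.1 hz e).symm
  have h5 : z ^ orderOf (z * e) * e ^ orderOf (z * e) = 1 := by
    rw [← hc.mul_pow, h1]
  have h4 : z ^ orderOf (z * e) = z := by
    rw [hm, pow_succ, pow_mul, pow_two, hzz, one_pow, one_mul]
  rw [h4] at h5
  have h6 : e ^ orderOf (z * e) = z := by
    calc e ^ orderOf (z * e) = z * z * e ^ orderOf (z * e) := by rw [hzz, one_mul]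
      _ = z * (z * e ^ orderOf (z * e)) := by group
      _ = z * 1 := by rw [h5]
      _ = z := mul_one z
  rw [← h6]
  exact E.pow_mem he _

theorem lam_gen (z : C) (hz : z ∈ Subgroup.center C) (hz1 : orderOf z = 2) {F : C → ℂ}
    (hF : IsGeneralizedCharacter C F) (hFz : ∀ e, F (z * e) = F e)
    (hFv : ∀ e, ¬ Odd (orderOf e) → ¬ Odd (orderOf (z * e)) → F e = 0) :
    IsGeneralizedCharacter C (Lam z F) := by
  classical
  have hzz : z * z = 1 := by
    have := pow_orderOf_eq_one z
    rwa [hz1, pow_two] at this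
  apply Cfsg.Agent.Lib.BrauerThm.isGen_of_elementary (Lam_isClass hz (IsGen.isClassFunction hF))
  intro E p hp hE
  letI : Fintype E := Fintype.ofFinite _
  haveI hnil := Cfsg.Agent.Lib.BrauerThm.isNilpotent_of_isElementary hp hE
  by_cases hzE : z ∈ E
  · let z' : E := ⟨z, hzE⟩
    have hfun : (fun e : E => Lam z F (e : C)) = Lam z' (fun e : E => F (e : C)) := by
      funext e
      by_cases h1 : Odd (orderOf (z * (e : C)))
      · have h2 : Odd (orderOf (z' * e)) := by
          rw [← Subgroup.orderOf_coe]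
          exact h1
        rw [Lam_of_odd F h1, Lam_of_odd _ h2]
      · have h2 : ¬ Odd (orderOf (z' * e)) := by
          rw [← Subgroup.orderOf_coe]
          exact h1
        rw [Lam_of_not F h1, Lam_of_not _ h2]
    rw [hfun]
    refine lam_gen_of_nil z' ?_ ?_ (isGen_restrict E hF) ?_ ?_
    · rw [Subgroup.mem_center_iff]
      intro g
      exact Subtype.ext (Subgroup.mem_center_iff.1 hz g)
    · rw [Subgroup.orderOf_mk]; exact hz1
    · intro e
      exact hFz e
    · intro e h1 h2
      apply hFv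
      · rw [Subgroup.orderOf_coe]; exact h1
      · intro h3
        apply h2
        rw [← Subgroup.orderOf_coe]
        exact h3
  · have hfun : (fun e : E => Lam z F (e : C)) = 0 := by
      funext e
      exact Lam_of_not F (fun h => hzE (mem_of_odd_mul hz hzz e.2 h))
    rw [hfun]
    exact isGen_zero

theorem kap_gen (z : C) (hz : z ∈ Subgroup.center C) (hz1 : orderOf z = 2)
    (huniq : ∀ x : C, orderOf x = 2 → x = z)
    (h2 : ∀ (P : Subgroup C), IsPGroup 2 P → z ∈ P → Nat.card P ≤ 8 ∧ (Nat.card P = 8 → ∃ a ∈ P, ∃ b ∈ P, a * b * a⁻¹ * b⁻¹ = z)) :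
    IsGeneralizedCharacter C (Kap z) := by
  classical
  have hzz : z * z = 1 := by
    have := pow_orderOf_eq_one z
    rwa [hz1, pow_two] at this
  apply Cfsg.Agent.Lib.BrauerThm.isGen_of_elementary (Kap_isClass hz)
  intro E p hp hE
  letI : Fintype E := Fintype.ofFinite _
  haveI hnil := Cfsg.Agent.Lib.BrauerThm.isNilpotent_of_isElementary hp hE
  by_cases hzE : z ∈ E
  · let z' : E := ⟨z, hzE⟩
    have hfun : (fun e : E => Kap z (e : C)) = Kap z' := by
      funext e
      have h1 : Odd (orderOf (z * (e : C))) ↔ Odd (orderOf (z' * e)) := by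
        rw [← Subgroup.orderOf_coe]
        rfl
      have h2 : Odd (orderOf (e : C)) ↔ Odd (orderOf e) := by
        rw [← Subgroup.orderOf_coe]
      by_cases h3 : Odd (orderOf (z * (e : C)))
      · rw [Kap_of_odd h3, Kap_of_odd (h1.1 h3)]
      · by_cases h4 : Odd (orderOf (e : C))
        · rw [Kap_of_odd' h3 h4, Kap_of_odd' (fun h => h3 (h1.2 h)) (h2.1 h4)]
        · rw [Kap_of_not h3 h4, Kap_of_not (fun h => h3 (h1.2 h)) (fun h => h4 (h2.2 h))]
    rw [hfun]
    refine kap_gen_of_nil z' ?_ ?_ ?_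
    · rw [Subgroup.mem_center_iff]
      intro g
      exact Subtype.ext (Subgroup.mem_center_iff.1 hz g)
    · rw [Subgroup.orderOf_mk]; exact hz1
    · intro P hP hzP
      have hcard : Nat.card (P.map E.subtype) = Nat.card P :=
        Subgroup.card_map_of_injective E.subtype_injective
      have hP' : IsPGroup 2 (P.map E.subtype) := hP.map E.subtype
      obtain ⟨h5, h6⟩ := h2 _ hP' ⟨z', hzP, rfl⟩
      rw [hcard] at h5 h6
      refine ⟨h5, fun h8 => ?_⟩
      obtain ⟨a, ha, b, hb, hab⟩ := h6 h8
      obtain ⟨a', ha', rfl⟩ := ha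
      obtain ⟨b', hb', rfl⟩ := hb
      exact ⟨a', ha', b', hb', Subtype.ext hab⟩
  · have hfun : (fun e : E => Kap z (e : C)) = 0 := by
      funext e
      have h1 : ¬ Odd (orderOf (z * (e : C))) := fun h => hzE (mem_of_odd_mul hz hzz e.2 h)
      by_cases h4 : Odd (orderOf (e : C))
      · exact Kap_of_odd' h1 h4
      · exfalso
        obtain ⟨k, hk⟩ := exists_pow_involution h4 (orderOf_pos _).ne'
        apply hzE
        rw [← huniq _ hk]
        exact E.pow_mem e.2 k
    rw [hfun]
    exact isGen_zero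

end cent

end Cfsg.Agent.Lib.ZsGen
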