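import Mathlib
import Cfsg.Prelude
import Cfsg.Agent.Lib.ZsGen

/-!
# Norm computations for the generalized characters on `C(z)`
-/

set_option autoImplicit false
set_option linter.all false

namespace Cfsg.Agent.Lib.ZsQ8C

open Cfsg Cfsg.Agent.Lib.ZsCore Cfsg.Agent.Lib.ZsGen Cfsg.Agent.Lib.CharGen Cfsg.Agent.Lib.CharOps
  Cfsg.Agent.Lib.CharIrr Cfsg.Agent.Lib.CharIso
open scoped ComplexConjugate

universe u

variable {C : Type u} [Group C] [Fintype C] {z : C}

theorem not_both (hz : z ∈ Subgroup.center C) (hz1 : orderOf z = 2) {c : C} (h : Odd (orderOf c)) :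
    ¬ Odd (orderOf (z * c)) := by
  intro h'
  have hc : Commute z c := (Subgroup.mem_center_iff.1 hz c).symm
  have h1 : (z * c) ^ (orderOf c * orderOf (z * c)) = 1 := by
    rw [mul_comm, pow_mul, pow_orderOf_eq_one, one_pow]
  have h2 : c ^ (orderOf c * orderOf (z * c)) = 1 := by
    rw [pow_mul, pow_orderOf_eq_one, one_pow]
  rw [hc.mul_pow, h2, mul_one] at h1
  have h3 := orderOf_dvd_of_pow_eq_one h1
  rw [hz1] at h3
  have h4 : Odd (orderOf c * orderOf (z * c)) := h.mul h'
  rw [← Nat.not_even_iff_odd, even_iff_two_dvd] at h4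
  exact h4 h3

theorem conj2 : conj (2 : ℂ) = 2 := Complex.conj_ofReal 2
theorem conj4 : conj (4 : ℂ) = 4 := Complex.conj_ofReal 4

/-- The third part: neither `c` nor `z c` has odd order. -/
def T3 (z c : C) : Prop := ¬ Odd (orderOf c) ∧ ¬ Odd (orderOf (z * c))

open Classical in
theorem sum_split (hz : z ∈ Subgroup.center C) (hz1 : orderOf z = 2) (F : C → ℂ) :
    ∑ c : C, F c = ∑ c : C, (if Odd (orderOf c) then F c + F (z * c) else 0) + ∑ c : C, (if T3 z c then F c else 0) := by
  have hzz : z * z = 1 := by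
    have := pow_orderOf_eq_one z
    rwa [hz1, pow_two] at this
  have h1 : ∑ c : C, (if Odd (orderOf (z * c)) then F c else 0) = ∑ c : C, (if Odd (orderOf c) then F (z * c) else 0) := by
    rw [← Equiv.sum_comp (Equiv.mulLeft z) (fun c => if Odd (orderOf (z * c)) then F c else 0)]
    refine Finset.sum_congr rfl fun c _ => ?_
    simp only [Equiv.coe_mulLeft, ← mul_assoc, hzz, one_mul]
  have h2 : ∀ c : C, F c = (if Odd (orderOf c) then F c else 0) + (if Odd (orderOf (z * c)) then F c else 0) + (if T3 z c then F c else 0) := by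
    intro c
    by_cases h3 : Odd (orderOf c)
    · have h4 := not_both hz hz1 h3
      simp [h3, h4, T3]
    · by_cases h4 : Odd (orderOf (z * c))
      · simp [h3, h4, T3]
      · simp [h3, h4, T3]
  have h3 : ∑ c : C, F c = ∑ c : C, ((if Odd (orderOf c) then F c else 0) + (if Odd (orderOf (z * c)) then F c else 0) + (if T3 z c then F c else 0)) :=
    Finset.sum_congr rfl fun c _ => h2 c
  rw [h3, Finset.sum_add_distrib, Finset.sum_add_distrib, h1, ← Finset.sum_add_distrib]
  congr 1
  refine Finset.sum_congr rfl fun c _ => ?_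
  split_ifs <;> simp

variable (a : Fin 3 → C → ℂ)

/-- `u_j = 1 + a_j`. -/
def uu (j : Fin 3) : C → ℂ := fun c => 1 + a j c

/-- The functions `β_j`. -/
noncomputable def bet (z : C) (j : Fin 3) : C → ℂ := fun c => Kap z c - Lam z (fun c => 1 - a j c) c

/-- The function `Θ`. -/
def Th : C → ℂ := fun c => 1 + ∑ k, a k c

variable {a}

structure AData (z : C) (a : Fin 3 → C → ℂ) : Prop where
  hzc : z ∈ Subgroup.center C
  hz1 : orderOf z = 2
  orth : ∀ j k, classInner (a j) (a k) = if j = k then 1 else 0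
  one : ∀ j, classInner (a j) (fun _ => 1) = 0
  hz : ∀ k c, a k (z * c) = a k c
  hT : ∀ k c, T3 z c → a k c = 1
  hodd : ∀ y, Odd (orderOf y) → 1 + ∑ k, a k y = 0

namespace AData

variable (h : AData z a)
include h

theorem zz : z * z = 1 := by
  have := pow_orderOf_eq_one z
  rwa [h.hz1, pow_two] at this

theorem zzc (c : C) : z * (z * c) = c := by rw [← mul_assoc, h.zz, one_mul]

theorem Th_odd {y : C} (hy : Odd (orderOf y)) : Th a y = 0 := h.hodd y hy

theorem Th_zodd {y : C} (hy : Odd (orderOf y)) : Th a (z * y) = 0 := by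
  unfold Th
  simp only [h.hz]
  exact h.hodd y hy

theorem Th_T {c : C} (hc : T3 z c) : Th a c = 4 := by
  unfold Th
  simp only [h.hT _ c hc]
  simp
  norm_num

theorem bet_odd {y : C} (hy : Odd (orderOf y)) (j : Fin 3) : bet a z j y = 0 := by
  have h1 := not_both h.hzc h.hz1 hy
  unfold bet
  rw [Kap_of_odd' h1 hy, Lam_of_not _ h1]
  simp

theorem bet_zodd {y : C} (hy : Odd (orderOf y)) (j : Fin 3) : bet a z j (z * y) = 2 * uu a j y := by
  have h1 : Odd (orderOf (z * (z * y))) := by rw [h.zzc]; exact hy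
  unfold bet uu
  rw [Kap_of_odd h1, Lam_of_odd _ h1, h.hz]
  ring

theorem bet_T {c : C} (hc : T3 z c) (j : Fin 3) : bet a z j c = 2 := by
  unfold bet
  rw [Kap_of_not hc.2 hc.1, Lam_of_not _ hc.2]
  simp

theorem bet_of_zodd {c : C} (hc : Odd (orderOf (z * c))) (j : Fin 3) : bet a z j c = 2 * uu a j c := by
  have := h.bet_zodd hc j
  rw [h.zzc] at this
  unfold uu at this ⊢
  rw [h.hz] at this
  exact this

theorem uu_T {c : C} (hc : T3 z c) (j : Fin 3) : uu a j c = 2 := by
  unfold uu
  rw [h.hT _ c hc]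
  norm_num

theorem uu_z (c : C) (j : Fin 3) : uu a j (z * c) = uu a j c := by
  unfold uu
  rw [h.hz]

theorem T_z {c : C} : T3 z c ↔ T3 z (z * c) := by
  unfold T3
  rw [h.zzc]
  tauto

open Classical in
/-- The number of elements of the third part. -/
noncomputable def tauC (_h : AData z a) : ℂ := ∑ c : C, (if T3 z c then (1 : ℂ) else 0)

open Classical in
/-- The partial sum over odd elements. -/
noncomputable def Yy (_h : AData z a) (f g : C → ℂ) : ℂ := ∑ c : C, (if Odd (orderOf c) then f c * conj (g c) else 0)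

theorem card_ne : (Nat.card C : ℂ) ≠ 0 := by exact_mod_cast Nat.card_pos.ne'

theorem sum_eq_inner (f g : C → ℂ) : ∑ c : C, f c * conj (g c) = (Nat.card C : ℂ) * classInner f g := by
  unfold classInner
  rw [← mul_assoc, mul_inv_cancel₀ h.card_ne, one_mul]

theorem inner_one_one : classInner (fun _ : C => (1 : ℂ)) (fun _ => (1 : ℂ)) = 1 := by
  rw [classInner_irr isIrr_one isIrr_one, if_pos rfl]

theorem inner_one_a (k : Fin 3) : classInner (fun _ : C => (1 : ℂ)) (a k) = 0 := by
  rw [← classInner_conj, h.one, map_zero]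

theorem inner_uu (j k : Fin 3) : classInner (uu a j) (uu a k) = 1 + (if j = k then 1 else 0) := by
  have e : uu a j = (fun _ => (1 : ℂ)) + a j := rfl
  have e' : uu a k = (fun _ => (1 : ℂ)) + a k := rfl
  rw [e, e', classInner_add_left, classInner_add_right, classInner_add_right, h.inner_one_one, h.inner_one_a, h.one, h.orth]
  ring

theorem inner_uu_one (j : Fin 3) : classInner (uu a j) (fun _ => 1) = 1 := by
  have e : uu a j = (fun _ => (1 : ℂ)) + a j := rfl
  rw [e, classInner_add_left, h.inner_one_one, h.one]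
  ring

theorem inner_Th_one : classInner (Th a) (fun _ => 1) = 1 := by
  have e : Th a = (fun _ => (1 : ℂ)) + ∑ k, a k := by
    funext c
    simp [Th]
  rw [e, classInner_add_left, h.inner_one_one, classInner_sum_left]
  simp [h.one]

open Classical in
theorem four_tau : 4 * h.tauC = (Nat.card C : ℂ) := by
  have h1 := h.sum_eq_inner (Th a) (fun _ => 1)
  rw [h.inner_Th_one, mul_one, sum_split h.hzc h.hz1] at h1
  rw [← h1]
  have h2 : ∑ c : C, (if Odd (orderOf c) then Th a c * conj 1 + Th a (z * c) * conj 1 else 0) = 0 := by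
    refine Finset.sum_eq_zero fun c _ => ?_
    split_ifs with hc
    · rw [h.Th_odd hc, h.Th_zodd hc]; simp
    · rfl
  rw [h2, zero_add, tauC, Finset.mul_sum]
  refine Finset.sum_congr rfl fun c _ => ?_
  split_ifs with hc
  · rw [h.Th_T hc]; simp
  · simp

open Classical in
theorem split_uu (j k : Fin 3) : (Nat.card C : ℂ) * (1 + (if j = k then 1 else 0)) = 2 * h.Yy (uu a j) (uu a k) + 4 * h.tauC := by
  have h1 := h.sum_eq_inner (uu a j) (uu a k)
  rw [h.inner_uu, sum_split h.hzc h.hz1] at h1
  rw [← h1]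
  congr 1
  · unfold Yy
    rw [Finset.mul_sum]
    refine Finset.sum_congr rfl fun c _ => ?_
    split_ifs with hc
    · rw [h.uu_z, h.uu_z]; ring
    · simp
  · unfold tauC
    rw [Finset.mul_sum]
    refine Finset.sum_congr rfl fun c _ => ?_
    split_ifs with hc
    · rw [h.uu_T hc, h.uu_T hc, conj2]; norm_num
    · simp

open Classical in
theorem inner_bet (j k : Fin 3) : classInner (bet a z j) (bet a z k) = 1 + 2 * (if j = k then 1 else 0) := by
  apply mul_left_cancel₀ h.card_ne
  rw [← h.sum_eq_inner, sum_split h.hzc h.hz1]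
  have h1 : ∑ c : C, (if Odd (orderOf c) then bet a z j c * conj (bet a z k c) + bet a z j (z * c) * conj (bet a z k (z * c)) else 0) = 4 * h.Yy (uu a j) (uu a k) := by
    unfold Yy
    rw [Finset.mul_sum]
    refine Finset.sum_congr rfl fun c _ => ?_
    split_ifs with hc
    · rw [h.bet_odd hc, h.bet_zodd hc, h.bet_zodd hc]
      simp [conj2]
      ring
    · simp
  have h2 : ∑ c : C, (if T3 z c then bet a z j c * conj (bet a z k c) else 0) = 4 * h.tauC := by
    unfold tauC
    rw [Finset.mul_sum]
    refine Finset.sum_congr rfl fun c _ => ?_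
    split_ifs with hc
    · rw [h.bet_T hc, h.bet_T hc, conj2]; norm_num
    · simp
  rw [h1, h2]
  have h3 := h.split_uu j k
  have h4 := h.four_tau
  linear_combination (-2 : ℂ) * h3 + (-1 : ℂ) * h4

open Classical in
theorem inner_bet_one (j : Fin 3) : classInner (bet a z j) (fun _ => 1) = 1 := by
  apply mul_left_cancel₀ h.card_ne
  rw [← h.sum_eq_inner, sum_split h.hzc h.hz1]
  have h1 := h.sum_eq_inner (uu a j) (fun _ => 1)
  rw [h.inner_uu_one, sum_split h.hzc h.hz1] at h1
  rw [mul_one] at h1 ⊢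
  rw [← h1]
  congr 1
  · refine Finset.sum_congr rfl fun c _ => ?_
    split_ifs with hc
    · rw [h.bet_odd hc, h.bet_zodd hc, h.uu_z]
      simp
      ring
    · rfl
  · refine Finset.sum_congr rfl fun c _ => ?_
    split_ifs with hc
    · rw [h.bet_T hc, h.uu_T hc]
    · rfl

open Classical in
theorem inner_bet_Th (j : Fin 3) : classInner (bet a z j) (Th a) = 2 := by
  apply mul_left_cancel₀ h.card_ne
  rw [← h.sum_eq_inner, sum_split h.hzc h.hz1]
  have h1 : ∑ c : C, (if Odd (orderOf c) then bet a z j c * conj (Th a c) + bet a z j (z * c) * conj (Th a (z * c)) else 0) = 0 := by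
    refine Finset.sum_eq_zero fun c _ => ?_
    split_ifs with hc
    · rw [h.Th_odd hc, h.Th_zodd hc]; simp
    · rfl
  have h2 : ∑ c : C, (if T3 z c then bet a z j c * conj (Th a c) else 0) = 8 * h.tauC := by
    unfold tauC
    rw [Finset.mul_sum]
    refine Finset.sum_congr rfl fun c _ => ?_
    split_ifs with hc
    · rw [h.bet_T hc, h.Th_T hc, conj4]; norm_num
    · simp
  rw [h1, h2, zero_add]
  have h4 := h.four_tau
  linear_combination (2 : ℂ) * h4

open Classical in
theorem inner_Th_Th : classInner (Th a) (Th a) = 4 := by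
  apply mul_left_cancel₀ h.card_ne
  rw [← h.sum_eq_inner, sum_split h.hzc h.hz1]
  have h1 : ∑ c : C, (if Odd (orderOf c) then Th a c * conj (Th a c) + Th a (z * c) * conj (Th a (z * c)) else 0) = 0 := by
    refine Finset.sum_eq_zero fun c _ => ?_
    split_ifs with hc
    · rw [h.Th_odd hc, h.Th_zodd hc]; simp
    · rfl
  have h2 : ∑ c : C, (if T3 z c then Th a c * conj (Th a c) else 0) = 16 * h.tauC := by
    unfold tauC
    rw [Finset.mul_sum]
    refine Finset.sum_congr rfl fun c _ => ?_
    split_ifs with hc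
    · rw [h.Th_T hc, conj4]; norm_num
    · simp
  rw [h1, h2, zero_add]
  have h4 := h.four_tau
  linear_combination (4 : ℂ) * h4

end AData

end Cfsg.Agent.Lib.ZsQ8C
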