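import Mathlib
import Cfsg.Prelude
import Cfsg.Agent.Lib.ZsQ8C
import Cfsg.Agent.Lib.CharBlockSection

/-!
# The `G`-level computation for the Brauer--Suzuki theorem
-/

set_option autoImplicit false
set_option linter.all false

namespace Cfsg.Agent.Lib.ZsQ8Core

open Cfsg Cfsg.Agent.Lib.ZsCore Cfsg.Agent.Lib.ZsGen Cfsg.Agent.Lib.ZsQ8C Cfsg.Agent.Lib.CharGen
  Cfsg.Agent.Lib.CharOps Cfsg.Agent.Lib.CharIrr Cfsg.Agent.Lib.CharIso Cfsg.Agent.Lib.CharBlockSection
  Cfsg.Agent.Lib.CharBlockOrth Cfsg.Agent.Lib.CharBlockConv Cfsg.Agent.Lib.CharBlockThird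
  Cfsg.Agent.Lib.CharBlockRank Cfsg.Agent.Lib.CharBlockDom
open scoped ComplexConjugate

universe u

section pol

variable {G : Type u} [Group G] [Fintype G] {p : ℕ} {M : Ideal AlgInt} {z : G} [Fintype (Cz z)]

/-- Polarized principal block sum on a section. -/
theorem section_pol (hM : IsPModular p M) (hz : ∃ k : ℕ, orderOf z = p ^ k) (c y : Cz z) (hy : ¬ p ∣ orderOf (y : G)) :
    ∑ᶠ ζ ∈ principalBlock M G, secFun p z (ζ : G → ℂ) c * conj ((ζ : G → ℂ) (z * (y : G))) =
      ∑ᶠ ξ ∈ principalBlock M (Cz z), (ξ : (Cz z) → ℂ) c * conj ((ξ : (Cz z) → ℂ) y) := by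
  classical
  have hy' : ¬ p ∣ orderOf y := by rwa [Subgroup.orderOf_coe] at hy
  have hsy : ∀ ζ : IrrCharacter G, secFun p z (ζ : G → ℂ) y = (ζ : G → ℂ) (z * (y : G)) := by
    intro ζ
    unfold secFun
    rw [regPart_apply, if_neg hy']
  -- the delta function
  let δ : (Cz z) → ℂ := fun c => ∑ ξ : IrrCharacter (Cz z), (ξ : (Cz z) → ℂ) c * conj ((ξ : (Cz z) → ℂ) y)
  have hδ : δ = ∑ ζ : IrrCharacter G, conj (secFun p z (ζ : G → ℂ) y) • secFun p z (ζ : G → ℂ) := by
    funext c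
    rw [Finset.sum_apply]
    show ∑ ξ : IrrCharacter (Cz z), (ξ : (Cz z) → ℂ) c * conj ((ξ : (Cz z) → ℂ) y) = _
    rw [← sum_secFun_mul hM hz c y hy]
    refine Finset.sum_congr rfl fun ζ _ => ?_
    simp only [Pi.smul_apply, smul_eq_mul]
    ring
  have hδ2 : δ = ∑ ξ : IrrCharacter (Cz z), conj ((ξ : (Cz z) → ℂ) y) • (ξ : (Cz z) → ℂ) := by
    funext c
    rw [Finset.sum_apply]
    refine Finset.sum_congr rfl fun ξ _ => ?_
    simp only [Pi.smul_apply, smul_eq_mul]
    ring
  have hL : blockPart (principalBlock M (Cz z)) δ c =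
      ∑ᶠ ζ ∈ principalBlock M G, secFun p z (ζ : G → ℂ) c * conj ((ζ : G → ℂ) (z * (y : G))) := by
    rw [hδ, blockPart_sum, finsum_mem_eq_sum_ite]
    refine Finset.sum_congr rfl fun ζ _ => ?_
    split_ifs with hζ
    · rw [blockPart_secFun_principal hM hz hζ c, hsy]
      ring
    · rw [blockPart_secFun_not_principal hM hz hζ]
      simp
  have hR : blockPart (principalBlock M (Cz z)) δ c =
      ∑ᶠ ξ ∈ principalBlock M (Cz z), (ξ : (Cz z) → ℂ) c * conj ((ξ : (Cz z) → ℂ) y) := by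
    rw [hδ2, blockPart_sum, finsum_mem_eq_sum_ite]
    refine Finset.sum_congr rfl fun ξ _ => ?_
    split_ifs with hξ
    · rw [blockPart_of_mem hξ]
      ring
    · rw [blockPart_eq]
      rw [Finset.sum_eq_zero, mul_zero]
      intro ξ' _
      split_ifs with hξ'
      · rw [classInner_irr ξ.2 ξ'.2, if_neg, zero_mul]
        intro h
        exact hξ ((Subtype.ext h : ξ = ξ') ▸ hξ')
      · rfl
  rw [← hL, hR]

/-- The form we use: values at `z` and at `z y`. -/
theorem section_one (hM : IsPModular p M) (hz : ∃ k : ℕ, orderOf z = p ^ k) (y : Cz z) (hy : ¬ p ∣ orderOf (y : G))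
    (hzz : z⁻¹ = z) :
    ∑ᶠ ζ ∈ principalBlock M G, (ζ : G → ℂ) (z * (y : G)) * (ζ : G → ℂ) z =
      ∑ᶠ ξ ∈ principalBlock M (Cz z), (ξ : (Cz z) → ℂ) 1 * (ξ : (Cz z) → ℂ) y := by
  classical
  have hy1 : ¬ p ∣ orderOf ((y⁻¹ : Cz z) : G) := by
    rw [Subgroup.coe_inv, orderOf_inv]; exact hy
  have h1 := section_pol hM hz 1 y⁻¹ hy1
  rw [finsum_mem_eq_sum_ite, finsum_mem_eq_sum_ite] at h1 ⊢
  convert h1 using 1
  · refine Finset.sum_congr rfl fun ζ _ => ?_
    split_ifs with hζ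
    · have hs : secFun p z (ζ : G → ℂ) 1 = (ζ : G → ℂ) z := by
        unfold secFun
        rw [regPart_apply, if_neg (by
          rw [orderOf_one]
          intro hd
          exact (Nat.Prime.one_lt hM.1).ne' (Nat.dvd_one.1 hd))]
        simp
      have hcl : IsClassFunction G (ζ : G → ℂ) := IsCharacter.isClassFunction' (IsIrrCharacter.isCharacter' ζ.2)
      have hc : Commute z (y : G) := commute_of_mem_C y
      have h2 : conj ((ζ : G → ℂ) (z * ((y⁻¹ : Cz z) : G))) = (ζ : G → ℂ) (z * (y : G)) := by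
        rw [conj_apply_eq_inv ζ.2]
        have e : (z * ((y⁻¹ : Cz z) : G))⁻¹ = z * (y : G) := by
          rw [Subgroup.coe_inv, mul_inv_rev, inv_inv, hzz]
          exact hc.eq.symm
        rw [e]
      rw [hs, h2]
      ring
    · rfl
  · refine Finset.sum_congr rfl fun ξ _ => ?_
    split_ifs with hξ
    · rw [conj_apply_eq_inv ξ.2, inv_inv]
    · rfl

end pol

section comb

/-- The combinatorial part: seven distinct characters use up the norm. -/
theorem seven {ι : Type*} [Fintype ι] [DecidableEq ι] (n : ι → ℤ) (t : ι) (c d : Fin 3 → ι)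
    (htc : ∀ k, c k ≠ t) (htd : ∀ k, d k ≠ t) (hcd : ∀ k, c k ≠ d k)
    (hne : ∀ j k, j ≠ k → c j ≠ c k ∧ d j ≠ d k ∧ c j ≠ d k)
    (hnt : n t = 1) (hs : ∑ i, n i ^ 2 = 4) (hd : ∀ k, n (d k) - n (c k) = 1) :
    (∀ k, (n (d k) = 1 ∧ n (c k) = 0) ∨ (n (d k) = 0 ∧ n (c k) = -1)) ∧
      ∀ i, i ≠ t → (∀ k, i ≠ c k ∧ i ≠ d k) → n i = 0 := by
  obtain ⟨a1, a2, a3⟩ := hne 0 1 (by decide)
  obtain ⟨b1, b2, b3⟩ := hne 0 2 (by decide)
  obtain ⟨e1, e2, e3⟩ := hne 1 2 (by decide)
  obtain ⟨-, -, a4⟩ := hne 1 0 (by decide)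
  obtain ⟨-, -, b4⟩ := hne 2 0 (by decide)
  obtain ⟨-, -, e4⟩ := hne 2 1 (by decide)
  have t0 := htc 0
  have t1 := htc 1
  have t2 := htc 2
  have t3 := htd 0
  have t4 := htd 1
  have t5 := htd 2
  have c0 := hcd 0
  have c1 := hcd 1
  have c2 := hcd 2
  have hsum : ∀ s : Finset ι, ∑ i ∈ s, n i ^ 2 ≤ 4 := by
    intro s
    rw [← hs]
    exact Finset.sum_le_sum_of_subset_of_nonneg (Finset.subset_univ s) (fun _ _ _ => sq_nonneg _)
  have hsix : n t ^ 2 + n (c 0) ^ 2 + n (d 0) ^ 2 + n (c 1) ^ 2 + n (d 1) ^ 2 + n (c 2) ^ 2 + n (d 2) ^ 2 ≤ 4 := by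
    have := hsum {t, c 0, d 0, c 1, d 1, c 2, d 2}
    rw [Finset.sum_insert, Finset.sum_insert, Finset.sum_insert, Finset.sum_insert, Finset.sum_insert,
      Finset.sum_insert, Finset.sum_singleton] at this
    · linarith
    all_goals
      simp only [Finset.mem_insert, Finset.mem_singleton, not_or]
      try (repeat' apply And.intro)
      all_goals first | assumption | exact Ne.symm (by assumption)
  have hseven : ∀ i : ι, i ≠ t → (∀ k, i ≠ c k ∧ i ≠ d k) →
      n i ^ 2 + n t ^ 2 + n (c 0) ^ 2 + n (d 0) ^ 2 + n (c 1) ^ 2 + n (d 1) ^ 2 + n (c 2) ^ 2 + n (d 2) ^ 2 ≤ 4 := by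
    intro i hit hi
    obtain ⟨i0, i1⟩ := hi 0
    obtain ⟨i2, i3⟩ := hi 1
    obtain ⟨i4, i5⟩ := hi 2
    have := hsum {i, t, c 0, d 0, c 1, d 1, c 2, d 2}
    rw [Finset.sum_insert, Finset.sum_insert, Finset.sum_insert, Finset.sum_insert, Finset.sum_insert,
      Finset.sum_insert, Finset.sum_insert, Finset.sum_singleton] at this
    · linarith
    all_goals
      simp only [Finset.mem_insert, Finset.mem_singleton, not_or]
      try (repeat' apply And.intro)
      all_goals first | assumption | exact Ne.symm (by assumption)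
  have hone : ∀ k, 1 ≤ n (c k) ^ 2 + n (d k) ^ 2 := by
    intro k
    have h1 : n (d k) = n (c k) + 1 := by linarith [hd k]
    rw [h1]
    nlinarith [sq_nonneg (2 * n (c k) + 1)]
  have h0 := hone 0
  have h1 := hone 1
  have h2 := hone 2
  rw [hnt] at hsix
  constructor
  · intro k
    have h3 : n (c k) ^ 2 + n (d k) ^ 2 = 1 := by
      fin_cases k <;> simp only [Fin.zero_eta, Fin.mk_one, Fin.reduceFinMk] <;> nlinarith
    have h4 : n (d k) = n (c k) + 1 := by linarith [hd k]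
    rw [h4] at h3 ⊢
    have h5 : n (c k) * (n (c k) + 1) = 0 := by nlinarith
    rcases mul_eq_zero.1 h5 with h6 | h6
    · left; constructor <;> omega
    · right; constructor <;> omega
  · intro i hit hi
    have := hseven i hit hi
    rw [hnt] at this
    have h3 : n i ^ 2 ≤ 0 := by nlinarith
    have h4 : n i ^ 2 = 0 := le_antisymm h3 (sq_nonneg _)
    exact pow_eq_zero_iff (two_ne_zero) |>.1 h4

end comb

section main

variable {G : Type u} [Group G] [Fintype G] {M : Ideal AlgInt} {z : G} [Fintype (CZ z)]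

/-- `z` in its centralizer. -/
def zC (z : G) : CZ z := ⟨z, mem_CZ.2 rfl⟩

theorem zC_center : zC z ∈ Subgroup.center (CZ z) := by
  rw [Subgroup.mem_center_iff]
  intro c
  apply Subtype.ext
  exact mem_CZ.1 c.2

theorem orderOf_zC : orderOf (zC z) = orderOf z := by
  rw [← Subgroup.orderOf_coe]
  rfl

variable {a : Fin 3 → CZ z → ℂ}

theorem orderOf_val (c : CZ z) : orderOf (c : G) = orderOf c := Subgroup.orderOf_coe c

/-- The block identity. -/
theorem block_identity (hM : IsPModular 2 M) (h : UInv z) (ha : AData (zC z) a) (f : Fin 3 → ℤ)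
    (hcl : ∀ k, IsClassFunction (CZ z) (bet a (zC z) k)) (hclTh : IsClassFunction (CZ z) (Th a))
    (hfsum : ∑ k, (f k : ℂ) = -1)
    (hB : ∀ y : CZ z, Odd (orderOf (y : G)) →
      ∑ᶠ ξ ∈ principalBlock M (CZ z), (ξ : CZ z → ℂ) 1 * (ξ : CZ z → ℂ) y = 2 * (1 + ∑ k, (f k : ℂ) * a k y))
    (g : G) :
    (∑ k, (1 + (f k : ℂ)) * tau z (bet a (zC z) k) g) - tau z (Th a) g =
      ∑ᶠ ψ ∈ principalBlock M G, (ψ : G → ℂ) g * (ψ : G → ℂ) z := by
  classical
  have hzz : z * z = 1 := by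
    have := pow_orderOf_eq_one z
    rwa [h.1, pow_two] at this
  have hzi : z⁻¹ = z := inv_eq_of_mul_eq_one_left hzz
  have hz2 : ∃ k : ℕ, orderOf z = 2 ^ k := ⟨1, by rw [h.1, pow_one]⟩
  by_cases hg : ∃ (x : G) (c : CZ z), x * g * x⁻¹ = c ∧ Odd (orderOf (z * (c : G)))
  · obtain ⟨x, c, hx, hc⟩ := hg
    have hc' : Odd (orderOf (zC z * c)) := by
      rw [← orderOf_val]
      exact hc
    set y : CZ z := zC z * c with hy
    have hyo' : Odd (orderOf y) := hc'
    have hyo : Odd (orderOf (y : G)) := by rwa [orderOf_val]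
    have hcy : zC z * y = c := by rw [hy, ha.zzc]
    have hcA : (c : G) ∈ AZ z := by
      refine ⟨mem_CZ.1 c.2, ?_⟩
      rw [orderOf_val, ← hcy]
      exact not_both ha.hzc ha.hz1 hyo'
    have hv : ∀ k, tau z (bet a (zC z) k) g = 2 * (1 + a k y) := by
      intro k
      rw [tau_val h (hcl k) hcA hx, ha.bet_of_zodd hc' k, uu, ← hcy, ha.hz]
    have hth : tau z (Th a) g = 0 := by
      rw [tau_val h hclTh hcA hx, ← hcy, ha.Th_zodd hyo']
    have hodd := ha.hodd y hyo'
    have hψ : ∀ ψ : IrrCharacter G, (ψ : G → ℂ) g = (ψ : G → ℂ) (z * (y : G)) := by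
      intro ψ
      have hcl' : IsClassFunction G (ψ : G → ℂ) := IsCharacter.isClassFunction' (IsIrrCharacter.isCharacter' ψ.2)
      have e := hcl' g x
      rw [hx] at e
      rw [← e, ← hcy]
      rfl
    simp only [hψ]
    have hy2 : ¬ 2 ∣ orderOf (y : G) := by
      rw [← even_iff_two_dvd, Nat.not_even_iff_odd]
      exact hyo
    rw [section_one hM hz2 y hy2 hzi, hB y hyo, hth]
    simp only [hv]
    simp only [Fin.sum_univ_three] at hfsum hodd ⊢
    linear_combination 2 * hfsum + 2 * hodd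
  · have hR : ∑ᶠ ψ ∈ principalBlock M G, (ψ : G → ℂ) g * (ψ : G → ℂ) z = 0 := by
      obtain ⟨u, hu⟩ := exists_pPart hM.1 g
      have hnc : ¬ IsConj u z := by
        intro hcj
        obtain ⟨w, hw⟩ := isConj_iff.1 hcj
        obtain ⟨r, hr, hcomm, -, hrr⟩ := id hu
        apply hg
        have hmem : w * g * w⁻¹ ∈ CZ z := by
          rw [mem_CZ, ← hw, ← hr]
          have hc' : r * u = u * r := hcomm.symm
          calc w * (u * r) * w⁻¹ * (w * u * w⁻¹) = w * (u * (r * u)) * w⁻¹ := by group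
            _ = w * (u * (u * r)) * w⁻¹ := by rw [hc']
            _ = _ := by group
        refine ⟨w, ⟨w * g * w⁻¹, hmem⟩, rfl, ?_⟩
        have e : z * (w * g * w⁻¹) = w * r * w⁻¹ := by
          rw [← hr]
          have e1 : w * (u * r) * w⁻¹ = (w * u * w⁻¹) * (w * r * w⁻¹) := by group
          rw [e1, hw, ← mul_assoc, hzz, one_mul]
        show Odd (orderOf (z * (w * g * w⁻¹)))
        rw [e, orderOf_cj, ← Nat.not_even_iff_odd, even_iff_two_dvd]
        exact hrr
      have h0 := block_orthogonality hM (blockClosed_of_isPBlock hM (principal_isPBlock M)) hu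
        (isPPart_self hz2 hM.1 : IsPPart 2 z z) hnc
      rw [hzi] at h0
      exact h0
    rw [hR]
    have hfs : (∑ k, (1 + (f k : ℂ))) * 2 - 4 = 0 := by
      simp only [Fin.sum_univ_three] at hfsum ⊢
      linear_combination 2 * hfsum
    by_cases hA : ∃ x : G, x * g * x⁻¹ ∈ AZ z
    · obtain ⟨x, hxA⟩ := hA
      let c : CZ z := ⟨x * g * x⁻¹, mem_CZ.2 hxA.1⟩
      have hcA : (c : G) ∈ AZ z := hxA
      have hT : T3 (zC z) c := by
        refine ⟨?_, ?_⟩
        · rw [← orderOf_val]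
          exact hxA.2
        · rw [← orderOf_val]
          intro hodd
          exact hg ⟨x, c, rfl, hodd⟩
      have hv : ∀ k, tau z (bet a (zC z) k) g = 2 := by
        intro k
        rw [tau_val h (hcl k) hcA (rfl : x * g * x⁻¹ = (c : G)), ha.bet_T hT k]
      have hth : tau z (Th a) g = 4 := by
        rw [tau_val h hclTh hcA (rfl : x * g * x⁻¹ = (c : G)), ha.Th_T hT]
      simp only [hv, hth]
      rw [← Finset.sum_mul]
      exact hfs
    · push Not at hA
      rw [tau_of_not hA]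
      simp only [tau_of_not hA]
      simp

theorem ci (x y : IrrCharacter G) : classInner (x : G → ℂ) (y : G → ℂ) = if x = y then 1 else 0 := by
  rw [classInner_irr x.2 y.2]
  simp only [Subtype.ext_iff]

theorem cis_left (x y u w : G → ℂ) : classInner (x + y - u) w = classInner x w + classInner y w - classInner u w := by
  simp only [classInner, Pi.sub_apply, Pi.add_apply, sub_mul, add_mul, Finset.sum_sub_distrib, Finset.sum_add_distrib]
  ring

theorem cis_right (x y u w : G → ℂ) : classInner w (x + y - u) = classInner w x + classInner w y - classInner w u := by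
  simp only [classInner, Pi.sub_apply, Pi.add_apply, map_sub, map_add, mul_sub, mul_add, Finset.sum_sub_distrib, Finset.sum_add_distrib]

theorem csub_left (x u w : G → ℂ) : classInner (x - u) w = classInner x w - classInner u w := by
  simp only [classInner, Pi.sub_apply, sub_mul, Finset.sum_sub_distrib]
  ring

theorem final_1 {d e x y F : ℂ} (hd : d ≠ 0) (he : e ≠ 0) (hm : 1 - y ^ 2 / e + x ^ 2 / d = 0) (hde : 1 + d - e = 0)
    (hx : x = F) (hy : y = -(1 + F)) : x = d := by
  have h1 : d * e - d * y ^ 2 + e * x ^ 2 = 0 := by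
    have : d * e * (1 - y ^ 2 / e + x ^ 2 / d) = 0 := by rw [hm, mul_zero]
    rw [← this]
    field_simp
  have e1 : e = 1 + d := by linear_combination -hde
  subst e1
  subst hx
  subst hy
  have h2 : (d - x) ^ 2 = 0 := by linear_combination h1
  have h3 : d - x = 0 := pow_eq_zero_iff (two_ne_zero) |>.1 h2
  linear_combination -h3

theorem final_2 {d e x y F : ℂ} (hd : d ≠ 0) (he : e ≠ 0) (hm : 1 - y ^ 2 / e + x ^ 2 / d = 0) (hde : 1 + d - e = 0)
    (hx : x = 1 + F) (hy : y = -F) : y = e := by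
  have h1 : d * e - d * y ^ 2 + e * x ^ 2 = 0 := by
    have : d * e * (1 - y ^ 2 / e + x ^ 2 / d) = 0 := by rw [hm, mul_zero]
    rw [← this]
    field_simp
  have e1 : e = 1 + d := by linear_combination -hde
  subst e1
  subst hx
  subst hy
  have h2 : (d + 1 + F) ^ 2 = 0 := by linear_combination h1
  have h3 : d + 1 + F = 0 := pow_eq_zero_iff (two_ne_zero) |>.1 h2
  linear_combination -h3

theorem mem_of_coef {B : Set (IrrCharacter G)} [DecidablePred (· ∈ B)] {ψ : IrrCharacter G} {w : ℂ} (hw : w ≠ 0)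
    (h : w = if ψ ∈ B then (ψ : G → ℂ) z else 0) : ψ ∈ B ∧ (ψ : G → ℂ) z = w := by
  by_cases hm : ψ ∈ B
  · rw [if_pos hm] at h
    exact ⟨hm, h.symm⟩
  · rw [if_neg hm] at h
    exact absurd h hw

/-- **The main computation.** -/
theorem core (hM : IsPModular 2 M) (h : UInv z) (ha : AData (zC z) a) (f : Fin 3 → ℤ)
    (hg : ∀ k, IsGeneralizedCharacter (CZ z) (bet a (zC z) k)) (hTh : IsGeneralizedCharacter (CZ z) (Th a))
    (hf : ∀ k, a k 1 = f k) (hf0 : ∀ k, f k ≠ 0) (hf1 : ∀ k, f k ≠ -1)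
    (hB : ∀ y : CZ z, Odd (orderOf (y : G)) →
      ∑ᶠ ξ ∈ principalBlock M (CZ z), (ξ : CZ z → ℂ) 1 * (ξ : CZ z → ℂ) y = 2 * (1 + ∑ k, (f k : ℂ) * a k y)) :
    ∃ χ χ' : Fin 3 → IrrCharacter G,
      (∀ k, χ k ≠ χ' k) ∧ (∀ k, χ k ≠ triv1 G) ∧ (∀ k, χ' k ≠ triv1 G) ∧
      (∀ j k, j ≠ k → χ j ≠ χ k ∧ χ' j ≠ χ' k ∧ χ j ≠ χ' k) ∧
      (∀ k, χ k ∈ principalBlock M G ∧ χ' k ∈ principalBlock M G) ∧
      (∀ ψ ∈ principalBlock M G, (ψ : G → ℂ) z ≠ 0 → ψ = triv1 G ∨ ∃ k, ψ = χ k ∨ ψ = χ' k) ∧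
      (∀ k, (χ k : G → ℂ) z = (χ k : G → ℂ) 1 ∨ (χ' k : G → ℂ) z = (χ' k : G → ℂ) 1) := by
  classical
  have hcl : ∀ k, IsClassFunction (CZ z) (bet a (zC z) k) := fun k => IsGen.isClassFunction (hg k)
  have hclTh : IsClassFunction (CZ z) (Th a) := IsGen.isClassFunction hTh
  have hodd : ∀ k (c : CZ z), Odd (orderOf (c : G)) → bet a (zC z) k c = 0 := fun k c hc =>
    ha.bet_odd (by rwa [orderOf_val] at hc) k
  have hoddTh : ∀ (c : CZ z), Odd (orderOf (c : G)) → Th a c = 0 := fun c hc =>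
    ha.Th_odd (by rwa [orderOf_val] at hc)
  have hcl1 : IsClassFunction G (fun _ => (1 : ℂ)) := fun _ _ => rfl
  have hfsum : ∑ k, (f k : ℂ) = -1 := by
    have := ha.hodd 1 (by simp)
    simp only [hf] at this
    linear_combination this
  -- the images
  set v : Fin 3 → G → ℂ := fun k => tau z (bet a (zC z) k) with hvdef
  set Θ : G → ℂ := tau z (Th a) with hΘ
  have hvgen : ∀ k, IsGeneralizedCharacter G (v k) := fun k => tau_gen h (hg k) (hodd k)
  have hΘgen : IsGeneralizedCharacter G Θ := tau_gen h hTh hoddTh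
  have hinn : ∀ j k, classInner (v j) (v k) = 1 + 2 * (if j = k then 1 else 0) := fun j k => by
    rw [hvdef]
    simp only
    rw [tau_inner h (hcl j) (hcl k) (hodd j), ha.inner_bet]
  have hv1 : ∀ k, classInner (v k) (fun _ => 1) = 1 := fun k => by
    rw [hvdef]
    simp only
    rw [tau_res h (hcl k) (hodd k) _ hcl1]
    exact ha.inner_bet_one k
  have hvΘ : ∀ k, classInner (v k) Θ = 2 := fun k => by
    rw [hvdef, hΘ]
    simp only
    rw [tau_inner h (hcl k) hclTh (hodd k), ha.inner_bet_Th]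
  have hΘΘ : classInner Θ Θ = 4 := by
    rw [hΘ, tau_inner h hclTh hclTh hoddTh, ha.inner_Th_Th]
  have hΘ1 : classInner Θ (fun _ => 1) = 1 := by
    rw [hΘ, tau_res h hclTh hoddTh _ hcl1]
    exact ha.inner_Th_one
  have hv0 : ∀ k, v k 1 = 0 := fun k => tau_of_odd (by simp)
  have hpair := fun k => exists_pair (hvgen k) (by
    rw [hinn, if_pos rfl]; norm_num) (hv1 k) (hv0 k)
  choose χ χ' hne h1 h1' hvv using hpair
  have hT : ((triv1 G : IrrCharacter G) : G → ℂ) = fun _ => 1 := rfl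
  have hχT : ∀ k, χ k ≠ triv1 G := fun k e => h1 k (by rw [e]; rfl)
  have hχT' : ∀ k, χ' k ≠ triv1 G := fun k e => h1' k (by rw [e]; rfl)
  have hvv' : ∀ k, v k = ((triv1 G : IrrCharacter G) : G → ℂ) + (χ' k : G → ℂ) - (χ k : G → ℂ) := hvv
  -- disjointness
  have hdisj : ∀ j k, j ≠ k → χ j ≠ χ k ∧ χ' j ≠ χ' k ∧ χ j ≠ χ' k := by
    intro j k hjk
    have e := hinn j k
    rw [hvv' j, hvv' k, cis_left, cis_right, cis_right, cis_right] at e
    simp only [ci, if_neg hjk, ↓reduceIte, if_neg (hχT' k).symm, if_neg (hχT k).symm, if_neg (hχT' j), if_neg (hχT j)] at e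
    have e2 : (if χ' j = χ' k then (1 : ℂ) else 0) - (if χ' j = χ k then 1 else 0) - (if χ j = χ' k then 1 else 0) + (if χ j = χ k then 1 else 0) = 0 := by
      linear_combination e
    refine ⟨?_, ?_, ?_⟩
    · intro e3
      rw [if_pos e3, if_neg (show ¬ χ' j = χ k from fun e5 => hne j (e3.trans e5.symm)),
        if_neg (show ¬ χ j = χ' k from fun e5 => hne k (e3.symm.trans e5))] at e2
      split_ifs at e2 <;> norm_num at e2
    · intro e3
      rw [if_pos e3, if_neg (show ¬ χ' j = χ k from fun e5 => hne k (e5.symm.trans e3)),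
        if_neg (show ¬ χ j = χ' k from fun e5 => hne j (e5.trans e3.symm))] at e2
      split_ifs at e2 <;> norm_num at e2
    · intro e3
      rw [if_pos e3, if_neg (show ¬ χ' j = χ' k from fun e5 => hne j (e3.trans e5.symm)),
        if_neg (show ¬ χ j = χ k from fun e5 => hne k (e5.symm.trans e3))] at e2
      split_ifs at e2 <;> norm_num at e2
  -- the expansion of `Θ`
  obtain ⟨n, hn, hs⟩ := exists_sq_sum hΘgen
  have hcoef : ∀ ψ : IrrCharacter G, classInner Θ (ψ : G → ℂ) = n ψ := by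
    intro ψ
    rw [hn, classInner_sum_left, Finset.sum_eq_single ψ]
    · rw [classInner_smul_left, ci, if_pos rfl, mul_one]
    · intro φ _ hφ
      rw [classInner_smul_left, ci, if_neg hφ, mul_zero]
    · intro h
      exact absurd (Finset.mem_univ _) h
  have hnT : n (triv1 G) = 1 := by
    have e := hcoef (triv1 G)
    rw [hT, hΘ1] at e
    exact_mod_cast e.symm
  have hs' : ∑ ψ, n ψ ^ 2 = 4 := by
    rw [hΘΘ] at hs
    exact_mod_cast hs.symm
  have hd : ∀ k, n (χ' k) - n (χ k) = 1 := by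
    intro k
    have e2 : classInner Θ (v k) = 2 := by
      rw [← classInner_conj, hvΘ k]
      exact conj2
    rw [hvv' k, cis_right, hcoef, hcoef, hcoef, hnT] at e2
    have e3 : ((n (χ' k) - n (χ k) : ℤ) : ℂ) = 1 := by
      push_cast at e2 ⊢
      linear_combination e2
    exact_mod_cast e3
  obtain ⟨hm, hm0⟩ := seven n (triv1 G) χ χ' hχT hχT' hne hdisj hnT hs' hd
  -- the coefficients of the block identity
  have hR : ∀ ψ : IrrCharacter G, (∑ j, (1 + (f j : ℂ)) * classInner (v j) (ψ : G → ℂ)) - n ψ =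
      if ψ ∈ principalBlock M G then (ψ : G → ℂ) z else 0 := by
    intro ψ
    have hfun : (∑ j, (1 + (f j : ℂ)) • v j) - Θ =
        ∑ ψ' : IrrCharacter G, (if ψ' ∈ principalBlock M G then (ψ' : G → ℂ) z else 0) • (ψ' : G → ℂ) := by
      funext g
      have e := block_identity hM h ha f hcl hclTh hfsum hB g
      rw [finsum_mem_eq_sum_ite] at e
      simp only [Pi.sub_apply, Finset.sum_apply, Pi.smul_apply, smul_eq_mul]
      rw [hvdef, hΘ]
      simp only
      rw [e]
      refine Finset.sum_congr rfl fun ψ' _ => ?_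
      split_ifs <;> ring
    have e := congrArg (fun F => classInner F (ψ : G → ℂ)) hfun
    rw [csub_left, classInner_sum_left, classInner_sum_left, hcoef] at e
    simp only [classInner_smul_left, ci] at e
    have e3 : ∑ ψ' : IrrCharacter G, (if ψ' ∈ principalBlock M G then (ψ' : G → ℂ) z else 0) * (if ψ' = ψ then (1 : ℂ) else 0) =
        if ψ ∈ principalBlock M G then (ψ : G → ℂ) z else 0 := by
      rw [Finset.sum_eq_single ψ]
      · rw [if_pos rfl, mul_one]
      · intro φ _ hφ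
        rw [if_neg hφ, mul_zero]
      · intro h
        exact absurd (Finset.mem_univ _) h
    rw [e3] at e
    exact e
  have hvc' : ∀ j k, classInner (v j) (χ' k : G → ℂ) = if j = k then 1 else 0 := by
    intro j k
    rw [hvv' j, cis_left, ci, ci, ci, if_neg (hχT' k).symm]
    by_cases hjk : j = k
    · subst hjk
      rw [if_neg (hne j), if_pos rfl, if_pos rfl]
      ring
    · rw [if_neg (hdisj j k hjk).2.1, if_neg (hdisj j k hjk).2.2, if_neg hjk]
      ring
  have hvc : ∀ j k, classInner (v j) (χ k : G → ℂ) = -(if j = k then 1 else 0) := by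
    intro j k
    rw [hvv' j, cis_left, ci, ci, ci, if_neg (hχT k).symm]
    by_cases hjk : j = k
    · subst hjk
      rw [if_neg (hne j).symm, if_pos rfl, if_pos rfl]
      ring
    · rw [if_neg (hdisj k j (Ne.symm hjk)).2.2.symm, if_neg (hdisj j k hjk).1, if_neg hjk]
      ring
  have hc' : ∀ k, 1 + (f k : ℂ) - n (χ' k) = if χ' k ∈ principalBlock M G then (χ' k : G → ℂ) z else 0 := by
    intro k
    rw [← hR (χ' k)]
    simp only [hvc', mul_ite, mul_one, mul_zero, Finset.sum_ite_eq', Finset.mem_univ, if_true]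
  have hc : ∀ k, -(1 + (f k : ℂ)) - n (χ k) = if χ k ∈ principalBlock M G then (χ k : G → ℂ) z else 0 := by
    intro k
    rw [← hR (χ k)]
    simp only [hvc, mul_neg, mul_ite, mul_one, mul_zero]
    congr 1
    rw [Finset.sum_neg_distrib]
    simp only [Finset.sum_ite_eq', Finset.mem_univ, if_true]
  have hF0 : ∀ k, (f k : ℂ) ≠ 0 := fun k => by exact_mod_cast hf0 k
  have hF1 : ∀ k, 1 + (f k : ℂ) ≠ 0 := fun k e => by
    apply hf1 k
    have e2 : ((f k + 1 : ℤ) : ℂ) = 0 := by
      push_cast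
      linear_combination e
    have e3 : f k + 1 = 0 := by exact_mod_cast e2
    omega
  have hkey : ∀ k, (χ k ∈ principalBlock M G ∧ χ' k ∈ principalBlock M G) ∧
      ((χ k : G → ℂ) z = (χ k : G → ℂ) 1 ∨ (χ' k : G → ℂ) z = (χ' k : G → ℂ) 1) := by
    intro k
    have hd' := degree_ne_zero (χ' k).2
    have he' := degree_ne_zero (χ k).2
    have hde : 1 + (χ' k : G → ℂ) 1 - (χ k : G → ℂ) 1 = 0 := by
      have e := congrFun (hvv k) 1
      rw [hv0 k] at e
      simp only [Pi.sub_apply, Pi.add_apply] at e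
      exact e.symm
    have hmom := moment h (χ k).2 (χ' k).2 (fun g hg => by
      have e := congrFun (hvv k) g
      have e0 : v k g = 0 := tau_of_odd hg
      rw [e0] at e
      simp only [Pi.sub_apply, Pi.add_apply] at e
      exact e.symm)
    rcases hm k with ⟨h3, h4⟩ | ⟨h3, h4⟩
    · have a1 := hc' k
      rw [h3] at a1
      have a2 := hc k
      rw [h4] at a2
      have a1' : (f k : ℂ) = if χ' k ∈ principalBlock M G then (χ' k : G → ℂ) z else 0 := by
        rw [← a1]
        push_cast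
        ring
      have a2' : -(1 + (f k : ℂ)) = if χ k ∈ principalBlock M G then (χ k : G → ℂ) z else 0 := by
        rw [← a2]
        push_cast
        ring
      obtain ⟨m1, v1⟩ := mem_of_coef (hF0 k) a1'
      obtain ⟨m2, v2⟩ := mem_of_coef (neg_ne_zero.2 (hF1 k)) a2'
      exact ⟨⟨m2, m1⟩, Or.inr (final_1 hd' he' hmom hde v1 v2)⟩
    · have a1 := hc' k
      rw [h3] at a1
      have a2 := hc k
      rw [h4] at a2
      have a1' : 1 + (f k : ℂ) = if χ' k ∈ principalBlock M G then (χ' k : G → ℂ) z else 0 := by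
        rw [← a1]
        push_cast
        ring
      have a2' : -(f k : ℂ) = if χ k ∈ principalBlock M G then (χ k : G → ℂ) z else 0 := by
        rw [← a2]
        push_cast
        ring
      obtain ⟨m1, v1⟩ := mem_of_coef (hF1 k) a1'
      obtain ⟨m2, v2⟩ := mem_of_coef (neg_ne_zero.2 (hF0 k)) a2'
      exact ⟨⟨m2, m1⟩, Or.inl (final_2 hd' he' hmom hde v1 v2)⟩
  refine ⟨χ, χ', hne, hχT, hχT', hdisj, fun k => (hkey k).1, ?_, fun k => (hkey k).2⟩
  intro ψ hψ hψz
  by_contra hcon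
  push Not at hcon
  obtain ⟨hψT, hψk⟩ := hcon
  have hn0 := hm0 ψ hψT (fun k => ⟨(hψk k).1, (hψk k).2⟩)
  have e := hR ψ
  rw [if_pos hψ, hn0] at e
  apply hψz
  rw [← e]
  have e0 : ∀ j, classInner (v j) (ψ : G → ℂ) = 0 := by
    intro j
    rw [hvv' j, cis_left, ci, ci, ci, if_neg (Ne.symm hψT), if_neg (Ne.symm (hψk j).2), if_neg (Ne.symm (hψk j).1)]
    ring
  simp only [e0]
  simp

end main

end Cfsg.Agent.Lib.ZsQ8Core
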