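import Mathlib
import Cfsg.Prelude
import Cfsg.Agent.Lib.ZsQ8Core
import Cfsg.Agent.Lib.CharBlockKlein
import Cfsg.Agent.Lib.CharInflate
import Cfsg.Agent.Lib.BlockApps
import Cfsg.Agent.Lib.BrauerSection

/-!
# The data on `C(z)` coming from the Klein four quotient
-/

set_option autoImplicit false
set_option linter.all false

namespace Cfsg.Agent.Lib.ZsQ8Data

open Cfsg Cfsg.Agent.Lib.ZsCore Cfsg.Agent.Lib.ZsGen Cfsg.Agent.Lib.ZsQ8C Cfsg.Agent.Lib.ZsQ8Core Cfsg.Agent.Lib.CharGen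
  Cfsg.Agent.Lib.CharOps Cfsg.Agent.Lib.CharIrr Cfsg.Agent.Lib.CharIso Cfsg.Agent.Lib.CharBlockSection
  Cfsg.Agent.Lib.CharBlockOrth Cfsg.Agent.Lib.CharBlockConv Cfsg.Agent.Lib.CharBlockThird
  Cfsg.Agent.Lib.CharBlockRank Cfsg.Agent.Lib.CharBlockDom Cfsg.Agent.Lib.CharBlockKlein Cfsg.Agent.Lib.CharBlockKer
  Cfsg.Agent.Lib.CharInflate
open scoped ComplexConjugate

universe u

section klein

variable {Q : Type u} [Group Q] [Fintype Q] {M : Ideal AlgInt}

/-- The Klein four principal block in a uniform form. -/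
theorem klein_form (hM : IsPModular 2 M) (P : Sylow 2 Q) [hK : IsKleinFour (P : Subgroup Q)]
    (hone : ∀ s t : Q, orderOf s = 2 → orderOf t = 2 → IsConj s t) :
    ∃ (θ : Fin 3 → IrrCharacter Q) (s : Fin 3 → ℤ), (∀ k, s k = 1 ∨ s k = -1) ∧ Function.Injective θ ∧
      (∀ k, θ k ≠ triv1 Q) ∧
      (∀ ξ : IrrCharacter Q, ξ ∈ principalBlock M Q ↔ ξ = triv1 Q ∨ ∃ k, ξ = θ k) ∧
      (∀ k (u : Q), orderOf u = 2 → (θ k : Q → ℂ) u = s k) ∧
      (∀ k, (4 : ℤ) ∣ (charDegree (θ k : Q → ℂ) : ℤ) - s k) ∧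
      (∀ y : Q, Odd (orderOf y) → 1 + ∑ k, (s k : ℂ) * (θ k : Q → ℂ) y = 0) := by
  classical
  obtain ⟨ζ₂, ζ₃, ζ₄, ε, hε, h2, h3, h23, h24, h34, hB, hval, hd2, hd3, hd4, hsum⟩ := klein_principal hM P hone
  obtain ⟨x₀, y₀, hx₀, -, -⟩ := Cfsg.Agent.Lib.KleinSylow.exists_pair P
  have hzo : orderOf (x₀ : Q) = 2 := Cfsg.Agent.Lib.KleinSylow.orderOf_of_ne_one P hx₀
  have h4 : ζ₄ ≠ triv1 Q := by
    intro e
    have e1 := (hval _ hzo).2.2
    rw [e] at e1
    have e2 : ((triv1 Q : IrrCharacter Q) : Q → ℂ) x₀ = 1 := rfl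
    rw [e2] at e1
    norm_num at e1
  have h2' : ζ₂ ≠ triv1 Q := fun e => h2 (by rw [e]; rfl)
  have h3' : ζ₃ ≠ triv1 Q := fun e => h3 (by rw [e]; rfl)
  refine ⟨![ζ₂, ζ₃, ζ₄], ![1, ε, -1], ?_, ?_, ?_, ?_, ?_, ?_, ?_⟩
  · intro k
    fin_cases k
    · left; rfl
    · exact hε
    · right; rfl
  · intro j k hjk
    fin_cases j <;> fin_cases k <;> simp_all
  · intro k
    fin_cases k
    · exact h2'
    · exact h3'
    · exact h4
  · intro ξ
    rw [hB]
    simp only [Set.mem_setOf_eq, Fin.exists_fin_succ, Fin.succ_zero_eq_one, Fin.succ_one_eq_two, Fin.isValue, IsEmpty.exists_iff, or_false]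
    have e : (ξ : Q → ℂ) = (fun _ => 1) ↔ ξ = triv1 Q := by
      constructor
      · intro e
        exact Subtype.ext e
      · intro e
        rw [e]
        rfl
    rw [e]
    simp
  · intro k u hu
    obtain ⟨a, b, c⟩ := hval u hu
    fin_cases k
    · simpa using a
    · simpa using b
    · simpa using c
  · intro k
    fin_cases k
    · simpa using hd2
    · simpa using hd3
    · simpa using hd4
  · intro y hy
    have := hsum y hy
    simp only [Fin.sum_univ_three]
    simp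
    linear_combination this

/-- Values of the principal block on elements of even order. -/
theorem principal_section_val (hM : IsPModular 2 M) (P : Sylow 2 Q) [hK : IsKleinFour (P : Subgroup Q)]
    (hone : ∀ s t : Q, orderOf s = 2 → orderOf t = 2 → IsConj s t) {z : Q} (hzP : z ∈ (P : Subgroup Q)) (hzo : orderOf z = 2)
    {χ : IrrCharacter Q} (hχ : χ ∈ principalBlock M Q) {x : Q} (hx : 2 ∣ orderOf x) : (χ : Q → ℂ) x = (χ : Q → ℂ) z := by
  classical
  haveI : Fact (Nat.Prime 2) := ⟨Nat.prime_two⟩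
  have hcl : IsClassFunction Q (χ : Q → ℂ) := IsCharacter.isClassFunction' (IsIrrCharacter.isCharacter' χ.2)
  have hnc := exists_index_core 2 (npc_centralizer P hzP hzo)
  obtain ⟨u, hu⟩ := exists_pPart hM.1 x
  obtain ⟨v, huv, hc, ⟨k, hk⟩, hv⟩ := id hu
  have hu1 : u ≠ 1 := by
    intro h
    rw [h, one_mul] at huv
    rw [huv] at hv
    exact hv hx
  have huo : orderOf u = 2 := by
    apply orderOf_eq_prime
    · rw [pow_two]; exact two_element_sq P hk
    · exact hu1
  obtain ⟨g, hg⟩ := isConj_iff.1 (hone u z huo hzo)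
  have h1 : g * x * g⁻¹ = z * (g * v * g⁻¹) := by
    rw [← huv, ← hg]; group
  have hvC : g * v * g⁻¹ ∈ Subgroup.centralizer ({z} : Set Q) := by
    rw [Subgroup.mem_centralizer_singleton_iff, ← hg]
    have hc' : v * u = u * v := hc.symm
    calc g * v * g⁻¹ * (g * u * g⁻¹) = g * (v * u) * g⁻¹ := by group
      _ = g * (u * v) * g⁻¹ := by rw [hc']
      _ = g * u * g⁻¹ * (g * v * g⁻¹) := by group
  have hvo : ¬ 2 ∣ orderOf (⟨g * v * g⁻¹, hvC⟩ : Subgroup.centralizer ({z} : Set Q)) := by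
    rw [← Subgroup.orderOf_coe]
    show ¬ 2 ∣ orderOf (g * v * g⁻¹)
    rw [orderOf_conj']
    exact hv
  have hcore := regular_mem_core Nat.prime_two hnc hvo
  have hmem : g * v * g⁻¹ ∈ centralizerPPrimeCore 2 z := ⟨_, hcore, rfl⟩
  have h2 := section_principal_const hM ⟨1, by rw [hzo, pow_one]⟩ hmem hχ
  have h3 := hcl x g
  rw [h1] at h3
  rw [← h3, h2]

end klein

section cent

variable {C : Type u} [Group C] [Fintype C] {z : C} {M : Ideal AlgInt}

theorem irr_central_sign (hzc : z ∈ Subgroup.center C) (hzz : z * z = 1) (ξ : IrrCharacter C) :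
    (ξ : C → ℂ) z = (ξ : C → ℂ) 1 ∨ (ξ : C → ℂ) z = -(ξ : C → ℂ) 1 := by
  have h := Cfsg.Agent.Lib.BrauerSection.irr_apply_mul_central ξ.2 hzc z
  rw [hzz] at h
  have h0 := degree_ne_zero ξ.2
  have h1 : ((ξ : C → ℂ) z - (ξ : C → ℂ) 1) * ((ξ : C → ℂ) z + (ξ : C → ℂ) 1) = 0 := by
    field_simp at h
    linear_combination -h
  rcases mul_eq_zero.1 h1 with h2 | h2
  · left; linear_combination h2
  · right; linear_combination h2

/-- The block sum splits according to `z`. -/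
theorem sum_half (hM : IsPModular 2 M) (hzc : z ∈ Subgroup.center C) (hz1 : orderOf z = 2) {y : C} (hy : Odd (orderOf y)) [DecidablePred fun ξ : IrrCharacter C => ξ ∈ principalBlock M C ∧ (ξ : C → ℂ) z = (ξ : C → ℂ) 1] :
    ∑ᶠ ξ ∈ principalBlock M C, (ξ : C → ℂ) 1 * (ξ : C → ℂ) y =
      2 * ∑ ξ : IrrCharacter C, (if ξ ∈ principalBlock M C ∧ (ξ : C → ℂ) z = (ξ : C → ℂ) 1 then (ξ : C → ℂ) 1 * (ξ : C → ℂ) y else 0) := by
  classical
  have hzz : z * z = 1 := by
    have := pow_orderOf_eq_one z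
    rwa [hz1, pow_two] at this
  have hzi : z⁻¹ = z := inv_eq_of_mul_eq_one_left hzz
  have hy2 : ¬ 2 ∣ orderOf y := by
    rw [← even_iff_two_dvd, Nat.not_even_iff_odd]
    exact hy
  have hz1' : z ≠ 1 := by
    intro e
    rw [e, orderOf_one] at hz1
    omega
  have hn : ¬ IsConj (1 : C) z := by
    intro e
    exact hz1' (isConj_one_right.1 e)
  have h0 := block_orthogonality hM (blockClosed_of_isPBlock hM (principal_isPBlock M))
    (isPPart_one_of_regular hy2 : IsPPart 2 y 1) (isPPart_self ⟨1, by rw [hz1, pow_one]⟩ hM.1 : IsPPart 2 z z) hn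
  rw [hzi, finsum_mem_eq_sum_ite] at h0
  rw [finsum_mem_eq_sum_ite, Finset.mul_sum]
  have h2 : ∑ ξ : IrrCharacter C, (if ξ ∈ principalBlock M C then (ξ : C → ℂ) 1 * (ξ : C → ℂ) y else 0) =
      ∑ ξ : IrrCharacter C, (if ξ ∈ principalBlock M C then (ξ : C → ℂ) 1 * (ξ : C → ℂ) y else 0) +
        ∑ ξ : IrrCharacter C, (if ξ ∈ principalBlock M C then (ξ : C → ℂ) y * (ξ : C → ℂ) z else 0) := by
    rw [h0, add_zero]
  rw [h2, ← Finset.sum_add_distrib]
  refine Finset.sum_congr rfl fun ξ _ => ?_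
  by_cases hξ : ξ ∈ principalBlock M C
  · rw [if_pos hξ, if_pos hξ]
    rcases irr_central_sign hzc hzz ξ with h | h
    · rw [if_pos ⟨hξ, h⟩, h]
      ring
    · have hne : ¬ (ξ : C → ℂ) z = (ξ : C → ℂ) 1 := by
        rw [h]
        intro e
        have h5 : (2 : ℂ) * (ξ : C → ℂ) 1 = 0 := by linear_combination -e
        have h6 := degree_ne_zero ξ.2
        simp [h6] at h5
      rw [if_neg (fun hh => hne hh.2), h]
      ring
  · rw [if_neg hξ, if_neg hξ, if_neg (fun hh => hξ hh.1)]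
    simp

section quot

variable [hN : (Subgroup.zpowers z).Normal]

/-- Inflation of irreducible characters. -/
noncomputable def infl (θ : IrrCharacter (C ⧸ Subgroup.zpowers z)) : IrrCharacter C :=
  ⟨fun c => (θ : C ⧸ Subgroup.zpowers z → ℂ) (c : C ⧸ Subgroup.zpowers z), isIrr_inflate _ θ.2⟩

theorem infl_apply (θ : IrrCharacter (C ⧸ Subgroup.zpowers z)) (c : C) :
    (infl θ : C → ℂ) c = (θ : C ⧸ Subgroup.zpowers z → ℂ) (c : C ⧸ Subgroup.zpowers z) := rfl

theorem mk_z : ((z : C) : C ⧸ Subgroup.zpowers z) = 1 :=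
  (QuotientGroup.eq_one_iff z).2 (Subgroup.mem_zpowers z)

theorem mk_z_mul (c : C) : ((z * c : C) : C ⧸ Subgroup.zpowers z) = (c : C ⧸ Subgroup.zpowers z) := by
  rw [QuotientGroup.mk_mul, mk_z, one_mul]

theorem infl_z (θ : IrrCharacter (C ⧸ Subgroup.zpowers z)) : (infl θ : C → ℂ) z = (infl θ : C → ℂ) 1 := by
  rw [infl_apply, infl_apply, mk_z, QuotientGroup.mk_one]

theorem infl_injective : Function.Injective (infl (z := z)) := by
  intro θ θ' h
  apply Subtype.ext
  funext q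
  obtain ⟨c, rfl⟩ := QuotientGroup.mk_surjective q
  have := congrArg (fun ξ : IrrCharacter C => (ξ : C → ℂ) c) h
  exact this

theorem infl_triv : infl (triv1 (C ⧸ Subgroup.zpowers z)) = triv1 C := rfl

theorem exists_infl (hzz : z * z = 1) (ξ : IrrCharacter C) (h : (ξ : C → ℂ) z = (ξ : C → ℂ) 1) :
    ∃ θ : IrrCharacter (C ⧸ Subgroup.zpowers z), ξ = infl θ := by
  have hker : ∀ n ∈ Subgroup.zpowers z, (ξ : C → ℂ) n = (ξ : C → ℂ) 1 := by
    intro n hn
    obtain ⟨k, rfl⟩ := Subgroup.mem_zpowers_iff.1 hn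
    rcases Int.even_or_odd' k with ⟨m, rfl | rfl⟩
    · rw [zpow_mul, zpow_two, hzz, one_zpow]
    · rw [zpow_add, zpow_mul, zpow_two, hzz, one_zpow, one_mul, zpow_one, h]
  obtain ⟨θ, hθ, he⟩ := exists_quotient_irr _ ξ.2 hker
  refine ⟨⟨θ, hθ⟩, Subtype.ext ?_⟩
  funext c
  exact (he c).symm

theorem infl_mem_iff (hM : IsPModular 2 M) (hzc : z ∈ Subgroup.center C) (hz1 : orderOf z = 2)
    (θ : IrrCharacter (C ⧸ Subgroup.zpowers z)) :
    infl θ ∈ principalBlock M C ↔ θ ∈ principalBlock M (C ⧸ Subgroup.zpowers z) := by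
  classical
  letI : Fintype (C ⧸ Subgroup.zpowers z) := Fintype.ofFinite _
  have hP : IsPGroup 2 (Subgroup.zpowers z) := IsPGroup.of_card (n := 1) (by rw [Nat.card_zpowers, hz1, pow_one])
  have hC : ∃ k : ℕ, (Subgroup.centralizer ((Subgroup.zpowers z : Subgroup C) : Set C)).index = 2 ^ k := by
    refine ⟨0, ?_⟩
    have : Subgroup.centralizer ((Subgroup.zpowers z : Subgroup C) : Set C) = ⊤ := by
      rw [eq_top_iff]
      intro g _
      rw [Subgroup.mem_centralizer_iff]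
      intro h hh
      obtain ⟨k, rfl⟩ := Subgroup.mem_zpowers_iff.1 hh
      exact ((Commute.zpow_left (show Commute z g from (Subgroup.mem_center_iff.1 hzc g).symm) k)).eq
    rw [this]
    simp
  have h1 := (inflate_blocks hM (Subgroup.zpowers z) hP hC).1 (triv1 _) θ
  exact h1.symm

/-- The half sum over the block, from the Klein four description. -/
theorem half_eq (hM : IsPModular 2 M) (hzc : z ∈ Subgroup.center C) (hz1 : orderOf z = 2)
    (θ : Fin 3 → IrrCharacter (C ⧸ Subgroup.zpowers z)) (hinj : Function.Injective θ) (hT : ∀ k, θ k ≠ triv1 _)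
    (hB : ∀ ξ, ξ ∈ principalBlock M (C ⧸ Subgroup.zpowers z) ↔ ξ = triv1 _ ∨ ∃ k, ξ = θ k) (y : C)
    [DecidablePred fun ξ : IrrCharacter C => ξ ∈ principalBlock M C ∧ (ξ : C → ℂ) z = (ξ : C → ℂ) 1] :
    ∑ ξ : IrrCharacter C, (if ξ ∈ principalBlock M C ∧ (ξ : C → ℂ) z = (ξ : C → ℂ) 1 then (ξ : C → ℂ) 1 * (ξ : C → ℂ) y else 0) =
      1 + ∑ k, ((infl (θ k) : IrrCharacter C) : C → ℂ) 1 * ((infl (θ k) : IrrCharacter C) : C → ℂ) y := by
  classical
  have hzz : z * z = 1 := by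
    have := pow_orderOf_eq_one z
    rwa [hz1, pow_two] at this
  let Φ : Option (Fin 3) → IrrCharacter C := fun o => match o with
    | none => triv1 C
    | some k => infl (θ k)
  have hΦ : Function.Injective Φ := by
    intro o o' h
    cases o with
    | none =>
      cases o' with
      | none => rfl
      | some k =>
        exfalso
        have : infl (triv1 (C ⧸ Subgroup.zpowers z)) = infl (θ k) := h
        exact hT k (infl_injective this).symm
    | some j =>
      cases o' with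
      | none =>
        exfalso
        have : infl (θ j) = infl (triv1 (C ⧸ Subgroup.zpowers z)) := h
        exact hT j (infl_injective this)
      | some k =>
        have : infl (θ j) = infl (θ k) := h
        rw [hinj (infl_injective this)]
  have hset : Finset.univ.filter (fun ξ : IrrCharacter C => ξ ∈ principalBlock M C ∧ (ξ : C → ℂ) z = (ξ : C → ℂ) 1) =
      Finset.univ.image Φ := by
    ext ξ
    simp only [Finset.mem_filter, Finset.mem_univ, true_and, Finset.mem_image]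
    constructor
    · rintro ⟨h1, h2⟩
      obtain ⟨τ, rfl⟩ := exists_infl hzz ξ h2
      rcases (hB τ).1 ((infl_mem_iff hM hzc hz1 τ).1 h1) with rfl | ⟨k, rfl⟩
      · exact ⟨none, rfl⟩
      · exact ⟨some k, rfl⟩
    · rintro ⟨o, rfl⟩
      cases o with
      | none =>
        have e : Φ none = infl (triv1 (C ⧸ Subgroup.zpowers z)) := rfl
        rw [e]
        exact ⟨(infl_mem_iff hM hzc hz1 _).2 ((hB _).2 (Or.inl rfl)), infl_z _⟩
      | some k =>
        have e : Φ (some k) = infl (θ k) := rfl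
        rw [e]
        exact ⟨(infl_mem_iff hM hzc hz1 _).2 ((hB _).2 (Or.inr ⟨k, rfl⟩)), infl_z _⟩
  rw [← Finset.sum_filter, hset, Finset.sum_image (fun a _ b _ h => hΦ h), Fintype.sum_option]
  simp only [Φ]
  congr 1
  show (1 : ℂ) * 1 = 1
  ring

end quot

end cent

section data

variable {C : Type u} [Group C] [Fintype C] {z : C} {M : Ideal AlgInt} [hN : (Subgroup.zpowers z).Normal]

theorem even_quot (hzc : z ∈ Subgroup.center C) (hz1 : orderOf z = 2) {c : C} (hc : T3 z c) :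
    2 ∣ orderOf (c : C ⧸ Subgroup.zpowers z) := by
  have hzz : z * z = 1 := by
    have := pow_orderOf_eq_one z
    rwa [hz1, pow_two] at this
  by_contra h
  set m := orderOf (c : C ⧸ Subgroup.zpowers z) with hm
  have hodd : Odd m := by
    rw [← Nat.not_even_iff_odd, even_iff_two_dvd]
    exact h
  have h1 : ((c ^ m : C) : C ⧸ Subgroup.zpowers z) = 1 := by
    rw [QuotientGroup.mk_pow, hm, pow_orderOf_eq_one]
  have h2 : c ^ m ∈ Subgroup.zpowers z := (QuotientGroup.eq_one_iff _).1 h1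
  have h3 : c ^ m = 1 ∨ c ^ m = z := by
    obtain ⟨k, hk⟩ := Subgroup.mem_zpowers_iff.1 h2
    rcases Int.even_or_odd' k with ⟨l, rfl | rfl⟩
    · left
      rw [← hk, zpow_mul, zpow_two, hzz, one_zpow]
    · right
      rw [← hk, zpow_add, zpow_mul, zpow_two, hzz, one_zpow, one_mul, zpow_one]
  rcases h3 with h3 | h3
  · apply hc.1
    exact Odd.of_dvd_nat hodd (orderOf_dvd_of_pow_eq_one h3)
  · apply hc.2
    have hcm : Commute z c := (Subgroup.mem_center_iff.1 hzc c).symm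
    have h4 : (z * c) ^ m = 1 := by
      rw [hcm.mul_pow, h3]
      obtain ⟨l, hl⟩ := hodd
      rw [hl, pow_succ, pow_mul, pow_two, hzz, one_pow, one_mul, hzz]
    exact Odd.of_dvd_nat hodd (orderOf_dvd_of_pow_eq_one h4)

/-- **The data.** -/
theorem exists_data (hM : IsPModular 2 M) (hzc : z ∈ Subgroup.center C) (hz1 : orderOf z = 2)
    (P : Sylow 2 (C ⧸ Subgroup.zpowers z)) (hK : IsKleinFour (P : Subgroup (C ⧸ Subgroup.zpowers z)))
    (hone : ∀ s t : C ⧸ Subgroup.zpowers z, orderOf s = 2 → orderOf t = 2 → IsConj s t)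
    (huniq : ∀ x : C, orderOf x = 2 → x = z)
    (h2 : ∀ (P : Subgroup C), IsPGroup 2 P → z ∈ P → Nat.card P ≤ 8 ∧ (Nat.card P = 8 → ∃ a ∈ P, ∃ b ∈ P, a * b * a⁻¹ * b⁻¹ = z)) :
    ∃ (a : Fin 3 → C → ℂ) (f : Fin 3 → ℤ), AData z a ∧ (∀ k, IsGeneralizedCharacter C (bet a z k)) ∧
      IsGeneralizedCharacter C (Th a) ∧ (∀ k, a k 1 = f k) ∧ (∀ k, f k ≠ 0) ∧ (∀ k, f k ≠ -1) ∧
      ∀ y : C, Odd (orderOf y) → ∑ᶠ ξ ∈ principalBlock M C, (ξ : C → ℂ) 1 * (ξ : C → ℂ) y = 2 * (1 + ∑ k, (f k : ℂ) * a k y) := by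
  classical
  letI : Fintype (C ⧸ Subgroup.zpowers z) := Fintype.ofFinite _
  haveI := hK
  obtain ⟨θ, s, hs, hinj, hT, hB, hval, hdeg, hsum⟩ := klein_form (M := M) hM P hone
  have hs2 : ∀ k, (s k : ℂ) * s k = 1 := by
    intro k
    rcases hs k with h | h <;> rw [h] <;> simp
  have hzz : z * z = 1 := by
    have := pow_orderOf_eq_one z
    rwa [hz1, pow_two] at this
  -- an involution of `P`
  obtain ⟨x₀, y₀, hx₀, -, -⟩ := Cfsg.Agent.Lib.KleinSylow.exists_pair P
  have hzo : orderOf (x₀ : C ⧸ Subgroup.zpowers z) = 2 := Cfsg.Agent.Lib.KleinSylow.orderOf_of_ne_one P hx₀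
  let a : Fin 3 → C → ℂ := fun k c => (s k : ℂ) * (infl (θ k) : C → ℂ) c
  let f : Fin 3 → ℤ := fun k => s k * (charDegree (θ k : C ⧸ Subgroup.zpowers z → ℂ) : ℤ)
  have hae : ∀ k, a k = (s k : ℂ) • (infl (θ k) : C → ℂ) := fun k => rfl
  have hAD : AData z a := by
    refine ⟨hzc, hz1, ?_, ?_, ?_, ?_, ?_⟩
    · intro j k
      rw [hae, hae, classInner_smul_left, classInner_smul_right, map_intCast]
      have e : classInner (infl (θ j) : C → ℂ) (infl (θ k) : C → ℂ) = if θ j = θ k then 1 else 0 := by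
        have := classInner_inflate (Subgroup.zpowers z) (θ j : C ⧸ Subgroup.zpowers z → ℂ) (θ k : C ⧸ Subgroup.zpowers z → ℂ)
        rw [classInner_irr (θ j).2 (θ k).2] at this
        simp only [Subtype.ext_iff]
        exact this
      rw [e]
      by_cases hjk : j = k
      · subst hjk
        rw [if_pos rfl, if_pos rfl, mul_one, hs2]
      · rw [if_neg (fun e => hjk (hinj e)), if_neg hjk]
        ring
    · intro j
      rw [hae, classInner_smul_left]
      have e : classInner (infl (θ j) : C → ℂ) (fun _ => (1 : ℂ)) = 0 := by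
        have := classInner_inflate (Subgroup.zpowers z) (θ j : C ⧸ Subgroup.zpowers z → ℂ) (fun _ => (1 : ℂ))
        have hne : ¬ (θ j : C ⧸ Subgroup.zpowers z → ℂ) = fun _ => (1 : ℂ) := fun e => hT j (Subtype.ext e)
        rw [classInner_irr (θ j).2 isIrr_one, if_neg hne] at this
        exact this
      rw [e, mul_zero]
    · intro k c
      show (s k : ℂ) * (infl (θ k) : C → ℂ) (z * c) = (s k : ℂ) * (infl (θ k) : C → ℂ) c
      rw [infl_apply, infl_apply, mk_z_mul]
    · intro k c hc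
      show (s k : ℂ) * (infl (θ k) : C → ℂ) c = 1
      rw [infl_apply, principal_section_val hM P hone x₀.2 hzo ((hB _).2 (Or.inr ⟨k, rfl⟩)) (even_quot hzc hz1 hc),
        hval k _ hzo, hs2]
    · intro y hy
      have hy' : Odd (orderOf (y : C ⧸ Subgroup.zpowers z)) :=
        Odd.of_dvd_nat hy (orderOf_map_dvd (QuotientGroup.mk' (Subgroup.zpowers z)) y)
      exact hsum _ hy'
  have hag : ∀ k, IsGeneralizedCharacter C (a k) := by
    intro k
    have h1 : IsGeneralizedCharacter C (infl (θ k) : C → ℂ) := isGen_of_char (IsIrrCharacter.isCharacter' (infl (θ k)).2)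
    have h3 := isGen_zsmul h1 (s k)
    convert h3 using 1
    funext c
    simp [a]
  refine ⟨a, f, hAD, ?_, ?_, ?_, ?_, ?_, ?_⟩
  · intro k
    have hF : IsGeneralizedCharacter C (fun c => 1 - a k c) := isGen_sub isGen_one (hag k)
    have hL := lam_gen z hzc hz1 hF (fun e => by rw [hAD.hz])
      (fun e h3 h4 => by
        rw [hAD.hT k e ⟨h3, h4⟩]
        ring)
    have hKp := kap_gen z hzc hz1 huniq h2
    exact isGen_sub hKp hL
  · have e : Th a = (fun _ => (1 : ℂ)) + ∑ k, a k := by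
      funext c
      simp [Th]
    rw [e]
    exact isGen_add isGen_one (isGen_sum _ _ (fun k _ => hag k))
  · intro k
    show (s k : ℂ) * (infl (θ k) : C → ℂ) 1 = ((s k * (charDegree (θ k : C ⧸ Subgroup.zpowers z → ℂ) : ℤ) : ℤ) : ℂ)
    rw [infl_apply, QuotientGroup.mk_one, Cfsg.Agent.Lib.BlockApps.irr_one_eq_charDegree]
    push_cast
    ring
  · intro k
    have hd := hdeg k
    show s k * (charDegree (θ k : C ⧸ Subgroup.zpowers z → ℂ) : ℤ) ≠ 0
    rcases hs k with h | h <;> rw [h] at hd ⊢ <;> omega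
  · intro k
    have hd := hdeg k
    show s k * (charDegree (θ k : C ⧸ Subgroup.zpowers z → ℂ) : ℤ) ≠ -1
    rcases hs k with h | h <;> rw [h] at hd ⊢ <;> omega
  · intro y hy
    rw [sum_half hM hzc hz1 hy, half_eq hM hzc hz1 θ hinj hT hB y]
    congr 2
    refine Finset.sum_congr rfl fun k _ => ?_
    show ((infl (θ k) : IrrCharacter C) : C → ℂ) 1 * ((infl (θ k) : IrrCharacter C) : C → ℂ) y =
      ((s k * (charDegree (θ k : C ⧸ Subgroup.zpowers z → ℂ) : ℤ) : ℤ) : ℂ) * ((s k : ℂ) * (infl (θ k) : C → ℂ) y)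
    rw [infl_apply (θ k) 1, QuotientGroup.mk_one, Cfsg.Agent.Lib.BlockApps.irr_one_eq_charDegree]
    push_cast
    linear_combination (-(charDegree (θ k : C ⧸ Subgroup.zpowers z → ℂ) : ℂ) * (infl (θ k) : C → ℂ) y) * hs2 k

end data

end Cfsg.Agent.Lib.ZsQ8Data
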