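import Mathlib
import Cfsg.Prelude
import Cfsg.Agent.Lib.ZsQ8Data
import Cfsg.Agent.S0950

/-!
# Brauer--Suzuki for `Q₈`: the group theory
-/

set_option autoImplicit false
set_option linter.all false

namespace Cfsg.Agent.Lib.ZsQ8Group

open Cfsg Cfsg.Agent.Lib.ZsCore Cfsg.Agent.Lib.ZsGen Cfsg.Agent.Lib.ZsQ8C Cfsg.Agent.Lib.ZsQ8Core Cfsg.Agent.Lib.ZsQ8Data
  Cfsg.Agent.Lib.CharGen Cfsg.Agent.Lib.CharOps Cfsg.Agent.Lib.CharIrr Cfsg.Agent.Lib.CharIso

universe u

section
variable {G : Type u} [Group G] [Finite G]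

/-- An involution which is the unique involution of a Sylow `2`-subgroup containing it. -/
theorem uinv_of_sylow (S : Sylow 2 G) {z : G} (hzS : z ∈ (S : Subgroup G)) (hz : orderOf z = 2)
    (hu : ∀ x ∈ (S : Subgroup G), orderOf x = 2 → x = z) : UInv z := by
  refine ⟨hz, fun x hxz hx => ?_⟩
  haveI : Fact (Nat.Prime 2) := ⟨Nat.prime_two⟩
  have h1 : IsPGroup 2 (Subgroup.zpowers z) := IsPGroup.of_card (n := 1) (by rw [Nat.card_zpowers, hz, pow_one])
  have h2 : IsPGroup 2 (Subgroup.zpowers x) := IsPGroup.of_card (n := 1) (by rw [Nat.card_zpowers, hx, pow_one])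
  have hle : Subgroup.zpowers x ≤ Subgroup.normalizer ((Subgroup.zpowers z : Subgroup G) : Set G) := by
    rw [Subgroup.zpowers_le, Subgroup.mem_normalizer_iff]
    intro y
    have e : ∀ w : G, x * w * x⁻¹ = w ∨ True := fun w => Or.inr trivial
    constructor
    · intro hy
      obtain ⟨k, rfl⟩ := Subgroup.mem_zpowers_iff.1 hy
      have hc : Commute x (z ^ k) := (show Commute x z from hxz).zpow_right k
      rw [hc.eq, mul_inv_cancel_right]
      exact Subgroup.zpow_mem_zpowers z k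
    · intro hy
      obtain ⟨k, hk⟩ := Subgroup.mem_zpowers_iff.1 hy
      have hc : Commute x (z ^ k) := (show Commute x z from hxz).zpow_right k
      have e2 : y = z ^ k := by
        have : x * y * x⁻¹ = x * z ^ k * x⁻¹ := by
          rw [hc.eq, mul_inv_cancel_right]
          exact hk.symm
        exact mul_left_cancel (mul_right_cancel this)
      rw [e2]
      exact Subgroup.zpow_mem_zpowers z k
  have h3 : IsPGroup 2 (Subgroup.zpowers x ⊔ Subgroup.zpowers z : Subgroup G) := h2.to_sup_of_normal_right' h1 hle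
  obtain ⟨T, hT⟩ := h3.exists_le_sylow
  obtain ⟨g, rfl⟩ := MulAction.exists_smul_eq G S T
  have hx' : x ∈ (g • S : Sylow 2 G) := hT (Subgroup.mem_sup_left (Subgroup.mem_zpowers x))
  have hz' : z ∈ (g • S : Sylow 2 G) := hT (Subgroup.mem_sup_right (Subgroup.mem_zpowers z))
  have h4 := (Cfsg.Agent.Lib.SylowCount.mem_smul_sylow g x S).1 hx'
  have h5 := (Cfsg.Agent.Lib.SylowCount.mem_smul_sylow g z S).1 hz'
  have h6 : g⁻¹ * x * g = z := hu _ h4 (by
    have := orderOf_cj g⁻¹ x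
    rw [inv_inv] at this
    rw [this, hx])
  have h7 : g⁻¹ * z * g = z := hu _ h5 (by
    have := orderOf_cj g⁻¹ z
    rw [inv_inv] at this
    rw [this, hz])
  have h8 : g⁻¹ * x * g = g⁻¹ * z * g := h6.trans h7.symm
  exact mul_left_cancel (mul_right_cancel h8)

theorem exists_conj_mem {Q : Type*} [Group Q] [Finite Q] (P : Sylow 2 Q) {s : Q} (hs : orderOf s = 2) :
    ∃ w : Q, w * s * w⁻¹ ∈ (P : Subgroup Q) := by
  haveI : Fact (Nat.Prime 2) := ⟨Nat.prime_two⟩
  have h2 : IsPGroup 2 (Subgroup.zpowers s) := IsPGroup.of_card (n := 1) (by rw [Nat.card_zpowers, hs, pow_one])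
  obtain ⟨T, hT⟩ := h2.exists_le_sylow
  obtain ⟨g, rfl⟩ := MulAction.exists_smul_eq Q P T
  have hx' : s ∈ (g • P : Sylow 2 Q) := hT (Subgroup.mem_zpowers s)
  have h4 := (Cfsg.Agent.Lib.SylowCount.mem_smul_sylow g s P).1 hx'
  refine ⟨g⁻¹, ?_⟩
  rw [inv_inv]
  exact h4

end

theorem q_sq : ∀ q : QuaternionGroup 2, q * q = 1 ∨ q * q = QuaternionGroup.a 2 := by decide

theorem q_only : ∀ q : QuaternionGroup 2, q * q = 1 → q = 1 ∨ q = QuaternionGroup.a 2 := by decide

theorem q_central : ∀ q : QuaternionGroup 2, q * QuaternionGroup.a 2 = QuaternionGroup.a 2 * q := by decide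

theorem q_comm : (QuaternionGroup.a 1 : QuaternionGroup 2) * QuaternionGroup.xa 0 * (QuaternionGroup.a 1)⁻¹ * (QuaternionGroup.xa 0)⁻¹ = QuaternionGroup.a 2 := by decide

theorem q_ne : (QuaternionGroup.a 2 : QuaternionGroup 2) ≠ 1 := by decide

theorem q_zz : (QuaternionGroup.a 2 : QuaternionGroup 2) * QuaternionGroup.a 2 = 1 := by decide

section main

variable {G : Type u} [Group G] [Fintype G]

/-- **Brauer--Suzuki for `Q₈`**: the character theoretic output. -/
theorem q8_main {M : Ideal AlgInt} (hM : IsPModular 2 M) (S : Sylow 2 G) (e : (S : Subgroup G) ≃* QuaternionGroup 2)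
    (hnc : ∀ N : Subgroup G, N.Normal → ¬ Subgroup.IsComplement' N (S : Subgroup G)) :
    ∃ z ∈ (S : Subgroup G), UInv z ∧ (∀ x ∈ (S : Subgroup G), orderOf x = 2 → x = z) ∧
    ∃ χ χ' : Fin 3 → IrrCharacter G,
      (∀ k, χ k ≠ χ' k) ∧ (∀ k, χ k ≠ triv1 G) ∧ (∀ k, χ' k ≠ triv1 G) ∧
      (∀ j k, j ≠ k → χ j ≠ χ k ∧ χ' j ≠ χ' k ∧ χ j ≠ χ' k) ∧
      (∀ k, χ k ∈ principalBlock M G ∧ χ' k ∈ principalBlock M G) ∧
      (∀ ψ ∈ principalBlock M G, (ψ : G → ℂ) z ≠ 0 → ψ = triv1 G ∨ ∃ k, ψ = χ k ∨ ψ = χ' k) ∧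
      (∀ k, (χ k : G → ℂ) z = (χ k : G → ℂ) 1 ∨ (χ' k : G → ℂ) z = (χ' k : G → ℂ) 1) := by
  classical
  haveI : Fact (Nat.Prime 2) := ⟨Nat.prime_two⟩
  set z : G := ((e.symm (QuaternionGroup.a 2) : (S : Subgroup G)) : G) with hz
  letI : Fintype (CZ z) := Fintype.ofFinite _
  have hzS : z ∈ (S : Subgroup G) := (e.symm (QuaternionGroup.a 2)).2
  have hS_sq : ∀ x ∈ (S : Subgroup G), x * x = 1 ∨ x * x = z := by
    intro x hx
    rcases q_sq (e ⟨x, hx⟩) with h | h
    · left
      have h1 : (⟨x, hx⟩ : (S : Subgroup G)) * ⟨x, hx⟩ = 1 := by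
        apply e.injective
        rw [map_mul, h, map_one]
      exact congrArg Subtype.val h1
    · right
      have h1 : (⟨x, hx⟩ : (S : Subgroup G)) * ⟨x, hx⟩ = e.symm (QuaternionGroup.a 2) := by
        apply e.injective
        rw [map_mul, h, e.apply_symm_apply]
      exact congrArg Subtype.val h1
  have hS_one : ∀ x ∈ (S : Subgroup G), x * x = 1 → x = 1 ∨ x = z := by
    intro x hx hxx
    have h1 : (e ⟨x, hx⟩) * (e ⟨x, hx⟩) = 1 := by
      rw [← map_mul]
      have : (⟨x, hx⟩ : (S : Subgroup G)) * ⟨x, hx⟩ = 1 := Subtype.ext hxx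
      rw [this, map_one]
    rcases q_only _ h1 with h | h
    · left
      have h2 : (⟨x, hx⟩ : (S : Subgroup G)) = 1 := by
        apply e.injective
        rw [h, map_one]
      exact congrArg Subtype.val h2
    · right
      have h2 : (⟨x, hx⟩ : (S : Subgroup G)) = e.symm (QuaternionGroup.a 2) := by
        apply e.injective
        rw [h, e.apply_symm_apply]
      exact congrArg Subtype.val h2
  have hS_comm : ∀ x ∈ (S : Subgroup G), x * z = z * x := by
    intro x hx
    have h1 : (⟨x, hx⟩ : (S : Subgroup G)) * e.symm (QuaternionGroup.a 2) = e.symm (QuaternionGroup.a 2) * ⟨x, hx⟩ := by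
      apply e.injective
      rw [map_mul, map_mul, e.apply_symm_apply]
      exact q_central _
    exact congrArg Subtype.val h1
  have hzz : z * z = 1 := by
    have h1 : (e.symm (QuaternionGroup.a 2) : (S : Subgroup G)) * e.symm (QuaternionGroup.a 2) = 1 := by
      apply e.injective
      rw [map_mul, e.apply_symm_apply, map_one]
      exact q_zz
    exact congrArg Subtype.val h1
  have hz1 : z ≠ 1 := by
    intro h1
    apply q_ne
    have h2 : (e.symm (QuaternionGroup.a 2) : (S : Subgroup G)) = 1 := Subtype.ext h1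
    have h3 := congrArg e h2
    rwa [e.apply_symm_apply, map_one] at h3
  have hzo : orderOf z = 2 := orderOf_eq_prime (by rw [pow_two]; exact hzz) hz1
  have hUS : ∀ x ∈ (S : Subgroup G), orderOf x = 2 → x = z := by
    intro x hx hxo
    have hxx : x * x = 1 := by
      have := pow_orderOf_eq_one x
      rwa [hxo, pow_two] at this
    rcases hS_one x hx hxx with h | h
    · rw [h, orderOf_one] at hxo
      omega
    · exact h
  have h : UInv z := uinv_of_sylow S hzS hzo hUS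
  refine ⟨z, hzS, h, hUS, ?_⟩
  have hSC : (S : Subgroup G) ≤ CZ z := fun x hx => mem_CZ.2 (hS_comm x hx)
  let St : Sylow 2 (CZ z) := S.subtype hSC
  have hzcen : zC z ∈ Subgroup.center (CZ z) := zC_center
  have hzt1 : orderOf (zC z) = 2 := orderOf_zC.trans hzo
  haveI hN : (Subgroup.zpowers (zC z)).Normal := by
    refine ⟨fun n hn g => ?_⟩
    have hnc : n ∈ Subgroup.center (CZ z) := (Subgroup.zpowers_le.2 hzcen) hn
    rw [Subgroup.mem_center_iff.1 hnc g, mul_inv_cancel_right]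
    exact hn
  let P : Sylow 2 (CZ z ⧸ Subgroup.zpowers (zC z)) := St.mapSurjective (QuotientGroup.mk'_surjective _)
  have hPm : ∀ q ∈ (P : Subgroup (CZ z ⧸ Subgroup.zpowers (zC z))), ∃ (x : CZ z), (x : G) ∈ (S : Subgroup G) ∧ q = (x : CZ z ⧸ Subgroup.zpowers (zC z)) := by
    intro q hq
    obtain ⟨x, hx, rfl⟩ := hq
    exact ⟨x, hx, rfl⟩
  have hmkP : ∀ x : CZ z, (x : G) ∈ (S : Subgroup G) → (x : CZ z ⧸ Subgroup.zpowers (zC z)) ∈ (P : Subgroup (CZ z ⧸ Subgroup.zpowers (zC z))) := by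
    intro x hx
    exact ⟨x, hx, rfl⟩
  -- squares are trivial in the quotient
  have hmkz : ((zC z : CZ z) : CZ z ⧸ Subgroup.zpowers (zC z)) = 1 := mk_z
  have hsq : ∀ x : CZ z, (x : G) ∈ (S : Subgroup G) → (x : CZ z ⧸ Subgroup.zpowers (zC z)) * x = 1 := by
    intro x hx
    rw [← QuotientGroup.mk_mul]
    rcases hS_sq _ hx with h1 | h1
    · have : x * x = 1 := Subtype.ext h1
      rw [this, QuotientGroup.mk_one]
    · have : x * x = zC z := Subtype.ext h1
      rw [this, hmkz]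
  -- cardinalities
  have hcardS : Nat.card (S : Subgroup G) = 8 := by
    rw [Nat.card_congr e.toEquiv, Nat.card_eq_fintype_card, QuaternionGroup.card]
  have hcardSt : Nat.card (St : Subgroup (CZ z)) = 8 := by
    rw [← hcardS]
    exact Nat.card_congr (Subgroup.subgroupOfEquivOfLe hSC).toEquiv
  have hfC : (Nat.card (CZ z)).factorization 2 = 3 := by
    have h1 := Sylow.card_eq_multiplicity St
    rw [hcardSt] at h1
    have h2 : (2 : ℕ) ^ 3 = 2 ^ (Nat.card (CZ z)).factorization 2 := by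
      rw [← h1]
      norm_num
    exact (Nat.pow_right_injective (le_refl 2) h2).symm
  have hcardN : Nat.card (Subgroup.zpowers (zC z)) = 2 := by
    rw [Nat.card_zpowers, hzt1]
  have hcC : Nat.card (CZ z) = Nat.card (CZ z ⧸ Subgroup.zpowers (zC z)) * 2 := by
    rw [← hcardN]
    exact Subgroup.card_eq_card_quotient_mul_card_subgroup _
  have hfQ : (Nat.card (CZ z ⧸ Subgroup.zpowers (zC z))).factorization 2 = 2 := by
    have hQ0 : Nat.card (CZ z ⧸ Subgroup.zpowers (zC z)) ≠ 0 := Nat.card_pos.ne'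
    rw [hcC, Nat.factorization_mul hQ0 (by norm_num), Finsupp.add_apply, Nat.prime_two.factorization_self] at hfC
    omega
  have hcardP : Nat.card (P : Subgroup (CZ z ⧸ Subgroup.zpowers (zC z))) = 4 := by
    rw [Sylow.card_eq_multiplicity P, hfQ]
    norm_num
  have hK : IsKleinFour (P : Subgroup (CZ z ⧸ Subgroup.zpowers (zC z))) := by
    haveI : Nontrivial (P : Subgroup (CZ z ⧸ Subgroup.zpowers (zC z))) := by
      apply Finite.one_lt_card_iff_nontrivial.1
      rw [hcardP]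
      norm_num
    refine ⟨hcardP, (Monoid.exponent_eq_prime_iff Nat.prime_two).2 ?_⟩
    rintro ⟨q, hq⟩ hq1
    apply orderOf_eq_prime
    · apply Subtype.ext
      obtain ⟨x, hx, rfl⟩ := hPm q hq
      show ((x : CZ z ⧸ Subgroup.zpowers (zC z))) ^ 2 = 1
      rw [pow_two]
      exact hsq x hx
    · exact hq1
  -- fusion in the quotient
  have hoP : ∀ x y : CZ z, (x : G) ∈ (S : Subgroup G) → (y : G) ∈ (S : Subgroup G) →
      (x : CZ z ⧸ Subgroup.zpowers (zC z)) ≠ 1 → (y : CZ z ⧸ Subgroup.zpowers (zC z)) ≠ 1 →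
      IsConj (x : CZ z ⧸ Subgroup.zpowers (zC z)) (y : CZ z ⧸ Subgroup.zpowers (zC z)) := by
    intro x y hx hy hx1 hy1
    have hord : ∀ w : CZ z, (w : G) ∈ (S : Subgroup G) → (w : CZ z ⧸ Subgroup.zpowers (zC z)) ≠ 1 → orderOf (w : G) = 4 := by
      intro w hw hw1
      have hne : (w : G) * w ≠ 1 := by
        intro e1
        rcases hS_one _ hw e1 with e2 | e2
        · apply hw1
          have : w = 1 := Subtype.ext e2
          rw [this, QuotientGroup.mk_one]
        · apply hw1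
          have : w = zC z := Subtype.ext e2
          rw [this, hmkz]
      have hww : (w : G) * w = z := (hS_sq _ hw).resolve_left hne
      have := orderOf_eq_prime_pow (p := 2) (n := 1) (x := (w : G)) (by
        rw [pow_one, pow_two]; exact hne) (by
        have e4 : (w : G) ^ 2 ^ (1 + 1) = ((w : G) * w) * ((w : G) * w) := by
          rw [show (2 : ℕ) ^ (1 + 1) = 2 + 2 from rfl, pow_add, pow_two]
        rw [e4, hww, hzz])
      rw [this]
      norm_num
    have hA : Subgroup.zpowers (x : G) ≤ (S : Subgroup G) := Subgroup.zpowers_le.2 hx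
    have hB : Subgroup.zpowers (y : G) ≤ (S : Subgroup G) := Subgroup.zpowers_le.2 hy
    obtain ⟨n, hn, hBe⟩ := Cfsg.Agent.S0950.result S e hnc (Subgroup.zpowers (x : G)) (Subgroup.zpowers (y : G)) hA hB
      (by rw [Nat.card_zpowers, hord x hx hx1]) (by rw [Nat.card_zpowers, hord y hy hy1])
    have hnC : n ∈ CZ z := by
      have h1 : n * z * n⁻¹ ∈ (S : Subgroup G) := (Subgroup.mem_normalizer_iff.1 hn z).1 hzS
      have h2 : n * z * n⁻¹ = z := hUS _ h1 (by rw [orderOf_cj]; exact hzo)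
      rw [mem_CZ]
      calc n * z = n * z * n⁻¹ * n := by group
        _ = z * n := by rw [h2]
    have hmem : n * (x : G) * n⁻¹ ∈ Subgroup.zpowers (y : G) := by
      rw [hBe]
      exact ⟨(x : G), Subgroup.mem_zpowers _, rfl⟩
    obtain ⟨k, hk⟩ := Subgroup.mem_zpowers_iff.1 hmem
    have hk' : y ^ k = (⟨n, hnC⟩ : CZ z) * x * (⟨n, hnC⟩ : CZ z)⁻¹ := by
      apply Subtype.ext
      push_cast
      exact hk
    set Y : CZ z ⧸ Subgroup.zpowers (zC z) := (y : CZ z ⧸ Subgroup.zpowers (zC z)) with hY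
    set X : CZ z ⧸ Subgroup.zpowers (zC z) := (x : CZ z ⧸ Subgroup.zpowers (zC z)) with hX
    set Nn : CZ z ⧸ Subgroup.zpowers (zC z) := ((⟨n, hnC⟩ : CZ z) : CZ z ⧸ Subgroup.zpowers (zC z)) with hNn
    have h3 : Y ^ k = Nn * X * Nn⁻¹ := by
      have := congrArg (fun t : CZ z => (t : CZ z ⧸ Subgroup.zpowers (zC z))) hk'
      simpa [QuotientGroup.mk_zpow, QuotientGroup.mk_mul, QuotientGroup.mk_inv] using this
    have hYY : Y * Y = 1 := hsq y hy
    refine isConj_iff.2 ⟨Nn, ?_⟩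
    rcases Int.even_or_odd' k with ⟨m, rfl | rfl⟩
    · exfalso
      rw [zpow_mul, zpow_two, hYY, one_zpow] at h3
      apply hx1
      have h4 : Nn⁻¹ * (Nn * X * Nn⁻¹) * Nn = X := by group
      rw [← h3] at h4
      rw [← h4]
      group
    · rw [zpow_add, zpow_mul, zpow_two, hYY, one_zpow, one_mul, zpow_one] at h3
      exact h3.symm
  have hone : ∀ s t : CZ z ⧸ Subgroup.zpowers (zC z), orderOf s = 2 → orderOf t = 2 → IsConj s t := by
    intro s t hs ht
    obtain ⟨w, hw⟩ := exists_conj_mem P hs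
    obtain ⟨w', hw'⟩ := exists_conj_mem P ht
    obtain ⟨x, hx, ex⟩ := hPm _ hw
    obtain ⟨y, hy, ey⟩ := hPm _ hw'
    have hs1 : s ≠ 1 := by
      intro e1
      rw [e1, orderOf_one] at hs
      omega
    have ht1 : t ≠ 1 := by
      intro e1
      rw [e1, orderOf_one] at ht
      omega
    have hx1 : (x : CZ z ⧸ Subgroup.zpowers (zC z)) ≠ 1 := by
      rw [← ex]
      intro e1
      apply hs1
      have : s = w⁻¹ * (w * s * w⁻¹) * w := by group
      rw [this, e1]
      group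
    have hy1 : (y : CZ z ⧸ Subgroup.zpowers (zC z)) ≠ 1 := by
      rw [← ey]
      intro e1
      apply ht1
      have : t = w'⁻¹ * (w' * t * w'⁻¹) * w' := by group
      rw [this, e1]
      group
    have h1 : IsConj s (x : CZ z ⧸ Subgroup.zpowers (zC z)) := by
      rw [← ex]
      exact isConj_iff.2 ⟨w, rfl⟩
    have h2 : IsConj t (y : CZ z ⧸ Subgroup.zpowers (zC z)) := by
      rw [← ey]
      exact isConj_iff.2 ⟨w', rfl⟩
    exact h1.trans ((hoP x y hx hy hx1 hy1).trans h2.symm)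
  -- the uniqueness of the involution
  have huniq : ∀ x : CZ z, orderOf x = 2 → x = zC z := by
    intro x hx
    apply Subtype.ext
    apply h.2
    · exact mem_CZ.1 x.2
    · rw [orderOf_val]; exact hx
  -- the `2`-subgroups
  have h2 : ∀ (P' : Subgroup (CZ z)), IsPGroup 2 P' → zC z ∈ P' → Nat.card P' ≤ 8 ∧ (Nat.card P' = 8 → ∃ a ∈ P', ∃ b ∈ P', a * b * a⁻¹ * b⁻¹ = zC z) := by
    intro P' hP' _
    obtain ⟨T, hT⟩ := hP'.exists_le_sylow
    have hcT : Nat.card (T : Subgroup (CZ z)) = 8 := by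
      rw [Sylow.card_eq_multiplicity T, hfC]
      norm_num
    refine ⟨?_, ?_⟩
    · rw [← hcT]
      exact Subgroup.card_le_of_le hT
    · intro h8
      have hPT : P' = T := Subgroup.eq_of_le_of_card_ge hT (by rw [hcT, h8])
      rw [hPT]
      obtain ⟨w, hw⟩ := MulAction.exists_smul_eq (CZ z) St T
      let a₀ : (S : Subgroup G) := e.symm (QuaternionGroup.a 1)
      let b₀ : (S : Subgroup G) := e.symm (QuaternionGroup.xa 0)
      have hcm : a₀ * b₀ * a₀⁻¹ * b₀⁻¹ = e.symm (QuaternionGroup.a 2) := by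
        apply e.injective
        simp only [a₀, b₀, map_mul, map_inv, e.apply_symm_apply]
        exact q_comm
      have hcm' : (a₀ : G) * b₀ * (a₀ : G)⁻¹ * (b₀ : G)⁻¹ = z := congrArg Subtype.val hcm
      let a₁ : CZ z := ⟨a₀, hSC a₀.2⟩
      let b₁ : CZ z := ⟨b₀, hSC b₀.2⟩
      have hc1 : a₁ * b₁ * a₁⁻¹ * b₁⁻¹ = zC z := Subtype.ext hcm'
      refine ⟨w * a₁ * w⁻¹, ?_, w * b₁ * w⁻¹, ?_, ?_⟩
      · rw [← hw]
        apply (Cfsg.Agent.Lib.SylowCount.mem_smul_sylow _ _ _).2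
        have e3 : w⁻¹ * (w * a₁ * w⁻¹) * w = a₁ := by group
        rw [e3]
        exact a₀.2
      · rw [← hw]
        apply (Cfsg.Agent.Lib.SylowCount.mem_smul_sylow _ _ _).2
        have e3 : w⁻¹ * (w * b₁ * w⁻¹) * w = b₁ := by group
        rw [e3]
        exact b₀.2
      · have e3 : (w * a₁ * w⁻¹) * (w * b₁ * w⁻¹) * (w * a₁ * w⁻¹)⁻¹ * (w * b₁ * w⁻¹)⁻¹ = w * (a₁ * b₁ * a₁⁻¹ * b₁⁻¹) * w⁻¹ := by group
        rw [e3, hc1, Subgroup.mem_center_iff.1 hzcen w, mul_inv_cancel_right]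
  obtain ⟨a, f, hAD, hg, hTh, hf, hf0, hf1, hB⟩ := exists_data (M := M) hM hzcen hzt1 P hK hone huniq h2
  exact core hM h hAD f hg hTh hf hf0 hf1 (fun y hy => hB y (by rwa [orderOf_val] at hy))

end main

end Cfsg.Agent.Lib.ZsQ8Group
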