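import Mathlib
import Cfsg.Prelude
import Cfsg.Agent.Lib.ZsQ8Group
import Cfsg.Agent.Lib.ZsBig
import Cfsg.Agent.Lib.UniqueSub
import Cfsg.Agent.Lib.PComps
import Cfsg.Agent.Lib.CharBlockVan
import Cfsg.Agent.Lib.CharKernel
import Cfsg.Agent.Lib.Quaternion

/-!
# The `Z*`-theorem for an involution which is the only involution of its centralizer
-/

set_option autoImplicit false
set_option linter.all false

namespace Cfsg.Agent.Lib.ZsMain

open Cfsg Cfsg.Agent.Lib.ZsCore Cfsg.Agent.Lib.CharGen Cfsg.Agent.Lib.CharOps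
  Cfsg.Agent.Lib.CharIrr Cfsg.Agent.Lib.CharIso
open scoped ComplexConjugate

universe u

section ker

variable {G : Type u} [Group G] [Fintype G]

/-- An involution in the kernel of a nontrivial irreducible character does not normally generate. -/
theorem closure_ne_top_of_ker {χ : IrrCharacter G} (hχ : (χ : G → ℂ) ≠ fun _ => 1) {z : G} (hzz : z * z = 1)
    (h : (χ : G → ℂ) z = (χ : G → ℂ) 1) : Subgroup.normalClosure ({z} : Set G) ≠ ⊤ := by
  classical
  have hcl : IsClassFunction G (χ : G → ℂ) := IsCharacter.isClassFunction' (IsIrrCharacter.isCharacter' χ.2)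
  have hc0 : IsCharacter G (χ : G → ℂ) := IsIrrCharacter.isCharacter' χ.2
  let K₀ : Subgroup G :=
    { carrier := {k | ∀ g, (χ : G → ℂ) (k * g) = (χ : G → ℂ) g}
      one_mem' := fun g => by rw [one_mul]
      mul_mem' := fun {a b} ha hb g => by
        rw [mul_assoc, ha, hb]
      inv_mem' := fun {a} ha g => by
        have := ha (a⁻¹ * g)
        rw [mul_inv_cancel_left] at this
        exact this.symm }
  haveI hK₀ : K₀.Normal := by
    refine ⟨fun a ha x g => ?_⟩
    have e1 := hcl (x * a * x⁻¹ * g) x⁻¹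
    have e2 : x⁻¹ * (x * a * x⁻¹ * g) * x⁻¹⁻¹ = a * (x⁻¹ * g * x) := by group
    rw [e2, ha] at e1
    rw [← e1]
    have e3 := hcl g x⁻¹
    rw [inv_inv] at e3
    exact e3
  have hzK : z ∈ K₀ := by
    intro g
    apply Cfsg.Agent.Lib.CharKernel.apply_mul_of_ker (Subgroup.zpowers z) hc0 ?_ (Subgroup.mem_zpowers z)
    intro n hn
    obtain ⟨k, rfl⟩ := Subgroup.mem_zpowers_iff.1 hn
    rcases Int.even_or_odd' k with ⟨m, rfl | rfl⟩
    · rw [zpow_mul, zpow_two, hzz, one_zpow]
    · rw [zpow_add, zpow_mul, zpow_two, hzz, one_zpow, one_mul, zpow_one, h]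
  intro htop
  have hle : Subgroup.normalClosure ({z} : Set G) ≤ K₀ := by
    apply Subgroup.normalClosure_le_normal
    rintro _ rfl
    exact hzK
  have hconst : ∀ g, (χ : G → ℂ) g = (χ : G → ℂ) 1 := by
    intro g
    have hg : g ∈ K₀ := hle (by rw [htop]; exact Subgroup.mem_top g)
    have := hg 1
    rwa [mul_one] at this
  have h1 := classInner_irr χ.2 (isIrr_one (G := G))
  rw [if_neg hχ] at h1
  unfold classInner at h1
  simp only [map_one, mul_one] at h1
  simp only [hconst] at h1
  rw [Finset.sum_const, Finset.card_univ, nsmul_eq_mul, ← Nat.card_eq_fintype_card, ← mul_assoc, inv_mul_cancel₀ (by exact_mod_cast Nat.card_pos.ne'), one_mul] at h1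
  exact degree_ne_zero χ.2 h1

theorem final_eq {d e x y : ℂ} (hd : d ≠ 0) (he : e ≠ 0) (hm : 1 - y ^ 2 / e + x ^ 2 / d = 0) (hde : 1 + d - e = 0)
    (hxy : 1 + x - y = 0) : x = d := by
  have h1 : d * e - d * y ^ 2 + e * x ^ 2 = 0 := by
    have : d * e * (1 - y ^ 2 / e + x ^ 2 / d) = 0 := by rw [hm, mul_zero]
    rw [← this]
    field_simp
  have e1 : e = 1 + d := by linear_combination -hde
  have e2 : y = 1 + x := by linear_combination -hxy
  subst e1
  subst e2
  have h2 : (d - x) ^ 2 = 0 := by linear_combination h1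
  have h3 : d - x = 0 := pow_eq_zero_iff (two_ne_zero) |>.1 h2
  linear_combination -h3

/-- The conclusion for large quaternion Sylow subgroups. -/
theorem big_ker (h : ∀ x : G, x = x) {z : G} (hz : UInv z) (S : Sylow 2 G) (n : ℕ)
    (e : (S : Subgroup G) ≃* QuaternionGroup (2 ^ (n + 2))) :
    ∃ χ₁ χ₂ : IrrCharacter G, (χ₁ : G → ℂ) ≠ (fun _ => 1) ∧ (χ₂ : G → ℂ) ≠ (fun _ => 1) ∧
      (χ₁ : G → ℂ) z = (χ₁ : G → ℂ) 1 ∧ (χ₂ : G → ℂ) z = (χ₂ : G → ℂ) 1 ∧ (χ₁ : G → ℂ) 1 = (χ₂ : G → ℂ) 1 + 1 := by
  obtain ⟨χ₁, χ₂, hne, h₁, h₂, hfin⟩ := Cfsg.Agent.Lib.ZsBig.big_main S n e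
  have h4 : ∀ g : G, Odd (orderOf g) → ¬ 4 ∣ orderOf g := by
    intro g hg hd
    have : Even (orderOf g) := (even_iff_two_dvd.2 (Dvd.dvd.trans (by norm_num : 2 ∣ 4) hd))
    exact (Nat.not_even_iff_odd.2 hg) this
  have hm := moment hz χ₁.2 χ₂.2 (fun g hg => hfin g (h4 g hg))
  have hz4 : ¬ 4 ∣ orderOf z := by
    rw [hz.1]
    norm_num
  have h1 := hfin 1 (by simp)
  have h2 := hfin z hz4
  have hx := final_eq (degree_ne_zero χ₂.2) (degree_ne_zero χ₁.2) hm h1 h2
  refine ⟨χ₁, χ₂, h₁, h₂, ?_, hx, ?_⟩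
  · linear_combination -h2 + hx + h1
  · linear_combination -h1

end ker

section comp

variable {G : Type u} [Group G]

theorem complement_comm {K S : Subgroup G} [hn : K.Normal] (hc : K.IsComplement' S) {z : G}
    (hz : ∀ s ∈ S, s * z = z * s) (g : G) : z * g * z⁻¹ * g⁻¹ ∈ K := by
  have hg : g ∈ K ⊔ S := by
    rw [hc.sup_eq_top]
    exact Subgroup.mem_top _
  obtain ⟨k, hk, s, hs, rfl⟩ := Subgroup.mem_sup_of_normal_left.1 hg
  have h1 : s * z⁻¹ * s⁻¹ = z⁻¹ := by
    have := hz s hs
    have h2 : s * z⁻¹ = z⁻¹ * s := by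
      have h3 : z⁻¹ * (s * z) * z⁻¹ = z⁻¹ * (z * s) * z⁻¹ := by rw [this]
      calc s * z⁻¹ = z⁻¹ * (z * s) * z⁻¹ := by group
        _ = z⁻¹ * (s * z) * z⁻¹ := by rw [this]
        _ = z⁻¹ * s := by group
    rw [h2]
    group
  have e3 : z * (k * s) * z⁻¹ * (k * s)⁻¹ = z * k * (s * z⁻¹ * s⁻¹) * k⁻¹ := by group
  rw [e3, h1]
  exact K.mul_mem (hn.conj_mem k hk z) (K.inv_mem hk)

end comp

section main

/-- **The `Z*`-theorem** for an involution that is the only involution of its centralizer. -/
theorem zstar_aux (n : ℕ) : ∀ (G : Type u) [Group G] [Finite G], Nat.card G = n → ∀ z : G, UInv z →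
    ∃ N : Subgroup G, N.Normal ∧ Odd (Nat.card N) ∧ ∀ g : G, z * g * z⁻¹ * g⁻¹ ∈ N := by
  induction n using Nat.strong_induction_on with
  | _ n ih =>
    intro G _ _ hn z h
    classical
    haveI : Fact (Nat.Prime 2) := ⟨Nat.prime_two⟩
    have hzz : z * z = 1 := by
      have := pow_orderOf_eq_one z
      rwa [h.1, pow_two] at this
    have hzi : z⁻¹ = z := inv_eq_of_mul_eq_one_left hzz
    set X : Subgroup G := Subgroup.normalClosure ({z} : Set G) with hX
    haveI hXn : X.Normal := Subgroup.normalClosure_normal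
    have hzX : z ∈ X := Subgroup.subset_normalClosure rfl
    by_cases htop : X = ⊤
    · -- `z` normally generates
      cases nonempty_fintype G
      have hzp : IsPGroup 2 (Subgroup.zpowers z) := IsPGroup.of_card (n := 1) (by rw [Nat.card_zpowers, h.1, pow_one])
      obtain ⟨S, hS⟩ := hzp.exists_le_sylow
      have hzS : z ∈ (S : Subgroup G) := hS (Subgroup.mem_zpowers z)
      -- `z` is central in `S`
      have hcen : ∀ s ∈ (S : Subgroup G), s * z = z * s := by
        haveI : Nontrivial (S : Subgroup G) := by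
          refine ⟨⟨⟨z, hzS⟩, 1, ?_⟩⟩
          intro e
          have e1 : z = 1 := congrArg Subtype.val e
          have h5 := h.1
          rw [e1, orderOf_one] at h5
          omega
        have hp : IsPGroup 2 (S : Subgroup G) := S.isPGroup'
        haveI := hp.center_nontrivial
        obtain ⟨t, ht⟩ := exists_prime_orderOf_dvd_card' (G := Subgroup.center (S : Subgroup G)) 2 (by
          obtain ⟨e, he⟩ := IsPGroup.iff_card.1 (hp.to_subgroup (Subgroup.center (S : Subgroup G)))
          rw [he]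
          apply dvd_pow_self
          intro h0
          subst h0
          have h1 := Finite.one_lt_card (α := Subgroup.center (S : Subgroup G))
          omega)
        have ht1 : orderOf ((t : (S : Subgroup G)) : G) = 2 := by
          rw [Subgroup.orderOf_coe, Subgroup.orderOf_coe]
          exact ht
        have htc : ((t : (S : Subgroup G)) : G) * z = z * ((t : (S : Subgroup G)) : G) := by
          have := (Subgroup.mem_center_iff.1 t.2) ⟨z, hzS⟩
          exact (congrArg Subtype.val this).symm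
        have hte := h.2 _ htc ht1
        intro s hs
        have := (Subgroup.mem_center_iff.1 t.2) ⟨s, hs⟩
        have h2 := congrArg Subtype.val this
        rw [← hte]
        exact h2
      have hUS : ∀ x ∈ (S : Subgroup G), orderOf x = 2 → x = z := fun x hx hxo => h.2 x (hcen x hx) hxo
      -- no normal complement forces a contradiction
      by_cases hnc : ∃ K : Subgroup G, K.Normal ∧ K.IsComplement' (S : Subgroup G)
      · obtain ⟨K, hKn, hKc⟩ := hnc
        refine ⟨K, hKn, ?_, complement_comm hKc hcen⟩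
        have h1 : (S : Subgroup G).index = Nat.card K := hKc.index_eq_card
        rw [← h1, ← Nat.not_even_iff_odd, even_iff_two_dvd]
        exact S.not_dvd_index
      · exfalso
        have hU : Cfsg.Agent.Lib.UniqueSub.UniqueP 2 (S : Subgroup G) := by
          intro x y hx hy
          have h1 := hUS x.1 x.2 (by rwa [Subgroup.orderOf_coe])
          have h2 := hUS y.1 y.2 (by rwa [Subgroup.orderOf_coe])
          have e : y = x := Subtype.ext (h2.trans h1.symm)
          rw [e]
          exact Subgroup.mem_zpowers x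
        rcases Cfsg.Agent.Lib.UniqueSub.cyclic_or_quaternion S.isPGroup' hU with hcyc | ⟨-, k, hk, ⟨e⟩⟩
        · obtain ⟨K, hKn, hKc⟩ := Cfsg.Agent.Lib.H5Cyc.exists_normal_complement S hcyc
          exact hnc ⟨K, hKn, hKc⟩
        · obtain ⟨M, hM⟩ := Cfsg.Agent.Lib.CharBlockVan.exists_isPModular Nat.prime_two
          obtain rfl | ⟨m, rfl⟩ : k = 1 ∨ ∃ m, k = m + 2 := by
            rcases k with _ | _ | m
            · omega
            · left; rfl
            · right; exact ⟨m, rfl⟩
          · have e' : (S : Subgroup G) ≃* QuaternionGroup 2 := e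
            obtain ⟨z₀, hz₀, -, hU₀, χ, χ', hne, hT, hT', -, -, -, hker⟩ := Cfsg.Agent.Lib.ZsQ8Group.q8_main hM S e'
              (fun N hN hc => hnc ⟨N, hN, hc⟩)
            have e0 : z = z₀ := hU₀ z hzS h.1
            rw [← e0] at hker
            rcases hker 0 with h1 | h1
            · exact closure_ne_top_of_ker (fun e => hT 0 (Subtype.ext e)) hzz h1 htop
            · exact closure_ne_top_of_ker (fun e => hT' 0 (Subtype.ext e)) hzz h1 htop
          · obtain ⟨χ₁, χ₂, h₁, h₂, h3, h4, -⟩ := big_ker (fun _ => rfl) h S m e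
            exact closure_ne_top_of_ker h₁ hzz h3 htop
    · -- induction in the normal closure
      have hlt : Nat.card X < n := by
        rw [← hn]
        apply lt_of_le_of_ne (Subgroup.card_le_card_group X)
        intro e
        exact htop (Subgroup.eq_top_of_card_eq X e)
      let z' : X := ⟨z, hzX⟩
      have hz' : UInv z' := by
        refine ⟨by rw [← Subgroup.orderOf_coe]; exact h.1, fun x hx hxo => ?_⟩
        apply Subtype.ext
        apply h.2
        · exact congrArg Subtype.val hx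
        · rw [Subgroup.orderOf_coe]; exact hxo
      obtain ⟨N₀, hN₀n, hN₀o, hN₀⟩ := ih _ hlt X rfl z' hz'
      have hN₀2 : Nat.Coprime (Nat.card N₀) 2 := Nat.coprime_two_right.2 hN₀o
      haveI hOc : (pPrimeCore 2 X).Characteristic := Cfsg.Agent.Lib.PComps.pPrimeCore_characteristic
      have hN₀O : N₀ ≤ pPrimeCore 2 X := le_sSup ⟨hN₀n, hN₀2⟩
      have hOodd : Odd (Nat.card (pPrimeCore 2 X)) := by
        rw [← Nat.not_even_iff_odd, even_iff_two_dvd]
        exact Cfsg.Agent.Lib.FitCore.not_dvd_card_pPrimeCore 2 Nat.prime_two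
      refine ⟨(pPrimeCore 2 X).map X.subtype, Cfsg.Agent.Lib.FitCore.map_subtype_normal_of_char X _, ?_, ?_⟩
      · rwa [Subgroup.card_map_of_injective X.subtype_injective]
      · intro g
        have hg : g * z⁻¹ * g⁻¹ ∈ X := hXn.conj_mem _ (X.inv_mem hzX) g
        let t : X := ⟨g * z⁻¹ * g⁻¹, hg⟩
        have htt : t * t = 1 := by
          apply Subtype.ext
          show g * z⁻¹ * g⁻¹ * (g * z⁻¹ * g⁻¹) = 1
          rw [hzi]
          calc g * z * g⁻¹ * (g * z * g⁻¹) = g * (z * z) * g⁻¹ := by group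
            _ = 1 := by rw [hzz]; group
        have hti : t⁻¹ = t := inv_eq_of_mul_eq_one_left htt
        have hz'z' : z' * z' = 1 := Subtype.ext hzz
        have hzi' : z'⁻¹ = z' := inv_eq_of_mul_eq_one_left hz'z'
        have h1 : z' * t * z'⁻¹ * t⁻¹ ∈ pPrimeCore 2 X := hN₀O (hN₀ t)
        rw [hzi', hti] at h1
        have hodd : Odd (orderOf (z' * t)) := by
          rw [← Subgroup.orderOf_coe]
          show Odd (orderOf (z * (g * z⁻¹ * g⁻¹)))
          rw [hzi]
          exact h.odd_mul (h.conj g)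
        have h2 : (z' * t) ^ 2 ∈ pPrimeCore 2 X := by
          have e : (z' * t) ^ 2 = z' * t * z' * t := by
            rw [pow_two]
            simp only [mul_assoc]
          rw [e]
          exact h1
        have hcop : Nat.Coprime 2 (orderOf (z' * t)) := Nat.coprime_two_left.2 hodd
        obtain ⟨m, hm⟩ := exists_pow_eq_self_of_coprime hcop
        have h3 : z' * t ∈ pPrimeCore 2 X := by
          rw [← hm]
          exact Subgroup.pow_mem _ h2 _
        refine ⟨z' * t, h3, ?_⟩
        show z * (g * z⁻¹ * g⁻¹) = z * g * z⁻¹ * g⁻¹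
        group

theorem zstar_uinv {G : Type u} [Group G] [Finite G] {z : G} (h : UInv z) :
    ∃ N : Subgroup G, N.Normal ∧ Odd (Nat.card N) ∧ ∀ g : G, z * g * z⁻¹ * g⁻¹ ∈ N :=
  zstar_aux _ G rfl z h

end main

end Cfsg.Agent.Lib.ZsMain
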