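import Mathlib
import Cfsg.Prelude
import Cfsg.Agent.Lib.ZsMain
import Cfsg.Agent.Lib.CharBlockKer
import Cfsg.Agent.Lib.BlockApps
import Cfsg.Agent.Lib.H2Basic
import Cfsg.Agent.Lib.H5Cyc
import Cfsg.Agent.Lib.SylowCount
import Cfsg.Agent.S0943
import Cfsg.Agent.S0944

/-!
# Glauberman's `Z*`-theorem
-/

set_option autoImplicit false
set_option linter.all false

namespace Cfsg.Agent.Lib.ZStar

open Cfsg
open scoped ComplexConjugate

universe u

section basics

variable {G : Type u} [Group G]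

/-- Isolation in the form used below: every product of `z` with a conjugate of `z` has odd order. -/
def Iso (z : G) : Prop := z * z = 1 ∧ z ≠ 1 ∧ ∀ g : G, Odd (orderOf (z * (g * z * g⁻¹)))

theorem dih_pow {z r : G} (hz : z * z = 1) (h : z * r * z = r⁻¹) (j : ℕ) : z * r ^ j * z = (r ^ j)⁻¹ := by
  have hzi : z⁻¹ = z := inv_eq_of_mul_eq_one_left hz
  have h1 := conj_pow (a := z) (b := r) (i := j)
  rw [hzi, h, inv_pow] at h1
  exact h1.symm

theorem dih_conj' {w r : G} (hw : w * w = 1) (h : w * r * w = r⁻¹) (l : ℕ) :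
    r ^ l * w * (r ^ l)⁻¹ = r ^ (2 * l) * w := by
  have h1 := dih_pow hw h l
  have h2 : w * (r ^ l)⁻¹ = r ^ l * w := by
    rw [← h1]
    calc w * (w * r ^ l * w) = (w * w) * r ^ l * w := by group
      _ = r ^ l * w := by rw [hw, one_mul]
  calc r ^ l * w * (r ^ l)⁻¹ = r ^ l * (w * (r ^ l)⁻¹) := by group
    _ = r ^ l * (r ^ l * w) := by rw [h2]
    _ = (r ^ l * r ^ l) * w := by group
    _ = r ^ (2 * l) * w := by rw [two_mul, pow_add]

theorem dih_conj {w r : G} (hw : w * w = 1) (h : w * r * w = r⁻¹) {l : ℕ} (hr : r ^ (2 * l + 1) = 1) :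
    r ^ l * w * (r ^ l)⁻¹ = r⁻¹ * w := by
  rw [dih_conj' hw h l]
  have h3 : r ^ (2 * l) = r⁻¹ := by
    have : r ^ (2 * l) * r = 1 := by rw [← pow_succ]; exact hr
    exact eq_inv_of_mul_eq_one_left this
  rw [h3]

theorem Iso.odd_sq {z g : G} (hz : Iso z) (h : z * g * z = g⁻¹) : Odd (orderOf (g * g)) := by
  have h1 := hz.2.2 g
  have e : z * (g * z * g⁻¹) = (g * g)⁻¹ := by
    calc z * (g * z * g⁻¹) = (z * g * z) * g⁻¹ := by group
      _ = g⁻¹ * g⁻¹ := by rw [h]
      _ = (g * g)⁻¹ := by group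
  rwa [e, orderOf_inv] at h1

theorem Iso.eq_of_comm {z : G} (hz : Iso z) (g : G) (hc : z * (g * z * g⁻¹) = (g * z * g⁻¹) * z) :
    g * z * g⁻¹ = z := by
  have h4 := hz.2.2 g
  generalize hx : g * z * g⁻¹ = x at hc h4 ⊢
  have hxx : x * x = 1 := by
    rw [← hx]
    calc g * z * g⁻¹ * (g * z * g⁻¹) = g * (z * z) * g⁻¹ := by group
      _ = 1 := by rw [hz.1]; group
  have h2 : (z * x) ^ 2 = 1 := by
    rw [pow_two]
    calc z * x * (z * x) = z * (x * z) * x := by group
      _ = z * (z * x) * x := by rw [hc]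
      _ = (z * z) * (x * x) := by group
      _ = 1 := by rw [hz.1, hxx, one_mul]
  have h3 : orderOf (z * x) ∣ 2 := orderOf_dvd_of_pow_eq_one h2
  have h5 : orderOf (z * x) = 1 := by
    rcases (Nat.dvd_prime Nat.prime_two).1 h3 with h6 | h6
    · exact h6
    · rw [h6] at h4
      exact absurd h4 (by decide)
  have h6 : z * x = 1 := orderOf_eq_one_iff.1 h5
  have h7 : x = z⁻¹ := eq_inv_of_mul_eq_one_right h6
  rw [h7]
  exact inv_eq_of_mul_eq_one_left hz.1

theorem Iso.fusion {z x y h : G} (hz : Iso z) (hx : x * z = z * x) (hy : y * z = z * y) (e : h * x * h⁻¹ = y) :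
    ∃ d : G, d * z = z * d ∧ d * x * d⁻¹ = y := by
  have hzi : z⁻¹ = z := inv_eq_of_mul_eq_one_left hz.1
  set z' := h⁻¹ * z * h with hz'
  have hz'x : z' * x = x * z' := by
    have h1 : x = h⁻¹ * y * h := by rw [← e]; group
    rw [hz', h1]
    calc h⁻¹ * z * h * (h⁻¹ * y * h) = h⁻¹ * (z * y) * h := by group
      _ = h⁻¹ * (y * z) * h := by rw [hy]
      _ = h⁻¹ * y * h * (h⁻¹ * z * h) := by group
  have hz'z' : z' * z' = 1 := by
    rw [hz']
    calc h⁻¹ * z * h * (h⁻¹ * z * h) = h⁻¹ * (z * z) * h := by group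
      _ = 1 := by rw [hz.1]; group
  have hz'i : z'⁻¹ = z' := inv_eq_of_mul_eq_one_left hz'z'
  set r := z * z' with hr
  have hodd : Odd (orderOf r) := by
    have := hz.2.2 h⁻¹
    rwa [inv_inv] at this
  obtain ⟨l, hl⟩ := hodd
  have hrr : r ^ (2 * l + 1) = 1 := by rw [← hl]; exact pow_orderOf_eq_one r
  have h3 : z * r * z = r⁻¹ := by
    rw [hr, mul_inv_rev, hzi, hz'i]
    calc z * (z * z') * z = (z * z) * z' * z := by group
      _ = z' * z := by rw [hz.1, one_mul]
  have h4 := dih_conj hz.1 h3 hrr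
  have h5 : r⁻¹ * z = z' := by
    rw [hr, mul_inv_rev, hzi, hz'i, mul_assoc, hz.1, mul_one]
  rw [h5] at h4
  have hrx : Commute r x := by
    have c1 : Commute z x := hx.symm
    have c2 : Commute z' x := hz'x
    exact c1.mul_left c2
  have hrlx : r ^ l * x = x * r ^ l := (hrx.pow_left l).eq
  refine ⟨h * r ^ l, ?_, ?_⟩
  · have h6 : h * r ^ l * z * (h * r ^ l)⁻¹ = z := by
      calc h * r ^ l * z * (h * r ^ l)⁻¹ = h * (r ^ l * z * (r ^ l)⁻¹) * h⁻¹ := by group
        _ = h * z' * h⁻¹ := by rw [h4]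
        _ = z := by rw [hz']; group
    calc h * r ^ l * z = h * r ^ l * z * (h * r ^ l)⁻¹ * (h * r ^ l) := by group
      _ = z * (h * r ^ l) := by rw [h6]
  · calc h * r ^ l * x * (h * r ^ l)⁻¹ = h * (r ^ l * x) * (r ^ l)⁻¹ * h⁻¹ := by group
      _ = h * (x * r ^ l) * (r ^ l)⁻¹ * h⁻¹ := by rw [hrlx]
      _ = h * x * h⁻¹ := by group
      _ = y := e

theorem Iso.restrict {z : G} (hz : Iso z) (H : Subgroup G) (hzH : z ∈ H) : Iso (⟨z, hzH⟩ : H) := by
  refine ⟨Subtype.ext hz.1, fun e => hz.2.1 (congrArg Subtype.val e), fun g => ?_⟩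
  rw [← Subgroup.orderOf_coe]
  exact hz.2.2 g

theorem Iso.map {G' : Type*} [Group G'] {z : G} (hz : Iso z) (f : G →* G') (hf : Function.Surjective f)
    (hne : f z ≠ 1) : Iso (f z) := by
  refine ⟨by rw [← map_mul, hz.1, map_one], hne, fun g' => ?_⟩
  obtain ⟨g, rfl⟩ := hf g'
  have e : f z * (f g * f z * (f g)⁻¹) = f (z * (g * z * g⁻¹)) := by simp
  rw [e]
  exact Odd.of_dvd_nat (hz.2.2 g) (orderOf_map_dvd f _)

/-- `IsIsolatedInvolution` gives `Iso`. -/
theorem iso_of_isolated {z : G} [Finite G] (hz : IsIsolatedInvolution z) : Iso z := by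
  obtain ⟨hz2, hiso⟩ := hz
  have hzz : z * z = 1 := by
    have := pow_orderOf_eq_one z
    rwa [hz2, pow_two] at this
  have hzi : z⁻¹ = z := inv_eq_of_mul_eq_one_left hzz
  have hz1 : z ≠ 1 := by
    intro e
    rw [e, orderOf_one] at hz2
    omega
  refine ⟨hzz, hz1, fun g => ?_⟩
  by_contra hodd
  rw [Nat.not_odd_iff_even] at hodd
  obtain ⟨m, hm⟩ := even_iff_two_dvd.1 hodd
  set x := g * z * g⁻¹ with hx
  have hxx : x * x = 1 := by
    rw [hx]
    calc g * z * g⁻¹ * (g * z * g⁻¹) = g * (z * z) * g⁻¹ := by group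
      _ = 1 := by rw [hzz]; group
  have hxi : x⁻¹ = x := inv_eq_of_mul_eq_one_left hxx
  set r := z * x with hr
  have hpos : 0 < orderOf r := orderOf_pos r
  have hm0 : 0 < m := by omega
  have h3 : z * r * z = r⁻¹ := by
    rw [hr, mul_inv_rev, hzi, hxi]
    calc z * (z * x) * z = (z * z) * x * z := by group
      _ = x * z := by rw [hzz, one_mul]
  set c := r ^ m with hc
  have hc1 : c ≠ 1 := pow_ne_one_of_lt_orderOf hm0.ne' (by omega)
  have hcc : c * c = 1 := by
    rw [hc, ← pow_add, ← two_mul, ← hm]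
    exact pow_orderOf_eq_one r
  have hci : c⁻¹ = c := inv_eq_of_mul_eq_one_left hcc
  have hzc : z * c * z = c := by
    rw [hc, dih_pow hzz h3 m, ← hc, hci]
  have hcz : c * z = z * c := by
    calc c * z = (z * c * z) * z := by rw [hzc]
      _ = z * c * (z * z) := by group
      _ = z * c := by rw [hzz, mul_one]
  -- `c z` is a conjugate of `z`
  have hconj : ∃ g₁ : G, g₁ * z * g₁⁻¹ = c * z := by
    rcases Nat.even_or_odd' m with ⟨j, hj | hj⟩
    · refine ⟨r ^ j, ?_⟩
      rw [dih_conj' hzz h3 j, ← hj]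
    · -- `w = r z` is conjugate to `z`
      have hw : r * z = z * x * z := rfl
      have hww : (r * z) * (r * z) = 1 := by
        rw [hw]
        calc z * x * z * (z * x * z) = z * x * (z * z) * x * z := by group
          _ = z * (x * x) * z := by rw [hzz]; group
          _ = 1 := by rw [hxx, mul_one, hzz]
      have hwr : (r * z) * r * (r * z) = r⁻¹ := by
        have h4 : z * r = r⁻¹ * z := by
          calc z * r = (z * r * z) * z := by
                rw [mul_assoc (z * r), hzz, mul_one]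
            _ = r⁻¹ * z := by rw [h3]
        calc (r * z) * r * (r * z) = r * (z * r) * r * z := by group
          _ = r * (r⁻¹ * z) * r * z := by rw [h4]
          _ = z * r * z := by group
          _ = r⁻¹ := h3
      refine ⟨r ^ j * (z * g), ?_⟩
      have h5 := dih_conj' hww hwr j
      have h6 : r ^ j * (z * g) * z * (r ^ j * (z * g))⁻¹ = r ^ j * (r * z) * (r ^ j)⁻¹ := by
        calc r ^ j * (z * g) * z * (r ^ j * (z * g))⁻¹ = r ^ j * (z * x * z⁻¹) * (r ^ j)⁻¹ := by
              rw [hx]; group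
          _ = r ^ j * (r * z) * (r ^ j)⁻¹ := by rw [hzi]
      rw [h6, h5, hc, hj, pow_succ]
      group
  obtain ⟨g₁, hg₁⟩ := hconj
  have hcom : Commute z (g₁ * z * g₁⁻¹) := by
    rw [hg₁]
    show z * (c * z) = c * z * z
    rw [hcz, mul_assoc z c z, hcz]
  have h7 := hiso g₁ hcom
  rw [hg₁] at h7
  apply hc1
  exact mul_eq_right.1 h7

/-- The Sylow form of isolation. -/
theorem isolated_of_sylow [Finite G] (P : Sylow 2 G) (u : G) (hu : orderOf u = 2) (huP : u ∈ P)
    (hiso : ∀ g : G, g * u * g⁻¹ ∈ P → g * u * g⁻¹ = u) : IsIsolatedInvolution u := by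
  haveI : Fact (Nat.Prime 2) := ⟨Nat.prime_two⟩
  refine ⟨hu, fun g hc => ?_⟩
  by_contra hne
  have huu : u * u = 1 := by
    have := pow_orderOf_eq_one u
    rwa [hu, pow_two] at this
  have hu1 : u ≠ 1 := by
    intro e
    rw [e, orderOf_one] at hu
    omega
  set x := g * u * g⁻¹ with hx
  have hxx : x * x = 1 := by
    rw [hx]
    calc g * u * g⁻¹ * (g * u * g⁻¹) = g * (u * u) * g⁻¹ := by group
      _ = 1 := by rw [huu]; group
  have hx1 : x ≠ 1 := by
    intro e
    rw [hx] at e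
    apply hu1
    have : u = g⁻¹ * (g * u * g⁻¹) * g := by group
    rw [this, e]
    group
  let T := Cfsg.Agent.Lib.H2Basic.kleinOf u x huu hxx hc
  have hT : Nat.card T = 4 := Cfsg.Agent.Lib.H2Basic.card_kleinOf hu1 hx1 (fun e => hne e.symm)
  have hTp : IsPGroup 2 T := IsPGroup.of_card (n := 2) (by rw [hT]; norm_num)
  obtain ⟨S, hS⟩ := hTp.exists_le_sylow
  obtain ⟨h, rfl⟩ := MulAction.exists_smul_eq G P S
  have h1 : u ∈ (h • P : Sylow 2 G) := hS (Cfsg.Agent.Lib.H2Basic.mem_kleinOf.2 (Or.inr (Or.inl rfl)))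
  have h2 : x ∈ (h • P : Sylow 2 G) := hS (Cfsg.Agent.Lib.H2Basic.mem_kleinOf.2 (Or.inr (Or.inr (Or.inl rfl))))
  rw [Cfsg.Agent.Lib.SylowCount.mem_smul_sylow] at h1 h2
  have h3 := hiso h⁻¹ (by rwa [inv_inv])
  rw [inv_inv] at h3
  have h4 := hiso (h⁻¹ * g) (by
    have : h⁻¹ * g * u * (h⁻¹ * g)⁻¹ = h⁻¹ * x * h := by rw [hx]; group
    rwa [this])
  have h5 : h⁻¹ * g * u * (h⁻¹ * g)⁻¹ = h⁻¹ * x * h := by rw [hx]; group
  rw [h5, ← h3] at h4
  apply hne
  exact mul_left_cancel (mul_right_cancel h4)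

end basics

/-- The assertion of the `Z*`-theorem for the group `G`. -/
def ZS (G : Type u) [Group G] : Prop :=
  ∀ z : G, Iso z → ∃ N : Subgroup G, N.Normal ∧ Odd (Nat.card N) ∧ ∀ g : G, z * g * z⁻¹ * g⁻¹ ∈ N

section local_

variable {G : Type u} [Group G] [Finite G]

/-- The key value computation. -/
theorem section_val {M : Ideal AlgInt} (hM : IsPModular 2 M)
    (IH : ∀ (H : Type u) [Group H] [Finite H], Nat.card H < Nat.card G → ZS H)
    (hZ : ∀ c : G, c * c = 1 → c ≠ 1 → Subgroup.centralizer ({c} : Set G) ≠ ⊤)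
    {z t t' : G} (hz : Iso z) (htc : t * z = z * t) (htt : t * t = 1) (htz : t ≠ z) (hconj : IsConj t t')
    (χ : IrrCharacter G) (hχ : χ ∈ principalBlock M G) :
    (χ : G → ℂ) (z * t') = (χ : G → ℂ) (z * t) := by
  have hcl : IsClassFunction G (χ : G → ℂ) :=
    Cfsg.Agent.Lib.CharOps.IsCharacter.isClassFunction' (Cfsg.Agent.Lib.CharOps.IsIrrCharacter.isCharacter' χ.2)
  have hzz := hz.1
  have hzi : z⁻¹ = z := inv_eq_of_mul_eq_one_left hzz
  obtain ⟨a, ha⟩ := isConj_iff.1 hconj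
  have ht't' : t' * t' = 1 := by
    rw [← ha]
    calc a * t * a⁻¹ * (a * t * a⁻¹) = a * (t * t) * a⁻¹ := by group
      _ = 1 := by rw [htt]; group
  have ht'i : t'⁻¹ = t' := inv_eq_of_mul_eq_one_left ht't'
  set g := z * t' with hgdef
  have hg : z * g * z = g⁻¹ := by
    rw [hgdef, mul_inv_rev, hzi, ht'i]
    calc z * (z * t') * z = (z * z) * t' * z := by group
      _ = t' * z := by rw [hzz, one_mul]
  obtain ⟨l, hl⟩ := hz.odd_sq hg
  have hk2 : g ^ (2 * (2 * l + 1)) = 1 := by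
    rw [pow_mul, pow_two, ← hl]
    exact pow_orderOf_eq_one _
  set c := g ^ (2 * l + 1) with hc
  set r := g ^ (2 * l + 1 + 1) with hr
  have hcc : c * c = 1 := by
    rw [hc, ← pow_add, ← two_mul, hk2]
  have hci : c⁻¹ = c := inv_eq_of_mul_eq_one_left hcc
  have hcr : c * r = g := by
    rw [hc, hr, ← pow_add, show 2 * l + 1 + (2 * l + 1 + 1) = 2 * (2 * l + 1) + 1 by ring, pow_succ, hk2, one_mul]
  have hrc : r * c = c * r := by
    rw [hc, hr, ← pow_add, ← pow_add, add_comm]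
  have hrk : r ^ (2 * l + 1) = 1 := by
    rw [hr, ← pow_mul, show (2 * l + 1 + 1) * (2 * l + 1) = (2 * (2 * l + 1)) * (l + 1) by ring, pow_mul, hk2, one_pow]
  have hzc : z * c * z = c := by
    rw [hc, dih_pow hzz hg, ← hc, hci]
  have hzr : z * r * z = r⁻¹ := by
    rw [hr, dih_pow hzz hg]
  have hcz : c * z = z * c := by
    calc c * z = (z * c * z) * z := by rw [hzc]
      _ = z * c * (z * z) := by group
      _ = z * c := by rw [hzz, mul_one]
  have hg' : g⁻¹ * z = t' := by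
    rw [hgdef, mul_inv_rev, hzi, ht'i, mul_assoc, hzz, mul_one]
  have hc1 : c ≠ 1 := by
    intro e
    have hgr : g ^ (2 * l + 1) = 1 := e
    have h1 := dih_conj hzz hg hgr
    rw [hg'] at h1
    -- `t` is a conjugate of `z`
    have h2 : (a⁻¹ * g ^ l) * z * (a⁻¹ * g ^ l)⁻¹ = t := by
      calc (a⁻¹ * g ^ l) * z * (a⁻¹ * g ^ l)⁻¹ = a⁻¹ * (g ^ l * z * (g ^ l)⁻¹) * a := by group
        _ = a⁻¹ * t' * a := by rw [h1]
        _ = t := by rw [← ha]; group
    have h3 := hz.eq_of_comm (a⁻¹ * g ^ l) (by rw [h2]; exact htc.symm)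
    rw [h2] at h3
    exact htz h3
  have hcent := hZ c hcc hc1
  let C : Subgroup G := Subgroup.centralizer ({c} : Set G)
  have hzC : z ∈ C := Subgroup.mem_centralizer_singleton_iff.2 hcz.symm
  have hrC : r ∈ C := Subgroup.mem_centralizer_singleton_iff.2 hrc
  have hcard : Nat.card C < Nat.card G := by
    apply lt_of_le_of_ne (Subgroup.card_le_card_group C)
    intro e
    exact hcent (Subgroup.eq_top_of_card_eq C e)
  obtain ⟨N, hNn, hNo, hN⟩ := IH C hcard ⟨z, hzC⟩ (hz.restrict C hzC)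
  have h1 := hN ⟨r, hrC⟩
  have hri : (r⁻¹ * r⁻¹ : G) = r⁻¹ * r⁻¹ := rfl
  have h2 : (⟨r, hrC⟩ : C) ∈ N := by
    have e : (⟨r, hrC⟩ : C) = ((⟨z, hzC⟩ : C) * ⟨r, hrC⟩ * (⟨z, hzC⟩ : C)⁻¹ * (⟨r, hrC⟩ : C)⁻¹) ^ l := by
      apply Subtype.ext
      show r = (z * r * z⁻¹ * r⁻¹) ^ l
      rw [hzi, hzr, ← pow_two, ← pow_mul]
      have : r ^ (2 * l) * r = 1 := by rw [← pow_succ]; exact hrk
      rw [inv_pow]
      exact (eq_inv_of_mul_eq_one_right this)
    rw [e]
    exact N.pow_mem h1 l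
  have h3 : N ≤ pPrimeCore 2 C := le_sSup ⟨hNn, Nat.coprime_two_right.2 hNo⟩
  have h4 : r ∈ centralizerPPrimeCore 2 c := ⟨⟨r, hrC⟩, h3 h2, rfl⟩
  cases nonempty_fintype G
  have hco : orderOf c = 2 := orderOf_eq_prime (by rw [pow_two]; exact hcc) hc1
  have h5 := Cfsg.Agent.Lib.CharBlockKer.section_principal_const hM ⟨1, by rw [hco, pow_one]⟩ h4 hχ
  rw [hcr] at h5
  -- `t'` is conjugate to `z c`
  set w := z * c with hw
  have hww : w * w = 1 := by
    rw [hw]
    calc z * c * (z * c) = z * (c * z) * c := by group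
      _ = z * (z * c) * c := by rw [hcz]
      _ = (z * z) * (c * c) := by group
      _ = 1 := by rw [hzz, hcc, one_mul]
  have hwr : w * r * w = r⁻¹ := by
    rw [hw]
    calc z * c * r * (z * c) = z * (r * c) * (z * c) := by rw [hrc]; group
      _ = z * r * (c * z) * c := by group
      _ = z * r * (z * c) * c := by rw [hcz]
      _ = (z * r * z) * (c * c) := by group
      _ = r⁻¹ := by rw [hzr, hcc, mul_one]
  have h6 := dih_conj hww hwr hrk
  have h7 : r⁻¹ * w = t' := by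
    have h8 : w * r = r⁻¹ * w := by
      calc w * r = (w * r * w) * w := by rw [mul_assoc (w * r), hww, mul_one]
        _ = r⁻¹ * w := by rw [hwr]
    rw [← h8, hw, mul_assoc, hcr, hgdef, ← mul_assoc, hzz, one_mul]
  rw [h7] at h6
  -- fusion
  have hwz : w * z = z * w := by
    rw [hw]
    calc z * c * z = z * (c * z) := by group
      _ = z * (z * c) := by rw [hcz]
  have e8 : ((r ^ l)⁻¹ * a) * t * ((r ^ l)⁻¹ * a)⁻¹ = w := by
    calc ((r ^ l)⁻¹ * a) * t * ((r ^ l)⁻¹ * a)⁻¹ = (r ^ l)⁻¹ * (a * t * a⁻¹) * r ^ l := by group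
      _ = (r ^ l)⁻¹ * t' * r ^ l := by rw [ha]
      _ = (r ^ l)⁻¹ * (r ^ l * w * (r ^ l)⁻¹) * r ^ l := by rw [h6]
      _ = w := by group
  obtain ⟨d, hdz, hd⟩ := hz.fusion htc hwz e8
  have h9 : d * (z * t) * d⁻¹ = c := by
    calc d * (z * t) * d⁻¹ = (d * z) * t * d⁻¹ := by group
      _ = (z * d) * t * d⁻¹ := by rw [hdz]
      _ = z * (d * t * d⁻¹) := by group
      _ = z * w := by rw [hd]
      _ = c := by rw [hw, ← mul_assoc, hzz, one_mul]
  rw [h5, ← h9]
  exact hcl _ _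

theorem mult_rel {M : Ideal AlgInt} (hM : IsPModular 2 M)
    (IH : ∀ (H : Type u) [Group H] [Finite H], Nat.card H < Nat.card G → ZS H)
    (hZ : ∀ c : G, c * c = 1 → c ≠ 1 → Subgroup.centralizer ({c} : Set G) ≠ ⊤)
    {z t : G} (hz : Iso z) (htc : t * z = z * t) (htt : t * t = 1) (htz : t ≠ z)
    (χ : IrrCharacter G) (hχ : χ ∈ principalBlock M G) :
    (χ : G → ℂ) z * (χ : G → ℂ) t = (χ : G → ℂ) 1 * (χ : G → ℂ) (z * t) := by
  have hcl : IsClassFunction G (χ : G → ℂ) :=
    Cfsg.Agent.Lib.CharOps.IsCharacter.isClassFunction' (Cfsg.Agent.Lib.CharOps.IsIrrCharacter.isCharacter' χ.2)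
  apply Cfsg.Agent.S0943.result χ z t
  intro x y hx hy
  obtain ⟨a, rfl⟩ := isConj_iff.1 hx
  have e : a * z * a⁻¹ * y = a * (z * (a⁻¹ * y * a)) * a⁻¹ := by group
  rw [e, hcl]
  exact section_val hM IH hZ hz htc htt htz (hy.trans (isConj_iff.2 ⟨a⁻¹, by group⟩)) χ hχ

end local_

section chars

variable {G : Type u} [Group G] [Fintype G]

theorem const_of_ker {φ : G → ℂ} (hc : IsCharacter G φ) {z : G} (hzz : z * z = 1) (h : φ z = φ 1)
    (htop : Subgroup.normalClosure ({z} : Set G) = ⊤) (g : G) : φ g = φ 1 := by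
  classical
  have hcl : IsClassFunction G φ := Cfsg.Agent.Lib.CharOps.IsCharacter.isClassFunction' hc
  let K₀ : Subgroup G :=
    { carrier := {k | ∀ g, φ (k * g) = φ g}
      one_mem' := fun g => by rw [one_mul]
      mul_mem' := fun {a b} ha hb g => by
        rw [mul_assoc, ha, hb]
      inv_mem' := fun {a} ha g => by
        have := ha (a⁻¹ * g)
        rw [mul_inv_cancel_left] at this
        exact this.symm }
  haveI hK₀ : K₀.Normal := by
    refine ⟨fun a ha x g => ?_⟩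
    have e1 := hcl (x * a * x⁻¹ * g) x⁻¹
    have e2 : x⁻¹ * (x * a * x⁻¹ * g) * x⁻¹⁻¹ = a * (x⁻¹ * g * x) := by group
    rw [e2, ha] at e1
    rw [← e1]
    have e3 := hcl g x⁻¹
    rw [inv_inv] at e3
    exact e3
  have hzK : z ∈ K₀ := by
    intro g
    apply Cfsg.Agent.Lib.CharKernel.apply_mul_of_ker (Subgroup.zpowers z) hc ?_ (Subgroup.mem_zpowers z)
    intro n hn
    obtain ⟨k, rfl⟩ := Subgroup.mem_zpowers_iff.1 hn
    rcases Int.even_or_odd' k with ⟨m, rfl | rfl⟩
    · rw [zpow_mul, zpow_two, hzz, one_zpow]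
    · rw [zpow_add, zpow_mul, zpow_two, hzz, one_zpow, one_mul, zpow_one, h]
  have hle : Subgroup.normalClosure ({z} : Set G) ≤ K₀ := by
    apply Subgroup.normalClosure_le_normal
    rintro _ rfl
    exact hzK
  have hg : g ∈ K₀ := hle (by rw [htop]; exact Subgroup.mem_top g)
  have := hg 1
  rwa [mul_one] at this

theorem deg_one_of_sq (χ : IrrCharacter G) {z : G} (hz2 : orderOf z = 2)
    (htop : Subgroup.normalClosure ({z} : Set G) = ⊤) (h : (χ : G → ℂ) z ^ 2 = (χ : G → ℂ) 1 ^ 2) :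
    (χ : G → ℂ) 1 = 1 := by
  classical
  obtain ⟨n, hn, -⟩ := Cfsg.Agent.S0944.result χ z hz2
  have hzz : z * z = 1 := by
    have := pow_orderOf_eq_one z
    rwa [hz2, pow_two] at this
  have hc0 : IsCharacter G (χ : G → ℂ) := Cfsg.Agent.Lib.CharOps.IsIrrCharacter.isCharacter' χ.2
  let φ : G → ℂ := fun g => (χ : G → ℂ) g * conj ((χ : G → ℂ) g)
  have hφ : IsCharacter G φ :=
    Cfsg.Agent.Lib.CharOps.isCharacter_mul hc0 (Cfsg.Agent.Lib.CharOps.isCharacter_conj hc0)
  have hd := Cfsg.Agent.Lib.BlockApps.irr_one_eq_charDegree χ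
  have h1 : φ 1 = (χ : G → ℂ) 1 ^ 2 := by
    show (χ : G → ℂ) 1 * conj ((χ : G → ℂ) 1) = _
    rw [hd, map_natCast, pow_two]
  have h2 : φ z = (χ : G → ℂ) z ^ 2 := by
    show (χ : G → ℂ) z * conj ((χ : G → ℂ) z) = _
    rw [hn, map_intCast, pow_two]
  have hconst := const_of_ker hφ hzz (by rw [h1, h2, h]) htop
  have h3 := Cfsg.Agent.Lib.CharOrtho.classInner_irr_self χ.2
  unfold classInner at h3
  have h4 : ∀ g, (χ : G → ℂ) g * conj ((χ : G → ℂ) g) = (χ : G → ℂ) 1 ^ 2 := by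
    intro g
    rw [← h1]
    exact hconst g
  simp only [h4] at h3
  rw [Finset.sum_const, Finset.card_univ, nsmul_eq_mul, ← Nat.card_eq_fintype_card, ← mul_assoc,
    inv_mul_cancel₀ (by exact_mod_cast Nat.card_pos.ne'), one_mul] at h3
  rw [hd] at h3 ⊢
  have h5 : (charDegree (χ : G → ℂ)) ^ 2 = 1 := by exact_mod_cast h3
  have h6 : charDegree (χ : G → ℂ) = 1 := by
    have := Nat.pow_eq_one.1 h5
    omega
  rw [h6]
  simp

theorem linear_ext (χ ψ : IrrCharacter G) {z : G}
    (htop : Subgroup.normalClosure ({z} : Set G) = ⊤)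
    (h1 : (χ : G → ℂ) 1 = 1) (h2 : (ψ : G → ℂ) 1 = 1) (h : (χ : G → ℂ) z = (ψ : G → ℂ) z) : χ = ψ := by
  have hc1 : IsCharacter G (χ : G → ℂ) := Cfsg.Agent.Lib.CharOps.IsIrrCharacter.isCharacter' χ.2
  have hc2 : IsCharacter G (ψ : G → ℂ) := Cfsg.Agent.Lib.CharOps.IsIrrCharacter.isCharacter' ψ.2
  have hcl1 : IsClassFunction G (χ : G → ℂ) := Cfsg.Agent.Lib.CharOps.IsCharacter.isClassFunction' hc1
  have hcl2 : IsClassFunction G (ψ : G → ℂ) := Cfsg.Agent.Lib.CharOps.IsCharacter.isClassFunction' hc2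
  have m1 := Cfsg.Agent.Lib.CharAb.degree_one_mul hc1 h1
  have m2 := Cfsg.Agent.Lib.CharAb.degree_one_mul hc2 h2
  let S : Subgroup G :=
    { carrier := {g | (χ : G → ℂ) g = (ψ : G → ℂ) g}
      one_mem' := h1.trans h2.symm
      mul_mem' := fun {a b} ha hb => by
        show (χ : G → ℂ) (a * b) = (ψ : G → ℂ) (a * b)
        rw [m1, m2, show (χ : G → ℂ) a = (ψ : G → ℂ) a from ha, show (χ : G → ℂ) b = (ψ : G → ℂ) b from hb]
      inv_mem' := fun {a} ha => by
        show (χ : G → ℂ) a⁻¹ = (ψ : G → ℂ) a⁻¹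
        have e1 := m1 a a⁻¹
        have e2 := m2 a a⁻¹
        rw [mul_inv_cancel, h1] at e1
        rw [mul_inv_cancel, h2] at e2
        have e3 : (χ : G → ℂ) a = (ψ : G → ℂ) a := ha
        have e4 : (ψ : G → ℂ) a ≠ 0 := by
          intro e5
          rw [e5, zero_mul] at e2
          exact one_ne_zero e2
        rw [e3] at e1
        exact mul_left_cancel₀ e4 (e1.symm.trans e2) }
  haveI hS : S.Normal := by
    refine ⟨fun a ha g => ?_⟩
    show (χ : G → ℂ) (g * a * g⁻¹) = (ψ : G → ℂ) (g * a * g⁻¹)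
    rw [hcl1, hcl2]
    exact ha
  have hle : Subgroup.normalClosure ({z} : Set G) ≤ S := by
    apply Subgroup.normalClosure_le_normal
    rintro _ rfl
    exact h
  apply Subtype.ext
  funext g
  exact hle (by rw [htop]; exact Subgroup.mem_top g)

end chars

section count

variable {G : Type u} [Group G] [Finite G]

theorem sq_val {M : Ideal AlgInt} (hM : IsPModular 2 M)
    (IH : ∀ (H : Type u) [Group H] [Finite H], Nat.card H < Nat.card G → ZS H)
    (hZ : ∀ c : G, c * c = 1 → c ≠ 1 → Subgroup.centralizer ({c} : Set G) ≠ ⊤)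
    {z t : G} (hz : Iso z) (htc : t * z = z * t) (htt : t * t = 1) (ht1 : t ≠ 1) (htz : t ≠ z)
    (χ : IrrCharacter G) (hχ : χ ∈ principalBlock M G) (hodd : Odd (charDegree (χ : G → ℂ))) :
    (χ : G → ℂ) z ^ 2 = (χ : G → ℂ) 1 ^ 2 := by
  have ht2 : orderOf t = 2 := orderOf_eq_prime (by rw [pow_two]; exact htt) ht1
  have hzz := hz.1
  have h1 := mult_rel hM IH hZ hz htc htt htz χ hχ
  have hw1 : (z * t) * z = z * (z * t) := by rw [mul_assoc, htc]
  have hw2 : (z * t) * (z * t) = 1 := by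
    calc (z * t) * (z * t) = z * (t * z) * t := by group
      _ = z * (z * t) * t := by rw [htc]
      _ = (z * z) * (t * t) := by group
      _ = 1 := by rw [hzz, htt, one_mul]
  have hw3 : z * t ≠ z := fun e => ht1 (mul_eq_left.1 e)
  have h2 := mult_rel hM IH hZ hz hw1 hw2 hw3 χ hχ
  rw [← mul_assoc, hzz, one_mul] at h2
  obtain ⟨n, hn, hd⟩ := Cfsg.Agent.S0944.result χ t ht2
  have hn0 : (χ : G → ℂ) t ≠ 0 := by
    rw [hn]
    intro e
    have e' : n = 0 := by exact_mod_cast e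
    rw [e', sub_zero] at hd
    obtain ⟨a, ha⟩ := hodd
    rw [ha] at hd
    omega
  apply mul_right_cancel₀ hn0
  linear_combination ((χ : G → ℂ) z) * h1 + ((χ : G → ℂ) 1) * h2

open Cfsg.Agent.Lib.BlockApps Cfsg.Agent.Lib.BlockOrth in
/-- The contradiction when the centralizer of `z` has 2-rank at least two. -/
theorem main_contra
    (IH : ∀ (H : Type u) [Group H] [Finite H], Nat.card H < Nat.card G → ZS H)
    (hZ : ∀ c : G, c * c = 1 → c ≠ 1 → Subgroup.centralizer ({c} : Set G) ≠ ⊤)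
    {z t : G} (htop : Subgroup.normalClosure ({z} : Set G) = ⊤)
    (hz : Iso z) (htc : t * z = z * t) (htt : t * t = 1) (ht1 : t ≠ 1) (htz : t ≠ z) : False := by
  classical
  cases nonempty_fintype G
  obtain ⟨M, hM⟩ := Cfsg.Agent.Lib.CharBlockVan.exists_isPModular Nat.prime_two
  haveI : M.IsPrime := hM.2.1.isPrime
  haveI : Fact (Nat.Prime 2) := ⟨Nat.prime_two⟩
  have hz2 : orderOf z = 2 := orderOf_eq_prime (by rw [pow_two]; exact hz.1) hz.2.1
  -- the 2-part of the order is at least 4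
  have hG4 : 2 ^ 2 ∣ Nat.card G := by
    let T := Cfsg.Agent.Lib.H2Basic.kleinOf z t hz.1 htt htc.symm
    have hT : Nat.card T = 4 := Cfsg.Agent.Lib.H2Basic.card_kleinOf hz.2.1 ht1 (fun e => htz e.symm)
    have := Subgroup.card_subgroup_dvd_card T
    rw [hT] at this
    exact this
  obtain P : Sylow 2 G := default
  have hP4 : 2 ^ 2 ∣ Nat.card (P : Subgroup G) := Sylow.pow_dvd_card_of_pow_dvd_card P hG4
  have hk : ∀ x y : G, ¬ 2 ∣ orderOf x → 2 ∣ orderOf y → kern (principalBlock M G) x y = 0 :=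
    fun x y hx hy => kern_eq_zero_of_closed hM (Cfsg.Agent.Lib.BlockOsima.block_closed principal_isBlock) x y hx hy
  have h1 := sylow_dvd_sum_sq Nat.prime_two hk P
  have h5 : 2 ^ 2 ∣ ∑ᶠ χ ∈ principalBlock M G, charDegree (χ : G → ℂ) ^ 2 := hP4.trans h1
  rw [finsum_mem_def, finsum_eq_sum_of_fintype] at h5
  let A : Finset (IrrCharacter G) := Finset.univ.filter
    (fun χ => χ ∈ principalBlock M G ∧ Odd (charDegree (χ : G → ℂ)))
  have hterm : ∀ χ : IrrCharacter G, (((principalBlock M G).indicator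
      (fun χ : IrrCharacter G => charDegree (χ : G → ℂ) ^ 2) χ : ℕ) : ZMod 4) = if χ ∈ A then 1 else 0 := by
    intro χ
    have h40 : (4 : ZMod 4) = 0 := rfl
    by_cases hB : χ ∈ principalBlock M G
    · rw [Set.indicator_of_mem hB]
      by_cases ho : Odd (charDegree (χ : G → ℂ))
      · rw [if_pos (by simp [A, hB, ho])]
        obtain ⟨a, ha⟩ := ho
        rw [ha]
        push_cast
        linear_combination ((a : ZMod 4) ^ 2 + a) * h40
      · rw [if_neg (by simp [A, hB, ho])]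
        rw [Nat.not_odd_iff_even] at ho
        obtain ⟨a, ha⟩ := ho
        rw [ha]
        push_cast
        linear_combination ((a : ZMod 4) ^ 2) * h40
    · rw [Set.indicator_of_notMem hB, if_neg (by simp [A, hB])]
      simp
  have h6 : ((A.card : ℕ) : ZMod 4) = 0 := by
    have h7 : ((∑ χ : IrrCharacter G, (principalBlock M G).indicator
      (fun χ : IrrCharacter G => charDegree (χ : G → ℂ) ^ 2) χ : ℕ) : ZMod 4) = 0 :=
      (ZMod.natCast_eq_zero_iff _ 4).2 h5
    rw [Nat.cast_sum] at h7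
    simp only [hterm] at h7
    rw [Finset.sum_boole, Finset.filter_mem_eq_inter, Finset.univ_inter] at h7
    exact h7
  have h8 : 4 ∣ A.card := (ZMod.natCast_eq_zero_iff _ 4).1 h6
  have hone : one' G ∈ A := by
    simp only [A, Finset.mem_filter, Finset.mem_univ, true_and]
    refine ⟨one_mem_principal, ?_⟩
    simp [charDegree, one']
  have h9 : 0 < A.card := Finset.card_pos.2 ⟨_, hone⟩
  have hlin : ∀ χ ∈ A, (χ : G → ℂ) 1 = 1 ∧ ((χ : G → ℂ) z = 1 ∨ (χ : G → ℂ) z = -1) := by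
    intro χ hχ
    simp only [A, Finset.mem_filter, Finset.mem_univ, true_and] at hχ
    have h3 := sq_val hM IH hZ hz htc htt ht1 htz χ hχ.1 hχ.2
    have h4 := deg_one_of_sq χ hz2 htop h3
    refine ⟨h4, ?_⟩
    rw [h4, pow_two, pow_two, one_mul] at h3
    exact mul_self_eq_one_iff.1 h3
  have h10 : A.card ≤ ({1, -1} : Finset ℂ).card := by
    apply Finset.card_le_card_of_injOn (fun χ : IrrCharacter G => (χ : G → ℂ) z)
    · intro χ hχ
      rcases (hlin χ hχ).2 with h | h
      · simp [h]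
      · simp [h]
    · intro χ hχ ψ hψ e
      exact linear_ext χ ψ htop (hlin χ hχ).1 (hlin ψ hψ).1 e
  have h11 : ({1, -1} : Finset ℂ).card ≤ 2 := Finset.card_le_two
  have h12 : A.card ≤ 2 := h10.trans h11
  omega

end count

section reductions

variable {G : Type u} [Group G] [Finite G]

theorem card_comap_mk (K : Subgroup G) [K.Normal] (N : Subgroup (G ⧸ K)) :
    Nat.card (N.comap (QuotientGroup.mk' K)) = Nat.card N * Nat.card K := by
  have h1 := Subgroup.index_comap_of_surjective N (QuotientGroup.mk'_surjective K)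
  have h2 := Subgroup.card_mul_index (N.comap (QuotientGroup.mk' K))
  have h3 := Subgroup.card_mul_index N
  have h4 := Subgroup.card_eq_card_quotient_mul_card_subgroup K
  rw [h1] at h2
  have hi : 0 < N.index := Nat.pos_of_ne_zero Subgroup.index_ne_zero_of_finite
  apply Nat.eq_of_mul_eq_mul_right hi
  rw [h2, h4, ← h3]
  ring

/-- Step 1: pass to a quotient by a normal subgroup of odd order. -/
theorem of_quotient (IH : ∀ (H : Type u) [Group H] [Finite H], Nat.card H < Nat.card G → ZS H)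
    (K : Subgroup G) [hKn : K.Normal] (hKo : Odd (Nat.card K)) (hK : K ≠ ⊥) {z : G} (hz : Iso z) :
    ∃ N : Subgroup G, N.Normal ∧ Odd (Nat.card N) ∧ ∀ g : G, z * g * z⁻¹ * g⁻¹ ∈ N := by
  have hz2 : orderOf z = 2 := orderOf_eq_prime (by rw [pow_two]; exact hz.1) hz.2.1
  have hzK : z ∉ K := by
    intro h
    have h1 : orderOf z ∣ Nat.card K := Subgroup.orderOf_dvd_natCard K h
    rw [hz2] at h1
    rw [← Nat.not_even_iff_odd, even_iff_two_dvd] at hKo
    exact hKo h1
  have hcard : Nat.card (G ⧸ K) < Nat.card G := by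
    have h4 := Subgroup.card_eq_card_quotient_mul_card_subgroup K
    have h5 : 1 < Nat.card K := by
      by_contra h
      have h6 : Nat.card K = 1 := le_antisymm (by omega) Nat.card_pos
      exact hK ((Subgroup.card_eq_one).1 h6)
    have h7 : 0 < Nat.card (G ⧸ K) := Nat.card_pos
    rw [h4]
    nlinarith
  have hiso := hz.map (QuotientGroup.mk' K) (QuotientGroup.mk'_surjective K)
    (fun e => hzK ((QuotientGroup.eq_one_iff z).1 e))
  obtain ⟨N, hNn, hNo, hN⟩ := IH (G ⧸ K) hcard _ hiso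
  refine ⟨N.comap (QuotientGroup.mk' K), hNn.comap _, ?_, fun g => ?_⟩
  · rw [card_comap_mk]
    exact hNo.mul hKo
  · have := hN ((QuotientGroup.mk' K) g)
    simpa [Subgroup.mem_comap] using this

/-- Step 2: `z` not normally generating the group. -/
theorem central_of_closure (IH : ∀ (H : Type u) [Group H] [Finite H], Nat.card H < Nat.card G → ZS H)
    (hO : ∀ K : Subgroup G, K.Normal → Odd (Nat.card K) → K = ⊥) {z : G} (hz : Iso z)
    (htop : Subgroup.normalClosure ({z} : Set G) ≠ ⊤) (g : G) : g * z * g⁻¹ = z := by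
  set X : Subgroup G := Subgroup.normalClosure ({z} : Set G) with hX
  haveI hXn : X.Normal := Subgroup.normalClosure_normal
  have hzX : z ∈ X := Subgroup.subset_normalClosure rfl
  have hlt : Nat.card X < Nat.card G := by
    apply lt_of_le_of_ne (Subgroup.card_le_card_group X)
    intro e
    exact htop (Subgroup.eq_top_of_card_eq X e)
  obtain ⟨N₀, hN₀n, hN₀o, hN₀⟩ := IH X hlt ⟨z, hzX⟩ (hz.restrict X hzX)
  have hN₀2 : Nat.Coprime (Nat.card N₀) 2 := Nat.coprime_two_right.2 hN₀o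
  haveI hOc : (pPrimeCore 2 X).Characteristic := Cfsg.Agent.Lib.PComps.pPrimeCore_characteristic
  have hN₀O : N₀ ≤ pPrimeCore 2 X := le_sSup ⟨hN₀n, hN₀2⟩
  have hOodd : Odd (Nat.card (pPrimeCore 2 X)) := by
    rw [← Nat.not_even_iff_odd, even_iff_two_dvd]
    exact Cfsg.Agent.Lib.FitCore.not_dvd_card_pPrimeCore 2 Nat.prime_two
  have h1 := hO ((pPrimeCore 2 X).map X.subtype) (Cfsg.Agent.Lib.FitCore.map_subtype_normal_of_char X _)
    (by rwa [Subgroup.card_map_of_injective X.subtype_injective])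
  have hg : g * z * g⁻¹ ∈ X := hXn.conj_mem _ hzX g
  have h2 := hN₀O (hN₀ ⟨g * z * g⁻¹, hg⟩)
  have h3 : (z * (g * z * g⁻¹) * z⁻¹ * (g * z * g⁻¹)⁻¹ : G) ∈ (pPrimeCore 2 X).map X.subtype := ⟨_, h2, rfl⟩
  rw [h1, Subgroup.mem_bot] at h3
  apply hz.eq_of_comm
  have h4 : z * (g * z * g⁻¹) * z⁻¹ * (g * z * g⁻¹)⁻¹ = (z * (g * z * g⁻¹)) * ((g * z * g⁻¹) * z)⁻¹ := by group
  rw [h4] at h3
  exact mul_inv_eq_one.1 h3

/-- The preimage of a normal subgroup of odd order in the quotient by a central involution is a 2-group. -/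
theorem comap_two_group (hO : ∀ K : Subgroup G, K.Normal → Odd (Nat.card K) → K = ⊥)
    {c : G} (hcc : c * c = 1) (hc1 : c ≠ 1) (hc : ∀ g, g * c = c * g)
    [hKn : (Subgroup.zpowers c).Normal] (N : Subgroup (G ⧸ Subgroup.zpowers c)) (hNn : N.Normal) (hNo : Odd (Nat.card N)) :
    IsPGroup 2 (N.comap (QuotientGroup.mk' (Subgroup.zpowers c))) := by
  classical
  haveI : Fact (Nat.Prime 2) := ⟨Nat.prime_two⟩
  have hco : orderOf c = 2 := orderOf_eq_prime (by rw [pow_two]; exact hcc) hc1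
  let K : Subgroup G := Subgroup.zpowers c
  have hKc : Nat.card K = 2 := by
    rw [Nat.card_zpowers, hco]
  let M : Subgroup G := N.comap (QuotientGroup.mk' K)
  haveI hMn : M.Normal := hNn.comap _
  have hMc : Nat.card M = Nat.card N * 2 := by
    rw [← hKc]
    exact card_comap_mk K N
  -- a normal complement in `M`
  let S : Sylow 2 M := default
  have hScyc : IsCyclic (S : Subgroup M) := by
    obtain ⟨e, he⟩ := IsPGroup.iff_card.1 S.isPGroup'
    rcases e with _ | _ | e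
    · rw [pow_zero] at he
      haveI : Subsingleton (S : Subgroup M) := (Nat.card_eq_one_iff_unique.1 he).1
      exact isCyclic_of_subsingleton
    · rw [zero_add, pow_one] at he
      exact isCyclic_of_prime_card he
    · exfalso
      have h1 : Nat.card (S : Subgroup M) ∣ Nat.card M := Subgroup.card_subgroup_dvd_card _
      rw [he, hMc, pow_add, pow_add] at h1
      have h2 : 2 * 2 ∣ Nat.card N * 2 := by
        refine Dvd.dvd.trans ?_ h1
        exact ⟨2 ^ e, by ring⟩
      have h3 : 2 ∣ Nat.card N := Nat.dvd_of_mul_dvd_mul_right (by norm_num) h2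
      rw [← Nat.not_even_iff_odd, even_iff_two_dvd] at hNo
      exact hNo h3
  obtain ⟨L, hLn, hLc⟩ := Cfsg.Agent.Lib.H5Cyc.exists_normal_complement S hScyc
  have hLodd : Odd (Nat.card L) := by
    have h1 : (S : Subgroup M).index = Nat.card L := hLc.index_eq_card
    rw [← h1, ← Nat.not_even_iff_odd, even_iff_two_dvd]
    exact S.not_dvd_index
  haveI hOc : (pPrimeCore 2 M).Characteristic := Cfsg.Agent.Lib.PComps.pPrimeCore_characteristic
  have hLO : L ≤ pPrimeCore 2 M := le_sSup ⟨hLn, Nat.coprime_two_right.2 hLodd⟩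
  have hOodd : Odd (Nat.card (pPrimeCore 2 M)) := by
    rw [← Nat.not_even_iff_odd, even_iff_two_dvd]
    exact Cfsg.Agent.Lib.FitCore.not_dvd_card_pPrimeCore 2 Nat.prime_two
  have h1 := hO ((pPrimeCore 2 M).map M.subtype) (Cfsg.Agent.Lib.FitCore.map_subtype_normal_of_char M _)
    (by rwa [Subgroup.card_map_of_injective M.subtype_injective])
  have h2 : pPrimeCore 2 M = ⊥ := (Subgroup.map_eq_bot_iff_of_injective _ M.subtype_injective).1 h1
  have hL : L = ⊥ := le_bot_iff.1 (h2 ▸ hLO)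
  rw [hL] at hLc
  have hS : (S : Subgroup M) = ⊤ := Subgroup.isComplement'_bot_left.1 hLc
  intro y
  obtain ⟨e, he⟩ := (IsPGroup.iff_orderOf.1 S.isPGroup') ⟨y, by rw [hS]; exact Subgroup.mem_top _⟩
  refine ⟨e, ?_⟩
  rw [← he]
  have := pow_orderOf_eq_one (⟨y, by rw [hS]; exact Subgroup.mem_top _⟩ : (S : Subgroup M))
  exact congrArg Subtype.val this

/-- Step 3: a central involution. -/
theorem central_of_central_invol (IH : ∀ (H : Type u) [Group H] [Finite H], Nat.card H < Nat.card G → ZS H)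
    (hO : ∀ K : Subgroup G, K.Normal → Odd (Nat.card K) → K = ⊥) {z : G} (hz : Iso z)
    {c : G} (hc : ∀ g, g * c = c * g) (hcc : c * c = 1) (hc1 : c ≠ 1) (g : G) : g * z * g⁻¹ = z := by
  classical
  haveI : Fact (Nat.Prime 2) := ⟨Nat.prime_two⟩
  by_cases hcz : c = z
  · subst hcz
    rw [hc g]
    group
  have hco : orderOf c = 2 := orderOf_eq_prime (by rw [pow_two]; exact hcc) hc1
  let K : Subgroup G := Subgroup.zpowers c
  haveI hKn : K.Normal := by
    constructor
    intro a ha b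
    obtain ⟨k, rfl⟩ := Subgroup.mem_zpowers_iff.1 ha
    have : b * c ^ k * b⁻¹ = c ^ k := by
      have h1 : Commute b c := hc b
      rw [(h1.zpow_right k).eq]
      group
    rw [this]
    exact ha
  have hKc : Nat.card K = 2 := by
    rw [Nat.card_zpowers, hco]
  have hzK : z ∉ K := by
    intro h
    obtain ⟨k, rfl⟩ := Subgroup.mem_zpowers_iff.1 h
    rcases Int.even_or_odd' k with ⟨m, rfl | rfl⟩
    · rw [zpow_mul, zpow_two, hcc, one_zpow] at hz
      exact hz.2.1 rfl
    · rw [zpow_add, zpow_mul, zpow_two, hcc, one_zpow, one_mul, zpow_one] at hcz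
      exact hcz rfl
  have hcard : Nat.card (G ⧸ K) < Nat.card G := by
    have h4 := Subgroup.card_eq_card_quotient_mul_card_subgroup K
    have h7 : 0 < Nat.card (G ⧸ K) := Nat.card_pos
    rw [h4, hKc]
    nlinarith
  have hiso := hz.map (QuotientGroup.mk' K) (QuotientGroup.mk'_surjective K)
    (fun e => hzK ((QuotientGroup.eq_one_iff z).1 e))
  obtain ⟨N, hNn, hNo, hN⟩ := IH (G ⧸ K) hcard _ hiso
  let M : Subgroup G := N.comap (QuotientGroup.mk' K)
  have hzM : ∀ g : G, z * g * z⁻¹ * g⁻¹ ∈ M := by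
    intro g
    have := hN ((QuotientGroup.mk' K) g)
    simpa [M, Subgroup.mem_comap] using this
  have hMp : IsPGroup 2 M := comap_two_group hO hcc hc1 hc N hNn hNo
  apply hz.eq_of_comm
  have hy : z * (g * z * g⁻¹) ∈ M := by
    have h3 := hzM g
    have hzi : z⁻¹ = z := inv_eq_of_mul_eq_one_left hz.1
    have e : z * g * z⁻¹ * g⁻¹ = z * (g * z * g⁻¹) := by
      rw [hzi]
      group
    rwa [e] at h3
  obtain ⟨e, he⟩ := (IsPGroup.iff_orderOf.1 hMp) ⟨_, hy⟩
  rw [Subgroup.orderOf_mk] at he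
  have h5 := hz.2.2 g
  rw [he] at h5
  have he0 : e = 0 := by
    by_contra hne
    have : Even (2 ^ e) := Nat.even_pow.2 ⟨even_two, hne⟩
    exact (Nat.not_even_iff_odd.2 h5) this
  rw [he0, pow_zero] at he
  have h7 : z * (g * z * g⁻¹) = 1 := orderOf_eq_one_iff.1 he
  have h8 : g * z * g⁻¹ = z⁻¹ := eq_inv_of_mul_eq_one_right h7
  rw [h8, mul_inv_cancel, inv_mul_cancel]

/-- **Glauberman's `Z*`-theorem.** -/
theorem zstar_aux (n : ℕ) : ∀ (G : Type u) [Group G] [Finite G], Nat.card G = n → ZS G := by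
  induction n using Nat.strong_induction_on with
  | _ n ih =>
    intro G _ _ hn z hz
    classical
    have IH : ∀ (H : Type u) [Group H] [Finite H], Nat.card H < Nat.card G → ZS H := fun H _ _ hH =>
      ih _ (hn ▸ hH) H rfl
    by_cases hO : ∃ K : Subgroup G, K.Normal ∧ Odd (Nat.card K) ∧ K ≠ ⊥
    · obtain ⟨K, hKn, hKo, hK⟩ := hO
      exact of_quotient IH K hKo hK hz
    push Not at hO
    have hO' : ∀ K : Subgroup G, K.Normal → Odd (Nat.card K) → K = ⊥ := hO
    suffices hcen : ∀ g : G, g * z * g⁻¹ = z by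
      refine ⟨⊥, inferInstance, by simp, fun g => ?_⟩
      rw [Subgroup.mem_bot]
      have := hcen g
      have hzi : z⁻¹ = z := inv_eq_of_mul_eq_one_left hz.1
      have h2 : g * z⁻¹ * g⁻¹ = z⁻¹ := by rw [hzi]; exact this
      calc z * g * z⁻¹ * g⁻¹ = z * (g * z⁻¹ * g⁻¹) := by group
        _ = 1 := by rw [h2, mul_inv_cancel]
    intro g
    by_cases htop : Subgroup.normalClosure ({z} : Set G) = ⊤
    swap
    · exact central_of_closure IH hO' hz htop g
    by_cases hZ : ∀ c : G, c * c = 1 → c ≠ 1 → Subgroup.centralizer ({c} : Set G) ≠ ⊤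
    swap
    · push Not at hZ
      obtain ⟨c, hcc, hc1, hc⟩ := hZ
      refine central_of_central_invol IH hO' hz (c := c) (fun a => ?_) hcc hc1 g
      have : a ∈ Subgroup.centralizer ({c} : Set G) := by rw [hc]; exact Subgroup.mem_top a
      exact Subgroup.mem_centralizer_singleton_iff.1 this
    have hz2 : orderOf z = 2 := orderOf_eq_prime (by rw [pow_two]; exact hz.1) hz.2.1
    by_cases ht : ∃ t : G, t * z = z * t ∧ t * t = 1 ∧ t ≠ 1 ∧ t ≠ z
    · obtain ⟨t, h1, h2, h3, h4⟩ := ht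
      exact (main_contra IH hZ htop hz h1 h2 h3 h4).elim
    · push Not at ht
      have hU : Cfsg.Agent.Lib.ZsCore.UInv z := by
        refine ⟨hz2, fun x hx hxo => ?_⟩
        have hxx : x * x = 1 := by
          have := pow_orderOf_eq_one x
          rwa [hxo, pow_two] at this
        have hx1 : x ≠ 1 := by
          intro e
          rw [e, orderOf_one] at hxo
          omega
        exact ht x hx hxx hx1
      obtain ⟨N, hNn, hNo, hN⟩ := Cfsg.Agent.Lib.ZsMain.zstar_uinv hU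
      have hb := hO' N hNn hNo
      have h3 := hN g⁻¹
      rw [hb, Subgroup.mem_bot] at h3
      have hzi : z⁻¹ = z := inv_eq_of_mul_eq_one_left hz.1
      rw [hzi, inv_inv] at h3
      have h4 : z * (g⁻¹ * z * g) = 1 := by rw [← h3]; group
      have h5 : g⁻¹ * z * g = z := by
        have : g⁻¹ * z * g = z⁻¹ := eq_inv_of_mul_eq_one_right h4
        rw [this, hzi]
      calc g * z * g⁻¹ = g * (g⁻¹ * z * g) * g⁻¹ := by rw [h5]
        _ = z := by group

theorem zstar {G : Type u} [Group G] [Finite G] (z : G) (hz : Iso z) :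
    ∃ N : Subgroup G, N.Normal ∧ Odd (Nat.card N) ∧ ∀ g : G, z * g * z⁻¹ * g⁻¹ ∈ N :=
  zstar_aux _ G rfl z hz

end reductions

end Cfsg.Agent.Lib.ZStar
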