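import Mathlib
import Cfsg.Prelude
import Cfsg.Agent.Lib.ZStar
import Cfsg.Agent.Lib.ConjFamily
import Cfsg.Agent.Lib.TameInter

set_option autoImplicit false
set_option linter.all false

namespace Cfsg.Agent.Lib.ThreeInv

open Cfsg.Agent.Lib.ConjFamily

variable {G : Type*} [Group G]

theorem four_le {α : Type*} [Finite α] (a b c d : α) (hab : a ≠ b) (hac : a ≠ c) (had : a ≠ d)
    (hbc : b ≠ c) (hbd : b ≠ d) (hcd : c ≠ d) : 4 ≤ Nat.card α := by
  classical
  haveI := Fintype.ofFinite α
  rw [Nat.card_eq_fintype_card]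
  have h : ({a, b, c, d} : Finset α).card = 4 := by
    rw [Finset.card_insert_of_notMem, Finset.card_insert_of_notMem, Finset.card_insert_of_notMem,
      Finset.card_singleton] <;> simp [*]
  rw [← h]
  exact Finset.card_le_univ _

theorem conj_of_odd {s u : G} (hss : s * s = 1) (huu : u * u = 1) (hodd : Odd (orderOf (s * u))) :
    IsConj s u := by
  obtain ⟨l, hl⟩ := hodd
  have hr : (s * u) ^ (2 * l + 1) = 1 := by rw [← hl]; exact pow_orderOf_eq_one _
  have hsi : s⁻¹ = s := inv_eq_of_mul_eq_one_left hss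
  have hui : u⁻¹ = u := inv_eq_of_mul_eq_one_left huu
  have hinv : s * (s * u) * s = (s * u)⁻¹ := by
    rw [mul_inv_rev, hsi, hui]
    calc s * (s * u) * s = (s * s) * u * s := by group
      _ = u * s := by rw [hss, one_mul]
  have h1 := Cfsg.Agent.Lib.ZStar.dih_conj hss hinv hr
  rw [isConj_iff]
  refine ⟨(s * u) ^ l, ?_⟩
  rw [h1, mul_inv_rev, hsi, hui]
  calc u * s * s = u * (s * s) := by group
    _ = u := by rw [hss, mul_one]

/-- `x` has at most three involutions in its centralizer. -/
def Three (x : G) : Prop :=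
  ∀ y u : G, y * y = 1 → y ≠ 1 → y * x = x * y → y ≠ x → u * u = 1 → u ≠ 1 → u * x = x * u →
    u = x ∨ u = y ∨ u = x * y

theorem inv_eq_of_sq {a : G} (h : a * a = 1) : a⁻¹ = a := inv_eq_of_mul_eq_one_left h

theorem three_of_card [Finite G] {x : G} (hx : x * x = 1) (hx1 : x ≠ 1)
    (h3 : Nat.card {u : ↥(Subgroup.centralizer ({x} : Set G)) // orderOf u = 2} ≤ 3) : Three x := by
  intro y u hyy hy1 hyx hyne huu hu1 hux
  by_contra hcon
  push Not at hcon
  obtain ⟨h1, h2, h3'⟩ := hcon
  have mem : ∀ a : G, a * x = x * a → a ∈ Subgroup.centralizer ({x} : Set G) := by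
    intro a ha
    rw [Subgroup.mem_centralizer_iff]
    intro b hb
    rw [Set.mem_singleton_iff.1 hb]
    exact ha.symm
  have ord : ∀ (a : G) (ha : a * x = x * a), a * a = 1 → a ≠ 1 →
      orderOf (⟨a, mem a ha⟩ : ↥(Subgroup.centralizer ({x} : Set G))) = 2 := by
    intro a ha haa ha1
    have : orderOf (⟨a, mem a ha⟩ : ↥(Subgroup.centralizer ({x} : Set G))) = orderOf a := by
      exact Subgroup.orderOf_mk a _
    rw [this]
    exact orderOf_eq_prime (by rw [pow_two]; exact haa) ha1
  have hxy1 : x * y ≠ 1 := by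
    intro e
    apply hyne
    have : y = x⁻¹ := by exact eq_inv_of_mul_eq_one_right e
    rw [this, inv_eq_of_sq hx]
  have hxyy : (x * y) * (x * y) = 1 := by
    calc (x * y) * (x * y) = x * (y * x) * y := by group
      _ = x * (x * y) * y := by rw [hyx]
      _ = (x * x) * (y * y) := by group
      _ = 1 := by rw [hx, hyy, one_mul]
  have hxyc : (x * y) * x = x * (x * y) := by
    calc (x * y) * x = x * (y * x) := by group
      _ = x * (x * y) := by rw [hyx]
  have hle := four_le (α := {u : ↥(Subgroup.centralizer ({x} : Set G)) // orderOf u = 2})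
    ⟨⟨x, mem x rfl⟩, ord x rfl hx hx1⟩ ⟨⟨y, mem y hyx⟩, ord y hyx hyy hy1⟩
    ⟨⟨x * y, mem _ hxyc⟩, ord _ hxyc hxyy hxy1⟩ ⟨⟨u, mem u hux⟩, ord u hux huu hu1⟩
    (by
      intro e
      have := congrArg (fun v => ((v.1 : ↥(Subgroup.centralizer ({x} : Set G))) : G)) e
      exact hyne this.symm)
    (by
      intro e
      have := congrArg (fun v => ((v.1 : ↥(Subgroup.centralizer ({x} : Set G))) : G)) e
      have h' : x = x * y := this
      apply hy1
      exact (mul_eq_left.1 h'.symm))
    (by
      intro e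
      have := congrArg (fun v => ((v.1 : ↥(Subgroup.centralizer ({x} : Set G))) : G)) e
      exact h1 this.symm)
    (by
      intro e
      have := congrArg (fun v => ((v.1 : ↥(Subgroup.centralizer ({x} : Set G))) : G)) e
      have h' : y = x * y := this
      apply hx1
      exact (mul_eq_right.1 h'.symm))
    (by
      intro e
      have := congrArg (fun v => ((v.1 : ↥(Subgroup.centralizer ({x} : Set G))) : G)) e
      exact h2 this.symm)
    (by
      intro e
      have := congrArg (fun v => ((v.1 : ↥(Subgroup.centralizer ({x} : Set G))) : G)) e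
      exact h3' this.symm)
  omega

theorem Three.conj {x : G} (h : Three x) (g : G) : Three (g * x * g⁻¹) := by
  intro y u hyy hy1 hyx hyne huu hu1 hux
  have key : ∀ a : G, a * a = 1 → a ≠ 1 → a * (g * x * g⁻¹) = (g * x * g⁻¹) * a →
      (g⁻¹ * a * g) * (g⁻¹ * a * g) = 1 ∧ g⁻¹ * a * g ≠ 1 ∧ (g⁻¹ * a * g) * x = x * (g⁻¹ * a * g) := by
    intro a haa ha1 hac
    refine ⟨?_, ?_, ?_⟩
    · calc (g⁻¹ * a * g) * (g⁻¹ * a * g) = g⁻¹ * (a * a) * g := by group
        _ = 1 := by rw [haa]; group
    · intro e
      apply ha1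
      have : a = g * (g⁻¹ * a * g) * g⁻¹ := by group
      rw [this, e]; group
    · have : g⁻¹ * (a * (g * x * g⁻¹)) * g = g⁻¹ * ((g * x * g⁻¹) * a) * g := by rw [hac]
      calc (g⁻¹ * a * g) * x = g⁻¹ * (a * (g * x * g⁻¹)) * g := by group
        _ = g⁻¹ * ((g * x * g⁻¹) * a) * g := this
        _ = x * (g⁻¹ * a * g) := by group
  obtain ⟨a1, a2, a3⟩ := key y hyy hy1 hyx
  obtain ⟨b1, b2, b3⟩ := key u huu hu1 hux
  have hne : g⁻¹ * y * g ≠ x := by
    intro e
    apply hyne
    rw [← e]; group
  rcases h _ _ a1 a2 a3 hne b1 b2 b3 with e | e | e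
  · left
    rw [← e]; group
  · right; left
    have : u = g * (g⁻¹ * u * g) * g⁻¹ := by group
    rw [this, e]; group
  · right; right
    have : u = g * (g⁻¹ * u * g) * g⁻¹ := by group
    rw [this, e]; group

/-- If `x` commutes with a different conjugate `y`, then `x * y` is conjugate to `x`, or `G` has a
normal subgroup of commuting conjugates. -/
theorem all_commute [Finite G] {x y : G} (hx : x * x = 1) (hx1 : x ≠ 1) (hT : Three x) {h : G}
    (hy : y = h * x * h⁻¹) (hyx : y * x = x * y) (hne : y ≠ x) (hnc : ¬ IsConj x (x * y)) (g : G) :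
    (g * (x * y) * g⁻¹) * (x * y) = (x * y) * (g * (x * y) * g⁻¹) := by
  have hyy : y * y = 1 := by
    rw [hy]
    calc h * x * h⁻¹ * (h * x * h⁻¹) = h * (x * x) * h⁻¹ := by group
      _ = 1 := by rw [hx]; group
  have hy1 : y ≠ 1 := by
    intro e
    apply hx1
    have : x = h⁻¹ * (h * x * h⁻¹) * h := by group
    rw [this, ← hy, e]; group
  have hz2 : (x * y) * (x * y) = 1 := by
    calc (x * y) * (x * y) = x * (y * x) * y := by group
      _ = x * (x * y) * y := by rw [hyx]
      _ = (x * x) * (y * y) := by group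
      _ = 1 := by rw [hx, hyy, one_mul]
  have hz1 : x * y ≠ 1 := by
    intro e
    apply hne
    have : y = x⁻¹ := eq_inv_of_mul_eq_one_right e
    rw [this, inv_eq_of_sq hx]
  set z := x * y with hz
  set w := g * z * g⁻¹ with hw
  have hww : w * w = 1 := by
    rw [hw]
    calc g * z * g⁻¹ * (g * z * g⁻¹) = g * (z * z) * g⁻¹ := by group
      _ = 1 := by rw [hz2]; group
  have hw1 : w ≠ 1 := by
    intro e
    apply hz1
    have : z = g⁻¹ * (g * z * g⁻¹) * g := by group
    rw [this, ← hw, e]; group
  have hwz : IsConj z w := by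
    rw [isConj_iff]
    exact ⟨g, rfl⟩
  have hxw : ¬ IsConj x w := fun e => hnc (e.trans hwz.symm)
  have hyw : ¬ IsConj y w := by
    intro e
    apply hxw
    have : IsConj x y := by
      rw [isConj_iff]
      exact ⟨h, hy.symm⟩
    exact this.trans e
  -- the product `x * w` has even order
  have heven : ¬ Odd (orderOf (x * w)) := by
    intro hodd
    exact hxw (conj_of_odd hx hww hodd)
  rw [Nat.not_odd_iff_even] at heven
  obtain ⟨m, hm⟩ := even_iff_two_dvd.1 heven
  set r := x * w with hr
  have hpos : 0 < orderOf r := orderOf_pos r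
  have hm0 : 0 < m := by omega
  set c := r ^ m with hc
  have hcc : c * c = 1 := by
    rw [hc, ← pow_add, ← two_mul, ← hm]
    exact pow_orderOf_eq_one r
  have hc1 : c ≠ 1 := by
    intro e
    have := orderOf_dvd_of_pow_eq_one e
    rw [hm] at this
    have := Nat.le_of_dvd hm0 this
    omega
  -- `x` and `w` invert `r`
  have hxr : x * r * x = r⁻¹ := by
    rw [hr, mul_inv_rev, inv_eq_of_sq hx, inv_eq_of_sq hww]
    calc x * (x * w) * x = (x * x) * w * x := by group
      _ = w * x := by rw [hx, one_mul]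
  have hwr : w * r * w = r⁻¹ := by
    rw [hr, mul_inv_rev, inv_eq_of_sq hx, inv_eq_of_sq hww]
    calc w * (x * w) * w = w * x * (w * w) := by group
      _ = w * x := by rw [hww, mul_one]
  have hci : c⁻¹ = c := inv_eq_of_sq hcc
  have hxc : c * x = x * c := by
    have h1 := Cfsg.Agent.Lib.ZStar.dih_pow hx hxr m
    rw [← hc, hci] at h1
    calc c * x = (x * c * x) * x := by rw [h1]
      _ = x * c * (x * x) := by group
      _ = x * c := by rw [hx, mul_one]
  have hwc : c * w = w * c := by
    have h1 := Cfsg.Agent.Lib.ZStar.dih_pow hww hwr m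
    rw [← hc, hci] at h1
    calc c * w = (w * c * w) * w := by rw [h1]
      _ = w * c * (w * w) := by group
      _ = w * c := by rw [hww, mul_one]
  have hTy : Three y := hy ▸ hT.conj h
  -- consequence: a conjugate of `z` commuting with `x` or `y` is `z`
  have cx : w * x = x * w → w = z := by
    intro hwx
    rcases hT y w hyy hy1 hyx hne hww hw1 hwx with e | e | e
    · exact absurd (e ▸ IsConj.refl x) hxw
    · exact absurd (e ▸ IsConj.refl y) hyw
    · exact e
  have cy : w * y = y * w → w = z := by
    intro hwy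
    have hxne : x ≠ y := fun e => hne e.symm
    rcases hTy x w hx hx1 hyx.symm hxne hww hw1 hwy with e | e | e
    · exact absurd (e ▸ IsConj.refl y) hyw
    · exact absurd (e ▸ IsConj.refl x) hxw
    · rw [e, hz, hyx]
  -- the central involution `c`
  rcases hT y c hyy hy1 hyx hne hcc hc1 hxc with e | e | e
  · -- `c = x`
    have : w = z := cx (by rw [← e]; exact hwc.symm)
    rw [this]
  · have : w = z := cy (by rw [← e]; exact hwc.symm)
    rw [this]
  · rw [← hz] at e
    rw [e] at hwc
    exact hwc.symm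

/-- If all conjugates of `z` commute with `z` and `z ≠ 1`, a simple group is commutative. -/
theorem comm_of_conj_comm [IsSimpleGroup G] {z : G} (hz1 : z ≠ 1)
    (h : ∀ g : G, (g * z * g⁻¹) * z = z * (g * z * g⁻¹)) (a b : G) : a * b = b * a := by
  have hN : Subgroup.normalClosure ({z} : Set G) = ⊤ := by
    rcases (Subgroup.normalClosure_normal (s := ({z} : Set G))).eq_bot_or_eq_top with e | e
    · exfalso
      apply hz1
      have : z ∈ Subgroup.normalClosure ({z} : Set G) := Subgroup.subset_normalClosure rfl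
      rw [e] at this
      exact Subgroup.mem_bot.1 this
    · exact e
  have hle : Subgroup.normalClosure ({z} : Set G) ≤ Subgroup.centralizer ({z} : Set G) := by
    rw [Subgroup.normalClosure, Subgroup.closure_le]
    intro w hw
    obtain ⟨a', ha', hc⟩ := Group.mem_conjugatesOfSet_iff.1 hw
    rw [Set.mem_singleton_iff.1 ha'] at hc
    obtain ⟨c, rfl⟩ := isConj_iff.1 hc
    rw [SetLike.mem_coe, Subgroup.mem_centralizer_iff]
    intro b hb
    rw [Set.mem_singleton_iff.1 hb]
    exact (h c).symm
  have hzc : ∀ g : G, g * z = z * g := by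
    intro g
    have : g ∈ Subgroup.centralizer ({z} : Set G) := hle (hN ▸ Subgroup.mem_top g)
    rw [Subgroup.mem_centralizer_iff] at this
    exact (this z rfl).symm
  have hZ : Subgroup.center G = ⊤ := by
    rcases (inferInstance : (Subgroup.center G).Normal).eq_bot_or_eq_top with e | e
    · exfalso
      apply hz1
      have : z ∈ Subgroup.center G := by
        rw [Subgroup.mem_center_iff]
        exact hzc
      rw [e] at this
      exact Subgroup.mem_bot.1 this
    · exact e
  have : a ∈ Subgroup.center G := hZ ▸ Subgroup.mem_top a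
  rw [Subgroup.mem_center_iff] at this
  exact (this b).symm

end Cfsg.Agent.Lib.ThreeInv
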