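import Mathlib
import Cfsg.Prelude
import Cfsg.Agent.Lib.ThreeInv

set_option autoImplicit false
set_option linter.all false

namespace Cfsg.Agent.Lib.Dih2

variable {G : Type*} [Group G]

open Cfsg.Agent.Lib.ZStar (dih_pow dih_conj dih_conj')

/-- Even product: a central involution of the dihedral group, with `a*w` conjugate to `a` or `b`. -/
theorem exists_central_of_even [Finite G] {a b : G} (ha : a * a = 1) (hb : b * b = 1)
    (hev : Even (orderOf (a * b))) :
    ∃ w : G, w * w = 1 ∧ w ≠ 1 ∧ w * a = a * w ∧ w * b = b * w ∧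
      (IsConj a (a * w) ∨ IsConj b (a * w)) := by
  obtain ⟨k, hk⟩ := hev
  have hpos : 0 < orderOf (a * b) := orderOf_pos _
  have hk0 : 0 < k := by omega
  set r := a * b with hr
  have hai : a⁻¹ = a := inv_eq_of_mul_eq_one_left ha
  have hbi : b⁻¹ = b := inv_eq_of_mul_eq_one_left hb
  have har : a * r * a = r⁻¹ := by
    rw [hr, mul_inv_rev, hai, hbi]
    calc a * (a * b) * a = (a * a) * b * a := by group
      _ = b * a := by rw [ha, one_mul]
  have hbr : b * r * b = r⁻¹ := by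
    rw [hr, mul_inv_rev, hai, hbi]
    calc b * (a * b) * b = b * a * (b * b) := by group
      _ = b * a := by rw [hb, mul_one]
  refine ⟨r ^ k, ?_, ?_, ?_, ?_, ?_⟩
  · rw [← pow_add, ← hk]; exact pow_orderOf_eq_one _
  · intro h
    have := orderOf_dvd_of_pow_eq_one h
    have := Nat.le_of_dvd hk0 this
    omega
  all_goals
    have hw : r ^ k * r ^ k = 1 := by rw [← pow_add, ← hk]; exact pow_orderOf_eq_one _
    have hwi : (r ^ k)⁻¹ = r ^ k := inv_eq_of_mul_eq_one_left hw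
  · have h1 := dih_pow ha har k
    rw [hwi] at h1
    calc r ^ k * a = (a * a) * r ^ k * a := by rw [ha, one_mul]
      _ = a * (a * r ^ k * a) := by group
      _ = a * r ^ k := by rw [h1]
  · have h1 := dih_pow hb hbr k
    rw [hwi] at h1
    calc r ^ k * b = (b * b) * r ^ k * b := by rw [hb, one_mul]
      _ = b * (b * r ^ k * b) := by group
      _ = b * r ^ k := by rw [h1]
  · have h1 := dih_pow ha har k
    rw [hwi] at h1
    have hcomm : r ^ k * a = a * r ^ k := by
      calc r ^ k * a = (a * a) * r ^ k * a := by rw [ha, one_mul]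
        _ = a * (a * r ^ k * a) := by group
        _ = a * r ^ k := by rw [h1]
    rcases Nat.even_or_odd' k with ⟨l, hl | hl⟩
    · left
      rw [isConj_iff]
      refine ⟨r ^ l, ?_⟩
      rw [dih_conj' ha har l, ← hl, hcomm]
    · right
      rw [isConj_iff]
      -- `a * r ^ (2l+1) = b * r ^ (2l)`
      have har2 : a * r = b := by rw [hr, ← mul_assoc, ha, one_mul]
      have hbr' : b * r⁻¹ * b = (r⁻¹)⁻¹ := by
        have := dih_pow hb hbr 1
        rw [inv_inv]
        have h5 : b * r⁻¹ * b * (b * r * b) = 1 := by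
          calc b * r⁻¹ * b * (b * r * b) = b * r⁻¹ * (b * b) * r * b := by group
            _ = 1 := by rw [hb]; simp [hb]
        rw [hbr] at h5
        exact mul_inv_eq_one.mp h5
      refine ⟨(r⁻¹) ^ l, ?_⟩
      rw [dih_conj' hb hbr' l]
      have h6 : a * r ^ k = b * r ^ (2 * l) := by
        rw [hl, pow_succ', ← mul_assoc, har2]
      rw [h6]
      have h7 := dih_pow hb hbr (2 * l)
      have h8 : (r⁻¹) ^ (2 * l) * b = b * r ^ (2 * l) := by
        rw [inv_pow, ← h7]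
        calc b * r ^ (2 * l) * b * b = b * r ^ (2 * l) * (b * b) := by group
          _ = b * r ^ (2 * l) := by rw [hb, mul_one]
      exact h8

/-- Odd product: the (conjugate) involution in the dihedral group moving `a` to `b`. -/
theorem exists_swap_of_odd [Finite G] {a b : G} (ha : a * a = 1) (hb : b * b = 1)
    (hodd : Odd (orderOf (a * b))) (ha1 : a ≠ 1) :
    ∃ ρ : G, ρ * ρ = 1 ∧ ρ * a * ρ = b ∧ IsConj a ρ ∧ Odd (orderOf (a * ρ)) := by
  obtain ⟨j, hj⟩ := hodd
  set r := a * b with hr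
  have hrj : r ^ (2 * j + 1) = 1 := by rw [← hj]; exact pow_orderOf_eq_one _
  have hai : a⁻¹ = a := inv_eq_of_mul_eq_one_left ha
  have hbi : b⁻¹ = b := inv_eq_of_mul_eq_one_left hb
  have har : a * r * a = r⁻¹ := by
    rw [hr, mul_inv_rev, hai, hbi]
    calc a * (a * b) * a = (a * a) * b * a := by group
      _ = b * a := by rw [ha, one_mul]
  set q := r ^ (j + 1) with hq
  have hqq : q * q = r := by
    rw [hq, ← pow_add]
    calc r ^ (j + 1 + (j + 1)) = r ^ (2 * j + 1) * r := by rw [← pow_succ]; congr 1; ring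
      _ = r := by rw [hrj, one_mul]
  have haq : a * q * a = q⁻¹ := dih_pow ha har (j + 1)
  have hρ : (a * q) * (a * q) = 1 := by
    calc (a * q) * (a * q) = (a * q * a) * q := by group
      _ = 1 := by rw [haq]; group
  have hqo : Odd (orderOf q) := by
    have h1 : q ^ (2 * j + 1) = 1 := by
      rw [hq, ← pow_mul, mul_comm, pow_mul, hrj, one_pow]
    have h2 := orderOf_dvd_of_pow_eq_one h1
    exact Odd.of_dvd_nat ⟨j, rfl⟩ h2
  have haρ : a * (a * q) = q := by rw [← mul_assoc, ha, one_mul]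
  refine ⟨a * q, hρ, ?_, ?_, ?_⟩
  · calc a * q * a * (a * q) = (a * q) * (a * a) * q := by group
      _ = a * (q * q) := by rw [ha]; group
      _ = b := by rw [hqq, hr, ← mul_assoc, ha, one_mul]
  · refine Cfsg.Agent.Lib.ThreeInv.conj_of_odd ha hρ ?_
    rwa [haρ]
  · rwa [haρ]

/-- Uniqueness of the swapping involution. -/
theorem swap_unique [Finite G] {a b s₁ s₂ : G} (ha : a * a = 1)
    (h1 : s₁ * s₁ = 1) (h2 : s₂ * s₂ = 1) (h1b : s₁ * a * s₁ = b) (h2b : s₂ * a * s₂ = b)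
    (o1 : Odd (orderOf (a * s₁))) (o2 : Odd (orderOf (a * s₂))) : s₁ = s₂ := by
  obtain ⟨j₁, hj₁⟩ := o1
  obtain ⟨j₂, hj₂⟩ := o2
  set x₁ := a * s₁ with hx₁
  set x₂ := a * s₂ with hx₂
  have e1 : x₁ ^ (2 * j₁ + 1) = 1 := by rw [← hj₁]; exact pow_orderOf_eq_one _
  have e2 : x₂ ^ (2 * j₂ + 1) = 1 := by rw [← hj₂]; exact pow_orderOf_eq_one _
  have s1 : x₁ * x₁ = a * b := by rw [hx₁, ← h1b]; group
  have s2 : x₂ * x₂ = a * b := by rw [hx₂, ← h2b]; group
  have sq : x₁ * x₁ = x₂ * x₂ := s1.trans s2.symm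
  -- `x₁` is a power of `x₁²`, so a power of `x₂`
  have p1 : x₁ = (x₂ * x₂) ^ (j₁ + 1) := by
    rw [← sq, ← pow_two, ← pow_mul]
    calc x₁ = x₁ ^ (2 * j₁ + 1) * x₁ := by rw [e1, one_mul]
      _ = x₁ ^ (2 * (j₁ + 1)) := by rw [← pow_succ]; congr 1
  have hc : Commute x₁ x₂ := by
    rw [p1]
    exact ((Commute.refl x₂).mul_left (Commute.refl x₂)).pow_left _
  set y := x₁ * x₂⁻¹ with hy
  have hy2 : y * y = 1 := by
    have h3 : Commute x₁ x₂⁻¹ := hc.inv_right
    calc y * y = x₁ * x₂⁻¹ * (x₁ * x₂⁻¹) := rfl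
      _ = x₁ * (x₂⁻¹ * x₁) * x₂⁻¹ := by group
      _ = x₁ * (x₁ * x₂⁻¹) * x₂⁻¹ := by rw [h3.eq]
      _ = (x₁ * x₁) * (x₂ * x₂)⁻¹ := by group
      _ = 1 := by rw [sq]; group
  have hyo : y ^ (2 * j₂ + 1) = 1 := by
    have h4 : y = x₂ ^ (2 * (j₁ + 1)) * x₂⁻¹ := by
      rw [hy, p1, ← pow_two, ← pow_mul]
    have : Commute (x₂ ^ (2 * (j₁ + 1))) x₂⁻¹ := ((Commute.refl x₂).inv_right).pow_left _
    rw [h4, this.mul_pow, ← pow_mul, mul_comm (2 * (j₁ + 1)), pow_mul, e2, one_pow, one_mul,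
      inv_pow, e2, inv_one]
  have hy1 : y = 1 := by
    have h5 : y ^ (2 * j₂) = 1 := by rw [pow_mul, pow_two, hy2, one_pow]
    rw [pow_succ, h5, one_mul] at hyo
    exact hyo
  have hxx : x₁ = x₂ := by
    rw [hy, mul_inv_eq_one] at hy1
    exact hy1
  rw [hx₁, hx₂] at hxx
  exact mul_left_cancel hxx

end Cfsg.Agent.Lib.Dih2
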