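import Mathlib
import Cfsg.Agent.Lib.SchurZ
import Cfsg.Agent.Lib.CoprimeAB
import Cfsg.Agent.Lib.CoprimeGen4

set_option autoImplicit false

/-!
The dual form of Thompson's `A × B` lemma, and commutators with normalizing subgroups.
-/

namespace Cfsg.Agent.Lib.DualAB

open scoped commutatorElement

variable {G : Type*} [Group G]

theorem map_conj_of_mem {g : G} {H : Subgroup G} (hg : g ∈ Subgroup.normalizer (H : Set G)) :
    H.map (MulAut.conj g).toMonoidHom = H := by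
  ext x
  constructor
  · rintro ⟨y, hy, rfl⟩
    exact (Subgroup.mem_normalizer_iff.1 hg y).1 hy
  · intro hx
    refine ⟨g⁻¹ * x * g, ?_, by simp [mul_assoc]⟩
    apply (Subgroup.mem_normalizer_iff.1 hg _).2
    have : g * (g⁻¹ * x * g) * g⁻¹ = x := by group
    rw [this]
    exact hx

theorem mem_of_map_conj {g : G} {H : Subgroup G} (h : H.map (MulAut.conj g).toMonoidHom = H) :
    g ∈ Subgroup.normalizer (H : Set G) := by
  rw [Subgroup.mem_normalizer_iff]
  intro x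
  constructor
  · intro hx
    rw [← h]
    exact ⟨x, hx, rfl⟩
  · intro hx
    rw [← h] at hx
    obtain ⟨y, hy, e⟩ := hx
    have : y = x := by
      have e' : g * y * g⁻¹ = g * x * g⁻¹ := e
      exact mul_left_cancel (mul_right_cancel e')
    rwa [← this]

/-- the commutator of two normalized subgroups is normalized -/
theorem norm_comm {g : G} {H K : Subgroup G} (hH : g ∈ Subgroup.normalizer (H : Set G))
    (hK : g ∈ Subgroup.normalizer (K : Set G)) : g ∈ Subgroup.normalizer ((⁅H, K⁆ : Subgroup G) : Set G) := by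
  apply mem_of_map_conj
  rw [Subgroup.map_commutator, map_conj_of_mem hH, map_conj_of_mem hK]

/-- the join of two normalized subgroups is normalized -/
theorem norm_sup {g : G} {H K : Subgroup G} (hH : g ∈ Subgroup.normalizer (H : Set G))
    (hK : g ∈ Subgroup.normalizer (K : Set G)) : g ∈ Subgroup.normalizer ((H ⊔ K : Subgroup G) : Set G) := by
  apply mem_of_map_conj
  rw [Subgroup.map_sup, map_conj_of_mem hH, map_conj_of_mem hK]

theorem comm_ne_self [Finite G] {p : ℕ} [Fact p.Prime] {Q X : Subgroup G} (hQ : IsPGroup p Q) (hXQ : X ≤ Q)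
    (hX : X ≠ ⊥) : ⁅X, Q⁆ ≠ X := by
  intro h
  haveI : Group.IsNilpotent Q := hQ.isNilpotent
  obtain ⟨n, hn⟩ := (Subgroup.isNilpotent_iff_lowerCentralSeries Q).1 (inferInstance : Group.IsNilpotent Q)
  have key : ∀ k, X ≤ Q.lowerCentralSeries k := by
    intro k
    induction k with
    | zero => exact hXQ
    | succ k ih =>
      rw [Subgroup.lowerCentralSeries_succ]
      calc X = ⁅X, Q⁆ := h.symm
        _ ≤ _ := Subgroup.commutator_mono ih le_rfl
  apply hX
  have := key n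
  rw [hn] at this
  exact le_bot_iff.1 this

theorem mem_norm_of_comm {g : G} {H : Subgroup G} (h : ∀ a ∈ H, g * a = a * g) :
    g ∈ Subgroup.normalizer (H : Set G) := by
  apply mem_of_map_conj
  have h1 : ∀ a ∈ H, g * a * g⁻¹ = a := fun a ha => by rw [h a ha]; group
  ext x
  constructor
  · rintro ⟨y, hy, rfl⟩
    show g * y * g⁻¹ ∈ H
    rw [h1 y hy]; exact hy
  · intro hx
    exact ⟨x, hx, h1 x hx⟩

/-- **The dual of Thompson's `A × B` lemma.** -/
theorem dual_ab [Finite G] {p : ℕ} [Fact p.Prime] {P A B : Subgroup G} (hP : IsPGroup p P) (hB : IsPGroup p B)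
    (hAP : A ≤ Subgroup.normalizer (P : Set G)) (hBP : B ≤ Subgroup.normalizer (P : Set G))
    (hAB : ∀ a ∈ A, ∀ b ∈ B, a * b = b * a) (hA : (Nat.card A).Coprime p)
    (hfix : ∀ x ∈ P, ∀ a ∈ A, x * a * x⁻¹ * a⁻¹ ∈ (⁅P, B⁆ : Subgroup G)) :
    ∀ x ∈ P, ∀ a ∈ A, x * a = a * x := by
  have hcop : Nat.Coprime (Nat.card P) (Nat.card A) := by
    obtain ⟨n, hn⟩ := IsPGroup.iff_card.1 hP
    rw [hn]
    exact (hA.symm).pow_left n
  have hs : Group.IsSolvable P ∨ Group.IsSolvable A := by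
    left
    haveI := hP.isNilpotent
    infer_instance
  set X : Subgroup G := ⁅P, A⁆ with hX
  have hXX : ⁅X, A⁆ = X := Cfsg.Agent.Lib.SchurZ.commutator_commutator_eq hAP hcop hs
  have hXP : X ≤ P := Cfsg.Agent.Lib.SchurZ.commutator_le_of_normalizes hAP
  set Q : Subgroup G := P ⊔ B with hQdef
  have hQ : IsPGroup p Q := IsPGroup.to_sup_of_normal_left' hP hB hBP
  have hXQ : X ≤ Q := hXP.trans le_sup_left
  have hQX : Q ≤ Subgroup.normalizer (X : Set G) := by
    refine sup_le (Subgroup.normalizer_commutator_ge_left P A) ?_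
    intro b hb
    exact norm_comm (hBP hb) (mem_norm_of_comm fun a ha => (hAB a ha b hb).symm)
  set Y : Subgroup G := ⁅X, Q⁆ with hY
  have hQY : Q ≤ Subgroup.normalizer (Y : Set G) := Subgroup.normalizer_commutator_ge_right X Q
  have hYX : Y ≤ X := Cfsg.Agent.Lib.SchurZ.commutator_le_of_normalizes hQX
  have hAX : A ≤ Subgroup.normalizer (X : Set G) := Subgroup.normalizer_commutator_ge_right P A
  have hAQ : A ≤ Subgroup.normalizer (Q : Set G) := by
    intro a ha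
    exact norm_sup (hAP ha) (mem_norm_of_comm fun b hb => hAB a ha b hb)
  have hAY : A ≤ Subgroup.normalizer (Y : Set G) := fun a ha => norm_comm (hAX ha) (hAQ ha)
  let T : Subgroup G :=
    { carrier := {g | g ∈ Q ∧ ∀ a ∈ A, g * a * g⁻¹ * a⁻¹ ∈ Y}
      mul_mem' := by
        rintro g h ⟨hg, hg2⟩ ⟨hh, hh2⟩
        refine ⟨Q.mul_mem hg hh, fun a ha => ?_⟩
        have e : g * h * a * (g * h)⁻¹ * a⁻¹ = (g * (h * a * h⁻¹ * a⁻¹) * g⁻¹) * (g * a * g⁻¹ * a⁻¹) := by group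
        rw [e]
        exact Y.mul_mem ((Subgroup.mem_normalizer_iff.1 (hQY hg) _).1 (hh2 a ha)) (hg2 a ha)
      one_mem' := ⟨Q.one_mem, fun a _ => by simp [Y.one_mem]⟩
      inv_mem' := by
        rintro g ⟨hg, hg2⟩
        refine ⟨Q.inv_mem hg, fun a ha => ?_⟩
        have e : g⁻¹ * a * g⁻¹⁻¹ * a⁻¹ = g⁻¹ * (g * a * g⁻¹ * a⁻¹)⁻¹ * g⁻¹⁻¹ := by group
        rw [e]
        exact (Subgroup.mem_normalizer_iff.1 (hQY (Q.inv_mem hg)) _).1 (Y.inv_mem (hg2 a ha)) }
  have hYT : Y ≤ T := by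
    intro y hy
    refine ⟨hXQ (hYX hy), fun a ha => ?_⟩
    have e : y * a * y⁻¹ * a⁻¹ = y * (a * y⁻¹ * a⁻¹) := by group
    rw [e]
    exact Y.mul_mem hy ((Subgroup.mem_normalizer_iff.1 (hAY ha) _).1 (Y.inv_mem hy))
  have hPBT : (⁅P, B⁆ : Subgroup G) ≤ T := by
    rw [Subgroup.commutator_le]
    intro e he b hb
    obtain ⟨n, hn, hc⟩ := Cfsg.Agent.Lib.SchurZ.exists_decomp_fixed hAP hcop hs he
    set c := n * e with hcdef
    have hc1 : c ∈ P := hc.1
    have hc2 : ∀ a ∈ A, c * a = a * c := fun a ha =>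
      (Subgroup.mem_centralizer_iff.1 hc.2 a ha).symm
    have hbQ : b ∈ Q := (le_sup_right : B ≤ Q) hb
    have hcQ : c ∈ Q := (le_sup_left : P ≤ Q) hc1
    have hn' : n⁻¹ ∈ X := X.inv_mem hn
    set d := c * b * c⁻¹ * b⁻¹ with hd
    have hdQ : d ∈ Q := Q.mul_mem (Q.mul_mem (Q.mul_mem hcQ hbQ) (Q.inv_mem hcQ)) (Q.inv_mem hbQ)
    have hdT : d ∈ T := by
      refine ⟨hdQ, fun a ha => ?_⟩
      have h1 : ∀ a ∈ A, c⁻¹ * a = a * c⁻¹ := fun a ha => by
        calc c⁻¹ * a = c⁻¹ * (a * c) * c⁻¹ := by group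
          _ = c⁻¹ * (c * a) * c⁻¹ := by rw [hc2 a ha]
          _ = a * c⁻¹ := by group
      have h2 : ∀ a ∈ A, b⁻¹ * a = a * b⁻¹ := fun a ha => by
        calc b⁻¹ * a = b⁻¹ * (a * b) * b⁻¹ := by group
          _ = b⁻¹ * (b * a) * b⁻¹ := by rw [hAB a ha b hb]
          _ = a * b⁻¹ := by group
      have h3 : d * a = a * d := by
        rw [hd]
        calc c * b * c⁻¹ * b⁻¹ * a = c * b * c⁻¹ * (b⁻¹ * a) := by group
          _ = c * b * c⁻¹ * (a * b⁻¹) := by rw [h2 a ha]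
          _ = c * b * (c⁻¹ * a) * b⁻¹ := by group
          _ = c * b * (a * c⁻¹) * b⁻¹ := by rw [h1 a ha]
          _ = c * (b * a) * c⁻¹ * b⁻¹ := by group
          _ = c * (a * b) * c⁻¹ * b⁻¹ := by rw [(hAB a ha b hb).symm]
          _ = (c * a) * b * c⁻¹ * b⁻¹ := by group
          _ = (a * c) * b * c⁻¹ * b⁻¹ := by rw [hc2 a ha]
          _ = a * (c * b * c⁻¹ * b⁻¹) := by group
      rw [h3]
      simp [Y.one_mem]
    have hq1 : d⁻¹ * n⁻¹ * d⁻¹⁻¹ * n⁻¹⁻¹ ∈ Y := by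
      have : ⁅d⁻¹, n⁻¹⁆ ∈ (⁅Q, X⁆ : Subgroup G) :=
        Subgroup.commutator_mem_commutator (Q.inv_mem hdQ) hn'
      rw [Subgroup.commutator_comm] at this
      exact this
    have hq2 : n⁻¹ * b * n⁻¹⁻¹ * b⁻¹ ∈ Y := Subgroup.commutator_mem_commutator hn' hbQ
    have e1 : ⁅e, b⁆ = d * ((d⁻¹ * n⁻¹ * d⁻¹⁻¹ * n⁻¹⁻¹) * (n⁻¹ * b * n⁻¹⁻¹ * b⁻¹)) := by
      have he' : e = n⁻¹ * c := by rw [hcdef]; group
      rw [commutatorElement_def, he', hd]
      group
    rw [e1]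
    exact T.mul_mem hdT (T.mul_mem (hYT hq1) (hYT hq2))
  have hPAB : X ≤ ⁅P, B⁆ := by
    rw [hX, Subgroup.commutator_le]
    intro x hx a ha
    exact hfix x hx a ha
  have hXAY : ⁅X, A⁆ ≤ Y := by
    rw [Subgroup.commutator_le]
    intro x hx a ha
    exact (hPBT (hPAB hx)).2 a ha
  have hXbot : X = ⊥ := by
    by_contra hne
    apply comm_ne_self hQ hXQ hne
    refine le_antisymm hYX ?_
    calc X = ⁅X, A⁆ := hXX.symm
      _ ≤ Y := hXAY
  intro x hx a ha
  have h1 : ⁅x, a⁆ ∈ X := Subgroup.commutator_mem_commutator hx ha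
  rw [hXbot, Subgroup.mem_bot, commutatorElement_def] at h1
  calc x * a = (x * a * x⁻¹ * a⁻¹) * (a * x) := by group
    _ = a * x := by rw [h1, one_mul]

end Cfsg.Agent.Lib.DualAB
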