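import Cfsg.Prelude.Def_Perm
import Mathlib

set_option autoImplicit false

namespace Cfsg.Agent.Lib.ElusiveAff

theorem main (p s : ℕ) [Fact p.Prime] (hs : p = 2 ^ s - 1) (K : Type*) [Field K] [Fintype K]
    [Algebra (ZMod p) K] (hcard : Fintype.card K = p ^ 2)
    (g : Equiv.Perm K) (hg : g ∈ Cfsg.affineGroup K) (hord : (orderOf g).Prime) :
    ∃ x ∈ Cfsg.affineGroup K, ∃ a b : ZMod p, a ≠ 0 ∧
      ∀ y : K, (x * g * x⁻¹) y = algebraMap (ZMod p) K a * y + algebraMap (ZMod p) K b := by
  classical
  have hp : p.Prime := Fact.out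
  obtain ⟨a, b, hab⟩ := hg
  -- affine maps
  have haff : ∀ (u : Kˣ) (v : K), ∃ x ∈ Cfsg.affineGroup K, (∀ y, x y = (u : K) * y + v) ∧
      ∀ y, x⁻¹ y = ((u⁻¹ : Kˣ) : K) * (y - v) := by
    intro u v
    let x : Equiv.Perm K :=
      { toFun := fun y => (u : K) * y + v
        invFun := fun y => ((u⁻¹ : Kˣ) : K) * (y - v)
        left_inv := fun y => by simp
        right_inv := fun y => by simp }
    exact ⟨x, ⟨u, v, fun y => rfl⟩, fun y => rfl, fun y => rfl⟩
  have hg1 : g ≠ 1 := by
    rintro rfl
    rw [orderOf_one] at hord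
    exact Nat.not_prime_one hord
  by_cases ha1 : (a : K) = 1
  · -- translation
    have hb0 : b ≠ 0 := by
      rintro rfl
      apply hg1
      ext y
      rw [hab, ha1]
      simp
    obtain ⟨x, hx, h1, h2⟩ := haff (Units.mk0 b⁻¹ (inv_ne_zero hb0)) 0
    refine ⟨x, hx, 1, 1, one_ne_zero, fun y => ?_⟩
    simp only [Equiv.Perm.mul_apply, h1, h2, hab, ha1, map_one, Units.val_mk0, add_zero, sub_zero, one_mul]
    have : ((Units.mk0 b⁻¹ (inv_ne_zero hb0))⁻¹ : Kˣ) = Units.mk0 b hb0 := by
      ext
      simp
    rw [this, Units.val_mk0]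
    field_simp
  · -- homothety
    have h1a : (1 : K) - a ≠ 0 := sub_ne_zero.mpr (Ne.symm ha1)
    obtain ⟨x, hx, h1, h2⟩ := haff 1 (-(b / (1 - a)))
    have hconj : ∀ y, (x * g * x⁻¹) y = (a : K) * y := by
      intro y
      simp only [Equiv.Perm.mul_apply, h1, h2, hab, Units.val_one, one_mul, inv_one]
      field_simp
      ring
    -- a ^ r = 1
    set r := orderOf g with hr
    have hpow : ∀ n : ℕ, ∀ y, ((x * g * x⁻¹) ^ n) y = (a : K) ^ n * y := by
      intro n
      induction n with
      | zero => simp
      | succ n ih =>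
        intro y
        rw [pow_succ, Equiv.Perm.mul_apply, hconj, ih, pow_succ]
        ring
    have har : (a : K) ^ r = 1 := by
      have h3 : (x * g * x⁻¹) ^ r = 1 := by
        rw [conj_pow, hr, pow_orderOf_eq_one]
        group
      have h4 := hpow r 1
      rw [h3] at h4
      simpa using h4.symm
    have ha2 : (a : K) ^ (p ^ 2 - 1) = 1 := by
      rw [← hcard]
      exact FiniteField.pow_card_sub_one_eq_one (a : K) a.ne_zero
    have hord2 : orderOf (a : K) = r := by
      have h5 := orderOf_dvd_of_pow_eq_one har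
      rcases (Nat.dvd_prime hord).mp h5 with h | h
      · exact absurd (orderOf_eq_one_iff.mp h) ha1
      · exact h
    have hrdvd : r ∣ p ^ 2 - 1 := by
      rw [← hord2]
      exact orderOf_dvd_of_pow_eq_one ha2
    have hsne : s ≠ 0 := by
      rintro rfl
      simp at hs
      exact hp.ne_zero hs
    have hp1 : p + 1 = 2 ^ s := by
      have : 1 ≤ 2 ^ s := Nat.one_le_two_pow
      omega
    have hfac : p ^ 2 - 1 = (p - 1) * (p + 1) := by
      have h2p := hp.two_le
      obtain ⟨q, rfl⟩ : ∃ q, p = q + 1 := ⟨p - 1, by omega⟩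
      simp only [Nat.add_sub_cancel]
      have : (q + 1) ^ 2 = q * (q + 1 + 1) + 1 := by ring
      omega
    have hodd : Odd p := by
      have h2 : 2 ∣ 2 ^ s := dvd_pow_self 2 hsne
      rw [← hp1] at h2
      rw [Nat.odd_iff]
      omega
    have hrp : r ∣ p - 1 := by
      rw [hfac] at hrdvd
      rcases (Nat.Prime.dvd_mul hord).mp hrdvd with h | h
      · exact h
      · rw [hp1] at h
        have h3 := hord.dvd_of_dvd_pow h
        have h4 : r = 2 := (Nat.prime_dvd_prime_iff_eq hord Nat.prime_two).mp h3
        rw [h4]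
        obtain ⟨q, hq⟩ := hodd
        omega
    have hap : (a : K) ^ (p - 1) = 1 := by
      rw [← hord2] at hrp
      exact orderOf_dvd_iff_pow_eq_one.mp hrp
    have hap2 : (a : K) ^ p = a := by
      have h2p := hp.pos
      obtain ⟨q, hq⟩ : ∃ q, p = q + 1 := ⟨p - 1, by omega⟩
      rw [hq] at hap ⊢
      simp only [Nat.add_sub_cancel] at hap
      rw [pow_succ, hap, one_mul]
    -- `a` lies in the prime field
    obtain ⟨a₀, ha₀⟩ : ∃ a₀ : ZMod p, algebraMap (ZMod p) K a₀ = a := by
      by_contra hno
      push Not at hno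
      let P : Polynomial K := Polynomial.X ^ p - Polynomial.X
      have hP0 : P ≠ 0 := FiniteField.X_pow_card_sub_X_ne_zero K hp.one_lt
      have hdeg : P.natDegree = p := FiniteField.X_pow_card_sub_X_natDegree_eq K hp.one_lt
      let S : Finset K := insert (a : K) (Finset.univ.image (algebraMap (ZMod p) K))
      have hS : S.val ⊆ P.roots := by
        intro z hz
        rw [Polynomial.mem_roots hP0, Polynomial.IsRoot.def]
        simp only [P, Polynomial.eval_sub, Polynomial.eval_pow, Polynomial.eval_X]
        have hz' : z ∈ S := hz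
        rcases Finset.mem_insert.mp hz' with rfl | hz2
        · rw [hap2, sub_self]
        · obtain ⟨w, -, rfl⟩ := Finset.mem_image.mp hz2
          rw [← map_pow, ZMod.pow_card, sub_self]
      have hcardS : S.card = p + 1 := by
        rw [Finset.card_insert_of_notMem, Finset.card_image_of_injective _ (algebraMap (ZMod p) K).injective,
          Finset.card_univ, ZMod.card]
        simp only [Finset.mem_image, Finset.mem_univ, true_and, not_exists]
        exact hno
      have hle := Multiset.card_le_card (Multiset.le_iff_subset S.nodup |>.mpr hS)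
      have hle2 := Polynomial.card_roots' P
      rw [hdeg] at hle2
      have hle3 : S.card ≤ p := by
        simpa using hle.trans hle2
      omega
    refine ⟨x, hx, a₀, 0, ?_, fun y => ?_⟩
    · rintro rfl
      rw [map_zero] at ha₀
      exact a.ne_zero ha₀.symm
    · rw [hconj, ha₀]
      simp

end Cfsg.Agent.Lib.ElusiveAff
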