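import Mathlib
import Cfsg.Prelude.Def_LocalEven
import Cfsg.Prelude.Def_PLocal
import Cfsg.Agent.Lib.DicksonLite

/-! Constructing a section isomorphic to `Qd(p)` from an action of a group on `(ZMod p)²` through `SL₂(p)`. -/

set_option autoImplicit false
set_option linter.all false

namespace Cfsg.Agent.Lib.QdSection

open Matrix

universe u v w

/-- A surjective homomorphism from a subgroup. -/
def InvTo (Q : Type u) [Group Q] (G : Type v) [Group G] : Prop :=
  ∃ (K : Subgroup G) (Θ : K →* Q), Function.Surjective Θ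

theorem involves_iff {Q : Type u} [Group Q] {G : Type v} [Group G] : Cfsg.Involves Q G ↔ InvTo Q G := by
  constructor
  · rintro ⟨K, R, hn, ⟨e⟩⟩
    haveI := hn
    refine ⟨K, e.toMonoidHom.comp (QuotientGroup.mk' (R.subgroupOf K)), ?_⟩
    exact e.surjective.comp (QuotientGroup.mk'_surjective _)
  · rintro ⟨K, Θ, hΘ⟩
    have h1 : (Θ.ker.map K.subtype).subgroupOf K = Θ.ker := Subgroup.comap_map_eq_self_of_injective K.subtype_injective _
    have hn : ((Θ.ker.map K.subtype).subgroupOf K).Normal := by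
      rw [h1]
      infer_instance
    refine ⟨K, Θ.ker.map K.subtype, hn, ⟨?_⟩⟩
    exact (QuotientGroup.quotientMulEquivOfEq h1).trans (QuotientGroup.quotientKerEquivOfSurjective Θ hΘ)

theorem InvTo.of_hom {Q : Type u} [Group Q] {X : Type v} [Group X] {G : Type w} [Group G]
    (h : InvTo Q X) (K : Subgroup G) (f : K →* X) (hf : Function.Surjective f) : InvTo Q G := by
  obtain ⟨K₁, Θ, hΘ⟩ := h
  have hinj : Function.Injective K.subtype := K.subtype_injective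
  let e := (K₁.comap f).equivMapOfInjective K.subtype hinj
  refine ⟨(K₁.comap f).map K.subtype, (Θ.comp (f.subgroupComap K₁)).comp e.symm.toMonoidHom, ?_⟩
  exact (hΘ.comp (MonoidHom.subgroupComap_surjective_of_surjective f K₁ hf)).comp e.symm.surjective

theorem InvTo.of_le {Q : Type u} [Group Q] {G : Type w} [Group G] {K : Subgroup G}
    (h : InvTo Q K) : InvTo Q G :=
  h.of_hom K (MonoidHom.id _) Function.surjective_id

theorem InvTo.of_quot {Q : Type u} [Group Q] {G : Type w} [Group G] {N : Subgroup G} [N.Normal]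
    (h : InvTo Q (G ⧸ N)) : InvTo Q G :=
  h.of_hom ⊤ ((QuotientGroup.mk' N).comp (Subgroup.subtype ⊤)) (by
    intro x
    obtain ⟨y, rfl⟩ := QuotientGroup.mk'_surjective N x
    exact ⟨⟨y, trivial⟩, rfl⟩)

theorem mem_qd_iff {p : ℕ} (M : Matrix.SpecialLinearGroup (Fin 3) (ZMod p)) :
    M ∈ Cfsg.qd p ↔ M 2 0 = 0 ∧ M 2 1 = 0 ∧ M 2 2 = 1 := by
  constructor
  · intro h
    induction h using Subgroup.closure_induction with
    | mem x hx => exact hx
    | one => simp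
    | mul x y _ _ hx hy =>
      obtain ⟨x0, x1, x2⟩ := hx
      obtain ⟨y0, y1, y2⟩ := hy
      have : ∀ j, (x * y) 2 j = y 2 j := by
        intro j
        simp [Matrix.SpecialLinearGroup.coe_mul, Matrix.mul_apply, Fin.sum_univ_three, x0, x1, x2]
      rw [this, this, this]
      exact ⟨y0, y1, y2⟩
    | inv x _ hx =>
      obtain ⟨x0, x1, x2⟩ := hx
      have h1 : ∀ j, x⁻¹ 2 j = (x * x⁻¹) 2 j := by
        intro j
        simp only [Matrix.SpecialLinearGroup.coe_mul, Matrix.mul_apply, Fin.sum_univ_three, x0, x1, x2]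
        ring
      rw [h1, h1, h1, mul_inv_cancel]
      simp
  · intro h
    exact Subgroup.subset_closure h

section action

variable {L : Type u} [Group L] [Finite L] {p : ℕ} [hpp : Fact p.Prime]

/-- The central element `-1`. -/
def neg1 (p : ℕ) : Matrix.SpecialLinearGroup (Fin 2) (ZMod p) :=
  ⟨!![-1, 0; 0, -1], by simp [Matrix.det_fin_two]⟩

theorem neg1_coe : (neg1 p : Matrix (Fin 2) (Fin 2) (ZMod p)) = !![-1, 0; 0, -1] := rfl

theorem neg1_central (g : Matrix.SpecialLinearGroup (Fin 2) (ZMod p)) : g * neg1 p = neg1 p * g := by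
  apply Subtype.ext
  show (g : Matrix (Fin 2) (Fin 2) (ZMod p)) * (neg1 p : Matrix (Fin 2) (Fin 2) (ZMod p)) =
    (neg1 p : Matrix (Fin 2) (Fin 2) (ZMod p)) * (g : Matrix (Fin 2) (Fin 2) (ZMod p))
  rw [neg1_coe]
  ext i j
  fin_cases i <;> fin_cases j <;>
    simp [Matrix.mul_apply, Fin.sum_univ_two]

theorem neg1_sq : neg1 p * neg1 p = 1 := by
  apply Subtype.ext
  show (neg1 p : Matrix (Fin 2) (Fin 2) (ZMod p)) * (neg1 p : Matrix (Fin 2) (Fin 2) (ZMod p)) = 1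
  rw [neg1_coe]
  ext i j
  fin_cases i <;> fin_cases j <;>
    simp [Matrix.mul_apply, Fin.sum_univ_two]

theorem neg1_ne (hp : p ≠ 2) : neg1 p ≠ 1 := by
  intro h
  have h1 := congrFun (congrFun (congrArg Subtype.val h) 0) 0
  simp [neg1] at h1
  have h2 : (2 : ZMod p) = 0 := by linear_combination -h1
  have h3 : ((2 : ℕ) : ZMod p) = 0 := by exact_mod_cast h2
  have h4 := (ZMod.natCast_eq_zero_iff 2 p).1 h3
  exact hp ((Nat.prime_dvd_prime_iff_eq hpp.out Nat.prime_two).1 h4)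

theorem neg1_mulVec (u : Fin 2 → ZMod p) : (neg1 p : Matrix (Fin 2) (Fin 2) (ZMod p)).mulVec u = -u := by
  ext i
  fin_cases i <;> simp [neg1, Matrix.mulVec, dotProduct, Fin.sum_univ_two]

set_option maxHeartbeats 4000000 in
theorem exists_complement (hp : p ≠ 2) (ν : (Fin 2 → ZMod p) → L)
    (hadd : ∀ u v, ν (u + v) = ν u * ν v) (hinj : Function.Injective ν)
    (ρ : L →* Matrix.SpecialLinearGroup (Fin 2) (ZMod p)) (hρ : Function.Surjective ρ)
    (hact : ∀ g u, ν ((ρ g : Matrix (Fin 2) (Fin 2) (ZMod p)).mulVec u) = g * ν u * g⁻¹) :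
    ∃ N : Subgroup L, (∀ B, ∃ n ∈ N, ρ n = B) ∧ ∀ u, ν u ∈ N → u = 0 := by
  classical
  let J : Subgroup L :=
    { carrier := {g | ρ g = 1 ∨ ρ g = neg1 p}
      mul_mem' := by
        rintro a b (ha | ha) (hb | hb)
        · left; rw [map_mul, ha, hb, one_mul]
        · right; rw [map_mul, ha, hb, one_mul]
        · right; rw [map_mul, ha, hb, mul_one]
        · left; rw [map_mul, ha, hb, neg1_sq]
      one_mem' := Or.inl (map_one ρ)
      inv_mem' := by
        rintro a (ha | ha)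
        · left; rw [map_inv, ha, inv_one]
        · right; rw [map_inv, ha, inv_eq_of_mul_eq_one_left neg1_sq] }
  have hJmem : ∀ g, g ∈ J ↔ (ρ g = 1 ∨ ρ g = neg1 p) := fun g => Iff.rfl
  haveI hJn : J.Normal := by
    constructor
    intro a ha g
    rw [hJmem] at ha ⊢
    rcases ha with ha | ha
    · left; rw [map_mul, map_mul, ha, mul_one, map_inv, mul_inv_cancel]
    · right
      rw [map_mul, map_mul, ha, map_inv, neg1_central, mul_assoc, mul_inv_cancel, mul_one]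
  obtain ⟨t₀, ht₀⟩ := hρ (neg1 p)
  have ht₀J : t₀ ∈ J := Or.inr ht₀
  let J₀ : Subgroup J := (ρ.ker).subgroupOf J
  have hJ₀mem : ∀ x : J, x ∈ J₀ ↔ ρ x = 1 := fun x => Iff.rfl
  have hidx : J₀.index = 2 := by
    rw [Subgroup.index_eq_two_iff]
    refine ⟨⟨t₀, ht₀J⟩, ?_⟩
    rintro ⟨b, hb⟩
    rw [hJ₀mem, hJ₀mem]
    have e1 : ρ ((⟨b, hb⟩ * ⟨t₀, ht₀J⟩ : J) : L) = ρ b * neg1 p := by
      show ρ (b * t₀) = _
      rw [map_mul, ht₀]
    rw [e1]
    show Xor (ρ b * neg1 p = 1) (ρ b = 1)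
    rcases hb with hb | hb
    · rw [hb, one_mul]
      exact Or.inr ⟨rfl, neg1_ne hp⟩
    · rw [hb, neg1_sq]
      exact Or.inl ⟨rfl, neg1_ne hp⟩
  obtain ⟨T⟩ : Nonempty (Sylow 2 J) := inferInstance
  haveI : Fact (Nat.Prime 2) := ⟨Nat.prime_two⟩
  have hnle : ¬ (T : Subgroup J) ≤ J₀ := by
    intro hle
    have h2 : 2 ∣ (T : Subgroup J).index := by
      have := Subgroup.index_dvd_of_le hle
      rwa [hidx] at this
    exact T.not_dvd_index h2
  obtain ⟨τ, hτ, hτ2⟩ := SetLike.not_le_iff_exists.1 hnle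
  have hτρ : ρ (τ : L) = neg1 p := by
    rcases τ.2 with h | h
    · exact absurd h hτ2
    · exact h
  let T' : Subgroup L := (T : Subgroup J).map J.subtype
  have hτT' : (τ : L) ∈ T' := ⟨τ, hτ, rfl⟩
  let N : Subgroup L := Subgroup.normalizer (T' : Set L)
  have hTN : T' ≤ N := Subgroup.le_normalizer
  have hfr : N ⊔ J = ⊤ := Sylow.normalizer_sup_eq_top T
  refine ⟨N, ?_, ?_⟩
  · intro B
    obtain ⟨g, rfl⟩ := hρ B
    have hg : g ∈ N ⊔ J := by rw [hfr]; trivial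
    obtain ⟨n, hn, j, hj, rfl⟩ := Subgroup.mem_sup_of_normal_right.1 hg
    rcases hj with hj | hj
    · exact ⟨n, hn, by rw [map_mul, hj, mul_one]⟩
    · refine ⟨n * τ, N.mul_mem hn (hTN hτT'), ?_⟩
      rw [map_mul, map_mul, hτρ, hj]
  · intro u hu
    have h1 : ν u * (τ : L) * (ν u)⁻¹ ∈ T' := by
      have := (Subgroup.mem_normalizer_iff.1 hu (τ : L)).1 hτT'
      exact this
    have h2 : ν u * (τ : L) * (ν u)⁻¹ * (τ : L)⁻¹ ∈ T' := T'.mul_mem h1 (T'.inv_mem hτT')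
    have hν0 : ν 0 = 1 := by
      have := hadd 0 0
      rw [add_zero] at this
      exact (mul_eq_left.1 this.symm)
    have hνneg : ∀ v, ν (-v) = (ν v)⁻¹ := by
      intro v
      rw [eq_inv_iff_mul_eq_one, ← hadd, neg_add_cancel, hν0]
    have h3 : (τ : L) * ν u * (τ : L)⁻¹ = (ν u)⁻¹ := by
      rw [← hact, hτρ, neg1_mulVec, hνneg]
    have h4 : (τ : L) * (ν u)⁻¹ * (τ : L)⁻¹ = ν u := by
      have := congrArg (fun x => x⁻¹) h3
      simpa [mul_assoc] using this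
    have h5 : ν u * (τ : L) * (ν u)⁻¹ * (τ : L)⁻¹ = ν (u + u) := by
      rw [hadd]
      calc ν u * (τ : L) * (ν u)⁻¹ * (τ : L)⁻¹ = ν u * ((τ : L) * (ν u)⁻¹ * (τ : L)⁻¹) := by group
        _ = ν u * ν u := by rw [h4]
    rw [h5] at h2
    -- an element of a 2-group of order dividing p
    have h6 : ν (u + u) ^ p = 1 := by
      have : ∀ (n : ℕ) (v : Fin 2 → ZMod p), ν v ^ n = ν ((n : ZMod p) • v) := by
        intro n v
        induction n with
        | zero => simp [hν0]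
        | succ n ih =>
          rw [pow_succ, ih, ← hadd]
          congr 1
          push_cast
          rw [add_smul, one_smul]
      rw [this]
      simp [hν0]
    have h7 : ∃ k : ℕ, ν (u + u) ^ 2 ^ k = 1 := by
      obtain ⟨x, hx, hxe⟩ := h2
      obtain ⟨k, hk⟩ := T.isPGroup' ⟨x, hx⟩
      refine ⟨k, ?_⟩
      rw [← hxe]
      have := congrArg (fun y : ↥(T : Subgroup J) => ((y : J) : L)) hk
      simpa using this
    obtain ⟨k, hk⟩ := h7
    have h8 : ν (u + u) = 1 := by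
      have hc : Nat.Coprime p (2 ^ k) := by
        apply Nat.Coprime.pow_right
        exact (Nat.coprime_primes hpp.out Nat.prime_two).2 hp
      have h9 := orderOf_dvd_of_pow_eq_one h6
      have h10 := orderOf_dvd_of_pow_eq_one hk
      have h11 := Nat.dvd_gcd h9 h10
      rw [hc.gcd_eq_one] at h11
      exact orderOf_eq_one_iff.1 (Nat.dvd_one.1 h11)
    have h12 : u + u = 0 := by
      apply hinj
      rw [h8, hν0]
    have h2u : (2 : ZMod p) ≠ 0 := by
      intro h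
      have h3 : ((2 : ℕ) : ZMod p) = 0 := by exact_mod_cast h
      have h4 := (ZMod.natCast_eq_zero_iff 2 p).1 h3
      exact hp ((Nat.prime_dvd_prime_iff_eq hpp.out Nat.prime_two).1 h4)
    ext i
    have h13 := congrFun h12 i
    simp only [Pi.add_apply, Pi.zero_apply] at h13 ⊢
    have h14 : (2 : ZMod p) * u i = 0 := by linear_combination h13
    simpa using (mul_eq_zero.1 h14).resolve_left h2u

/-- The block matrix. -/
def blk (B : Matrix.SpecialLinearGroup (Fin 2) (ZMod p)) (u : Fin 2 → ZMod p) :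
    Matrix.SpecialLinearGroup (Fin 3) (ZMod p) :=
  ⟨!![B 0 0, B 0 1, u 0; B 1 0, B 1 1, u 1; 0, 0, 1], by
    have h := B.2
    rw [Matrix.det_fin_two] at h
    rw [Matrix.det_fin_three]
    simp
    linear_combination h⟩

theorem blk_mem (B : Matrix.SpecialLinearGroup (Fin 2) (ZMod p)) (u : Fin 2 → ZMod p) :
    blk B u ∈ Cfsg.qd p := by
  rw [mem_qd_iff]
  exact ⟨rfl, rfl, rfl⟩

theorem blk_mul (B B' : Matrix.SpecialLinearGroup (Fin 2) (ZMod p)) (u u' : Fin 2 → ZMod p) :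
    blk B u * blk B' u' = blk (B * B') (u + (B : Matrix (Fin 2) (Fin 2) (ZMod p)).mulVec u') := by
  apply Subtype.ext
  show (!![B 0 0, B 0 1, u 0; B 1 0, B 1 1, u 1; 0, 0, 1] : Matrix (Fin 3) (Fin 3) (ZMod p)) *
    !![B' 0 0, B' 0 1, u' 0; B' 1 0, B' 1 1, u' 1; 0, 0, 1] =
    !![(B * B') 0 0, (B * B') 0 1, (u + (B : Matrix (Fin 2) (Fin 2) (ZMod p)).mulVec u') 0;
      (B * B') 1 0, (B * B') 1 1, (u + (B : Matrix (Fin 2) (Fin 2) (ZMod p)).mulVec u') 1; 0, 0, 1]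
  ext i j
  fin_cases i <;> fin_cases j <;>
    simp [Matrix.mul_apply, Fin.sum_univ_three, Fin.sum_univ_two, Matrix.SpecialLinearGroup.coe_mul,
      Matrix.mulVec, dotProduct] <;> ring

theorem exists_blk (M : Matrix.SpecialLinearGroup (Fin 3) (ZMod p)) (hM : M ∈ Cfsg.qd p) :
    ∃ B u, blk B u = M := by
  obtain ⟨h0, h1, h2⟩ := (mem_qd_iff M).1 hM
  have hd := M.2
  rw [Matrix.det_fin_three, h0, h1, h2] at hd
  refine ⟨⟨!![M 0 0, M 0 1; M 1 0, M 1 1], ?_⟩, ![M 0 2, M 1 2], ?_⟩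
  · rw [Matrix.det_fin_two]
    simp
    linear_combination hd
  · apply Subtype.ext
    ext i j
    fin_cases i <;> fin_cases j <;> first | rfl | (simp [blk]; first | exact h0.symm | exact h1.symm | exact h2.symm)

set_option maxHeartbeats 4000000 in
theorem qd_of_action (hp : p ≠ 2) (ν : (Fin 2 → ZMod p) → L)
    (hadd : ∀ u v, ν (u + v) = ν u * ν v) (hinj : Function.Injective ν)
    (ρ : L →* Matrix.SpecialLinearGroup (Fin 2) (ZMod p)) (hρ : Function.Surjective ρ)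
    (hact : ∀ g u, ν ((ρ g : Matrix (Fin 2) (Fin 2) (ZMod p)).mulVec u) = g * ν u * g⁻¹) :
    InvTo ↥(Cfsg.qd p) L := by
  classical
  obtain ⟨N, hNs, hNi⟩ := exists_complement hp ν hadd hinj ρ hρ hact
  have hν0 : ν 0 = 1 := by
    have := hadd 0 0
    rw [add_zero] at this
    exact (mul_eq_left.1 this.symm)
  have hνneg : ∀ v, ν (-v) = (ν v)⁻¹ := by
    intro v
    rw [eq_inv_iff_mul_eq_one, ← hadd, neg_add_cancel, hν0]
  have hρν : ∀ v, ρ (ν v) = 1 := by
    intro v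
    have h1 : ∀ u, (ρ (ν v) : Matrix (Fin 2) (Fin 2) (ZMod p)).mulVec u = u := by
      intro u
      apply hinj
      rw [hact, ← hadd, add_comm, hadd, mul_inv_cancel_right]
    apply Subtype.ext
    apply Matrix.ext_of_mulVec_single
    intro j
    rw [h1, Matrix.SpecialLinearGroup.coe_one, Matrix.one_mulVec]
  have hdecmul : ∀ (u u' : Fin 2 → ZMod p) (n n' : L), (ν u * n) * (ν u' * n') =
      ν (u + (ρ n : Matrix (Fin 2) (Fin 2) (ZMod p)).mulVec u') * (n * n') := by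
    intro u u' n n'
    rw [hadd, hact]
    group
  let K : Subgroup L :=
    { carrier := {g | ∃ u, ∃ n ∈ N, g = ν u * n}
      mul_mem' := by
        rintro _ _ ⟨u, n, hn, rfl⟩ ⟨u', n', hn', rfl⟩
        exact ⟨_, n * n', N.mul_mem hn hn', hdecmul u u' n n'⟩
      one_mem' := ⟨0, 1, N.one_mem, by rw [hν0, mul_one]⟩
      inv_mem' := by
        rintro _ ⟨u, n, hn, rfl⟩
        refine ⟨(ρ n⁻¹ : Matrix (Fin 2) (Fin 2) (ZMod p)).mulVec (-u), n⁻¹, N.inv_mem hn, ?_⟩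
        rw [hact, hνneg]
        group }
  have hKmem : ∀ g : K, ∃ u, ∃ n ∈ N, (g : L) = ν u * n := fun g => g.2
  choose pr nn hnn hdec using hKmem
  have huniq : ∀ (u u' : Fin 2 → ZMod p) (n n' : L), n ∈ N → n' ∈ N → ν u * n = ν u' * n' → u = u' := by
    intro u u' n n' hn hn' he
    have h1 : ν (-u' + u) ∈ N := by
      have h2 : ν (-u' + u) = n' * n⁻¹ := by
        rw [hadd, hνneg]
        have h3 : ν u = ν u' * n' * n⁻¹ := by
          rw [← he]
          group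
        rw [h3]
        group
      rw [h2]
      exact N.mul_mem hn' (N.inv_mem hn)
    have h2 := hNi _ h1
    have h3 : u = u' := by
      have : -u' + u = 0 := h2
      rw [neg_add_eq_zero] at this
      exact this.symm
    exact h3
  have hρg : ∀ g : K, ρ (g : L) = ρ (nn g) := by
    intro g
    rw [hdec g, map_mul, hρν, one_mul]
  have hpr_mul : ∀ g g' : K, pr (g * g') = pr g + (ρ (g : L) : Matrix (Fin 2) (Fin 2) (ZMod p)).mulVec (pr g') := by
    intro g g'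
    have h1 : ((g * g' : K) : L) = ν (pr g + (ρ (nn g) : Matrix (Fin 2) (Fin 2) (ZMod p)).mulVec (pr g')) * (nn g * nn g') := by
      rw [← hdecmul, ← hdec g, ← hdec g']
      rfl
    have h2 := huniq _ _ _ _ (hnn (g * g')) (N.mul_mem (hnn g) (hnn g')) ((hdec (g * g')).symm.trans h1)
    rw [h2, hρg]
  let Θ : K →* ↥(Cfsg.qd p) := MonoidHom.mk' (fun g => ⟨blk (ρ (g : L)) (pr g), blk_mem _ _⟩) (by
    intro g g'
    apply Subtype.ext
    show blk (ρ ((g * g' : K) : L)) (pr (g * g')) = blk (ρ (g : L)) (pr g) * blk (ρ (g' : L)) (pr g')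
    rw [blk_mul, hpr_mul]
    congr 1
    exact map_mul ρ _ _)
  refine ⟨K, Θ, ?_⟩
  rintro ⟨M, hM⟩
  obtain ⟨B, u, rfl⟩ := exists_blk M hM
  obtain ⟨n, hn, rfl⟩ := hNs B
  refine ⟨⟨ν u * n, u, n, hn, rfl⟩, ?_⟩
  apply Subtype.ext
  show blk (ρ (ν u * n)) (pr _) = blk (ρ n) u
  have h1 := huniq _ _ _ _ (hnn ⟨ν u * n, u, n, hn, rfl⟩) hn (hdec ⟨ν u * n, u, n, hn, rfl⟩).symm
  rw [h1, map_mul, hρν, one_mul]

end action

section gen

open Cfsg.Agent.Lib.DicksonLite

variable {p : ℕ} [hpp : Fact p.Prime]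

theorem sl2_gen (H : Subgroup (Matrix.SpecialLinearGroup (Fin 2) (ZMod p)))
    (h1 : t₁ (1 : ZMod p) ∈ H) (h2 : t₂ (1 : ZMod p) ∈ H) : H = ⊤ := by
  have ht₁ : ∀ a : ZMod p, t₁ a ∈ H := by
    intro a
    have : t₁ a = t₁ (1 : ZMod p) ^ a.val := by
      rw [t₁_pow, ZMod.natCast_val, mul_one, ZMod.cast_id', id]
    rw [this]
    exact H.pow_mem h1 _
  have ht₂ : ∀ a : ZMod p, t₂ a ∈ H := by
    have hpow : ∀ (a : ZMod p) (n : ℕ), t₂ a ^ n = t₂ ((n : ZMod p) * a) := by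
      intro a n
      induction n with
      | zero => simp [t₂_zero]
      | succ n ih =>
        rw [pow_succ, ih, t₂_add]
        congr 1
        push_cast
        ring
    intro a
    have : t₂ a = t₂ (1 : ZMod p) ^ a.val := by
      rw [hpow, ZMod.natCast_val, mul_one, ZMod.cast_id', id]
    rw [this]
    exact H.pow_mem h2 _
  have hc : ∀ B : Matrix.SpecialLinearGroup (Fin 2) (ZMod p), B 1 0 ≠ 0 → B ∈ H := by
    intro B hB
    have hd := det_eq B
    have : B = t₁ ((B 0 0 - 1) / B 1 0) * t₂ (B 1 0) * t₁ ((B 1 1 - 1) / B 1 0) := by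
      apply sl_ext
      · simp [mul_00, mul_01, mul_10, mul_11]
        field_simp
        ring
      · simp [mul_00, mul_01, mul_10, mul_11]
        field_simp
        linear_combination (-1 : ZMod p) * hd
      · simp [mul_00, mul_01, mul_10, mul_11]
      · simp [mul_00, mul_01, mul_10, mul_11]
        field_simp
        ring
    rw [this]
    exact H.mul_mem (H.mul_mem (ht₁ _) (ht₂ _)) (ht₁ _)
  rw [eq_top_iff]
  intro B _
  by_cases hB : B 1 0 = 0
  · have hd := det_eq B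
    rw [hB] at hd
    have h3 : B 0 0 ≠ 0 := by
      intro h
      rw [h] at hd
      simp at hd
    have h4 : t₂ (1 : ZMod p) * B ∈ H := by
      apply hc
      simp [mul_10, hB, h3]
    have h5 := H.mul_mem (H.inv_mem h2) h4
    rwa [inv_mul_cancel_left] at h5
  · exact hc B hB

end gen

section theoremE

open Cfsg.Agent.Lib.DicksonLite

variable {Y : Type u} [Group Y] [Finite Y] {p : ℕ} [hpp : Fact p.Prime]

set_option maxHeartbeats 4000000 in
/-- The section `Qd(p)` from two commuting elements of order `p` and two elements acting as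
transvections on them. -/
theorem qd_of_transvections (hp : p ≠ 2) (f₁ f₂ g₁ g₂ : Y) (hf₁ : f₁ ^ p = 1) (hf₂ : f₂ ^ p = 1)
    (hc : f₁ * f₂ = f₂ * f₁) (hind : ∀ a b : ℕ, f₁ ^ a * f₂ ^ b = 1 → p ∣ a ∧ p ∣ b)
    (h11 : g₁ * f₁ * g₁⁻¹ = f₁) (h12 : g₁ * f₂ * g₁⁻¹ = f₂ * f₁)
    (h21 : g₂ * f₁ * g₂⁻¹ = f₁ * f₂) (h22 : g₂ * f₂ * g₂⁻¹ = f₂) : InvTo ↥(Cfsg.qd p) Y := by
  classical
  have hcomm : Commute f₁ f₂ := hc
  let ν₀ : (Fin 2 → ZMod p) → Y := fun u => f₁ ^ (u 0).val * f₂ ^ (u 1).val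
  have hpow : ∀ {f : Y}, f ^ p = 1 → ∀ x y : ZMod p, f ^ (x + y).val = f ^ x.val * f ^ y.val := by
    intro f hf x y
    rw [ZMod.val_add, ← pow_add]
    exact (pow_eq_pow_mod _ hf).symm
  have hadd : ∀ u v, ν₀ (u + v) = ν₀ u * ν₀ v := by
    intro u v
    show f₁ ^ (u 0 + v 0).val * f₂ ^ (u 1 + v 1).val = f₁ ^ (u 0).val * f₂ ^ (u 1).val * (f₁ ^ (v 0).val * f₂ ^ (v 1).val)
    rw [hpow hf₁, hpow hf₂]
    have := (hcomm.pow_pow (v 0).val (u 1).val).eq
    calc f₁ ^ (u 0).val * f₁ ^ (v 0).val * (f₂ ^ (u 1).val * f₂ ^ (v 1).val)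
        = f₁ ^ (u 0).val * (f₁ ^ (v 0).val * f₂ ^ (u 1).val) * f₂ ^ (v 1).val := by group
      _ = f₁ ^ (u 0).val * (f₂ ^ (u 1).val * f₁ ^ (v 0).val) * f₂ ^ (v 1).val := by rw [this]
      _ = _ := by group
  have hν0 : ν₀ 0 = 1 := by
    have := hadd 0 0
    rw [add_zero] at this
    exact (mul_eq_left.1 this.symm)
  have hνneg : ∀ v, ν₀ (-v) = (ν₀ v)⁻¹ := by
    intro v
    rw [eq_inv_iff_mul_eq_one, ← hadd, neg_add_cancel, hν0]
  have hinj : Function.Injective ν₀ := by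
    intro u v h
    have h1 : ν₀ (-v + u) = 1 := by
      rw [hadd, hνneg, h, inv_mul_cancel]
    obtain ⟨h2, h3⟩ := hind _ _ h1
    have hz : ∀ x : ZMod p, p ∣ x.val → x = 0 := by
      intro x hx
      rw [← ZMod.natCast_zmod_val x]
      exact (ZMod.natCast_eq_zero_iff _ _).2 hx
    have h4 := hz _ h2
    have h5 := hz _ h3
    have : -v + u = 0 := by
      ext i
      fin_cases i
      · exact h4
      · exact h5
    rw [neg_add_eq_zero] at this
    exact this.symm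
  have hνcomm : ∀ u v, ν₀ u * ν₀ v = ν₀ v * ν₀ u := by
    intro u v
    rw [← hadd, add_comm, hadd]
  -- the group acting through `SL₂`
  let L : Subgroup Y :=
    { carrier := {g | ∃ M : Matrix.SpecialLinearGroup (Fin 2) (ZMod p), ∀ u,
        ν₀ ((M : Matrix (Fin 2) (Fin 2) (ZMod p)).mulVec u) = g * ν₀ u * g⁻¹}
      mul_mem' := by
        rintro a b ⟨M, hM⟩ ⟨M', hM'⟩
        refine ⟨M * M', fun u => ?_⟩
        rw [Matrix.SpecialLinearGroup.coe_mul, ← Matrix.mulVec_mulVec, hM, hM']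
        group
      one_mem' := ⟨1, fun u => by simp⟩
      inv_mem' := by
        rintro a ⟨M, hM⟩
        refine ⟨M⁻¹, fun u => ?_⟩
        have h1 := hM (((M⁻¹ : Matrix.SpecialLinearGroup (Fin 2) (ZMod p)) : Matrix (Fin 2) (Fin 2) (ZMod p)).mulVec u)
        rw [Matrix.mulVec_mulVec, ← Matrix.SpecialLinearGroup.coe_mul, mul_inv_cancel,
          Matrix.SpecialLinearGroup.coe_one, Matrix.one_mulVec] at h1
        rw [h1]
        group }
  have hLmem : ∀ g : L, ∃ M : Matrix.SpecialLinearGroup (Fin 2) (ZMod p), ∀ u,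
      ν₀ ((M : Matrix (Fin 2) (Fin 2) (ZMod p)).mulVec u) = (g : Y) * ν₀ u * (g : Y)⁻¹ := fun g => g.2
  choose ρf hρf using hLmem
  have huni : ∀ (g : Y) (M M' : Matrix.SpecialLinearGroup (Fin 2) (ZMod p)),
      (∀ u, ν₀ ((M : Matrix (Fin 2) (Fin 2) (ZMod p)).mulVec u) = g * ν₀ u * g⁻¹) →
      (∀ u, ν₀ ((M' : Matrix (Fin 2) (Fin 2) (ZMod p)).mulVec u) = g * ν₀ u * g⁻¹) → M = M' := by
    intro g M M' h1 h2
    apply Subtype.ext
    apply Matrix.ext_iff_mulVec.2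
    intro u
    apply hinj
    rw [h1, h2]
  let ρ : L →* Matrix.SpecialLinearGroup (Fin 2) (ZMod p) := MonoidHom.mk' ρf (by
    intro a b
    apply huni ((a : Y) * (b : Y)) _ _ (hρf (a * b))
    intro u
    rw [Matrix.SpecialLinearGroup.coe_mul, ← Matrix.mulVec_mulVec, hρf, hρf]
    group)
  have hρmem : ∀ (g : L) (M : Matrix.SpecialLinearGroup (Fin 2) (ZMod p)),
      (∀ u, ν₀ ((M : Matrix (Fin 2) (Fin 2) (ZMod p)).mulVec u) = (g : Y) * ν₀ u * (g : Y)⁻¹) → ρ g = M :=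
    fun g M h => huni (g : Y) _ _ (hρf g) h
  -- the first transvection
  have hg₁ : ∀ u, ν₀ ((t₁ (1 : ZMod p) : Matrix (Fin 2) (Fin 2) (ZMod p)).mulVec u) = g₁ * ν₀ u * g₁⁻¹ := by
    intro u
    have e0 : (t₁ (1 : ZMod p) : Matrix (Fin 2) (Fin 2) (ZMod p)).mulVec u 0 = u 0 + u 1 := by
      simp [Matrix.mulVec, dotProduct, Fin.sum_univ_two]
    have e1 : (t₁ (1 : ZMod p) : Matrix (Fin 2) (Fin 2) (ZMod p)).mulVec u 1 = u 1 := by
      simp [Matrix.mulVec, dotProduct, Fin.sum_univ_two]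
    show f₁ ^ _ * f₂ ^ _ = g₁ * (f₁ ^ (u 0).val * f₂ ^ (u 1).val) * g₁⁻¹
    rw [e0, e1, hpow hf₁]
    have e2 : g₁ * (f₁ ^ (u 0).val * f₂ ^ (u 1).val) * g₁⁻¹ =
        (g₁ * f₁ * g₁⁻¹) ^ (u 0).val * (g₁ * f₂ * g₁⁻¹) ^ (u 1).val := by
      rw [conj_pow, conj_pow]
      group
    rw [e2, h11, h12, (hcomm.symm.mul_pow _ : (f₂ * f₁) ^ (u 1).val = _)]
    have := (hcomm.pow_pow (u 1).val (u 1).val).eq
    rw [← this, mul_assoc]
  have hg₂ : ∀ u, ν₀ ((t₂ (1 : ZMod p) : Matrix (Fin 2) (Fin 2) (ZMod p)).mulVec u) = g₂ * ν₀ u * g₂⁻¹ := by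
    intro u
    have e0 : (t₂ (1 : ZMod p) : Matrix (Fin 2) (Fin 2) (ZMod p)).mulVec u 0 = u 0 := by
      simp [Matrix.mulVec, dotProduct, Fin.sum_univ_two]
    have e1 : (t₂ (1 : ZMod p) : Matrix (Fin 2) (Fin 2) (ZMod p)).mulVec u 1 = u 0 + u 1 := by
      simp [Matrix.mulVec, dotProduct, Fin.sum_univ_two]
    show f₁ ^ _ * f₂ ^ _ = g₂ * (f₁ ^ (u 0).val * f₂ ^ (u 1).val) * g₂⁻¹
    rw [e0, e1, hpow hf₂]
    have e2 : g₂ * (f₁ ^ (u 0).val * f₂ ^ (u 1).val) * g₂⁻¹ =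
        (g₂ * f₁ * g₂⁻¹) ^ (u 0).val * (g₂ * f₂ * g₂⁻¹) ^ (u 1).val := by
      rw [conj_pow, conj_pow]
      group
    rw [e2, h21, h22, (hcomm.mul_pow _ : (f₁ * f₂) ^ (u 0).val = _)]
    group
  have hg₁L : g₁ ∈ L := ⟨_, hg₁⟩
  have hg₂L : g₂ ∈ L := ⟨_, hg₂⟩
  have hρsurj : Function.Surjective ρ := by
    have h1 := sl2_gen ρ.range ⟨⟨g₁, hg₁L⟩, hρmem _ _ hg₁⟩ ⟨⟨g₂, hg₂L⟩, hρmem _ _ hg₂⟩
    exact MonoidHom.range_eq_top.1 h1
  let ν : (Fin 2 → ZMod p) → L := fun u => ⟨ν₀ u, 1, fun v => by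
    rw [Matrix.SpecialLinearGroup.coe_one, Matrix.one_mulVec, hνcomm]
    group⟩
  have hνadd : ∀ u v, ν (u + v) = ν u * ν v := fun u v => Subtype.ext (hadd u v)
  have hνinj : Function.Injective ν := fun u v h => hinj (congrArg Subtype.val h)
  have hact : ∀ g u, ν ((ρ g : Matrix (Fin 2) (Fin 2) (ZMod p)).mulVec u) = g * ν u * g⁻¹ :=
    fun g u => Subtype.ext (hρf g u)
  exact (qd_of_action hp ν hνadd hνinj ρ hρsurj hact).of_le

end theoremE

end Cfsg.Agent.Lib.QdSection
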