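/-
Subgroups of `GL(2,p)` without normal `p`-subgroups, but with `p`-elements, contain `SL(2,p)`.
-/
import Mathlib
import Cfsg.Agent.Lib.QdSection

set_option autoImplicit false
set_option linter.all false

open Matrix
open Cfsg.Agent.Lib.DicksonLite Cfsg.Agent.Lib.QdSection

namespace Cfsg.Agent.Lib.SL2Sub

variable {p : ℕ} [hpp : Fact p.Prime]

abbrev GL2 (p : ℕ) := Matrix.GeneralLinearGroup (Fin 2) (ZMod p)

/-- The matrix of an element. -/
abbrev mt (g : GL2 p) : Matrix (Fin 2) (Fin 2) (ZMod p) := (g : Matrix (Fin 2) (Fin 2) (ZMod p))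

theorem det_one_of_pow {g : GL2 p} (h : g ^ p = 1) : (mt g).det = 1 := by
  have h1 : (mt (g ^ p)).det = 1 := by
    rw [h]
    simp [mt]
  rw [mt, Units.val_pow_eq_pow_val, Matrix.det_pow, ZMod.pow_card] at h1
  exact h1

theorem exists_fixed {g : GL2 p} (h : g ^ p = 1) :
    ∃ e : Fin 2 → ZMod p, e ≠ 0 ∧ mt g *ᵥ e = e := by
  set N : Matrix (Fin 2) (Fin 2) (ZMod p) := mt g - 1 with hN
  have h1 : N ^ p = 0 := by
    rw [hN, sub_pow_char_of_commute p (Commute.one_right _), one_pow, mt, ← Units.val_pow_eq_pow_val, h]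
    simp
  have h2 : N.det = 0 := by
    have h3 := congrArg Matrix.det h1
    rw [Matrix.det_pow, Matrix.det_zero] at h3
    exact (pow_eq_zero_iff hpp.out.ne_zero).1 h3
  obtain ⟨e, he, hNe⟩ := Matrix.exists_mulVec_eq_zero_iff.2 h2
  refine ⟨e, he, ?_⟩
  have h3 : mt g *ᵥ e = N *ᵥ e + e := by
    rw [hN, Matrix.sub_mulVec, Matrix.one_mulVec]
    abel
  rw [h3, hNe, zero_add]

theorem pow_of_fix {g : GL2 p} {e : Fin 2 → ZMod p} (he : e ≠ 0) (hg : mt g *ᵥ e = e)
    (hd : (mt g).det = 1) : g ^ p = 1 := by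
  set N : Matrix (Fin 2) (Fin 2) (ZMod p) := mt g - 1 with hN
  have hNe : N *ᵥ e = 0 := by
    rw [hN, Matrix.sub_mulVec, Matrix.one_mulVec, hg, sub_self]
  have hdN : N.det = 0 := Matrix.exists_mulVec_eq_zero_iff.1 ⟨e, he, hNe⟩
  have h00 : N 0 0 = mt g 0 0 - 1 := by simp [hN]
  have h01 : N 0 1 = mt g 0 1 := by simp [hN]
  have h10 : N 1 0 = mt g 1 0 := by simp [hN]
  have h11 : N 1 1 = mt g 1 1 - 1 := by simp [hN]
  rw [Matrix.det_fin_two] at hd hdN
  rw [h00, h01, h10, h11] at hdN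
  have hN2 : N * N = 0 := by
    have hall : ∀ i j, (N * N) i j = 0 := by
      rw [Fin.forall_fin_two]
      constructor <;> rw [Fin.forall_fin_two] <;> constructor
      · rw [Matrix.mul_apply, Fin.sum_univ_two, h00, h01, h10]
        linear_combination (mt g 0 0 - 1) * hd - mt g 0 0 * hdN
      · rw [Matrix.mul_apply, Fin.sum_univ_two, h00, h01, h11]
        linear_combination (mt g 0 1) * (hd - hdN)
      · rw [Matrix.mul_apply, Fin.sum_univ_two, h00, h10, h11]
        linear_combination (mt g 1 0) * (hd - hdN)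
      · rw [Matrix.mul_apply, Fin.sum_univ_two, h01, h10, h11]
        linear_combination (mt g 1 1 - 1) * hd - mt g 1 1 * hdN
    ext i j
    rw [hall i j]
    rfl
  have hNp : N ^ p = 0 := pow_eq_zero_of_le hpp.out.two_le (by rw [pow_two]; exact hN2)
  apply Units.ext
  have e1 : mt g = 1 + N := by rw [hN]; abel
  rw [Units.val_pow_eq_pow_val]
  show mt g ^ p = _
  rw [e1, add_pow_char_of_commute p (Commute.one_left N), one_pow, hNp, add_zero]
  rfl

/-- Fixing a vector and of determinant one. -/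
def stabE (e : Fin 2 → ZMod p) : Subgroup (GL2 p) where
  carrier := {g | mt g *ᵥ e = e ∧ (mt g).det = 1}
  mul_mem' := by
    rintro a b ⟨ha, ha'⟩ ⟨hb, hb'⟩
    constructor
    · show (mt a * mt b) *ᵥ e = e
      rw [← Matrix.mulVec_mulVec, hb, ha]
    · show (mt a * mt b).det = 1
      rw [Matrix.det_mul, ha', hb', one_mul]
  one_mem' := by
    constructor
    · show (1 : Matrix (Fin 2) (Fin 2) (ZMod p)) *ᵥ e = e
      rw [Matrix.one_mulVec]
    · show (1 : Matrix (Fin 2) (Fin 2) (ZMod p)).det = 1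
      rw [Matrix.det_one]
  inv_mem' := by
    rintro a ⟨ha, ha'⟩
    have h1 : mt a⁻¹ * mt a = 1 := by
      show ((a⁻¹ * a : GL2 p) : Matrix (Fin 2) (Fin 2) (ZMod p)) = 1
      rw [inv_mul_cancel]
      rfl
    constructor
    · calc mt a⁻¹ *ᵥ e = mt a⁻¹ *ᵥ (mt a *ᵥ e) := by rw [ha]
        _ = e := by rw [Matrix.mulVec_mulVec, h1, Matrix.one_mulVec]
    · have h2 := congrArg Matrix.det h1
      rw [Matrix.det_mul, ha', mul_one, Matrix.det_one] at h2
      exact h2

theorem conj_det (P z : GL2 p) : (mt (P⁻¹ * z * P)).det = (mt z).det := by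
  have h1 : (mt P⁻¹).det * (mt P).det = 1 := by
    rw [← Matrix.det_mul]
    have : mt P⁻¹ * mt P = 1 := by
      show ((P⁻¹ * P : GL2 p) : Matrix (Fin 2) (Fin 2) (ZMod p)) = 1
      rw [inv_mul_cancel]
      rfl
    rw [this, Matrix.det_one]
  have h2 : mt (P⁻¹ * z * P) = mt P⁻¹ * mt z * mt P := rfl
  rw [h2, Matrix.det_mul, Matrix.det_mul]
  linear_combination (mt z).det * h1

theorem upper_of_fix {z : GL2 p} (h : mt z *ᵥ ![1, 0] = ![1, 0]) (hd : (mt z).det = 1) :
    z = Matrix.SpecialLinearGroup.toGL (t₁ (mt z 0 1)) := by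
  have h0 := congrFun h 0
  have h1 := congrFun h 1
  simp [Matrix.mulVec, dotProduct, Fin.sum_univ_two] at h0 h1
  rw [Matrix.det_fin_two, h0, h1] at hd
  have h3 : mt z 1 1 = 1 := by simpa using hd
  apply Units.ext
  ext i j
  revert i j
  rw [Fin.forall_fin_two]
  constructor <;> rw [Fin.forall_fin_two] <;> constructor
  · exact h0
  · rfl
  · exact h1
  · exact h3

theorem lower_of_fix {z : GL2 p} (h : mt z *ᵥ ![0, 1] = ![0, 1]) (hd : (mt z).det = 1) :
    z = Matrix.SpecialLinearGroup.toGL (t₂ (mt z 1 0)) := by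
  have h0 := congrFun h 0
  have h1 := congrFun h 1
  simp [Matrix.mulVec, dotProduct, Fin.sum_univ_two] at h0 h1
  rw [Matrix.det_fin_two, h0, h1] at hd
  have h3 : mt z 0 0 = 1 := by simpa using hd
  apply Units.ext
  ext i j
  revert i j
  rw [Fin.forall_fin_two]
  constructor <;> rw [Fin.forall_fin_two] <;> constructor
  · exact h3
  · exact h0
  · rfl
  · exact h1

theorem t₂_pow' (a : ZMod p) (n : ℕ) : t₂ a ^ n = t₂ ((n : ZMod p) * a) := by
  induction n with
  | zero => simp [t₂_zero]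
  | succ n ih =>
    rw [pow_succ, ih, t₂_add]
    congr 1
    push_cast
    ring

theorem sl2_le (A' : Subgroup (GL2 p))
    (hcore : ∀ N : Subgroup (GL2 p), N ≤ A' → (∀ a ∈ A', ∀ n ∈ N, a * n * a⁻¹ ∈ N) →
      (∀ n ∈ N, n ^ p = 1) → N = ⊥)
    {x : GL2 p} (hxA : x ∈ A') (hxp : x ^ p = 1) (hx1 : x ≠ 1)
    (g : Matrix.SpecialLinearGroup (Fin 2) (ZMod p)) :
    Matrix.SpecialLinearGroup.toGL g ∈ A' := by
  classical
  obtain ⟨e₁, he₁, hxe⟩ := exists_fixed hxp
  have hy : ∃ y ∈ A', y ^ p = 1 ∧ mt y *ᵥ e₁ ≠ e₁ := by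
    by_contra hcon
    have hfix : ∀ y ∈ A', y ^ p = 1 → mt y *ᵥ e₁ = e₁ := by
      intro y hy hyp
      by_contra h
      exact hcon ⟨y, hy, hyp, h⟩
    let T : Set (GL2 p) := {y | y ∈ A' ∧ y ^ p = 1}
    have hNle : Subgroup.closure T ≤ A' := (Subgroup.closure_le _).2 fun y hy => hy.1
    have hNst : Subgroup.closure T ≤ stabE e₁ := (Subgroup.closure_le _).2 fun y hy =>
      ⟨hfix y hy.1 hy.2, det_one_of_pow hy.2⟩
    have hN := hcore (Subgroup.closure T) hNle ?_ ?_
    · have hxN : x ∈ Subgroup.closure T := Subgroup.subset_closure ⟨hxA, hxp⟩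
      rw [hN] at hxN
      exact hx1 (Subgroup.mem_bot.1 hxN)
    · intro a ha n hn
      induction hn using Subgroup.closure_induction with
      | mem y hy =>
        refine Subgroup.subset_closure ⟨A'.mul_mem (A'.mul_mem ha hy.1) (A'.inv_mem ha), ?_⟩
        rw [conj_pow, hy.2, mul_one, mul_inv_cancel]
      | one => simp [Subgroup.one_mem]
      | mul u v _ _ hu hv =>
        have e : a * (u * v) * a⁻¹ = (a * u * a⁻¹) * (a * v * a⁻¹) := by group
        rw [e]
        exact Subgroup.mul_mem _ hu hv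
      | inv u _ hu =>
        have e : a * u⁻¹ * a⁻¹ = (a * u * a⁻¹)⁻¹ := by group
        rw [e]
        exact Subgroup.inv_mem _ hu
    · intro n hn
      have := hNst hn
      exact pow_of_fix he₁ this.1 this.2
  obtain ⟨y, hyA, hyp, hyne⟩ := hy
  obtain ⟨e₂, he₂, hye⟩ := exists_fixed hyp
  set P : Matrix (Fin 2) (Fin 2) (ZMod p) := !![e₁ 0, e₂ 0; e₁ 1, e₂ 1] with hP
  have hP1 : P *ᵥ ![1, 0] = e₁ := by
    funext i
    revert i
    rw [Fin.forall_fin_two]
    constructor <;> simp [hP, Matrix.mulVec, dotProduct, Fin.sum_univ_two]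
  have hP2 : P *ᵥ ![0, 1] = e₂ := by
    funext i
    revert i
    rw [Fin.forall_fin_two]
    constructor <;> simp [hP, Matrix.mulVec, dotProduct, Fin.sum_univ_two]
  have hdet : P.det ≠ 0 := by
    intro h0
    obtain ⟨v, hv, hPv⟩ := Matrix.exists_mulVec_eq_zero_iff.2 h0
    have hc : v 0 • e₁ + v 1 • e₂ = 0 := by
      rw [← hPv]
      funext i
      revert i
      rw [Fin.forall_fin_two]
      constructor <;> simp [hP, Matrix.mulVec, dotProduct, Fin.sum_univ_two] <;> ring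
    have hv1 : v 1 ≠ 0 := by
      intro h1
      rw [h1, zero_smul, add_zero] at hc
      rcases smul_eq_zero.1 hc with h2 | h2
      · apply hv
        funext i
        revert i
        rw [Fin.forall_fin_two]
        exact ⟨h2, h1⟩
      · exact he₁ h2
    have hv0 : v 0 ≠ 0 := by
      intro h1
      rw [h1, zero_smul, zero_add] at hc
      rcases smul_eq_zero.1 hc with h2 | h2
      · exact hv1 h2
      · exact he₂ h2
    apply hyne
    have h3 : e₁ = (-(v 1 / v 0)) • e₂ := by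
      have h4 : v 0 • e₁ = (-(v 1)) • e₂ := by
        rw [neg_smul]
        exact eq_neg_of_add_eq_zero_left hc
      calc e₁ = (v 0)⁻¹ • (v 0 • e₁) := by
            rw [smul_smul, inv_mul_cancel₀ hv0, one_smul]
        _ = _ := by
            rw [h4, smul_smul]
            congr 1
            field_simp
    rw [h3, Matrix.mulVec_smul, hye]
  let Pg : GL2 p := Matrix.GeneralLinearGroup.mkOfDetNeZero P hdet
  have hPg : mt Pg = P := rfl
  have hPinv : mt Pg⁻¹ * P = 1 := by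
    show ((Pg⁻¹ * Pg : GL2 p) : Matrix (Fin 2) (Fin 2) (ZMod p)) = 1
    rw [inv_mul_cancel]
    rfl
  -- the conjugates
  have hX : mt (Pg⁻¹ * x * Pg) *ᵥ ![1, 0] = ![1, 0] := by
    have e : mt (Pg⁻¹ * x * Pg) = mt Pg⁻¹ * mt x * P := rfl
    rw [e, ← Matrix.mulVec_mulVec, hP1, ← Matrix.mulVec_mulVec, hxe, ← hP1, Matrix.mulVec_mulVec, hPinv,
      Matrix.one_mulVec]
  have hY : mt (Pg⁻¹ * y * Pg) *ᵥ ![0, 1] = ![0, 1] := by
    have e : mt (Pg⁻¹ * y * Pg) = mt Pg⁻¹ * mt y * P := rfl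
    rw [e, ← Matrix.mulVec_mulVec, hP2, ← Matrix.mulVec_mulVec, hye, ← hP2, Matrix.mulVec_mulVec, hPinv,
      Matrix.one_mulVec]
  have hXu := upper_of_fix hX (by rw [conj_det]; exact det_one_of_pow hxp)
  have hYl := lower_of_fix hY (by rw [conj_det]; exact det_one_of_pow hyp)
  set a := mt (Pg⁻¹ * x * Pg) 0 1 with ha
  set b := mt (Pg⁻¹ * y * Pg) 1 0 with hb
  have hane : a ≠ 0 := by
    intro h0
    rw [h0, t₁_zero, map_one] at hXu
    apply hx1
    have : x = Pg * (Pg⁻¹ * x * Pg) * Pg⁻¹ := by group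
    rw [this, hXu]
    group
  have hbne : b ≠ 0 := by
    intro h0
    rw [h0, t₂_zero, map_one] at hYl
    have hy1 : y = 1 := by
      have : y = Pg * (Pg⁻¹ * y * Pg) * Pg⁻¹ := by group
      rw [this, hYl]
      group
    apply hyne
    rw [hy1]
    show (1 : Matrix (Fin 2) (Fin 2) (ZMod p)) *ᵥ e₁ = e₁
    rw [Matrix.one_mulVec]
  let H' : Subgroup (Matrix.SpecialLinearGroup (Fin 2) (ZMod p)) :=
    A'.comap ((MulAut.conj Pg).toMonoidHom.comp Matrix.SpecialLinearGroup.toGL)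
  have hmem : ∀ k : Matrix.SpecialLinearGroup (Fin 2) (ZMod p),
      k ∈ H' ↔ Pg * Matrix.SpecialLinearGroup.toGL k * Pg⁻¹ ∈ A' := fun k => Iff.rfl
  have ht₁a : t₁ a ∈ H' := by
    rw [hmem, ← hXu]
    have : Pg * (Pg⁻¹ * x * Pg) * Pg⁻¹ = x := by group
    rw [this]
    exact hxA
  have ht₂b : t₂ b ∈ H' := by
    rw [hmem, ← hYl]
    have : Pg * (Pg⁻¹ * y * Pg) * Pg⁻¹ = y := by group
    rw [this]
    exact hyA
  have ht₁ : t₁ (1 : ZMod p) ∈ H' := by
    have e : t₁ (1 : ZMod p) = t₁ a ^ (a⁻¹).val := by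
      rw [t₁_pow, ZMod.natCast_val, ZMod.cast_id', id, inv_mul_cancel₀ hane]
    rw [e]
    exact H'.pow_mem ht₁a _
  have ht₂ : t₂ (1 : ZMod p) ∈ H' := by
    have e : t₂ (1 : ZMod p) = t₂ b ^ (b⁻¹).val := by
      rw [t₂_pow', ZMod.natCast_val, ZMod.cast_id', id, inv_mul_cancel₀ hbne]
    rw [e]
    exact H'.pow_mem ht₂b _
  have htop : H' = ⊤ := sl2_gen H' ht₁ ht₂
  -- conjugate back
  let z : GL2 p := Pg⁻¹ * Matrix.SpecialLinearGroup.toGL g * Pg
  have hzdet : (mt z).det = 1 := by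
    rw [conj_det]
    exact g.2
  let k : Matrix.SpecialLinearGroup (Fin 2) (ZMod p) := ⟨mt z, hzdet⟩
  have hk : Matrix.SpecialLinearGroup.toGL k = z := Units.ext rfl
  have h5 : k ∈ H' := by rw [htop]; trivial
  rw [hmem, hk] at h5
  have e : Pg * z * Pg⁻¹ = Matrix.SpecialLinearGroup.toGL g := by
    show Pg * (Pg⁻¹ * Matrix.SpecialLinearGroup.toGL g * Pg) * Pg⁻¹ = _
    group
  rwa [e] at h5

end Cfsg.Agent.Lib.SL2Sub
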