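/-
Automorphism groups of groups of order `p²` carrying a strongly embedded subgroup.
-/
import Mathlib
import Cfsg.Agent.Lib.SL2Sub
import Cfsg.Agent.Lib.StronglyEmbedded
import Cfsg.Agent.Lib.PCore
import Cfsg.Prelude.Def_FusionSystem

set_option autoImplicit false
set_option linter.all false

open Matrix
open Cfsg

namespace Cfsg.Agent.Lib.EssP2

open Cfsg.Agent.Lib.SL2Sub

variable {p : ℕ} [hpp : Fact p.Prime]

theorem exists_lin {V : Type*} [AddCommGroup V] [Finite V] [Module (ZMod p) V]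
    (hcard : Nat.card V = p ^ 2) : Nonempty (V ≃ₗ[ZMod p] (Fin 2 → ZMod p)) := by
  have hrank : Module.finrank (ZMod p) V = 2 := by
    have h1 := FiniteField.pow_finrank_eq_natCard p V
    rw [hcard] at h1
    exact Nat.pow_right_injective hpp.out.two_le h1
  haveI : Module.Finite (ZMod p) V := Module.Finite.of_finite
  exact ⟨(Module.finBasisOfFinrankEq (ZMod p) V hrank).equivFun⟩

theorem exists_psi {Q : Type*} [Group Q] [Finite Q] (hc : ∀ a b : Q, a * b = b * a)
    (hexp : ∀ a : Q, a ^ p = 1) (hcard : Nat.card Q = p ^ 2) :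
    ∃ ψ : Q ≃ (Fin 2 → ZMod p), ∀ x y, ψ (x * y) = ψ x + ψ y := by
  letI : CommGroup Q := { ‹Group Q› with mul_comm := hc }
  haveI : Finite (Additive Q) := inferInstanceAs (Finite Q)
  have hV : ∀ x : Additive Q, p • x = 0 := fun x => by
    change Additive.ofMul ((Additive.toMul x) ^ p) = 0
    rw [hexp]
    rfl
  letI : Module (ZMod p) (Additive Q) := AddCommGroup.zmodModule hV
  have hcard' : Nat.card (Additive Q) = p ^ 2 := hcard
  obtain ⟨e⟩ := exists_lin hcard'
  exact ⟨Additive.ofMul.trans e.toEquiv, fun x y => e.map_add (Additive.ofMul x) (Additive.ofMul y)⟩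

section Tau

variable {Q : Type*} [Group Q] (ψ : Q ≃ (Fin 2 → ZMod p)) (hψ : ∀ x y, ψ (x * y) = ψ x + ψ y)

/-- The action of matrices, carried over to the group. -/
noncomputable def tauE (g : GL2 p) : MulAut Q where
  toFun x := ψ.symm (mt g *ᵥ ψ x)
  invFun x := ψ.symm (mt g⁻¹ *ᵥ ψ x)
  left_inv x := by
    have h1 : mt g⁻¹ * mt g = 1 := by
      show ((g⁻¹ * g : GL2 p) : Matrix (Fin 2) (Fin 2) (ZMod p)) = 1
      rw [inv_mul_cancel]
      rfl
    simp only [Equiv.apply_symm_apply, Matrix.mulVec_mulVec, h1, Matrix.one_mulVec, Equiv.symm_apply_apply]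
  right_inv x := by
    have h1 : mt g * mt g⁻¹ = 1 := by
      show ((g * g⁻¹ : GL2 p) : Matrix (Fin 2) (Fin 2) (ZMod p)) = 1
      rw [mul_inv_cancel]
      rfl
    simp only [Equiv.apply_symm_apply, Matrix.mulVec_mulVec, h1, Matrix.one_mulVec, Equiv.symm_apply_apply]
  map_mul' x y := by
    apply ψ.injective
    rw [Equiv.apply_symm_apply, hψ, hψ, Matrix.mulVec_add, Equiv.apply_symm_apply, Equiv.apply_symm_apply]

include hψ in
theorem tauE_apply (g : GL2 p) (x : Q) : ψ (tauE ψ hψ g x) = mt g *ᵥ ψ x := by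
  show ψ (ψ.symm (mt g *ᵥ ψ x)) = _
  rw [Equiv.apply_symm_apply]

/-- The action as a homomorphism. -/
noncomputable def tauH : GL2 p →* MulAut Q :=
  MonoidHom.mk' (tauE ψ hψ) (fun g k => by
    apply MulEquiv.ext
    intro x
    apply ψ.injective
    rw [tauE_apply ψ hψ]
    show _ = ψ (tauE ψ hψ g (tauE ψ hψ k x))
    rw [tauE_apply ψ hψ, tauE_apply ψ hψ, Matrix.mulVec_mulVec]
    rfl)

theorem tauH_apply (g : GL2 p) (x : Q) : ψ (tauH ψ hψ g x) = mt g *ᵥ ψ x := tauE_apply ψ hψ g x

theorem tauH_inj : Function.Injective (tauH ψ hψ : GL2 p →* MulAut Q) := by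
  intro g k h
  apply Units.ext
  apply Matrix.mulVec_injective
  funext w
  have h1 : mt g *ᵥ w = mt k *ᵥ w := by
    have h2 := tauH_apply ψ hψ g (ψ.symm w)
    rw [h, tauH_apply ψ hψ, Equiv.apply_symm_apply] at h2
    exact h2.symm
  exact h1

theorem tauH_surj (α : MulAut Q) : ∃ g : GL2 p, tauH ψ hψ g = α := by
  classical
  let mk : MulAut Q → ((Fin 2 → ZMod p) →+ (Fin 2 → ZMod p)) := fun β =>
    { toFun := fun w => ψ (β (ψ.symm w))
      map_zero' := by
        have e0 : ψ (1 : Q) = 0 := by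
          have := hψ 1 1
          rw [mul_one] at this
          exact left_eq_add.1 this
        have e1 : ψ.symm 0 = 1 := by rw [← e0, Equiv.symm_apply_apply]
        rw [e1, map_one, e0]
      map_add' := fun w w' => by
        have e2 : ψ.symm (w + w') = ψ.symm w * ψ.symm w' := by
          apply ψ.injective
          rw [hψ]
          simp only [Equiv.apply_symm_apply]
        rw [e2, map_mul, hψ] }
  let lin : MulAut Q → ((Fin 2 → ZMod p) →ₗ[ZMod p] (Fin 2 → ZMod p)) := fun β =>
    (mk β).toZModLinearMap p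
  have hlin : ∀ β w, lin β w = ψ (β (ψ.symm w)) := fun β w => rfl
  have hM : ∀ β w, LinearMap.toMatrix' (lin β) *ᵥ w = ψ (β (ψ.symm w)) := fun β w => by
    rw [LinearMap.toMatrix'_mulVec, hlin]
  have h1 : LinearMap.toMatrix' (lin α) * LinearMap.toMatrix' (lin α⁻¹) = 1 := by
    apply Matrix.mulVec_injective
    funext w
    rw [← Matrix.mulVec_mulVec, hM, hM, Matrix.one_mulVec]
    simp
  have h2 : LinearMap.toMatrix' (lin α⁻¹) * LinearMap.toMatrix' (lin α) = 1 := by
    apply Matrix.mulVec_injective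
    funext w
    rw [← Matrix.mulVec_mulVec, hM, hM, Matrix.one_mulVec]
    simp
  refine ⟨⟨_, _, h1, h2⟩, ?_⟩
  apply MulEquiv.ext
  intro x
  apply ψ.injective
  rw [tauH_apply]
  show LinearMap.toMatrix' (lin α) *ᵥ ψ x = _
  rw [hM, Equiv.symm_apply_apply]

end Tau

theorem aut_facts {Q : Type*} [Group Q] [Finite Q] (hcard : Nat.card Q = p ^ 2)
    (A : Subgroup (MulAut Q)) (hnorm : ((Inn Q).subgroupOf A).Normal)
    (E : Subgroup (A ⧸ (Inn Q).subgroupOf A)) (hE : IsStronglyPEmbedded p E) :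
    (∀ a b : Q, a * b = b * a) ∧ (∀ a : Q, a ^ p = 1) ∧
      ∃ K : Subgroup A, Nonempty (K ≃* Matrix.SpecialLinearGroup (Fin 2) (ZMod p)) := by
  classical
  have hc : ∀ a b : Q, a * b = b * a := IsPGroup.commutative_of_card_eq_prime_sq hcard
  haveI : Finite (MulAut Q) := Finite.of_injective (fun f : MulAut Q => (f : Q → Q))
    (fun f g h => MulEquiv.ext (congrFun h))
  -- the inner automorphisms are trivial
  have hInn : (Inn Q).subgroupOf A = ⊥ := by
    rw [eq_bot_iff]
    rintro ⟨a, haA⟩ ha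
    rw [Subgroup.mem_subgroupOf] at ha
    obtain ⟨q, hq⟩ := ha
    rw [Subgroup.mem_bot]
    apply Subtype.ext
    show a = 1
    have hq' : MulAut.conj q = a := hq
    rw [← hq']
    apply MulEquiv.ext
    intro x
    show q * x * q⁻¹ = x
    rw [hc q x, mul_inv_cancel_right]
  let π := QuotientGroup.mk' ((Inn Q).subgroupOf A)
  have hπinj : Function.Injective π := by
    rw [injective_iff_map_eq_one]
    intro a ha
    have : a ∈ (Inn Q).subgroupOf A := (QuotientGroup.eq_one_iff a).1 ha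
    rw [hInn] at this
    exact Subgroup.mem_bot.1 this
  have hπsurj : Function.Surjective π := QuotientGroup.mk'_surjective _
  have hcoreX := Cfsg.Agent.Lib.StronglyEmbedded.IsStronglyPEmbedded.pCore_eq_bot hE
  have hcoreA : ∀ N : Subgroup A, N.Normal → (∀ n ∈ N, n ^ p = 1) → N = ⊥ := by
    intro N hN hNp
    have hN' : (N.map π).Normal := hN.map π hπsurj
    have hp : IsPGroup p (N.map π) := by
      intro x
      obtain ⟨x, n, hn, rfl⟩ := x
      refine ⟨1, ?_⟩
      apply Subtype.ext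
      show π n ^ p ^ 1 = 1
      rw [pow_one, ← map_pow, hNp n hn, map_one]
    have h1 := Cfsg.Agent.Lib.PCore.le_pCore hN' hp
    rw [hcoreX, le_bot_iff] at h1
    exact (Subgroup.map_eq_bot_iff_of_injective N hπinj).1 h1
  have hdvd : p ∣ Nat.card A := by
    have h1 := hE.1
    rwa [← Nat.card_congr (Equiv.ofBijective π ⟨hπinj, hπsurj⟩)] at h1
  -- an element of order `p`
  obtain ⟨a₀, ha₀⟩ := exists_prime_orderOf_dvd_card' p hdvd
  have ha₀p : a₀ ^ p = 1 := by rw [← ha₀, pow_orderOf_eq_one]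
  have ha₀1 : a₀ ≠ 1 := by
    intro h
    rw [h, orderOf_one] at ha₀
    exact hpp.out.one_lt.ne ha₀
  -- the exponent
  have hexp : ∀ a : Q, a ^ p = 1 := by
    by_contra hcon
    obtain ⟨a, ha⟩ : ∃ a : Q, a ^ p ≠ 1 := by
      by_contra h
      exact hcon fun a => by
        by_contra h'
        exact h ⟨a, h'⟩
    have h1 : orderOf a ∣ p ^ 2 := by
      rw [← hcard]
      exact orderOf_dvd_natCard a
    obtain ⟨k, hk, hk'⟩ := (Nat.dvd_prime_pow hpp.out).1 h1
    have hk2 : k = 2 := by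
      by_contra hk3
      apply ha
      apply orderOf_dvd_iff_pow_eq_one.1
      rw [hk']
      have : k ≤ 1 := by omega
      exact (pow_dvd_pow p this).trans (by simp)
    have hcyc : IsCyclic Q := isCyclic_of_orderOf_eq_card a (by rw [hk', hk2, hcard])
    have hcomm : ∀ x y : MulAut Q, x * y = y * x := fun x y => by
      apply (IsCyclic.mulAutMulEquiv Q).injective
      rw [map_mul, map_mul, mul_comm]
    let N : Subgroup A :=
      { carrier := {x | x ^ p = 1}
        mul_mem' := fun {x y} hx hy => by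
          have hxy : Commute x y := Subtype.ext (hcomm _ _)
          show (x * y) ^ p = 1
          rw [hxy.mul_pow, hx, hy, one_mul]
        one_mem' := one_pow _
        inv_mem' := fun {x} hx => by
          show x⁻¹ ^ p = 1
          rw [inv_pow, hx, inv_one] }
    have hNn : N.Normal := by
      refine ⟨fun n hn g => ?_⟩
      show (g * n * g⁻¹) ^ p = 1
      rw [conj_pow, hn, mul_one, mul_inv_cancel]
    have hN := hcoreA N hNn (fun n hn => hn)
    have : a₀ ∈ N := ha₀p
    rw [hN] at this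
    exact ha₀1 (Subgroup.mem_bot.1 this)
  refine ⟨hc, hexp, ?_⟩
  -- the matrices
  obtain ⟨ψ, hψ⟩ := exists_psi hc hexp hcard
  let τ := tauH ψ hψ
  have hτinj : Function.Injective τ := tauH_inj ψ hψ
  have hτsurj : ∀ α, ∃ g, τ g = α := tauH_surj ψ hψ
  let A' : Subgroup (GL2 p) := A.comap τ
  obtain ⟨x, hx⟩ := hτsurj (a₀ : MulAut Q)
  have hxA : x ∈ A' := by
    show τ x ∈ A
    rw [hx]
    exact a₀.2
  have hxp : x ^ p = 1 := by
    apply hτinj
    rw [map_pow, hx, map_one]
    have := congrArg Subtype.val ha₀p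
    exact this
  have hx1 : x ≠ 1 := by
    intro h
    apply ha₀1
    apply Subtype.ext
    show (a₀ : MulAut Q) = 1
    rw [← hx, h, map_one]
  have hcore' : ∀ N : Subgroup (GL2 p), N ≤ A' → (∀ a ∈ A', ∀ n ∈ N, a * n * a⁻¹ ∈ N) →
      (∀ n ∈ N, n ^ p = 1) → N = ⊥ := by
    intro N hNA hNn hNp
    let N₁ : Subgroup A := (N.map τ).subgroupOf A
    have hN₁n : N₁.Normal := by
      refine ⟨fun n hn g => ?_⟩
      rw [Subgroup.mem_subgroupOf] at hn ⊢
      obtain ⟨n', hn', hne⟩ := hn
      obtain ⟨g', hg'⟩ := hτsurj (g : MulAut Q)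
      have hg'A : g' ∈ A' := by
        show τ g' ∈ A
        rw [hg']
        exact g.2
      refine ⟨g' * n' * g'⁻¹, hNn g' hg'A n' hn', ?_⟩
      rw [map_mul, map_mul, map_inv, hg', hne]
      rfl
    have hN₁ := hcoreA N₁ hN₁n (fun n hn => by
      rw [Subgroup.mem_subgroupOf] at hn
      obtain ⟨n', hn', hne⟩ := hn
      apply Subtype.ext
      show (n : MulAut Q) ^ p = 1
      rw [← hne, ← map_pow, hNp n' hn', map_one])
    rw [eq_bot_iff]
    intro n hn
    have h1 : τ n ∈ A := hNA hn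
    have h2 : (⟨τ n, h1⟩ : A) ∈ N₁ := by
      rw [Subgroup.mem_subgroupOf]
      exact ⟨n, hn, rfl⟩
    rw [hN₁] at h2
    have h3 := congrArg Subtype.val (Subgroup.mem_bot.1 h2)
    have h4 : τ n = 1 := h3
    rw [Subgroup.mem_bot]
    exact hτinj (by rw [h4, map_one])
  have hsl := sl2_le A' hcore' hxA hxp hx1
  let f : Matrix.SpecialLinearGroup (Fin 2) (ZMod p) →* A :=
    (τ.comp Matrix.SpecialLinearGroup.toGL).codRestrict A (fun g => hsl g)
  have hf : Function.Injective f := by
    intro g k h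
    have h1 := congrArg Subtype.val h
    exact Matrix.SpecialLinearGroup.toGL_injective (hτinj h1)
  exact ⟨f.range, ⟨(MonoidHom.ofInjective hf).symm⟩⟩

end Cfsg.Agent.Lib.EssP2
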