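import Mathlib
import Cfsg.Agent.Lib.H6PGroup
import Cfsg.Agent.Lib.AutTwoGroup
import Cfsg.Agent.Lib.Quaternion

/-!
Two-groups with abelianisation of order four and an automorphism of odd order.
-/

set_option autoImplicit false
set_option linter.all false

namespace Cfsg.Agent.Lib.H6Q8

open scoped commutatorElement

theorem comm_le_of_gen {H : Type*} [Group H] (a b : H) (hgen : Subgroup.closure ({a, b} : Set H) = ⊤)
    (M : Subgroup H) [hM : M.Normal] (hab : ⁅a, b⁆ ∈ M) : commutator H ≤ M := by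
  let π := QuotientGroup.mk' M
  have hab' : π a * π b = π b * π a := by
    have h1 : π ⁅a, b⁆ = 1 := (QuotientGroup.eq_one_iff _).mpr hab
    rw [map_commutatorElement, commutatorElement_eq_one_iff_mul_comm] at h1
    exact h1
  have hz : ∀ z : H ⧸ M, π a * z = z * π a → π b * z = z * π b → ∀ x, π x * z = z * π x := by
    intro z h1 h2 x
    have hmem : x ∈ Subgroup.closure ({a, b} : Set H) := hgen ▸ Subgroup.mem_top x
    have hle : Subgroup.closure ({a, b} : Set H) ≤ (Subgroup.centralizer {z}).comap π := by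
      rw [Subgroup.closure_le]
      rintro y (rfl | rfl)
      · simp only [SetLike.mem_coe, Subgroup.mem_comap, Subgroup.mem_centralizer_singleton_iff]
        exact h1
      · simp only [SetLike.mem_coe, Subgroup.mem_comap, Subgroup.mem_centralizer_singleton_iff]
        exact h2
    have := hle hmem
    simpa only [Subgroup.mem_comap, Subgroup.mem_centralizer_singleton_iff] using this
  have ha : ∀ x, π x * π a = π a * π x := hz _ rfl hab'.symm
  have hb : ∀ x, π x * π b = π b * π x := hz _ hab' rfl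
  have hall : ∀ x y, π x * π y = π y * π x := fun x y => hz _ (ha y).symm (hb y).symm x
  change ⁅(⊤ : Subgroup H), ⊤⁆ ≤ M
  rw [Subgroup.commutator_le]
  intro x _ y _
  rw [← QuotientGroup.eq_one_iff]
  change π ⁅x, y⁆ = 1
  rw [map_commutatorElement, commutatorElement_eq_one_iff_mul_comm]
  exact hall x y

theorem class2 {H : Type*} [Group H] (a b : H) (hgen : Subgroup.closure ({a, b} : Set H) = ⊤)
    (hA : ∀ z ∈ commutator H, ∀ y, z * y = y * z) (hsq : ∀ x : H, x * x ∈ commutator H) (α : H ≃* H)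
    (h1 : α a * b⁻¹ ∈ commutator H) (h2 : α b * (a * b)⁻¹ ∈ commutator H) :
    a * a = ⁅a, b⁆ ∧ b * b = ⁅a, b⁆ ∧ ⁅a, b⁆ * ⁅a, b⁆ = 1 ∧ commutator H ≤ Subgroup.zpowers ⁅a, b⁆ := by
  set c := ⁅a, b⁆ with hc
  have hcA : c ∈ commutator H := Subgroup.commutator_mem_commutator (Subgroup.mem_top a) (Subgroup.mem_top b)
  have hcz : ∀ y, c * y = y * c := hA c hcA
  haveI hMn : (Subgroup.zpowers c).Normal := ⟨by
    intro n hn g
    obtain ⟨i, rfl⟩ := Subgroup.mem_zpowers_iff.mp hn
    have h3 : Commute g (c ^ i) := ((Commute.symm (hcz g))).zpow_right i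
    rw [h3.eq, mul_inv_cancel_right]
    exact Subgroup.zpow_mem _ (Subgroup.mem_zpowers c) i⟩
  have hAM : commutator H ≤ Subgroup.zpowers c := comm_le_of_gen a b hgen _ (Subgroup.mem_zpowers c)
  have hab : a * b = c * (b * a) := by
    rw [hc, commutatorElement_def]; group
  have hc2 : c * c = 1 := by
    have h3 : a * a * b = b * (a * a) := hA _ (hsq a) b
    have h4 : a * a * b = c * c * (a * a * b) := by
      calc a * a * b = a * (a * b) := by group
        _ = a * (c * (b * a)) := by rw [hab]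
        _ = (a * c) * (b * a) := by group
        _ = (c * a) * (b * a) := by rw [hcz a]
        _ = c * (a * b) * a := by group
        _ = c * (c * (b * a)) * a := by rw [hab]
        _ = c * c * (b * (a * a)) := by group
        _ = c * c * (a * a * b) := by rw [h3]
    have h5 : 1 * (a * a * b) = c * c * (a * a * b) := by rw [one_mul]; exact h4
    exact (mul_right_cancel h5).symm
  have hcinv : c⁻¹ = c := inv_eq_of_mul_eq_one_left hc2
  have hz2 : ∀ z ∈ commutator H, z * z = 1 := by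
    intro z hz
    obtain ⟨i, rfl⟩ := Subgroup.mem_zpowers_iff.mp (hAM hz)
    rw [← zpow_add, ← two_mul, zpow_mul, zpow_ofNat, pow_two, hc2, one_zpow]
  have hdich : ∀ z ∈ commutator H, z = 1 ∨ z = c := by
    intro z hz
    obtain ⟨i, rfl⟩ := Subgroup.mem_zpowers_iff.mp (hAM hz)
    rcases Int.even_or_odd' i with ⟨k, rfl | rfl⟩
    · left
      rw [zpow_mul, zpow_ofNat, pow_two, hc2, one_zpow]
    · right
      rw [zpow_add, zpow_mul, zpow_ofNat, pow_two, hc2, one_zpow, one_mul, zpow_one]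
  have hαA : ∀ z ∈ commutator H, α z ∈ commutator H := by
    intro z hz
    have hch : (commutator H).Characteristic := inferInstance
    have := hch.fixed α
    have h3 : z ∈ (commutator H).comap α.toMonoidHom := by rw [this]; exact hz
    exact h3
  have hfix : ∀ z ∈ commutator H, α z = z := by
    intro z hz
    rcases hdich z hz with h0 | h0
    · rw [h0]; exact map_one α
    · rcases hdich _ (hαA _ hz) with h3 | h3
      · have : z = 1 := (map_eq_one_iff α α.injective).mp h3
        rw [this, map_one]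
      · rw [h3, h0]
  have hsquare : ∀ u v : H, α u * v⁻¹ ∈ commutator H → u * u ∈ commutator H → u * u = v * v := by
    intro u v huv hu
    set z := α u * v⁻¹ with hz
    have h3 : α u = z * v := by rw [hz]; group
    have h4 := hfix _ hu
    rw [map_mul, h3] at h4
    have hzc := hA z huv
    have h5 : z * v * (z * v) = (z * z) * (v * v) := by
      calc z * v * (z * v) = z * (v * z) * v := by group
        _ = z * (z * v) * v := by rw [hzc v]
        _ = (z * z) * (v * v) := by group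
    rw [h5, hz2 z huv, one_mul] at h4
    exact h4.symm
  have hs1 : a * a = b * b := hsquare a b h1 (hsq a)
  have hs2 : b * b = a * b * (a * b) := hsquare b (a * b) h2 (hsq b)
  have hbab : b * a = c * (a * b) := by
    rw [hab, ← mul_assoc, hc2, one_mul]
  have h5 : a * b * (a * b) = c * (a * a) * (b * b) := by
    calc a * b * (a * b) = a * (b * a) * b := by group
      _ = a * (c * (a * b)) * b := by rw [hbab]
      _ = (a * c) * (a * b) * b := by group
      _ = (c * a) * (a * b) * b := by rw [hcz a]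
      _ = c * (a * a) * (b * b) := by group
  have h6 : c * (a * a) = 1 := by
    have h7 : 1 * (b * b) = c * (a * a) * (b * b) := by rw [one_mul, ← h5]; exact hs2
    exact (mul_right_cancel h7).symm
  have h8 : a * a = c := by
    have := eq_inv_of_mul_eq_one_right h6
    rwa [hcinv] at this
  exact ⟨h8, hs1 ▸ h8, hc2, hAM⟩

/-- `K ⊔ P' = P` in a `p`-group implies `K = P`. -/
theorem eq_top_of_sup_commutator {P : Type*} [Group P] [Finite P] {p : ℕ} [Fact p.Prime] (hP : IsPGroup p P)
    (K : Subgroup P) (h : K ⊔ commutator P = ⊤) : K = ⊤ := by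
  have hle : commutator P ≤ frattini P := by
    change ⁅(⊤ : Subgroup P), ⊤⁆ ≤ _
    rw [Subgroup.commutator_le]
    intro x _ y _
    rw [commutatorElement_def]
    exact Cfsg.Agent.Lib.H6PGroup.comm_mem_frattini hP x y
  apply frattini_nongenerating
  rw [eq_top_iff, ← h]
  exact sup_le_sup_left hle K

theorem commutes_of_gen {H K : Type*} [Group H] [Group K] (a b : H) (hgen : Subgroup.closure ({a, b} : Set H) = ⊤)
    (f : H →* K) (z : K) (h1 : f a * z = z * f a) (h2 : f b * z = z * f b) : ∀ x, f x * z = z * f x := by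
  intro x
  have hmem : x ∈ Subgroup.closure ({a, b} : Set H) := hgen ▸ Subgroup.mem_top x
  have hle : Subgroup.closure ({a, b} : Set H) ≤ (Subgroup.centralizer {z}).comap f := by
    rw [Subgroup.closure_le]
    rintro y (rfl | rfl)
    · simp only [SetLike.mem_coe, Subgroup.mem_comap, Subgroup.mem_centralizer_singleton_iff]
      exact h1
    · simp only [SetLike.mem_coe, Subgroup.mem_comap, Subgroup.mem_centralizer_singleton_iff]
      exact h2
  have := hle hmem
  simpa only [Subgroup.mem_comap, Subgroup.mem_centralizer_singleton_iff] using this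

theorem bot_of_le_comm {P : Type*} [Group P] [Group.IsNilpotent P] (N : Subgroup P) (h : N ≤ ⁅N, ⊤⁆) : N = ⊥ := by
  obtain ⟨n, hn⟩ := (Subgroup.nilpotent_iff_lowerCentralSeries (G := P)).mp inferInstance
  have hall : ∀ k, N ≤ Subgroup.lowerCentralSeries (⊤ : Subgroup P) k := by
    intro k
    induction k with
    | zero => exact le_top
    | succ k ih => exact h.trans (Subgroup.commutator_mono ih le_rfl)
  have := hall n
  rw [hn] at this
  exact le_bot_iff.mp this

theorem stepA {P : Type*} [Group P] [Finite P] (hP : IsPGroup 2 P) (h4 : (commutator P).index = 4) {r : ℕ}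
    (hr : r.Prime) (hr2 : r ≠ 2) (α : MulAut P) (hα : orderOf α = r) :
    ∃ a b : P, α a = b ∧ α b * (a * b)⁻¹ ∈ commutator P ∧ (∀ x, x * x ∈ commutator P) ∧
      Subgroup.closure ({a, b} : Set P) = ⊤ := by
  classical
  haveI f2 : Fact (Nat.Prime 2) := ⟨Nat.prime_two⟩
  haveI fr : Fact r.Prime := ⟨hr⟩
  set L := commutator P with hL
  haveI hLn : L.Normal := inferInstance
  have hαr : α ^ r = 1 := by rw [← hα]; exact pow_orderOf_eq_one α
  have hchar : L.Characteristic := inferInstance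
  have hαL : ∀ z ∈ L, α z ∈ L := by
    intro z hz
    have h3 : z ∈ L.comap (α : P ≃* P).toMonoidHom := by rw [hchar.fixed α]; exact hz
    exact h3
  have hαL' : ∀ z, α z ∈ L → z ∈ L := by
    intro z hz
    have h3 : z ∈ L.comap (α : P ≃* P).toMonoidHom := hz
    rwa [hchar.fixed α] at h3
  obtain ⟨k2, hk2⟩ := IsPGroup.iff_card.mp (hP.to_subgroup L)
  -- some element moves its coset
  have hex : ∃ a, α a * a⁻¹ ∉ L := by
    by_contra hcon
    push_neg at hcon
    let C : Subgroup P :=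
      { carrier := {y | α y = y}
        mul_mem' := fun {u v} hu hv => by
          simp only [Set.mem_setOf_eq] at *
          rw [map_mul, hu, hv]
        one_mem' := map_one α
        inv_mem' := fun {u} hu => by
          simp only [Set.mem_setOf_eq] at *
          rw [map_inv, hu] }
    have hC : C ⊔ L = ⊤ := by
      rw [eq_top_iff]
      intro x _
      letI : Fintype {y // y * x⁻¹ ∈ L} := Fintype.ofFinite _
      have hX : ∀ y, (y * x⁻¹ ∈ L) ↔ (α y * x⁻¹ ∈ L) := by
        intro y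
        have e : α y * x⁻¹ = (α y * y⁻¹) * (y * x⁻¹) := by group
        rw [e]
        constructor
        · intro h
          exact L.mul_mem (hcon y) h
        · intro h
          have := L.mul_mem (L.inv_mem (hcon y)) h
          simpa using this
      have hcard : ¬ r ∣ Fintype.card {y // y * x⁻¹ ∈ L} := by
        have h1 : Fintype.card {y // y * x⁻¹ ∈ L} = Nat.card L := by
          rw [← Nat.card_eq_fintype_card]
          apply Nat.card_congr
          exact ⟨fun y => ⟨y.1 * x⁻¹, y.2⟩, fun z => ⟨z.1 * x, by simpa using z.2⟩,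
            fun y => Subtype.ext (by simp), fun z => Subtype.ext (by simp)⟩
        rw [h1, hk2]
        intro hd
        exact hr2 ((Nat.prime_dvd_prime_iff_eq hr Nat.prime_two).mp (hr.dvd_of_dvd_pow hd))
      obtain ⟨y, hy, hfix⟩ := Cfsg.Agent.Lib.AutTwoGroup.exists_fixed_of_invariant α r hαr
        (fun y => y * x⁻¹ ∈ L) hX hcard
      have h1 : y ∈ C := hfix
      have h2 : x * y⁻¹ ∈ L := by
        have := L.inv_mem hy
        simpa using this
      have h3 : x = (x * y⁻¹) * y := by group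
      rw [h3, sup_comm]
      exact Subgroup.mul_mem_sup h2 h1
    have hCt := eq_top_of_sup_commutator hP C hC
    have hone : α = 1 := by
      apply MulEquiv.ext
      intro x
      have : x ∈ C := hCt ▸ Subgroup.mem_top x
      exact this
    rw [hone, orderOf_one] at hα
    exact hr.ne_one hα.symm
  obtain ⟨a, ha⟩ := hex
  have hLeq : L.map (α : P ≃* P).toMonoidHom = L := by
    apply le_antisymm
    · rintro _ ⟨x, hx, rfl⟩
      exact hαL x hx
    · intro x hx
      refine ⟨α.symm x, hαL' _ (by simpa using hx), by simp⟩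
  let σ : MulAut (P ⧸ L) := QuotientGroup.congr L L α hLeq
  have hσ : ∀ x : P, σ (x : P ⧸ L) = ((α x : P) : P ⧸ L) := fun x => rfl
  have hσk : ∀ (k : ℕ) (x : P), (σ ^ k) (x : P ⧸ L) = (((α ^ k) x : P) : P ⧸ L) := by
    intro k
    induction k with
    | zero => intro x; rfl
    | succ k ih =>
      intro x
      rw [pow_succ, pow_succ, MulAut.mul_apply, MulAut.mul_apply, hσ, ih]
  have hσr : σ ^ r = 1 := by
    apply MulEquiv.ext
    intro X
    obtain ⟨x, rfl⟩ := QuotientGroup.mk_surjective X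
    rw [hσk, hαr]
    rfl
  set A : P ⧸ L := (a : P ⧸ L) with hA
  set B : P ⧸ L := σ A with hB
  set D : P ⧸ L := σ B with hD
  have hAB : A ≠ B := by
    intro h
    apply ha
    have h2 : ((α a : P) : P ⧸ L) = a := h.symm
    rw [QuotientGroup.eq] at h2
    have h3 : α a * a⁻¹ = (α a) * ((α a)⁻¹ * a)⁻¹ * (α a)⁻¹ := by group
    rw [h3]
    exact hLn.conj_mem _ (L.inv_mem h2) _
  have hA1 : A ≠ 1 := by
    intro h
    apply ha
    have h2 : a ∈ L := (QuotientGroup.eq_one_iff a).mp h
    exact L.mul_mem (hαL a h2) (L.inv_mem h2)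
  have hB1 : B ≠ 1 := fun h => hA1 ((map_eq_one_iff σ σ.injective).mp h)
  have hD1 : D ≠ 1 := fun h => hB1 ((map_eq_one_iff σ σ.injective).mp h)
  have hDB : D ≠ B := fun h => hAB (σ.injective h).symm
  have hDA : D ≠ A := by
    intro h
    obtain ⟨k, hk⟩ : ∃ k, r = 2 * k + 1 := hr.odd_of_ne_two hr2
    have hpow : ∀ j : ℕ, ((σ ^ 2) ^ j) A = A := by
      intro j
      induction j with
      | zero => rfl
      | succ j ih =>
        rw [pow_succ, MulAut.mul_apply]
        have : (σ ^ 2) A = A := by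
          rw [pow_two, MulAut.mul_apply]
          exact h
        rw [this, ih]
    apply hAB
    have h3 : (σ ^ r) A = A := by rw [hσr]; rfl
    rw [hk, pow_succ', pow_mul, MulAut.mul_apply, hpow] at h3
    exact h3.symm
  -- the four elements
  letI : Fintype (P ⧸ L) := Fintype.ofFinite _
  have hcard4 : Fintype.card (P ⧸ L) = 4 := by
    rw [← Nat.card_eq_fintype_card]
    exact h4
  have hall : ∀ X : P ⧸ L, X = 1 ∨ X = A ∨ X = B ∨ X = D := by
    intro X
    have hF : ({1, A, B, D} : Finset (P ⧸ L)) = Finset.univ := by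
      apply Finset.eq_univ_of_card
      rw [hcard4, Finset.card_insert_of_notMem, Finset.card_insert_of_notMem, Finset.card_insert_of_notMem,
        Finset.card_singleton]
      · simp [hDB.symm]
      · simp [hAB, hDA.symm]
      · simp [hA1.symm, hB1.symm, hD1.symm]
    have := Finset.mem_univ X
    rw [← hF] at this
    simpa using this
  -- exponent two
  obtain ⟨X, hX⟩ := exists_prime_orderOf_dvd_card' (G := P ⧸ L) 2 (by
    rw [Nat.card_eq_fintype_card, hcard4]; decide)
  have hoB : orderOf B = orderOf A := σ.orderOf_eq A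
  have hoD : orderOf D = orderOf B := σ.orderOf_eq B
  have hoA : orderOf A = 2 := by
    rcases hall X with h | h | h | h
    · rw [h, orderOf_one] at hX; omega
    · rw [← h]; exact hX
    · rw [← hoB, ← h]; exact hX
    · rw [← hoB, ← hoD, ← h]; exact hX
  have hsqall : ∀ Y : P ⧸ L, Y * Y = 1 := by
    intro Y
    have e : ∀ Z : P ⧸ L, orderOf Z = 2 → Z * Z = 1 := by
      intro Z hZ
      rw [← pow_two, ← hZ, pow_orderOf_eq_one]
    rcases hall Y with h | h | h | h
    · rw [h, one_mul]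
    · rw [h]; exact e _ hoA
    · rw [h]; exact e _ (hoB.trans hoA)
    · rw [h]; exact e _ (hoD.trans (hoB.trans hoA))
  have hABD : A * B = D := by
    rcases hall (A * B) with h | h | h | h
    · exfalso
      apply hAB
      have h1 : A = B⁻¹ := eq_inv_of_mul_eq_one_left h
      have h2 : B⁻¹ = B := inv_eq_of_mul_eq_one_left (hsqall B)
      rw [h1, h2]
    · exfalso
      apply hB1
      exact mul_left_cancel (h.trans (mul_one A).symm)
    · exfalso
      apply hA1
      exact mul_right_cancel (h.trans (one_mul B).symm)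
    · exact h
  refine ⟨a, α a, rfl, ?_, ?_, ?_⟩
  · rw [← QuotientGroup.eq_one_iff]
    change ((α (α a) * (a * α a)⁻¹ : P) : P ⧸ L) = 1
    rw [QuotientGroup.mk_mul, QuotientGroup.mk_inv, QuotientGroup.mk_mul]
    change D * (A * B)⁻¹ = 1
    rw [hABD, mul_inv_cancel]
  · intro x
    rw [← QuotientGroup.eq_one_iff, QuotientGroup.mk_mul]
    exact hsqall _
  · apply eq_top_of_sup_commutator hP
    rw [eq_top_iff]
    intro x _
    set K := Subgroup.closure ({a, α a} : Set P) with hK
    have haK : a ∈ K := Subgroup.subset_closure (by simp)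
    have hbK : α a ∈ K := Subgroup.subset_closure (by simp)
    have hdec : ∃ k ∈ K, (k : P ⧸ L) = (x : P ⧸ L) := by
      rcases hall (x : P ⧸ L) with h | h | h | h
      · exact ⟨1, K.one_mem, by rw [h]; rfl⟩
      · exact ⟨a, haK, h.symm⟩
      · exact ⟨α a, hbK, h.symm⟩
      · refine ⟨a * α a, K.mul_mem haK hbK, ?_⟩
        rw [h, ← hABD]
        rfl
    obtain ⟨k, hk, hkx⟩ := hdec
    have h5 : k⁻¹ * x ∈ L := QuotientGroup.eq.mp hkx
    have h6 : x = k * (k⁻¹ * x) := by group
    rw [h6]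
    exact Subgroup.mul_mem_sup hk h5

theorem main {P : Type*} [Group P] [Finite P] (hP : IsPGroup 2 P) (hna : ¬ IsMulCommutative P)
    (h4 : (commutator P).index = 4) (haut : ¬ IsPGroup 2 (MulAut P)) : Nonempty (P ≃* QuaternionGroup 2) := by
  classical
  haveI f2 : Fact (Nat.Prime 2) := ⟨Nat.prime_two⟩
  haveI hnil : Group.IsNilpotent P := hP.isNilpotent
  haveI hfinA : Finite (MulAut P) :=
    Finite.of_injective (fun α : MulAut P => (α : P → P)) DFunLike.coe_injective
  -- an automorphism of odd prime order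
  obtain ⟨r, hr, hr2, hrd⟩ : ∃ r : ℕ, r.Prime ∧ r ≠ 2 ∧ r ∣ Nat.card (MulAut P) := by
    by_contra hcon
    push_neg at hcon
    apply haut
    have hne : Nat.card (MulAut P) ≠ 0 := Nat.card_pos.ne'
    have := Nat.eq_prime_pow_of_unique_prime_dvd hne (p := 2) (fun {d} hd hdvd => by
      by_contra h2
      exact hcon d hd h2 hdvd)
    exact IsPGroup.of_card this
  haveI fr : Fact r.Prime := ⟨hr⟩
  obtain ⟨α, hα⟩ := exists_prime_orderOf_dvd_card' (G := MulAut P) r hrd
  obtain ⟨a, b, hab, hd, hsq, hgen⟩ := stepA hP h4 hr hr2 α hα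
  set L₂ := commutator P with hL₂
  set L₃ : Subgroup P := ⁅L₂, ⊤⁆ with hL₃
  set L₄ : Subgroup P := ⁅L₃, ⊤⁆ with hL₄
  haveI hL₂n : L₂.Normal := inferInstance
  haveI hL₃c : L₃.Characteristic := inferInstance
  haveI hL₄c : L₄.Characteristic := inferInstance
  have hL₃₂ : L₃ ≤ L₂ := Subgroup.commutator_le_left _ _
  -- first pass in the quotient by `L₃`
  have hα3eq : L₃.map (α : P ≃* P).toMonoidHom = L₃ := by
    apply le_antisymm
    · rintro _ ⟨x, hx, rfl⟩
      have h3 : x ∈ L₃.comap (α : P ≃* P).toMonoidHom := by rw [hL₃c.fixed α]; exact hx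
      exact h3
    · intro x hx
      have h3 : x ∈ L₃.comap (α.symm : P ≃* P).toMonoidHom := by rw [hL₃c.fixed α.symm]; exact hx
      exact ⟨α.symm x, h3, by simp⟩
  let π₃ : P →* P ⧸ L₃ := QuotientGroup.mk' L₃
  have hπ₃s : Function.Surjective π₃ := QuotientGroup.mk'_surjective L₃
  have hmap : L₂.map π₃ = commutator (P ⧸ L₃) := by
    change (⁅(⊤ : Subgroup P), ⊤⁆ : Subgroup P).map π₃ = ⁅(⊤ : Subgroup (P ⧸ L₃)), ⊤⁆
    rw [Subgroup.map_commutator, Subgroup.map_top_of_surjective _ hπ₃s]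
  have hgen3 : Subgroup.closure ({π₃ a, π₃ b} : Set (P ⧸ L₃)) = ⊤ := by
    have h1 := congrArg (Subgroup.map π₃) hgen
    rw [MonoidHom.map_closure, Set.image_pair, Subgroup.map_top_of_surjective _ hπ₃s] at h1
    exact h1
  have hA3 : ∀ z ∈ commutator (P ⧸ L₃), ∀ y, z * y = y * z := by
    intro z hz y
    rw [← hmap] at hz
    obtain ⟨z₀, hz₀, rfl⟩ := hz
    obtain ⟨y₀, rfl⟩ := hπ₃s y
    have h1 : π₃ ⁅z₀, y₀⁆ = 1 :=
      (QuotientGroup.eq_one_iff _).mpr (Subgroup.commutator_mem_commutator hz₀ (Subgroup.mem_top y₀))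
    rw [map_commutatorElement, commutatorElement_eq_one_iff_mul_comm] at h1
    exact h1
  have hsq3 : ∀ x : P ⧸ L₃, x * x ∈ commutator (P ⧸ L₃) := by
    intro x
    obtain ⟨x₀, rfl⟩ := hπ₃s x
    rw [← hmap, ← map_mul]
    exact ⟨_, hsq x₀, rfl⟩
  let α₃ : P ⧸ L₃ ≃* P ⧸ L₃ := QuotientGroup.congr L₃ L₃ α hα3eq
  have hα₃ : ∀ x, α₃ (π₃ x) = π₃ (α x) := fun x => rfl
  obtain ⟨h3a, h3b, -, h3c⟩ := class2 (π₃ a) (π₃ b) hgen3 hA3 hsq3 α₃
    (by
      rw [hα₃, hab, mul_inv_cancel]
      exact Subgroup.one_mem _)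
    (by
      rw [hα₃, ← hmap, ← map_mul, ← map_inv, ← map_mul]
      exact ⟨_, hd, rfl⟩)
  set c : P := ⁅a, b⁆ with hc
  have hcL₂ : c ∈ L₂ := Subgroup.commutator_mem_commutator (Subgroup.mem_top a) (Subgroup.mem_top b)
  have hπc : ⁅π₃ a, π₃ b⁆ = π₃ c := (map_commutatorElement π₃ a b).symm
  rw [hπc] at h3a h3b h3c
  obtain ⟨wa, hwa, hwa'⟩ : ∃ w ∈ L₃, a * a = c * w := by
    have h1 : π₃ c = π₃ (a * a) := by rw [map_mul]; exact h3a.symm
    have h2 : c⁻¹ * (a * a) ∈ L₃ := QuotientGroup.eq.mp h1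
    exact ⟨_, h2, by group⟩
  obtain ⟨wb, hwb, hwb'⟩ : ∃ w ∈ L₃, b * b = c * w := by
    have h1 : π₃ c = π₃ (b * b) := by rw [map_mul]; exact h3b.symm
    have h2 : c⁻¹ * (b * b) ∈ L₃ := QuotientGroup.eq.mp h1
    exact ⟨_, h2, by group⟩
  have hdec : ∀ z ∈ L₂, ∃ i : ℤ, ∃ w ∈ L₃, z = c ^ i * w := by
    intro z hz
    have h1 : π₃ z ∈ commutator (P ⧸ L₃) := by
      rw [← hmap]
      exact ⟨z, hz, rfl⟩
    obtain ⟨i, hi⟩ := Subgroup.mem_zpowers_iff.mp (h3c h1)
    have h2 : π₃ (c ^ i) = π₃ z := by rw [map_zpow]; exact hi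
    have h3 : (c ^ i)⁻¹ * z ∈ L₃ := QuotientGroup.eq.mp h2
    exact ⟨i, _, h3, by group⟩
  -- the third term dies
  let π₄ : P →* P ⧸ L₄ := QuotientGroup.mk' L₄
  have hcent3 : ∀ w ∈ L₃, ∀ y, π₄ y * π₄ w = π₄ w * π₄ y := by
    intro w hw y
    have h1 : π₄ ⁅w, y⁆ = 1 :=
      (QuotientGroup.eq_one_iff _).mpr (Subgroup.commutator_mem_commutator hw (Subgroup.mem_top y))
    rw [map_commutatorElement, commutatorElement_eq_one_iff_mul_comm] at h1
    exact h1.symm
  have hca : π₄ a * π₄ c = π₄ c * π₄ a := by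
    have h1 : π₄ c = π₄ (a * a) * (π₄ wa)⁻¹ := by
      rw [hwa', map_mul]; group
    rw [h1, map_mul]
    have h2 := hcent3 wa hwa a
    have h3 : (π₄ wa)⁻¹ * π₄ a = π₄ a * (π₄ wa)⁻¹ := by
      rw [inv_mul_eq_iff_eq_mul, ← mul_assoc, ← h2, mul_assoc, mul_inv_cancel, mul_one]
    calc π₄ a * (π₄ a * π₄ a * (π₄ wa)⁻¹) = π₄ a * π₄ a * (π₄ a * (π₄ wa)⁻¹) := by group
      _ = π₄ a * π₄ a * ((π₄ wa)⁻¹ * π₄ a) := by rw [h3]
      _ = _ := by group
  have hcb : π₄ b * π₄ c = π₄ c * π₄ b := by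
    have h1 : π₄ c = π₄ (b * b) * (π₄ wb)⁻¹ := by
      rw [hwb', map_mul]; group
    rw [h1, map_mul]
    have h2 := hcent3 wb hwb b
    have h3 : (π₄ wb)⁻¹ * π₄ b = π₄ b * (π₄ wb)⁻¹ := by
      rw [inv_mul_eq_iff_eq_mul, ← mul_assoc, ← h2, mul_assoc, mul_inv_cancel, mul_one]
    calc π₄ b * (π₄ b * π₄ b * (π₄ wb)⁻¹) = π₄ b * π₄ b * (π₄ b * (π₄ wb)⁻¹) := by group
      _ = π₄ b * π₄ b * ((π₄ wb)⁻¹ * π₄ b) := by rw [h3]
      _ = _ := by group
  have hcz : ∀ x, π₄ x * π₄ c = π₄ c * π₄ x := commutes_of_gen a b hgen π₄ _ hca hcb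
  have hL34 : L₃ ≤ L₄ := by
    rw [hL₃, Subgroup.commutator_le]
    intro z hz y _
    obtain ⟨i, w, hw, rfl⟩ := hdec z hz
    rw [← QuotientGroup.eq_one_iff]
    change π₄ ⁅c ^ i * w, y⁆ = 1
    rw [map_commutatorElement, commutatorElement_eq_one_iff_mul_comm, map_mul, map_zpow]
    have h1 : Commute (π₄ y) (π₄ c ^ i) := Commute.zpow_right (hcz y) i
    have h2 := hcent3 w hw y
    calc π₄ c ^ i * π₄ w * π₄ y = π₄ c ^ i * (π₄ w * π₄ y) := by group
      _ = π₄ c ^ i * (π₄ y * π₄ w) := by rw [h2]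
      _ = (π₄ c ^ i * π₄ y) * π₄ w := by group
      _ = (π₄ y * π₄ c ^ i) * π₄ w := by rw [h1.eq]
      _ = _ := by group
  have hL3bot : L₃ = ⊥ := bot_of_le_comm L₃ hL34
  -- second pass in the group itself
  have hAP : ∀ z ∈ L₂, ∀ y, z * y = y * z := by
    intro z hz y
    have h1 : ⁅z, y⁆ ∈ L₃ := Subgroup.commutator_mem_commutator hz (Subgroup.mem_top y)
    rw [hL3bot, Subgroup.mem_bot, commutatorElement_eq_one_iff_mul_comm] at h1
    exact h1
  obtain ⟨hP1, hP2, hP3, hP4⟩ := class2 a b hgen hAP hsq (α : P ≃* P)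
    (by rw [hab, mul_inv_cancel]; exact Subgroup.one_mem _) hd
  have hL2ne : L₂ ≠ ⊥ := by
    intro h
    apply hna
    refine ⟨⟨fun x y => ?_⟩⟩
    have h1 : ⁅x, y⁆ ∈ L₂ := Subgroup.commutator_mem_commutator (Subgroup.mem_top x) (Subgroup.mem_top y)
    rw [h, Subgroup.mem_bot, commutatorElement_eq_one_iff_mul_comm] at h1
    exact h1
  have hc1 : c ≠ 1 := by
    intro h
    apply hL2ne
    rw [eq_bot_iff]
    refine hP4.trans ?_
    rw [Subgroup.zpowers_le, Subgroup.mem_bot]
    exact h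
  have hco : orderOf c = 2 := orderOf_eq_prime (by rw [pow_two]; exact hP3) hc1
  have hL2eq : L₂ = Subgroup.zpowers c := le_antisymm hP4 ((Subgroup.zpowers_le).mpr hcL₂)
  have hcardL2 : Nat.card L₂ = 2 := by
    rw [hL2eq, Nat.card_zpowers, hco]
  have hcard : Nat.card P = 4 * 2 := by
    have := Subgroup.card_mul_index L₂
    rw [hcardL2, h4] at this
    omega
  have hao : orderOf a = 2 * 2 := by
    have h1 : a ^ (2 ^ (1 + 1)) = 1 := by
      have e : (2 ^ (1 + 1) : ℕ) = 2 + 2 := by norm_num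
      rw [e, pow_add, pow_two, hP1, hP3]
    have h2 : ¬ a ^ (2 ^ 1) = 1 := by
      rw [pow_one, pow_two, hP1]
      exact hc1
    have := orderOf_eq_prime_pow h2 h1
    rw [this]
    norm_num
  have hbsq : b * b = a ^ 2 := by rw [pow_two, hP1, hP2]
  have hcinv : c⁻¹ = c := inv_eq_of_mul_eq_one_left hP3
  have hbab : b * a * b⁻¹ = a⁻¹ := by
    have h1 : c = a * b * a⁻¹ * b⁻¹ := commutatorElement_def a b
    have h2 : b * a⁻¹ * b⁻¹ = a⁻¹ * c := by rw [h1]; group
    have hP1' : a * a = c := hP1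
    have h3 : a⁻¹ * c = a := by
      rw [← hP1']; group
    have h4 : b * a * b⁻¹ = (b * a⁻¹ * b⁻¹)⁻¹ := by group
    rw [h4, h2, h3]
  have hbn : b ∉ Subgroup.zpowers a := by
    intro h
    have h1 : Subgroup.zpowers a = ⊤ := by
      rw [eq_top_iff, ← hgen, Subgroup.closure_le]
      rintro y (rfl | rfl)
      · exact Subgroup.mem_zpowers _
      · exact h
    apply hna
    refine ⟨⟨fun x y => ?_⟩⟩
    have hx : x ∈ Subgroup.zpowers a := h1 ▸ Subgroup.mem_top x
    have hy : y ∈ Subgroup.zpowers a := h1 ▸ Subgroup.mem_top y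
    obtain ⟨i, rfl⟩ := Subgroup.mem_zpowers_iff.mp hx
    obtain ⟨j, rfl⟩ := Subgroup.mem_zpowers_iff.mp hy
    exact ((Commute.refl a).zpow_zpow i j).eq
  exact Cfsg.Agent.Lib.Quaternion.nonempty_mulEquiv_quaternion 2 a b hao hbsq hbab hbn hcard

end Cfsg.Agent.Lib.H6Q8
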