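import Mathlib
import Cfsg.Prelude.Def_PLocal

/-! Basic facts on the Thompson subgroup. -/

namespace Cfsg.Agent.Lib.ThompsonBasic

open Cfsg
open scoped commutatorElement

section

variable {G : Type*} [Group G] {p : ℕ}

theorem ea_map {H : Type*} [Group H] (f : G →* H) {A : Subgroup G} (hA : IsElementaryAbelian p A) :
    IsElementaryAbelian p (A.map f) := by
  refine ⟨⟨⟨?_⟩⟩, ?_⟩
  · rintro ⟨_, x, hx, rfl⟩ ⟨_, y, hy, rfl⟩
    have h := hA.1.1.1 ⟨x, hx⟩ ⟨y, hy⟩
    have h' : x * y = y * x := congrArg Subtype.val h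
    apply Subtype.ext
    show f x * f y = f y * f x
    rw [← map_mul, h', map_mul]
  · rintro _ ⟨x, hx, rfl⟩
    rw [← map_pow, hA.2 x hx, map_one]

theorem ea_comm {A : Subgroup G} (hA : IsElementaryAbelian p A) {x y : G} (hx : x ∈ A) (hy : y ∈ A) :
    x * y = y * x :=
  congrArg Subtype.val (hA.1.1.1 ⟨x, hx⟩ ⟨y, hy⟩)

theorem ea_of_le {A B : Subgroup G} (hB : IsElementaryAbelian p B) (h : A ≤ B) :
    IsElementaryAbelian p A := by
  refine ⟨⟨⟨fun x y => Subtype.ext ?_⟩⟩, fun a ha => hB.2 a (h ha)⟩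
  exact ea_comm hB (h x.2) (h y.2)

theorem ea_comap {H : Type*} [Group H] (f : G →* H) (hf : Function.Injective f) {A : Subgroup H}
    (hA : IsElementaryAbelian p A) : IsElementaryAbelian p (A.comap f) := by
  refine ⟨⟨⟨fun x y => Subtype.ext (hf ?_)⟩⟩, fun a ha => hf ?_⟩
  · have h : f x.1 * f y.1 = f y.1 * f x.1 := ea_comm hA x.2 y.2
    show f (x.1 * y.1) = f (y.1 * x.1)
    rw [map_mul, map_mul, h]
  · rw [map_pow, hA.2 _ ha, map_one]

theorem ea_of_comm {H : Subgroup G} (h1 : ∀ x ∈ H, ∀ y ∈ H, x * y = y * x) (h2 : ∀ x ∈ H, x ^ p = 1) :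
    IsElementaryAbelian p H :=
  ⟨⟨⟨fun x y => Subtype.ext (h1 x.1 x.2 y.1 y.2)⟩⟩, h2⟩

theorem sup_comm_of_comm {A B : Subgroup G} (hA : ∀ x ∈ A, ∀ y ∈ A, x * y = y * x)
    (hB : ∀ x ∈ B, ∀ y ∈ B, x * y = y * x) (hc : ∀ a ∈ A, ∀ b ∈ B, a * b = b * a) :
    ∀ x ∈ A ⊔ B, ∀ y ∈ A ⊔ B, x * y = y * x := by
  have h1 : ∀ y ∈ A, A ⊔ B ≤ Subgroup.centralizer ({y} : Set G) := by
    intro y hy
    refine sup_le (fun x hx => ?_) (fun x hx => ?_)
    · rw [Subgroup.mem_centralizer_singleton_iff]
      exact hA x hx y hy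
    · rw [Subgroup.mem_centralizer_singleton_iff]
      exact (hc y hy x hx).symm
  have h2 : ∀ y ∈ B, A ⊔ B ≤ Subgroup.centralizer ({y} : Set G) := by
    intro y hy
    refine sup_le (fun x hx => ?_) (fun x hx => ?_)
    · rw [Subgroup.mem_centralizer_singleton_iff]
      exact hc x hx y hy
    · rw [Subgroup.mem_centralizer_singleton_iff]
      exact hB x hx y hy
  intro x hx y hy
  have h3 : A ⊔ B ≤ Subgroup.centralizer ({x} : Set G) := by
    refine sup_le (fun z hz => ?_) (fun z hz => ?_)
    · have := h1 z hz hx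
      rw [Subgroup.mem_centralizer_singleton_iff] at this ⊢
      exact this.symm
    · have := h2 z hz hx
      rw [Subgroup.mem_centralizer_singleton_iff] at this ⊢
      exact this.symm
  have := h3 hy
  rw [Subgroup.mem_centralizer_singleton_iff] at this
  exact this.symm

theorem ea_sup {A B : Subgroup G} (hA : IsElementaryAbelian p A) (hB : IsElementaryAbelian p B)
    (hc : ∀ a ∈ A, ∀ b ∈ B, a * b = b * a) : IsElementaryAbelian p (A ⊔ B) := by
  have hcomm := sup_comm_of_comm (fun x hx y hy => ea_comm hA hx hy) (fun x hx y hy => ea_comm hB hx hy) hc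
  refine ea_of_comm hcomm ?_
  intro x hx
  have hx' := hx
  rw [Subgroup.sup_eq_closure] at hx'
  induction hx' using Subgroup.closure_induction with
  | mem z hz =>
    rcases hz with hz | hz
    · exact hA.2 z hz
    · exact hB.2 z hz
  | one => exact one_pow _
  | mul a b ha hb ih1 ih2 =>
    have ha' : a ∈ A ⊔ B := by rw [Subgroup.sup_eq_closure]; exact ha
    have hb' : b ∈ A ⊔ B := by rw [Subgroup.sup_eq_closure]; exact hb
    have hcm : Commute a b := hcomm a ha' b hb'
    rw [hcm.mul_pow, ih1 ha', ih2 hb', one_mul]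
  | inv a ha ih =>
    have ha' : a ∈ A ⊔ B := by rw [Subgroup.sup_eq_closure]; exact ha
    rw [inv_pow, ih ha', inv_one]

theorem ea_zpowers {x : G} (hx : x ^ p = 1) : IsElementaryAbelian p (Subgroup.zpowers x) := by
  refine ea_of_comm ?_ ?_
  · rintro _ ⟨m, rfl⟩ _ ⟨n, rfl⟩
    show x ^ m * x ^ n = x ^ n * x ^ m
    rw [← zpow_add, ← zpow_add, add_comm]
  · rintro _ ⟨m, rfl⟩
    show (x ^ m) ^ p = 1
    rw [← zpow_natCast, ← zpow_mul, mul_comm, zpow_mul, zpow_natCast, hx, one_zpow]

theorem ea_bot : IsElementaryAbelian p (⊥ : Subgroup G) :=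
  ea_of_comm (fun x hx y hy => by
    rw [Subgroup.mem_bot] at hx hy
    rw [hx, hy]) (fun x hx => by
    rw [Subgroup.mem_bot] at hx
    rw [hx, one_pow])

theorem exists_max [Finite G] : ∃ A, A ∈ maxElementaryAbelianSubgroups p G := by
  have hfin : Set.Finite {A : Subgroup G | IsElementaryAbelian p A} := Set.toFinite _
  obtain ⟨A, hA, hmax⟩ := Set.exists_max_image _ (fun A : Subgroup G => Nat.card A) hfin
    ⟨⊥, ea_bot⟩
  exact ⟨A, hA, hmax⟩

theorem le_thompson {A : Subgroup G} (hA : A ∈ maxElementaryAbelianSubgroups p G) :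
    A ≤ thompsonSubgroup p G := le_sSup hA

theorem map_mem_max (f : G ≃* G) {A : Subgroup G}
    (hA : A ∈ maxElementaryAbelianSubgroups p G) :
    A.map f.toMonoidHom ∈ maxElementaryAbelianSubgroups p G := by
  refine ⟨ea_map _ hA.1, fun B hB => ?_⟩
  have h1 : Nat.card (A.map f.toMonoidHom) = Nat.card A :=
    Subgroup.card_map_of_injective f.injective
  rw [h1]
  have h2 := hA.2 (B.map f.symm.toMonoidHom) (ea_map _ hB)
  have h3 : Nat.card (B.map f.symm.toMonoidHom) = Nat.card B :=
    Subgroup.card_map_of_injective f.symm.injective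
  rwa [h3] at h2

theorem thompson_characteristic : (thompsonSubgroup p G).Characteristic := by
  rw [Subgroup.characteristic_iff_map_le]
  intro f
  rw [Subgroup.map_le_iff_le_comap]
  refine sSup_le fun A hA => ?_
  rw [← Subgroup.map_le_iff_le_comap]
  exact le_sSup (map_mem_max f hA)

theorem thompson_ne_bot [Finite G] [hp : Fact p.Prime] (h : p ∣ Nat.card G) : thompsonSubgroup p G ≠ ⊥ := by
  obtain ⟨x, hx⟩ := exists_prime_orderOf_dvd_card' p h
  obtain ⟨A, hA⟩ := exists_max (G := G) (p := p)
  have h1 : Nat.card (Subgroup.zpowers x) ≤ Nat.card A :=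
    hA.2 _ (ea_zpowers (by rw [← hx]; exact pow_orderOf_eq_one x))
  rw [Nat.card_zpowers, hx] at h1
  intro hbot
  have h2 : A = ⊥ := le_bot_iff.mp (hbot ▸ le_thompson hA)
  rw [h2, Subgroup.card_bot] at h1
  exact absurd h1 (not_le.mpr hp.out.one_lt)

/-- S0605 core. -/
theorem mem_of_centralizes [Finite G] {A : Subgroup G} (hA : A ∈ maxElementaryAbelianSubgroups p G) {x : G}
    (hx : ∀ a ∈ A, a * x = x * a) (ho : x ^ p = 1) : x ∈ A := by
  have hE : IsElementaryAbelian p (A ⊔ Subgroup.zpowers x) := by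
    refine ea_sup hA.1 (ea_zpowers ho) ?_
    rintro a ha _ ⟨n, rfl⟩
    exact ((Commute.zpow_right (hx a ha) n))
  have hle : A ≤ A ⊔ Subgroup.zpowers x := le_sup_left
  have hc := hA.2 _ hE
  have heq : A = A ⊔ Subgroup.zpowers x :=
    Subgroup.eq_of_le_of_card_ge hle hc
  rw [heq]
  exact Subgroup.mem_sup_right (Subgroup.mem_zpowers x)

/-- The order of an elementary abelian subgroup of `G` is a power of `p`: it is a `p`-group. -/
theorem ea_isPGroup {A : Subgroup G} (hA : IsElementaryAbelian p A) : IsPGroup p A := by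
  intro a
  refine ⟨1, ?_⟩
  apply Subtype.ext
  simpa using hA.2 a.1 a.2

end

section
universe u
variable {G : Type u} [Group G] [Finite G]

theorem card_sup_mul_card_inf (N A : Subgroup G) (hA : A ≤ Subgroup.normalizer (N : Set G)) :
    Nat.card (N ⊔ A : Subgroup G) * Nat.card (N ⊓ A : Subgroup G) = Nat.card N * Nat.card A := by
  let T := N ⊔ A
  have hNT : N ≤ T := le_sup_left
  have hAT : A ≤ T := le_sup_right
  have hTN : T ≤ Subgroup.normalizer (N : Set G) := sup_le Subgroup.le_normalizer hA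
  haveI hN' : (N.subgroupOf T).Normal :=
    (Subgroup.normal_subgroupOf_iff_le_normalizer hNT).mpr hTN
  have hcN : Nat.card (N.subgroupOf T) = Nat.card N :=
    Nat.card_congr (Subgroup.subgroupOfEquivOfLe hNT).toEquiv
  have hcA : Nat.card (A.subgroupOf T) = Nat.card A :=
    Nat.card_congr (Subgroup.subgroupOfEquivOfLe hAT).toEquiv
  have hcI : Nat.card (N.subgroupOf T ⊓ A.subgroupOf T : Subgroup T) = Nat.card (N ⊓ A : Subgroup G) := by
    have heq : N.subgroupOf T ⊓ A.subgroupOf T = (N ⊓ A).subgroupOf T := by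
      ext x
      simp [Subgroup.mem_subgroupOf]
    rw [heq]
    exact Nat.card_congr (Subgroup.subgroupOfEquivOfLe (inf_le_left.trans hNT)).toEquiv
  have hsup : A.subgroupOf T ⊔ N.subgroupOf T = ⊤ := by
    rw [← Subgroup.subgroupOf_sup hAT hNT, sup_comm]
    exact Subgroup.subgroupOf_self T
  have h1 : (N.subgroupOf T).relIndex (A.subgroupOf T ⊔ N.subgroupOf T) =
      (N.subgroupOf T).relIndex (A.subgroupOf T) := Subgroup.relIndex_sup_right _ _
  rw [hsup, Subgroup.relIndex_top_right] at h1
  have h2 := (N.subgroupOf T).card_mul_index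
  have h3 := Subgroup.relIndex_mul_relIndex (⊥ : Subgroup T) (N.subgroupOf T ⊓ A.subgroupOf T)
    (A.subgroupOf T) bot_le inf_le_right
  simp only [Subgroup.relIndex_bot_left] at h3
  have h4 : (N.subgroupOf T ⊓ A.subgroupOf T).relIndex (A.subgroupOf T) =
      (N.subgroupOf T).relIndex (A.subgroupOf T) := Subgroup.inf_relIndex_right _ _
  rw [h4, ← h1] at h3
  rw [h1] at h2
  rw [hcN] at h2
  rw [hcI, hcA] at h3
  show Nat.card T * _ = _
  rw [← h2, ← h3]
  rw [← h1]
  ring


end

section
universe u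
variable {G : Type u} [Group G] {p : ℕ}

theorem card_subgroupOf_of_le {A U : Subgroup G} (h : A ≤ U) : Nat.card (A.subgroupOf U) = Nat.card A :=
  Nat.card_congr (Subgroup.subgroupOfEquivOfLe h).toEquiv

/-- If a maximal EA of `G` lies in `U` then maximal EA's of `U` are maximal EA's of `G`. -/
theorem map_mem_max_of_le {U : Subgroup G} {A₀ : Subgroup G} (hA₀ : A₀ ∈ maxElementaryAbelianSubgroups p G)
    (hU : A₀ ≤ U) {B : Subgroup U} (hB : B ∈ maxElementaryAbelianSubgroups p U) :
    B.map U.subtype ∈ maxElementaryAbelianSubgroups p G := by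
  refine ⟨ea_map _ hB.1, fun C hC => ?_⟩
  have h1 : Nat.card (B.map U.subtype) = Nat.card B :=
    Subgroup.card_map_of_injective U.subtype_injective
  rw [h1]
  refine (hA₀.2 C hC).trans ?_
  have h2 := hB.2 (A₀.subgroupOf U) (ea_comap U.subtype U.subtype_injective hA₀.1)
  rwa [card_subgroupOf_of_le hU] at h2

theorem subgroupOf_mem_max {U : Subgroup G} {A : Subgroup G} (hA : A ∈ maxElementaryAbelianSubgroups p G)
    (hU : A ≤ U) : A.subgroupOf U ∈ maxElementaryAbelianSubgroups p U := by
  refine ⟨ea_comap U.subtype U.subtype_injective hA.1, fun B hB => ?_⟩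
  rw [card_subgroupOf_of_le hU]
  have h1 : Nat.card (B.map U.subtype) = Nat.card B :=
    Subgroup.card_map_of_injective U.subtype_injective
  rw [← h1]
  exact hA.2 _ (ea_map _ hB)

theorem thompsonOf_le {U : Subgroup G} {A₀ : Subgroup G} (hA₀ : A₀ ∈ maxElementaryAbelianSubgroups p G)
    (hU : A₀ ≤ U) : thompsonSubgroupOf p U ≤ thompsonSubgroup p G := by
  unfold thompsonSubgroupOf
  rw [Subgroup.map_le_iff_le_comap]
  refine sSup_le fun B hB => ?_
  rw [← Subgroup.map_le_iff_le_comap]
  exact le_sSup (map_mem_max_of_le hA₀ hU hB)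

theorem le_thompsonOf {U : Subgroup G} {A : Subgroup G} (hA : A ∈ maxElementaryAbelianSubgroups p G)
    (hU : A ≤ U) : A ≤ thompsonSubgroupOf p U := by
  have h1 : A = (A.subgroupOf U).map U.subtype := (Subgroup.map_subgroupOf_eq_of_le hU).symm
  rw [h1]
  exact Subgroup.map_mono (le_sSup (subgroupOf_mem_max hA hU))

theorem thompsonOf_eq [Finite G] (U : Subgroup G) (hU : thompsonSubgroup p G ≤ U) :
    thompsonSubgroupOf p U = thompsonSubgroup p G := by
  obtain ⟨A₀, hA₀⟩ := exists_max (G := G) (p := p)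
  refine le_antisymm (thompsonOf_le hA₀ ((le_thompson hA₀).trans hU)) ?_
  refine sSup_le fun A hA => ?_
  exact le_thompsonOf hA ((le_thompson hA).trans hU)

theorem thompson_eq_iSup_sylow [Finite G] [Fact p.Prime] :
    thompsonSubgroup p G = ⨆ S : Sylow p G, thompsonSubgroupOf p (S : Subgroup G) := by
  obtain ⟨A₀, hA₀⟩ := exists_max (G := G) (p := p)
  have hp₀ : IsPGroup p A₀ := ea_isPGroup hA₀.1
  obtain ⟨T, hT⟩ := hp₀.exists_le_sylow
  apply le_antisymm
  · refine sSup_le fun A hA => ?_
    obtain ⟨T', hT'⟩ := (ea_isPGroup hA.1).exists_le_sylow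
    exact (le_thompsonOf hA hT').trans (le_iSup (fun S : Sylow p G => thompsonSubgroupOf p (S : Subgroup G)) T')
  · refine iSup_le fun S => ?_
    obtain ⟨g, hg⟩ := MulAction.exists_smul_eq G T S
    refine thompsonOf_le (map_mem_max (MulAut.conj g) hA₀) ?_
    have : (S : Subgroup G) = (T : Subgroup G).map (MulAut.conj g).toMonoidHom := by
      rw [← hg]; rfl
    rw [this]
    exact Subgroup.map_mono hT

theorem mem_thompson_of_centralizes [Finite G] {x : G}
    (hx : x ∈ Subgroup.centralizer (thompsonSubgroup p G : Set G)) (ho : x ^ p = 1) :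
    x ∈ thompsonSubgroup p G := by
  obtain ⟨A, hA⟩ := exists_max (G := G) (p := p)
  refine le_thompson hA (mem_of_centralizes hA ?_ ho)
  intro a ha
  rw [Subgroup.mem_centralizer_iff] at hx
  exact (hx a (le_thompson hA ha))

theorem max_best_offender [Finite G] (V : Subgroup G) (hV : IsElementaryAbelian p V)
    (A : Subgroup G) (hA : A ∈ maxElementaryAbelianSubgroups p G) : IsBestOffenderOn p V A := by
  refine ⟨fun B hB => ?_, ?_, ?_⟩
  · have hBea : IsElementaryAbelian p B := ea_of_le hA.1 hB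
    have hCea : IsElementaryAbelian p (V ⊓ Subgroup.centralizer (B : Set G)) := ea_of_le hV inf_le_left
    have hcomm : ∀ a ∈ V ⊓ Subgroup.centralizer (B : Set G), ∀ b ∈ B, a * b = b * a := by
      intro a ha b hb
      have := (Subgroup.mem_inf.mp ha).2
      rw [Subgroup.mem_centralizer_iff] at this
      exact (this b hb).symm
    have hE := ea_sup hCea hBea hcomm
    have hcard := hA.2 _ hE
    have hnorm : B ≤ Subgroup.normalizer ((V ⊓ Subgroup.centralizer (B : Set G) : Subgroup G) : Set G) := by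
      intro b hb
      rw [Subgroup.mem_normalizer_iff]
      intro h
      constructor
      · intro hh
        have : b * h * b⁻¹ = h := by
          rw [← hcomm h hh b hb]
          group
        rw [this]
        exact hh
      · intro hh
        have h1 := hcomm _ hh b hb
        have h2 : h = b * h * b⁻¹ := by
          have h3 : b * h * b⁻¹ * b = b * (b * h * b⁻¹) := h1
          have h4 : b * h = b * (b * h * b⁻¹) := by
            rw [← h3]
            group
          exact mul_left_cancel h4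
        rw [h2]
        exact hh
    have h1 := card_sup_mul_card_inf _ _ hnorm
    have hle : (V ⊓ Subgroup.centralizer (B : Set G)) ⊓ B ≤ V ⊓ Subgroup.centralizer (A : Set G) := by
      intro x hx
      have hx1 := Subgroup.mem_inf.mp hx
      have hx2 := Subgroup.mem_inf.mp hx1.1
      refine Subgroup.mem_inf.mpr ⟨hx2.1, ?_⟩
      rw [Subgroup.mem_centralizer_iff]
      intro a ha
      exact ea_comm hA.1 ha (hB hx1.2)
    have h2 := Subgroup.card_le_of_le hle
    rw [mul_comm (Nat.card B), ← h1]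
    exact Nat.mul_le_mul hcard h2
  · rw [Subgroup.commutator_le]
    intro a ha b hb
    have : ⁅a, b⁆ = 1 := by
      rw [commutatorElement_eq_one_iff_mul_comm]
      exact ea_comm hA.1 ha hb
    rw [this]
    exact one_mem _
  · intro a ha
    rw [hA.1.2 a ha]
    exact one_mem _

theorem sInf_max_eq [Finite G] :
    sInf (maxElementaryAbelianSubgroups p G) = omegaCenterThompson p G ∧
      omegaCenterThompson p G = omegaOne p (Subgroup.centralizer (thompsonSubgroup p G : Set G)) := by
  have h1 : sInf (maxElementaryAbelianSubgroups p G) ≤ omegaCenterThompson p G := by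
    intro x hx
    rw [Subgroup.mem_sInf] at hx
    apply Subgroup.subset_closure
    obtain ⟨A, hA⟩ := exists_max (G := G) (p := p)
    refine ⟨Subgroup.mem_inf.mpr ⟨le_thompson hA (hx A hA), ?_⟩, hA.1.2 x (hx A hA)⟩
    have : thompsonSubgroup p G ≤ Subgroup.centralizer ({x} : Set G) := by
      refine sSup_le fun B hB => ?_
      intro y hy
      rw [Subgroup.mem_centralizer_singleton_iff]
      exact ea_comm hB.1 hy (hx B hB)
    rw [Subgroup.mem_centralizer_iff]
    intro y hy
    have := this hy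
    rw [Subgroup.mem_centralizer_singleton_iff] at this
    exact this
  have h2 : omegaCenterThompson p G ≤ omegaOne p (Subgroup.centralizer (thompsonSubgroup p G : Set G)) := by
    unfold omegaCenterThompson omegaOne
    apply Subgroup.closure_mono
    rintro x ⟨hx, hxp⟩
    exact ⟨(Subgroup.mem_inf.mp hx).2, hxp⟩
  have h3 : omegaOne p (Subgroup.centralizer (thompsonSubgroup p G : Set G)) ≤
      sInf (maxElementaryAbelianSubgroups p G) := by
    unfold omegaOne
    rw [Subgroup.closure_le]
    rintro x ⟨hx, hxp⟩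
    rw [SetLike.mem_coe, Subgroup.mem_sInf]
    intro A hA
    refine mem_of_centralizes hA ?_ hxp
    intro a ha
    have := hx
    rw [Subgroup.mem_centralizer_iff] at this
    exact this a (le_thompson hA ha)
  exact ⟨le_antisymm h1 (h2.trans h3), le_antisymm h2 (h3.trans h1)⟩

end

section
variable {p : ℕ}

theorem map_mem_max_equiv {P Q : Type*} [Group P] [Group Q] (e : P ≃* Q) {A : Subgroup P}
    (hA : A ∈ maxElementaryAbelianSubgroups p P) :
    A.map e.toMonoidHom ∈ maxElementaryAbelianSubgroups p Q := by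
  refine ⟨ea_map _ hA.1, fun B hB => ?_⟩
  have h1 : Nat.card (A.map e.toMonoidHom) = Nat.card A :=
    Subgroup.card_map_of_injective e.injective
  rw [h1]
  have h2 := hA.2 (B.map e.symm.toMonoidHom) (ea_map _ hB)
  have h3 : Nat.card (B.map e.symm.toMonoidHom) = Nat.card B :=
    Subgroup.card_map_of_injective e.symm.injective
  rwa [h3] at h2

theorem map_thompson_le_equiv {P Q : Type*} [Group P] [Group Q] (e : P ≃* Q) :
    (thompsonSubgroup p P).map e.toMonoidHom ≤ thompsonSubgroup p Q := by
  rw [Subgroup.map_le_iff_le_comap]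
  refine sSup_le fun A hA => ?_
  rw [← Subgroup.map_le_iff_le_comap]
  exact le_sSup (map_mem_max_equiv e hA)

theorem thompson_map_equiv {P Q : Type*} [Group P] [Group Q] (e : P ≃* Q) :
    (thompsonSubgroup p P).map e.toMonoidHom = thompsonSubgroup p Q := by
  apply le_antisymm (map_thompson_le_equiv e)
  have h := map_thompson_le_equiv (p := p) e.symm
  rw [Subgroup.map_le_iff_le_comap] at h
  intro x hx
  exact ⟨e.symm x, h hx, by simp⟩

variable {G : Type*} [Group G]

theorem thompsonOf_map (f : G ≃* G) (T : Subgroup G) :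
    (thompsonSubgroupOf p T).map f.toMonoidHom = thompsonSubgroupOf p (T.map f.toMonoidHom) := by
  unfold thompsonSubgroupOf
  let e : T ≃* T.map f.toMonoidHom := f.subgroupMap T
  rw [← thompson_map_equiv (p := p) e, Subgroup.map_map, Subgroup.map_map]
  rfl

theorem normalizer_thompsonOf (T : Subgroup G) :
    Subgroup.normalizer (T : Set G) ≤ Subgroup.normalizer (thompsonSubgroupOf p T : Set G) := by
  intro n hn
  have h1 : ∀ m ∈ Subgroup.normalizer (T : Set G), ∀ x ∈ thompsonSubgroupOf p T,
      m * x * m⁻¹ ∈ thompsonSubgroupOf p T := by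
    intro m hm x hx
    have hT : T.map (MulAut.conj m).toMonoidHom = T := by
      apply le_antisymm
      · rintro _ ⟨t, ht, rfl⟩
        exact (Subgroup.mem_normalizer_iff.mp hm t).mp ht
      · intro t ht
        refine ⟨m⁻¹ * t * m, ?_, by simp [mul_assoc]⟩
        have := (Subgroup.mem_normalizer_iff.mp (Subgroup.inv_mem _ hm) t).mp ht
        simpa using this
    have h2 := thompsonOf_map (p := p) (MulAut.conj m) T
    rw [hT] at h2
    rw [← h2]
    exact ⟨x, hx, rfl⟩
  rw [Subgroup.mem_normalizer_iff]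
  intro x
  constructor
  · exact h1 n hn x
  · intro hx
    have := h1 n⁻¹ (Subgroup.inv_mem _ hn) _ hx
    simpa [mul_assoc] using this

theorem thompsonOf_sylow_le [Finite G] [Fact p.Prime] (S : Sylow p G) :
    thompsonSubgroupOf p (S : Subgroup G) ≤ thompsonSubgroup p G := by
  rw [thompson_eq_iSup_sylow]
  exact le_iSup (fun S : Sylow p G => thompsonSubgroupOf p (S : Subgroup G)) S

/-- `J(U) = J(T)` when `J(T) ≤ U ≤ T`. -/
theorem thompsonOf_eq_of_le [Finite G] {U T : Subgroup G} (hUT : U ≤ T) (h : thompsonSubgroupOf p T ≤ U) :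
    thompsonSubgroupOf p U = thompsonSubgroupOf p T := by
  let U₀ : Subgroup T := U.subgroupOf T
  have h0 : thompsonSubgroup p T ≤ U₀ := by
    intro x hx
    exact h ⟨x, hx, rfl⟩
  have h1 := thompsonOf_eq U₀ h0
  let e : U₀ ≃* U := Subgroup.subgroupOfEquivOfLe hUT
  have h2 := thompson_map_equiv (p := p) e
  unfold thompsonSubgroupOf at h1 ⊢
  rw [← h1, ← h2, Subgroup.map_map, Subgroup.map_map]
  rfl

end

end Cfsg.Agent.Lib.ThompsonBasic
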