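import Mathlib
import Cfsg.Prelude.Def_PLocal
import Cfsg.Agent.Lib.H6PGroup
import Cfsg.Agent.Lib.PGroupBasic
import Cfsg.Agent.Lib.DStar
import Cfsg.Agent.Lib.ThompsonBasic

/-! Normal elementary abelian subgroups of order `p²` in `p`-groups, `p` odd. -/

set_option linter.all false

namespace Cfsg.Agent.Lib.NormalPP

open Cfsg
open scoped commutatorElement

variable {R : Type*} [Group R] [Finite R] {p : ℕ} [hp : Fact p.Prime]

theorem exists_order_p_in_center (hR : IsPGroup p R) (N : Subgroup R) [N.Normal] (hN : N ≠ ⊥) :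
    ∃ z ∈ N, z ∈ Subgroup.center R ∧ orderOf z = p := by
  obtain ⟨x, hxN, hx1, hxc⟩ := Cfsg.Agent.Lib.PGroupBasic.exists_ne_one_mem_center_of_normal hR N hN
  obtain ⟨k, hk⟩ := (IsPGroup.iff_orderOf.mp hR) x
  have hk0 : k ≠ 0 := by
    rintro rfl
    rw [pow_zero, orderOf_eq_one_iff] at hk
    exact hx1 hk
  refine ⟨x ^ p ^ (k - 1), N.pow_mem hxN _, Subgroup.pow_mem _ hxc _, ?_⟩
  have h1 : orderOf x = p ^ (k - 1) * p := by
    rw [hk, ← pow_succ]
    congr 1
    omega
  have hpos : 0 < p ^ (k - 1) := pow_pos hp.out.pos _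
  rw [orderOf_pow_of_dvd (by positivity) ⟨p, h1⟩]
  rw [h1]
  exact Nat.mul_div_cancel_left _ hpos

theorem exists_normal_card_sq (hR : IsPGroup p R) (Ω : Subgroup R) [hΩ : Ω.Normal] (hc : p < Nat.card Ω) :
    ∃ A : Subgroup R, A ≤ Ω ∧ A.Normal ∧ Nat.card A = p ^ 2 := by
  classical
  have hpos := hp.out.pos
  have hne : Ω ≠ ⊥ := by
    rintro rfl
    rw [Subgroup.card_bot] at hc
    exact absurd hc (by have := hp.out.one_lt; omega)
  obtain ⟨z, hzΩ, hzc, hzo⟩ := exists_order_p_in_center hR Ω hne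
  let Z := Subgroup.zpowers z
  haveI hZn : Z.Normal := by
    constructor
    rintro _ ⟨k, rfl⟩ g
    have h1 : Commute g z := (Subgroup.mem_center_iff.mp hzc g)
    have h2 : g * (z ^ k) * g⁻¹ = z ^ k := by
      rw [(h1.zpow_right k).eq]
      group
    show g * (z ^ k) * g⁻¹ ∈ Z
    rw [h2]
    exact ⟨k, rfl⟩
  have hcZ : Nat.card Z = p := by
    show Nat.card (Subgroup.zpowers z) = p
    rw [Nat.card_zpowers, hzo]
  have hZΩ : Z ≤ Ω := by
    show Subgroup.zpowers z ≤ Ω
    rw [Subgroup.zpowers_le]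
    exact hzΩ
  let f := QuotientGroup.mk' Z
  have hf : Function.Surjective f := QuotientGroup.mk'_surjective Z
  haveI hbar : (Ω.map f).Normal := hΩ.map f hf
  have hne2 : Ω.map f ≠ ⊥ := by
    intro h
    have hle : Ω ≤ Z := by
      intro x hx
      have h1 : f x ∈ Ω.map f := ⟨x, hx, rfl⟩
      rw [h, Subgroup.mem_bot] at h1
      exact (QuotientGroup.eq_one_iff x).mp h1
    have := Subgroup.card_le_of_le hle
    omega
  have hRbar : IsPGroup p (R ⧸ Z) := hR.to_quotient Z
  obtain ⟨w, hwΩ, hwc, hwo⟩ := exists_order_p_in_center hRbar (Ω.map f) hne2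
  obtain ⟨w₀, hw₀, hw₀e⟩ := hwΩ
  have hwn : (Subgroup.zpowers w).Normal := by
    constructor
    rintro _ ⟨k, rfl⟩ g
    have h1 : Commute g w := (Subgroup.mem_center_iff.mp hwc g)
    have h2 : g * (w ^ k) * g⁻¹ = w ^ k := by
      rw [(h1.zpow_right k).eq]
      group
    show g * (w ^ k) * g⁻¹ ∈ Subgroup.zpowers w
    rw [h2]
    exact ⟨k, rfl⟩
  refine ⟨(Subgroup.zpowers w).comap f, ?_, hwn.comap f, ?_⟩
  · intro a ha
    obtain ⟨k, hk⟩ := ha
    have h1 : f ((w₀ ^ k)⁻¹ * a) = 1 := by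
      rw [map_mul, map_inv, map_zpow, hw₀e]
      show (w ^ k)⁻¹ * f a = 1
      rw [← hk]
      simp
    have h2 : (w₀ ^ k)⁻¹ * a ∈ Z := (QuotientGroup.eq_one_iff _).mp h1
    have h3 := Ω.mul_mem (Ω.zpow_mem hw₀ k) (hZΩ h2)
    simpa using h3
  · have h1 := Subgroup.card_mul_index ((Subgroup.zpowers w).comap f)
    rw [Subgroup.index_comap_of_surjective _ hf] at h1
    have h2 := Subgroup.card_mul_index (Subgroup.zpowers w)
    rw [Nat.card_zpowers, hwo] at h2
    have h3 : Nat.card (R ⧸ Z) * Nat.card Z = Nat.card R :=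
      (Subgroup.card_eq_card_quotient_mul_card_subgroup Z).symm
    rw [hcZ] at h3
    have hidx : 0 < (Subgroup.zpowers w).index := by
      apply Nat.pos_of_ne_zero
      exact Subgroup.index_ne_zero_of_finite
    apply Nat.eq_of_mul_eq_mul_right hidx
    rw [h1, ← h3, ← h2, sq]
    ring

/-- If `x ↦ x^p` is a homomorphism on a noncyclic `p`-group, its kernel has more than `p` elements. -/
theorem card_ker_pow_gt {H : Type*} [Group H] [Finite H] (hH : IsPGroup p H) (hnc : ¬ IsCyclic H)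
    (hhom : ∀ a b : H, (a * b) ^ p = a ^ p * b ^ p) :
    ∃ K : Subgroup H, (∀ x, x ∈ K ↔ x ^ p = 1) ∧ p < Nat.card K := by
  classical
  let π : H →* H := { toFun := fun x => x ^ p, map_one' := one_pow _, map_mul' := hhom }
  refine ⟨π.ker, fun x => MonoidHom.mem_ker, ?_⟩
  by_contra hle
  push Not at hle
  have hnt : Nontrivial H := by
    by_contra hn
    rw [not_nontrivial_iff_subsingleton] at hn
    exact hnc inferInstance
  have h1 := Subgroup.card_mul_index π.ker
  rw [Subgroup.index_ker] at h1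
  have h2 := Subgroup.card_mul_index π.range
  have hidx : π.range.index = Nat.card π.ker := by
    have hposr : 0 < Nat.card π.range := Nat.card_pos
    apply Nat.eq_of_mul_eq_mul_left hposr
    rw [h2, ← h1, mul_comm]
  obtain ⟨n, hn⟩ := (hH.index π.range)
  have hner : π.range ≠ ⊤ := by
    intro htop
    have hsurj : Function.Surjective π := MonoidHom.range_eq_top.mp htop
    have hinj : Function.Injective π := Finite.injective_iff_surjective.mpr hsurj
    obtain ⟨m, hm, hcard⟩ := hH.nontrivial_iff_card.mp hnt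
    obtain ⟨x, hx⟩ := exists_prime_orderOf_dvd_card' p (show p ∣ Nat.card H by
      rw [hcard]
      exact dvd_pow_self p (by omega))
    have hx1 : x ^ p = 1 := by
      rw [← hx]
      exact pow_orderOf_eq_one x
    have : x = 1 := hinj (show x ^ p = 1 ^ p by rw [hx1, one_pow])
    rw [this, orderOf_one] at hx
    exact hp.out.one_lt.ne hx
  have hn0 : n ≠ 0 := by
    rintro rfl
    rw [pow_zero, Subgroup.index_eq_one] at hn
    exact hner hn
  have hn1 : π.range.index = p := by
    have h3 : p ^ n ≤ p := by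
      rw [← hn, hidx]
      exact hle
    have h4 : n ≤ 1 := by
      by_contra h5
      have : p ^ 2 ≤ p ^ n := Nat.pow_le_pow_right hp.out.pos (by omega)
      have h6 : p * p ≤ p := by
        calc p * p = p ^ 2 := (sq p).symm
          _ ≤ _ := this.trans h3
      have := hp.out.two_le
      nlinarith
    have : n = 1 := by omega
    rw [hn, this, pow_one]
  obtain ⟨h, hh⟩ : ∃ h, h ∉ π.range := by
    by_contra hcon
    push Not at hcon
    exact hner (eq_top_iff.mpr fun x _ => hcon x)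
  have hsup : Subgroup.zpowers h ⊔ π.range = ⊤ := by
    have hlt : π.range < Subgroup.zpowers h ⊔ π.range :=
      lt_of_le_of_ne le_sup_right (fun heq => hh (heq ▸ Subgroup.mem_sup_left (Subgroup.mem_zpowers h)))
    have h5 := Subgroup.relIndex_mul_index (le_sup_right : π.range ≤ Subgroup.zpowers h ⊔ π.range)
    rw [hn1] at h5
    have h6 : (π.range).relIndex (Subgroup.zpowers h ⊔ π.range) ≠ 1 := by
      intro h7
      rw [Subgroup.relIndex_eq_one] at h7
      exact absurd (le_antisymm h7 hlt.le) hlt.ne'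
    have h7 : (Subgroup.zpowers h ⊔ π.range).index = 1 := by
      have hd : (π.range).relIndex (Subgroup.zpowers h ⊔ π.range) ∣ p := ⟨_, h5.symm⟩
      rcases (Nat.dvd_prime hp.out).mp hd with h8 | h8
      · exact absurd h8 h6
      · rw [h8] at h5
        exact Nat.eq_of_mul_eq_mul_left hp.out.pos (by rw [h5, mul_one])
    exact Subgroup.index_eq_one.mp h7
  have hfr : π.range ≤ frattini H := by
    rintro _ ⟨x, rfl⟩
    exact Cfsg.Agent.Lib.H6PGroup.pow_mem_frattini hH x
  have hsup2 : Subgroup.zpowers h ⊔ frattini H = ⊤ :=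
    eq_top_iff.mpr (hsup ▸ sup_le_sup_left hfr _)
  have htop := frattini_nongenerating hsup2
  exact hnc (isCyclic_iff_exists_zpowers_eq_top.mpr ⟨h, htop⟩)

/-- Arithmetic of an automorphism of `p`-power order of a cyclic `p`-group, `p` odd. -/
theorem comm_facts (hp2 : p ≠ 2) {u x : R} (hu : ∃ n, orderOf u = p ^ n)
    (hxu : x * u * x⁻¹ ∈ Subgroup.zpowers u) (hxp : x ^ p * u = u * x ^ p) :
    (x * u * x⁻¹ * u⁻¹) ^ p = 1 ∧ (x * u * x⁻¹ * u⁻¹) * u = u * (x * u * x⁻¹ * u⁻¹) ∧
      (x * u * x⁻¹ * u⁻¹) * x = x * (x * u * x⁻¹ * u⁻¹) := by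
  classical
  obtain ⟨n, hn⟩ := hu
  have hfo : 0 < orderOf u := orderOf_pos u
  have h0 : x * u * x⁻¹ ∈ Submonoid.powers u := by
    rw [← mem_powers_iff_mem_zpowers] at hxu
    exact hxu
  obtain ⟨k₀, hk₀⟩ := h0
  obtain ⟨k, hk1, hk⟩ : ∃ k : ℕ, 1 ≤ k ∧ u ^ k = x * u * x⁻¹ :=
    ⟨k₀ + orderOf u, by omega, by rw [pow_add, pow_orderOf_eq_one, mul_one]; exact hk₀⟩
  have hconj : ∀ i : ℕ, x ^ i * u * (x ^ i)⁻¹ = u ^ (k ^ i) := by
    intro i
    induction i with
    | zero => simp
    | succ i ih =>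
      calc x ^ (i + 1) * u * (x ^ (i + 1))⁻¹ = x * (x ^ i * u * (x ^ i)⁻¹) * x⁻¹ := by
            rw [pow_succ']
            group
        _ = x * (u ^ (k ^ i)) * x⁻¹ := by rw [ih]
        _ = (x * u * x⁻¹) ^ (k ^ i) := (conj_pow).symm
        _ = (u ^ k) ^ (k ^ i) := by rw [hk]
        _ = u ^ (k ^ (i + 1)) := by rw [← pow_mul, pow_succ']
  have hu1 : u ^ (k ^ p) = u := by
    rw [← hconj p, hxp]
    group
  have hk_pos : 1 ≤ k ^ p := Nat.one_le_pow _ _ hk1
  have hdvd : orderOf u ∣ k ^ p - 1 := by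
    rw [orderOf_dvd_iff_pow_eq_one]
    have : u ^ (k ^ p - 1) * u = u := by
      rw [← pow_succ, Nat.sub_add_cancel hk_pos, hu1]
    exact mul_eq_right.mp this
  have hc : x * u * x⁻¹ * u⁻¹ = u ^ (k - 1) := by
    rw [← hk]
    obtain ⟨j, rfl⟩ : ∃ j, k = j + 1 := ⟨k - 1, by omega⟩
    simp [pow_succ]
  rw [hc]
  have hcu : u ^ (k - 1) * u = u * u ^ (k - 1) := (Commute.pow_left (Commute.refl u) _).eq
  have hxconj : x * u ^ (k - 1) * x⁻¹ = (u ^ k) ^ (k - 1) := by
    rw [hk]
    exact (conj_pow).symm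
  by_cases hn0 : n = 0
  · have hu1' : u = 1 := by
      rw [hn0, pow_zero, orderOf_eq_one_iff] at hn
      exact hn
    subst hu1'
    simp
  have hpdvd : p ∣ k ^ p - 1 := (dvd_pow_self p hn0).trans (hn ▸ hdvd)
  have hk_mod : p ∣ k - 1 := by
    have h1 : ((k ^ p - 1 : ℕ) : ZMod p) = 0 := (ZMod.natCast_eq_zero_iff _ _).mpr hpdvd
    rw [Nat.cast_sub hk_pos, Nat.cast_pow, ZMod.pow_card, Nat.cast_one] at h1
    rw [← ZMod.natCast_eq_zero_iff, Nat.cast_sub hk1, Nat.cast_one]
    exact h1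
  by_cases hk2 : k = 1
  · subst hk2
    simp
  have hk3 : 1 < k := by omega
  have hnotdvd : ¬ p ∣ k := by
    intro h
    have h2 : p ∣ k - (k - 1) := Nat.dvd_sub h hk_mod
    rw [show k - (k - 1) = 1 by omega] at h2
    exact hp.out.one_lt.ne' (Nat.dvd_one.mp h2)
  have hodd : Odd p := hp.out.odd_of_ne_two hp2
  have hlte := padicValNat.pow_sub_pow (p := p) hodd hk3 hk_mod hnotdvd hp.out.ne_zero
  rw [one_pow, padicValNat_self, ] at hlte
  have hne0 : k ^ p - 1 ≠ 0 := by
    have : k < k ^ p := by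
      calc k = k ^ 1 := (pow_one k).symm
        _ < k ^ p := Nat.pow_lt_pow_right hk3 hp.out.one_lt
    omega
  have hle : n ≤ padicValNat p (k ^ p - 1) :=
    (padicValNat_dvd_iff_le hne0).mp (hn ▸ hdvd)
  have hdvd2 : p ^ (n - 1) ∣ k - 1 := by
    have hne1 : k - 1 ≠ 0 := by omega
    rw [padicValNat_dvd_iff_le hne1]
    omega
  obtain ⟨m, hm⟩ := hdvd2
  have hpn : p ^ (n - 1) * p = p ^ n := by
    rw [← pow_succ]
    congr 1
    omega
  have hpow1 : u ^ p ^ n = 1 := by
    rw [← hn]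
    exact pow_orderOf_eq_one u
  refine ⟨?_, hcu, ?_⟩
  · rw [← pow_mul, hm]
    have : p ^ (n - 1) * m * p = p ^ n * m := by
      rw [← hpn]
      ring
    rw [this, pow_mul, hpow1, one_pow]
  · obtain ⟨m', hm'⟩ := hk_mod
    have h5 : x * u ^ (k - 1) * x⁻¹ = u ^ (k - 1) := by
      rw [hxconj, ← pow_mul]
      obtain ⟨j, rfl⟩ : ∃ j, k = j + 1 := ⟨k - 1, by omega⟩
      simp only [Nat.add_sub_cancel] at *
      have h6 : (j + 1) * j = j + j * j := by ring
      rw [h6, pow_add]
      have h7 : j * j = p ^ n * (m * m') := by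
        calc j * j = (p ^ (n - 1) * m) * (p * m') := by rw [← hm, ← hm']
          _ = (p ^ (n - 1) * p) * (m * m') := by ring
          _ = _ := by rw [hpn]
      rw [h7, pow_mul, hpow1, one_pow, mul_one]
    calc u ^ (k - 1) * x = (x * u ^ (k - 1) * x⁻¹) * x := by rw [h5]
      _ = _ := by group

section aux
variable {X : Type*} [Group X]
theorem pow_comm_aux {a b w : X} (hb : b * a = w * a * b) (hwb : w * b = b * w) (n : ℕ) :
    b ^ n * a = w ^ n * a * b ^ n := by
  induction n with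
  | zero => simp
  | succ n ih =>
    have h1 : b * w ^ n = w ^ n * b := ((Commute.pow_left (show Commute w b from hwb) n).eq).symm
    calc b ^ (n + 1) * a = b * (b ^ n * a) := by rw [pow_succ']; group
      _ = b * (w ^ n * a * b ^ n) := by rw [ih]
      _ = (b * w ^ n) * a * b ^ n := by group
      _ = w ^ n * b * a * b ^ n := by rw [h1]
      _ = w ^ n * (b * a) * b ^ n := by group
      _ = w ^ n * (w * a * b) * b ^ n := by rw [hb]
      _ = w ^ (n + 1) * a * b ^ (n + 1) := by
        rw [pow_succ w n, pow_succ' b n]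
        group

theorem mul_pow_aux {a b w : X} (hb : b * a = w * a * b) (hwa : w * a = a * w) (hwb : w * b = b * w)
    (n : ℕ) : (a * b) ^ n = w ^ n.choose 2 * a ^ n * b ^ n := by
  induction n with
  | zero => simp
  | succ n ih =>
    have h1 : n.succ.choose 2 = n.choose 2 + n := by
      rw [Nat.choose_succ_succ' n 1, Nat.choose_one_right, add_comm]
    have h2 : a ^ n * w ^ n = w ^ n * a ^ n :=
      ((Commute.pow_pow (show Commute w a from hwa) n n).eq).symm
    calc (a * b) ^ (n + 1) = (a * b) ^ n * (a * b) := pow_succ _ _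
      _ = w ^ n.choose 2 * a ^ n * b ^ n * (a * b) := by rw [ih]
      _ = w ^ n.choose 2 * a ^ n * (b ^ n * a) * b := by group
      _ = w ^ n.choose 2 * a ^ n * (w ^ n * a * b ^ n) * b := by rw [pow_comm_aux hb hwb]
      _ = w ^ n.choose 2 * (a ^ n * w ^ n) * a * b ^ n * b := by group
      _ = w ^ n.choose 2 * (w ^ n * a ^ n) * a * b ^ n * b := by rw [h2]
      _ = w ^ (n.choose 2 + n) * (a ^ n * a) * (b ^ n * b) := by
        rw [pow_add]
        group
      _ = _ := by rw [← h1, pow_succ a n, pow_succ b n]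


end aux

theorem of_hom (hR : IsPGroup p R) (H : Subgroup R) [hHn : H.Normal] (hnc : ¬ IsCyclic H)
    (hhom : ∀ a b : H, (a * b) ^ p = a ^ p * b ^ p) :
    ∃ A : Subgroup R, A ≤ H ∧ A.Normal ∧ IsElementaryAbelian p A ∧ Nat.card A = p ^ 2 := by
  classical
  obtain ⟨K, hK, hcard⟩ := card_ker_pow_gt (hR.to_subgroup H) hnc hhom
  let Ω := K.map H.subtype
  haveI hΩ : Ω.Normal := by
    constructor
    rintro _ ⟨k, hk, rfl⟩ g
    have hg : g * (k : R) * g⁻¹ ∈ H := hHn.conj_mem _ k.2 g
    refine ⟨⟨_, hg⟩, (hK _).mpr ?_, rfl⟩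
    apply Subtype.ext
    show (g * (k : R) * g⁻¹) ^ p = 1
    have h2 : (k : R) ^ p = 1 := congrArg Subtype.val ((hK k).mp hk)
    rw [conj_pow, h2]
    group
  have hcΩ : Nat.card Ω = Nat.card K := Subgroup.card_map_of_injective H.subtype_injective
  obtain ⟨A, hA, hAn, hAc⟩ := exists_normal_card_sq hR Ω (by rw [hcΩ]; exact hcard)
  refine ⟨A, hA.trans (Subgroup.map_subtype_le _), hAn, ?_, hAc⟩
  refine ⟨⟨⟨IsPGroup.commutative_of_card_eq_prime_sq hAc⟩⟩, ?_⟩
  intro a ha
  obtain ⟨k, hk, rfl⟩ := hA ha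
  exact congrArg Subtype.val ((hK k).mp hk)

theorem hom_of_gens (hp2 : p ≠ 2) {u x c : R} (hc : c = x * u * x⁻¹ * u⁻¹) (hcp : c ^ p = 1)
    (hcu : c * u = u * c) (hcx : c * x = x * c) :
    ∀ a b : Subgroup.closure ({u, x} : Set R), (a * b) ^ p = a ^ p * b ^ p := by
  classical
  set K := Subgroup.closure ({u, x} : Set R) with hK
  have hu : u ∈ K := Subgroup.subset_closure (by simp)
  have hx : x ∈ K := Subgroup.subset_closure (by simp)
  have hcK : c ∈ K := by
    rw [hc]
    exact K.mul_mem (K.mul_mem (K.mul_mem hx hu) (K.inv_mem hx)) (K.inv_mem hu)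
  have hcen : K ≤ Subgroup.centralizer ({c} : Set R) := by
    rw [hK, Subgroup.closure_le]
    rintro y (rfl | hy)
    · show y ∈ Subgroup.centralizer ({c} : Set R)
      rw [Subgroup.mem_centralizer_singleton_iff]
      exact hcu.symm
    · rw [Set.mem_singleton_iff] at hy
      subst hy
      show y ∈ Subgroup.centralizer ({c} : Set R)
      rw [Subgroup.mem_centralizer_singleton_iff]
      exact hcx.symm
  let c' : K := ⟨c, hcK⟩
  have hc'cen : ∀ y : K, y * c' = c' * y := by
    intro y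
    apply Subtype.ext
    have := hcen y.2
    rw [Subgroup.mem_centralizer_singleton_iff] at this
    exact this
  let T : Subgroup K := Subgroup.zpowers c'
  haveI hTn : T.Normal := by
    constructor
    rintro _ ⟨k, rfl⟩ g
    have h1 : Commute g c' := hc'cen g
    have h2 : g * (c' ^ k) * g⁻¹ = c' ^ k := by
      rw [(h1.zpow_right k).eq]
      group
    show g * (c' ^ k) * g⁻¹ ∈ T
    rw [h2]
    exact ⟨k, rfl⟩
  let Y' : Set K := (↑) ⁻¹' ({u, x} : Set R)
  have hcl : Subgroup.closure Y' = ⊤ := Subgroup.closure_closure_coe_preimage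
  have hcomm : ⁅Subgroup.closure Y', Subgroup.closure Y'⁆ ≤ T := by
    apply Cfsg.Agent.Lib.DStar.commutator_closure_le
    have hc'def : ∀ s t : K, (s : R) = x → (t : R) = u → s * t * s⁻¹ * t⁻¹ = c' := by
      intro s t hs ht
      apply Subtype.ext
      show (s : R) * t * (s : R)⁻¹ * (t : R)⁻¹ = c
      rw [hs, ht, hc]
    have heq : ∀ s t : K, (s : R) = t → s * t * s⁻¹ * t⁻¹ = 1 := by
      intro s t h
      have : s = t := Subtype.ext h
      rw [this]
      group
    rintro s (hs | hs) t (ht | ht)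
    · rw [heq s t (hs.trans ht.symm)]
      exact one_mem _
    · have h1 := hc'def t s ht hs
      have h2 : s * t * s⁻¹ * t⁻¹ = (t * s * t⁻¹ * s⁻¹)⁻¹ := by group
      rw [h2, h1]
      exact inv_mem (Subgroup.mem_zpowers c')
    · rw [hc'def s t hs ht]
      exact Subgroup.mem_zpowers c'
    · rw [heq s t (hs.trans ht.symm)]
      exact one_mem _
  rw [hcl] at hcomm
  intro a b
  have hw : b * a * b⁻¹ * a⁻¹ ∈ T := hcomm (Subgroup.commutator_mem_commutator trivial trivial)
  obtain ⟨k, hk⟩ := hw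
  set w := b * a * b⁻¹ * a⁻¹ with hwdef
  have hw' : w = c' ^ k := hk.symm
  have hwcen : ∀ y : K, w * y = y * w := by
    intro y
    rw [hw']
    exact (Commute.zpow_left (show Commute c' y from (hc'cen y).symm) k).eq
  have hb : b * a = w * a * b := by
    rw [hwdef]
    group
  have hc'p : c' ^ p = 1 := by
    apply Subtype.ext
    exact hcp
  have hwp : w ^ p = 1 := by
    rw [hw', ← zpow_natCast, ← zpow_mul, mul_comm, zpow_mul, zpow_natCast, hc'p, one_zpow]
  have h5 : p ∣ p.choose 2 :=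
    hp.out.dvd_choose_self (by norm_num) (lt_of_le_of_ne hp.out.two_le (Ne.symm hp2))
  obtain ⟨m, hm⟩ := h5
  rw [mul_pow_aux hb (hwcen a) (hwcen b) p, hm, pow_mul, hwp, one_pow, one_mul]

theorem normal_sup {U : Subgroup R} [hU : U.Normal] {x : R} (h : ∀ r, r * x * r⁻¹ * x⁻¹ ∈ U) :
    (U ⊔ Subgroup.zpowers x).Normal := by
  constructor
  intro n hn g
  have hle : U ⊔ Subgroup.zpowers x ≤ (U ⊔ Subgroup.zpowers x).comap (MulAut.conj g).toMonoidHom := by
    refine sup_le ?_ ?_
    · intro y hy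
      exact Subgroup.mem_sup_left (hU.conj_mem y hy g)
    · rw [Subgroup.zpowers_le]
      show g * x * g⁻¹ ∈ U ⊔ Subgroup.zpowers x
      have h1 : g * x * g⁻¹ = (g * x * g⁻¹ * x⁻¹) * x := by group
      rw [h1]
      exact Subgroup.mul_mem _ (Subgroup.mem_sup_left (h g)) (Subgroup.mem_sup_right (Subgroup.mem_zpowers x))
  exact hle hn

theorem main (hp2 : p ≠ 2) (hR : IsPGroup p R) (S : Subgroup R) [hSn : S.Normal] (hS : ¬ IsCyclic S) :
    ∃ A : Subgroup R, A ≤ S ∧ A.Normal ∧ IsElementaryAbelian p A ∧ Nat.card A = p ^ 2 := by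
  classical
  let Fam : Set (Subgroup R) := {U | U ≤ S ∧ U.Normal ∧ ∀ x ∈ U, ∀ y ∈ U, x * y = y * x}
  have hne : Fam.Nonempty := ⟨⊥, bot_le, inferInstance, fun x hx y hy => by
    rw [Subgroup.mem_bot] at hx hy
    rw [hx, hy]⟩
  obtain ⟨U, ⟨hUS, hUn, hUc⟩, hmax⟩ := Set.exists_max_image Fam (fun U => Nat.card U) (Set.toFinite _) hne
  haveI := hUn
  by_cases hUcyc : IsCyclic U
  · obtain ⟨u₀, hu₀⟩ := hUcyc.exists_generator
    let u : R := u₀
    have hUz : U = Subgroup.zpowers u := by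
      apply le_antisymm
      · intro y hy
        obtain ⟨k, hk⟩ := hu₀ ⟨y, hy⟩
        exact ⟨k, congrArg Subtype.val hk⟩
      · rw [Subgroup.zpowers_le]
        exact u₀.2
    have hF : ∀ N : Subgroup R, N.Normal → ¬ N ≤ U →
        ∃ x ∈ N, x ∉ U ∧ (∀ r, r * x * r⁻¹ * x⁻¹ ∈ U) ∧ x ^ p ∈ U := by
      intro N hN hNU
      let f := QuotientGroup.mk' U
      haveI hbar : (N.map f).Normal := hN.map f (QuotientGroup.mk'_surjective U)
      have hne2 : N.map f ≠ ⊥ := by
        intro h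
        apply hNU
        intro x hx
        have h1 : f x ∈ N.map f := ⟨x, hx, rfl⟩
        rw [h, Subgroup.mem_bot] at h1
        exact (QuotientGroup.eq_one_iff x).mp h1
      obtain ⟨w, ⟨x, hx, rfl⟩, hwc, hwo⟩ := exists_order_p_in_center (hR.to_quotient U) (N.map f) hne2
      refine ⟨x, hx, ?_, ?_, ?_⟩
      · intro hxU
        have : f x = 1 := (QuotientGroup.eq_one_iff x).mpr hxU
        rw [this, orderOf_one] at hwo
        exact hp.out.one_lt.ne hwo
      · intro r
        apply (QuotientGroup.eq_one_iff _).mp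
        show f (r * x * r⁻¹ * x⁻¹) = 1
        have h1 := Subgroup.mem_center_iff.mp hwc (f r)
        rw [map_mul, map_mul, map_mul, map_inv, map_inv, h1]
        group
      · apply (QuotientGroup.eq_one_iff _).mp
        show f (x ^ p) = 1
        rw [map_pow, ← hwo]
        exact pow_orderOf_eq_one _
    have ha : S ⊓ Subgroup.centralizer (U : Set R) ≤ U := by
      by_contra hcon
      have hNn : (S ⊓ Subgroup.centralizer (U : Set R)).Normal := inferInstance
      obtain ⟨x, hxN, hxU, hcomm, -⟩ := hF _ hNn hcon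
      obtain ⟨hxS, hxC⟩ := Subgroup.mem_inf.mp hxN
      rw [Subgroup.mem_centralizer_iff] at hxC
      have hfam : U ⊔ Subgroup.zpowers x ∈ Fam := by
        refine ⟨sup_le hUS ?_, normal_sup hcomm, ?_⟩
        · rw [Subgroup.zpowers_le]
          exact hxS
        · refine Cfsg.Agent.Lib.ThompsonBasic.sup_comm_of_comm hUc ?_ ?_
          · rintro _ ⟨m, rfl⟩ _ ⟨n, rfl⟩
            show x ^ m * x ^ n = x ^ n * x ^ m
            rw [← zpow_add, ← zpow_add, add_comm]
          · rintro a ha _ ⟨n, rfl⟩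
            exact (Commute.zpow_right (hxC a ha) n)
      have hcard := hmax _ hfam
      have hle : U ≤ U ⊔ Subgroup.zpowers x := le_sup_left
      have heq := Subgroup.eq_of_le_of_card_ge hle hcard
      apply hxU
      rw [heq]
      exact Subgroup.mem_sup_right (Subgroup.mem_zpowers x)
    have hb : ¬ S ≤ U := by
      intro hSU
      have : S = U := le_antisymm hSU hUS
      rw [this] at hS
      exact hS hUcyc
    obtain ⟨x, hxS, hxU, hcomm, hxp⟩ := hF S hSn hb
    have hHeq : U ⊔ Subgroup.zpowers x = Subgroup.closure ({u, x} : Set R) := by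
      rw [hUz, Subgroup.zpowers_eq_closure, Subgroup.zpowers_eq_closure, ← Subgroup.closure_union]
      rfl
    haveI hHn : (Subgroup.closure ({u, x} : Set R)).Normal := by
      rw [← hHeq]
      exact normal_sup hcomm
    have hxnc : ∃ v ∈ U, v * x ≠ x * v := by
      by_contra hcon
      push Not at hcon
      apply hxU
      apply ha
      refine Subgroup.mem_inf.mpr ⟨hxS, ?_⟩
      rw [Subgroup.mem_centralizer_iff]
      exact hcon
    have hxuU : x * u * x⁻¹ ∈ Subgroup.zpowers u := by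
      rw [← hUz]
      exact hUn.conj_mem _ (by rw [hUz]; exact Subgroup.mem_zpowers u) x
    have huU : u ∈ U := by rw [hUz]; exact Subgroup.mem_zpowers u
    have hfacts := comm_facts hp2 ((IsPGroup.iff_orderOf.mp hR) u) hxuU (hUc _ hxp _ huU)
    have hhom := hom_of_gens hp2 rfl hfacts.1 hfacts.2.1 hfacts.2.2
    have hnc : ¬ IsCyclic (Subgroup.closure ({u, x} : Set R)) := by
      intro hcyc
      obtain ⟨v, hvU, hv⟩ := hxnc
      have hvH : v ∈ Subgroup.closure ({u, x} : Set R) := by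
        rw [← hHeq]
        exact Subgroup.mem_sup_left hvU
      have hxH : x ∈ Subgroup.closure ({u, x} : Set R) := Subgroup.subset_closure (by simp)
      letI := hcyc.commGroup
      have := mul_comm (⟨v, hvH⟩ : Subgroup.closure ({u, x} : Set R)) ⟨x, hxH⟩
      exact hv (congrArg Subtype.val this)
    obtain ⟨A, hA, hAn, hAe, hAc⟩ := of_hom hR _ hnc hhom
    refine ⟨A, hA.trans ?_, hAn, hAe, hAc⟩
    rw [← hHeq]
    exact sup_le hUS (by rw [Subgroup.zpowers_le]; exact hxS)
  · have hhom : ∀ a b : U, (a * b) ^ p = a ^ p * b ^ p := fun a b => by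
      have h1 : Commute a b := Subtype.ext (hUc a.1 a.2 b.1 b.2)
      exact h1.mul_pow p
    obtain ⟨A, hA, hAn, hAe, hAc⟩ := of_hom hR U hUcyc hhom
    exact ⟨A, hA.trans hUS, hAn, hAe, hAc⟩

theorem card_le_of_pow {Q : Type*} [Group Q] [Finite Q] [IsCyclic Q] {n : ℕ} (hn : 0 < n) (H : Subgroup Q)
    (h : ∀ z ∈ H, z ^ n = 1) : Nat.card H ≤ n := by
  classical
  haveI := Fintype.ofFinite Q
  have h1 := IsCyclic.card_pow_eq_one_le (α := Q) hn
  have h4 : (Finset.univ.filter (fun a : Q => a ∈ H)).card = Nat.card H := by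
    rw [Nat.card_eq_fintype_card, Fintype.card_subtype]
  rw [← h4]
  refine le_trans (Finset.card_le_card ?_) h1
  intro a ha
  simp only [Finset.mem_filter, Finset.mem_univ, true_and] at ha ⊢
  exact h a ha

theorem cyclic_pow_mem {Q : Type*} [Group Q] [Finite Q] [IsCyclic Q] {n : ℕ} (hn : 0 < n) (H : Subgroup Q)
    (hH : n ≤ Nat.card H) (h : ∀ z ∈ H, z ^ n = 1) : ∀ z : Q, z ^ n = 1 → z ∈ H := by
  classical
  haveI := Fintype.ofFinite Q
  have h1 := IsCyclic.card_pow_eq_one_le (α := Q) hn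
  intro z hz
  by_contra hzH
  have h2 : (Finset.univ.filter (fun a : Q => a ∈ H)) ⊂ (Finset.univ.filter (fun a : Q => a ^ n = 1)) := by
    rw [Finset.ssubset_iff_of_subset]
    · exact ⟨z, by simpa using hz, by simpa using hzH⟩
    · intro a ha
      simp only [Finset.mem_filter, Finset.mem_univ, true_and] at ha ⊢
      exact h a ha
  have h3 := Finset.card_lt_card h2
  have h4 : (Finset.univ.filter (fun a : Q => a ∈ H)).card = Nat.card H := by
    rw [Nat.card_eq_fintype_card, Fintype.card_subtype]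
  omega

/-- An element outside a subgroup of prime index generates together with it. -/
theorem sup_eq_top_of_index {G : Type*} [Group G] [Finite G] {q : ℕ} (hq : q.Prime) {C : Subgroup G} (hC : C.index = q)
    {x : G} (hx : x ∉ C) : C ⊔ Subgroup.zpowers x = ⊤ := by
  have hlt : C < C ⊔ Subgroup.zpowers x :=
    lt_of_le_of_ne le_sup_left (fun heq => hx (heq ▸ Subgroup.mem_sup_right (Subgroup.mem_zpowers x)))
  have h5 := Subgroup.relIndex_mul_index (le_sup_left : C ≤ C ⊔ Subgroup.zpowers x)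
  rw [hC] at h5
  have h6 : C.relIndex (C ⊔ Subgroup.zpowers x) ≠ 1 := by
    intro h7
    rw [Subgroup.relIndex_eq_one] at h7
    exact absurd (le_antisymm h7 hlt.le) hlt.ne'
  have h7 : (C ⊔ Subgroup.zpowers x).index = 1 := by
    have hd : C.relIndex (C ⊔ Subgroup.zpowers x) ∣ q := ⟨_, h5.symm⟩
    rcases (Nat.dvd_prime hq).mp hd with h8 | h8
    · exact absurd h8 h6
    · rw [h8] at h5
      exact Nat.eq_of_mul_eq_mul_left hq.pos (by rw [h5, mul_one])
  exact Subgroup.index_eq_one.mp h7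

end Cfsg.Agent.Lib.NormalPP
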