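/-
Automorphism groups of groups of order `p³` carrying a strongly embedded subgroup.
-/
import Mathlib
import Cfsg.Agent.Lib.EssP2
import Cfsg.Agent.Lib.H6Q8
import Cfsg.Agent.Lib.H6PGroup
import Cfsg.Agent.Lib.NormalPP
import Cfsg.Prelude.Def_Transfer

set_option autoImplicit false
set_option linter.all false

open Cfsg
open scoped commutatorElement

namespace Cfsg.Agent.Lib.EssP3

variable {p : ℕ} [hpp : Fact p.Prime]

/-- A `p`-power root of the identity on a group of order `p` is the identity. -/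
theorem fix_of_card_p {C : Type*} [Finite C] (hC : Nat.card C = p) (c₀ : C) (f : C → C)
    (h0 : f c₀ = c₀) (n : ℕ) (hf : ∀ c, f^[p ^ n] c = c) (c : C) : f c = c := by
  classical
  haveI := Fintype.ofFinite C
  let g : Function.End C := f
  have hgk : ∀ (k : ℕ) (c : C), (g ^ k) c = f^[k] c := by
    intro k
    induction k with
    | zero => intro c; rfl
    | succ k ih =>
      intro c
      rw [pow_succ', Function.iterate_succ_apply', ← ih]
      rfl
  have hg : g ^ p ^ n = 1 := by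
    funext c
    rw [hgk]
    exact hf c
  have h1 := Equiv.Perm.card_fixedPoints_modEq hg
  have h2 : Fintype.card C = p := by rw [← Nat.card_eq_fintype_card]; exact hC
  have h3 : 0 < Fintype.card (Function.fixedPoints g) :=
    Fintype.card_pos_iff.2 ⟨⟨c₀, h0⟩⟩
  have h4 : p ∣ Fintype.card (Function.fixedPoints g) := by
    rw [h2] at h1
    have h5 : p ≡ 0 [MOD p] := by simp [Nat.ModEq]
    exact (Nat.modEq_zero_iff_dvd).1 (h1.symm.trans h5)
  have h5 : Fintype.card C ≤ Fintype.card (Function.fixedPoints g) := by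
    rw [h2]
    exact Nat.le_of_dvd h3 h4
  have h6 : Function.Injective (Subtype.val : Function.fixedPoints g → C) := Subtype.val_injective
  have h7 : Function.Surjective (Subtype.val : Function.fixedPoints g → C) :=
    ((Fintype.bijective_iff_injective_and_card _).2
      ⟨h6, le_antisymm (Fintype.card_le_of_injective _ h6) h5⟩).2
  obtain ⟨⟨d, hd⟩, rfl⟩ := h7 c
  exact hd

variable {Q : Type*} [Group Q] [Finite Q]

/-- Invariance under all automorphisms. -/
def AutInv (R : Subgroup Q) : Prop := ∀ (α : MulAut Q), ∀ x ∈ R, α x ∈ R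

theorem AutInv.normal {R : Subgroup Q} (h : AutInv R) : R.Normal :=
  ⟨fun n hn g => h (MulAut.conj g) n hn⟩

/-- A `p`-element acts trivially on a factor of order `p`. -/
theorem trivial_on_factor {N₁ N₂ : Subgroup Q} (h₁ : AutInv N₁) (h₂ : AutInv N₂) (h12 : N₁ ≤ N₂)
    (hc : Nat.card N₂ = p * Nat.card N₁) (α : MulAut Q) (n : ℕ) (hα : α ^ p ^ n = 1) :
    ∀ x ∈ N₂, x⁻¹ * α x ∈ N₁ := by
  classical
  haveI := h₁.normal
  -- the quotient
  let π := QuotientGroup.mk' N₁
  let C : Subgroup (Q ⧸ N₁) := N₂.map π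
  have hcardC : Nat.card C = p := by
    have h3 : (π.comp N₂.subtype).ker = N₁.subgroupOf N₂ := by
      ext x
      rw [MonoidHom.mem_ker, Subgroup.mem_subgroupOf]
      exact QuotientGroup.eq_one_iff _
    have h4 : (π.comp N₂.subtype).range = C := by
      rw [MonoidHom.range_comp, Subgroup.range_subtype]
    have h5 := Subgroup.card_mul_index (π.comp N₂.subtype).ker
    rw [Subgroup.index_ker, h4, h3] at h5
    have h6 : Nat.card (N₁.subgroupOf N₂) = Nat.card N₁ :=
      Nat.card_congr (Subgroup.subgroupOfEquivOfLe h12).toEquiv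
    rw [h6, hc, mul_comm] at h5
    exact Nat.eq_of_mul_eq_mul_right Nat.card_pos h5
  have hmap : N₁ ≤ N₁.comap α.toMonoidHom := fun x hx => h₁ α x hx
  let σ : Q ⧸ N₁ →* Q ⧸ N₁ := QuotientGroup.map N₁ N₁ α.toMonoidHom hmap
  have hσ : ∀ x : Q, σ (π x) = π (α x) := fun x => rfl
  have hσC : ∀ c ∈ C, σ c ∈ C := by
    rintro _ ⟨x, hx, rfl⟩
    exact ⟨α x, h₂ α x hx, rfl⟩
  have hiter : ∀ (k : ℕ) (x : Q), σ^[k] (π x) = π ((α ^ k) x) := by
    intro k
    induction k with
    | zero => intro x; rfl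
    | succ k ih =>
      intro x
      rw [Function.iterate_succ_apply', ih, hσ, pow_succ']
      rfl
  let f : C → C := fun c => ⟨σ c, hσC c c.2⟩
  have hfiter : ∀ (k : ℕ) (c : C), ((f^[k] c : C) : Q ⧸ N₁) = σ^[k] c := by
    intro k
    induction k with
    | zero => intro c; rfl
    | succ k ih =>
      intro c
      rw [Function.iterate_succ_apply', Function.iterate_succ_apply']
      show σ _ = _
      rw [ih]
  have hfix := fix_of_card_p hcardC (1 : C) f (Subtype.ext (map_one σ)) n (fun c => by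
    apply Subtype.ext
    rw [hfiter]
    obtain ⟨c, x, hx, rfl⟩ := c
    show σ^[p ^ n] (π x) = π x
    rw [hiter, hα]
    rfl)
  intro x hx
  have h7 := congrArg Subtype.val (hfix ⟨π x, ⟨x, hx, rfl⟩⟩)
  have h8 : π (α x) = π x := h7
  have h9 : π (x⁻¹ * α x) = 1 := by
    rw [map_mul, map_inv, h8, inv_mul_cancel]
  exact (QuotientGroup.eq_one_iff _).1 h9

/-- The formula for iterates. -/
theorem pow_apply_of_fix (N : Subgroup Q) (β : MulAut Q) (hfix : ∀ x ∈ N, β x = x) (x : Q)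
    (hx : x⁻¹ * β x ∈ N) (k : ℕ) : (β ^ k) x = x * (x⁻¹ * β x) ^ k := by
  induction k with
  | zero => simp
  | succ k ih =>
    rw [pow_succ', MulAut.mul_apply, ih, map_mul, map_pow, hfix _ hx, pow_succ' (x⁻¹ * β x), ← mul_assoc x,
      mul_inv_cancel_left]

/-- The stabilizer of a chain of length three. -/
def chainStab (R₁ R₂ : Subgroup Q) (h₁ : AutInv R₁) (h₂ : AutInv R₂) (h12 : R₁ ≤ R₂) :
    Subgroup (MulAut Q) where
  carrier := {α | (∀ x ∈ R₁, α x = x) ∧ (∀ x ∈ R₂, x⁻¹ * α x ∈ R₁) ∧ ∀ x, x⁻¹ * α x ∈ R₂}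
  mul_mem' := by
    rintro α β ⟨a1, a2, a3⟩ ⟨b1, b2, b3⟩
    refine ⟨fun x hx => ?_, fun x hx => ?_, fun x => ?_⟩
    · show α (β x) = x
      rw [b1 x hx, a1 x hx]
    · show x⁻¹ * α (β x) ∈ R₁
      have e : x⁻¹ * α (β x) = (x⁻¹ * β x) * ((β x)⁻¹ * α (β x)) := by group
      rw [e]
      exact R₁.mul_mem (b2 x hx) (a2 _ (h₂ β x hx))
    · show x⁻¹ * α (β x) ∈ R₂
      have e : x⁻¹ * α (β x) = (x⁻¹ * β x) * ((β x)⁻¹ * α (β x)) := by group
      rw [e]
      exact R₂.mul_mem (b3 x) (a3 _)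
  one_mem' := by
    refine ⟨fun x _ => rfl, fun x _ => ?_, fun x => ?_⟩ <;>
      · show x⁻¹ * x ∈ _
        rw [inv_mul_cancel]
        exact Subgroup.one_mem _
  inv_mem' := by
    rintro α ⟨a1, a2, a3⟩
    have e : ∀ x : Q, x⁻¹ * α⁻¹ x = ((α⁻¹ x)⁻¹ * α (α⁻¹ x))⁻¹ := by
      intro x
      have : α (α⁻¹ x) = x := by
        show (α * α⁻¹) x = x
        rw [mul_inv_cancel]
        rfl
      rw [this]
      group
    refine ⟨fun x hx => ?_, fun x hx => ?_, fun x => ?_⟩
    · have : α x = x := a1 x hx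
      show α⁻¹ x = x
      calc α⁻¹ x = α⁻¹ (α x) := by rw [this]
        _ = x := by
          show (α⁻¹ * α) x = x
          rw [inv_mul_cancel]
          rfl
    · rw [e]
      exact R₁.inv_mem (a2 _ (h₂ α⁻¹ x hx))
    · rw [e]
      exact R₂.inv_mem (a3 _)

theorem chainStab_normal (R₁ R₂ : Subgroup Q) (h₁ : AutInv R₁) (h₂ : AutInv R₂) (h12 : R₁ ≤ R₂) :
    (chainStab R₁ R₂ h₁ h₂ h12).Normal := by
  refine ⟨?_⟩
  rintro α ⟨a1, a2, a3⟩ γ
  have hrec : ∀ x : Q, γ (γ⁻¹ x) = x := by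
    intro x
    show (γ * γ⁻¹) x = x
    rw [mul_inv_cancel]
    rfl
  have e : ∀ x : Q, x⁻¹ * (γ * α * γ⁻¹) x = γ ((γ⁻¹ x)⁻¹ * α (γ⁻¹ x)) := by
    intro x
    show x⁻¹ * γ (α (γ⁻¹ x)) = _
    rw [map_mul, map_inv, hrec]
  refine ⟨fun x hx => ?_, fun x hx => ?_, fun x => ?_⟩
  · show γ (α (γ⁻¹ x)) = x
    rw [a1 _ (h₁ γ⁻¹ x hx), hrec]
  · rw [e]
    exact h₁ γ _ (a2 _ (h₂ γ⁻¹ x hx))
  · rw [e]
    exact h₂ γ _ (a3 _)

theorem chainStab_pow (R₁ R₂ : Subgroup Q) (h₁ : AutInv R₁) (h₂ : AutInv R₂) (h12 : R₁ ≤ R₂)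
    (c₁ : Nat.card R₁ = p) (c₂ : Nat.card R₂ = p ^ 2) {α : MulAut Q}
    (hα : α ∈ chainStab R₁ R₂ h₁ h₂ h12) : α ^ p ^ 3 = 1 := by
  have hα' := hα
  obtain ⟨a1, a2, a3⟩ := hα
  have hβ : α ^ p ∈ chainStab R₁ R₂ h₁ h₂ h12 := Subgroup.pow_mem _ hα' _
  obtain ⟨-, -, b3⟩ := hβ
  have hR₁ : ∀ n ∈ R₁, n ^ p = 1 := by
    intro n hn
    have := pow_card_eq_one' (x := (⟨n, hn⟩ : R₁))
    rw [c₁] at this
    exact congrArg Subtype.val this
  have hR₂ : ∀ n ∈ R₂, n ^ p ^ 2 = 1 := by
    intro n hn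
    have := pow_card_eq_one' (x := (⟨n, hn⟩ : R₂))
    rw [c₂] at this
    exact congrArg Subtype.val this
  have hfix2 : ∀ x ∈ R₂, (α ^ p) x = x := by
    intro x hx
    rw [pow_apply_of_fix R₁ α a1 x (a2 x hx) p, hR₁ _ (a2 x hx), mul_one]
  have e : α ^ p ^ 3 = (α ^ p) ^ p ^ 2 := by
    rw [← pow_mul]
    congr 1
    ring
  rw [e]
  apply MulEquiv.ext
  intro x
  rw [pow_apply_of_fix R₂ (α ^ p) hfix2 x (b3 x) (p ^ 2), hR₂ _ (b3 x), mul_one]
  rfl

theorem mem_chainStab_of_pow (R₁ R₂ : Subgroup Q) (h₁ : AutInv R₁) (h₂ : AutInv R₂) (h12 : R₁ ≤ R₂)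
    (c₁ : Nat.card R₁ = p) (c₂ : Nat.card R₂ = p ^ 2) (hcard : Nat.card Q = p ^ 3)
    {α : MulAut Q} {n : ℕ} (hα : α ^ p ^ n = 1) : α ∈ chainStab R₁ R₂ h₁ h₂ h12 := by
  have hbot : AutInv (⊥ : Subgroup Q) := by
    intro β x hx
    rw [Subgroup.mem_bot] at hx ⊢
    rw [hx, map_one]
  have htop : AutInv (⊤ : Subgroup Q) := fun β x _ => Subgroup.mem_top _
  refine ⟨fun x hx => ?_, fun x hx => ?_, fun x => ?_⟩
  · have h1 := trivial_on_factor hbot h₁ bot_le (by rw [c₁, Subgroup.card_bot, mul_one]) α n hα x hx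
    rw [Subgroup.mem_bot] at h1
    exact (inv_mul_eq_one.1 h1).symm
  · exact trivial_on_factor h₁ h₂ h12 (by rw [c₁, c₂]; ring) α n hα x hx
  · exact trivial_on_factor h₂ htop le_top (by rw [Subgroup.card_top, hcard, c₂]; ring) α n hα x
      (Subgroup.mem_top _)

/-- No invariant chain with factors of order `p`. -/
theorem no_chain {R₁ R₂ : Subgroup Q} (h₁ : AutInv R₁) (h₂ : AutInv R₂) (h12 : R₁ ≤ R₂)
    (c₁ : Nat.card R₁ = p) (c₂ : Nat.card R₂ = p ^ 2) (hcard : Nat.card Q = p ^ 3)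
    (A : Subgroup (MulAut Q)) (M : Subgroup A) [M.Normal] (hX : pCore p (A ⧸ M) = ⊥)
    (hdvd : p ∣ Nat.card (A ⧸ M)) : False := by
  classical
  haveI : Finite (MulAut Q) := Finite.of_injective (fun f : MulAut Q => (f : Q → Q))
    (fun f g h => MulEquiv.ext (congrFun h))
  set T := chainStab R₁ R₂ h₁ h₂ h12 with hT
  haveI hTn : T.Normal := chainStab_normal R₁ R₂ h₁ h₂ h12
  let π := QuotientGroup.mk' M
  have hπsurj : Function.Surjective π := QuotientGroup.mk'_surjective _
  have hT₁n : (T.subgroupOf A).Normal := hTn.subgroupOf A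
  have hmapN : ((T.subgroupOf A).map π).Normal := hT₁n.map π hπsurj
  have hmapP : IsPGroup p ((T.subgroupOf A).map π) := by
    intro x
    obtain ⟨x, ⟨t, ht, rfl⟩⟩ := x
    refine ⟨3, ?_⟩
    apply Subtype.ext
    show π t ^ p ^ 3 = 1
    rw [← map_pow]
    have h3 := chainStab_pow R₁ R₂ h₁ h₂ h12 c₁ c₂ (Subgroup.mem_subgroupOf.1 ht)
    have h4 : t ^ p ^ 3 = 1 := Subtype.ext h3
    rw [h4, map_one]
  have hle := Cfsg.Agent.Lib.PCore.le_pCore hmapN hmapP
  rw [hX, le_bot_iff] at hle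
  obtain ⟨ξ, hξ⟩ := exists_prime_orderOf_dvd_card' p hdvd
  obtain ⟨a, rfl⟩ := hπsurj ξ
  have hn : orderOf a ≠ 0 := (orderOf_pos a).ne'
  obtain ⟨e, m, hm, hem⟩ := Nat.exists_eq_pow_mul_and_not_dvd hn p hpp.out.ne_one
  have hpow : ((a ^ m : A) : MulAut Q) ^ p ^ e = 1 := by
    have h5 : (a ^ m) ^ p ^ e = 1 := by
      rw [← pow_mul, mul_comm, ← hem, pow_orderOf_eq_one]
    exact congrArg Subtype.val h5
  have hmem : a ^ m ∈ T.subgroupOf A :=
    Subgroup.mem_subgroupOf.2 (mem_chainStab_of_pow R₁ R₂ h₁ h₂ h12 c₁ c₂ hcard hpow)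
  have h6 : π (a ^ m) = 1 := by
    have : π (a ^ m) ∈ (T.subgroupOf A).map π := ⟨_, hmem, rfl⟩
    rw [hle] at this
    exact Subgroup.mem_bot.1 this
  rw [map_pow] at h6
  have h7 := orderOf_dvd_of_pow_eq_one h6
  rw [hξ] at h7
  exact hm h7

/-- Subgroups of a group whose order is a power of `p`. -/
theorem card_eq_prime_pow_of_dvd {n d : ℕ} (h : d ∣ p ^ n) : ∃ k ≤ n, d = p ^ k :=
  (Nat.dvd_prime_pow hpp.out).1 h

theorem autInv_ker (f : Q →* Q) (hf : ∀ (α : MulAut Q) x, f (α x) = α (f x)) :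
    AutInv f.ker := by
  intro α x hx
  rw [MonoidHom.mem_ker] at hx ⊢
  rw [hf, hx, map_one]

theorem autInv_range (f : Q →* Q) (hf : ∀ (α : MulAut Q) x, f (α x) = α (f x)) :
    AutInv f.range := by
  rintro α _ ⟨x, rfl⟩
  exact ⟨α x, hf α x⟩

theorem autInv_center : AutInv (Subgroup.center Q) := by
  intro α z hz
  rw [Subgroup.mem_center_iff] at hz ⊢
  intro g
  have h1 : α (α⁻¹ g) = g := by
    show (α * α⁻¹) g = g
    rw [mul_inv_cancel]
    rfl
  have h2 := congrArg α (hz (α⁻¹ g))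
  rw [map_mul, map_mul, h1] at h2
  exact h2

/-- The abelian case. -/
theorem abelian_case (hcard : Nat.card Q = p ^ 3) (hab : ∀ a b : Q, a * b = b * a)
    (hexp : ∃ a : Q, a ^ p ≠ 1)
    (A : Subgroup (MulAut Q)) (M : Subgroup A) [M.Normal] (hX : pCore p (A ⧸ M) = ⊥)
    (hdvd : p ∣ Nat.card (A ⧸ M)) : False := by
  classical
  let f : Q →* Q := MonoidHom.mk' (fun x => x ^ p) (fun x y => (Commute.mul_pow (hab x y) p))
  have hf : ∀ (α : MulAut Q) x, f (α x) = α (f x) := fun α x => (map_pow α x p).symm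
  have hK : AutInv f.ker := by
    intro α x hx
    rw [MonoidHom.mem_ker] at hx ⊢
    rw [hf, hx, map_one]
  have hI : AutInv f.range := autInv_range f hf
  have h1 := Subgroup.card_mul_index f.ker
  rw [Subgroup.index_ker, hcard] at h1
  obtain ⟨a, ha, ha'⟩ := card_eq_prime_pow_of_dvd (p := p) (n := 3) (d := Nat.card f.ker) ⟨_, h1.symm⟩
  obtain ⟨b, hb, hb'⟩ := card_eq_prime_pow_of_dvd (p := p) (n := 3) (d := Nat.card f.range) ⟨_, by rw [mul_comm]; exact h1.symm⟩
  rw [ha', hb', ← pow_add] at h1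
  have hab3 : a + b = 3 := Nat.pow_right_injective hpp.out.two_le h1
  have hp1 : p ≠ 1 := hpp.out.ne_one
  have hdQ : p ∣ Nat.card Q := by rw [hcard]; exact dvd_pow_self p (by norm_num)
  have ha0 : a ≠ 0 := by
    rintro rfl
    obtain ⟨x, hx⟩ := exists_prime_orderOf_dvd_card' p hdQ
    have hxK : (⟨x, by
      rw [MonoidHom.mem_ker]
      show x ^ p = 1
      rw [← hx, pow_orderOf_eq_one]⟩ : f.ker) = 1 := by
      have : Nat.card f.ker = 1 := by rw [ha']; rfl
      haveI := (Nat.card_eq_one_iff_unique.1 this).1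
      exact Subsingleton.elim _ _
    have h2 := congrArg Subtype.val hxK
    have h3 : x = 1 := h2
    rw [h3, orderOf_one] at hx
    exact hp1 hx.symm
  have hb0 : b ≠ 0 := by
    rintro rfl
    obtain ⟨x, hx⟩ := hexp
    have hxK : (⟨f x, x, rfl⟩ : f.range) = 1 := by
      have : Nat.card f.range = 1 := by rw [hb']; rfl
      haveI := (Nat.card_eq_one_iff_unique.1 this).1
      exact Subsingleton.elim _ _
    exact hx (congrArg Subtype.val hxK)
  have hcases : (a = 2 ∧ b = 1) ∨ (a = 1 ∧ b = 2) := by omega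
  rcases hcases with ⟨rfl, rfl⟩ | ⟨rfl, rfl⟩
  · refine no_chain hI hK ?_ (by rw [hb', pow_one]) ha' hcard A M hX hdvd
    rintro _ ⟨x, rfl⟩
    rw [MonoidHom.mem_ker]
    have := pow_card_eq_one' (x := (⟨f x, x, rfl⟩ : f.range))
    rw [hb', pow_one] at this
    exact congrArg Subtype.val this
  · refine no_chain hK hI ?_ (by rw [ha', pow_one]) hb' hcard A M hX hdvd
    -- an element of order `p` in the image
    obtain ⟨z, hz⟩ := exists_prime_orderOf_dvd_card' (G := f.range) p (by rw [hb']; exact dvd_pow_self p (by norm_num))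
    have hzp : (z : Q) ^ p = 1 := by
      have : z ^ p = 1 := by rw [← hz, pow_orderOf_eq_one]
      exact congrArg Subtype.val this
    have hzord : orderOf (z : Q) = p := by
      rw [← hz]
      exact Subgroup.orderOf_coe z
    have hzK : Subgroup.zpowers (z : Q) ≤ f.ker := by
      rw [Subgroup.zpowers_le, MonoidHom.mem_ker]
      exact hzp
    have heq : Subgroup.zpowers (z : Q) = f.ker := by
      apply Subgroup.eq_of_le_of_card_ge hzK
      rw [Nat.card_zpowers, hzord, ha', pow_one]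
    rw [← heq, Subgroup.zpowers_le]
    exact z.2

/-- A group generated by at most one element is abelian. -/
theorem comm_of_gens {S : Finset Q} (hS : S.card ≤ 1) (hcl : Subgroup.closure (S : Set Q) = ⊤) :
    ∀ a b : Q, a * b = b * a := by
  classical
  rcases S.eq_empty_or_nonempty with rfl | hne
  · intro a b
    have h1 : (⊤ : Subgroup Q) = ⊥ := by
      rw [← hcl]
      simp
    have ha : a = 1 := by
      have : a ∈ (⊥ : Subgroup Q) := by rw [← h1]; trivial
      exact Subgroup.mem_bot.1 this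
    have hb : b = 1 := by
      have : b ∈ (⊥ : Subgroup Q) := by rw [← h1]; trivial
      exact Subgroup.mem_bot.1 this
    rw [ha, hb]
  · obtain ⟨s, hs⟩ := Finset.card_le_one_iff_subset_singleton.1 hS
    have h1 : (⊤ : Subgroup Q) ≤ Subgroup.zpowers s := by
      rw [← hcl, Subgroup.closure_le]
      intro x hx
      have := hs hx
      rw [Finset.mem_singleton] at this
      rw [this]
      exact Subgroup.mem_zpowers s
    intro a b
    obtain ⟨i, rfl⟩ := Subgroup.mem_zpowers_iff.1 (h1 (Subgroup.mem_top a))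
    obtain ⟨j, rfl⟩ := Subgroup.mem_zpowers_iff.1 (h1 (Subgroup.mem_top b))
    exact (Commute.refl s).zpow_zpow i j

theorem nonab_facts (hcard : Nat.card Q = p ^ 3) (hab : ¬ ∀ a b : Q, a * b = b * a) :
    Nat.card (Subgroup.center Q) = p ∧ (∀ x : Q, x ^ p ∈ Subgroup.center Q) ∧
      commutator Q = Subgroup.center Q := by
  classical
  have hP : IsPGroup p Q := IsPGroup.of_card hcard
  haveI : Nontrivial Q := by
    rw [← Finite.one_lt_card_iff_nontrivial, hcard]
    exact Nat.one_lt_pow (by norm_num) hpp.out.one_lt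
  haveI := hP.center_nontrivial
  have h1 := Subgroup.card_mul_index (Subgroup.center Q)
  rw [hcard] at h1
  obtain ⟨k, hk, hk'⟩ := card_eq_prime_pow_of_dvd (p := p) (n := 3) (d := Nat.card (Subgroup.center Q)) ⟨_, h1.symm⟩
  have hpos : 0 < p := hpp.out.pos
  have hcyc : ¬ IsCyclic (Q ⧸ Subgroup.center Q) := by
    intro hc
    exact hab (commutative_of_cyclic_center_quotient (QuotientGroup.mk' (Subgroup.center Q))
      (by rw [QuotientGroup.ker_mk']))
  have hk0 : k ≠ 0 := by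
    rintro rfl
    rw [pow_zero] at hk'
    exact (Finite.one_lt_card (α := Subgroup.center Q)).ne' hk'
  have hk3 : k ≠ 3 := by
    rintro rfl
    have h2 : Subgroup.center Q = ⊤ := Subgroup.eq_top_of_card_eq _ (by rw [hk', hcard])
    apply hab
    intro a b
    have : a ∈ Subgroup.center Q := by rw [h2]; trivial
    exact ((Subgroup.mem_center_iff.1 this) b).symm
  have hk2 : k ≠ 2 := by
    rintro rfl
    apply hcyc
    have h2 : Nat.card (Q ⧸ Subgroup.center Q) = p := by
      have h3 : (Subgroup.center Q).index = p := by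
        rw [hk'] at h1
        have h4 : p ^ 2 * (Subgroup.center Q).index = p ^ 2 * p := by rw [h1]; ring
        exact Nat.eq_of_mul_eq_mul_left (pow_pos hpos 2) h4
      exact h3
    exact isCyclic_of_prime_card h2
  have hk1 : k = 1 := by omega
  subst hk1
  rw [pow_one] at hk'
  have hidx : Nat.card (Q ⧸ Subgroup.center Q) = p ^ 2 := by
    rw [hk'] at h1
    have h4 : p * (Subgroup.center Q).index = p * p ^ 2 := by rw [h1]; ring
    exact Nat.eq_of_mul_eq_mul_left hpos h4
  have hpow : ∀ x : Q, x ^ p ∈ Subgroup.center Q := by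
    intro x
    let xb : Q ⧸ Subgroup.center Q := QuotientGroup.mk' _ x
    have h2 : orderOf xb ∣ p ^ 2 := by
      rw [← hidx]
      exact orderOf_dvd_natCard xb
    obtain ⟨j, hj, hj'⟩ := card_eq_prime_pow_of_dvd (p := p) h2
    have hj2 : j ≠ 2 := by
      rintro rfl
      exact hcyc (isCyclic_of_orderOf_eq_card xb (by rw [hj', hidx]))
    have h3 : xb ^ p = 1 := by
      apply orderOf_dvd_iff_pow_eq_one.1
      rw [hj']
      have : j ≤ 1 := by omega
      exact (pow_dvd_pow p this).trans (by simp)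
    have h4 : QuotientGroup.mk' (Subgroup.center Q) (x ^ p) = 1 := by
      rw [map_pow]
      exact h3
    exact (QuotientGroup.eq_one_iff _).1 h4
  refine ⟨hk', hpow, ?_⟩
  have hcommQ := IsPGroup.commutative_of_card_eq_prime_sq hidx
  have hle : commutator Q ≤ Subgroup.center Q := by
    rw [commutator_def, Subgroup.commutator_le]
    intro g₁ _ g₂ _
    have h4 : QuotientGroup.mk' (Subgroup.center Q) ⁅g₁, g₂⁆ = 1 := by
      rw [map_commutatorElement, commutatorElement_eq_one_iff_mul_comm]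
      exact hcommQ _ _
    exact (QuotientGroup.eq_one_iff _).1 h4
  apply Subgroup.eq_of_le_of_card_ge hle
  rw [hk']
  -- the commutator subgroup is not trivial
  have hne : Nat.card (commutator Q) ≠ 1 := by
    intro h1'
    apply hab
    intro a b
    haveI := (Nat.card_eq_one_iff_unique.1 h1').1
    have h5 : (⟨⁅a, b⁆, Subgroup.commutator_mem_commutator (Subgroup.mem_top a) (Subgroup.mem_top b)⟩ :
        commutator Q) = 1 := Subsingleton.elim _ _
    have h6 : ⁅a, b⁆ = 1 := congrArg Subtype.val h5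
    exact commutatorElement_eq_one_iff_mul_comm.1 h6
  have hd : Nat.card (commutator Q) ∣ p := by
    rw [← hk']
    exact Subgroup.card_dvd_of_le hle
  rcases (Nat.dvd_prime hpp.out).1 hd with h6 | h6
  · exact absurd h6 hne
  · exact h6.ge

theorem frattini_eq_center (hcard : Nat.card Q = p ^ 3) (hab : ¬ ∀ a b : Q, a * b = b * a)
    (hZ : Nat.card (Subgroup.center Q) = p) (hcomm : commutator Q = Subgroup.center Q) :
    frattini Q = Subgroup.center Q := by
  classical
  have hP : IsPGroup p Q := IsPGroup.of_card hcard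
  have hle : Subgroup.center Q ≤ frattini Q := by
    rw [← hcomm, commutator_def, Subgroup.commutator_le]
    intro g₁ _ g₂ _
    rw [commutatorElement_def]
    exact Cfsg.Agent.Lib.H6PGroup.comm_mem_frattini hP g₁ g₂
  have h1 := Subgroup.card_mul_index (frattini Q)
  rw [hcard] at h1
  obtain ⟨c, hc, hc'⟩ := card_eq_prime_pow_of_dvd (p := p) (n := 3) (d := Nat.card (frattini Q)) ⟨_, h1.symm⟩
  obtain ⟨r, hr, hr'⟩ := card_eq_prime_pow_of_dvd (p := p) (n := 3) (d := (frattini Q).index) ⟨_, by rw [mul_comm]; exact h1.symm⟩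
  rw [hc', hr', ← pow_add] at h1
  have hcr : c + r = 3 := Nat.pow_right_injective hpp.out.two_le h1
  have hr2 : 2 ≤ r := by
    by_contra hlt
    obtain ⟨S, hS, hcl⟩ := Cfsg.Agent.Lib.H6PGroup.exists_gens_of_frattini p r hr'
    exact hab (comm_of_gens (hS.trans (by omega)) hcl)
  have hc1 : c ≤ 1 := by omega
  symm
  apply Subgroup.eq_of_le_of_card_ge hle
  rw [hc', hZ]
  calc p ^ c ≤ p ^ 1 := Nat.pow_le_pow_right hpp.out.pos hc1
    _ = p := pow_one p

theorem not_pgroup_aut (A : Subgroup (MulAut Q)) (M : Subgroup A) [M.Normal]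
    (hX : pCore p (A ⧸ M) = ⊥) (hdvd : p ∣ Nat.card (A ⧸ M)) : ¬ IsPGroup p (MulAut Q) := by
  intro h
  haveI : Finite (MulAut Q) := Finite.of_injective (fun f : MulAut Q => (f : Q → Q))
    (fun f g h => MulEquiv.ext (congrFun h))
  have h1 : IsPGroup p A := h.to_subgroup A
  have h2 : IsPGroup p (A ⧸ M) := h1.to_quotient M
  have h3 : IsPGroup p (⊤ : Subgroup (A ⧸ M)) := h2.to_subgroup ⊤
  have h4 := Cfsg.Agent.Lib.PCore.le_pCore (p := p) (inferInstance : (⊤ : Subgroup (A ⧸ M)).Normal) h3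
  rw [hX, top_le_iff] at h4
  have h5 : Nat.card (A ⧸ M) = 1 := by
    have h6 : Nat.card (⊤ : Subgroup (A ⧸ M)) = 1 := by
      rw [← h4]
      exact Subgroup.card_bot
    rwa [Subgroup.card_top] at h6
  rw [h5] at hdvd
  exact hpp.out.one_lt.ne' (Nat.dvd_one.1 hdvd)

theorem classify (hcard : Nat.card Q = p ^ 3)
    (A : Subgroup (MulAut Q)) (M : Subgroup A) [M.Normal] (hX : pCore p (A ⧸ M) = ⊥)
    (hdvd : p ∣ Nat.card (A ⧸ M)) :
    ((∀ a b : Q, a * b = b * a) ∧ ∀ a : Q, a ^ p = 1) ∨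
      (Odd p ∧ IsExtraspecial p Q ∧ ∀ x : Q, x ^ p = 1) ∨
      (p = 2 ∧ Nonempty (Q ≃* QuaternionGroup 2)) := by
  classical
  have hP : IsPGroup p Q := IsPGroup.of_card hcard
  by_cases hab : ∀ a b : Q, a * b = b * a
  · left
    refine ⟨hab, ?_⟩
    by_contra hexp
    have hexp' : ∃ a : Q, a ^ p ≠ 1 := by
      by_contra h
      exact hexp fun a => by
        by_contra h'
        exact h ⟨a, h'⟩
    exact abelian_case hcard hab hexp' A M hX hdvd
  obtain ⟨hZ, hpow, hcomm⟩ := nonab_facts hcard hab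
  have haut := not_pgroup_aut A M hX hdvd
  by_cases hp2 : p = 2
  · subst hp2
    right; right
    refine ⟨rfl, ?_⟩
    refine Cfsg.Agent.Lib.H6Q8.main hP ?_ ?_ haut
    · intro hc
      exact hab fun a b => (IsMulCommutative.is_comm.comm a b)
    · have h1 := Subgroup.card_mul_index (commutator Q)
      rw [hcomm, hZ, hcard] at h1
      rw [hcomm]
      omega
  have hodd : Odd p := hpp.out.odd_of_ne_two hp2
  have hZp : ∀ z ∈ Subgroup.center Q, z ^ p = 1 := by
    intro z hz
    have := pow_card_eq_one' (x := (⟨z, hz⟩ : Subgroup.center Q))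
    rw [hZ] at this
    exact congrArg Subtype.val this
  have hwZ : ∀ x y : Q, y * x * y⁻¹ * x⁻¹ ∈ Subgroup.center Q := by
    intro x y
    rw [← hcomm, ← commutatorElement_def]
    exact Subgroup.commutator_mem_commutator (Subgroup.mem_top y) (Subgroup.mem_top x)
  have hmulpow : ∀ x y : Q, (x * y) ^ p = x ^ p * y ^ p := by
    intro x y
    have hw := hwZ x y
    set w := y * x * y⁻¹ * x⁻¹ with hwd
    have hb : y * x = w * x * y := by
      rw [hwd]
      group
    have hwa : w * x = x * w := ((Subgroup.mem_center_iff.1 hw) x).symm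
    have hwb : w * y = y * w := ((Subgroup.mem_center_iff.1 hw) y).symm
    rw [Cfsg.Agent.Lib.NormalPP.mul_pow_aux hb hwa hwb p]
    have h2lt : 2 < p := lt_of_le_of_ne hpp.out.two_le (Ne.symm hp2)
    obtain ⟨t, ht⟩ := hpp.out.dvd_choose_self (by norm_num : 2 ≠ 0) h2lt
    rw [ht, pow_mul, hZp w hw, one_pow, one_mul]
  by_cases hexp : ∀ x : Q, x ^ p = 1
  · right; left
    exact ⟨hodd, ⟨⟨hP, frattini_eq_center hcard hab hZ hcomm, hcomm⟩, hZ⟩, hexp⟩
  · exfalso
    obtain ⟨x₀, hx₀⟩ : ∃ x : Q, x ^ p ≠ 1 := by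
      by_contra h
      exact hexp fun a => by
        by_contra h'
        exact h ⟨a, h'⟩
    let f : Q →* Q := MonoidHom.mk' (fun x => x ^ p) hmulpow
    have hf : ∀ (α : MulAut Q) x, f (α x) = α (f x) := fun α x => (map_pow α x p).symm
    have hK : AutInv f.ker := autInv_ker f hf
    have hfr : f.range ≤ Subgroup.center Q := by
      rintro _ ⟨x, rfl⟩
      exact hpow x
    have hrd : Nat.card f.range ∣ p := by
      rw [← hZ]
      exact Subgroup.card_dvd_of_le hfr
    have hrne : Nat.card f.range ≠ 1 := by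
      intro h1'
      haveI := (Nat.card_eq_one_iff_unique.1 h1').1
      have h5 : (⟨f x₀, x₀, rfl⟩ : f.range) = 1 := Subsingleton.elim _ _
      exact hx₀ (congrArg Subtype.val h5)
    have hrc : Nat.card f.range = p := by
      rcases (Nat.dvd_prime hpp.out).1 hrd with h6 | h6
      · exact absurd h6 hrne
      · exact h6
    have hKc : Nat.card f.ker = p ^ 2 := by
      have h1 := Subgroup.card_mul_index f.ker
      rw [Subgroup.index_ker, hcard, hrc] at h1
      have h4 : p * Nat.card f.ker = p * p ^ 2 := by rw [mul_comm, h1]; ring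
      exact Nat.eq_of_mul_eq_mul_left hpp.out.pos h4
    have hZK : Subgroup.center Q ≤ f.ker := by
      intro z hz
      rw [MonoidHom.mem_ker]
      exact hZp z hz
    exact no_chain autInv_center hK hZK hZ hKc hcard A M hX hdvd

end Cfsg.Agent.Lib.EssP3
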