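/-
Abelian two-generator groups whose automorphism groups carry a strongly embedded subgroup.
-/
import Mathlib
import Cfsg.Agent.Lib.EssP3

set_option autoImplicit false
set_option linter.all false

open Cfsg
open Cfsg.Agent.Lib.EssP3

namespace Cfsg.Agent.Lib.EssAb2

variable {p : ℕ} [hpp : Fact p.Prime]

section General

variable {Q : Type*} [Group Q] [Finite Q]

/-- A normal subgroup of automorphisms of `p`-power order containing all `p`-elements excludes
the structure. -/
theorem no_T (T : Subgroup (MulAut Q)) (hTn : T.Normal) (hTp : ∀ α ∈ T, ∃ n, α ^ p ^ n = 1)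
    (hmem : ∀ (α : MulAut Q) (n : ℕ), α ^ p ^ n = 1 → α ∈ T)
    (A : Subgroup (MulAut Q)) (M : Subgroup A) [M.Normal] (hX : pCore p (A ⧸ M) = ⊥)
    (hdvd : p ∣ Nat.card (A ⧸ M)) : False := by
  classical
  haveI : Finite (MulAut Q) := Finite.of_injective (fun f : MulAut Q => (f : Q → Q))
    (fun f g h => MulEquiv.ext (congrFun h))
  let π := QuotientGroup.mk' M
  have hπsurj : Function.Surjective π := QuotientGroup.mk'_surjective _
  have hT₁n : (T.subgroupOf A).Normal := hTn.subgroupOf A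
  have hmapN : ((T.subgroupOf A).map π).Normal := hT₁n.map π hπsurj
  have hmapP : IsPGroup p ((T.subgroupOf A).map π) := by
    intro x
    obtain ⟨x, ⟨t, ht, rfl⟩⟩ := x
    obtain ⟨n, hn⟩ := hTp _ (Subgroup.mem_subgroupOf.1 ht)
    refine ⟨n, ?_⟩
    apply Subtype.ext
    show π t ^ p ^ n = 1
    rw [← map_pow]
    have h4 : t ^ p ^ n = 1 := Subtype.ext hn
    rw [h4, map_one]
  have hle := Cfsg.Agent.Lib.PCore.le_pCore hmapN hmapP
  rw [hX, le_bot_iff] at hle
  obtain ⟨ξ, hξ⟩ := exists_prime_orderOf_dvd_card' p hdvd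
  obtain ⟨a, rfl⟩ := hπsurj ξ
  have hn : orderOf a ≠ 0 := (orderOf_pos a).ne'
  obtain ⟨e, m, hm, hem⟩ := Nat.exists_eq_pow_mul_and_not_dvd hn p hpp.out.ne_one
  have hpow : ((a ^ m : A) : MulAut Q) ^ p ^ e = 1 := by
    have h5 : (a ^ m) ^ p ^ e = 1 := by
      rw [← pow_mul, mul_comm, ← hem, pow_orderOf_eq_one]
    exact congrArg Subtype.val h5
  have hmem' : a ^ m ∈ T.subgroupOf A := Subgroup.mem_subgroupOf.2 (hmem _ _ hpow)
  have h6 : π (a ^ m) = 1 := by
    have : π (a ^ m) ∈ (T.subgroupOf A).map π := ⟨_, hmem', rfl⟩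
    rw [hle] at this
    exact Subgroup.mem_bot.1 this
  rw [map_pow] at h6
  have h7 := orderOf_dvd_of_pow_eq_one h6
  rw [hξ] at h7
  exact hm h7

/-- Burnside: automorphisms trivial on the Frattini quotient have `p`-power order. -/
theorem burnside (hP : IsPGroup p Q) (β : MulAut Q) (hβ : ∀ z, β z * z⁻¹ ∈ frattini Q) :
    ∃ c, β ^ p ^ c = 1 := by
  classical
  haveI : Finite (MulAut Q) := Finite.of_injective (fun f : MulAut Q => (f : Q → Q))
    (fun f g h => MulEquiv.ext (congrFun h))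
  let B : Subgroup (MulAut Q) :=
    { carrier := {γ | ∀ z, γ z * z⁻¹ ∈ frattini Q}
      mul_mem' := fun {a b} ha hb z => by
        have e : (a * b) z * z⁻¹ = (a (b z) * (b z)⁻¹) * (b z * z⁻¹) := by
          show a (b z) * z⁻¹ = _
          group
        rw [e]
        exact Subgroup.mul_mem _ (ha _) (hb _)
      one_mem' := fun z => by
        show z * z⁻¹ ∈ _
        rw [mul_inv_cancel]
        exact Subgroup.one_mem _
      inv_mem' := fun {a} ha z => by
        have h1 : a (a⁻¹ z) = z := by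
          show (a * a⁻¹) z = z
          rw [mul_inv_cancel]
          rfl
        have h2 := ha (a⁻¹ z)
        rw [h1] at h2
        have e : a⁻¹ z * z⁻¹ = (z * (a⁻¹ z)⁻¹)⁻¹ := by group
        rw [e]
        exact Subgroup.inv_mem _ h2 }
  obtain ⟨n, hn⟩ := IsPGroup.iff_card.1 hP
  obtain ⟨r, -, hr⟩ := (Nat.dvd_prime_pow hpp.out).1
    (show (frattini Q).index ∣ p ^ n by
      rw [← hn]
      exact Subgroup.index_dvd_card _)
  have hd := Cfsg.Agent.Lib.H6PGroup.card_dvd_main hn hr B (fun α hα x => hα x)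
  have hB : IsPGroup p B := IsPGroup.of_card_dvd_pow hd
  obtain ⟨c, hc⟩ := hB ⟨β, hβ⟩
  exact ⟨c, congrArg Subtype.val hc⟩

/-- A version of triviality on factors for one automorphism. -/
theorem trivial_on_factor' {N₁ N₂ : Subgroup Q} (hn : N₁.Normal) (α : MulAut Q)
    (h₁ : ∀ x ∈ N₁, α x ∈ N₁) (h₂ : ∀ x ∈ N₂, α x ∈ N₂) (h12 : N₁ ≤ N₂)
    (hc : Nat.card N₂ = p * Nat.card N₁) (n : ℕ) (hα : α ^ p ^ n = 1) :
    ∀ x ∈ N₂, x⁻¹ * α x ∈ N₁ := by
  classical
  let π := QuotientGroup.mk' N₁
  let C : Subgroup (Q ⧸ N₁) := N₂.map π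
  have hcardC : Nat.card C = p := by
    have h3 : (π.comp N₂.subtype).ker = N₁.subgroupOf N₂ := by
      ext x
      rw [MonoidHom.mem_ker, Subgroup.mem_subgroupOf]
      exact QuotientGroup.eq_one_iff _
    have h4 : (π.comp N₂.subtype).range = C := by
      rw [MonoidHom.range_comp, Subgroup.range_subtype]
    have h5 := Subgroup.card_mul_index (π.comp N₂.subtype).ker
    rw [Subgroup.index_ker, h4, h3] at h5
    have h6 : Nat.card (N₁.subgroupOf N₂) = Nat.card N₁ :=
      Nat.card_congr (Subgroup.subgroupOfEquivOfLe h12).toEquiv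
    rw [h6, hc, mul_comm] at h5
    exact Nat.eq_of_mul_eq_mul_right Nat.card_pos h5
  have hmap : N₁ ≤ N₁.comap α.toMonoidHom := fun x hx => h₁ x hx
  let σ : Q ⧸ N₁ →* Q ⧸ N₁ := QuotientGroup.map N₁ N₁ α.toMonoidHom hmap
  have hσ : ∀ x : Q, σ (π x) = π (α x) := fun x => rfl
  have hσC : ∀ c ∈ C, σ c ∈ C := by
    rintro _ ⟨x, hx, rfl⟩
    exact ⟨α x, h₂ x hx, rfl⟩
  have hiter : ∀ (k : ℕ) (x : Q), σ^[k] (π x) = π ((α ^ k) x) := by
    intro k
    induction k with
    | zero => intro x; rfl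
    | succ k ih =>
      intro x
      rw [Function.iterate_succ_apply', ih, hσ, pow_succ']
      rfl
  let f : C → C := fun c => ⟨σ c, hσC c c.2⟩
  have hfiter : ∀ (k : ℕ) (c : C), ((f^[k] c : C) : Q ⧸ N₁) = σ^[k] c := by
    intro k
    induction k with
    | zero => intro c; rfl
    | succ k ih =>
      intro c
      rw [Function.iterate_succ_apply', Function.iterate_succ_apply']
      show σ _ = _
      rw [ih]
  have hfix := fix_of_card_p hcardC (1 : C) f (Subtype.ext (map_one σ)) n (fun c => by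
    apply Subtype.ext
    rw [hfiter]
    obtain ⟨c, x, hx, rfl⟩ := c
    show σ^[p ^ n] (π x) = π x
    rw [hiter, hα]
    rfl)
  intro x hx
  have h7 := congrArg Subtype.val (hfix ⟨π x, ⟨x, hx, rfl⟩⟩)
  have h8 : π (α x) = π x := h7
  have h9 : π (x⁻¹ * α x) = 1 := by
    rw [map_mul, map_inv, h8, inv_mul_cancel]
  exact (QuotientGroup.eq_one_iff _).1 h9

end General

section Comm

variable {Q : Type*} [CommGroup Q] [Finite Q]

/-- The `p`-th powers. -/
def powF (p : ℕ) (Q : Type*) [CommGroup Q] : Subgroup Q := (powMonoidHom p : Q →* Q).range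

theorem mem_powF {z : Q} : z ∈ powF p Q ↔ ∃ t : Q, t ^ p = z := Iff.rfl

theorem pow_mem_powF (t : Q) : t ^ p ∈ powF p Q := ⟨t, rfl⟩

theorem autInv_powF : AutInv (powF p Q) := by
  rintro α _ ⟨t, rfl⟩
  exact ⟨α t, (map_pow α t p).symm⟩

/-- The stabilizer of a chain of length two. -/
def stab2 (E F : Subgroup Q) (hE : AutInv E) (hFE : F ≤ E) (hF : AutInv F) :
    Subgroup (MulAut Q) where
  carrier := {α | (∀ x ∈ E, x⁻¹ * α x ∈ F) ∧ ∀ x, x⁻¹ * α x ∈ E}
  mul_mem' := by
    rintro α β ⟨a2, a3⟩ ⟨b2, b3⟩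
    refine ⟨fun x hx => ?_, fun x => ?_⟩
    · show x⁻¹ * α (β x) ∈ F
      have e : x⁻¹ * α (β x) = (x⁻¹ * β x) * ((β x)⁻¹ * α (β x)) := by group
      rw [e]
      exact F.mul_mem (b2 x hx) (a2 _ (hE β x hx))
    · show x⁻¹ * α (β x) ∈ E
      have e : x⁻¹ * α (β x) = (x⁻¹ * β x) * ((β x)⁻¹ * α (β x)) := by group
      rw [e]
      exact E.mul_mem (b3 x) (a3 _)
  one_mem' := by
    refine ⟨fun x _ => ?_, fun x => ?_⟩ <;>
      · show x⁻¹ * x ∈ _
        rw [inv_mul_cancel]
        exact Subgroup.one_mem _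
  inv_mem' := by
    rintro α ⟨a2, a3⟩
    have e : ∀ x : Q, x⁻¹ * α⁻¹ x = ((α⁻¹ x)⁻¹ * α (α⁻¹ x))⁻¹ := by
      intro x
      have : α (α⁻¹ x) = x := by
        show (α * α⁻¹) x = x
        rw [mul_inv_cancel]
        rfl
      rw [this]
      group
    refine ⟨fun x hx => ?_, fun x => ?_⟩
    · rw [e]
      exact F.inv_mem (a2 _ (hE α⁻¹ x hx))
    · rw [e]
      exact E.inv_mem (a3 _)

theorem stab2_normal (E F : Subgroup Q) (hE : AutInv E) (hFE : F ≤ E) (hF : AutInv F) :
    (stab2 E F hE hFE hF).Normal := by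
  refine ⟨?_⟩
  rintro α ⟨a2, a3⟩ γ
  have hrec : ∀ x : Q, γ (γ⁻¹ x) = x := by
    intro x
    show (γ * γ⁻¹) x = x
    rw [mul_inv_cancel]
    rfl
  have e : ∀ x : Q, x⁻¹ * (γ * α * γ⁻¹) x = γ ((γ⁻¹ x)⁻¹ * α (γ⁻¹ x)) := by
    intro x
    show x⁻¹ * γ (α (γ⁻¹ x)) = _
    rw [map_mul, map_inv, hrec]
  refine ⟨fun x hx => ?_, fun x => ?_⟩
  · rw [e]
    exact hF γ _ (a2 _ (hE γ⁻¹ x hx))
  · rw [e]
    exact hE γ _ (a3 _)

theorem comm_key (z n N D' ac : Q) : z⁻¹ * (z * n * (N * D') * ac) * (N * n)⁻¹ = D' * ac := by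
  rw [mul_inv]
  have : z⁻¹ * (z * n * (N * D') * ac) * (N⁻¹ * n⁻¹) =
      (z⁻¹ * z) * (n * n⁻¹) * (N * N⁻¹) * (D' * ac) := by ac_rfl
  rw [this]
  simp

theorem comm_key2 (z N w : Q) : w = z * N * (z⁻¹ * w * N⁻¹) := by
  have : z * N * (z⁻¹ * w * N⁻¹) = (z * z⁻¹) * (N * N⁻¹) * w := by ac_rfl
  rw [this]
  simp

/-- An element of the two-step stabilizer: its `p`-th power is trivial modulo `p`-th powers. -/
theorem pow_mem_of_stab2 {E : Subgroup Q} {α : MulAut Q} (hF : AutInv (powF p Q))
    (h1 : ∀ x ∈ E, x⁻¹ * α x ∈ powF p Q) (h2 : ∀ x, x⁻¹ * α x ∈ E) (z : Q) :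
    z⁻¹ * (α ^ p) z ∈ powF p Q := by
  set n := z⁻¹ * α z with hn
  have hnE : n ∈ E := h2 z
  have hαz : α z = z * n := by rw [hn]; group
  have hclaim : ∀ j : ℕ, z⁻¹ * (α ^ j) z * (n ^ j)⁻¹ ∈ powF p Q := by
    intro j
    induction j with
    | zero =>
      have : z⁻¹ * (α ^ 0) z * (n ^ 0)⁻¹ = 1 := by simp
      rw [this]
      exact Subgroup.one_mem _
    | succ j ih =>
      set c := z⁻¹ * (α ^ j) z * (n ^ j)⁻¹ with hc
      have h3 : (α ^ j) z = z * n ^ j * c := comm_key2 z (n ^ j) _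
      have e : z⁻¹ * (α ^ (j + 1)) z * (n ^ (j + 1))⁻¹ = (n⁻¹ * α n) ^ j * α c := by
        rw [pow_succ', MulAut.mul_apply, h3, map_mul, map_mul, map_pow, hαz]
        generalize α c = ac
        generalize hnn : n⁻¹ * α n = d
        have h5 : α n = n * d := by rw [← hnn]; group
        rw [h5, mul_pow, pow_succ n j]
        exact comm_key z n (n ^ j) (d ^ j) ac
      rw [e]
      exact Subgroup.mul_mem _ (Subgroup.pow_mem _ (h1 n hnE) _) (hF α c ih)
  have h5 := Subgroup.mul_mem _ (hclaim p) (pow_mem_powF (p := p) n)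
  have e : z⁻¹ * (α ^ p) z * (n ^ p)⁻¹ * n ^ p = z⁻¹ * (α ^ p) z := by group
  rwa [e] at h5

/-- Case of an index `p` subgroup `E`: excluded. -/
theorem caseB (hP : IsPGroup p Q) {E : Subgroup Q} (hE : AutInv E) (hFE : powF p Q ≤ E)
    (hQE : Nat.card Q = p * Nat.card E)
    (hEF : Nat.card E = Nat.card (powF p Q) ∨ Nat.card E = p * Nat.card (powF p Q))
    (A : Subgroup (MulAut Q)) (M : Subgroup A) [M.Normal] (hX : pCore p (A ⧸ M) = ⊥)
    (hdvd : p ∣ Nat.card (A ⧸ M)) : False := by
  have hF : AutInv (powF p Q) := autInv_powF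
  refine no_T (stab2 E (powF p Q) hE hFE hF) (stab2_normal _ _ _ _ _) ?_ ?_ A M hX hdvd
  · rintro α ⟨h1, h2⟩
    obtain ⟨c, hc⟩ := burnside hP (α ^ p) (fun z => by
      have h3 := pow_mem_of_stab2 hF h1 h2 z
      have h4 : (α ^ p) z * z⁻¹ = z⁻¹ * (α ^ p) z := mul_comm _ _
      rw [h4]
      obtain ⟨t, ht⟩ := h3
      have h5 : t ^ p = z⁻¹ * (α ^ p) z := ht
      rw [← h5]
      exact Cfsg.Agent.Lib.H6PGroup.pow_mem_frattini hP t)
    exact ⟨c + 1, by rw [pow_succ', pow_mul]; exact hc⟩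
  · intro α n hα
    refine ⟨fun x hx => ?_, fun x => ?_⟩
    · rcases hEF with h3 | h3
      · have h4 : powF p Q = E := Subgroup.eq_of_le_of_card_ge hFE h3.le
        rw [h4]
        exact E.mul_mem (E.inv_mem hx) (hE α x hx)
      · exact trivial_on_factor' (Subgroup.Normal.mk fun n hn g => hF (MulAut.conj g) n hn) α
          (hF α) (hE α) hFE h3 n hα x hx
    · have htop : Nat.card (⊤ : Subgroup Q) = p * Nat.card E := by
        rw [Subgroup.card_top, hQE]
      exact trivial_on_factor' (Subgroup.Normal.mk fun n hn g => hE (MulAut.conj g) n hn) α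
        (hE α) (fun y _ => Subgroup.mem_top _) le_top htop n hα x (Subgroup.mem_top _)

/-- The map from pairs of residues. -/
noncomputable def pairHom {G : Type*} [CommGroup G] (m : ℕ) [NeZero m] (a b : G) (ha : a ^ m = 1)
    (hb : b ^ m = 1) : Multiplicative (ZMod m × ZMod m) →* G :=
  MonoidHom.mk' (fun w => a ^ (Multiplicative.toAdd w).1.val * b ^ (Multiplicative.toAdd w).2.val)
    (fun w w' => by
      show a ^ ((Multiplicative.toAdd w).1 + (Multiplicative.toAdd w').1).val *
        b ^ ((Multiplicative.toAdd w).2 + (Multiplicative.toAdd w').2).val = _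
      rw [ZMod.val_add, ZMod.val_add, ← pow_eq_pow_mod _ ha, ← pow_eq_pow_mod _ hb, pow_add, pow_add]
      exact mul_mul_mul_comm _ _ _ _)

theorem pairHom_apply {G : Type*} [CommGroup G] (m : ℕ) [NeZero m] (a b : G) (ha : a ^ m = 1)
    (hb : b ^ m = 1) (i j : ZMod m) :
    pairHom m a b ha hb (Multiplicative.ofAdd (i, j)) = a ^ i.val * b ^ j.val := rfl

theorem pairHom_surj {G : Type*} [CommGroup G] (m : ℕ) [NeZero m] (a b : G) (ha : a ^ m = 1)
    (hb : b ^ m = 1) (h : Subgroup.closure ({a, b} : Set G) = ⊤) :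
    Function.Surjective (pairHom m a b ha hb) := by
  rw [← MonoidHom.range_eq_top, eq_top_iff, ← h, Subgroup.closure_le]
  rintro z (rfl | rfl)
  · refine ⟨Multiplicative.ofAdd (1, 0), ?_⟩
    rw [pairHom_apply, ZMod.val_zero, pow_zero, mul_one, ZMod.val_one_eq_one_mod, ← pow_eq_pow_mod _ ha,
      pow_one]
  · refine ⟨Multiplicative.ofAdd (0, 1), ?_⟩
    rw [pairHom_apply, ZMod.val_zero, pow_zero, one_mul, ZMod.val_one_eq_one_mod, ← pow_eq_pow_mod _ hb,
      pow_one]

theorem exp_dvd {x y : Q} {l : ℕ}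
    (hind : ∀ i j : ℕ, (x ^ p ^ l) ^ i * (y ^ p ^ l) ^ j = 1 → p ∣ i ∧ p ∣ j) (i j : ℕ)
    (hij : x ^ i * y ^ j = 1) : p ^ (l + 1) ∣ i ∧ p ^ (l + 1) ∣ j := by
  have hclaim : ∀ r, r ≤ l + 1 → p ^ r ∣ i ∧ p ^ r ∣ j := by
    intro r
    induction r with
    | zero => intro _; simp
    | succ r ih =>
      intro hr
      obtain ⟨⟨i', hi'⟩, ⟨j', hj'⟩⟩ := ih (by omega)
      have hrl : r ≤ l := by omega
      have e : p ^ r * p ^ (l - r) = p ^ l := by
        rw [← pow_add]
        congr 1
        omega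
      have h1 : (x ^ p ^ l) ^ i' * (y ^ p ^ l) ^ j' = 1 := by
        have h2 : (x ^ i * y ^ j) ^ p ^ (l - r) = 1 := by rw [hij, one_pow]
        rw [mul_pow, hi', hj', ← pow_mul, ← pow_mul] at h2
        have e1 : p ^ r * i' * p ^ (l - r) = p ^ l * i' := by rw [← e]; ring
        have e2 : p ^ r * j' * p ^ (l - r) = p ^ l * j' := by rw [← e]; ring
        rw [e1, e2, pow_mul, pow_mul] at h2
        exact h2
      obtain ⟨⟨a, ha⟩, ⟨b, hb⟩⟩ := hind i' j' h1
      refine ⟨⟨a, ?_⟩, ⟨b, ?_⟩⟩
      · rw [hi', ha, pow_succ]; ring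
      · rw [hj', hb, pow_succ]; ring
  exact hclaim (l + 1) le_rfl

theorem iso_of_indep {x y : Q} {l : ℕ} (hgen : Subgroup.closure ({x, y} : Set Q) = ⊤)
    (hx : x ^ p ^ (l + 1) = 1) (hy : y ^ p ^ (l + 1) = 1)
    (hind : ∀ i j : ℕ, (x ^ p ^ l) ^ i * (y ^ p ^ l) ^ j = 1 → p ∣ i ∧ p ∣ j) :
    Nonempty (Q ≃* Multiplicative (ZMod (p ^ (l + 1)) × ZMod (p ^ (l + 1)))) := by
  classical
  haveI : NeZero (p ^ (l + 1)) := ⟨pow_ne_zero _ hpp.out.ne_zero⟩
  have hsurj := pairHom_surj (p ^ (l + 1)) x y hx hy hgen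
  have hinj : Function.Injective (pairHom (p ^ (l + 1)) x y hx hy) := by
    rw [injective_iff_map_eq_one]
    intro w hw
    obtain ⟨h1, h2⟩ := exp_dvd hind _ _ hw
    have h3 : (Multiplicative.toAdd w).1.val = 0 :=
      Nat.eq_zero_of_dvd_of_lt h1 (ZMod.val_lt _)
    have h4 : (Multiplicative.toAdd w).2.val = 0 :=
      Nat.eq_zero_of_dvd_of_lt h2 (ZMod.val_lt _)
    apply Multiplicative.toAdd.injective
    exact Prod.ext ((ZMod.val_eq_zero _).1 h3) ((ZMod.val_eq_zero _).1 h4)
  exact ⟨(MulEquiv.ofBijective _ ⟨hinj, hsurj⟩).symm⟩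

/-- The square of the difference is trivial on the Frattini-type quotient. -/
theorem sq_trivial (hP : IsPGroup p Q) (α : MulAut Q) (n : ℕ) (hα : α ^ p ^ n = 1)
    (hcard : Nat.card (Q ⧸ powF p Q) ≤ p ^ 2) (z : Q) :
    (z⁻¹ * α z)⁻¹ * α (z⁻¹ * α z) ∈ powF p Q := by
  classical
  have hF : AutInv (powF p Q) := autInv_powF
  let π := QuotientGroup.mk' (powF p Q)
  have hmap : powF p Q ≤ (powF p Q).comap α.toMonoidHom := fun x hx => hF α x hx
  let σ : Q ⧸ powF p Q →* Q ⧸ powF p Q := QuotientGroup.map _ _ α.toMonoidHom hmap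
  have hσ : ∀ x : Q, σ (π x) = π (α x) := fun x => rfl
  have hπsurj : Function.Surjective π := QuotientGroup.mk'_surjective _
  have hiter : ∀ (k : ℕ) (x : Q), σ^[k] (π x) = π ((α ^ k) x) := by
    intro k
    induction k with
    | zero => intro x; rfl
    | succ k ih =>
      intro x
      rw [Function.iterate_succ_apply', ih, hσ, pow_succ']
      rfl
  have hσid : ∀ w, σ^[p ^ n] w = w := by
    intro w
    obtain ⟨x, rfl⟩ := hπsurj w
    rw [hiter, hα]
    rfl
  let V := Q ⧸ powF p Q
  let δ : V →* V := MonoidHom.mk' (fun w => w⁻¹ * σ w) (fun a b => by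
    rw [map_mul, mul_inv]
    exact mul_mul_mul_comm _ _ _ _)
  have hδ : ∀ w, δ w = w⁻¹ * σ w := fun w => rfl
  have hcomm : ∀ w, σ (δ w) = δ (σ w) := by
    intro w
    rw [hδ, hδ, map_mul, map_inv]
  -- every element of the image is fixed
  have hfixR : ∀ r ∈ δ.range, σ r = r := by
    by_cases hR1 : Nat.card δ.range = 1
    · intro r hr
      haveI := (Nat.card_eq_one_iff_unique.1 hR1).1
      have h1 : (⟨δ r, r, rfl⟩ : δ.range) = 1 := Subsingleton.elim _ _
      have h2 : r⁻¹ * σ r = 1 := congrArg Subtype.val h1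
      exact (inv_mul_eq_one.1 h2).symm
    · -- the order of the image
      have hVp : IsPGroup p V := hP.to_quotient _
      obtain ⟨a, ha⟩ := IsPGroup.iff_card.1 hVp
      have h0 := Subgroup.card_mul_index δ.ker
      rw [Subgroup.index_ker, ha] at h0
      obtain ⟨b, hb, hb'⟩ := (Nat.dvd_prime_pow hpp.out).1 (show Nat.card δ.range ∣ p ^ a from ⟨_, by rw [mul_comm]; exact h0.symm⟩)
      have hb0 : b ≠ 0 := by
        rintro rfl
        exact hR1 (by rw [hb', pow_zero])
      have hpR : p ∣ Nat.card δ.range := by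
        rw [hb']
        exact dvd_pow_self p hb0
      have hpV : p ∣ Nat.card V := by
        rw [ha]
        exact dvd_pow_self p (by
          rintro rfl
          rw [pow_zero] at h0
          exact hR1 (Nat.dvd_one.1 ⟨_, by rw [mul_comm]; exact h0.symm⟩))
      -- fixed points
      haveI := Fintype.ofFinite V
      let g : Function.End V := fun w => σ w
      have hgk : ∀ (k : ℕ) (c : V), (g ^ k) c = σ^[k] c := by
        intro k
        induction k with
        | zero => intro c; rfl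
        | succ k ih =>
          intro c
          rw [pow_succ', Function.iterate_succ_apply', ← ih]
          rfl
      have hg : g ^ p ^ n = 1 := by
        funext c
        rw [hgk]
        exact hσid c
      have hmod := Equiv.Perm.card_fixedPoints_modEq hg
      have hfk : Nat.card (Function.fixedPoints g) = Nat.card δ.ker := by
        apply Nat.card_congr
        refine Equiv.subtypeEquivRight (fun w => ?_)
        rw [MonoidHom.mem_ker, hδ, inv_mul_eq_one]
        exact ⟨fun h => h.symm, fun h => h.symm⟩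
      have hpk : p ∣ Nat.card δ.ker := by
        rw [← hfk, Nat.card_eq_fintype_card]
        have h5 : p ∣ Fintype.card V := by
          rw [← Nat.card_eq_fintype_card]
          exact hpV
        exact (Nat.modEq_zero_iff_dvd.1 (hmod.symm.trans (Nat.modEq_zero_iff_dvd.2 h5)))
      have hk_le : p ≤ Nat.card δ.ker := Nat.le_of_dvd Nat.card_pos hpk
      have hV_le : Nat.card V ≤ p ^ 2 := hcard
      have hRle : Nat.card δ.range ≤ p := by
        have h6 : Nat.card δ.ker * Nat.card δ.range ≤ p ^ 2 := by rw [h0, ← ha]; exact hV_le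
        have h7 : p * Nat.card δ.range ≤ p * p := by
          calc p * Nat.card δ.range ≤ Nat.card δ.ker * Nat.card δ.range := Nat.mul_le_mul_right _ hk_le
            _ ≤ p ^ 2 := h6
            _ = p * p := by ring
        exact Nat.le_of_mul_le_mul_left h7 hpp.out.pos
      have hRp : Nat.card δ.range = p :=
        le_antisymm hRle (Nat.le_of_dvd Nat.card_pos hpR)
      let f : δ.range → δ.range := fun c => ⟨σ c, by
        obtain ⟨c, w, rfl⟩ := c
        exact ⟨σ w, (hcomm w).symm⟩⟩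
      have hfiter : ∀ (k : ℕ) (c : δ.range), ((f^[k] c : δ.range) : V) = σ^[k] c := by
        intro k
        induction k with
        | zero => intro c; rfl
        | succ k ih =>
          intro c
          rw [Function.iterate_succ_apply', Function.iterate_succ_apply']
          show σ _ = _
          rw [ih]
      have hfix := fix_of_card_p hRp (1 : δ.range) f (Subtype.ext (map_one σ)) n (fun c => by
        apply Subtype.ext
        rw [hfiter]
        exact hσid _)
      intro r hr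
      exact congrArg Subtype.val (hfix ⟨r, hr⟩)
  have h1 := hfixR (δ (π z)) ⟨π z, rfl⟩
  have h2 : π ((z⁻¹ * α z)⁻¹ * α (z⁻¹ * α z)) = 1 := by
    have h3 : π (z⁻¹ * α z) = δ (π z) := by
      rw [hδ, map_mul, map_inv]
      rfl
    rw [map_mul, map_inv, h3]
    have h4 : π (α (z⁻¹ * α z)) = σ (δ (π z)) := by
      rw [← h3]
      rfl
    rw [h4, h1, inv_mul_cancel]
  exact (QuotientGroup.eq_one_iff _).1 h2

/-- The binomial argument. -/
theorem core (hp5 : 5 ≤ p) (α : MulAut Q) (hα : α ^ p = 1)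
    (hD2 : ∀ z, (z⁻¹ * α z)⁻¹ * α (z⁻¹ * α z) ∈ powF p Q)
    (hQp : ∀ z : Q, z ^ p = 1 → z ∈ powF p Q) (v : Q) : v⁻¹ * α v ∈ powF p Q := by
  classical
  let A' : AddMonoid.End (Additive Q) := α.toMonoidHom.toAdditive
  let D : AddMonoid.End (Additive Q) := A' - 1
  have hDm : ∀ z : Q, Additive.toMul (D (Additive.ofMul z)) = z⁻¹ * α z := by
    intro z
    show α z / z = _
    rw [div_eq_mul_inv, mul_comm]
  let P₁ : Additive Q → Prop := fun w => Additive.toMul w ∈ powF p Q
  let P₂ : Additive Q → Prop := fun w => Additive.toMul w ∈ powF (p * p) Q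
  have hP₁smul : ∀ x : Additive Q, P₁ (p • x) := fun x => ⟨Additive.toMul x, rfl⟩
  have hP₂smul : ∀ x : Additive Q, P₂ ((p * p) • x) := fun x => ⟨Additive.toMul x, rfl⟩
  have hP₁ex : ∀ w, P₁ w → ∃ u : Additive Q, w = p • u := by
    rintro w ⟨t, ht⟩
    exact ⟨Additive.ofMul t, (congrArg Additive.ofMul ht).symm⟩
  have hP₂ex : ∀ w, P₂ w → ∃ u : Additive Q, w = (p * p) • u := by
    rintro w ⟨t, ht⟩
    exact ⟨Additive.ofMul t, (congrArg Additive.ofMul ht).symm⟩
  have hP₁D : ∀ w, P₁ w → P₁ (D w) := by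
    intro w hw
    obtain ⟨u, rfl⟩ := hP₁ex w hw
    rw [map_nsmul]
    exact hP₁smul _
  have hP₂D : ∀ w, P₂ w → P₂ (D w) := by
    intro w hw
    obtain ⟨u, rfl⟩ := hP₂ex w hw
    rw [map_nsmul]
    exact hP₂smul _
  have hDD : ∀ w, P₁ (D (D w)) := by
    intro w
    show Additive.toMul (D (D w)) ∈ _
    have e1 : D w = Additive.ofMul ((Additive.toMul w)⁻¹ * α (Additive.toMul w)) :=
      congrArg Additive.ofMul (hDm (Additive.toMul w))
    rw [e1, hDm]
    exact hD2 _
  have hDDP : ∀ w, P₁ w → P₂ (D (D w)) := by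
    intro w hw
    obtain ⟨u, rfl⟩ := hP₁ex w hw
    rw [map_nsmul, map_nsmul]
    obtain ⟨s, hs⟩ := hP₁ex _ (hDD u)
    rw [hs, smul_smul]
    exact hP₂smul _
  have hpP : ∀ w, P₁ w → P₂ (p • w) := by
    intro w hw
    obtain ⟨u, rfl⟩ := hP₁ex w hw
    rw [smul_smul]
    exact hP₂smul _
  have hP₂n : ∀ (c : ℕ) w, P₂ w → P₂ (c • w) := by
    intro c w hw
    exact Subgroup.pow_mem _ hw c
  have hpow1 : ∀ (i : ℕ) w, P₁ w → P₁ ((D ^ i) w) := by
    intro i
    induction i with
    | zero => intro w hw; exact hw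
    | succ i ih =>
      intro w hw
      rw [pow_succ]
      exact ih _ (hP₁D w hw)
  have hpow2 : ∀ (i : ℕ) w, P₂ w → P₂ ((D ^ i) w) := by
    intro i
    induction i with
    | zero => intro w hw; exact hw
    | succ i ih =>
      intro w hw
      rw [pow_succ]
      exact ih _ (hP₂D w hw)
  have hge2 : ∀ (i : ℕ) w, P₁ ((D ^ (i + 2)) w) := by
    intro i w
    rw [pow_add, pow_two]
    exact hpow1 i _ (hDD w)
  have hge4 : ∀ (i : ℕ) w, P₂ ((D ^ (i + 4)) w) := by
    intro i w
    have e : D ^ (i + 4) = D ^ i * (D * (D * (D * D))) := by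
      rw [pow_add]
      congr 1
    rw [e]
    exact hpow2 i _ (hDDP _ (hDD w))
  -- the binomial expansion
  have hA'pow : ∀ (j : ℕ) (w : Additive Q), (A' ^ j) w = Additive.ofMul ((α ^ j) (Additive.toMul w)) := by
    intro j
    induction j with
    | zero => intro w; rfl
    | succ j ih =>
      intro w
      rw [pow_succ', pow_succ']
      show A' ((A' ^ j) w) = Additive.ofMul (α ((α ^ j) (Additive.toMul w)))
      rw [ih]
      rfl
  have hA'1 : A' ^ p = 1 := by
    apply AddMonoidHom.ext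
    intro w
    exact (hA'pow p w).trans (by rw [hα]; rfl)
  have hA'D : A' = D + 1 := (sub_add_cancel A' 1).symm
  have hbin := (Commute.one_right D).add_pow p
  rw [← hA'D, hA'1] at hbin
  set w₀ : Additive Q := Additive.ofMul v with hw₀
  have hev := congrArg (fun f : AddMonoid.End (Additive Q) => f w₀) hbin
  simp only [one_pow, mul_one] at hev
  have hev' : w₀ = ∑ m ∈ Finset.range (p + 1), (p.choose m) • (D ^ m) w₀ := by
    have h1 : ∀ (s : Finset ℕ), (∑ m ∈ s, D ^ m * ((p.choose m : ℕ) : AddMonoid.End (Additive Q))) w₀ =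
        ∑ m ∈ s, (p.choose m) • (D ^ m) w₀ := by
      intro s
      induction s using Finset.induction_on with
      | empty => rfl
      | insert a s ha ih =>
        rw [Finset.sum_insert ha, Finset.sum_insert ha]
        show (D ^ a * ((p.choose a : ℕ) : AddMonoid.End (Additive Q))) w₀ +
          (∑ m ∈ s, D ^ m * ((p.choose m : ℕ) : AddMonoid.End (Additive Q))) w₀ = _
        rw [ih]
        congr 1
        show (D ^ a) (((p.choose a : ℕ) : AddMonoid.End (Additive Q)) w₀) = _
        rw [AddMonoid.End.natCast_apply, map_nsmul]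
    rw [← h1]
    exact hev
  obtain ⟨q, hq⟩ : ∃ q, p = q + 2 := ⟨p - 2, by omega⟩
  have hsplit : ∑ m ∈ Finset.range (p + 1), (p.choose m) • (D ^ m) w₀ =
      ∑ i ∈ Finset.range (q + 1), (p.choose (i + 2)) • (D ^ (i + 2)) w₀ +
        (p.choose 1) • (D ^ 1) w₀ + (p.choose 0) • (D ^ 0) w₀ := by
    have e : p + 1 = q + 1 + 1 + 1 := by omega
    rw [e, Finset.sum_range_succ', Finset.sum_range_succ']
  rw [hsplit, Nat.choose_zero_right, Nat.choose_one_right, one_smul, pow_zero, pow_one] at hev'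
  have hP₂sum : P₂ (∑ i ∈ Finset.range (q + 1), (p.choose (i + 2)) • (D ^ (i + 2)) w₀) := by
    apply Finset.sum_induction _ P₂ (fun a b ha hb => Subgroup.mul_mem _ ha hb) (Subgroup.one_mem _)
    intro i hi
    rw [Finset.mem_range] at hi
    by_cases h2 : i + 2 = p
    · rw [h2, Nat.choose_self, one_smul]
      obtain ⟨t, ht⟩ : ∃ t, p = t + 4 := ⟨p - 4, by omega⟩
      rw [ht]
      exact hge4 t w₀
    · have h3 : i + 2 < p := by omega
      obtain ⟨c, hc⟩ := hpp.out.dvd_choose_self (by omega : i + 2 ≠ 0) h3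
      rw [hc, mul_comm, mul_smul]
      exact hP₂n c _ (hpP _ (hge2 i w₀))
  have hfinal : p • D w₀ = -(∑ i ∈ Finset.range (q + 1), (p.choose (i + 2)) • (D ^ (i + 2)) w₀) := by
    have h5 : ∑ i ∈ Finset.range (q + 1), (p.choose (i + 2)) • (D ^ (i + 2)) w₀ + p • D w₀ = 0 := by
      have h1w : (1 : AddMonoid.End (Additive Q)) w₀ = w₀ := rfl
      rw [h1w] at hev'
      exact add_eq_right.1 hev'.symm
    exact eq_neg_of_add_eq_zero_right h5
  have hP₂D₀ : P₂ (p • D w₀) := by
    rw [hfinal]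
    exact Subgroup.inv_mem _ hP₂sum
  obtain ⟨s, hs⟩ := hP₂ex _ hP₂D₀
  have hdv : Additive.toMul (D w₀) = v⁻¹ * α v := hDm v
  have hpw : (v⁻¹ * α v) ^ p = s.toMul ^ (p * p) := by
    rw [← hdv]
    exact congrArg Additive.toMul hs
  have h8 : ((v⁻¹ * α v) * (s.toMul ^ p)⁻¹) ^ p = 1 := by
    rw [mul_pow, inv_pow, hpw, ← pow_mul, mul_inv_cancel]
  have h9 := hQp _ h8
  have h10 : v⁻¹ * α v = ((v⁻¹ * α v) * (s.toMul ^ p)⁻¹) * s.toMul ^ p := by group
  rw [h10]
  exact Subgroup.mul_mem _ h9 (pow_mem_powF _)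

theorem ab2_main (hP : IsPGroup p Q) {x y : Q} (hgen : Subgroup.closure ({x, y} : Set Q) = ⊤)
    (A : Subgroup (MulAut Q)) (M : Subgroup A) [M.Normal] (hM : M = ⊥) (hX : pCore p (A ⧸ M) = ⊥)
    (hdvd : p ∣ Nat.card (A ⧸ M)) :
    (Nat.card Q = p ^ 2 ∧ ∀ z : Q, z ^ p = 1) ∨
      (p ≤ 3 ∧ ∃ k : ℕ, Nonempty (Q ≃* Multiplicative (ZMod (p ^ k) × ZMod (p ^ k)))) := by
  classical
  haveI : Finite (MulAut Q) := Finite.of_injective (fun f : MulAut Q => (f : Q → Q))
    (fun f g h => MulEquiv.ext (congrFun h))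
  obtain ⟨a, ha⟩ := hP x
  obtain ⟨b, hb⟩ := hP y
  have hK₀ : ∃ k, x ^ p ^ k = 1 ∧ y ^ p ^ k = 1 := ⟨a + b, by
    rw [pow_add, pow_mul, ha, one_pow], by
    rw [add_comm, pow_add, pow_mul, hb, one_pow]⟩
  have hkspec := Nat.find_spec hK₀
  have hkmin := fun m => @Nat.find_min _ _ hK₀ m
  generalize Nat.find hK₀ = k at hkspec hkmin
  obtain ⟨hxk, hyk⟩ := hkspec
  have hall : ∀ (e : ℕ), x ^ e = 1 → y ^ e = 1 → ∀ z : Q, z ^ e = 1 := by
    intro e h1 h2 z
    have h3 : Subgroup.closure ({x, y} : Set Q) ≤ (powMonoidHom e : Q →* Q).ker := by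
      rw [Subgroup.closure_le]
      rintro w (rfl | rfl)
      · exact h1
      · exact h2
    have h4 : z ∈ Subgroup.closure ({x, y} : Set Q) := by rw [hgen]; trivial
    exact h3 h4
  have hzk := hall _ hxk hyk
  cases k with
  | zero =>
    exfalso
    have hz1 : ∀ z : Q, z = 1 := fun z => by simpa using hzk z
    haveI : Subsingleton Q := ⟨fun u v => by rw [hz1 u, hz1 v]⟩
    haveI : Subsingleton (MulAut Q) := ⟨fun f g => MulEquiv.ext fun u => Subsingleton.elim _ _⟩
    haveI : Subsingleton (A ⧸ M) := by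
      refine ⟨fun u v => ?_⟩
      obtain ⟨u, rfl⟩ := QuotientGroup.mk'_surjective M u
      obtain ⟨v, rfl⟩ := QuotientGroup.mk'_surjective M v
      rw [Subsingleton.elim u v]
    rw [Nat.card_unique] at hdvd
    exact hpp.out.one_lt.ne' (Nat.dvd_one.1 hdvd)
  | succ l =>
    have hmin : ¬ (x ^ p ^ l = 1 ∧ y ^ p ^ l = 1) := hkmin l (Nat.lt_succ_self l)
    set P : Q →* Q := powMonoidHom (p ^ l) with hPd
    have hE : AutInv P.ker := by
      intro α z hz
      rw [MonoidHom.mem_ker] at hz ⊢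
      show (α z) ^ p ^ l = 1
      rw [← map_pow]
      have : z ^ p ^ l = 1 := hz
      rw [this, map_one]
    have hFE : powF p Q ≤ P.ker := by
      rintro _ ⟨t, rfl⟩
      rw [MonoidHom.mem_ker]
      show (t ^ p) ^ p ^ l = 1
      rw [← pow_mul, ← pow_succ', hzk]
    have hcardQ := Subgroup.card_mul_index P.ker
    rw [Subgroup.index_ker] at hcardQ
    -- the quotient by `p`-th powers
    have hquot : Nat.card (Q ⧸ powF p Q) ≤ p ^ 2 := by
      let π := QuotientGroup.mk' (powF p Q)
      have hπ : Function.Surjective π := QuotientGroup.mk'_surjective _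
      have hxb : (π x) ^ p = 1 := by
        rw [← map_pow]
        exact (QuotientGroup.eq_one_iff _).2 (pow_mem_powF x)
      have hyb : (π y) ^ p = 1 := by
        rw [← map_pow]
        exact (QuotientGroup.eq_one_iff _).2 (pow_mem_powF y)
      have hgenb : Subgroup.closure ({π x, π y} : Set (Q ⧸ powF p Q)) = ⊤ := by
        have h1 := MonoidHom.map_closure π ({x, y} : Set Q)
        rw [hgen, Subgroup.map_top_of_surjective π hπ, Set.image_pair] at h1
        exact h1.symm
      haveI : NeZero p := ⟨hpp.out.ne_zero⟩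
      have hs := pairHom_surj p (π x) (π y) hxb hyb hgenb
      have h2 := Nat.card_le_card_of_surjective _ hs
      have h3 : Nat.card (Multiplicative (ZMod p × ZMod p)) = p ^ 2 := by
        rw [Nat.card_congr (Multiplicative.toAdd : Multiplicative (ZMod p × ZMod p) ≃ (ZMod p × ZMod p)),
          Nat.card_prod, Nat.card_zmod, pow_two]
      rwa [h3] at h2
    set u := x ^ p ^ l with hu
    set v := y ^ p ^ l with hv
    have hup : u ^ p = 1 := by
      rw [hu, ← pow_mul, ← pow_succ]
      exact hxk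
    have hvp : v ^ p = 1 := by
      rw [hv, ← pow_mul, ← pow_succ]
      exact hyk
    by_cases hind : ∀ i j : ℕ, u ^ i * v ^ j = 1 → p ∣ i ∧ p ∣ j
    · obtain ⟨e⟩ := iso_of_indep hgen hxk hyk hind
      by_cases hl : l = 0
      · subst hl
        left
        constructor
        · rw [Nat.card_congr e.toEquiv,
            Nat.card_congr (Multiplicative.toAdd : Multiplicative (ZMod (p ^ (0 + 1)) × ZMod (p ^ (0 + 1))) ≃ _),
            Nat.card_prod, Nat.card_zmod]
          simp [pow_two]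
        · intro z
          have := hzk z
          simpa using this
      · right
        refine ⟨?_, l + 1, ⟨e⟩⟩
        by_contra hp3
        have hp5 : 5 ≤ p := by
          by_contra hlt
          have h4 : p = 4 := by omega
          have h5 := hpp.out
          rw [h4] at h5
          exact absurd h5 (by norm_num)
        -- powers
        have hQp : ∀ z : Q, z ^ p = 1 → z ∈ powF p Q := by
          intro z hz
          haveI : NeZero (p ^ (l + 1)) := ⟨pow_ne_zero _ hpp.out.ne_zero⟩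
          obtain ⟨w, rfl⟩ := pairHom_surj (p ^ (l + 1)) x y hxk hyk hgen z
          show (x ^ (Multiplicative.toAdd w).1.val * y ^ (Multiplicative.toAdd w).2.val) ∈ _
          have hz' : (x ^ (Multiplicative.toAdd w).1.val * y ^ (Multiplicative.toAdd w).2.val) ^ p = 1 := hz
          generalize (Multiplicative.toAdd w).1.val = i at hz' ⊢
          generalize (Multiplicative.toAdd w).2.val = j at hz' ⊢
          rw [mul_pow, ← pow_mul, ← pow_mul] at hz'
          obtain ⟨h1, h2⟩ := exp_dvd hind _ _ hz'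
          have hl1 : 1 ≤ l := Nat.one_le_iff_ne_zero.2 hl
          have hdiv : ∀ c : ℕ, p ^ (l + 1) ∣ c * p → p ∣ c := by
            intro c hc
            rw [pow_succ] at hc
            have h3 := Nat.dvd_of_mul_dvd_mul_right hpp.out.pos hc
            exact (dvd_pow_self p (by omega)).trans h3
          obtain ⟨i', rfl⟩ := hdiv i h1
          obtain ⟨j', rfl⟩ := hdiv j h2
          refine ⟨x ^ i' * y ^ j', ?_⟩
          show (x ^ i' * y ^ j') ^ p = _
          rw [mul_pow, ← pow_mul, ← pow_mul, mul_comm i', mul_comm j']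
        -- an automorphism of order `p`
        let π := QuotientGroup.mk' M
        have hπsurj : Function.Surjective π := QuotientGroup.mk'_surjective _
        have hπinj : Function.Injective π := by
          rw [injective_iff_map_eq_one]
          intro g hg
          have : g ∈ M := (QuotientGroup.eq_one_iff g).1 hg
          rw [hM] at this
          exact Subgroup.mem_bot.1 this
        obtain ⟨ξ, hξ⟩ := exists_prime_orderOf_dvd_card' p hdvd
        obtain ⟨a₀, rfl⟩ := hπsurj ξ
        have ha₀ : orderOf a₀ = p := by rw [← hξ]; exact (orderOf_injective π hπinj a₀).symm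
        have ha₀p : a₀ ^ p = 1 := by rw [← ha₀, pow_orderOf_eq_one]
        have ha₀1 : a₀ ≠ 1 := by
          intro h
          rw [h, orderOf_one] at ha₀
          exact hpp.out.one_lt.ne ha₀
        have ha₀p' : (a₀ : MulAut Q) ^ p = 1 := congrArg Subtype.val ha₀p
        have htop : AutInv (⊤ : Subgroup Q) := fun β z _ => Subgroup.mem_top _
        have hF : AutInv (powF p Q) := autInv_powF
        set T := stab2 ⊤ (powF p Q) htop le_top hF with hT
        have hTn : T.Normal := stab2_normal _ _ _ _ _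
        have hT₁n : (T.subgroupOf A).Normal := hTn.subgroupOf A
        have hmapN : ((T.subgroupOf A).map π).Normal := hT₁n.map π hπsurj
        have hmapP : IsPGroup p ((T.subgroupOf A).map π) := by
          intro g
          obtain ⟨g, ⟨t, ht, rfl⟩⟩ := g
          have ht' := (Subgroup.mem_subgroupOf.1 ht).1
          obtain ⟨c, hc⟩ := burnside hP (t : MulAut Q) (fun z => by
            rw [mul_comm, ]
            obtain ⟨w, hw⟩ := ht' z (Subgroup.mem_top z)
            have hw' : w ^ p = z⁻¹ * (t : MulAut Q) z := hw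
            have hz2 : z⁻¹ * (t : MulAut Q) z = (t : MulAut Q) z * z⁻¹ := mul_comm _ _
            rw [mul_comm, ← hz2, ← hw']
            exact Cfsg.Agent.Lib.H6PGroup.pow_mem_frattini hP w)
          refine ⟨c, ?_⟩
          apply Subtype.ext
          show π t ^ p ^ c = 1
          rw [← map_pow]
          have h4 : t ^ p ^ c = 1 := Subtype.ext hc
          rw [h4, map_one]
        have hle := Cfsg.Agent.Lib.PCore.le_pCore hmapN hmapP
        rw [hX, le_bot_iff] at hle
        have hcore := core hp5 (a₀ : MulAut Q) ha₀p'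
          (sq_trivial hP (a₀ : MulAut Q) 1 (by rw [pow_one]; exact ha₀p') hquot) hQp
        have hmemT : (a₀ : MulAut Q) ∈ T := by
          refine ⟨fun z _ => hcore z, fun z => Subgroup.mem_top _⟩
        have h6 : π a₀ ∈ (T.subgroupOf A).map π := ⟨a₀, Subgroup.mem_subgroupOf.2 hmemT, rfl⟩
        rw [hle] at h6
        have h7 : π a₀ = 1 := Subgroup.mem_bot.1 h6
        exact ha₀1 (hπinj (by rw [h7, map_one]))
    · -- the image is small
      exfalso
      push_neg at hind
      obtain ⟨i, j, hij, hndvd⟩ := hind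
      have hgenI : ∀ t : Q, t ^ p = 1 → u ∈ Subgroup.zpowers t → v ∈ Subgroup.zpowers t →
          Nat.card P.range ∣ p := by
        intro t htp hut hvt
        have h1 : Subgroup.closure ({x, y} : Set Q) ≤ (Subgroup.zpowers t).comap P := by
          rw [Subgroup.closure_le]
          rintro w (rfl | rfl)
          · exact hut
          · exact hvt
        have h2 : P.range ≤ Subgroup.zpowers t := by
          rintro _ ⟨z, rfl⟩
          have h3 : z ∈ Subgroup.closure ({x, y} : Set Q) := by rw [hgen]; trivial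
          exact h1 h3
        refine (Subgroup.card_dvd_of_le h2).trans ?_
        rw [Nat.card_zpowers]
        exact orderOf_dvd_of_pow_eq_one htp
      have hmemzp : ∀ (s t : Q) (c d : ℕ), s ^ p = 1 → ¬ p ∣ c → s ^ c * t ^ d = 1 →
          s ∈ Subgroup.zpowers t := by
        intro s t c d hs hc hcd
        have hco : Nat.Coprime c p := ((Nat.Prime.coprime_iff_not_dvd hpp.out).2 hc).symm
        obtain ⟨m, hm⟩ := Nat.exists_mul_mod_eq_one_of_coprime hco hpp.out.one_lt
        have h1 : s = (s ^ c) ^ m := by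
          rw [← pow_mul, pow_eq_pow_mod _ hs, hm.2, pow_one]
        have h2 : s ^ c = (t ^ d)⁻¹ := eq_inv_of_mul_eq_one_left hcd
        rw [h1, h2]
        exact Subgroup.pow_mem _ (Subgroup.inv_mem _ (Subgroup.pow_mem _ (Subgroup.mem_zpowers t) d)) m
      have hId : Nat.card P.range ∣ p := by
        by_cases hpi : p ∣ i
        · have hpj : ¬ p ∣ j := fun h => hndvd hpi h
          have hij' : v ^ j * u ^ i = 1 := by rw [mul_comm]; exact hij
          exact hgenI u hup (Subgroup.mem_zpowers u) (hmemzp v u j i hvp hpj hij')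
        · exact hgenI v hvp (hmemzp u v i j hup hpi hij) (Subgroup.mem_zpowers v)
      have hI1 : Nat.card P.range ≠ 1 := by
        intro h1'
        haveI := (Nat.card_eq_one_iff_unique.1 h1').1
        apply hmin
        constructor
        · have h5 : (⟨P x, x, rfl⟩ : P.range) = 1 := Subsingleton.elim _ _
          exact congrArg Subtype.val h5
        · have h5 : (⟨P y, y, rfl⟩ : P.range) = 1 := Subsingleton.elim _ _
          exact congrArg Subtype.val h5
      have hIp : Nat.card P.range = p := by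
        rcases (Nat.dvd_prime hpp.out).1 hId with h6 | h6
        · exact absurd h6 hI1
        · exact h6
      rw [hIp] at hcardQ
      have hQE : Nat.card Q = p * Nat.card P.ker := by rw [← hcardQ, mul_comm]
      obtain ⟨c, hc⟩ := Subgroup.card_dvd_of_le hFE
      obtain ⟨n, hn⟩ := IsPGroup.iff_card.1 hP
      have hF2 := Subgroup.card_mul_index (powF p Q)
      have hF3 : (powF p Q).index ≤ p ^ 2 := hquot
      have hcpos : 0 < Nat.card (powF p Q) := Nat.card_pos
      have hcle : c ≤ p := by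
        have h7 : p * (Nat.card (powF p Q) * c) ≤ Nat.card (powF p Q) * p ^ 2 := by
          rw [← hc, ← hQE, ← hF2]
          exact Nat.mul_le_mul_left _ hF3
        have h8 : Nat.card (powF p Q) * (p * c) ≤ Nat.card (powF p Q) * (p * p) := by
          calc Nat.card (powF p Q) * (p * c) = p * (Nat.card (powF p Q) * c) := by ring
            _ ≤ Nat.card (powF p Q) * p ^ 2 := h7
            _ = Nat.card (powF p Q) * (p * p) := by ring
        exact Nat.le_of_mul_le_mul_left (Nat.le_of_mul_le_mul_left h8 hcpos) hpp.out.pos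
      have hcd : c ∣ p ^ n := by
        rw [← hn, hQE, hc]
        exact Dvd.dvd.mul_left (Dvd.intro_left _ rfl) p
      obtain ⟨d, -, hd⟩ := (Nat.dvd_prime_pow hpp.out).1 hcd
      have hEF : Nat.card P.ker = Nat.card (powF p Q) ∨ Nat.card P.ker = p * Nat.card (powF p Q) := by
        have hd1 : d ≤ 1 := by
          by_contra h9
          have h10 : p ^ 2 ≤ p ^ d := Nat.pow_le_pow_right hpp.out.pos (by omega)
          have h11 : p < p ^ 2 := by
            rw [pow_two]
            exact lt_mul_of_one_lt_left hpp.out.pos hpp.out.one_lt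
          omega
        interval_cases d
        · left
          rw [hc, hd, pow_zero, mul_one]
        · right
          rw [hc, hd, pow_one, mul_comm]
      exact caseB hP hE hFE hQE hEF A M hX hdvd

end Comm

theorem ab2_group {Q : Type*} [Group Q] [Finite Q] (hc : ∀ a b : Q, a * b = b * a)
    (hP : IsPGroup p Q) (hidx : (frattini Q).index ≤ p ^ 2)
    (A : Subgroup (MulAut Q)) (hnorm : ((Inn Q).subgroupOf A).Normal)
    (E : Subgroup (A ⧸ (Inn Q).subgroupOf A)) (hE : IsStronglyPEmbedded p E) :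
    (Nat.card Q = p ^ 2 ∧ ∀ z : Q, z ^ p = 1) ∨
      (p ≤ 3 ∧ ∃ k : ℕ, Nonempty (Q ≃* Multiplicative (ZMod (p ^ k) × ZMod (p ^ k)))) := by
  classical
  haveI : Finite (MulAut Q) := Finite.of_injective (fun f : MulAut Q => (f : Q → Q))
    (fun f g h => MulEquiv.ext (congrFun h))
  have hInn : (Inn Q).subgroupOf A = ⊥ := by
    rw [eq_bot_iff]
    rintro ⟨a, haA⟩ ha
    rw [Subgroup.mem_subgroupOf] at ha
    obtain ⟨q, hq⟩ := ha
    rw [Subgroup.mem_bot]
    apply Subtype.ext
    show a = 1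
    have hq' : MulAut.conj q = a := hq
    rw [← hq']
    apply MulEquiv.ext
    intro x
    show q * x * q⁻¹ = x
    rw [hc q x, mul_inv_cancel_right]
  have hX := Cfsg.Agent.Lib.StronglyEmbedded.IsStronglyPEmbedded.pCore_eq_bot hE
  -- two generators
  obtain ⟨n, hn⟩ := IsPGroup.iff_card.1 hP
  obtain ⟨r, -, hr⟩ := (Nat.dvd_prime_pow hpp.out).1
    (show (frattini Q).index ∣ p ^ n by
      rw [← hn]
      exact Subgroup.index_dvd_card _)
  have hr2 : r ≤ 2 := by
    rw [hr] at hidx
    exact (Nat.pow_le_pow_iff_right hpp.out.one_lt).1 hidx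
  obtain ⟨S, hS, hcl⟩ := Cfsg.Agent.Lib.H6PGroup.exists_gens_of_frattini p r hr
  obtain ⟨x, y, hxy⟩ : ∃ x y : Q, (S : Set Q) ⊆ {x, y} := by
    rcases S.eq_empty_or_nonempty with rfl | ⟨x, hx⟩
    · exact ⟨1, 1, by simp⟩
    · have h1 : (S.erase x).card ≤ 1 := by
        rw [Finset.card_erase_of_mem hx]
        omega
      obtain ⟨y, hy⟩ := Finset.card_le_one_iff_subset_singleton.1 h1
      refine ⟨x, y, fun z hz => ?_⟩
      by_cases hzx : z = x
      · left
        exact hzx
      · right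
        have h2 : z ∈ S.erase x := Finset.mem_erase.2 ⟨hzx, hz⟩
        have h3 := hy h2
        rw [Finset.mem_singleton] at h3
        exact h3
  have hgen : Subgroup.closure ({x, y} : Set Q) = ⊤ := by
    rw [eq_top_iff, ← hcl]
    exact Subgroup.closure_mono hxy
  letI : CommGroup Q := { ‹Group Q› with mul_comm := hc }
  exact ab2_main hP hgen A _ hInn hX hE.1

end Cfsg.Agent.Lib.EssAb2
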