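/-
Groups of order `p⁴` whose automorphism groups carry a strongly embedded subgroup.
-/
import Mathlib
import Cfsg.Agent.Lib.EssAb2

set_option autoImplicit false
set_option linter.all false

open Cfsg
open Cfsg.Agent.Lib.EssP3 Cfsg.Agent.Lib.EssAb2
open scoped commutatorElement

namespace Cfsg.Agent.Lib.EssP4

variable {p : ℕ} [hpp : Fact p.Prime]
variable {Q : Type*} [Group Q] [Finite Q]

/-- The stabilizer of a chain of length four. -/
def chainStab4 (R₁ R₂ R₃ : Subgroup Q) (h₁ : AutInv R₁) (h₂ : AutInv R₂) (h₃ : AutInv R₃) :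
    Subgroup (MulAut Q) where
  carrier := {α | (∀ x ∈ R₁, α x = x) ∧ (∀ x ∈ R₂, x⁻¹ * α x ∈ R₁) ∧ (∀ x ∈ R₃, x⁻¹ * α x ∈ R₂) ∧
    ∀ x, x⁻¹ * α x ∈ R₃}
  mul_mem' := by
    rintro α β ⟨a1, a2, a3, a4⟩ ⟨b1, b2, b3, b4⟩
    have e : ∀ x : Q, x⁻¹ * α (β x) = (x⁻¹ * β x) * ((β x)⁻¹ * α (β x)) := fun x => by group
    refine ⟨fun x hx => ?_, fun x hx => ?_, fun x hx => ?_, fun x => ?_⟩
    · show α (β x) = x
      rw [b1 x hx, a1 x hx]
    · show x⁻¹ * α (β x) ∈ R₁
      rw [e]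
      exact R₁.mul_mem (b2 x hx) (a2 _ (h₂ β x hx))
    · show x⁻¹ * α (β x) ∈ R₂
      rw [e]
      exact R₂.mul_mem (b3 x hx) (a3 _ (h₃ β x hx))
    · show x⁻¹ * α (β x) ∈ R₃
      rw [e]
      exact R₃.mul_mem (b4 x) (a4 _)
  one_mem' := by
    refine ⟨fun x _ => rfl, fun x _ => ?_, fun x _ => ?_, fun x => ?_⟩ <;>
      · show x⁻¹ * x ∈ _
        rw [inv_mul_cancel]
        exact Subgroup.one_mem _
  inv_mem' := by
    rintro α ⟨a1, a2, a3, a4⟩
    have e : ∀ x : Q, x⁻¹ * α⁻¹ x = ((α⁻¹ x)⁻¹ * α (α⁻¹ x))⁻¹ := by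
      intro x
      have : α (α⁻¹ x) = x := by
        show (α * α⁻¹) x = x
        rw [mul_inv_cancel]
        rfl
      rw [this]
      group
    refine ⟨fun x hx => ?_, fun x hx => ?_, fun x hx => ?_, fun x => ?_⟩
    · have : α x = x := a1 x hx
      show α⁻¹ x = x
      calc α⁻¹ x = α⁻¹ (α x) := by rw [this]
        _ = x := by
          show (α⁻¹ * α) x = x
          rw [inv_mul_cancel]
          rfl
    · rw [e]
      exact R₁.inv_mem (a2 _ (h₂ α⁻¹ x hx))
    · rw [e]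
      exact R₂.inv_mem (a3 _ (h₃ α⁻¹ x hx))
    · rw [e]
      exact R₃.inv_mem (a4 _)

theorem chainStab4_normal (R₁ R₂ R₃ : Subgroup Q) (h₁ : AutInv R₁) (h₂ : AutInv R₂) (h₃ : AutInv R₃) :
    (chainStab4 R₁ R₂ R₃ h₁ h₂ h₃).Normal := by
  refine ⟨?_⟩
  rintro α ⟨a1, a2, a3, a4⟩ γ
  have hrec : ∀ x : Q, γ (γ⁻¹ x) = x := by
    intro x
    show (γ * γ⁻¹) x = x
    rw [mul_inv_cancel]
    rfl
  have e : ∀ x : Q, x⁻¹ * (γ * α * γ⁻¹) x = γ ((γ⁻¹ x)⁻¹ * α (γ⁻¹ x)) := by
    intro x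
    show x⁻¹ * γ (α (γ⁻¹ x)) = _
    rw [map_mul, map_inv, hrec]
  refine ⟨fun x hx => ?_, fun x hx => ?_, fun x hx => ?_, fun x => ?_⟩
  · show γ (α (γ⁻¹ x)) = x
    rw [a1 _ (h₁ γ⁻¹ x hx), hrec]
  · rw [e]
    exact h₁ γ _ (a2 _ (h₂ γ⁻¹ x hx))
  · rw [e]
    exact h₂ γ _ (a3 _ (h₃ γ⁻¹ x hx))
  · rw [e]
    exact h₃ γ _ (a4 _)

theorem pow_card_mem {R : Subgroup Q} {c : ℕ} (hc : Nat.card R = c) {n : Q} (hn : n ∈ R) : n ^ c = 1 := by
  have := pow_card_eq_one' (x := (⟨n, hn⟩ : R))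
  rw [hc] at this
  exact congrArg Subtype.val this

/-- No invariant chain with factors of order `p`, in order `p⁴`. -/
theorem no_chain4 {R₁ R₂ R₃ : Subgroup Q} (h₁ : AutInv R₁) (h₂ : AutInv R₂) (h₃ : AutInv R₃)
    (h12 : R₁ ≤ R₂) (h23 : R₂ ≤ R₃)
    (c₁ : Nat.card R₁ = p) (c₂ : Nat.card R₂ = p ^ 2) (c₃ : Nat.card R₃ = p ^ 3)
    (hcard : Nat.card Q = p ^ 4)
    (A : Subgroup (MulAut Q)) (M : Subgroup A) [M.Normal] (hX : pCore p (A ⧸ M) = ⊥)
    (hdvd : p ∣ Nat.card (A ⧸ M)) : False := by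
  have hbot : AutInv (⊥ : Subgroup Q) := by
    intro β x hx
    rw [Subgroup.mem_bot] at hx ⊢
    rw [hx, map_one]
  have htop : AutInv (⊤ : Subgroup Q) := fun β x _ => Subgroup.mem_top _
  refine no_T (chainStab4 R₁ R₂ R₃ h₁ h₂ h₃) (chainStab4_normal _ _ _ _ _ _) ?_ ?_ A M hX hdvd
  · intro α hα
    have hα1 : α ^ p ∈ chainStab4 R₁ R₂ R₃ h₁ h₂ h₃ := Subgroup.pow_mem _ hα _
    have hα2 : (α ^ p) ^ p ^ 2 ∈ chainStab4 R₁ R₂ R₃ h₁ h₂ h₃ := Subgroup.pow_mem _ hα1 _
    obtain ⟨a1, a2, a3, a4⟩ := hα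
    obtain ⟨-, -, b3, b4⟩ := hα1
    obtain ⟨-, -, -, d4⟩ := hα2
    have hfix2 : ∀ x ∈ R₂, (α ^ p) x = x := by
      intro x hx
      rw [pow_apply_of_fix R₁ α a1 x (a2 x hx) p, pow_card_mem c₁ (a2 x hx), mul_one]
    have hfix3 : ∀ x ∈ R₃, ((α ^ p) ^ p ^ 2) x = x := by
      intro x hx
      rw [pow_apply_of_fix R₂ (α ^ p) hfix2 x (b3 x hx) (p ^ 2), pow_card_mem c₂ (b3 x hx), mul_one]
    refine ⟨6, ?_⟩
    have e : α ^ p ^ 6 = ((α ^ p) ^ p ^ 2) ^ p ^ 3 := by
      rw [← pow_mul, ← pow_mul]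
      congr 1
      ring
    rw [e]
    apply MulEquiv.ext
    intro x
    rw [pow_apply_of_fix R₃ _ hfix3 x (d4 x) (p ^ 3), pow_card_mem c₃ (d4 x), mul_one]
    rfl
  · intro α n hα
    refine ⟨fun x hx => ?_, fun x hx => ?_, fun x hx => ?_, fun x => ?_⟩
    · have h1 := trivial_on_factor hbot h₁ bot_le (by rw [c₁, Subgroup.card_bot, mul_one]) α n hα x hx
      rw [Subgroup.mem_bot] at h1
      exact (inv_mul_eq_one.1 h1).symm
    · exact trivial_on_factor h₁ h₂ h12 (by rw [c₁, c₂]; ring) α n hα x hx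
    · exact trivial_on_factor h₂ h₃ h23 (by rw [c₂, c₃]; ring) α n hα x hx
    · exact trivial_on_factor h₃ htop le_top (by rw [Subgroup.card_top, hcard, c₃]; ring) α n hα x
        (Subgroup.mem_top _)

/-- Rank three, abelian. -/
theorem triple_iso {G : Type*} [CommGroup G] [Finite G] (hcard : Nat.card G = p ^ 4)
    (hP : IsPGroup p G) (hΦ : Nat.card (frattini G) = p) {s₁ s₂ s₃ : G}
    (hgen : Subgroup.closure ({s₁, s₂, s₃} : Set G) = ⊤) (hs₁ : s₁ ^ p ≠ 1) :
    Nonempty (G ≃* Multiplicative (ZMod (p ^ 2) × ZMod p × ZMod p)) := by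
  classical
  have hpow : ∀ t : G, t ^ p ∈ frattini G := Cfsg.Agent.Lib.H6PGroup.pow_mem_frattini hP
  have hzp : Subgroup.zpowers (s₁ ^ p) = frattini G := by
    have h1 : Subgroup.zpowers (s₁ ^ p) ≤ frattini G := by
      rw [Subgroup.zpowers_le]
      exact hpow s₁
    apply Subgroup.eq_of_le_of_card_ge h1
    rw [hΦ, Nat.card_zpowers]
    have h2 : orderOf (s₁ ^ p) ∣ p := orderOf_dvd_of_pow_eq_one (pow_card_mem hΦ (hpow s₁))
    rcases (Nat.dvd_prime hpp.out).1 h2 with h3 | h3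
    · exact absurd (orderOf_eq_one_iff.1 h3) hs₁
    · exact h3.ge
  have hadj : ∀ t : G, ∃ t' : G, t' ^ p = 1 ∧ ∃ e : ℕ, t = t' * s₁ ^ e := by
    intro t
    have h1 : t ^ p ∈ Subgroup.zpowers (s₁ ^ p) := by
      rw [hzp]
      exact hpow t
    obtain ⟨e', he'⟩ := Submonoid.mem_powers_iff _ _ |>.1 (mem_powers_iff_mem_zpowers.2 h1)
    refine ⟨t * (s₁ ^ e')⁻¹, ?_, e', by group⟩
    rw [mul_pow, inv_pow, ← he', ← pow_mul, ← pow_mul, mul_comm p e', mul_inv_cancel]
  obtain ⟨t₂, ht₂, e₂, he₂⟩ := hadj s₂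
  obtain ⟨t₃, ht₃, e₃, he₃⟩ := hadj s₃
  have hs₁2 : s₁ ^ p ^ 2 = 1 := by
    rw [pow_two, pow_mul]
    exact pow_card_mem hΦ (hpow s₁)
  haveI : NeZero p := ⟨hpp.out.ne_zero⟩
  haveI : NeZero (p ^ 2) := ⟨pow_ne_zero _ hpp.out.ne_zero⟩
  let F : Multiplicative (ZMod (p ^ 2) × ZMod p × ZMod p) →* G :=
    MonoidHom.mk' (fun w => s₁ ^ (Multiplicative.toAdd w).1.val *
      (t₂ ^ (Multiplicative.toAdd w).2.1.val * t₃ ^ (Multiplicative.toAdd w).2.2.val))
      (fun w w' => by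
        show s₁ ^ ((Multiplicative.toAdd w).1 + (Multiplicative.toAdd w').1).val *
          (t₂ ^ ((Multiplicative.toAdd w).2.1 + (Multiplicative.toAdd w').2.1).val *
            t₃ ^ ((Multiplicative.toAdd w).2.2 + (Multiplicative.toAdd w').2.2).val) = _
        rw [ZMod.val_add, ZMod.val_add, ZMod.val_add, ← pow_eq_pow_mod _ hs₁2, ← pow_eq_pow_mod _ ht₂,
          ← pow_eq_pow_mod _ ht₃, pow_add, pow_add, pow_add]
        ac_rfl)
  have hFapp : ∀ i j k, F (Multiplicative.ofAdd (i, j, k)) = s₁ ^ i.val * (t₂ ^ j.val * t₃ ^ k.val) :=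
    fun i j k => rfl
  have hs₁r : s₁ ∈ F.range := ⟨Multiplicative.ofAdd (1, 0, 0), by
    rw [hFapp, ZMod.val_zero, ZMod.val_one_eq_one_mod, ← pow_eq_pow_mod _ hs₁2]
    simp⟩
  have ht₂r : t₂ ∈ F.range := ⟨Multiplicative.ofAdd (0, 1, 0), by
    rw [hFapp, ZMod.val_zero, ZMod.val_one_eq_one_mod, ← pow_eq_pow_mod _ ht₂]
    simp⟩
  have ht₃r : t₃ ∈ F.range := ⟨Multiplicative.ofAdd (0, 0, 1), by
    rw [hFapp, ZMod.val_zero, ZMod.val_one_eq_one_mod, ← pow_eq_pow_mod _ ht₃]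
    simp⟩
  have hsurj : Function.Surjective F := by
    rw [← MonoidHom.range_eq_top, eq_top_iff, ← hgen, Subgroup.closure_le]
    rintro z (rfl | rfl | rfl)
    · exact hs₁r
    · rw [he₂]
      exact F.range.mul_mem ht₂r (F.range.pow_mem hs₁r _)
    · rw [he₃]
      exact F.range.mul_mem ht₃r (F.range.pow_mem hs₁r _)
  have hc : Nat.card (Multiplicative (ZMod (p ^ 2) × ZMod p × ZMod p)) ≤ Nat.card G := by
    rw [hcard, Nat.card_congr (Multiplicative.toAdd : Multiplicative (ZMod (p ^ 2) × ZMod p × ZMod p) ≃ _),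
      Nat.card_prod, Nat.card_prod, Nat.card_zmod, Nat.card_zmod]
    apply le_of_eq
    ring
  exact ⟨(MulEquiv.ofBijective F (hsurj.bijective_of_nat_card_le hc)).symm⟩

/-- The abelian case. -/
theorem abelian4 (hcard : Nat.card Q = p ^ 4) (hab : ∀ a b : Q, a * b = b * a)
    (A : Subgroup (MulAut Q)) (hnorm : ((Inn Q).subgroupOf A).Normal)
    (E : Subgroup (A ⧸ (Inn Q).subgroupOf A)) (hE : IsStronglyPEmbedded p E) :
    (∀ a : Q, a ^ p = 1) ∨ Nonempty (Q ≃* Multiplicative (ZMod (p ^ 2) × ZMod p × ZMod p)) ∨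
      ((p = 2 ∨ p = 3) ∧ Nonempty (Q ≃* Multiplicative (ZMod (p ^ 2) × ZMod (p ^ 2)))) := by
  classical
  have hP : IsPGroup p Q := IsPGroup.of_card hcard
  obtain ⟨r, hr4, hr⟩ := (Nat.dvd_prime_pow hpp.out).1
    (show (frattini Q).index ∣ p ^ 4 by
      rw [← hcard]
      exact Subgroup.index_dvd_card _)
  by_cases hr2 : r ≤ 2
  · have hidx : (frattini Q).index ≤ p ^ 2 := by
      rw [hr]
      exact Nat.pow_le_pow_right hpp.out.pos hr2
    rcases ab2_group hab hP hidx A hnorm E hE with ⟨h1, -⟩ | ⟨h3, k, ⟨e⟩⟩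
    · exfalso
      rw [hcard] at h1
      exact absurd (Nat.pow_right_injective hpp.out.two_le h1) (by norm_num)
    · right; right
      have hcc : p ^ 4 = p ^ (k + k) := by
        rw [← hcard, Nat.card_congr e.toEquiv,
          Nat.card_congr (Multiplicative.toAdd : Multiplicative (ZMod (p ^ k) × ZMod (p ^ k)) ≃ _),
          Nat.card_prod, Nat.card_zmod, pow_add]
      have hk : 4 = k + k := Nat.pow_right_injective hpp.out.two_le hcc
      have hk2 : k = 2 := by omega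
      subst hk2
      refine ⟨?_, ⟨e⟩⟩
      have h4 : p ≠ 0 := hpp.out.ne_zero
      have h5 : p ≠ 1 := hpp.out.ne_one
      omega
  · by_cases hexp : ∀ a : Q, a ^ p = 1
    · exact Or.inl hexp
    right; left
    obtain ⟨x₀, hx₀⟩ : ∃ x : Q, x ^ p ≠ 1 := by
      by_contra h
      exact hexp fun a => by
        by_contra h'
        exact h ⟨a, h'⟩
    have h0 := Subgroup.card_mul_index (frattini Q)
    rw [hcard, hr] at h0
    have hΦc : Nat.card (frattini Q) = p ^ (4 - r) := by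
      have h5 : p ^ 4 = p ^ (4 - r) * p ^ r := by
        rw [← pow_add]
        congr 1
        omega
      rw [h5] at h0
      exact Nat.eq_of_mul_eq_mul_right (pow_pos hpp.out.pos _) h0
    have hr3 : r = 3 := by
      by_contra hne
      have hr4' : r = 4 := by omega
      subst hr4'
      rw [show 4 - 4 = 0 from rfl, pow_zero] at hΦc
      have h6 : x₀ ^ p ∈ frattini Q := Cfsg.Agent.Lib.H6PGroup.pow_mem_frattini hP x₀
      haveI := (Nat.card_eq_one_iff_unique.1 hΦc).1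
      have h7 : (⟨x₀ ^ p, h6⟩ : frattini Q) = 1 := Subsingleton.elim _ _
      exact hx₀ (congrArg Subtype.val h7)
    subst hr3
    rw [show 4 - 3 = 1 from rfl, pow_one] at hΦc
    obtain ⟨S, hS, hcl⟩ := Cfsg.Agent.Lib.H6PGroup.exists_gens_of_frattini p 3 hr
    obtain ⟨a, b, c, habc⟩ : ∃ a b c : Q, (S : Set Q) ⊆ {a, b, c} := by
      rcases S.eq_empty_or_nonempty with rfl | ⟨a, ha⟩
      · exact ⟨1, 1, 1, by simp⟩
      · have h1 : (S.erase a).card ≤ 2 := by
          rw [Finset.card_erase_of_mem ha]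
          omega
        rcases (S.erase a).eq_empty_or_nonempty with he | ⟨b, hb⟩
        · refine ⟨a, a, a, fun z hz => ?_⟩
          by_cases hza : z = a
          · left; exact hza
          · exfalso
            have h2 : z ∈ S.erase a := Finset.mem_erase.2 ⟨hza, hz⟩
            rw [he] at h2
            simp at h2
        · have h2 : ((S.erase a).erase b).card ≤ 1 := by
            rw [Finset.card_erase_of_mem hb]
            omega
          obtain ⟨c, hc⟩ := Finset.card_le_one_iff_subset_singleton.1 h2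
          refine ⟨a, b, c, fun z hz => ?_⟩
          by_cases hza : z = a
          · left; exact hza
          by_cases hzb : z = b
          · right; left; exact hzb
          right; right
          have h3 : z ∈ S.erase a := Finset.mem_erase.2 ⟨hza, hz⟩
          have h4 : z ∈ (S.erase a).erase b := Finset.mem_erase.2 ⟨hzb, h3⟩
          have h5 := hc h4
          rw [Finset.mem_singleton] at h5
          exact h5
    have hgen : Subgroup.closure ({a, b, c} : Set Q) = ⊤ := by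
      rw [eq_top_iff, ← hcl]
      exact Subgroup.closure_mono habc
    letI : CommGroup Q := { ‹Group Q› with mul_comm := hab }
    by_cases ha : a ^ p = 1
    · by_cases hb : b ^ p = 1
      · by_cases hc : c ^ p = 1
        · exfalso
          have h3 : Subgroup.closure ({a, b, c} : Set Q) ≤ (powMonoidHom p : Q →* Q).ker := by
            rw [Subgroup.closure_le]
            rintro w (rfl | rfl | rfl)
            · exact ha
            · exact hb
            · exact hc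
          apply hexp
          intro z
          have h4 : z ∈ Subgroup.closure ({a, b, c} : Set Q) := by rw [hgen]; trivial
          exact h3 h4
        · refine triple_iso hcard hP hΦc (s₁ := c) (s₂ := a) (s₃ := b) ?_ hc
          rw [← hgen]
          congr 1
          ext w
          simp only [Set.mem_insert_iff, Set.mem_singleton_iff]
          tauto
      · refine triple_iso hcard hP hΦc (s₁ := b) (s₂ := a) (s₃ := c) ?_ hb
        rw [← hgen]
        congr 1
        ext w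
        simp only [Set.mem_insert_iff, Set.mem_singleton_iff]
        tauto
    · exact triple_iso hcard hP hΦc hgen ha

end Cfsg.Agent.Lib.EssP4
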