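/-
Nonabelian groups of order `p⁴` without invariant chains.
-/
import Mathlib
import Cfsg.Agent.Lib.EssP4

set_option autoImplicit false
set_option linter.all false

open Cfsg
open Cfsg.Agent.Lib.EssP3 Cfsg.Agent.Lib.EssAb2 Cfsg.Agent.Lib.EssP4
open scoped commutatorElement

namespace Cfsg.Agent.Lib.EssP4b

variable {p : ℕ} [hpp : Fact p.Prime]
variable {Q : Type*} [Group Q] [Finite Q]

/-- Commutator with a central-commutator element. -/
def cmHom (x : Q) (hx : ∀ y, ⁅x, y⁆ ∈ Subgroup.center Q) : Q →* Q :=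
  MonoidHom.mk' (fun y => ⁅x, y⁆) (fun y w => by
    have h := (Subgroup.mem_center_iff.1 (hx w)) y
    rw [commutatorElement_def, commutatorElement_def] at *
    calc x * (y * w) * x⁻¹ * (y * w)⁻¹ = x * y * x⁻¹ * y⁻¹ * (y * (x * w * x⁻¹ * w⁻¹)) * y⁻¹ := by group
      _ = x * y * x⁻¹ * y⁻¹ * (x * w * x⁻¹ * w⁻¹) := by
        rw [h]; group)

theorem cmHom_apply (x : Q) (hx : ∀ y, ⁅x, y⁆ ∈ Subgroup.center Q) (y : Q) : cmHom x hx y = ⁅x, y⁆ := rfl

theorem mem_ker_cmHom (x : Q) (hx : ∀ y, ⁅x, y⁆ ∈ Subgroup.center Q) (y : Q) :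
    y ∈ (cmHom x hx).ker ↔ x * y = y * x := by
  rw [MonoidHom.mem_ker, cmHom_apply, commutatorElement_eq_one_iff_mul_comm]

theorem ker_mul_range {R : Type*} [Group R] (f : Q →* R) : Nat.card f.ker * Nat.card f.range = Nat.card Q := by
  rw [← Subgroup.index_ker, Subgroup.card_mul_index]

theorem exists_pow_card (hcard : Nat.card Q = p ^ 4) (D : Subgroup Q) : ∃ k ≤ 4, Nat.card D = p ^ k :=
  card_eq_prime_pow_of_dvd (by rw [← hcard]; exact Subgroup.card_subgroup_dvd_card D)

theorem eq_top_of_gt (hcard : Nat.card Q = p ^ 4) {C D : Subgroup Q} (hC : Nat.card C = p ^ 3) (hle : C ≤ D)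
    {t : Q} (ht : t ∉ C) (htD : t ∈ D) : D = ⊤ := by
  obtain ⟨k, hk, hkc⟩ := exists_pow_card hcard D
  have h3 : p ^ 3 ∣ p ^ k := by
    rw [← hC, ← hkc]
    exact Subgroup.card_dvd_of_le hle
  have hk3 : 3 ≤ k := (Nat.pow_dvd_pow_iff_le_right hpp.out.one_lt).1 h3
  have hk' : k = 3 ∨ k = 4 := by omega
  rcases hk' with rfl | rfl
  · have := Subgroup.eq_of_le_of_card_ge hle (by rw [hC, hkc])
    exact absurd (this ▸ htD) ht
  · exact Subgroup.eq_top_of_card_eq _ (by rw [hkc, hcard])

/-- The excluded case of a centre of order `p`. -/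
theorem no_center_p (hcard : Nat.card Q = p ^ 4)
    (NC : ∀ R₁ R₂ R₃ : Subgroup Q, AutInv R₁ → AutInv R₂ → AutInv R₃ → R₁ ≤ R₂ → R₂ ≤ R₃ →
      Nat.card R₁ = p → Nat.card R₂ = p ^ 2 → Nat.card R₃ = p ^ 3 → False)
    (hZ : Nat.card (Subgroup.center Q) = p) : False := by
  classical
  set Zc := Subgroup.center Q with hZcd
  let π := QuotientGroup.mk' Zc
  have hGc : Nat.card (Q ⧸ Zc) = p ^ 3 := by
    have h1 := Subgroup.card_mul_index Zc
    rw [hZ, hcard, Subgroup.index_eq_card] at h1
    exact Nat.eq_of_mul_eq_mul_left hpp.out.pos (by rw [h1]; ring)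
  have hPG : IsPGroup p (Q ⧸ Zc) := IsPGroup.of_card hGc
  haveI : Nontrivial (Q ⧸ Zc) := by
    rw [← Finite.one_lt_card_iff_nontrivial, hGc]
    exact Nat.one_lt_pow (by norm_num) hpp.out.one_lt
  haveI := hPG.center_nontrivial
  obtain ⟨⟨ū, hū⟩, hū1⟩ := exists_ne (1 : Subgroup.center (Q ⧸ Zc))
  obtain ⟨u, rfl⟩ := QuotientGroup.mk'_surjective Zc ū
  have hu : u ∉ Zc := by
    intro h
    apply hū1
    apply Subtype.ext
    exact (QuotientGroup.eq_one_iff _).2 h
  have hucm : ∀ y, ⁅u, y⁆ ∈ Zc := by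
    intro y
    apply (QuotientGroup.eq_one_iff _).1
    show QuotientGroup.mk' Zc ⁅u, y⁆ = 1
    rw [map_commutatorElement, commutatorElement_eq_one_iff_mul_comm]
    exact ((Subgroup.mem_center_iff.1 hū) _).symm
  let φ := cmHom u hucm
  have hφr : φ.range ≤ Zc := by
    rintro _ ⟨y, rfl⟩
    exact hucm y
  have hrc : Nat.card φ.range = p := by
    have hd : Nat.card φ.range ∣ p := by
      rw [← hZ]
      exact Subgroup.card_dvd_of_le hφr
    rcases (Nat.dvd_prime hpp.out).1 hd with h6 | h6
    · exfalso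
      haveI := (Nat.card_eq_one_iff_unique.1 h6).1
      apply hu
      rw [hZcd, Subgroup.mem_center_iff]
      intro y
      have h5 : (⟨φ y, y, rfl⟩ : φ.range) = 1 := Subsingleton.elim _ _
      have h7 : ⁅u, y⁆ = 1 := congrArg Subtype.val h5
      exact (commutatorElement_eq_one_iff_mul_comm.1 h7).symm
    · exact h6
  have hkc : Nat.card φ.ker = p ^ 3 := by
    have h1 := ker_mul_range φ
    rw [hrc, hcard] at h1
    exact Nat.eq_of_mul_eq_mul_right hpp.out.pos (by rw [h1]; ring)
  by_cases hGab : ∀ x y : Q, ⁅x, y⁆ ∈ Zc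
  · -- class two: an abelian maximal subgroup
    have hZC : Zc ≤ φ.ker := by
      intro z hz
      rw [mem_ker_cmHom]
      exact ((Subgroup.mem_center_iff.1 hz) u)
    have huC : u ∈ φ.ker := by
      rw [mem_ker_cmHom]
    have hCab : ∀ x y : φ.ker, x * y = y * x := by
      by_contra hnon
      obtain ⟨hZ', -, -⟩ := nonab_facts (Q := φ.ker) (p := p) hkc hnon
      have hle : Zc.subgroupOf φ.ker ≤ Subgroup.center φ.ker := by
        intro z hz
        rw [Subgroup.mem_subgroupOf] at hz
        rw [Subgroup.mem_center_iff]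
        intro g
        apply Subtype.ext
        exact (Subgroup.mem_center_iff.1 hz) g
      have hcardle : Nat.card (Zc.subgroupOf φ.ker) = p := by
        rw [← hZ]
        exact Nat.card_congr (Subgroup.subgroupOfEquivOfLe hZC).toEquiv
      have heq := Subgroup.eq_of_le_of_card_ge hle (by rw [hZ', hcardle])
      have hum : (⟨u, huC⟩ : φ.ker) ∈ Subgroup.center φ.ker := by
        rw [Subgroup.mem_center_iff]
        intro g
        apply Subtype.ext
        have := g.2
        rw [mem_ker_cmHom] at this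
        exact this.symm
      rw [← heq, Subgroup.mem_subgroupOf] at hum
      exact hu hum
    obtain ⟨t, ht⟩ : ∃ t, t ∉ φ.ker := by
      by_contra h
      push_neg at h
      have h1 : φ.ker = ⊤ := eq_top_iff.2 fun x _ => h x
      rw [h1, Subgroup.card_top, hcard] at hkc
      have := Nat.pow_right_injective hpp.out.two_le hkc
      omega
    let ψ : φ.ker →* Q := (cmHom t (hGab t)).comp φ.ker.subtype
    have hψr : ψ.range ≤ Zc := by
      rintro _ ⟨y, rfl⟩
      exact hGab t _
    have hrd : Nat.card ψ.range ∣ p := by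
      rw [← hZ]
      exact Subgroup.card_dvd_of_le hψr
    have hkψ : p ^ 2 ≤ Nat.card ψ.ker := by
      have h1 := ker_mul_range ψ
      rw [hkc] at h1
      rcases (Nat.dvd_prime hpp.out).1 hrd with h6 | h6
      · rw [h6, mul_one] at h1
        rw [h1]
        exact Nat.pow_le_pow_right hpp.out.pos (by norm_num)
      · rw [h6] at h1
        have : Nat.card ψ.ker = p ^ 2 := Nat.eq_of_mul_eq_mul_right hpp.out.pos (by rw [h1]; ring)
        exact this.ge
    have hmapZ : ψ.ker.map φ.ker.subtype ≤ Zc := by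
      rintro _ ⟨k, hk, rfl⟩
      have htk : t * (k : Q) = k * t := by
        have h1 : ⁅t, (k : Q)⁆ = 1 := hk
        exact commutatorElement_eq_one_iff_mul_comm.1 h1
      rw [hZcd, Subgroup.mem_center_iff]
      intro y
      have hD : Subgroup.centralizer ({(k : Q)} : Set Q) = ⊤ := by
        refine eq_top_of_gt hcard hkc ?_ ht ?_
        · intro g hg
          rw [Subgroup.mem_centralizer_singleton_iff]
          have := hCab ⟨g, hg⟩ k
          exact congrArg Subtype.val this
        · rw [Subgroup.mem_centralizer_singleton_iff]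
          exact htk
      have hy : y ∈ Subgroup.centralizer ({(k : Q)} : Set Q) := hD ▸ Subgroup.mem_top y
      rw [Subgroup.mem_centralizer_singleton_iff] at hy
      exact hy
    have hle2 := Nat.le_of_dvd Nat.card_pos (Subgroup.card_dvd_of_le hmapZ)
    rw [Subgroup.card_map_of_injective φ.ker.subtype_injective, hZ] at hle2
    have h2 := le_trans hkψ hle2
    have h3 : p ^ 1 < p ^ 2 := Nat.pow_lt_pow_right hpp.out.one_lt (by norm_num)
    rw [pow_one] at h3
    omega
  · -- class three: the upper central chain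
    have hGnon : ¬ ∀ a b : Q ⧸ Zc, a * b = b * a := by
      intro hcomm
      apply hGab
      intro x y
      apply (QuotientGroup.eq_one_iff _).1
      show QuotientGroup.mk' Zc ⁅x, y⁆ = 1
      rw [map_commutatorElement, commutatorElement_eq_one_iff_mul_comm]
      exact hcomm _ _
    obtain ⟨hZG, -, -⟩ := nonab_facts (p := p) hGc hGnon
    let Z₂ : Subgroup Q := (Subgroup.center (Q ⧸ Zc)).comap (QuotientGroup.mk' Zc)
    have hZ₂mem : ∀ x, x ∈ Z₂ ↔ ∀ y, ⁅x, y⁆ ∈ Zc := by
      intro x
      constructor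
      · intro hx y
        apply (QuotientGroup.eq_one_iff _).1
        show QuotientGroup.mk' Zc ⁅x, y⁆ = 1
        rw [map_commutatorElement, commutatorElement_eq_one_iff_mul_comm]
        exact ((Subgroup.mem_center_iff.1 hx) _).symm
      · intro h
        show QuotientGroup.mk' Zc x ∈ Subgroup.center (Q ⧸ Zc)
        rw [Subgroup.mem_center_iff]
        intro g
        obtain ⟨y, rfl⟩ := QuotientGroup.mk'_surjective Zc g
        have h1 : QuotientGroup.mk' Zc ⁅x, y⁆ = 1 := (QuotientGroup.eq_one_iff _).2 (h y)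
        rw [map_commutatorElement, commutatorElement_eq_one_iff_mul_comm] at h1
        exact h1.symm
    have hZ₂inv : AutInv Z₂ := by
      intro α x hx
      rw [hZ₂mem] at hx ⊢
      intro y
      have e : y = α (α⁻¹ y) := by
        show y = (α * α⁻¹) y
        rw [mul_inv_cancel]
        rfl
      rw [e, ← map_commutatorElement]
      exact autInv_center α _ (hx _)
    have hZZ₂ : Zc ≤ Z₂ := by
      intro z hz
      rw [hZ₂mem]
      intro y
      rw [commutatorElement_eq_one_iff_mul_comm.2 ((Subgroup.mem_center_iff.1 hz) y).symm]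
      exact Subgroup.one_mem _
    have hZ₂c : Nat.card Z₂ = p ^ 2 := by
      have hi : Z₂.index = (Subgroup.center (Q ⧸ Zc)).index :=
        Subgroup.index_comap_of_surjective _ (QuotientGroup.mk'_surjective Zc)
      have h1 := Subgroup.card_mul_index Z₂
      have h2 := Subgroup.card_mul_index (Subgroup.center (Q ⧸ Zc))
      rw [hZG, hGc] at h2
      rw [hi, hcard] at h1
      have h3 : (Subgroup.center (Q ⧸ Zc)).index = p ^ 2 :=
        Nat.eq_of_mul_eq_mul_left hpp.out.pos (by rw [h2]; ring)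
      rw [h3] at h1
      exact Nat.eq_of_mul_eq_mul_right (pow_pos hpp.out.pos 2) (by rw [h1]; ring)
    have huZ₂ : u ∈ Z₂ := (hZ₂mem u).2 hucm
    -- every element of the second centre is a power of `u` times a central element
    have hform : ∀ w ∈ Z₂, ∃ k : ℤ, ∃ z ∈ Zc, w = u ^ k * z := by
      intro w hw
      haveI := isCyclic_of_prime_card hZG
      have hgen : Subgroup.zpowers (⟨QuotientGroup.mk' Zc u, hū⟩ : Subgroup.center (Q ⧸ Zc)) = ⊤ :=
        zpowers_eq_top_of_prime_card hZG hū1
      have hm : (⟨QuotientGroup.mk' Zc w, hw⟩ : Subgroup.center (Q ⧸ Zc)) ∈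
          Subgroup.zpowers (⟨QuotientGroup.mk' Zc u, hū⟩ : Subgroup.center (Q ⧸ Zc)) := by
        rw [hgen]; exact Subgroup.mem_top _
      obtain ⟨k, hk⟩ := hm
      have hk' : (QuotientGroup.mk' Zc u) ^ k = QuotientGroup.mk' Zc w := congrArg Subtype.val hk
      refine ⟨k, (u ^ k)⁻¹ * w, ?_, by group⟩
      apply (QuotientGroup.eq_one_iff _).1
      show QuotientGroup.mk' Zc ((u ^ k)⁻¹ * w) = 1
      rw [map_mul, map_inv, map_zpow, hk', inv_mul_cancel]
    let R₃ : Subgroup Q := Subgroup.centralizer (Z₂ : Set Q)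
    have hR₃eq : R₃ = φ.ker := by
      ext y
      rw [mem_ker_cmHom]
      constructor
      · intro hy
        exact (Subgroup.mem_centralizer_iff.1 hy u huZ₂)
      · intro hy
        rw [Subgroup.mem_centralizer_iff]
        intro w hw
        obtain ⟨k, z, hz, rfl⟩ := hform w hw
        have h1 : Commute u y := hy
        have h2 : Commute (u ^ k) y := h1.zpow_left k
        have h3 : Commute z y := (Subgroup.mem_center_iff.1 hz y).symm
        exact (h2.mul_left h3).eq
    have hR₃inv : AutInv R₃ := by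
      intro α y hy
      rw [Subgroup.mem_centralizer_iff] at hy ⊢
      intro w hw
      have e : w = α (α⁻¹ w) := by
        show w = (α * α⁻¹) w
        rw [mul_inv_cancel]
        rfl
      have h1 := hy (α⁻¹ w) (hZ₂inv α⁻¹ w hw)
      rw [e, ← map_mul, ← map_mul, h1]
    have hZ₂R₃ : Z₂ ≤ R₃ := by
      rw [hR₃eq]
      intro w hw
      rw [mem_ker_cmHom]
      obtain ⟨k, z, hz, rfl⟩ := hform w hw
      have h1 : Commute u (u ^ k) := (Commute.refl u).zpow_right k
      have h3 : Commute u z := (Subgroup.mem_center_iff.1 hz u)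
      exact (h1.mul_right h3).eq
    exact NC Zc Z₂ R₃ autInv_center hZ₂inv hR₃inv hZZ₂ hZ₂R₃ hZ hZ₂c (by rw [hR₃eq]; exact hkc)

/-- The centre has order `p²`. -/
theorem center_card (hcard : Nat.card Q = p ^ 4) (hab : ¬ ∀ a b : Q, a * b = b * a)
    (NC : ∀ R₁ R₂ R₃ : Subgroup Q, AutInv R₁ → AutInv R₂ → AutInv R₃ → R₁ ≤ R₂ → R₂ ≤ R₃ →
      Nat.card R₁ = p → Nat.card R₂ = p ^ 2 → Nat.card R₃ = p ^ 3 → False) :
    Nat.card (Subgroup.center Q) = p ^ 2 := by
  classical
  have hP : IsPGroup p Q := IsPGroup.of_card hcard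
  obtain ⟨k, hk, hkc⟩ := exists_pow_card hcard (Subgroup.center Q)
  have h4 : k = 0 ∨ k = 1 ∨ k = 2 ∨ k = 3 ∨ k = 4 := by omega
  rcases h4 with rfl | rfl | rfl | rfl | rfl
  · exfalso
    haveI : Nontrivial Q := by
      rw [← Finite.one_lt_card_iff_nontrivial, hcard]
      exact Nat.one_lt_pow (by norm_num) hpp.out.one_lt
    haveI := hP.center_nontrivial
    have : 1 < Nat.card (Subgroup.center Q) := Finite.one_lt_card_iff_nontrivial.2 inferInstance
    rw [hkc] at this
    simp at this
  · exact (no_center_p hcard NC (by rw [hkc, pow_one])).elim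
  · exact hkc
  · exfalso
    have hGc : Nat.card (Q ⧸ Subgroup.center Q) = p := by
      have h1 := Subgroup.card_mul_index (Subgroup.center Q)
      rw [hkc, hcard, Subgroup.index_eq_card] at h1
      exact Nat.eq_of_mul_eq_mul_left (pow_pos hpp.out.pos 3) (by rw [h1]; ring)
    haveI := isCyclic_of_prime_card hGc
    apply hab
    refine commutative_of_cyclic_center_quotient (QuotientGroup.mk' (Subgroup.center Q)) ?_
    rw [QuotientGroup.ker_mk']
  · exfalso
    have := Subgroup.eq_top_of_card_eq (Subgroup.center Q) (by rw [hkc, hcard])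
    apply hab
    intro a b
    have ha : a ∈ Subgroup.center Q := this ▸ Subgroup.mem_top a
    exact ((Subgroup.mem_center_iff.1 ha) b).symm

end Cfsg.Agent.Lib.EssP4b
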