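/-
Nonabelian groups of order `p⁴` with centre of order `p²`.
-/
import Mathlib
import Cfsg.Agent.Lib.EssP4b
import Cfsg.Agent.Lib.Quaternion

set_option autoImplicit false
set_option linter.all false

open Cfsg
open Cfsg.Agent.Lib.EssP3 Cfsg.Agent.Lib.EssAb2 Cfsg.Agent.Lib.EssP4 Cfsg.Agent.Lib.EssP4b
open scoped commutatorElement

namespace Cfsg.Agent.Lib.EssP4c

variable {p : ℕ} [hpp : Fact p.Prime]
variable {Q : Type*} [Group Q] [Finite Q]

theorem card_quot (hcard : Nat.card Q = p ^ 4) (hZ2 : Nat.card (Subgroup.center Q) = p ^ 2) :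
    Nat.card (Q ⧸ Subgroup.center Q) = p ^ 2 := by
  have h1 := Subgroup.card_mul_index (Subgroup.center Q)
  rw [hZ2, hcard, Subgroup.index_eq_card] at h1
  exact Nat.eq_of_mul_eq_mul_left (pow_pos hpp.out.pos 2) (by rw [h1]; ring)

theorem quot_cm (hcard : Nat.card Q = p ^ 4) (hZ2 : Nat.card (Subgroup.center Q) = p ^ 2) (x y : Q) :
    ⁅x, y⁆ ∈ Subgroup.center Q := by
  apply (QuotientGroup.eq_one_iff _).1
  show QuotientGroup.mk' (Subgroup.center Q) ⁅x, y⁆ = 1
  rw [map_commutatorElement, commutatorElement_eq_one_iff_mul_comm]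
  exact IsPGroup.commutative_of_card_eq_prime_sq (card_quot hcard hZ2) _ _

theorem pow_mem_center (hcard : Nat.card Q = p ^ 4) (hZ2 : Nat.card (Subgroup.center Q) = p ^ 2)
    (hab : ¬ ∀ a b : Q, a * b = b * a) (x : Q) : x ^ p ∈ Subgroup.center Q := by
  apply (QuotientGroup.eq_one_iff _).1
  show QuotientGroup.mk' (Subgroup.center Q) (x ^ p) = 1
  rw [map_pow]
  set g := QuotientGroup.mk' (Subgroup.center Q) x
  have hG := card_quot hcard hZ2
  have hd : orderOf g ∣ p ^ 2 := hG ▸ orderOf_dvd_natCard g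
  obtain ⟨k, hk, hkc⟩ := (Nat.dvd_prime_pow hpp.out).1 hd
  have : k = 0 ∨ k = 1 ∨ k = 2 := by omega
  rcases this with rfl | rfl | rfl
  · rw [pow_zero, orderOf_eq_one_iff] at hkc
    rw [hkc, one_pow]
  · rw [pow_one] at hkc
    rw [← hkc]
    exact pow_orderOf_eq_one g
  · exfalso
    haveI := isCyclic_of_orderOf_eq_card g (by rw [hkc, hG])
    exact hab (commutative_of_cyclic_center_quotient (QuotientGroup.mk' (Subgroup.center Q))
      (by rw [QuotientGroup.ker_mk']))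

theorem cm_pow (hcard : Nat.card Q = p ^ 4) (hZ2 : Nat.card (Subgroup.center Q) = p ^ 2)
    (hab : ¬ ∀ a b : Q, a * b = b * a) (x y : Q) : ⁅x, y⁆ ^ p = 1 := by
  have h := map_pow (cmHom x (quot_cm hcard hZ2 x)) y p
  rw [cmHom_apply, cmHom_apply] at h
  rw [← h, commutatorElement_eq_one_iff_mul_comm]
  exact (Subgroup.mem_center_iff.1 (pow_mem_center hcard hZ2 hab y)) x

theorem closure_pair_top {G : Type*} [CommGroup G] [Finite G] (hG : Nat.card G = p ^ 2) {α β : G}
    (hα : α ≠ 1) (hβ : β ∉ Subgroup.zpowers α) : Subgroup.closure ({α, β} : Set G) = ⊤ := by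
  set K := Subgroup.closure ({α, β} : Set G) with hKd
  have hd : Nat.card K ∣ p ^ 2 := hG ▸ Subgroup.card_subgroup_dvd_card K
  obtain ⟨k, hk, hkc⟩ := (Nat.dvd_prime_pow hpp.out).1 hd
  have hαK : α ∈ K := Subgroup.subset_closure (by simp)
  have hβK : β ∈ K := Subgroup.subset_closure (by simp)
  have hzK : Subgroup.zpowers α ≤ K := (Subgroup.zpowers_le).2 hαK
  have hzc : orderOf α ≠ 1 := fun h => hα (orderOf_eq_one_iff.1 h)
  have hzd : orderOf α ∣ Nat.card K := by
    rw [← Nat.card_zpowers]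
    exact Subgroup.card_dvd_of_le hzK
  have : k = 0 ∨ k = 1 ∨ k = 2 := by omega
  rcases this with rfl | rfl | rfl
  · rw [hkc, pow_zero] at hzd
    exact absurd (Nat.dvd_one.1 hzd) hzc
  · rw [hkc, pow_one] at hzd
    rcases (Nat.dvd_prime hpp.out).1 hzd with h | h
    · exact absurd h hzc
    · have h2 := Subgroup.eq_of_le_of_card_ge hzK (by rw [Nat.card_zpowers, hkc, h, pow_one])
      exact absurd (h2 ▸ hβK) hβ
  · exact Subgroup.eq_top_of_card_eq _ (by rw [hkc, hG])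

theorem normal_form (hcard : Nat.card Q = p ^ 4) (hZ2 : Nat.card (Subgroup.center Q) = p ^ 2)
    {a b : Q} (hc : ⁅a, b⁆ ≠ 1) (x : Q) :
    ∃ m n : ℤ, ∃ z ∈ Subgroup.center Q, x = a ^ m * b ^ n * z := by
  classical
  set Zc := Subgroup.center Q with hZcd
  have hG := card_quot hcard hZ2
  have hcommG : ∀ x y : Q ⧸ Zc, x * y = y * x := IsPGroup.commutative_of_card_eq_prime_sq hG
  letI inst : CommGroup (Q ⧸ Zc) := { (inferInstance : Group (Q ⧸ Zc)) with mul_comm := hcommG }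
  have ha1 : QuotientGroup.mk' Zc a ≠ 1 := by
    intro h
    have h1 : a ∈ Zc := (QuotientGroup.eq_one_iff _).1 h
    exact hc (commutatorElement_eq_one_iff_mul_comm.2 ((Subgroup.mem_center_iff.1 h1) b).symm)
  have hb1 : QuotientGroup.mk' Zc b ∉ Subgroup.zpowers (QuotientGroup.mk' Zc a) := by
    rintro ⟨k, hk⟩
    have h1 : (a ^ k)⁻¹ * b ∈ Zc := by
      apply (QuotientGroup.eq_one_iff _).1
      show QuotientGroup.mk' Zc ((a ^ k)⁻¹ * b) = 1
      rw [map_mul, map_inv, map_zpow]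
      have hk' : (QuotientGroup.mk' Zc a) ^ k = QuotientGroup.mk' Zc b := hk
      rw [hk', inv_mul_cancel]
    apply hc
    rw [commutatorElement_eq_one_iff_mul_comm]
    have h2 : b = a ^ k * ((a ^ k)⁻¹ * b) := by group
    have h3 : Commute a (a ^ k) := (Commute.refl a).zpow_right k
    have h4 : Commute a ((a ^ k)⁻¹ * b) := (Subgroup.mem_center_iff.1 h1) a
    rw [h2]
    exact (h3.mul_right h4).eq
  have htop := closure_pair_top (p := p) (G := Q ⧸ Zc) hG ha1 hb1
  have hm : QuotientGroup.mk' Zc x ∈ Subgroup.closure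
      ({QuotientGroup.mk' Zc a, QuotientGroup.mk' Zc b} : Set (Q ⧸ Zc)) := by
    rw [htop]
    exact Subgroup.mem_top _
  obtain ⟨m, n, hmn⟩ := Subgroup.mem_closure_pair.1 hm
  refine ⟨m, n, (a ^ m * b ^ n)⁻¹ * x, ?_, by group⟩
  apply (QuotientGroup.eq_one_iff _).1
  show QuotientGroup.mk' Zc ((a ^ m * b ^ n)⁻¹ * x) = 1
  have h5 : QuotientGroup.mk' Zc (a ^ m * b ^ n) = QuotientGroup.mk' Zc x := by
    rw [map_mul, map_zpow, map_zpow]
    exact hmn
  rw [map_mul, map_inv, h5, inv_mul_cancel]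

theorem cm_mem_of (hcard : Nat.card Q = p ^ 4) (hZ2 : Nat.card (Subgroup.center Q) = p ^ 2)
    {a b : Q} (hc : ⁅a, b⁆ ≠ 1) (N : Subgroup Q) (y : Q) (h1 : ⁅y, a⁆ ∈ N) (h2 : ⁅y, b⁆ ∈ N) (x : Q) :
    ⁅y, x⁆ ∈ N := by
  obtain ⟨m, n, z, hz, rfl⟩ := normal_form hcard hZ2 hc x
  have e : ⁅y, a ^ m * b ^ n * z⁆ = cmHom y (quot_cm hcard hZ2 y) (a ^ m * b ^ n * z) := rfl
  rw [e, map_mul, map_mul, map_zpow, map_zpow, cmHom_apply, cmHom_apply, cmHom_apply,
    commutatorElement_eq_one_iff_mul_comm.2 ((Subgroup.mem_center_iff.1 hz) y), mul_one]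
  exact N.mul_mem (N.zpow_mem h1 _) (N.zpow_mem h2 _)

theorem comm_facts (hcard : Nat.card Q = p ^ 4) (hZ2 : Nat.card (Subgroup.center Q) = p ^ 2)
    (hab : ¬ ∀ a b : Q, a * b = b * a) {a b : Q} (hc : ⁅a, b⁆ ≠ 1) :
    commutator Q = Subgroup.zpowers ⁅a, b⁆ := by
  set c := ⁅a, b⁆ with hcd
  set N := Subgroup.zpowers c with hNd
  have hcN : c ∈ N := Subgroup.mem_zpowers c
  have hA : ∀ y, ⁅a, y⁆ ∈ N := cm_mem_of hcard hZ2 hc N a (by
    rw [commutatorElement_self]; exact N.one_mem) hcN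
  have hB : ∀ y, ⁅b, y⁆ ∈ N := cm_mem_of hcard hZ2 hc N b (by
    rw [← commutatorElement_inv]; exact N.inv_mem hcN) (by
    rw [commutatorElement_self]; exact N.one_mem)
  have hall : ∀ y x, ⁅y, x⁆ ∈ N := fun y => cm_mem_of hcard hZ2 hc N y (by
    rw [← commutatorElement_inv]; exact N.inv_mem (hA y)) (by
    rw [← commutatorElement_inv]; exact N.inv_mem (hB y))
  apply le_antisymm
  · rw [commutator_def, Subgroup.commutator_le]
    intro x _ y _
    exact hall x y
  · rw [hNd, Subgroup.zpowers_le, hcd]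
    exact Subgroup.commutator_mem_commutator (Subgroup.mem_top a) (Subgroup.mem_top b)

theorem comm_card (hcard : Nat.card Q = p ^ 4) (hZ2 : Nat.card (Subgroup.center Q) = p ^ 2)
    (hab : ¬ ∀ a b : Q, a * b = b * a) {a b : Q} (hc : ⁅a, b⁆ ≠ 1) :
    Nat.card (commutator Q) = p := by
  rw [comm_facts hcard hZ2 hab hc, Nat.card_zpowers]
  exact orderOf_eq_prime (cm_pow hcard hZ2 hab a b) hc

theorem comm_le_center (hcard : Nat.card Q = p ^ 4) (hZ2 : Nat.card (Subgroup.center Q) = p ^ 2) :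
    commutator Q ≤ Subgroup.center Q := by
  rw [commutator_def, Subgroup.commutator_le]
  intro x _ y _
  exact quot_cm hcard hZ2 x y

theorem autInv_comm : AutInv (commutator Q) :=
  fun α x hx => Subgroup.characteristic_iff_le_comap.1 inferInstance α hx

/-- The chain hypothesis. -/
def NoChain (p : ℕ) (Q : Type*) [Group Q] : Prop :=
  ∀ R₁ R₂ R₃ : Subgroup Q, AutInv R₁ → AutInv R₂ → AutInv R₃ → R₁ ≤ R₂ → R₂ ≤ R₃ →
      Nat.card R₁ = p → Nat.card R₂ = p ^ 2 → Nat.card R₃ = p ^ 3 → False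

theorem noK (hcard : Nat.card Q = p ^ 4) (hZ2 : Nat.card (Subgroup.center Q) = p ^ 2)
    (NC : NoChain p Q) (hN : Nat.card (commutator Q) = p) {K : Subgroup Q} (hK : AutInv K)
    (hZK : Subgroup.center Q ≤ K) (hKc : Nat.card K = p ^ 3) : False :=
  NC _ _ _ autInv_comm autInv_center hK (comm_le_center hcard hZ2) hZK hN hZ2 hKc

theorem mul_pow_class2 (hcard : Nat.card Q = p ^ 4) (hZ2 : Nat.card (Subgroup.center Q) = p ^ 2)
    (x y : Q) (n : ℕ) : (x * y) ^ n = ⁅y, x⁆ ^ n.choose 2 * x ^ n * y ^ n := by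
  have hw := quot_cm hcard hZ2 y x
  have hb : y * x = ⁅y, x⁆ * x * y := by
    rw [commutatorElement_def]
    group
  have hwa : ⁅y, x⁆ * x = x * ⁅y, x⁆ := ((Subgroup.mem_center_iff.1 hw) x).symm
  have hwb : ⁅y, x⁆ * y = y * ⁅y, x⁆ := ((Subgroup.mem_center_iff.1 hw) y).symm
  exact Cfsg.Agent.Lib.NormalPP.mul_pow_aux hb hwa hwb n

/-- With a cyclic centre the exponent is `p²`. -/
theorem exp_of_cyclic (hcard : Nat.card Q = p ^ 4) (hZ2 : Nat.card (Subgroup.center Q) = p ^ 2)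
    (hab : ¬ ∀ a b : Q, a * b = b * a) (NC : NoChain p Q) (hN : Nat.card (commutator Q) = p)
    (hcyc : IsCyclic (Subgroup.center Q)) (x : Q) : x ^ (p ^ 2) = 1 := by
  classical
  have hmul : ∀ x y : Q, (x * y) ^ (p ^ 2) = x ^ (p ^ 2) * y ^ (p ^ 2) := by
    intro x y
    rw [mul_pow_class2 hcard hZ2 x y (p ^ 2)]
    have h4 : 2 ≠ p ^ 2 := by
      have := Nat.pow_le_pow_left hpp.out.two_le 2
      omega
    obtain ⟨t, ht⟩ := Nat.Prime.dvd_choose_pow hpp.out (n := 2) (k := 2) (by norm_num) h4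
    rw [ht, pow_mul, cm_pow hcard hZ2 hab, one_pow, one_mul]
  let g : Q →* Q := MonoidHom.mk' (fun x => x ^ (p ^ 2)) hmul
  have hg : ∀ (α : MulAut Q) x, g (α x) = α (g x) := fun α x => (map_pow α x _).symm
  by_contra hne
  have hgr : g.range ≤ Subgroup.center Q := by
    rintro _ ⟨x, rfl⟩
    show x ^ (p ^ 2) ∈ _
    rw [sq, pow_mul]
    exact Subgroup.pow_mem _ (pow_mem_center hcard hZ2 hab x) p
  have hrp : ∀ r ∈ g.range, r ^ p = 1 := by
    rintro _ ⟨x, rfl⟩
    show (x ^ (p ^ 2)) ^ p = 1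
    rw [← pow_mul, mul_comm, pow_mul]
    exact pow_card_mem hZ2 (pow_mem_center hcard hZ2 hab x)
  have hrc : Nat.card g.range = p := by
    have hd : Nat.card g.range ∣ p ^ 2 := hZ2 ▸ Subgroup.card_dvd_of_le hgr
    obtain ⟨k, hk, hkc⟩ := (Nat.dvd_prime_pow hpp.out).1 hd
    have : k = 0 ∨ k = 1 ∨ k = 2 := by omega
    rcases this with rfl | rfl | rfl
    · exfalso
      rw [pow_zero] at hkc
      haveI := (Nat.card_eq_one_iff_unique.1 hkc).1
      have h5 : (⟨g x, x, rfl⟩ : g.range) = 1 := Subsingleton.elim _ _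
      exact hne (congrArg Subtype.val h5)
    · rw [hkc, pow_one]
    · exfalso
      have heq := Subgroup.eq_of_le_of_card_ge hgr (by rw [hkc, hZ2])
      obtain ⟨z₀, hz₀⟩ := IsCyclic.exists_generator (α := Subgroup.center Q)
      have ho : orderOf z₀ = p ^ 2 := by
        rw [orderOf_eq_card_of_forall_mem_zpowers hz₀, hZ2]
      have hz0m : (z₀ : Q) ∈ g.range := by
        rw [heq]
        exact z₀.2
      have hz1 : (z₀ : Q) ^ p = 1 := hrp _ hz0m
      have hz2 : z₀ ^ p = 1 := Subtype.ext hz1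
      have hd2 := orderOf_dvd_of_pow_eq_one hz2
      rw [ho] at hd2
      have := Nat.le_of_dvd hpp.out.pos hd2
      have h3 : p ^ 1 < p ^ 2 := Nat.pow_lt_pow_right hpp.out.one_lt (by norm_num)
      rw [pow_one] at h3
      omega
  have hkc : Nat.card g.ker = p ^ 3 := by
    have h1 := ker_mul_range g
    rw [hrc, hcard] at h1
    exact Nat.eq_of_mul_eq_mul_right hpp.out.pos (by rw [h1]; ring)
  refine noK hcard hZ2 NC hN (autInv_ker g hg) ?_ hkc
  intro z hz
  exact pow_card_mem hZ2 hz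

theorem center_exp (hZ2 : Nat.card (Subgroup.center Q) = p ^ 2) (hcyc : ¬ IsCyclic (Subgroup.center Q))
    (z : Q) (hz : z ∈ Subgroup.center Q) : z ^ p = 1 := by
  set g : Subgroup.center Q := ⟨z, hz⟩
  have hd : orderOf g ∣ p ^ 2 := hZ2 ▸ orderOf_dvd_natCard g
  obtain ⟨k, hk, hkc⟩ := (Nat.dvd_prime_pow hpp.out).1 hd
  have : k = 0 ∨ k = 1 ∨ k = 2 := by omega
  have h : g ^ p = 1 := by
    rcases this with rfl | rfl | rfl
    · rw [pow_zero, orderOf_eq_one_iff] at hkc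
      rw [hkc, one_pow]
    · rw [pow_one] at hkc
      rw [← hkc]
      exact pow_orderOf_eq_one g
    · exact absurd (isCyclic_of_orderOf_eq_card g (by rw [hkc, hZ2])) hcyc
  exact congrArg Subtype.val h

/-- With an elementary abelian centre, `p`-th powers lie in the commutator subgroup. -/
theorem pow_mem_comm (hcard : Nat.card Q = p ^ 4) (hZ2 : Nat.card (Subgroup.center Q) = p ^ 2)
    (hab : ¬ ∀ a b : Q, a * b = b * a) (NC : NoChain p Q) (hN : Nat.card (commutator Q) = p)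
    (hZe : ∀ z ∈ Subgroup.center Q, z ^ p = 1) (x : Q) : x ^ p ∈ commutator Q := by
  classical
  set N := commutator Q with hNd
  let π := QuotientGroup.mk' N
  have hmul : ∀ x y : Q, π ((x * y) ^ p) = π (x ^ p) * π (y ^ p) := by
    intro x y
    rw [mul_pow_class2 hcard hZ2 x y p, map_mul, map_mul]
    have h1 : π (⁅y, x⁆ ^ p.choose 2) = 1 := by
      apply (QuotientGroup.eq_one_iff _).2
      exact N.pow_mem (Subgroup.commutator_mem_commutator (Subgroup.mem_top y) (Subgroup.mem_top x)) _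
    rw [h1, one_mul]
  let h : Q →* Q ⧸ N := MonoidHom.mk' (fun x => π (x ^ p)) hmul
  have hmem : ∀ x, x ∈ h.ker ↔ x ^ p ∈ N := by
    intro x
    rw [MonoidHom.mem_ker]
    exact QuotientGroup.eq_one_iff _
  have hinv : AutInv h.ker := by
    intro α x hx
    rw [hmem] at hx ⊢
    rw [← map_pow]
    exact autInv_comm α _ hx
  have hZK : Subgroup.center Q ≤ h.ker := by
    intro z hz
    rw [hmem, hZe z hz]
    exact N.one_mem
  let τ : Subgroup.center Q →* Q ⧸ N := π.comp (Subgroup.center Q).subtype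
  have hrτ : Nat.card τ.range = p := by
    have hk : τ.ker = N.subgroupOf (Subgroup.center Q) := by
      ext z
      rw [MonoidHom.mem_ker, Subgroup.mem_subgroupOf]
      exact QuotientGroup.eq_one_iff _
    have hk2 : Nat.card τ.ker = p := by
      rw [hk, ← hN]
      exact Nat.card_congr (Subgroup.subgroupOfEquivOfLe (comm_le_center hcard hZ2)).toEquiv
    have h1 := ker_mul_range τ
    rw [hk2, hZ2] at h1
    exact Nat.eq_of_mul_eq_mul_left hpp.out.pos (by rw [h1]; ring)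
  have hle : h.range ≤ τ.range := by
    rintro _ ⟨x, rfl⟩
    exact ⟨⟨x ^ p, pow_mem_center hcard hZ2 hab x⟩, rfl⟩
  have hd : Nat.card h.range ∣ p := hrτ ▸ Subgroup.card_dvd_of_le hle
  rcases (Nat.dvd_prime hpp.out).1 hd with h6 | h6
  · haveI := (Nat.card_eq_one_iff_unique.1 h6).1
    have h5 : (⟨h x, x, rfl⟩ : h.range) = 1 := Subsingleton.elim _ _
    have h7 : h x = 1 := congrArg Subtype.val h5
    exact (hmem x).1 h7
  · exfalso
    have h1 := ker_mul_range h
    rw [h6, hcard] at h1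
    exact noK hcard hZ2 NC hN hinv hZK (Nat.eq_of_mul_eq_mul_right hpp.out.pos (by rw [h1]; ring))

end Cfsg.Agent.Lib.EssP4c
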