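/-
Nonabelian groups of order `p⁴`: the direct decompositions.
-/
import Mathlib
import Cfsg.Agent.Lib.EssP4c

set_option autoImplicit false
set_option linter.all false

open Cfsg
open Cfsg.Agent.Lib.EssP3 Cfsg.Agent.Lib.EssAb2 Cfsg.Agent.Lib.EssP4 Cfsg.Agent.Lib.EssP4b
  Cfsg.Agent.Lib.EssP4c
open scoped commutatorElement

namespace Cfsg.Agent.Lib.EssP4d

variable {p : ℕ} [hpp : Fact p.Prime]
variable {Q : Type*} [Group Q] [Finite Q]

/-- A central complement. -/
theorem decomp (hcard : Nat.card Q = p ^ 4) (hZ2 : Nat.card (Subgroup.center Q) = p ^ 2)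
    (hab : ¬ ∀ a b : Q, a * b = b * a) (hN : Nat.card (commutator Q) = p)
    (hZe : ∀ z ∈ Subgroup.center Q, z ^ p = 1) (hpN : ∀ x : Q, x ^ p ∈ commutator Q)
    {a b : Q} (hc : ⁅a, b⁆ ≠ 1) :
    ∃ E : Subgroup Q, a ∈ E ∧ b ∈ E ∧ Nat.card E = p ^ 3 ∧
      Nonempty (Q ≃* E × Multiplicative (ZMod p)) := by
  classical
  haveI : NeZero p := ⟨hpp.out.ne_zero⟩
  set N := commutator Q with hNd
  have hNZ : N ≤ Subgroup.center Q := comm_le_center hcard hZ2
  let π : Q →* Abelianization Q := Abelianization.of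
  have hπs : Function.Surjective π := fun x => by
    obtain ⟨y, rfl⟩ := QuotientGroup.mk_surjective x
    exact ⟨y, rfl⟩
  have hπk : ∀ x, π x = 1 ↔ x ∈ N := by
    intro x
    rw [← MonoidHom.mem_ker, Abelianization.ker_of]
  haveI : Finite (Abelianization Q) := Finite.of_surjective π hπs
  have hĀc : Nat.card (Abelianization Q) = p ^ 3 := by
    have h1 := Subgroup.card_mul_index N
    rw [hN, hcard, Subgroup.index_eq_card] at h1
    exact Nat.eq_of_mul_eq_mul_left hpp.out.pos (by rw [show Nat.card (Abelianization Q) = Nat.card (Q ⧸ N) from rfl, h1]; ring)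
  have ha : π a ^ p = 1 := by
    rw [← map_pow, hπk]
    exact hpN a
  have hb : π b ^ p = 1 := by
    rw [← map_pow, hπk]
    exact hpN b
  let H := (pairHom p (π a) (π b) ha hb).range
  have hHc : Nat.card H ≤ p ^ 2 := by
    have h1 : Nat.card H ≤ Nat.card (Multiplicative (ZMod p × ZMod p)) :=
      Nat.card_le_card_of_surjective _ (pairHom p (π a) (π b) ha hb).rangeRestrict_surjective
    have h2 : Nat.card (Multiplicative (ZMod p × ZMod p)) = p ^ 2 := by
      rw [Nat.card_congr Multiplicative.toAdd, Nat.card_prod, Nat.card_zmod, sq]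
    rwa [h2] at h1
  let E : Subgroup Q := H.comap π
  have haE : a ∈ E := by
    refine ⟨Multiplicative.ofAdd (1, 0), ?_⟩
    rw [pairHom_apply, ZMod.val_zero, pow_zero, mul_one, ZMod.val_one_eq_one_mod, ← pow_eq_pow_mod _ ha,
      pow_one]
  have hbE : b ∈ E := by
    refine ⟨Multiplicative.ofAdd (0, 1), ?_⟩
    rw [pairHom_apply, ZMod.val_zero, pow_zero, one_mul, ZMod.val_one_eq_one_mod, ← pow_eq_pow_mod _ hb,
      pow_one]
  have hNE : N ≤ E := by
    intro x hx
    show π x ∈ H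
    rw [(hπk x).2 hx]
    exact H.one_mem
  have hEle : Nat.card E ≤ p ^ 3 := by
    have hi : E.index = H.index := Subgroup.index_comap_of_surjective _ hπs
    have h1 := Subgroup.card_mul_index E
    have h2 := Subgroup.card_mul_index H
    rw [hĀc] at h2
    rw [hi, hcard] at h1
    have hpos : 0 < H.index := Nat.pos_of_ne_zero (by
      intro h0
      rw [h0, mul_zero] at h2
      exact absurd h2.symm (pow_ne_zero _ hpp.out.ne_zero))
    have h3 : p ≤ H.index := by
      have h4 : p ^ 2 * p ≤ p ^ 2 * H.index := by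
        calc p ^ 2 * p = p ^ 3 := by ring
          _ = Nat.card H * H.index := h2.symm
          _ ≤ p ^ 2 * H.index := Nat.mul_le_mul_right _ hHc
      exact Nat.le_of_mul_le_mul_left h4 (pow_pos hpp.out.pos 2)
    have h5 : Nat.card E * p ≤ p ^ 3 * p := by
      calc Nat.card E * p ≤ Nat.card E * H.index := Nat.mul_le_mul_left _ h3
        _ = p ^ 4 := h1
        _ = p ^ 3 * p := by ring
    exact Nat.le_of_mul_le_mul_right h5 hpp.out.pos
  -- a central element outside the commutator subgroup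
  have hlt : p < p ^ 2 := by
    have h3 : p ^ 1 < p ^ 2 := Nat.pow_lt_pow_right hpp.out.one_lt (by norm_num)
    rwa [pow_one] at h3
  obtain ⟨t, htZ, htN⟩ : ∃ t ∈ Subgroup.center Q, t ∉ N := by
    by_contra hno
    push_neg at hno
    have h1 := Nat.le_of_dvd Nat.card_pos (Subgroup.card_dvd_of_le (show Subgroup.center Q ≤ N from hno))
    rw [hZ2, hN] at h1
    omega
  have ht1 : t ≠ 1 := fun h => htN (h ▸ N.one_mem)
  let T := Subgroup.zpowers t
  have hTc : Nat.card T = p := by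
    rw [Nat.card_zpowers]
    exact orderOf_eq_prime (hZe t htZ) ht1
  have hTZ : T ≤ Subgroup.center Q := (Subgroup.zpowers_le).2 htZ
  have hΨ : ∀ w w' : E × T, (((w * w').1 : E) : Q) * (((w * w').2 : T) : Q) =
      ((w.1 : Q) * (w.2 : Q)) * ((w'.1 : Q) * (w'.2 : Q)) := by
    intro w w'
    have h : (w'.1 : Q) * (w.2 : Q) = (w.2 : Q) * (w'.1 : Q) :=
      (Subgroup.mem_center_iff.1 (hTZ w.2.2)) _
    show (w.1 : Q) * (w'.1 : Q) * ((w.2 : Q) * (w'.2 : Q)) = _
    calc (w.1 : Q) * (w'.1 : Q) * ((w.2 : Q) * (w'.2 : Q)) = (w.1 : Q) * ((w'.1 : Q) * (w.2 : Q)) * (w'.2 : Q) := by group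
      _ = (w.1 : Q) * ((w.2 : Q) * (w'.1 : Q)) * (w'.2 : Q) := by rw [h]
      _ = _ := by group
  let Ψ : E × T →* Q := MonoidHom.mk' (fun w => (w.1 : Q) * (w.2 : Q)) hΨ
  have hER : E ≤ Ψ.range := by
    intro e he
    refine ⟨(⟨e, he⟩, 1), ?_⟩
    show e * ((1 : T) : Q) = e
    simp
  have htR : t ∈ Ψ.range := by
    refine ⟨(1, ⟨t, Subgroup.mem_zpowers t⟩), ?_⟩
    show ((1 : E) : Q) * t = t
    simp
  have hZR : Subgroup.center Q ≤ Ψ.range := by
    let Y := Subgroup.center Q ⊓ Ψ.range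
    have hNY : N ≤ Y := le_inf hNZ (hNE.trans hER)
    have hYZ : Y ≤ Subgroup.center Q := inf_le_left
    have htY : t ∈ Y := ⟨htZ, htR⟩
    have hd : Nat.card Y ∣ p ^ 2 := hZ2 ▸ Subgroup.card_dvd_of_le hYZ
    obtain ⟨k, hk, hkc⟩ := (Nat.dvd_prime_pow hpp.out).1 hd
    have hpd : p ∣ Nat.card Y := hN ▸ Subgroup.card_dvd_of_le hNY
    have : k = 0 ∨ k = 1 ∨ k = 2 := by omega
    rcases this with rfl | rfl | rfl
    · rw [hkc, pow_zero] at hpd
      exact absurd (Nat.dvd_one.1 hpd) hpp.out.ne_one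
    · have h2 := Subgroup.eq_of_le_of_card_ge hNY (by rw [hkc, hN, pow_one])
      exact absurd (h2 ▸ htY) htN
    · have h2 := Subgroup.eq_of_le_of_card_ge hYZ (by rw [hkc, hZ2])
      rw [← h2]
      exact inf_le_right
  have hsurj : Function.Surjective Ψ := by
    rw [← MonoidHom.range_eq_top, eq_top_iff]
    intro x _
    obtain ⟨m, n, z, hz, rfl⟩ := normal_form hcard hZ2 hc x
    exact Ψ.range.mul_mem (Ψ.range.mul_mem (Ψ.range.zpow_mem (hER haE) _) (Ψ.range.zpow_mem (hER hbE) _)) (hZR hz)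
  have hprod : Nat.card (E × T) = Nat.card E * p := by rw [Nat.card_prod, hTc]
  have hge : p ^ 3 ≤ Nat.card E := by
    have h1 := Nat.card_le_card_of_surjective Ψ hsurj
    rw [hprod, hcard] at h1
    have h5 : p ^ 3 * p ≤ Nat.card E * p := by
      calc p ^ 3 * p = p ^ 4 := by ring
        _ ≤ _ := h1
    exact Nat.le_of_mul_le_mul_right h5 hpp.out.pos
  have hEc : Nat.card E = p ^ 3 := le_antisymm hEle hge
  have hbij : Function.Bijective Ψ := hsurj.bijective_of_nat_card_le (by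
    rw [hprod, hEc, hcard]
    exact (by ring : p ^ 3 * p = p ^ 4).le)
  refine ⟨E, haE, hbE, hEc, ⟨(MulEquiv.ofBijective Ψ hbij).symm.trans
    (MulEquiv.prodCongr (MulEquiv.refl E) (mulEquivOfPrimeCardEq hTc ?_))⟩⟩
  rw [Nat.card_congr Multiplicative.toAdd, Nat.card_zmod]

/-- The odd case: the exponent is `p`. -/
theorem exp_p_of_odd (hcard : Nat.card Q = p ^ 4) (hZ2 : Nat.card (Subgroup.center Q) = p ^ 2)
    (hab : ¬ ∀ a b : Q, a * b = b * a) (NC : NoChain p Q) (hN : Nat.card (commutator Q) = p)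
    (hZe : ∀ z ∈ Subgroup.center Q, z ^ p = 1) (hpN : ∀ x : Q, x ^ p ∈ commutator Q)
    (hp2 : p ≠ 2) (x : Q) : x ^ p = 1 := by
  classical
  have hmul : ∀ x y : Q, (x * y) ^ p = x ^ p * y ^ p := by
    intro x y
    rw [mul_pow_class2 hcard hZ2 x y p]
    have h2lt : 2 < p := lt_of_le_of_ne hpp.out.two_le (Ne.symm hp2)
    obtain ⟨t, ht⟩ := hpp.out.dvd_choose_self (by norm_num : 2 ≠ 0) h2lt
    rw [ht, pow_mul, cm_pow hcard hZ2 hab, one_pow, one_mul]
  let f : Q →* Q := MonoidHom.mk' (fun x => x ^ p) hmul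
  have hf : ∀ (α : MulAut Q) x, f (α x) = α (f x) := fun α x => (map_pow α x p).symm
  have hfr : f.range ≤ commutator Q := by
    rintro _ ⟨x, rfl⟩
    exact hpN x
  have hd : Nat.card f.range ∣ p := hN ▸ Subgroup.card_dvd_of_le hfr
  rcases (Nat.dvd_prime hpp.out).1 hd with h6 | h6
  · haveI := (Nat.card_eq_one_iff_unique.1 h6).1
    have h5 : (⟨f x, x, rfl⟩ : f.range) = 1 := Subsingleton.elim _ _
    exact congrArg Subtype.val h5
  · exfalso
    have h1 := ker_mul_range f
    rw [h6, hcard] at h1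
    refine noK hcard hZ2 NC hN (autInv_ker f hf) ?_ (Nat.eq_of_mul_eq_mul_right hpp.out.pos (by rw [h1]; ring))
    intro z hz
    exact hZe z hz

/-- A bare carrier type. -/
def Carr (n : ℕ) : Type := Fin n

instance (n : ℕ) : Finite (Carr n) := inferInstanceAs (Finite (Fin n))

/-- Transport of the complement to a group in `Type`. -/
theorem case_d (E : Subgroup Q) {a b : Q} (haE : a ∈ E) (hbE : b ∈ E) (hEc : Nat.card E = p ^ 3)
    (hc : ⁅a, b⁆ ≠ 1) (hexp : ∀ x : Q, x ^ p = 1)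
    (iso : Nonempty (Q ≃* E × Multiplicative (ZMod p))) :
    ∃ (E' : Type) (_ : Group E') (_ : Finite E'), IsExtraspecial p E' ∧ Nat.card E' = p ^ 3 ∧
      (∀ x : E', x ^ p = 1) ∧ Nonempty (Q ≃* E' × Multiplicative (ZMod p)) := by
  classical
  let e : E ≃ Carr (Nat.card E) := Finite.equivFin E
  letI G : Group (Carr (Nat.card E)) := e.symm.group
  let φ : Carr (Nat.card E) ≃* E := e.symm.mulEquiv
  have hcardE : Nat.card (Carr (Nat.card E)) = p ^ 3 := by
    show Nat.card (Fin (Nat.card E)) = _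
    rw [Nat.card_eq_fintype_card, Fintype.card_fin, hEc]
  have hnon : ¬ ∀ x y : Carr (Nat.card E), x * y = y * x := by
    intro h
    apply hc
    rw [commutatorElement_eq_one_iff_mul_comm]
    have h1 := congrArg φ (h (φ.symm ⟨a, haE⟩) (φ.symm ⟨b, hbE⟩))
    rw [map_mul, map_mul, MulEquiv.apply_symm_apply, MulEquiv.apply_symm_apply] at h1
    exact congrArg Subtype.val h1
  obtain ⟨hZ, -, hcomm⟩ := nonab_facts hcardE hnon
  refine ⟨Carr (Nat.card E), G, inferInstance,
    ⟨⟨IsPGroup.of_card hcardE, frattini_eq_center hcardE hnon hZ hcomm, hcomm⟩, hZ⟩, hcardE, ?_, ?_⟩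
  · intro x
    apply φ.injective
    rw [map_pow, map_one]
    exact Subtype.ext (hexp _)
  · obtain ⟨ι⟩ := iso
    exact ⟨ι.trans (MulEquiv.prodCongr φ.symm (MulEquiv.refl _))⟩

/-- The case `p = 2`. -/
theorem case_two (hp2 : p = 2) (hcard : Nat.card Q = p ^ 4) (hZ2 : Nat.card (Subgroup.center Q) = p ^ 2)
    (hab : ¬ ∀ a b : Q, a * b = b * a) (NC : NoChain p Q) (hN : Nat.card (commutator Q) = p)
    (hZe : ∀ z ∈ Subgroup.center Q, z ^ p = 1) (hpN : ∀ x : Q, x ^ p ∈ commutator Q) :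
    Nonempty (Q ≃* QuaternionGroup 2 × Multiplicative (ZMod 2)) := by
  classical
  subst hp2
  obtain ⟨a, b, hc⟩ : ∃ a b : Q, ⁅a, b⁆ ≠ 1 := by
    by_contra h
    push_neg at h
    exact hab fun a b => commutatorElement_eq_one_iff_mul_comm.1 (h a b)
  set c := ⁅a, b⁆ with hcd
  have hNeq := comm_facts hcard hZ2 hab hc
  have hc2 : c ^ 2 = 1 := cm_pow hcard hZ2 hab a b
  have hcinv : c⁻¹ = c := by
    rw [inv_eq_iff_mul_eq_one, ← sq, hc2]
  have hN2 : ∀ y ∈ commutator Q, y = 1 ∨ y = c := by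
    intro y hy
    rw [hNeq] at hy
    obtain ⟨k, rfl⟩ := hy
    rcases Int.even_or_odd' k with ⟨j, rfl | rfl⟩
    · left
      show c ^ (2 * j) = 1
      rw [zpow_mul, zpow_two]
      rw [sq] at hc2
      rw [hc2, one_zpow]
    · right
      show c ^ (2 * j + 1) = c
      rw [zpow_add, zpow_mul, zpow_two, zpow_one]
      rw [sq] at hc2
      rw [hc2, one_zpow, one_mul]
  have hcm : ∀ x y : Q, ⁅x, y⁆ = 1 ∨ ⁅x, y⁆ = c := fun x y =>
    hN2 _ (Subgroup.commutator_mem_commutator (Subgroup.mem_top x) (Subgroup.mem_top y))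
  have hsq : ∀ x : Q, x ^ 2 = 1 ∨ x ^ 2 = c := fun x => hN2 _ (hpN x)
  have hcN : c ∈ commutator Q := Subgroup.commutator_mem_commutator (Subgroup.mem_top a) (Subgroup.mem_top b)
  have hcfix : ∀ α : MulAut Q, α c = c := by
    intro α
    rcases hN2 _ (autInv_comm α c hcN) with h | h
    · exfalso
      apply hc
      have : α c = α 1 := by rw [h, map_one]
      exact α.injective this
    · exact h
  let S : Set Q := {x | x ^ 2 = c}
  let K : Subgroup Q := Subgroup.closure (S ∪ (Subgroup.center Q : Set Q))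
  have hKinv : AutInv K := by
    intro α x hx
    have hle : K ≤ K.comap α.toMonoidHom := by
      rw [Subgroup.closure_le]
      rintro y (hy | hy)
      · apply Subgroup.subset_closure
        left
        show (α y) ^ 2 = c
        rw [← map_pow]
        have hy' : y ^ 2 = c := hy
        rw [hy', hcfix]
      · apply Subgroup.subset_closure
        right
        exact autInv_center α y hy
    exact hle hx
  have hZK : Subgroup.center Q ≤ K := fun z hz => Subgroup.subset_closure (Or.inr hz)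
  -- a noncentral element squaring to `c`
  have hnc : ∀ x y : Q, ⁅x, y⁆ ≠ 1 → x ∉ Subgroup.center Q := by
    intro x y h hx
    exact h (commutatorElement_eq_one_iff_mul_comm.2 ((Subgroup.mem_center_iff.1 hx) y).symm)
  obtain ⟨x₀, hx₀, hx₀Z⟩ : ∃ x₀ : Q, x₀ ^ 2 = c ∧ x₀ ∉ Subgroup.center Q := by
    rcases hsq a with ha | ha
    · rcases hsq b with hb | hb
      · refine ⟨a * b, ?_, ?_⟩
        · rw [mul_pow_class2 hcard hZ2 a b 2, ha, hb, ← commutatorElement_inv, ← hcd, hcinv]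
          simp
        · intro h
          apply hc
          rw [commutatorElement_eq_one_iff_mul_comm]
          have h1 := (Subgroup.mem_center_iff.1 h) b
          -- `b * (a * b) = a * b * b`
          have h2 : b * a * b = a * b * b := by rw [mul_assoc, h1]
          exact (mul_right_cancel h2).symm
      · refine ⟨b, hb, ?_⟩
        intro h
        apply hc
        exact commutatorElement_eq_one_iff_mul_comm.2 ((Subgroup.mem_center_iff.1 h) a)
    · exact ⟨a, ha, hnc a b hc⟩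
  by_cases hS : ∀ x ∈ S, ∀ y ∈ S, x * y = y * x
  · exfalso
    have hcommK : ∀ x ∈ S ∪ (Subgroup.center Q : Set Q), ∀ y ∈ S ∪ (Subgroup.center Q : Set Q), x * y = y * x := by
      rintro x (hx | hx) y (hy | hy)
      · exact hS x hx y hy
      · exact ((Subgroup.mem_center_iff.1 hy) x)
      · exact ((Subgroup.mem_center_iff.1 hx) y).symm
      · exact ((Subgroup.mem_center_iff.1 hy) x)
    haveI := Subgroup.isMulCommutative_closure hcommK
    have hKtop : K ≠ ⊤ := by
      intro h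
      apply hab
      intro x y
      have hx : x ∈ K := h ▸ Subgroup.mem_top x
      have hy : y ∈ K := h ▸ Subgroup.mem_top y
      have := (IsMulCommutative.is_comm (M := K)).comm ⟨x, hx⟩ ⟨y, hy⟩
      exact congrArg Subtype.val this
    obtain ⟨k, hk, hkc⟩ := exists_pow_card hcard K
    have h2 : 2 ^ 2 ∣ 2 ^ k := by
      rw [← hZ2, ← hkc]
      exact Subgroup.card_dvd_of_le hZK
    have hk2 : 2 ≤ k := (Nat.pow_dvd_pow_iff_le_right (by norm_num)).1 h2
    have : k = 2 ∨ k = 3 ∨ k = 4 := by omega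
    rcases this with rfl | rfl | rfl
    · have h3 := Subgroup.eq_of_le_of_card_ge hZK (by rw [hkc, hZ2])
      have hx₀K : x₀ ∈ K := Subgroup.subset_closure (Or.inl hx₀)
      exact hx₀Z (h3 ▸ hx₀K)
    · exact noK hcard hZ2 NC hN hKinv hZK hkc
    · exact hKtop (Subgroup.eq_top_of_card_eq _ (by rw [hkc, hcard]))
  · push_neg at hS
    obtain ⟨x, hx, y, hy, hxy⟩ := hS
    have hx2 : x ^ 2 = c := hx
    have hy2 : y ^ 2 = c := hy
    have hc' : ⁅x, y⁆ ≠ 1 := fun h => hxy (commutatorElement_eq_one_iff_mul_comm.1 h)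
    have hcxy : ⁅x, y⁆ = c := (hcm x y).resolve_left hc'
    obtain ⟨E, hxE, hyE, hEc, ⟨ι⟩⟩ := decomp hcard hZ2 hab hN hZe hpN hc'
    have hcne : c ≠ 1 := hc
    have hord : orderOf (⟨x, hxE⟩ : E) = 2 * 2 := by
      rw [Subgroup.orderOf_mk]
      have h1 : ¬ x ^ 2 ^ 1 = 1 := by
        rw [pow_one, hx2]
        exact hcne
      have h2 : x ^ 2 ^ (1 + 1) = 1 := by
        rw [show (2 : ℕ) ^ (1 + 1) = 2 * 2 by norm_num, pow_mul, hx2, hc2]
      rw [orderOf_eq_prime_pow h1 h2]
      norm_num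
    have hx4 : x * x * x * x = 1 := by
      have h2 : (x ^ 2) ^ 2 = 1 := by rw [hx2, hc2]
      calc x * x * x * x = (x ^ 2) ^ 2 := by simp only [sq, mul_assoc]
        _ = 1 := h2
    have hyx : y * x * y⁻¹ = x⁻¹ := by
      have h1 : ⁅y, x⁆ = x * x := by
        rw [← commutatorElement_inv, hcxy, hcinv, ← hx2, sq]
      rw [commutatorElement_def] at h1
      have h3 : y * x * y⁻¹ = x * x * x := by
        rw [← h1]
        group
      rw [h3]
      exact eq_inv_of_mul_eq_one_left hx4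
    obtain ⟨ρ⟩ := Cfsg.Agent.Lib.Quaternion.nonempty_mulEquiv_quaternion (T := E) 2 ⟨x, hxE⟩ ⟨y, hyE⟩ hord
      (by
        apply Subtype.ext
        show y * y = x ^ 2
        rw [← sq, hy2, hx2])
      (by
        apply Subtype.ext
        exact hyx)
      (by
        rintro ⟨k, hk⟩
        apply hc'
        rw [commutatorElement_eq_one_iff_mul_comm]
        have h1 : x ^ k = y := congrArg Subtype.val hk
        rw [← h1]
        exact ((Commute.refl x).zpow_right k).eq)
      (by rw [hEc]; norm_num)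
    exact ⟨ι.trans (MulEquiv.prodCongr ρ (MulEquiv.refl _))⟩

/-- The nonabelian case. -/
theorem nonab4 (hcard : Nat.card Q = p ^ 4) (hab : ¬ ∀ a b : Q, a * b = b * a)
    (A : Subgroup (MulAut Q)) (M : Subgroup A) [M.Normal] (hX : pCore p (A ⧸ M) = ⊥)
    (hdvd : p ∣ Nat.card (A ⧸ M)) :
    (Odd p ∧ ∃ (E : Type) (_ : Group E) (_ : Finite E), IsExtraspecial p E ∧ Nat.card E = p ^ 3 ∧
        (∀ x : E, x ^ p = 1) ∧ Nonempty (Q ≃* E × Multiplicative (ZMod p))) ∨
      (p = 2 ∧ Nonempty (Q ≃* QuaternionGroup 2 × Multiplicative (ZMod 2))) ∨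
      ((∀ x : Q, x ^ (p ^ 2) = 1) ∧ IsCyclic (Subgroup.center Q) ∧
        Nat.card (Subgroup.center Q) = p ^ 2) := by
  have NC : NoChain p Q := fun R₁ R₂ R₃ h₁ h₂ h₃ h12 h23 c₁ c₂ c₃ =>
    no_chain4 h₁ h₂ h₃ h12 h23 c₁ c₂ c₃ hcard A M hX hdvd
  have hZ2 := center_card hcard hab NC
  obtain ⟨a, b, hc⟩ : ∃ a b : Q, ⁅a, b⁆ ≠ 1 := by
    by_contra h
    push_neg at h
    exact hab fun a b => commutatorElement_eq_one_iff_mul_comm.1 (h a b)
  have hN := comm_card hcard hZ2 hab hc
  by_cases hcyc : IsCyclic (Subgroup.center Q)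
  · right; right
    exact ⟨exp_of_cyclic hcard hZ2 hab NC hN hcyc, hcyc, hZ2⟩
  have hZe := center_exp hZ2 hcyc
  have hpN := pow_mem_comm hcard hZ2 hab NC hN hZe
  by_cases hp2 : p = 2
  · right; left
    exact ⟨hp2, case_two hp2 hcard hZ2 hab NC hN hZe hpN⟩
  · left
    refine ⟨hpp.out.odd_of_ne_two hp2, ?_⟩
    have hexp := exp_p_of_odd hcard hZ2 hab NC hN hZe hpN hp2
    obtain ⟨E, haE, hbE, hEc, iso⟩ := decomp hcard hZ2 hab hN hZe hpN hc
    exact case_d E haE hbE hEc hc hexp iso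

end Cfsg.Agent.Lib.EssP4d
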