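import Mathlib
import Cfsg.Prelude
import Cfsg.Agent.Lib.PComps2
import Cfsg.Agent.Lib.PComps3
import Cfsg.Agent.Lib.H2Basic
import Cfsg.Agent.Lib.SylowIdx
import Cfsg.Agent.Lib.SylowIn
import Cfsg.Agent.Lib.SigFunc
import Cfsg.Agent.Lib.PIrreducible

/-!
# The extended `2`-layer
-/

set_option autoImplicit false
set_option linter.all false

namespace Cfsg.Agent.Lib.ExtLayer

open Subgroup Cfsg Cfsg.Agent.Lib.Layer Cfsg.Agent.Lib.Comps Cfsg.Agent.Lib.PComps Cfsg.Agent.Lib.PComps2
open scoped Pointwise commutatorElement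

section General

variable {X : Type*} [Group X]

theorem map_conj_mk (N : Subgroup X) [N.Normal] (K : Subgroup X) (g : X) :
    (K.map (MulAut.conj g).toMonoidHom).map (QuotientGroup.mk' N) =
      (K.map (QuotientGroup.mk' N)).map (MulAut.conj (QuotientGroup.mk' N g)).toMonoidHom := by
  ext x
  simp only [Subgroup.mem_map]
  constructor
  · rintro ⟨_, ⟨k, hk, rfl⟩, rfl⟩
    refine ⟨_, ⟨k, hk, rfl⟩, ?_⟩
    simp [MulAut.conj_apply]
  · rintro ⟨_, ⟨k, hk, rfl⟩, rfl⟩
    refine ⟨_, ⟨k, hk, rfl⟩, ?_⟩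
    simp [MulAut.conj_apply]

theorem map_conj_inv_map (K : Subgroup X) (g : X) :
    (K.map (MulAut.conj g).toMonoidHom).map (MulAut.conj g⁻¹).toMonoidHom = K := by
  rw [Cfsg.Agent.Lib.H2Basic.map_conj_mul, inv_mul_cancel]
  ext x
  simp

theorem isPComponent_conj {p : ℕ} {K : Subgroup X} (hK : IsPComponent p K) (g : X) :
    IsPComponent p (K.map (MulAut.conj g).toMonoidHom) := by
  haveI : (pPrimeCore p X).Normal := FitCore.pPrimeCore_normal p
  refine ⟨isSubnormal_map_conj g hK.1, ?_, ?_⟩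
  · rw [map_conj_mk]
    exact isComponent_map _ hK.2.1
  · intro H hH hle himg
    have h1 : H.map (MulAut.conj g⁻¹).toMonoidHom = K := by
      apply hK.2.2 _ (isSubnormal_map_conj g⁻¹ hH)
      · have := Subgroup.map_mono (f := (MulAut.conj g⁻¹).toMonoidHom) hle
        rwa [map_conj_inv_map] at this
      · rw [map_conj_mk, himg, map_conj_mk, map_inv]
        exact map_conj_inv_map _ _
    rw [← h1, Cfsg.Agent.Lib.H2Basic.map_conj_mul, mul_inv_cancel]
    ext x
    simp

theorem pLayer_normal (p : ℕ) : (pLayer p X).Normal := by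
  constructor
  intro n hn g
  have h : (pLayer p X).map (MulAut.conj g).toMonoidHom ≤ pLayer p X := by
    rw [pLayer, Subgroup.map_le_iff_le_comap]
    refine sSup_le fun K hK => ?_
    rw [← Subgroup.map_le_iff_le_comap]
    exact le_sSup (isPComponent_conj hK g)
  exact h ⟨n, hn, rfl⟩

theorem pPrimePCore_normal (p : ℕ) : (pPrimePCore p X).Normal := by
  haveI : (pPrimeCore p X).Normal := FitCore.pPrimeCore_normal p
  haveI : (pCore p (X ⧸ pPrimeCore p X)).Normal := FitCore.pCore_normal p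
  exact Subgroup.Normal.comap inferInstance _

/-- the core of the centralizer, viewed in `X` -/
def coreC (S : Subgroup X) : Subgroup X :=
  (oddCore ↥(centralizer (S : Set X))).map (centralizer (S : Set X)).subtype

theorem centralizer_map_conj (S : Subgroup X) (g : X) :
    (centralizer (S : Set X)).map (MulAut.conj g).toMonoidHom =
      centralizer ((S.map (MulAut.conj g).toMonoidHom : Subgroup X) : Set X) := by
  ext x
  rw [Cfsg.Agent.Lib.H2Basic.mem_map_conj_iff, Subgroup.mem_centralizer_iff, Subgroup.mem_centralizer_iff]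
  constructor
  · rintro h _ ⟨s, hs, rfl⟩
    have h1 := h s hs
    have h2 : g⁻¹ * x * g * s = s * (g⁻¹ * x * g) := h1.symm
    show g * s * g⁻¹ * x = x * (g * s * g⁻¹)
    have h3 : g * s * g⁻¹ * x = g * (s * (g⁻¹ * x * g)) * g⁻¹ := by group
    rw [h3, ← h2]
    group
  · intro h s hs
    have h1 := h (g * s * g⁻¹) ⟨s, hs, by simp [MulAut.conj_apply]⟩
    have h3 : s * (g⁻¹ * x * g) = g⁻¹ * ((g * s * g⁻¹) * x) * g := by group
    rw [h3, h1]
    group

/-- the group isomorphism of centralizers induced by conjugation -/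
noncomputable def centEquiv (S : Subgroup X) (g : X) :
    ↥(centralizer (S : Set X)) ≃* ↥(centralizer ((S.map (MulAut.conj g).toMonoidHom : Subgroup X) : Set X)) :=
  ((centralizer (S : Set X)).equivMapOfInjective _ (MulAut.conj g).injective).trans
    (MulEquiv.subgroupCongr (centralizer_map_conj S g))

theorem coreC_conj (S : Subgroup X) (g : X) :
    (coreC S).map (MulAut.conj g).toMonoidHom = coreC (S.map (MulAut.conj g).toMonoidHom) := by
  have h := pPrimeCore_map_equiv (p := 2) (centEquiv S g)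
  unfold coreC oddCore
  rw [← h]
  ext x
  simp only [Subgroup.mem_map]
  constructor
  · rintro ⟨_, ⟨u, hu, rfl⟩, rfl⟩
    exact ⟨centEquiv S g u, ⟨u, hu, rfl⟩, rfl⟩
  · rintro ⟨_, ⟨u, hu, rfl⟩, rfl⟩
    exact ⟨_, ⟨u, hu, rfl⟩, rfl⟩

end General

section Main

variable {X : Type*} [Group X]

/-- `L_{2'}(X) O_{2',2}(X)` -/
abbrev layM (X : Type*) [Group X] : Subgroup X := pLayer 2 X ⊔ pPrimePCore 2 X

/-- a Sylow subgroup of `layM X`, viewed in `X` -/
abbrev sylImg (T : Sylow 2 ↥(layM X)) : Subgroup X := (T : Subgroup ↥(layM X)).map (layM X).subtype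

theorem extendedTwoLayer_def :
    extendedTwoLayer X = pLayer 2 X ⊔ oddCore X ⊔ ⨆ T : Sylow 2 ↥(layM X), coreC (sylImg T) := rfl

instance layM_normal : (layM X).Normal :=
  haveI := pLayer_normal (X := X) 2
  haveI := pPrimePCore_normal (X := X) 2
  Subgroup.sup_normal _ _

theorem pLayer_sup_normal : (pLayer 2 X ⊔ oddCore X).Normal :=
  haveI := pLayer_normal (X := X) 2
  haveI : (oddCore X).Normal := FitCore.pPrimeCore_normal 2
  Subgroup.sup_normal _ _

variable [Finite X]

theorem power_mem {m : X} (hm : m ∈ layM X) : ∃ k : ℕ, m ^ (2 ^ k) ∈ pLayer 2 X ⊔ oddCore X := by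
  haveI := pPrimePCore_normal (X := X) 2
  haveI := pLayer_sup_normal (X := X)
  haveI hO : (pPrimeCore 2 X).Normal := FitCore.pPrimeCore_normal 2
  have hm' : m ∈ ((pLayer 2 X ⊔ pPrimePCore 2 X : Subgroup X) : Set X) := hm
  rw [Subgroup.mul_normal] at hm'
  obtain ⟨l, hl, r, hr, rfl⟩ := hm'
  have hr' : QuotientGroup.mk' (pPrimeCore 2 X) r ∈ pCore 2 (X ⧸ pPrimeCore 2 X) := hr
  obtain ⟨k, hk⟩ := (FitCore.pCore_isPGroup (G := X ⧸ pPrimeCore 2 X) 2) ⟨_, hr'⟩
  refine ⟨k, ?_⟩
  have hk' : QuotientGroup.mk' (pPrimeCore 2 X) (r ^ (2 ^ k)) = 1 := by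
    rw [map_pow]
    exact congrArg Subtype.val hk
  have hrO : r ^ (2 ^ k) ∈ pPrimeCore 2 X := by
    have h1 : r ^ (2 ^ k) ∈ (QuotientGroup.mk' (pPrimeCore 2 X)).ker := hk'
    rwa [QuotientGroup.ker_mk'] at h1
  -- pass to the quotient by `R`
  set R := pLayer 2 X ⊔ oddCore X with hR
  have hlR : l ∈ R := (le_sup_left : pLayer 2 X ≤ R) hl
  have hrR : r ^ (2 ^ k) ∈ R := (le_sup_right : oddCore X ≤ R) hrO
  have h2 : QuotientGroup.mk' R ((l * r) ^ (2 ^ k)) = 1 := by
    rw [map_pow, map_mul]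
    have h3 : QuotientGroup.mk' R l = 1 := by
      have h4 : l ∈ (QuotientGroup.mk' R).ker := by rw [QuotientGroup.ker_mk']; exact hlR
      exact h4
    have h5 : QuotientGroup.mk' R (r ^ (2 ^ k)) = 1 := by
      have h4 : r ^ (2 ^ k) ∈ (QuotientGroup.mk' R).ker := by rw [QuotientGroup.ker_mk']; exact hrR
      exact h4
    rw [h3, one_mul, ← map_pow, h5]
  have h6 : (l * r) ^ (2 ^ k) ∈ (QuotientGroup.mk' R).ker := h2
  rwa [QuotientGroup.ker_mk'] at h6

theorem exists_decomp (T : Sylow 2 ↥(layM X)) {m : X} (hm : m ∈ layM X) :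
    ∃ u ∈ pLayer 2 X ⊔ oddCore X, ∃ t ∈ sylImg T, m = u * t := by
  classical
  haveI := pLayer_sup_normal (X := X)
  set R := pLayer 2 X ⊔ oddCore X with hR
  let R' : Subgroup ↥(layM X) := R.subgroupOf (layM X)
  haveI : R'.Normal := Subgroup.Normal.subgroupOf inferInstance _
  have hQ : IsPGroup 2 (↥(layM X) ⧸ R') := by
    intro q
    obtain ⟨z, rfl⟩ := QuotientGroup.mk'_surjective R' q
    obtain ⟨k, hk⟩ := power_mem z.2
    refine ⟨k, ?_⟩
    rw [← map_pow]
    have h1 : z ^ (2 ^ k) ∈ (QuotientGroup.mk' R').ker := by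
      rw [QuotientGroup.ker_mk']
      exact hk
    exact h1
  obtain ⟨n, hn⟩ := IsPGroup.iff_card.1 hQ
  have hRidx : R'.index = 2 ^ n := by
    rw [Subgroup.index_eq_card, hn]
  let W : Subgroup ↥(layM X) := (R ⊔ sylImg T).subgroupOf (layM X)
  have hWT : (T : Subgroup ↥(layM X)) ≤ W := by
    intro t ht
    show (t : X) ∈ R ⊔ sylImg T
    exact (le_sup_right : sylImg T ≤ R ⊔ sylImg T) ⟨t, ht, rfl⟩
  have hWR : R' ≤ W := by
    intro t ht
    show (t : X) ∈ R ⊔ sylImg T
    exact (le_sup_left : R ≤ R ⊔ sylImg T) ht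
  have h1 : W.index ∣ 2 ^ n := hRidx ▸ Subgroup.index_dvd_of_le hWR
  have h2 : ¬ 2 ∣ W.index := fun h =>
    T.not_dvd_index (dvd_trans h (Subgroup.index_dvd_of_le hWT))
  have h3 : W.index = 1 := by
    obtain ⟨a, -, ha⟩ := (Nat.dvd_prime_pow Nat.prime_two).1 h1
    rcases a with _ | a
    · simpa using ha
    · exfalso
      apply h2
      rw [ha, pow_succ]
      exact dvd_mul_left _ _
  have h4 : W = ⊤ := Subgroup.index_eq_one.1 h3
  have h5 : (⟨m, hm⟩ : ↥(layM X)) ∈ W := by rw [h4]; trivial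
  have h6 : m ∈ ((R ⊔ sylImg T : Subgroup X) : Set X) := h5
  rw [Subgroup.normal_mul] at h6
  obtain ⟨u, hu, t, ht, rfl⟩ := h6
  exact ⟨u, hu, t, ht, rfl⟩

theorem coreC_conj_of_mem_normalizer {S : Subgroup X} {t : X} (ht : t ∈ normalizer (S : Set X)) :
    (coreC S).map (MulAut.conj t).toMonoidHom = coreC S := by
  rw [coreC_conj, Cfsg.Agent.Lib.H2Basic.map_conj_eq_of_mem_normalizer ht]

/-- S1341 -/
theorem extendedTwoLayer_eq (T : Sylow 2 ↥(layM X)) :
    extendedTwoLayer X = pLayer 2 X ⊔ oddCore X ⊔ coreC (sylImg T) := by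
  classical
  rw [extendedTwoLayer_def]
  apply le_antisymm
  · apply sup_le le_sup_left
    apply iSup_le
    intro T'
    obtain ⟨g, hg⟩ := MulAction.exists_smul_eq (↥(layM X)) T T'
    have hS : sylImg T' = (sylImg T).map (MulAut.conj (g : X)).toMonoidHom := by
      ext x
      rw [Cfsg.Agent.Lib.H2Basic.mem_map_conj_iff]
      constructor
      · rintro ⟨y, hy, rfl⟩
        rw [← hg] at hy
        have h1 := (Cfsg.Agent.Lib.SylowCount.mem_smul_sylow g y T).1 hy
        exact ⟨_, h1, rfl⟩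
      · rintro ⟨y, hy, hxy⟩
        have hxy' : (y : X) = (g : X)⁻¹ * x * g := hxy
        have hx : x = (g : X) * y * (g : X)⁻¹ := by rw [hxy']; group
        refine ⟨g * y * g⁻¹, ?_, ?_⟩
        · show g * y * g⁻¹ ∈ ((T' : Sylow 2 ↥(layM X)) : Subgroup ↥(layM X))
          rw [← hg]
          apply (Cfsg.Agent.Lib.SylowCount.mem_smul_sylow g _ T).2
          have : g⁻¹ * (g * y * g⁻¹) * g = y := by group
          rw [this]
          exact hy
        · rw [hx]
          rfl
    rw [hS, ← coreC_conj]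
    obtain ⟨u, hu, t, ht, hgut⟩ := exists_decomp T g.2
    rintro _ ⟨c, hc, rfl⟩
    rw [hgut]
    have htN : t ∈ normalizer ((sylImg T : Subgroup X) : Set X) := Subgroup.le_normalizer ht
    have h1 : t * c * t⁻¹ ∈ coreC (sylImg T) := by
      rw [← coreC_conj_of_mem_normalizer htN]
      exact Cfsg.Agent.Lib.H2Basic.conj_mem_map_conj t hc
    set A := pLayer 2 X ⊔ oddCore X ⊔ coreC (sylImg T) with hA
    have hu' : u ∈ A := (le_sup_left : pLayer 2 X ⊔ oddCore X ≤ A) hu
    have h1' : t * c * t⁻¹ ∈ A := (le_sup_right : coreC (sylImg T) ≤ A) h1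
    show (u * t) * c * (u * t)⁻¹ ∈ A
    have h2 : (u * t) * c * (u * t)⁻¹ = u * (t * c * t⁻¹) * u⁻¹ := by group
    rw [h2]
    exact A.mul_mem (A.mul_mem hu' h1') (A.inv_mem hu')
  · apply sup_le le_sup_left
    exact le_trans (le_iSup (fun T => coreC (sylImg T)) T) le_sup_right

theorem exists_sylImg_conj (T : Sylow 2 ↥(layM X)) (g : X) :
    ∃ T' : Sylow 2 ↥(layM X), sylImg T' = (sylImg T).map (MulAut.conj g).toMonoidHom := by
  classical
  set S' := (sylImg T).map (MulAut.conj g).toMonoidHom with hS'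
  have hle : S' ≤ layM X := by
    rintro _ ⟨_, ⟨t, ht, rfl⟩, rfl⟩
    exact (layM_normal (X := X)).conj_mem _ t.2 g
  have hcard : Nat.card ↥S' = Nat.card ↥(T : Subgroup ↥(layM X)) := by
    rw [hS', Cfsg.Agent.Lib.H2Basic.card_map_conj]
    exact Subgroup.card_map_of_injective (Subgroup.subtype_injective _)
  have h1 : Nat.card (S'.subgroupOf (layM X)) = Nat.card S' :=
    Nat.card_congr (Subgroup.subgroupOfEquivOfLe hle).toEquiv
  refine ⟨Sylow.ofCard (S'.subgroupOf (layM X)) (by rw [h1, hcard]; exact T.card_eq_multiplicity), ?_⟩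
  show (S'.subgroupOf (layM X)).map (layM X).subtype = S'
  exact Subgroup.map_subgroupOf_eq_of_le hle

/-- S1342 -/
theorem extendedTwoLayer_normal : (extendedTwoLayer X).Normal := by
  classical
  haveI := pLayer_sup_normal (X := X)
  constructor
  intro n hn g
  have hle : (extendedTwoLayer X).map (MulAut.conj g).toMonoidHom ≤ extendedTwoLayer X := by
    rw [Subgroup.map_le_iff_le_comap, extendedTwoLayer_def]
    apply sup_le
    · intro x hx
      show g * x * g⁻¹ ∈ pLayer 2 X ⊔ oddCore X ⊔ ⨆ T : Sylow 2 ↥(layM X), coreC (sylImg T)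
      exact (le_sup_left : pLayer 2 X ⊔ oddCore X ≤ _) ((inferInstance : (pLayer 2 X ⊔ oddCore X).Normal).conj_mem x hx g)
    · apply iSup_le
      intro T
      rw [← Subgroup.map_le_iff_le_comap, coreC_conj]
      obtain ⟨T', hT'⟩ := exists_sylImg_conj T g
      rw [← hT']
      exact le_trans (le_iSup (fun T => coreC (sylImg T)) T') le_sup_right
  exact hle ⟨n, hn, rfl⟩

theorem coreC_not_dvd (S : Subgroup X) : ¬ 2 ∣ Nat.card (coreC S) := by
  unfold coreC
  rw [Subgroup.card_map_of_injective (Subgroup.subtype_injective _)]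
  exact FitCore.not_dvd_card_pPrimeCore 2 Nat.prime_two

/-- S1343 -/
theorem exists_odd_factor : ∃ F : Subgroup X, Odd (Nat.card ↥F) ∧
    (∃ S : Sylow 2 X, (S : Subgroup X) ≤ normalizer (F : Set X)) ∧
    extendedTwoLayer X = pLayer 2 X ⊔ F := by
  classical
  haveI hF2 : Fact (Nat.Prime 2) := ⟨Nat.prime_two⟩
  obtain ⟨S⟩ : Nonempty (Sylow 2 X) := inferInstance
  obtain ⟨T, hT⟩ := Cfsg.Agent.Lib.PIrreducible.exists_sylow_inf_normal (p := 2) S (N := layM X)
  haveI hO : (oddCore X).Normal := FitCore.pPrimeCore_normal 2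
  refine ⟨oddCore X ⊔ coreC (sylImg T), ?_, ⟨S, ?_⟩, ?_⟩
  · rw [← Nat.not_even_iff_odd, even_iff_two_dvd]
    intro h
    obtain ⟨h1, -⟩ := Cfsg.Agent.Lib.SigFunc.card_sup_dvd_and_solvable (oddCore X) (coreC (sylImg T))
      (by rw [Subgroup.normalizer_eq_top]; exact le_top)
    rcases (Nat.Prime.dvd_mul Nat.prime_two).1 (dvd_trans h h1) with h2 | h2
    · exact FitCore.not_dvd_card_pPrimeCore 2 Nat.prime_two h2
    · exact coreC_not_dvd _ h2
  · intro s hs
    have h1 : s ∈ normalizer ((sylImg T : Subgroup X) : Set X) := by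
      apply Cfsg.Agent.Lib.H2Basic.mem_normalizer_of_conj_le
      intro a ha
      rw [show sylImg T = (T : Subgroup ↥(layM X)).map (layM X).subtype from rfl, hT] at ha ⊢
      exact ⟨S.toSubgroup.mul_mem (S.toSubgroup.mul_mem hs ha.1) (S.toSubgroup.inv_mem hs),
        (layM_normal (X := X)).conj_mem _ ha.2 s⟩
    have h2 : s ∈ normalizer ((coreC (sylImg T) : Subgroup X) : Set X) :=
      Cfsg.Agent.Lib.H2Basic.mem_normalizer_of_map_conj_eq (coreC_conj_of_mem_normalizer h1)
    have h3 : s ∈ normalizer ((oddCore X : Subgroup X) : Set X) := by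
      rw [Subgroup.normalizer_eq_top]; trivial
    exact Subgroup.normalizer_inf_normalizer_le_normalizer_sup _ _ (Subgroup.mem_inf.2 ⟨h3, h2⟩)
  · rw [extendedTwoLayer_eq T, sup_assoc]

/-- S1344 -/
theorem pcomp_normal_ext {K : Subgroup X} (hK : IsPComponent 2 K) :
    K ≤ extendedTwoLayer X ∧ (K.subgroupOf (extendedTwoLayer X)).Normal := by
  classical
  haveI : Fact (Nat.Prime 2) := ⟨Nat.prime_two⟩
  have hKL : K ≤ pLayer 2 X := le_sSup hK
  have hKE : K ≤ extendedTwoLayer X := hKL.trans (le_trans le_sup_left le_sup_left)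
  refine ⟨hKE, ?_⟩
  rw [Subgroup.normal_subgroupOf_iff_le_normalizer hKE, extendedTwoLayer_def]
  haveI hO : (pPrimeCore 2 X).Normal := FitCore.pPrimeCore_normal 2
  set π := QuotientGroup.mk' (pPrimeCore 2 X) with hπ
  have crit : ∀ y : X, (K.map π).map (MulAut.conj (π y)).toMonoidHom = K.map π → y ∈ normalizer (K : Set X) := by
    intro y hy
    apply Cfsg.Agent.Lib.H2Basic.mem_normalizer_of_map_conj_eq
    apply pcomp_unique (isPComponent_conj hK y) hK
    rw [map_conj_mk]
    exact hy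
  have hKN : pLayer 2 X ≤ normalizer (K : Set X) :=
    (Subgroup.normal_subgroupOf_iff_le_normalizer hKL).1 (pcomp_normal_pLayer hK)
  apply sup_le (sup_le hKN ?_) (iSup_le ?_)
  · intro o ho
    apply crit
    have h1 : π o = 1 := by
      have : o ∈ π.ker := by rw [hπ, QuotientGroup.ker_mk']; exact ho
      exact this
    rw [h1]
    ext x
    simp
  · intro T y hy
    apply crit
    by_contra hne
    set Kb := K.map π with hKb
    have hKbc : IsComponent Kb := hK.2.1
    have hKbc' : IsComponent (Kb.map (MulAut.conj (π y)).toMonoidHom) := isComponent_map _ hKbc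
    have hcomm : ⁅Kb, Kb.map (MulAut.conj (π y)).toMonoidHom⁆ = ⊥ := by
      rcases comp_comm_comp hKbc hKbc' with h | h
      · exact absurd h.symm hne
      · exact h
    -- a noncentral element
    have hclaim : ∃ t ∈ sylImg T ⊓ pLayer 2 X ⊓ K, ∃ k ∈ K, π t * π k ≠ π k * π t := by
      by_contra hcon
      push Not at hcon
      have hS : Cfsg.Agent.Lib.SylowIn.IsSylowIn 2 (sylImg T) (layM X) := ⟨T, by
        show (T : Subgroup ↥(layM X)) = ((T : Subgroup ↥(layM X)).map (layM X).subtype).comap (layM X).subtype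
        rw [Subgroup.comap_map_eq_self_of_injective (Subgroup.subtype_injective _)]⟩
      have hS₁ : sylImg T ≤ layM X := by
        rintro _ ⟨t, -, rfl⟩
        exact t.2
      haveI hLn := pLayer_normal (X := X) 2
      have h1 := hS.inf_of_normal hS₁ (le_sup_left : pLayer 2 X ≤ layM X) (fun x _ m hm => hLn.conj_mem m hm x)
      have h2 := h1.inf_of_normal inf_le_right hKL (fun x hx m hm => (Subgroup.mem_normalizer_iff.1 (hKN hx) m).1 hm)
      obtain ⟨R, hR⟩ := h2
      let ρ := toImage (p := 2) K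
      let N : Subgroup K := (Subgroup.center ↥(K.map π)).comap ρ
      haveI : N.Normal := Subgroup.Normal.comap inferInstance _
      have hRN : (R : Subgroup K) ≤ N := by
        intro r hr
        rw [hR] at hr
        have hr' : (r : X) ∈ sylImg T ⊓ pLayer 2 X ⊓ K := hr
        show ρ r ∈ Subgroup.center ↥(K.map π)
        rw [Subgroup.mem_center_iff]
        rintro ⟨_, k, hk, rfl⟩
        apply Subtype.ext
        exact (hcon _ hr' k hk).symm
      have hidx : (N.index).Coprime 2 := by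
        apply Nat.Coprime.symm
        rw [Nat.Prime.coprime_iff_not_dvd Nat.prime_two]
        exact fun h => R.not_dvd_index (dvd_trans h (Subgroup.index_dvd_of_le hRN))
      have htop : N = ⊤ := eq_top_of_normal_coprime hK N hidx
      apply not_isMulCommutative_of_quasisimple hKbc.2
      refine ⟨⟨fun a b => ?_⟩⟩
      obtain ⟨a', rfl⟩ := toImage_surjective (p := 2) K a
      have h3 : a' ∈ N := by rw [htop]; trivial
      exact (Subgroup.mem_center_iff.1 h3 b).symm
    obtain ⟨t, ht, k, hk, hne2⟩ := hclaim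
    apply hne2
    have hyC : y ∈ centralizer ((sylImg T : Subgroup X) : Set X) := by
      obtain ⟨u, -, rfl⟩ := hy
      exact u.2
    have hyt : t * y = y * t := Subgroup.mem_centralizer_iff.1 hyC t ht.1.1
    have ht' : π t ∈ Kb.map (MulAut.conj (π y)).toMonoidHom := by
      refine ⟨π t, ⟨t, ht.2, rfl⟩, ?_⟩
      show π y * π t * (π y)⁻¹ = π t
      rw [← map_mul, ← hyt, map_mul]
      group
    have h5 : ⁅π k, π t⁆ ∈ ⁅Kb, Kb.map (MulAut.conj (π y)).toMonoidHom⁆ :=
      Subgroup.commutator_mem_commutator (Subgroup.mem_map_of_mem π hk) ht'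
    rw [hcomm, Subgroup.mem_bot] at h5
    have h6 : Commute (π k) (π t) := commutatorElement_eq_one_iff_commute.1 h5
    exact h6.symm.eq

end Main

end Cfsg.Agent.Lib.ExtLayer
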