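import Mathlib
import Cfsg.Prelude.Def_Transfer

/-! Uniqueness of central-by-elementary groups with a nondegenerate one-dimensional commutator form. -/

set_option autoImplicit false

namespace Cfsg.Agent.Lib.ExtraIso

open scoped commutatorElement

universe u v

variable {p : ℕ} [hp : Fact p.Prime]

/-- Powers indexed by residues. -/
def zp {E : Type*} [Group E] (z : E) (c : ZMod p) : E := z ^ c.val

section zp
variable {E : Type*} [Group E] {z : E}

theorem zp_add (hz : z ^ p = 1) (c d : ZMod p) : zp z (c + d) = zp z c * zp z d := by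
  unfold zp
  rw [ZMod.val_add, ← pow_add]
  exact (pow_eq_pow_mod _ hz).symm

theorem zp_zero (z : E) : zp z (0 : ZMod p) = 1 := by
  simp [zp]

theorem zp_one (z : E) : zp z (1 : ZMod p) = z := by
  simp [zp, ZMod.val_one]

theorem zp_map {F : Type*} [Group F] (f : E →* F) (z : E) (c : ZMod p) : f (zp z c) = zp (f z) c := by
  simp [zp]

theorem zp_mul (hz : z ^ p = 1) (c d : ZMod p) : zp (zp z c) d = zp z (c * d) := by
  unfold zp
  rw [ZMod.val_mul, ← pow_mul]
  exact pow_eq_pow_mod _ hz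

theorem zp_pow_eq (hz : z ^ p = 1) (m : ℕ) : zp z ((m : ℕ) : ZMod p) = z ^ m := by
  unfold zp
  rw [ZMod.val_natCast]
  exact (pow_eq_pow_mod _ hz).symm

theorem zp_neg (hz : z ^ p = 1) (c : ZMod p) : zp z (-c) = (zp z c)⁻¹ := by
  have h : zp z (-c + c) = zp z (-c) * zp z c := zp_add hz _ _
  rw [neg_add_cancel, zp_zero] at h
  exact eq_inv_of_mul_eq_one_left h.symm

theorem zp_inv (hz : z ^ p = 1) (c : ZMod p) : zp z⁻¹ c = zp z (-c) := by
  rw [zp_neg hz]
  simp [zp]

theorem zp_pow (z : E) (c : ZMod p) : zp z c = z ^ c.val := rfl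

theorem zp_inj (h1 : z ≠ 1) (hz : z ^ p = 1) {c d : ZMod p} (h : zp z c = zp z d) : c = d := by
  have ho : orderOf z = p := orderOf_eq_prime hz h1
  unfold zp at h
  have h2 := pow_inj_mod.1 h
  rw [ho, Nat.mod_eq_of_lt (ZMod.val_lt c), Nat.mod_eq_of_lt (ZMod.val_lt d)] at h2
  exact ZMod.val_injective p h2

theorem zp_comm {g x : E} (h : x * g = g * x) (c : ZMod p) : zp x c * g = g * zp x c :=
  (Commute.pow_left (show Commute x g from h) _).eq

end zp

/-- Central-by-elementary data with one-dimensional commutators. -/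
structure Good (p : ℕ) [Fact p.Prime] {E : Type*} [Group E] (z : E) : Prop where
  exp : ∀ x : E, x ^ p = 1
  z1 : z ≠ 1
  zc : ∀ g, z * g = g * z
  comm : ∀ x y : E, ∃ c : ZMod p, ⁅x, y⁆ = zp z c
  cen : ∀ x : E, (∀ g, x * g = g * x) → ∃ c : ZMod p, x = zp z c

section basic
variable {E : Type*} [Group E] {z : E} (hG : Good p z)
include hG

theorem zz_cen (c : ZMod p) (g : E) : zp z c * g = g * zp z c := zp_comm (hG.zc g) c

theorem cc_cen (x y g : E) : ⁅x, y⁆ * g = g * ⁅x, y⁆ := by
  obtain ⟨c, hc⟩ := hG.comm x y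
  rw [hc]
  exact zz_cen hG c g

theorem cc_mul_left (x y w : E) : ⁅x * y, w⁆ = ⁅x, w⁆ * ⁅y, w⁆ := by
  have h1 : ⁅x * y, w⁆ = x * ⁅y, w⁆ * x⁻¹ * ⁅x, w⁆ := by
    simp only [commutatorElement_def]
    group
  rw [h1, ← cc_cen hG y w x, mul_inv_cancel_right]
  exact (cc_cen hG y w _)

theorem cc_mul_right (x y w : E) : ⁅x, y * w⁆ = ⁅x, y⁆ * ⁅x, w⁆ := by
  have h1 : ⁅x, y * w⁆ = ⁅x, y⁆ * (y * ⁅x, w⁆ * y⁻¹) := by
    simp only [commutatorElement_def]
    group
  rw [h1, ← cc_cen hG x w y, mul_inv_cancel_right]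

theorem cc_pow_left (x y : E) (m : ℕ) : ⁅x ^ m, y⁆ = ⁅x, y⁆ ^ m := by
  induction m with
  | zero => simp
  | succ m ih =>
    rw [pow_succ, cc_mul_left hG, ih, pow_succ]

theorem cc_pow_right (x y : E) (m : ℕ) : ⁅x, y ^ m⁆ = ⁅x, y⁆ ^ m := by
  induction m with
  | zero => simp
  | succ m ih =>
    rw [pow_succ, cc_mul_right hG, ih, pow_succ]

theorem cc_zp (a b : E) (x y : ZMod p) : ⁅zp a x, zp b y⁆ = zp ⁅a, b⁆ (x * y) := by
  unfold zp
  rw [cc_pow_left hG, cc_pow_right hG, ← pow_mul, ZMod.val_mul, mul_comm]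
  exact pow_eq_pow_mod _ (hG.exp _)

theorem good_one_of_card (hc : Nat.card E = p) [Finite E] : Function.Bijective (zp z : ZMod p → E) := by
  have hinj : Function.Injective (zp z : ZMod p → E) := fun c d h => zp_inj hG.z1 (hG.exp z) h
  refine ⟨hinj, ?_⟩
  have : Function.Bijective (zp z : ZMod p → E) := by
    apply hinj.bijective_of_nat_card_le
    rw [hc, Nat.card_zmod]
  exact this.2

theorem card_of_comm [Finite E] (hab : ∀ a b : E, a * b = b * a) : Nat.card E = p := by
  have hb : Function.Bijective (zp z : ZMod p → E) := by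
    refine ⟨fun c d h => zp_inj hG.z1 (hG.exp z) h, ?_⟩
    intro x
    obtain ⟨c, hc⟩ := hG.cen x (fun g => hab x g)
    exact ⟨c, hc.symm⟩
  rw [← Nat.card_congr (Equiv.ofBijective _ hb), Nat.card_zmod]

/-- A pair of generators of a hyperbolic plane. -/
theorem exists_hyp (hab : ∃ a b : E, a * b ≠ b * a) : ∃ a b : E, ⁅a, b⁆ = z := by
  obtain ⟨a, b, hne⟩ := hab
  obtain ⟨c, hc⟩ := hG.comm a b
  have hc0 : c ≠ 0 := by
    rintro rfl
    rw [zp_zero] at hc
    exact hne (commutatorElement_eq_one_iff_mul_comm.1 hc)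
  refine ⟨a, zp b c⁻¹, ?_⟩
  have h1 := cc_zp hG a b 1 c⁻¹
  rw [zp_one, one_mul, hc, zp_mul (hG.exp z), mul_inv_cancel₀ hc0, zp_one] at h1
  exact h1

end basic

section step
variable {E : Type*} [Group E] {z : E} (hG : Good p z) {a b : E} (hab : ⁅a, b⁆ = z)

/-- The centralizer of a hyperbolic pair. -/
abbrev E0 (a b : E) : Subgroup E := Subgroup.centralizer ({a, b} : Set E)

theorem mem_E0 {m : E} : m ∈ E0 a b ↔ a * m = m * a ∧ b * m = m * b := by
  rw [Subgroup.mem_centralizer_iff]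
  constructor
  · intro h
    exact ⟨h a (by simp), h b (by simp)⟩
  · rintro ⟨h1, h2⟩ g hg
    rcases hg with rfl | hg
    · exact h1
    · rw [Set.mem_singleton_iff] at hg
      subst hg
      exact h2

include hG hab

theorem z_mem_E0 : z ∈ E0 a b := mem_E0.2 ⟨(hG.zc a).symm, (hG.zc b).symm⟩

/-- The parametrization. -/
def Th (hG : Good p z) (hab : ⁅a, b⁆ = z) (u : ZMod p × ZMod p × E0 a b) : E :=
  zp a u.1 * zp b u.2.1 * (u.2.2 : E)

omit hG hab in
theorem zpE0 {m : E} (hm : m ∈ E0 a b) (c : ZMod p) : zp a c * m = m * zp a c ∧ zp b c * m = m * zp b c := by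
  obtain ⟨h1, h2⟩ := mem_E0.1 hm
  exact ⟨zp_comm h1 c, zp_comm h2 c⟩

theorem Th_mul (x y x' y' : ZMod p) (m m' : E0 a b) :
    Th hG hab (x, y, m) * Th hG hab (x', y', m') =
      Th hG hab (x + x', y + y', ⟨zp z (-(x' * y)) * m * m', Subgroup.mul_mem _ (Subgroup.mul_mem _
        (by
          have := Subgroup.pow_mem _ (z_mem_E0 hG hab) (-(x' * y)).val
          exact this) m.2) m'.2⟩) := by
  simp only [Th]
  have h1 : ⁅zp b y, zp a x'⁆ = zp z (-(x' * y)) := by
    rw [cc_zp hG]
    have : ⁅b, a⁆ = z⁻¹ := by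
      rw [← hab]
      simp only [commutatorElement_def]
      group
    rw [this, zp_inv (hG.exp z), mul_comm]
  have h2 : zp b y * zp a x' = zp z (-(x' * y)) * (zp a x' * zp b y) := by
    rw [← h1]
    simp only [commutatorElement_def]
    group
  have hm1 := (zpE0 m.2 x').1
  have hm2 := (zpE0 m.2 y').2
  rw [zp_add (hG.exp a), zp_add (hG.exp b)]
  calc zp a x * zp b y * (m : E) * (zp a x' * zp b y' * (m' : E))
      = zp a x * zp b y * ((m : E) * zp a x') * zp b y' * (m' : E) := by simp only [mul_assoc]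
    _ = zp a x * zp b y * (zp a x' * (m : E)) * zp b y' * (m' : E) := by rw [hm1]
    _ = zp a x * (zp b y * zp a x') * ((m : E) * zp b y') * (m' : E) := by simp only [mul_assoc]
    _ = zp a x * (zp z (-(x' * y)) * (zp a x' * zp b y)) * (zp b y' * (m : E)) * (m' : E) := by rw [h2, hm2]
    _ = zp a x * zp z (-(x' * y)) * zp a x' * zp b y * zp b y' * (m : E) * (m' : E) := by simp only [mul_assoc]
    _ = zp z (-(x' * y)) * zp a x * zp a x' * zp b y * zp b y' * (m : E) * (m' : E) := by
        rw [← zz_cen hG]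
    _ = zp z (-(x' * y)) * (zp a x * zp a x' * (zp b y * zp b y')) * (m : E) * (m' : E) := by simp only [mul_assoc]
    _ = zp a x * zp a x' * (zp b y * zp b y') * zp z (-(x' * y)) * (m : E) * (m' : E) := by
        rw [zz_cen hG]
    _ = _ := by
        simp only [mul_assoc, Subgroup.coe_mk]

theorem Th_comm_right (u : ZMod p × ZMod p × E0 a b) : ⁅Th hG hab u, b⁆ = zp z u.1 := by
  obtain ⟨x, y, m⟩ := u
  simp only [Th]
  rw [cc_mul_left hG, cc_mul_left hG]
  have h1 : ⁅zp a x, b⁆ = zp z x := by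
    have := cc_zp hG a b x 1
    rwa [zp_one, mul_one, hab] at this
  have h2 : ⁅zp b y, b⁆ = 1 := by
    rw [commutatorElement_eq_one_iff_mul_comm]
    exact zp_comm rfl y
  have h3 : ⁅(m : E), b⁆ = 1 := by
    rw [commutatorElement_eq_one_iff_mul_comm]
    exact ((mem_E0.1 m.2).2).symm
  rw [h1, h2, h3, mul_one, mul_one]

theorem Th_comm_left (u : ZMod p × ZMod p × E0 a b) : ⁅a, Th hG hab u⁆ = zp z u.2.1 := by
  obtain ⟨x, y, m⟩ := u
  simp only [Th]
  rw [cc_mul_right hG, cc_mul_right hG]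
  have h1 : ⁅a, zp b y⁆ = zp z y := by
    have := cc_zp hG a b 1 y
    rwa [zp_one, one_mul, hab] at this
  have h2 : ⁅a, zp a x⁆ = 1 := by
    rw [commutatorElement_eq_one_iff_mul_comm]
    exact (zp_comm rfl x).symm
  have h3 : ⁅a, (m : E)⁆ = 1 := by
    rw [commutatorElement_eq_one_iff_mul_comm]
    exact (mem_E0.1 m.2).1
  rw [h1, h2, h3, one_mul, mul_one]

theorem Th_bij : Function.Bijective (Th hG hab) := by
  constructor
  · rintro ⟨x, y, m⟩ ⟨x', y', m'⟩ h
    have h1 := Th_comm_right hG hab (x, y, m)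
    have h2 := Th_comm_right hG hab (x', y', m')
    rw [h, h2] at h1
    have hx : x' = x := zp_inj hG.z1 (hG.exp z) h1
    have h3 := Th_comm_left hG hab (x, y, m)
    have h4 := Th_comm_left hG hab (x', y', m')
    rw [h, h4] at h3
    have hy : y' = y := zp_inj hG.z1 (hG.exp z) h3
    subst hx hy
    simp only [Th] at h
    have hm : (m : E) = m' := mul_left_cancel h
    rw [Subtype.ext hm]
  · intro g
    obtain ⟨x, hx⟩ := hG.comm g b
    obtain ⟨y, hy⟩ := hG.comm a g
    have hmem : (zp b y)⁻¹ * (zp a x)⁻¹ * g ∈ E0 a b := by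
      have hab' : ⁅a, b⁆ = z := hab
      rw [mem_E0]
      have hinv : ∀ (u v : E), ⁅u⁻¹, v⁆ = ⁅u, v⁆⁻¹ := by
        intro u v
        have h1 := cc_mul_left hG u⁻¹ u v
        rw [inv_mul_cancel, commutatorElement_one_left] at h1
        exact eq_inv_of_mul_eq_one_left h1.symm
      have hinv' : ∀ (u v : E), ⁅u, v⁻¹⁆ = ⁅u, v⁆⁻¹ := by
        intro u v
        have h1 := cc_mul_right hG u v⁻¹ v
        rw [inv_mul_cancel, commutatorElement_one_right] at h1
        exact eq_inv_of_mul_eq_one_left h1.symm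
      constructor
      · rw [← commutatorElement_eq_one_iff_mul_comm, cc_mul_right hG, cc_mul_right hG, hinv', hinv', hy]
        have h1 : ⁅a, zp b y⁆ = zp z y := by
          have := cc_zp hG a b 1 y
          rwa [zp_one, one_mul, hab] at this
        have h2 : ⁅a, zp a x⁆ = 1 := by
          rw [commutatorElement_eq_one_iff_mul_comm]
          exact (zp_comm rfl x).symm
        rw [h1, h2]
        simp
      · rw [← commutatorElement_eq_one_iff_mul_comm, ← commutatorElement_inv, cc_mul_left hG, cc_mul_left hG, hinv, hinv, hx]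
        have h1 : ⁅zp a x, b⁆ = zp z x := by
          have := cc_zp hG a b x 1
          rwa [zp_one, mul_one, hab] at this
        have h2 : ⁅zp b y, b⁆ = 1 := by
          rw [commutatorElement_eq_one_iff_mul_comm]
          exact zp_comm rfl y
        rw [h1, h2]
        simp
    refine ⟨(x, y, ⟨_, hmem⟩), ?_⟩
    simp only [Th]
    group

end step

theorem zp_coe {E : Type*} [Group E] {H : Subgroup E} (w : H) (c : ZMod p) : ((zp w c : H) : E) = zp (w : E) c := by
  simp [zp]

theorem good_E0 {E : Type*} [Group E] {z : E} (hG : Good p z) {a b : E} (hab : ⁅a, b⁆ = z) :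
    Good p (⟨z, z_mem_E0 hG hab⟩ : E0 a b) where
  exp x := Subtype.ext (by simpa using hG.exp x)
  z1 h := hG.z1 (congrArg Subtype.val h)
  zc g := Subtype.ext (hG.zc g)
  comm x y := by
    obtain ⟨c, hc⟩ := hG.comm x y
    refine ⟨c, Subtype.ext ?_⟩
    rw [zp_coe]
    exact hc
  cen x hx := by
    obtain ⟨c, hc⟩ := hG.cen x (fun g => by
      obtain ⟨⟨u, v, m⟩, rfl⟩ := (Th_bij hG hab).2 g
      simp only [Th]
      have h1 := (zpE0 x.2 u).1
      have h2 := (zpE0 x.2 v).2
      have h3 : (x : E) * (m : E) = m * x := congrArg Subtype.val (hx m)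
      calc (x : E) * (zp a u * zp b v * (m : E)) = ((x : E) * zp a u) * zp b v * (m : E) := by simp only [mul_assoc]
        _ = zp a u * ((x : E) * zp b v) * (m : E) := by rw [← h1]; simp only [mul_assoc]
        _ = zp a u * zp b v * ((x : E) * (m : E)) := by rw [← h2]; simp only [mul_assoc]
        _ = zp a u * zp b v * (m : E) * x := by rw [h3]; simp only [mul_assoc])
    refine ⟨c, Subtype.ext ?_⟩
    rw [zp_coe]
    exact hc

universe w w'

/-- Two such groups of the same order are isomorphic. -/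
theorem iso_of_good : ∀ (n : ℕ) {E : Type w} {E' : Type w'} [Group E] [Group E'] [Finite E] [Finite E']
    {z : E} {z' : E'}, Good p z → Good p z' → Nat.card E = n → Nat.card E' = n →
    ∃ ψ : E ≃* E', ψ z = z' := by
  intro n
  induction n using Nat.strong_induction_on with
  | _ n ih =>
  intro E E' _ _ _ _ z z' hG hG' hE hE'
  by_cases hnc : ∃ a b : E, a * b ≠ b * a
  · have hnc' : ∃ a b : E', a * b ≠ b * a := by
      by_contra hcon
      push Not at hcon
      have h1 := card_of_comm hG' hcon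
      have h2 : Nat.card E = p := hE.trans (hE'.symm.trans h1)
      obtain ⟨a, b, hne⟩ := hnc
      have hb := good_one_of_card hG h2
      obtain ⟨c, rfl⟩ := hb.2 a
      obtain ⟨d, rfl⟩ := hb.2 b
      exact hne (by rw [← zp_add (hG.exp z), ← zp_add (hG.exp z), add_comm])
    obtain ⟨a, b, hab⟩ := exists_hyp hG hnc
    obtain ⟨a', b', hab'⟩ := exists_hyp hG' hnc'
    have hG0 := good_E0 hG hab
    have hG0' := good_E0 hG' hab'
    have hc : Nat.card E = p * (p * Nat.card (E0 a b)) := by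
      rw [← Nat.card_congr (Equiv.ofBijective _ (Th_bij hG hab)), Nat.card_prod, Nat.card_prod, Nat.card_zmod]
    have hc' : Nat.card E' = p * (p * Nat.card (E0 a' b')) := by
      rw [← Nat.card_congr (Equiv.ofBijective _ (Th_bij hG' hab')), Nat.card_prod, Nat.card_prod, Nat.card_zmod]
    have hpp : p.Prime := Fact.out
    have hp0 : 0 < p := hpp.pos
    have h0 : Nat.card (E0 a b) = Nat.card (E0 a' b') := by
      have h1 : p * (p * Nat.card (E0 a b)) = p * (p * Nat.card (E0 a' b')) := by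
        rw [← hc, ← hc', hE, hE']
      exact Nat.eq_of_mul_eq_mul_left hp0 (Nat.eq_of_mul_eq_mul_left hp0 h1)
    have hlt : Nat.card (E0 a b) < n := by
      rw [← hE, hc]
      have hk : 0 < Nat.card (E0 a b) := Nat.card_pos
      have h2 := hpp.two_le
      nlinarith [Nat.mul_le_mul_left (p * Nat.card (E0 a b)) h2, Nat.mul_le_mul_right (Nat.card (E0 a b)) h2]
    obtain ⟨ψ₀, hψ₀⟩ := ih _ hlt hG0 hG0' rfl h0.symm
    let Θ := Equiv.ofBijective _ (Th_bij hG hab)
    let Θ' := Equiv.ofBijective _ (Th_bij hG' hab')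
    let σ : (ZMod p × ZMod p × E0 a b) ≃ (ZMod p × ZMod p × E0 a' b') :=
      Equiv.prodCongr (Equiv.refl _) (Equiv.prodCongr (Equiv.refl _) ψ₀.toEquiv)
    let ψe : E ≃ E' := Θ.symm.trans (σ.trans Θ')
    have hψ : ∀ u, ψe (Th hG hab u) = Th hG' hab' (σ u) := by
      intro u
      change Θ' (σ (Θ.symm (Θ u))) = _
      rw [Equiv.symm_apply_apply]
      rfl
    have hψz : ∀ c : ZMod p, ψ₀ (zp (⟨z, z_mem_E0 hG hab⟩ : E0 a b) c) = zp (⟨z', z_mem_E0 hG' hab'⟩ : E0 a' b') c := by
      intro c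
      have := zp_map ψ₀.toMonoidHom (⟨z, z_mem_E0 hG hab⟩ : E0 a b) c
      rw [MulEquiv.coe_toMonoidHom, hψ₀] at this
      exact this
    refine ⟨MulEquiv.mk' ψe ?_, ?_⟩
    · intro g g'
      obtain ⟨⟨x, y, m⟩, rfl⟩ := Θ.surjective g
      obtain ⟨⟨x', y', m'⟩, rfl⟩ := Θ.surjective g'
      change ψe (Th hG hab (x, y, m) * Th hG hab (x', y', m')) = ψe (Th hG hab (x, y, m)) * ψe (Th hG hab (x', y', m'))
      rw [Th_mul hG hab, hψ, hψ, hψ]
      change _ = Th hG' hab' (x, y, ψ₀ m) * Th hG' hab' (x', y', ψ₀ m')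
      rw [Th_mul hG' hab']
      change Th hG' hab' (x + x', y + y', ψ₀ _) = _
      congr 3
      apply Subtype.ext
      have e1 : ∀ hq : zp z (-(x' * y)) * m * m' ∈ E0 a b, (⟨zp z (-(x' * y)) * m * m', hq⟩ : E0 a b) =
          zp (⟨z, z_mem_E0 hG hab⟩ : E0 a b) (-(x' * y)) * m * m' := by
        intro hq
        apply Subtype.ext
        simp only [Subgroup.coe_mul]
        rw [zp_coe]
      rw [e1, map_mul, map_mul, hψz]
      simp only [Subgroup.coe_mul]
      rw [zp_coe]
    · have e1 : z = Th hG hab (0, 0, ⟨z, z_mem_E0 hG hab⟩) := by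
        simp [Th, zp_zero]
      change ψe z = z'
      rw [e1, hψ]
      change Th hG' hab' (0, 0, ψ₀ ⟨z, z_mem_E0 hG hab⟩) = z'
      rw [hψ₀]
      simp [Th, zp_zero]
  · push Not at hnc
    have h1 := card_of_comm hG hnc
    have h2 : Nat.card E' = p := hE'.trans (hE.symm.trans h1)
    have hb := good_one_of_card hG h1
    have hb' := good_one_of_card hG' h2
    let Θ := Equiv.ofBijective _ hb
    let Θ' := Equiv.ofBijective _ hb'
    let ψe : E ≃ E' := Θ.symm.trans Θ'
    have hψ : ∀ c : ZMod p, ψe (zp z c) = zp z' c := by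
      intro c
      change Θ' (Θ.symm (Θ c)) = _
      rw [Equiv.symm_apply_apply]
      rfl
    refine ⟨MulEquiv.mk' ψe ?_, ?_⟩
    · intro g g'
      obtain ⟨c, rfl⟩ := hb.2 g
      obtain ⟨d, rfl⟩ := hb.2 g'
      rw [← zp_add (hG.exp z), hψ, hψ, hψ, zp_add (hG'.exp z')]
    · have := hψ 1
      rw [zp_one, zp_one] at this
      exact this

/-- Extraspecial groups of exponent `p` carry the data. -/
theorem good_of_extraspecial {E : Type*} [Group E] [Finite E] (h : Cfsg.IsExtraspecial p E) (he : ∀ x : E, x ^ p = 1) :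
    ∃ z : E, Good p z := by
  obtain ⟨⟨hpg, hfr, hcomm⟩, hcard⟩ := h
  have hdvd : p ∣ Nat.card (Subgroup.center E) := by rw [hcard]
  obtain ⟨z, hz⟩ := exists_prime_orderOf_dvd_card' p hdvd
  have hzmem : (z : E) ∈ Subgroup.center E := z.2
  have hz1 : (z : E) ≠ 1 := by
    intro h0
    have : z = 1 := Subtype.ext h0
    rw [this, orderOf_one] at hz
    exact (Fact.out : p.Prime).one_lt.ne hz
  have hall : ∀ x ∈ Subgroup.center E, ∃ c : ZMod p, x = zp (z : E) c := by
    intro x hx
    have h1 : (⟨x, hx⟩ : Subgroup.center E) ∈ Subgroup.zpowers z := by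
      have hsub : Subgroup.zpowers z = ⊤ := by
        apply Subgroup.eq_top_of_card_eq
        rw [Nat.card_zpowers, hz, hcard]
      rw [hsub]
      trivial
    rw [← mem_powers_iff_mem_zpowers] at h1
    obtain ⟨m, hm⟩ := h1
    refine ⟨(m : ZMod p), ?_⟩
    rw [zp_pow_eq (he _)]
    have := congrArg Subtype.val hm
    simpa using this.symm
  refine ⟨(z : E), ⟨he, hz1, fun g => (Subgroup.mem_center_iff.1 hzmem g).symm, ?_, ?_⟩⟩
  · intro x y
    apply hall
    rw [← hcomm, commutator_def]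
    exact Subgroup.commutator_mem_commutator trivial trivial
  · intro x hx
    exact hall x (Subgroup.mem_center_iff.2 (fun g => (hx g).symm))

end Cfsg.Agent.Lib.ExtraIso
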