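import Mathlib
import Cfsg.Prelude.Def_Transfer
import Cfsg.Agent.Lib.H6PGroup

set_option autoImplicit false

/-!
Counting the elements of order four in an extraspecial `2`-group of plus type by Gauss sums.
-/

namespace Cfsg.Agent.Lib.ExtraPlus

open scoped Pointwise

variable {E : Type*} [Group E]

/-- The data of an extraspecial `2`-group. -/
structure ES' (z : E) : Prop where
  hz1 : z ≠ 1
  hzz : z * z = 1
  hcen : ∀ g, z * g = g * z
  hcenter : ∀ g, (∀ h, g * h = h * g) → g = 1 ∨ g = z
  hsq : ∀ x : E, x * x = 1 ∨ x * x = z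
  hcom : ∀ x y : E, x * y * x⁻¹ * y⁻¹ = 1 ∨ x * y * x⁻¹ * y⁻¹ = z

open Classical in
/-- sign -/
noncomputable def chi (g : E) : ℤ := if g = 1 then 1 else -1

/-- commutator -/
def cc (x y : E) : E := x * y * x⁻¹ * y⁻¹

/-- the sign of a square -/
noncomputable def ss (x : E) : ℤ := chi (x * x)

/-- the sign of a commutator -/
noncomputable def bb (x y : E) : ℤ := chi (cc x y)

theorem chi_one : chi (1 : E) = 1 := by simp [chi]

namespace ES'
variable {z : E} (h : ES' z)
include h

theorem chi_z : chi z = -1 := by simp [chi, h.hz1]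

theorem chi_mul {g k : E} (hg : g = 1 ∨ g = z) (hk : k = 1 ∨ k = z) : chi (g * k) = chi g * chi k := by
  rcases hg with rfl | rfl <;> rcases hk with rfl | rfl
  · simp [chi_one]
  · simp [chi_one]
  · simp [chi_one]
  · rw [h.hzz, chi_one, h.chi_z]; norm_num

theorem central {g : E} (hg : g = 1 ∨ g = z) (k : E) : g * k = k * g := by
  rcases hg with rfl | rfl
  · simp
  · exact h.hcen k

theorem cc_val (x y : E) : cc x y = 1 ∨ cc x y = z := h.hcom x y

theorem inv_val {g : E} (hg : g = 1 ∨ g = z) : g⁻¹ = g := by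
  rcases hg with rfl | rfl
  · simp
  · exact inv_eq_of_mul_eq_one_left h.hzz

theorem cc_symm (x y : E) : cc y x = cc x y := by
  have h1 : cc y x = (cc x y)⁻¹ := by
    simp only [cc]; group
  rw [h1, h.inv_val (h.cc_val x y)]

theorem cc_mul (x y w : E) : cc x (y * w) = cc x y * cc x w := by
  have h1 : cc x (y * w) = cc x y * (y * cc x w * y⁻¹) := by
    simp only [cc]; group
  have h2 : y * cc x w * y⁻¹ = cc x w := by
    rw [← h.central (h.cc_val x w) y]; group
  rw [h1, h2]

theorem cc_inv (x y : E) : cc x⁻¹ y = cc x y := by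
  have h1 : cc x⁻¹ y = x⁻¹ * cc y x * x := by
    simp only [cc]; group
  have h2 : x⁻¹ * cc y x * x = cc y x := by
    rw [← h.central (h.cc_val y x) x⁻¹]; group
  rw [h1, h2, h.cc_symm]

theorem cc_self_inv (x : E) : cc x x⁻¹ = 1 := by
  simp [cc]

theorem cc_mul_left (x y w : E) : cc (x * y) w = cc x w * cc y w := by
  calc cc (x * y) w = cc w (x * y) := h.cc_symm w (x * y)
    _ = cc w x * cc w y := h.cc_mul _ _ _
    _ = cc x w * cc y w := by rw [h.cc_symm x w, h.cc_symm y w]

theorem square_mul (x y : E) : (x * y) * (x * y) = (x * x) * (cc x y * (y * y)) := by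
  have h1 : (x * y) * (x * y) = (x * x) * (cc x⁻¹ y * (y * y)) := by
    simp only [cc]; group
  rw [h1, h.cc_inv]

theorem bb_sq (x y : E) : bb x y * bb x y = 1 := by
  simp only [bb, chi]
  split_ifs <;> norm_num

theorem ss_sq (x : E) : ss x * ss x = 1 := by
  simp only [ss, chi]
  split_ifs <;> norm_num

theorem ss_mul (x y : E) : ss (x * y) = ss x * bb x y * ss y := by
  simp only [ss, bb]
  rw [h.square_mul, h.chi_mul (h.hsq x) _, h.chi_mul (h.cc_val x y) (h.hsq y), mul_assoc]
  -- product of two values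
  rcases h.cc_val x y with h1 | h1 <;> rcases h.hsq y with h2 | h2
  · rw [h1, h2]; left; simp
  · rw [h1, h2]; right; simp
  · rw [h1, h2]; right; simp
  · rw [h1, h2, h.hzz]; left; rfl

theorem bb_mul (x y w : E) : bb x (y * w) = bb x y * bb x w := by
  simp only [bb]
  rw [h.cc_mul, h.chi_mul (h.cc_val _ _) (h.cc_val _ _)]

theorem bb_mul_left (x y w : E) : bb (x * y) w = bb x w * bb y w := by
  simp only [bb]
  rw [h.cc_mul_left, h.chi_mul (h.cc_val _ _) (h.cc_val _ _)]

theorem bb_eq_one_iff (x y : E) : bb x y = 1 ↔ x * y = y * x := by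
  have h1 : cc x y = 1 ↔ x * y = y * x := by
    simp only [cc]
    constructor
    · intro h2
      calc x * y = (x * y * x⁻¹ * y⁻¹) * (y * x) := by group
        _ = y * x := by rw [h2, one_mul]
    · intro h2
      rw [h2]; group
  rw [← h1]
  simp only [bb, chi]
  split_ifs with h2
  · simp [h2]
  · simp [h2]

/-- character sums -/
theorem sum_bb_central [Fintype E] (w : E) (hw : ∀ x, x * w = w * x) : ∑ x : E, bb x w = Fintype.card E := by
  have : ∀ x, bb x w = 1 := fun x => (h.bb_eq_one_iff x w).2 (hw x)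
  simp [this]

theorem sum_bb_noncentral [Fintype E] (w x₀ : E) (hw : x₀ * w ≠ w * x₀) : ∑ x : E, bb x w = 0 := by
  have h1 : bb x₀ w = -1 := by
    have h2 : bb x₀ w ≠ 1 := fun h3 => hw ((h.bb_eq_one_iff _ _).1 h3)
    simp only [bb, chi] at h2 ⊢
    split_ifs at h2 ⊢ with h3
    · exact absurd rfl h2
    · rfl
  have h2 : ∑ x : E, bb x w = ∑ x : E, bb (x₀ * x) w :=
    (Equiv.sum_comp (Equiv.mulLeft x₀) (fun x => bb x w)).symm
  simp only [h.bb_mul_left, h1] at h2
  rw [← Finset.mul_sum] at h2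
  linarith

/-- `T² = 2 |E|`. -/
theorem gauss [Fintype E] : (∑ x : E, ss x) * (∑ x : E, ss x) = 2 * Fintype.card E := by
  classical
  have h1 : ∀ x : E, ∑ y : E, ss x * ss y = ∑ w : E, ss w * bb x w := by
    intro x
    rw [← Equiv.sum_comp (Equiv.mulLeft x⁻¹) (fun y => ss x * ss y)]
    refine Finset.sum_congr rfl fun w _ => ?_
    simp only [Equiv.coe_mulLeft]
    have h2 : ss w = ss x * bb x (x⁻¹ * w) * ss (x⁻¹ * w) := by
      rw [← h.ss_mul]; simp
    have h3 : bb x (x⁻¹ * w) = bb x w := by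
      rw [h.bb_mul, bb, h.cc_self_inv, chi_one, one_mul]
    rw [h3] at h2
    rw [h2]
    have h4 := h.bb_sq x w
    linear_combination (-ss x * ss (x⁻¹ * w)) * h4
  rw [Finset.sum_mul_sum]
  simp only [h1]
  rw [Finset.sum_comm]
  have h2 : ∀ w : E, ∑ x : E, ss w * bb x w = if w = 1 ∨ w = z then (Fintype.card E : ℤ) else 0 := by
    intro w
    rw [← Finset.mul_sum]
    split_ifs with h3
    · have h4 : ss w = 1 := by
        rcases h3 with rfl | rfl
        · simp [ss, chi]
        · simp [ss, h.hzz, chi]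
      rw [h4, one_mul]
      apply h.sum_bb_central
      intro x
      exact (h.central h3 x).symm
    · have : ∃ x₀, x₀ * w ≠ w * x₀ := by
        by_contra hcon
        push_neg at hcon
        exact h3 (h.hcenter w fun k => (hcon k).symm)
      obtain ⟨x₀, hx₀⟩ := this
      rw [h.sum_bb_noncentral w x₀ hx₀, mul_zero]
  simp only [h2]
  rw [Finset.sum_ite, Finset.sum_const_zero, add_zero, Finset.sum_const]
  have h3 : (Finset.univ.filter fun w : E => w = 1 ∨ w = z) = {1, z} := by
    ext w
    simp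
  rw [h3, Finset.card_pair h.hz1.symm]
  simp

open Classical in
/-- character sum over a subgroup. -/
theorem sum_bb_subgroup (A : Subgroup E) [Fintype A] (x : E) :
    ∑ c : A, bb x (c : E) = if x ∈ Subgroup.centralizer (A : Set E) then (Fintype.card A : ℤ) else 0 := by
  split_ifs with hx
  · have h1 : ∀ c : A, bb x (c : E) = 1 := fun c =>
      (h.bb_eq_one_iff _ _).2 ((Subgroup.mem_centralizer_iff.1 hx c c.2).symm)
    simp [h1]
  · obtain ⟨c₀, hc₀, hne⟩ : ∃ c₀ ∈ A, x * c₀ ≠ c₀ * x := by
      by_contra hcon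
      push_neg at hcon
      apply hx
      rw [Subgroup.mem_centralizer_iff]
      intro c hc
      exact (hcon c hc).symm
    have h1 : bb x c₀ = -1 := by
      have h2 : bb x c₀ ≠ 1 := fun h3 => hne ((h.bb_eq_one_iff _ _).1 h3)
      simp only [bb, chi] at h2 ⊢
      split_ifs at h2 ⊢ with h3
      · exact absurd rfl h2
      · rfl
    have h2 : ∑ c : A, bb x (c : E) = ∑ c : A, bb x (((⟨c₀, hc₀⟩ : A) * c : A) : E) :=
      (Equiv.sum_comp (Equiv.mulLeft (⟨c₀, hc₀⟩ : A)) (fun c : A => bb x (c : E))).symm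
    simp only [Subgroup.coe_mul, h.bb_mul, h1] at h2
    rw [← Finset.mul_sum] at h2
    linarith

theorem sum_sign (S : Finset E) (P : E → Prop) [DecidablePred P] :
    ∑ x ∈ S, (if P x then (1 : ℤ) else -1) = 2 * ((S.filter P).card : ℤ) - S.card := by
  rw [Finset.sum_ite, Finset.sum_const, Finset.sum_const]
  have := Finset.card_filter_add_card_filter_not (s := S) P
  simp only [smul_eq_mul, nsmul_eq_mul, mul_one, mul_neg, mul_one]
  have h2 : (S.card : ℤ) = ((S.filter P).card : ℤ) + ((S.filter fun x => ¬ P x).card : ℤ) := by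
    exact_mod_cast this.symm
  rw [h2]; ring

/-- the value of the Gauss sum in the plus type -/
theorem gauss_value [Fintype E] (m : ℕ) (hc : Fintype.card E = 2 ^ (2 * m + 1)) (A : Subgroup E)
    (hAc : ∀ a ∈ A, ∀ b ∈ A, a * b = b * a) (hA2 : ∀ a ∈ A, a * a = 1)
    (hAcard : Nat.card A = 2 ^ (m + 1)) : ∑ x : E, ss x = 2 ^ (m + 1) := by
  classical
  haveI : Fintype A := Fintype.ofFinite _
  have hAf : Fintype.card A = 2 ^ (m + 1) := by rw [← Nat.card_eq_fintype_card]; exact hAcard
  set T := ∑ x : E, ss x with hT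
  have hT2 : T * T = (2 ^ (m + 1)) * (2 ^ (m + 1)) := by
    rw [hT, h.gauss, hc]
    push_cast
    ring
  have hT3 : T = 2 ^ (m + 1) ∨ T = -2 ^ (m + 1) := mul_self_eq_mul_self_iff.1 hT2
  -- restriction to the centralizer
  let C := Subgroup.centralizer (A : Set E)
  have hss : ∀ c : A, ss (c : E) = 1 := by
    intro c
    simp only [ss, hA2 c c.2, chi_one]
  have h1 : T * (2 ^ (m + 1)) = ∑ x : E, ss x * (if x ∈ C then (2 ^ (m + 1) : ℤ) else 0) := by
    have h2 : ∀ c : A, ∑ x : E, ss (x * c) = T := fun c =>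
      Equiv.sum_comp (Equiv.mulRight (c : E)) (fun x => ss x)
    have h3 : ∑ c : A, ∑ x : E, ss (x * c) = T * (2 ^ (m + 1)) := by
      simp only [h2, Finset.sum_const, Finset.card_univ, hAf]
      push_cast
      rw [nsmul_eq_mul]
      push_cast
      ring
    rw [← h3, Finset.sum_comm]
    refine Finset.sum_congr rfl fun x _ => ?_
    have h4 : ∀ c : A, ss (x * c) = ss x * bb x c := by
      intro c
      rw [h.ss_mul, hss, mul_one]
    simp only [h4]
    rw [← Finset.mul_sum, h.sum_bb_subgroup A x, hAf]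
    push_cast
    rfl
  have hT4 : T = ∑ x : E, (if x ∈ C then ss x else 0) := by
    have h2 : ∑ x : E, ss x * (if x ∈ C then (2 ^ (m + 1) : ℤ) else 0)
        = (2 ^ (m + 1)) * ∑ x : E, (if x ∈ C then ss x else 0) := by
      rw [Finset.mul_sum]
      refine Finset.sum_congr rfl fun x _ => ?_
      split_ifs <;> ring
    rw [h2] at h1
    have h3 : (2 ^ (m + 1) : ℤ) ≠ 0 := by positivity
    apply mul_left_cancel₀ h3
    rw [← h1]; ring
  -- counting in the centralizer
  let CF : Finset E := Finset.univ.filter (· ∈ C)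
  have hT5 : T = 2 * ((CF.filter fun x => x * x = 1).card : ℤ) - CF.card := by
    rw [hT4, ← h.sum_sign CF (fun x => x * x = 1), Finset.sum_filter]
    refine Finset.sum_congr rfl fun x _ => ?_
    split_ifs with h2 h3
    · simp [ss, h3, chi]
    · simp [ss, h3, chi]
    · rfl
  -- divisibility
  have hCc : (CF.card : ℕ) = Nat.card C := by
    rw [Nat.card_eq_fintype_card, Fintype.card_subtype]
  have hAC : A ≤ C := by
    intro a ha
    rw [Subgroup.mem_centralizer_iff]
    intro b hb
    exact hAc b hb a ha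
  obtain ⟨j, hj⟩ : Nat.card A ∣ Nat.card C := Subgroup.card_dvd_of_le hAC
  let t : Set E := {x | x ∈ C ∧ x * x = 1}
  have ht : t * (A : Set E) = t := by
    ext x
    constructor
    · rintro ⟨y, hy, c, hc', rfl⟩
      have hyC : y ∈ C := hy.1
      have hcC : c ∈ C := hAC hc'
      refine ⟨C.mul_mem hyC hcC, ?_⟩
      have h2 : y * c = c * y := (Subgroup.mem_centralizer_iff.1 hyC c hc').symm
      calc y * c * (y * c) = y * (c * y) * c := by group
        _ = y * (y * c) * c := by rw [h2]
        _ = (y * y) * (c * c) := by group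
        _ = 1 := by rw [hy.2, hA2 c hc', one_mul]
    · intro hx
      exact ⟨x, hx, 1, A.one_mem, mul_one x⟩
  have hk := Subgroup.card_mul_eq_card_subgroup_mul_card_quotient A t
  rw [ht, hAcard] at hk
  set k := Nat.card (t.image (↑) : Set (E ⧸ A)) with hkdef
  have hCt : (CF.filter fun x => x * x = 1).card = Nat.card t := by
    have h5 : ((CF.filter fun x => x * x = 1 : Finset E) : Set E) = t := by
      ext x
      simp [CF, t]
    rw [← h5, Nat.card_coe_set_eq, Set.ncard_coe_finset]
  have hk1 : 1 ≤ k := by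
    by_contra hcon
    have h0 : k = 0 := by omega
    rw [h0, mul_zero] at hk
    have h1t : (1 : E) ∈ t := ⟨C.one_mem, by simp⟩
    have h6 : 0 < Nat.card t := Finite.card_pos_iff.2 ⟨(⟨1, h1t⟩ : t)⟩
    omega
  have hjpow : ∃ f, j = 2 ^ f := by
    have h2 : j ∣ 2 ^ (2 * m + 1) := by
      rw [← hc, ← Nat.card_eq_fintype_card]
      have h3 : Nat.card C ∣ Nat.card E := Subgroup.card_subgroup_dvd_card C
      exact (Dvd.intro_left _ hj.symm).trans h3
    obtain ⟨f, -, hf⟩ := (Nat.dvd_prime_pow Nat.prime_two).1 h2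
    exact ⟨f, hf⟩
  obtain ⟨f, hf⟩ := hjpow
  have hTa : T = (2 ^ (m + 1)) * (2 * (k : ℤ) - j) := by
    rw [hT5, hCt, hk, hCc, hj, hAcard]
    push_cast
    ring
  have hapos : (2 ^ (m + 1) : ℤ) ≠ 0 := by positivity
  have h2k : 2 * (k : ℤ) - j = 1 ∨ 2 * (k : ℤ) - j = -1 := by
    rcases hT3 with h3 | h3
    · left
      apply mul_left_cancel₀ hapos
      rw [← hTa, h3, mul_one]
    · right
      apply mul_left_cancel₀ hapos
      rw [← hTa, h3]; ring
  have hf0 : f = 0 := by
    rcases f with _ | f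
    · rfl
    · exfalso
      rw [pow_succ] at hf
      subst hf
      push_cast at h2k
      omega
  subst hf0
  rw [pow_zero] at hf
  subst hf
  have hk2 : k = 1 := by
    push_cast at h2k
    omega
  rw [hTa, hk2]
  push_cast
  ring

/-- the count of the elements with nontrivial square -/
theorem count_sq [Fintype E] (m : ℕ) (hc : Fintype.card E = 2 ^ (2 * m + 1)) (A : Subgroup E)
    (hAc : ∀ a ∈ A, ∀ b ∈ A, a * b = b * a) (hA2 : ∀ a ∈ A, a * a = 1)
    (hAcard : Nat.card A = 2 ^ (m + 1)) :
    Nat.card {x : E // x * x ≠ 1} = 2 ^ (2 * m) - 2 ^ m := by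
  classical
  have h1 := h.gauss_value m hc A hAc hA2 hAcard
  have h2 : ∑ x : E, ss x = 2 * ((Finset.univ.filter fun x : E => x * x = 1).card : ℤ) - (Finset.univ : Finset E).card := by
    rw [← h.sum_sign Finset.univ (fun x : E => x * x = 1)]
    refine Finset.sum_congr rfl fun x _ => ?_
    split_ifs with h3
    · simp [ss, h3, chi]
    · simp [ss, h3, chi]
  have h3 := Finset.card_filter_add_card_filter_not (s := (Finset.univ : Finset E)) (fun x : E => x * x = 1)
  rw [Nat.card_eq_fintype_card, Fintype.card_subtype]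
  set N1 := (Finset.univ.filter fun x : E => x * x = 1).card
  set N2 := (Finset.univ.filter fun x : E => x * x ≠ 1).card
  have h4 : (N1 : ℤ) + N2 = 2 ^ (2 * m + 1) := by
    have : N1 + N2 = 2 ^ (2 * m + 1) := by
      rw [← hc, ← Finset.card_univ]; exact h3
    exact_mod_cast this
  rw [h1, Finset.card_univ, hc] at h2
  push_cast at h2
  have h5 : (N2 : ℤ) = 2 ^ (2 * m) - 2 ^ m := by
    have e1 : (2 : ℤ) ^ (2 * m + 1) = 2 * 2 ^ (2 * m) := by ring
    have e2 : (2 : ℤ) ^ (m + 1) = 2 * 2 ^ m := by ring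
    rw [e1] at h2 h4
    rw [e2] at h2
    linarith
  have h6 : 2 ^ m ≤ 2 ^ (2 * m) := Nat.pow_le_pow_right (by norm_num) (by omega)
  zify [h6]
  exact h5

end ES'

/-- the structure of an extraspecial `2`-group -/
theorem exists_data {E : Type*} [Group E] [Finite E] (hE : Cfsg.IsExtraspecial 2 E) : ∃ z : E, ES' z := by
  classical
  obtain ⟨⟨hp, hfr, hcomm⟩, hZ⟩ := hE
  obtain ⟨x, y, hxy, hu⟩ := Nat.card_eq_two_iff.1 hZ
  have hmem : ∀ g : Subgroup.center E, g = x ∨ g = y := by
    intro g
    have : g ∈ ({x, y} : Set _) := by rw [hu]; trivial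
    simpa using this
  -- one of them is the identity
  obtain ⟨z, hz1, hzs⟩ : ∃ z : Subgroup.center E, z ≠ 1 ∧ ∀ g : Subgroup.center E, g = 1 ∨ g = z := by
    rcases hmem 1 with h | h
    · exact ⟨y, fun e => hxy (h.symm.trans e.symm), fun g => by
        rcases hmem g with h2 | h2
        · left; rw [h2, h]
        · right; exact h2⟩
    · exact ⟨x, fun e => hxy (e.trans h), fun g => by
        rcases hmem g with h2 | h2
        · right; exact h2
        · left; rw [h2, h]⟩
  have hval : ∀ g : E, g ∈ Subgroup.center E → g = 1 ∨ g = (z : E) := by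
    intro g hg
    rcases hzs ⟨g, hg⟩ with h | h
    · left; exact congrArg Subtype.val h
    · right; exact congrArg Subtype.val h
  haveI : Fact (Nat.Prime 2) := ⟨Nat.prime_two⟩
  have hzz : (z : E) * z = 1 := by
    have h1 : z ^ 2 = 1 := by
      rw [← hZ]; exact pow_card_eq_one'
    have := congrArg Subtype.val h1
    simpa [sq] using this
  refine ⟨(z : E), ⟨fun h => hz1 (Subtype.ext h), hzz, fun g => ?_, fun g hg => ?_, fun x => ?_, fun x y => ?_⟩⟩
  · exact (Subgroup.mem_center_iff.1 z.2 g).symm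
  · apply hval
    rw [Subgroup.mem_center_iff]
    intro k
    exact (hg k).symm
  · apply hval
    rw [← hfr, ← sq]
    exact Cfsg.Agent.Lib.H6PGroup.pow_mem_frattini hp x
  · apply hval
    rw [← hcomm]
    exact Subgroup.commutator_mem_commutator (Subgroup.mem_top x) (Subgroup.mem_top y)

/-- the number of elements of order four in the plus type -/
theorem card_order_four {E : Type*} [Group E] [Finite E] (m : ℕ) (hE : Cfsg.IsExtraspecial 2 E)
    (hcard : Nat.card E = 2 ^ (2 * m + 1))
    (hplus : ∃ A : Subgroup E, Cfsg.IsElementaryAbelian 2 A ∧ Nat.card A = 2 ^ (m + 1)) :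
    Nat.card {x : E // orderOf x = 4} = 2 ^ (2 * m) - 2 ^ m := by
  classical
  haveI : Fintype E := Fintype.ofFinite _
  obtain ⟨z, hz⟩ := exists_data hE
  obtain ⟨A, ⟨hA1, hA2⟩, hA3⟩ := hplus
  have hc : Fintype.card E = 2 ^ (2 * m + 1) := by rw [← Nat.card_eq_fintype_card]; exact hcard
  have key := hz.count_sq m hc A (fun a ha b hb => by
      have := hA1.is_comm.comm ⟨a, ha⟩ ⟨b, hb⟩
      exact congrArg Subtype.val this)
    (fun a ha => by rw [← sq]; exact hA2 a ha) hA3
  rw [← key]
  apply Nat.card_congr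
  apply Equiv.subtypeEquivRight
  intro x
  constructor
  · intro h h1
    have h2 : x ^ 2 = 1 := by rw [sq]; exact h1
    have := orderOf_dvd_of_pow_eq_one h2
    rw [h] at this
    omega
  · intro h
    have h1 : x * x = z := (hz.hsq x).resolve_left h
    have h2 : x ^ 4 = 1 := by
      calc x ^ 4 = (x * x) * (x * x) := by rw [show (4 : ℕ) = 2 + 2 from rfl, pow_add, sq]
        _ = 1 := by rw [h1, hz.hzz]
    have h3 : orderOf x ∣ 2 ^ 2 := orderOf_dvd_of_pow_eq_one (by norm_num; exact h2)
    have := orderOf_eq_prime_pow (p := 2) (n := 1) (x := x) (by rw [pow_one, sq]; exact h) (by norm_num; exact h2)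
    simpa using this

end Cfsg.Agent.Lib.ExtraPlus
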