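import Mathlib
import Cfsg.Prelude.Def_Transfer
import Cfsg.Agent.Lib.ExtraPlus
import Cfsg.Agent.Lib.ExtraIso

/-! Extraspecial 2-groups: order and the Gauss sum of the squaring map determine the group. -/

set_option autoImplicit false

namespace Cfsg.Agent.Lib.ExtraIso2

open Cfsg.Agent.Lib.ExtraPlus
open Cfsg.Agent.Lib.ExtraIso (zp zp_zero zp_one zp_add zp_comm zp_map zp_coe)

/-- Residues mod two are zero or one. -/
theorem cases2 (x : ZMod 2) : x = 0 ∨ x = 1 := by
  revert x
  decide

theorem one_add_one : (1 : ZMod 2) + 1 = 0 := by decide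

/-- The sign of a residue. -/
def sgn (c : ZMod 2) : ℤ := if c = 0 then 1 else -1

/-- The factor of the Gauss sum. -/
def TT (α β : ZMod 2) : ℤ := ∑ x : ZMod 2, ∑ y : ZMod 2, sgn (α * x * x + β * y * y + y * x)

theorem TT_ne (α β : ZMod 2) : TT α β ≠ 0 := by
  revert α β
  decide

section step
variable {E : Type*} [Group E] {z : E} (h : ES' z)
include h

theorem zz2 : z ^ 2 = 1 := by rw [pow_two]; exact h.hzz

theorem zp_mem (c : ZMod 2) : zp z c = 1 ∨ zp z c = z := by
  rcases cases2 c with rfl | rfl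
  · left; exact zp_zero z
  · right; exact zp_one z

theorem chi_zp (c : ZMod 2) : chi (zp z c) = sgn c := by
  rcases cases2 c with rfl | rfl
  · rw [zp_zero, chi_one]; rfl
  · rw [zp_one, h.chi_z]; rfl

theorem zz_cen (c : ZMod 2) (g : E) : zp z c * g = g * zp z c := zp_comm (h.hcen g) c

/-- The centralizer of a pair. -/
abbrev E0 (a b : E) : Subgroup E := Subgroup.centralizer ({a, b} : Set E)

omit h in
theorem mem_E0 {a b m : E} : m ∈ E0 a b ↔ a * m = m * a ∧ b * m = m * b := by
  rw [Subgroup.mem_centralizer_iff]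
  constructor
  · intro h
    exact ⟨h a (by simp), h b (by simp)⟩
  · rintro ⟨h1, h2⟩ g hg
    rcases hg with rfl | hg
    · exact h1
    · rw [Set.mem_singleton_iff] at hg
      subst hg
      exact h2

theorem z_mem_E0 (a b : E) : z ∈ E0 a b := mem_E0.2 ⟨(h.hcen a).symm, (h.hcen b).symm⟩

theorem zp_mem_E0 (a b : E) (c : ZMod 2) : zp z c ∈ E0 a b := Subgroup.pow_mem _ (z_mem_E0 h a b) _

omit h in
theorem comm_of_cc {x y : E} (hc : cc x y = 1) : x * y = y * x := by
  unfold cc at hc
  calc x * y = (x * y * x⁻¹ * y⁻¹) * (y * x) := by group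
    _ = y * x := by rw [hc, one_mul]

omit h in
theorem cc_of_comm {x y : E} (hc : x * y = y * x) : cc x y = 1 := by
  unfold cc
  rw [hc]
  group

variable {a b : E} (hab : cc a b = z) {α β : ZMod 2} (haa : a * a = zp z α) (hbb : b * b = zp z β)

/-- The parametrization. -/
def Th (a b : E) (u : ZMod 2 × ZMod 2 × E0 a b) : E :=
  zp a u.1 * zp b u.2.1 * (u.2.2 : E)

omit h in
theorem zpE0 {m : E} (hm : m ∈ E0 a b) (c : ZMod 2) : zp a c * m = m * zp a c ∧ zp b c * m = m * zp b c := by
  obtain ⟨h1, h2⟩ := mem_E0.1 hm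
  exact ⟨zp_comm h1 c, zp_comm h2 c⟩

omit h in
theorem carry {a : E} {α : ZMod 2} (haa : a * a = zp z α) (x x' : ZMod 2) :
    zp a x * zp a x' = zp a (x + x') * zp z (α * x * x') := by
  rcases cases2 x with rfl | rfl
  · simp [zp_zero]
  · rcases cases2 x' with rfl | rfl
    · simp [zp_zero]
    · rw [one_add_one, zp_zero, one_mul, zp_one, mul_one, mul_one, haa]

include hab in
theorem swap (y x' : ZMod 2) : zp b y * zp a x' = zp a x' * zp b y * zp z (y * x') := by
  rcases cases2 y with rfl | rfl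
  · simp [zp_zero]
  · rcases cases2 x' with rfl | rfl
    · simp [zp_zero]
    · rw [zp_one, zp_one, mul_one, zp_one]
      have h1 : cc b a = z := by rw [h.cc_symm, hab]
      rw [← h.hcen]
      rw [← h1]
      simp only [cc]
      group

/-- The carried exponent. -/
def cx (α β x y x' y' : ZMod 2) : ZMod 2 := α * x * x' + β * y * y' + y * x'

include hab haa hbb in
theorem Th_mul (x y x' y' : ZMod 2) (m m' : E0 a b) :
    Th a b (x, y, m) * Th a b (x', y', m') =
      Th a b (x + x', y + y', ⟨zp z (cx α β x y x' y'), zp_mem_E0 h a b _⟩ * m * m') := by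
  simp only [Th]
  have hm1 := (zpE0 m.2 x').1
  have hm2 := (zpE0 m.2 y').2
  have e0 : zp z (cx α β x y x' y') = zp z (α * x * x') * zp z (β * y * y') * zp z (y * x') := by
    unfold cx
    rw [zp_add (zz2 h), zp_add (zz2 h)]
  calc zp a x * zp b y * (m : E) * (zp a x' * zp b y' * (m' : E))
      = zp a x * zp b y * ((m : E) * zp a x') * zp b y' * (m' : E) := by simp only [mul_assoc]
    _ = zp a x * zp b y * (zp a x' * (m : E)) * zp b y' * (m' : E) := by rw [hm1]
    _ = zp a x * (zp b y * zp a x') * ((m : E) * zp b y') * (m' : E) := by simp only [mul_assoc]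
    _ = zp a x * (zp a x' * zp b y * zp z (y * x')) * (zp b y' * (m : E)) * (m' : E) := by
        rw [swap h hab, hm2]
    _ = (zp a x * zp a x') * zp b y * (zp z (y * x') * zp b y') * (m : E) * (m' : E) := by simp only [mul_assoc]
    _ = (zp a x * zp a x') * zp b y * (zp b y' * zp z (y * x')) * (m : E) * (m' : E) := by rw [zz_cen h]
    _ = (zp a x * zp a x') * (zp b y * zp b y') * zp z (y * x') * (m : E) * (m' : E) := by simp only [mul_assoc]
    _ = (zp a (x + x') * zp z (α * x * x')) * (zp b (y + y') * zp z (β * y * y')) * zp z (y * x') * (m : E) * (m' : E) := by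
        rw [carry haa, carry hbb]
    _ = zp a (x + x') * (zp z (α * x * x') * zp b (y + y')) * zp z (β * y * y') * zp z (y * x') * (m : E) * (m' : E) := by
        simp only [mul_assoc]
    _ = zp a (x + x') * (zp b (y + y') * zp z (α * x * x')) * zp z (β * y * y') * zp z (y * x') * (m : E) * (m' : E) := by
        rw [zz_cen h]
    _ = _ := by
        simp only [Subgroup.coe_mul]
        rw [e0]
        simp only [mul_assoc]

include hab in
theorem cc_zp_right (x : ZMod 2) : cc (zp a x) b = zp z x := by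
  rcases cases2 x with rfl | rfl
  · simp [zp_zero, cc]
  · rw [zp_one, zp_one, hab]

include hab in
theorem cc_zp_left (y : ZMod 2) : cc a (zp b y) = zp z y := by
  rcases cases2 y with rfl | rfl
  · simp [zp_zero, cc]
  · rw [zp_one, zp_one, hab]

include hab in
theorem Th_comm_right (u : ZMod 2 × ZMod 2 × E0 a b) : cc (Th a b u) b = zp z u.1 := by
  obtain ⟨x, y, m⟩ := u
  simp only [Th]
  rw [h.cc_mul_left, h.cc_mul_left, cc_zp_right h hab]
  have h2 : cc (zp b y) b = 1 := cc_of_comm (zp_comm rfl y)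
  have h3 : cc (m : E) b = 1 := cc_of_comm (mem_E0.1 m.2).2.symm
  rw [h2, h3, mul_one, mul_one]

include hab in
theorem Th_comm_left (u : ZMod 2 × ZMod 2 × E0 a b) : cc a (Th a b u) = zp z u.2.1 := by
  obtain ⟨x, y, m⟩ := u
  simp only [Th]
  rw [h.cc_mul, h.cc_mul, cc_zp_left h hab]
  have h2 : cc a (zp a x) = 1 := cc_of_comm (zp_comm rfl x).symm
  have h3 : cc a (m : E) = 1 := cc_of_comm (mem_E0.1 m.2).1
  rw [h2, h3, mul_one, one_mul]

theorem zp_inj2 {c d : ZMod 2} (hc : zp z c = zp z d) : c = d :=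
  Cfsg.Agent.Lib.ExtraIso.zp_inj h.hz1 (zz2 h) hc

theorem exists_zp {g : E} (hg : g = 1 ∨ g = z) : ∃ c : ZMod 2, g = zp z c := by
  rcases hg with rfl | rfl
  · exact ⟨0, (zp_zero _).symm⟩
  · exact ⟨1, (zp_one _).symm⟩

include hab in
theorem Th_bij : Function.Bijective (Th a b) := by
  constructor
  · rintro ⟨x, y, m⟩ ⟨x', y', m'⟩ he
    have h1 := Th_comm_right h hab (x, y, m)
    have h2 := Th_comm_right h hab (x', y', m')
    rw [he, h2] at h1
    have hx : x' = x := zp_inj2 h h1
    have h3 := Th_comm_left h hab (x, y, m)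
    have h4 := Th_comm_left h hab (x', y', m')
    rw [he, h4] at h3
    have hy : y' = y := zp_inj2 h h3
    subst hx hy
    simp only [Th] at he
    have hm : (m : E) = m' := mul_left_cancel he
    rw [Subtype.ext hm]
  · intro g
    obtain ⟨x, hx⟩ := exists_zp h (h.cc_val g b)
    obtain ⟨y, hy⟩ := exists_zp h (h.cc_val a g)
    have hsq : ∀ c : ZMod 2, zp z c * zp z c = 1 := by
      intro c
      rcases cases2 c with rfl | rfl
      · simp [zp_zero]
      · rw [zp_one]; exact h.hzz
    have hmem : (zp b y)⁻¹ * (zp a x)⁻¹ * g ∈ E0 a b := by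
      rw [mem_E0]
      constructor
      · apply comm_of_cc
        rw [h.cc_mul, h.cc_mul, h.cc_symm (zp b y)⁻¹ a, h.cc_inv, h.cc_symm (zp a x)⁻¹ a, h.cc_inv]
        rw [h.cc_symm a (zp b y), cc_zp_left h hab, hy]
        have h2 : cc (zp a x) a = 1 := cc_of_comm (zp_comm rfl x)
        rw [h2, mul_one, hsq]
      · apply comm_of_cc
        rw [h.cc_symm, h.cc_mul_left, h.cc_mul_left, h.cc_inv, h.cc_inv, hx, cc_zp_right h hab]
        have h2 : cc (zp b y) b = 1 := cc_of_comm (zp_comm rfl y)
        rw [h2, one_mul, hsq]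
    refine ⟨(x, y, ⟨_, hmem⟩), ?_⟩
    simp only [Th]
    group

include hab in
theorem es_E0 : ES' (⟨z, z_mem_E0 h a b⟩ : E0 a b) where
  hz1 h0 := h.hz1 (congrArg Subtype.val h0)
  hzz := Subtype.ext h.hzz
  hcen g := Subtype.ext (h.hcen g)
  hcenter m hm := by
    have hm' : ∀ g : E, (m : E) * g = g * m := by
      intro g
      obtain ⟨⟨u, v, n⟩, rfl⟩ := (Th_bij h hab).2 g
      simp only [Th]
      have h1 := (zpE0 m.2 u).1
      have h2 := (zpE0 m.2 v).2
      have h3 : (m : E) * (n : E) = n * m := congrArg Subtype.val (hm n)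
      calc (m : E) * (zp a u * zp b v * (n : E)) = ((m : E) * zp a u) * zp b v * (n : E) := by simp only [mul_assoc]
        _ = zp a u * ((m : E) * zp b v) * (n : E) := by rw [← h1]; simp only [mul_assoc]
        _ = zp a u * zp b v * ((m : E) * (n : E)) := by rw [← h2]; simp only [mul_assoc]
        _ = zp a u * zp b v * (n : E) * m := by rw [h3]; simp only [mul_assoc]
    rcases h.hcenter _ hm' with h1 | h1
    · left; exact Subtype.ext h1
    · right; exact Subtype.ext h1
  hsq x := by
    rcases h.hsq x with h1 | h1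
    · left; exact Subtype.ext h1
    · right; exact Subtype.ext h1
  hcom x y := by
    rcases h.hcom x y with h1 | h1
    · left; exact Subtype.ext h1
    · right; exact Subtype.ext h1

include hab in
theorem card_E [Finite E] : Nat.card E = 2 * (2 * Nat.card (E0 a b)) := by
  rw [← Nat.card_congr (Equiv.ofBijective _ (Th_bij h hab)), Nat.card_prod, Nat.card_prod, Nat.card_zmod]

omit h in
theorem ss_coe {H : Subgroup E} (m : H) : ss m = ss (m : E) := by
  unfold ss chi
  by_cases hm : (m : E) * (m : E) = 1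
  · rw [if_pos hm, if_pos]
    exact Subtype.ext hm
  · rw [if_neg hm, if_neg]
    intro h0
    exact hm (congrArg Subtype.val h0)

include hab haa hbb in
theorem ss_Th (x y : ZMod 2) (m : E0 a b) :
    ss (Th a b (x, y, m)) = sgn (α * x * x + β * y * y + y * x) * ss (m : E) := by
  unfold ss
  have h1 := Th_mul h hab haa hbb x y x y m m
  have hxx : ∀ t : ZMod 2, t + t = 0 := by decide
  rw [hxx, hxx] at h1
  rw [h1]
  simp only [Th, zp_zero, one_mul, Subgroup.coe_mul]
  rw [mul_assoc, h.chi_mul (zp_mem h _) (h.hsq _), chi_zp h]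
  rfl

include hab haa hbb in
theorem sum_E [Fintype E] [Fintype (E0 a b)] : (∑ g : E, ss g) = TT α β * ∑ m : E0 a b, ss m := by
  rw [← Equiv.sum_comp (Equiv.ofBijective _ (Th_bij h hab))]
  simp only [Equiv.ofBijective_apply]
  rw [Fintype.sum_prod_type]
  unfold TT
  rw [Finset.sum_mul]
  refine Finset.sum_congr rfl fun x _ => ?_
  rw [Fintype.sum_prod_type, Finset.sum_mul]
  refine Finset.sum_congr rfl fun y _ => ?_
  rw [Finset.mul_sum]
  refine Finset.sum_congr rfl fun m _ => ?_
  rw [ss_Th h hab haa hbb, ss_coe]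

end step

section main

open Classical in
/-- The number of solutions of `x * x = 1` controls the Gauss sum. -/
theorem sum_ss_eq {E : Type*} [Group E] [Fintype E] {z : E} (h : ES' z) :
    (∑ x : E, ss x) = 2 * ((Finset.univ.filter (fun x : E => x * x = 1)).card : ℤ) - Fintype.card E := by
  have h1 : ∀ x : E, ss x = if x * x = 1 then (1 : ℤ) else -1 := by
    intro x
    rfl
  simp only [h1]
  exact h.sum_sign Finset.univ _

/-- A non-central involution. -/
def PP {E : Type*} [Group E] (z : E) : Prop := ∃ x : E, x * x = 1 ∧ x ≠ 1 ∧ x ≠ z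

theorem card_no_P {E : Type*} [Group E] [Fintype E] {z : E} (h : ES' z) (hP : ¬ PP z) :
    (Fintype.card E = 2 ∧ (∑ x : E, ss x) = 2) ∨ (Fintype.card E = 8 ∧ (∑ x : E, ss x) = -4) := by
  classical
  have hf : Finset.univ.filter (fun x : E => x * x = 1) = {1, z} := by
    ext x
    simp only [Finset.mem_filter, Finset.mem_univ, true_and, Finset.mem_insert, Finset.mem_singleton]
    constructor
    · intro hx
      by_contra hcon
      push Not at hcon
      exact hP ⟨x, hx, hcon.1, hcon.2⟩
    · rintro (rfl | rfl)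
      · simp
      · exact h.hzz
  have hc : (Finset.univ.filter (fun x : E => x * x = 1)).card = 2 := by
    rw [hf, Finset.card_pair h.hz1.symm]
  have hs := sum_ss_eq h
  rw [hc] at hs
  have hg := h.gauss
  obtain ⟨s, hs'⟩ : ∃ s, s = ∑ x : E, ss x := ⟨_, rfl⟩
  rw [← hs'] at hs hg ⊢
  have hn : (Fintype.card E : ℤ) = 4 - s := by
    push_cast at hs
    linarith
  rw [hn] at hg
  have h2 : (s - 2) * (s + 4) = 0 := by nlinarith
  rcases mul_eq_zero.1 h2 with h3 | h3
  · left
    have hs2 : s = 2 := by linarith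
    subst hs2
    refine ⟨?_, rfl⟩
    have : (Fintype.card E : ℤ) = 2 := by linarith
    exact_mod_cast this
  · right
    have hs2 : s = -4 := by linarith
    subst hs2
    refine ⟨?_, rfl⟩
    have : (Fintype.card E : ℤ) = 8 := by linarith
    exact_mod_cast this

theorem no_P_of_eight {E : Type*} [Group E] [Fintype E] {z : E} (h : ES' z) (hc : Fintype.card E = 8)
    (hs : (∑ x : E, ss x) = -4) : ¬ PP z := by
  classical
  rintro ⟨x, hx, hx1, hxz⟩
  have h1 := sum_ss_eq h
  rw [hs, hc] at h1
  have h2 : (Finset.univ.filter (fun x : E => x * x = 1)).card = 2 := by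
    push_cast at h1
    have : ((Finset.univ.filter (fun x : E => x * x = 1)).card : ℤ) = 2 := by linarith
    exact_mod_cast this
  have h3 : ({1, z, x} : Finset E) ⊆ Finset.univ.filter (fun x : E => x * x = 1) := by
    intro w hw
    simp only [Finset.mem_insert, Finset.mem_singleton] at hw
    rw [Finset.mem_filter]
    refine ⟨Finset.mem_univ _, ?_⟩
    rcases hw with rfl | rfl | rfl
    · simp
    · exact h.hzz
    · exact hx
  have h4 := Finset.card_le_card h3
  rw [h2, Finset.card_insert_of_notMem, Finset.card_pair hxz.symm] at h4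
  · omega
  · simp only [Finset.mem_insert, Finset.mem_singleton, not_or]
    exact ⟨h.hz1.symm, hx1.symm⟩

theorem bij_of_two {E : Type*} [Group E] [Finite E] {z : E} (h : ES' z) (hc : Nat.card E = 2) :
    Function.Bijective (zp z : ZMod 2 → E) := by
  have hinj : Function.Injective (zp z : ZMod 2 → E) := fun c d he => zp_inj2 h he
  refine ⟨hinj, ?_⟩
  have : Function.Bijective (zp z : ZMod 2 → E) := by
    apply hinj.bijective_of_nat_card_le
    rw [hc, Nat.card_zmod]
  exact this.2

/-- A hyperbolic pair of involutions. -/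
theorem exists_pair {E : Type*} [Group E] {z : E} (h : ES' z) (hP : PP z) :
    ∃ a b : E, cc a b = z ∧ a * a = 1 ∧ b * b = 1 := by
  obtain ⟨x, hx, hx1, hxz⟩ := hP
  have hnc : ¬ ∀ g, x * g = g * x := fun hg => by
    rcases h.hcenter x hg with h1 | h1
    · exact hx1 h1
    · exact hxz h1
  push Not at hnc
  obtain ⟨y, hy⟩ := hnc
  have hxy : cc x y = z := by
    rcases h.cc_val x y with h1 | h1
    · exact absurd (comm_of_cc h1) hy
    · exact h1
  rcases h.hsq y with h2 | h2
  · exact ⟨x, y, hxy, hx, h2⟩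
  · refine ⟨x, x * y, ?_, hx, ?_⟩
    · rw [h.cc_mul, cc_of_comm rfl, one_mul, hxy]
    · rw [h.square_mul, hx, one_mul, hxy, h2, h.hzz]

theorem exists_q8 {F : Type*} [Group F] [Fintype F] {w : F} (h : ES' w) (hP : ¬ PP w) (hc : Fintype.card F = 8) :
    ∃ a b : F, cc a b = w ∧ a * a = w ∧ b * b = w := by
  classical
  have hnc : ∃ a b : F, a * b ≠ b * a := by
    by_contra hcon
    push Not at hcon
    have h1 : (Finset.univ : Finset F) ⊆ {1, w} := by
      intro g _
      rcases h.hcenter g (hcon g) with h2 | h2 <;> simp [h2]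
    have h2 := Finset.card_le_card h1
    rw [Finset.card_univ, hc] at h2
    have h3 := Finset.card_le_two (a := (1 : F)) (b := w)
    omega
  obtain ⟨a, b, hne⟩ := hnc
  have hab : cc a b = w := by
    rcases h.cc_val a b with h1 | h1
    · exact absurd (comm_of_cc h1) hne
    · exact h1
  refine ⟨a, b, hab, ?_, ?_⟩
  · rcases h.hsq a with h1 | h1
    · exfalso
      apply hP
      refine ⟨a, h1, ?_, ?_⟩
      · rintro rfl
        simp at hne
      · rintro rfl
        exact hne (h.hcen b)
    · exact h1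
  · rcases h.hsq b with h1 | h1
    · exfalso
      apply hP
      refine ⟨b, h1, ?_, ?_⟩
      · rintro rfl
        simp at hne
      · rintro rfl
        exact hne (h.hcen a).symm
    · exact h1

universe w w'

/-- Order and Gauss sum determine the group. -/
theorem iso_es : ∀ (n : ℕ) {E : Type w} {E' : Type w'} [Group E] [Group E'] [Fintype E] [Fintype E']
    {z : E} {z' : E'}, ES' z → ES' z' → Fintype.card E = n → Fintype.card E' = n →
    (∑ x : E, ss x) = (∑ x : E', ss x) → ∃ ψ : E ≃* E', ψ z = z' := by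
  intro n
  induction n using Nat.strong_induction_on with
  | _ n ih =>
  intro E E' _ _ _ _ z z' h h' hE hE' hs
  -- the reduction step
  have step : ∀ (a b : E) (a' b' : E') (α β : ZMod 2), cc a b = z → cc a' b' = z' →
      a * a = zp z α → b * b = zp z β → a' * a' = zp z' α → b' * b' = zp z' β →
      ∃ ψ : E ≃* E', ψ z = z' := by
    intro a b a' b' α β hab hab' haa hbb haa' hbb'
    classical
    haveI : Fintype (E0 a b) := Fintype.ofFinite _
    haveI : Fintype (E0 a' b') := Fintype.ofFinite _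
    have hG0 := es_E0 h hab
    have hG0' := es_E0 h' hab'
    have hc := card_E h hab
    have hc' := card_E h' hab'
    rw [Nat.card_eq_fintype_card, Nat.card_eq_fintype_card] at hc hc'
    have h0 : Fintype.card (E0 a b) = Fintype.card (E0 a' b') := by omega
    have hlt : Fintype.card (E0 a b) < n := by
      have hk : 0 < Fintype.card (E0 a b) := Fintype.card_pos
      omega
    have hs0 : (∑ m : E0 a b, ss m) = ∑ m : E0 a' b', ss m := by
      have h1 := sum_E h hab haa hbb
      have h2 := sum_E h' hab' haa' hbb'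
      rw [h1, h2] at hs
      exact mul_left_cancel₀ (TT_ne α β) hs
    obtain ⟨ψ₀, hψ₀⟩ := ih _ hlt hG0 hG0' rfl h0.symm hs0
    let Θ := Equiv.ofBijective _ (Th_bij h hab)
    let Θ' := Equiv.ofBijective _ (Th_bij h' hab')
    let σ : (ZMod 2 × ZMod 2 × E0 a b) ≃ (ZMod 2 × ZMod 2 × E0 a' b') :=
      Equiv.prodCongr (Equiv.refl _) (Equiv.prodCongr (Equiv.refl _) ψ₀.toEquiv)
    let ψe : E ≃ E' := Θ.symm.trans (σ.trans Θ')
    have hψ : ∀ u, ψe (Th a b u) = Th a' b' (σ u) := by
      intro u
      change Θ' (σ (Θ.symm (Θ u))) = _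
      rw [Equiv.symm_apply_apply]
      rfl
    have hψz : ∀ c : ZMod 2, ψ₀ (zp (⟨z, z_mem_E0 h a b⟩ : E0 a b) c) = zp (⟨z', z_mem_E0 h' a' b'⟩ : E0 a' b') c := by
      intro c
      have := zp_map ψ₀.toMonoidHom (⟨z, z_mem_E0 h a b⟩ : E0 a b) c
      rw [MulEquiv.coe_toMonoidHom, hψ₀] at this
      exact this
    refine ⟨MulEquiv.mk' ψe ?_, ?_⟩
    · intro g g'
      obtain ⟨⟨x, y, m⟩, rfl⟩ := Θ.surjective g
      obtain ⟨⟨x', y', m'⟩, rfl⟩ := Θ.surjective g'
      change ψe (Th a b (x, y, m) * Th a b (x', y', m')) = ψe (Th a b (x, y, m)) * ψe (Th a b (x', y', m'))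
      rw [Th_mul h hab haa hbb, hψ, hψ, hψ]
      change _ = Th a' b' (x, y, ψ₀ m) * Th a' b' (x', y', ψ₀ m')
      rw [Th_mul h' hab' haa' hbb']
      change Th a' b' (x + x', y + y', ψ₀ _) = _
      congr 3
      apply Subtype.ext
      have e1 : ∀ hq : zp z (cx α β x y x' y') ∈ E0 a b, (⟨zp z (cx α β x y x' y'), hq⟩ : E0 a b) =
          zp (⟨z, z_mem_E0 h a b⟩ : E0 a b) (cx α β x y x' y') := by
        intro hq
        apply Subtype.ext
        rw [zp_coe]
      rw [e1, map_mul, map_mul, hψz]
      simp only [Subgroup.coe_mul]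
      rw [zp_coe]
    · have e1 : z = Th a b (0, 0, ⟨z, z_mem_E0 h a b⟩) := by
        simp [Th, zp_zero]
      change ψe z = z'
      rw [e1, hψ]
      change Th a' b' (0, 0, ψ₀ ⟨z, z_mem_E0 h a b⟩) = z'
      rw [hψ₀]
      simp [Th, zp_zero]
  by_cases hP : PP z
  · by_cases hP' : PP z'
    · obtain ⟨a, b, hab, ha, hb⟩ := exists_pair h hP
      obtain ⟨a', b', hab', ha', hb'⟩ := exists_pair h' hP'
      exact step a b a' b' 0 0 hab hab' (by rw [ha, zp_zero]) (by rw [hb, zp_zero]) (by rw [ha', zp_zero]) (by rw [hb', zp_zero])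
    · exfalso
      rcases card_no_P h' hP' with ⟨h1, h2⟩ | ⟨h1, h2⟩
      · -- card two is impossible with a non-central involution
        have h3 : Nat.card E = 2 := by rw [Nat.card_eq_fintype_card, hE, ← hE', h1]
        obtain ⟨x, -, hx1, hxz⟩ := hP
        obtain ⟨c, rfl⟩ := (bij_of_two h h3).2 x
        rcases zp_mem h c with h4 | h4
        · exact hx1 h4
        · exact hxz h4
      · exact no_P_of_eight h (by rw [hE, ← hE', h1]) (by rw [hs, h2]) hP
  · have hP' : ¬ PP z' := by
      rcases card_no_P h hP with ⟨h1, h2⟩ | ⟨h1, h2⟩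
      · rintro ⟨x, -, hx1, hxz⟩
        have h3 : Nat.card E' = 2 := by rw [Nat.card_eq_fintype_card, hE', ← hE, h1]
        obtain ⟨c, rfl⟩ := (bij_of_two h' h3).2 x
        rcases zp_mem h' c with h4 | h4
        · exact hx1 h4
        · exact hxz h4
      · exact no_P_of_eight h' (by rw [hE', ← hE, h1]) (by rw [← hs, h2])
    rcases card_no_P h hP with ⟨h1, -⟩ | ⟨h1, -⟩
    · -- both groups have two elements
      have h3 : Nat.card E = 2 := by rw [Nat.card_eq_fintype_card, h1]
      have h4 : Nat.card E' = 2 := by rw [Nat.card_eq_fintype_card, hE', ← hE, h1]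
      have hb := bij_of_two h h3
      have hb' := bij_of_two h' h4
      let Θ := Equiv.ofBijective _ hb
      let Θ' := Equiv.ofBijective _ hb'
      let ψe : E ≃ E' := Θ.symm.trans Θ'
      have hψ : ∀ c : ZMod 2, ψe (zp z c) = zp z' c := by
        intro c
        change Θ' (Θ.symm (Θ c)) = _
        rw [Equiv.symm_apply_apply]
        rfl
      refine ⟨MulEquiv.mk' ψe ?_, ?_⟩
      · intro g g'
        obtain ⟨c, rfl⟩ := hb.2 g
        obtain ⟨d, rfl⟩ := hb.2 g'
        rw [← zp_add (zz2 h), hψ, hψ, hψ, zp_add (zz2 h')]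
      · have := hψ 1
        rw [zp_one, zp_one] at this
        exact this
    · -- order eight: two generators of order four
      obtain ⟨a, b, hab, ha, hb⟩ := exists_q8 h hP h1
      obtain ⟨a', b', hab', ha', hb'⟩ := exists_q8 h' hP' (by rw [hE', ← hE, h1])
      exact step a b a' b' 1 1 hab hab' (by rw [ha, zp_one]) (by rw [hb, zp_one]) (by rw [ha', zp_one]) (by rw [hb', zp_one])

end main

end Cfsg.Agent.Lib.ExtraIso2
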