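import Mathlib
import Cfsg.Prelude.Def_Transfer
import Cfsg.Prelude.Def_CaseTheorems
import Cfsg.Agent.Lib.ExtraIso2

/-! Classification of extraspecial 2-groups: orders, types, and largest elementary abelian subgroups. -/

set_option autoImplicit false
set_option linter.all false

namespace Cfsg.Agent.Lib.ExtraClass

open Cfsg.Agent.Lib.ExtraPlus Cfsg.Agent.Lib.ExtraIso2
open Cfsg.Agent.Lib.ExtraIso (zp zp_zero zp_one zp_add zp_comm zp_map zp_coe)

universe u u'

theorem TT00 : TT 0 0 = 2 := by decide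

section
variable {E : Type u} [Group E] {z : E} (h : ES' z) {a b : E} (hab : cc a b = z)
  (ha : a * a = 1) (hb : b * b = 1)
include h hab ha hb

theorem Th_mul0 (x x' : ZMod 2) (m m' : E0 a b) :
    Th a b (x, 0, m) * Th a b (x', 0, m') = Th a b (x + x', 0, m * m') := by
  have haa : a * a = zp z (0 : ZMod 2) := by rw [ha, zp_zero]
  have hbb : b * b = zp z (0 : ZMod 2) := by rw [hb, zp_zero]
  rw [Th_mul h hab haa hbb x 0 x' 0 m m']
  have e1 : cx 0 0 x 0 x' 0 = 0 := by simp [cx]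
  have e2 : (⟨zp z (cx 0 0 x 0 x' 0), zp_mem_E0 h a b _⟩ : E0 a b) = 1 := by
    apply Subtype.ext
    simp [e1, zp_zero]
  rw [e2, one_mul, add_zero]

end

/-- The map `ℤ/2 × A₀ → E`. -/
noncomputable def phi {E : Type u} [Group E] {z : E} (h : ES' z) {a b : E} (hab : cc a b = z)
    (ha : a * a = 1) (hb : b * b = 1) (A0 : Subgroup (E0 a b)) : Multiplicative (ZMod 2) × A0 →* E where
  toFun u := Th a b (Multiplicative.toAdd u.1, 0, (u.2 : E0 a b))
  map_one' := by
    simp [Th, zp_zero]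
  map_mul' u v := (Th_mul0 h hab ha hb _ _ _ _).symm

theorem phi_inj {E : Type u} [Group E] {z : E} (h : ES' z) {a b : E} (hab : cc a b = z)
    (ha : a * a = 1) (hb : b * b = 1) (A0 : Subgroup (E0 a b)) : Function.Injective (phi h hab ha hb A0) := by
  intro u v huv
  have h1 := (Th_bij h hab).1 huv
  simp only [Prod.mk.injEq, true_and] at h1
  apply Prod.ext
  · exact h1.1
  · exact Subtype.ext h1.2

theorem zpowers_props {E : Type u} [Group E] {z : E} (hzz : z * z = 1) :
    (∀ a ∈ Subgroup.zpowers z, ∀ b ∈ Subgroup.zpowers z, a * b = b * a) ∧ (∀ a ∈ Subgroup.zpowers z, a * a = 1) := by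
  constructor
  · rintro a ⟨i, rfl⟩ b ⟨j, rfl⟩
    exact (Commute.refl z).zpow_zpow _ _
  · rintro a ⟨i, rfl⟩
    have h1 : z ^ (2 : ℤ) = 1 := by
      rw [show (2 : ℤ) = 1 + 1 from rfl, zpow_add, zpow_one, hzz]
    show z ^ i * z ^ i = 1
    rw [← zpow_add, ← two_mul, zpow_mul, h1, one_zpow]

/-- An abelian subgroup of exponent two of the right size. -/
theorem exists_abelian : ∀ (n : ℕ) {E : Type u} [Group E] [Fintype E] {z : E}, ES' z → Fintype.card E = n →
    ∃ A : Subgroup E, (∀ a ∈ A, ∀ b ∈ A, a * b = b * a) ∧ (∀ a ∈ A, a * a = 1) ∧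
      ((0 < (∑ x : E, ss x) ∧ (Nat.card A : ℤ) = ∑ x : E, ss x) ∨
       ((∑ x : E, ss x) < 0 ∧ 2 * (Nat.card A : ℤ) = - ∑ x : E, ss x)) := by
  intro n
  induction n using Nat.strong_induction_on with
  | _ n ih =>
  intro E _ _ z h hE
  classical
  by_cases hP : PP z
  · obtain ⟨a, b, hab, ha, hb⟩ := exists_pair h hP
    haveI : Fintype (E0 a b) := Fintype.ofFinite _
    have haa : a * a = zp z (0 : ZMod 2) := by rw [ha, zp_zero]
    have hbb : b * b = zp z (0 : ZMod 2) := by rw [hb, zp_zero]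
    have hs := sum_E h hab haa hbb
    rw [TT00] at hs
    have hc := card_E h hab
    rw [Nat.card_eq_fintype_card, Nat.card_eq_fintype_card] at hc
    have hlt : Fintype.card (E0 a b) < n := by
      have hk : 0 < Fintype.card (E0 a b) := Fintype.card_pos
      omega
    obtain ⟨A0, hA0c, hA02, hA0⟩ := ih _ hlt (es_E0 h hab) rfl
    let φ := phi h hab ha hb A0
    have hφ : Function.Injective φ := phi_inj h hab ha hb A0
    have hcomm : ∀ u v : Multiplicative (ZMod 2) × A0, u * v = v * u := by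
      intro u v
      apply Prod.ext
      · exact mul_comm _ _
      · exact Subtype.ext (hA0c _ u.2.2 _ v.2.2)
    have hsq : ∀ u : Multiplicative (ZMod 2) × A0, u * u = 1 := by
      intro u
      apply Prod.ext
      · show Multiplicative.ofAdd (Multiplicative.toAdd u.1 + Multiplicative.toAdd u.1) = 1
        have : ∀ x : ZMod 2, x + x = 0 := by decide
        rw [this]
        rfl
      · exact Subtype.ext (hA02 _ u.2.2)
    have hcard : Nat.card φ.range = 2 * Nat.card A0 := by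
      rw [← Nat.card_congr (MonoidHom.ofInjective hφ).toEquiv, Nat.card_prod, Nat.card_congr Multiplicative.toAdd, Nat.card_zmod]
    refine ⟨φ.range, ?_, ?_, ?_⟩
    · rintro _ ⟨u, rfl⟩ _ ⟨v, rfl⟩
      rw [← map_mul, ← map_mul, hcomm]
    · rintro _ ⟨u, rfl⟩
      rw [← map_mul, hsq, map_one]
    · rw [hs, hcard]
      push_cast
      rcases hA0 with ⟨h1, h2⟩ | ⟨h1, h2⟩
      · left
        exact ⟨by linarith, by rw [h2]⟩
      · right
        exact ⟨by linarith, by linarith⟩
  · obtain ⟨hc1, hc2⟩ := zpowers_props h.hzz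
    have hcard : Nat.card (Subgroup.zpowers z) = 2 := by
      rw [Nat.card_zpowers]
      haveI : Fact (Nat.Prime 2) := ⟨Nat.prime_two⟩
      apply orderOf_eq_prime
      · rw [sq]; exact h.hzz
      · exact h.hz1
    refine ⟨Subgroup.zpowers z, hc1, hc2, ?_⟩
    rw [hcard]
    rcases card_no_P h hP with ⟨-, h2⟩ | ⟨-, h2⟩
    · left
      rw [h2]
      norm_num
    · right
      rw [h2]
      norm_num

/-- Abelian subgroups are small. -/
theorem card_sq_le {E : Type u} [Group E] [Fintype E] {z : E} (h : ES' z) (A : Subgroup E)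
    (hAc : ∀ a ∈ A, ∀ b ∈ A, a * b = b * a) : (Nat.card A : ℤ) ^ 2 ≤ 2 * Fintype.card E := by
  classical
  haveI : Fintype A := Fintype.ofFinite _
  rw [Nat.card_eq_fintype_card]
  let emb : A ↪ E := ⟨Subtype.val, Subtype.val_injective⟩
  have hsub : ∀ f : E → ℤ, (∀ x, 0 ≤ f x) → ∑ c : A, f (c : E) ≤ ∑ x : E, f x := by
    intro f hf
    have h1 : ∑ c : A, f (c : E) = ∑ x ∈ Finset.univ.map emb, f x := by
      rw [Finset.sum_map]
      rfl
    rw [h1]
    exact Finset.sum_le_univ_sum_of_nonneg hf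
  -- first evaluation
  have e1 : (Fintype.card A : ℤ) ^ 2 ≤ ∑ x : E, ∑ c : A, bb x (c : E) := by
    simp only [h.sum_bb_subgroup A]
    have h2 := hsub (fun x => if x ∈ Subgroup.centralizer (A : Set E) then (Fintype.card A : ℤ) else 0) (by
      intro x
      split_ifs <;> positivity)
    refine le_trans ?_ h2
    have h3 : ∀ c : A, (if (c : E) ∈ Subgroup.centralizer (A : Set E) then (Fintype.card A : ℤ) else 0) = Fintype.card A := by
      intro c
      rw [if_pos]
      rw [Subgroup.mem_centralizer_iff]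
      intro d hd
      exact hAc d hd c c.2
    simp only [h3]
    simp [sq]
  -- second evaluation
  have e2 : ∑ x : E, ∑ c : A, bb x (c : E) ≤ 2 * Fintype.card E := by
    rw [Finset.sum_comm]
    let g : E → ℤ := fun c => if c = 1 ∨ c = z then (Fintype.card E : ℤ) else 0
    have h2 : ∀ c : A, ∑ x : E, bb x (c : E) ≤ g c := by
      intro c
      by_cases hc : ∀ x : E, x * c = c * x
      · rw [h.sum_bb_central _ hc]
        have : (c : E) = 1 ∨ (c : E) = z := h.hcenter _ (fun k => (hc k).symm)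
        show _ ≤ (if _ then _ else _)
        rw [if_pos this]
      · push Not at hc
        obtain ⟨x₀, hx₀⟩ := hc
        rw [h.sum_bb_noncentral _ x₀ hx₀]
        dsimp only [g]
        split_ifs <;> positivity
    have h3 : ∑ c : A, g c ≤ ∑ x : E, g x := hsub g (by
      intro x
      dsimp only [g]
      split_ifs <;> positivity)
    have h4 : ∑ x : E, g x = 2 * Fintype.card E := by
      dsimp only [g]
      rw [Finset.sum_ite, Finset.sum_const_zero, add_zero, Finset.sum_const]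
      have : (Finset.univ.filter fun w : E => w = 1 ∨ w = z) = {1, z} := by
        ext w
        simp
      rw [this, Finset.card_pair h.hz1.symm]
      simp
    calc _ ≤ ∑ c : A, g c := Finset.sum_le_sum fun c _ => h2 c
      _ ≤ _ := h3
      _ = _ := h4
  exact le_trans e1 e2

/-- The value of the Gauss sum. -/
theorem sum_val {E : Type u} [Group E] [Fintype E] {z : E} (h : ES' z) (n : ℕ) (hc : Fintype.card E = 2 ^ (2 * n + 1)) :
    (∑ x : E, ss x) = 2 ^ (n + 1) ∨ (∑ x : E, ss x) = - 2 ^ (n + 1) := by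
  have h2 : (∑ x : E, ss x) * (∑ x : E, ss x) = 2 ^ (n + 1) * 2 ^ (n + 1) := by
    rw [h.gauss, hc]
    push_cast
    ring
  exact mul_self_eq_mul_self_iff.1 h2

/-- The order of an extraspecial 2-group is an odd power of 2, and at least 8. -/
theorem exists_order {E : Type u} [Group E] [Fintype E] {z : E} (h : ES' z) (hE : Cfsg.IsExtraspecial 2 E) :
    ∃ m : ℕ, 1 ≤ m ∧ Fintype.card E = 2 ^ (2 * m + 1) := by
  classical
  haveI : Fact (Nat.Prime 2) := ⟨Nat.prime_two⟩
  obtain ⟨k, hk⟩ := IsPGroup.iff_card.1 hE.1.1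
  rw [Nat.card_eq_fintype_card] at hk
  have hg := h.gauss
  rw [hk] at hg
  set T := ∑ x : E, ss x with hT
  have h1 : T.natAbs * T.natAbs = 2 ^ (k + 1) := by
    zify
    rw [abs_mul_abs_self, hg]
    push_cast
    ring
  have h2 : T.natAbs ∣ 2 ^ (k + 1) := ⟨_, h1.symm⟩
  obtain ⟨i, -, hi⟩ := (Nat.dvd_prime_pow Nat.prime_two).1 h2
  rw [hi, ← pow_add] at h1
  have h3 := Nat.pow_right_injective (le_refl 2) h1
  have hi0 : i ≠ 0 := by omega
  obtain ⟨j, rfl⟩ := Nat.exists_eq_succ_of_ne_zero hi0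
  have hkj : k = 2 * j + 1 := by omega
  subst hkj
  refine ⟨j, ?_, hk⟩
  by_contra hj
  have hj0 : j = 0 := by omega
  subst hj0
  -- then the group is of order 2, so abelian
  have hc2 : Nat.card E = 2 := by rw [Nat.card_eq_fintype_card, hk]; rfl
  have hcyc : IsCyclic E := isCyclic_of_prime_card hc2
  obtain ⟨⟨-, -, hcomm⟩, hZ⟩ := hE
  have hbot : commutator E = ⊥ := by
    unfold _root_.commutator
    rw [Subgroup.commutator_eq_bot_iff_le_centralizer]
    intro x _
    rw [Subgroup.mem_centralizer_iff]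
    intro y _
    exact mul_comm' y x
  rw [hbot] at hcomm
  rw [← hcomm] at hZ
  simp at hZ

theorem card_sq_eq {E : Type u} [Group E] [Finite E] :
    Nat.card {x : E // x ^ 2 = 1} = Nat.card {x : E // x * x = 1} := by
  apply Nat.card_congr
  apply Equiv.subtypeEquivRight
  intro x
  rw [sq]

theorem sum_eq {E : Type u} [Group E] [Fintype E] {z : E} (h : ES' z) :
    (∑ x : E, ss x) = 2 * (Nat.card {x : E // x ^ 2 = 1} : ℤ) - Fintype.card E := by
  classical
  rw [sum_ss_eq h, card_sq_eq, Nat.card_eq_fintype_card, Fintype.card_subtype]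

/-- The classification in intrinsic form. -/
theorem intrinsic (E : Type u) [Group E] [Finite E] (hE : Cfsg.IsExtraspecial 2 E) :
    (∃ m : ℕ, 1 ≤ m ∧ Nat.card E = 2 ^ (2 * m + 1) ∧
      (Nat.card {x : E // x ^ 2 = 1} = 2 ^ (2 * m) + 2 ^ m ∨ Nat.card {x : E // x ^ 2 = 1} = 2 ^ (2 * m) - 2 ^ m)) ∧
    ∀ (E' : Type u') [Group E'] [Finite E'], Cfsg.IsExtraspecial 2 E' → Nat.card E' = Nat.card E →
      Nat.card {x : E' // x ^ 2 = 1} = Nat.card {x : E // x ^ 2 = 1} → Nonempty (E ≃* E') := by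
  classical
  haveI : Fintype E := Fintype.ofFinite _
  obtain ⟨z, hz⟩ := exists_data hE
  constructor
  · obtain ⟨m, hm, hc⟩ := exists_order hz hE
    refine ⟨m, hm, by rw [Nat.card_eq_fintype_card, hc], ?_⟩
    have h1 := sum_eq hz
    have h2 := sum_val hz m hc
    rw [hc] at h1
    have e1 : (2 : ℤ) ^ (m + 1) = 2 * 2 ^ m := by ring
    have e2 : (2 : ℤ) ^ (2 * m + 1) = 2 * 2 ^ (2 * m) := by ring
    push_cast at h1
    rcases h2 with h2 | h2
    · left
      have : (Nat.card {x : E // x ^ 2 = 1} : ℤ) = 2 ^ (2 * m) + 2 ^ m := by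
        rw [e1] at h2
        rw [e2] at h1
        linarith
      exact_mod_cast this
    · right
      have : (Nat.card {x : E // x ^ 2 = 1} : ℤ) = 2 ^ (2 * m) - 2 ^ m := by
        rw [e1] at h2
        rw [e2] at h1
        linarith
      have h6 : 2 ^ m ≤ 2 ^ (2 * m) := Nat.pow_le_pow_right (by norm_num) (by omega)
      zify [h6]
      exact this
  · intro E' _ _ hE' hcard hN
    haveI : Fintype E' := Fintype.ofFinite _
    obtain ⟨z', hz'⟩ := exists_data hE'
    have h1 := sum_eq hz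
    have h2 := sum_eq hz'
    rw [Nat.card_eq_fintype_card, Nat.card_eq_fintype_card] at hcard
    obtain ⟨ψ, -⟩ := iso_es _ hz hz' rfl hcard (by rw [h1, h2, hN, hcard])
    exact ⟨ψ⟩

theorem card_two_pow {E : Type u} [Group E] [Finite E] (A : Subgroup E) (hA2 : ∀ a ∈ A, a * a = 1) :
    ∃ j, Nat.card A = 2 ^ j := by
  haveI : Fact (Nat.Prime 2) := ⟨Nat.prime_two⟩
  have hP : IsPGroup 2 A := by
    intro x
    refine ⟨1, ?_⟩
    apply Subtype.ext
    simp [sq, hA2 _ x.2]
  exact IsPGroup.iff_card.1 hP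

/-- Existence of a subgroup of exact size inside a large elementary abelian subgroup. -/
theorem exists_sub_card {E : Type u} [Group E] [Finite E] (A : Subgroup E) (hA2 : ∀ a ∈ A, a * a = 1)
    (k : ℕ) (hk : 2 ^ k ≤ Nat.card A) : ∃ B : Subgroup E, B ≤ A ∧ Nat.card B = 2 ^ k := by
  haveI : Fact (Nat.Prime 2) := ⟨Nat.prime_two⟩
  obtain ⟨j, hj⟩ := card_two_pow A hA2
  have hkj : k ≤ j := by
    rw [hj] at hk
    exact (Nat.pow_le_pow_iff_right (by norm_num)).1 hk
  obtain ⟨B, hB⟩ := Sylow.exists_subgroup_card_pow_prime 2 (n := k) (by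
    rw [hj]
    exact pow_dvd_pow 2 hkj : 2 ^ k ∣ Nat.card A)
  refine ⟨B.map A.subtype, ?_, ?_⟩
  · rw [Subgroup.map_le_iff_le_comap]
    intro x _
    exact x.2
  · rw [Nat.card_congr (Subgroup.equivMapOfInjective B A.subtype A.subtype_injective).toEquiv.symm, hB]

/-- The largest elementary abelian subgroups. -/
theorem rank_form {E : Type u} [Group E] [Finite E] (hE : Cfsg.IsExtraspecial 2 E) (n : ℕ)
    (hn : Nat.card E = 2 ^ (2 * n + 1)) {z : E} (hz : ES' z) [Fintype E] (hcE : Fintype.card E = 2 ^ (2 * n + 1)) :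
    ((∑ x : E, ss x) = 2 ^ (n + 1) ∧ Cfsg.PRankLE 2 (n + 1) E ∧ ¬ Cfsg.PRankLE 2 n E) ∨
    ((∑ x : E, ss x) = - 2 ^ (n + 1) ∧ Cfsg.PRankLE 2 n E ∧ ¬ Cfsg.PRankLE 2 (n - 1) E) := by
  classical
  obtain ⟨m, hm, hcm⟩ := exists_order hz hE
  have hnm : n = m := by
    rw [hcm] at hcE
    have := Nat.pow_right_injective (le_refl 2) hcE
    omega
  subst hnm
  obtain ⟨A0, hA0c, hA02, hA0⟩ := exists_abelian _ hz rfl
  have hmk : ∀ A : Subgroup E, (∀ a ∈ A, a ^ 2 = 1) → ∀ a ∈ A, a * a = 1 := by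
    intro A hA a ha
    rw [← sq]
    exact hA a ha
  rcases sum_val hz n hcE with hs | hs
  · left
    refine ⟨hs, ?_, ?_⟩
    · intro A hAc hA2
      have hcomm : ∀ a ∈ A, ∀ b ∈ A, a * b = b * a := by
        intro a ha b hb
        have := hAc.is_comm.comm ⟨a, ha⟩ ⟨b, hb⟩
        exact congrArg Subtype.val this
      have h1 := card_sq_le hz A hcomm
      rw [hcE] at h1
      push_cast at h1
      have h2 : (Nat.card A : ℤ) ^ 2 ≤ (2 ^ (n + 1)) ^ 2 := by
        calc _ ≤ _ := h1
          _ = _ := by ring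
      have h3 : (Nat.card A : ℤ) ≤ 2 ^ (n + 1) := by
        exact abs_le_of_sq_le_sq' h2 (by positivity) |>.2
      exact_mod_cast h3
    · intro hrank
      rcases hA0 with ⟨-, h2⟩ | ⟨h1, -⟩
      · have h3 := hrank A0 ⟨⟨fun a b => Subtype.ext (hA0c _ a.2 _ b.2)⟩⟩ (fun a ha => by rw [sq]; exact hA02 a ha)
        rw [hs] at h2
        have h4 : (Nat.card A0 : ℤ) ≤ 2 ^ n := by exact_mod_cast h3
        rw [h2] at h4
        have h5 : (2 : ℤ) ^ (n + 1) = 2 * 2 ^ n := by ring
        have h6 : (0 : ℤ) < 2 ^ n := by positivity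
        linarith
      · rw [hs] at h1
        have : (0 : ℤ) < 2 ^ (n + 1) := by positivity
        linarith
  · right
    refine ⟨hs, ?_, ?_⟩
    · intro A hAc hA2
      by_contra hlt
      push Not at hlt
      have hle : 2 ^ (n + 1) ≤ Nat.card A := by
        obtain ⟨j, hj⟩ := card_two_pow A (hmk A hA2)
        rw [hj] at hlt ⊢
        have := (Nat.pow_lt_pow_iff_right (a := 2) (by norm_num)).1 hlt
        exact Nat.pow_le_pow_right (by norm_num) this
      obtain ⟨B, hBA, hB⟩ := exists_sub_card A (hmk A hA2) (n + 1) hle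
      have hcomm : ∀ a ∈ B, ∀ b ∈ B, a * b = b * a := by
        intro a ha b hb
        have := hAc.is_comm.comm ⟨a, hBA ha⟩ ⟨b, hBA hb⟩
        exact congrArg Subtype.val this
      have hgv := hz.gauss_value n hcE B hcomm (fun a ha => hmk A hA2 a (hBA ha)) hB
      rw [hs] at hgv
      have : (0 : ℤ) < 2 ^ (n + 1) := by positivity
      linarith
    · intro hrank
      rcases hA0 with ⟨h1, -⟩ | ⟨-, h2⟩
      · rw [hs] at h1
        have : (0 : ℤ) < 2 ^ (n + 1) := by positivity
        linarith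
      · have h3 := hrank A0 ⟨⟨fun a b => Subtype.ext (hA0c _ a.2 _ b.2)⟩⟩ (fun a ha => by rw [sq]; exact hA02 a ha)
        rw [hs] at h2
        have h4 : (Nat.card A0 : ℤ) ≤ 2 ^ (n - 1) := by exact_mod_cast h3
        obtain ⟨j, rfl⟩ : ∃ j, n = j + 1 := ⟨n - 1, by omega⟩
        have h5 : (2 : ℤ) ^ (j + 1 + 1) = 4 * 2 ^ j := by ring
        simp only [Nat.add_sub_cancel] at h4
        have h6 : (0 : ℤ) < 2 ^ j := by positivity
        rw [h5] at h2
        linarith

/-- The statement with prank. -/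
theorem rank_main {E : Type u} [Group E] [Finite E] (hE : Cfsg.IsExtraspecial 2 E) (n : ℕ)
    (hn : Nat.card E = 2 ^ (2 * n + 1)) :
    ((Cfsg.PRankLE 2 n E ∧ ¬ Cfsg.PRankLE 2 (n - 1) E) ∨ (Cfsg.PRankLE 2 (n + 1) E ∧ ¬ Cfsg.PRankLE 2 n E)) ∧
    ∀ (E' : Type u') [Group E'] [Finite E'], Cfsg.IsExtraspecial 2 E' → Nat.card E' = Nat.card E →
      (∀ k : ℕ, Cfsg.PRankLE 2 k E ↔ Cfsg.PRankLE 2 k E') → Nonempty (E ≃* E') := by
  classical
  haveI : Fintype E := Fintype.ofFinite _
  obtain ⟨z, hz⟩ := exists_data hE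
  have hcE : Fintype.card E = 2 ^ (2 * n + 1) := by rw [← Nat.card_eq_fintype_card, hn]
  have hform := rank_form hE n hn hz hcE
  constructor
  · rcases hform with ⟨-, h1, h2⟩ | ⟨-, h1, h2⟩
    · right; exact ⟨h1, h2⟩
    · left; exact ⟨h1, h2⟩
  · intro E' _ _ hE' hcard hrank
    haveI : Fintype E' := Fintype.ofFinite _
    obtain ⟨z', hz'⟩ := exists_data hE'
    have hcE' : Fintype.card E' = 2 ^ (2 * n + 1) := by rw [← Nat.card_eq_fintype_card, hcard, hn]
    have hform' := rank_form hE' n (by rw [hcard, hn]) hz' hcE'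
    have hs : (∑ x : E, ss x) = ∑ x : E', ss x := by
      rcases hform with ⟨h0, h1, h2⟩ | ⟨h0, h1, h2⟩ <;> rcases hform' with ⟨h0', h1', h2'⟩ | ⟨h0', h1', h2'⟩
      · rw [h0, h0']
      · exact absurd ((hrank n).2 h1') h2
      · exact absurd ((hrank n).1 h1) h2'
      · rw [h0, h0']
    obtain ⟨ψ, -⟩ := iso_es _ hz hz' rfl (by rw [hcE', hcE]) hs
    exact ⟨ψ⟩

end Cfsg.Agent.Lib.ExtraClass
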