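import Mathlib
import Cfsg.Prelude.Def_PLocal
import Cfsg.Agent.Lib.H6PGroup
import Cfsg.Agent.Lib.H6Q8

/-!
Regular `p`-groups: `a ^ q = b ^ q` if and only if `(a * b⁻¹) ^ q = 1` (helper6).
-/

set_option autoImplicit false
set_option linter.style.haveILetI false
set_option linter.unusedSectionVars false

namespace Cfsg.Agent.Lib.H6Regular

open Subgroup Cfsg
open scoped commutatorElement

universe u

variable {p : ℕ}

theorem powerClosure_map {G K : Type*} [Group G] [Group K] (f : G →* K) (n : ℕ) (L : Subgroup G) :
    (powerClosure p n L).map f = powerClosure p n (L.map f) := by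
  unfold powerClosure
  rw [MonoidHom.map_closure]
  congr 1
  ext y
  constructor
  · rintro ⟨_, ⟨x, hx, rfl⟩, rfl⟩
    exact ⟨f x, ⟨x, hx, rfl⟩, map_pow f x _⟩
  · rintro ⟨_, ⟨x, hx, rfl⟩, rfl⟩
    exact ⟨x ^ (p ^ n), ⟨x, hx, rfl⟩, map_pow f x _⟩

theorem regular_sub {G : Type*} [Group G] [Finite G] [hp : Fact p.Prime] (h : IsRegularPGroup p G) (H : Subgroup G) :
    IsRegularPGroup p H := by
  refine ⟨h.1.to_subgroup H, ?_⟩
  intro a b n
  obtain ⟨c, hc, he⟩ := h.2 a b n
  set K : Subgroup H := closure ({a, b} : Set H) with hK
  have hKmap : K.map H.subtype = closure ({(a : G), (b : G)} : Set G) := by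
    rw [hK, MonoidHom.map_closure]
    congr 1
    ext y
    simp [eq_comm]
  rw [← hKmap, ← Subgroup.map_commutator, ← powerClosure_map] at hc
  obtain ⟨c', hc', rfl⟩ := hc
  refine ⟨c', hc', ?_⟩
  apply Subtype.ext
  simpa using he

/-- The derived subgroup lies in the Frattini subgroup. -/
theorem commutator_le_frattini {G : Type*} [Group G] [Finite G] [hp : Fact p.Prime] (hG : IsPGroup p G) :
    commutator G ≤ frattini G := by
  unfold _root_.commutator
  rw [Subgroup.commutator_le]
  intro x _ y _
  rw [commutatorElement_def]
  exact Cfsg.Agent.Lib.H6PGroup.comm_mem_frattini hG x y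

/-- The main theorem on regular groups. -/
theorem key [hp : Fact p.Prime] : ∀ (N : ℕ) (G : Type u) [Group G] [Finite G], Nat.card G = N → IsRegularPGroup p G →
    ∀ (k : ℕ) (a b : G), a ^ p ^ k = b ^ p ^ k ↔ (a * b⁻¹) ^ p ^ k = 1 := by
  intro N
  induction N using Nat.strong_induction_on with
  | _ N ih =>
    intro G _ _ hN hreg k a b
    set q := p ^ k with hq
    -- proper subgroups
    have hsub : ∀ Y : Subgroup G, Y ≠ ⊤ → ∀ u v : Y, u ^ q = v ^ q ↔ (u * v⁻¹) ^ q = 1 := by
      intro Y hY u v
      have hlt : Nat.card Y < N := by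
        rw [← hN]
        apply lt_of_le_of_ne (Subgroup.card_le_card_group Y)
        intro h
        exact hY (Subgroup.eq_top_of_card_eq Y h)
      exact ih _ hlt Y rfl (regular_sub hreg Y) k u v
    by_cases hM : closure ({a, b} : Set G) = ⊤
    swap
    · have h1 := hsub _ hM ⟨a, subset_closure (by simp)⟩ ⟨b, subset_closure (by simp)⟩
      constructor
      · intro h
        have h2 := h1.mp (Subtype.ext (by simpa using h))
        simpa using congrArg Subtype.val h2
      · intro h
        have h2 := h1.mpr (Subtype.ext (by simpa using h))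
        simpa using congrArg Subtype.val h2
    -- consequence of a derived subgroup of small exponent
    have hpowmul : (∀ g ∈ commutator G, g ^ q = 1) → ∀ u v : G, (u * v) ^ q = u ^ q * v ^ q := by
      intro hexp u v
      obtain ⟨c, hc, he⟩ := hreg.2 u v k
      have hle : powerClosure p k ⁅closure ({u, v} : Set G), closure ({u, v} : Set G)⁆ ≤ ⊥ := by
        unfold powerClosure
        rw [Subgroup.closure_le]
        rintro _ ⟨x, hx, rfl⟩
        have h2 : x ∈ commutator G := Subgroup.commutator_mono le_top le_top hx
        rw [SetLike.mem_coe, Subgroup.mem_bot]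
        exact hexp x h2
      have hc1 : c = 1 := by
        have := hle hc
        rwa [Subgroup.mem_bot] at this
      rw [he, hc1, mul_one]
    -- the exponent of the derived subgroup
    have hexp : ∀ s t : G, closure ({s, t} : Set G) = ⊤ →
        (∀ (Ω : Subgroup G), Ω.Normal → zpowers s ⊔ commutator G ≠ ⊤ → (∀ z, z ∈ Ω ↔ z ∈ zpowers s ⊔ commutator G ∧ z ^ q = 1) → s * t * s⁻¹ * t⁻¹ ∈ Ω) →
        ∀ g ∈ commutator G, g ^ q = 1 := by
      intro s t hgen hcond
      set Y := zpowers s ⊔ commutator G with hY
      by_cases hYt : Y = ⊤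
      · -- the group is cyclic
        have h1 : zpowers s ⊔ frattini G = ⊤ := by
          rw [eq_top_iff, ← hYt]
          exact sup_le_sup_left (commutator_le_frattini hreg.1) _
        have h2 : zpowers s = ⊤ := frattini_nongenerating h1
        have hcyc : ∀ x y : G, x * y = y * x := by
          intro x y
          have hx : x ∈ zpowers s := by rw [h2]; trivial
          have hy : y ∈ zpowers s := by rw [h2]; trivial
          obtain ⟨i, rfl⟩ := hx
          obtain ⟨j, rfl⟩ := hy
          exact ((Commute.refl s).zpow_zpow i j).eq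
        intro g hg
        have h3 : commutator G ≤ ⊥ := by
          unfold _root_.commutator
          rw [Subgroup.commutator_le]
          intro x _ y _
          rw [commutatorElement_def, hcyc x y]
          simp
        have h4 := h3 hg
        rw [Subgroup.mem_bot] at h4
        rw [h4, one_pow]
      · -- the subgroup of elements of small order in `Y`
        have hYn : Y.Normal := by
          constructor
          intro z hz g
          have h1 : g * z * g⁻¹ = ⁅g, z⁆ * z := by
            rw [commutatorElement_def]
            group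
          rw [h1]
          refine Y.mul_mem ?_ hz
          apply (le_sup_right : commutator G ≤ Y)
          exact Subgroup.commutator_mem_commutator (mem_top g) (mem_top z)
        let Ω : Subgroup G :=
          { carrier := {z | z ∈ Y ∧ z ^ q = 1}
            one_mem' := ⟨one_mem _, one_pow q⟩
            mul_mem' := by
              rintro x y ⟨hx, hx1⟩ ⟨hy, hy1⟩
              refine ⟨mul_mem hx hy, ?_⟩
              have h1 := (hsub Y hYt ⟨x, hx⟩ ⟨y, hy⟩⁻¹).mp (Subtype.ext (by simp [hx1, hy1]))
              simpa using congrArg Subtype.val h1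
            inv_mem' := by
              rintro x ⟨hx, hx1⟩
              exact ⟨inv_mem hx, by rw [inv_pow, hx1, inv_one]⟩ }
        have hΩn : Ω.Normal := by
          constructor
          rintro z ⟨hz, hz1⟩ g
          refine ⟨hYn.conj_mem _ hz g, ?_⟩
          rw [conj_pow, hz1]
          group
        have h1 := hcond Ω hΩn hYt (fun z => Iff.rfl)
        haveI := hΩn
        have h2 : commutator G ≤ Ω := Cfsg.Agent.Lib.H6Q8.comm_le_of_gen s t hgen Ω (by
          rw [commutatorElement_def]
          exact h1)
        intro g hg
        exact (h2 hg).2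
    constructor
    · intro h
      have h1 : ∀ g ∈ commutator G, g ^ q = 1 := by
        apply hexp a b hM
        intro Ω hΩn hYt hΩ
        have hb : b * a * b⁻¹ * a⁻¹ ∈ Ω := by
          rw [hΩ]
          have haY : a ∈ zpowers a ⊔ commutator G := (le_sup_left : zpowers a ≤ _) (mem_zpowers a)
          have hcomm : b * a * b⁻¹ * a⁻¹ ∈ commutator G :=
            Subgroup.commutator_mem_commutator (mem_top b) (mem_top a)
          have hcommY : b * a * b⁻¹ * a⁻¹ ∈ zpowers a ⊔ commutator G := (le_sup_right : commutator G ≤ _) hcomm
          refine ⟨hcommY, ?_⟩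
          have hconjY : b * a * b⁻¹ ∈ zpowers a ⊔ commutator G := by
            have h2 : b * a * b⁻¹ = (b * a * b⁻¹ * a⁻¹) * a := by group
            rw [h2]
            exact mul_mem hcommY haY
          have h3 := (hsub _ hYt ⟨b * a * b⁻¹, hconjY⟩ ⟨a, haY⟩).mp (Subtype.ext (by
            have h4 : (b * a * b⁻¹) ^ q = a ^ q := by
              rw [conj_pow, h]
              have h5 : b * b ^ q * b⁻¹ = b ^ q := by
                rw [(Commute.refl b).pow_right q |>.eq]
                group
              exact h5
            simpa using h4))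
          simpa using congrArg Subtype.val h3
        have h2 := Ω.inv_mem hb
        have h3 : (b * a * b⁻¹ * a⁻¹)⁻¹ = a * b * a⁻¹ * b⁻¹ := by group
        rwa [h3] at h2
      have h2 := hpowmul h1 a b⁻¹
      rw [h2, inv_pow, h, mul_inv_cancel]
    · intro h
      have h1 : ∀ g ∈ commutator G, g ^ q = 1 := by
        apply hexp (a * b⁻¹) b
        · rw [eq_top_iff, ← hM, Subgroup.closure_le]
          rintro x (rfl | rfl)
          · have h2 : x = (x * b⁻¹) * b := by group
            rw [h2]
            exact mul_mem (subset_closure (by simp)) (subset_closure (by simp))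
          · exact subset_closure (by simp)
        · intro Ω hΩn _ hΩ
          have hx : a * b⁻¹ ∈ Ω := by
            rw [hΩ]
            exact ⟨(le_sup_left : zpowers (a * b⁻¹) ≤ _) (mem_zpowers _), h⟩
          have h2 := hΩn.conj_mem _ (Ω.inv_mem hx) b
          have h3 : a * b⁻¹ * b * (a * b⁻¹)⁻¹ * b⁻¹ = (a * b⁻¹) * (b * (a * b⁻¹)⁻¹ * b⁻¹) := by group
          rw [h3]
          exact Ω.mul_mem hx h2
      have h2 := hpowmul h1 (a * b⁻¹) b
      rw [h, one_mul] at h2
      have h3 : a * b⁻¹ * b = a := by group
      rwa [h3] at h2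

end Cfsg.Agent.Lib.H6Regular
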