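import Mathlib
import Cfsg.Agent.Lib.ExtraClass
import Cfsg.Agent.Lib.CoprimeAct
import Cfsg.Agent.Lib.H6Regular

/-! Models of the extraspecial 2-groups: central extensions of a vector space by a bilinear cocycle. -/

set_option autoImplicit false
set_option linter.all false

namespace Cfsg.Agent.Lib.ExtraModel

open Cfsg.Agent.Lib.ExtraPlus Cfsg.Agent.Lib.ExtraIso2 Cfsg.Agent.Lib.ExtraClass
open scoped commutatorElement

/-- From `ES'` to extraspecial. -/
theorem isExtra_of_ES {E : Type*} [Group E] [Finite E] {z : E} (h : ES' z)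
    (hna : ∃ a b : E, a * b ≠ b * a) : Cfsg.IsExtraspecial 2 E := by
  classical
  haveI : Fact (Nat.Prime 2) := ⟨Nat.prime_two⟩
  have hmemc : ∀ g : E, g ∈ Subgroup.center E ↔ g = 1 ∨ g = z := by
    intro g
    constructor
    · intro hg
      exact h.hcenter g (fun k => (Subgroup.mem_center_iff.1 hg k).symm)
    · rintro (rfl | rfl)
      · exact Subgroup.one_mem _
      · rw [Subgroup.mem_center_iff]
        exact fun k => (h.hcen k).symm
  have hP : IsPGroup 2 E := by
    intro g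
    refine ⟨2, ?_⟩
    have h4 : g ^ 2 ^ 2 = (g * g) * (g * g) := by
      simp only [pow_succ, pow_zero, one_mul, mul_assoc, Nat.reducePow]
      norm_num [pow_succ, mul_assoc]
    rw [h4]
    rcases h.hsq g with h1 | h1
    · rw [h1, one_mul]
    · rw [h1, h.hzz]
  have hcard : Nat.card (Subgroup.center E) = 2 := by
    rw [Nat.card_eq_two_iff]
    refine ⟨1, ⟨z, (hmemc z).2 (Or.inr rfl)⟩, ?_, ?_⟩
    · intro e
      exact h.hz1 (congrArg Subtype.val e).symm
    · ext ⟨g, hg⟩
      simp only [Set.mem_insert_iff, Set.mem_singleton_iff, Set.mem_univ, iff_true]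
      rcases (hmemc g).1 hg with rfl | rfl
      · left; rfl
      · right; rfl
  have hc1 : commutator E ≤ Subgroup.center E := by
    unfold _root_.commutator
    rw [Subgroup.commutator_le]
    intro x _ y _
    rw [commutatorElement_def, hmemc]
    exact h.hcom x y
  have hc2 : Subgroup.center E ≤ commutator E := by
    intro g hg
    obtain ⟨a, b, hab⟩ := hna
    have hz : z ∈ commutator E := by
      have h1 : ⁅a, b⁆ ∈ commutator E := Subgroup.commutator_mem_commutator (Subgroup.mem_top a) (Subgroup.mem_top b)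
      rw [commutatorElement_def] at h1
      rcases h.hcom a b with h2 | h2
      · exfalso
        apply hab
        calc a * b = (a * b * a⁻¹ * b⁻¹) * (b * a) := by group
          _ = b * a := by rw [h2, one_mul]
      · rwa [h2] at h1
    rcases (hmemc g).1 hg with rfl | rfl
    · exact Subgroup.one_mem _
    · exact hz
  have hcomm : commutator E = Subgroup.center E := le_antisymm hc1 hc2
  refine ⟨⟨hP, ?_, hcomm⟩, hcard⟩
  apply le_antisymm
  · apply Cfsg.Agent.Lib.CoprimeAct.frattini_le_of_elementary (p := 2)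
    · intro a b
      rw [hmemc]
      exact h.hcom a b
    · intro a
      rw [hmemc, sq]
      exact h.hsq a
  · rw [← hcomm]
    exact Cfsg.Agent.Lib.H6Regular.commutator_le_frattini hP

/-- The central extension attached to a bilinear cocycle. -/
@[ext] structure Coc {V : Type} [AddCommGroup V] (β : V →+ V →+ ZMod 2) where
  v : V
  c : ZMod 2

section coc

variable {V : Type} [AddCommGroup V] {β : V →+ V →+ ZMod 2}

instance : Mul (Coc β) := ⟨fun a b => ⟨a.v + b.v, a.c + b.c + β a.v b.v⟩⟩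
instance : One (Coc β) := ⟨⟨0, 0⟩⟩
instance : Inv (Coc β) := ⟨fun a => ⟨-a.v, -a.c + β a.v a.v⟩⟩

@[simp] theorem mul_v (a b : Coc β) : (a * b).v = a.v + b.v := rfl
@[simp] theorem mul_c (a b : Coc β) : (a * b).c = a.c + b.c + β a.v b.v := rfl
@[simp] theorem one_v : (1 : Coc β).v = 0 := rfl
@[simp] theorem one_c : (1 : Coc β).c = 0 := rfl
@[simp] theorem inv_v (a : Coc β) : (a⁻¹).v = -a.v := rfl
@[simp] theorem inv_c (a : Coc β) : (a⁻¹).c = -a.c + β a.v a.v := rfl

instance : Group (Coc β) := Group.ofLeftAxioms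
  (by
    intro a b c
    ext
    · simp [add_assoc]
    · simp only [mul_c, mul_v, map_add, AddMonoidHom.add_apply]
      ring)
  (by
    intro a
    ext <;> simp)
  (by
    intro a
    ext
    · simp
    · simp only [mul_c, inv_c, inv_v, one_c, map_neg, AddMonoidHom.neg_apply]
      ring)

def cocEquiv : Coc β ≃ V × ZMod 2 where
  toFun a := (a.v, a.c)
  invFun u := ⟨u.1, u.2⟩
  left_inv _ := rfl
  right_inv _ := rfl

instance [Finite V] : Finite (Coc β) := Finite.of_equiv _ cocEquiv.symm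

def zc : Coc β := ⟨0, 1⟩

theorem two_eq (x : ZMod 2) : x + x = 0 := by
  revert x
  decide

theorem key_comm (a b : Coc β) : a * b = (⟨0, β a.v b.v + β b.v a.v⟩ : Coc β) * (b * a) := by
  ext
  · simp [add_comm]
  · simp only [mul_c, mul_v, map_zero, AddMonoidHom.zero_apply, map_add]
    have := two_eq (β b.v a.v)
    linear_combination (-1 : ZMod 2) * this

theorem cases2' (x : ZMod 2) : x = 0 ∨ x = 1 := by
  revert x
  decide

theorem mk_zero_val (x : ZMod 2) : (⟨0, x⟩ : Coc β) = 1 ∨ (⟨0, x⟩ : Coc β) = zc := by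
  rcases cases2' x with rfl | rfl
  · left; rfl
  · right; rfl

theorem comm_iff (a b : Coc β) : a * b = b * a ↔ β a.v b.v + β b.v a.v = 0 := by
  constructor
  · intro h
    have h1 := key_comm a b
    rw [h] at h1
    have h2 := mul_eq_right.1 h1.symm
    exact congrArg Coc.c h2
  · intro h
    rw [key_comm a b, h]
    show (1 : Coc β) * _ = _
    rw [one_mul]

theorem cc_eq (a b : Coc β) : a * b * a⁻¹ * b⁻¹ = ⟨0, β a.v b.v + β b.v a.v⟩ := by
  rw [key_comm a b]
  group

theorem es_coc (hchar : ∀ v : V, v + v = 0) (hnd : ∀ v : V, v ≠ 0 → ∃ w, β v w + β w v ≠ 0) :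
    ES' (zc : Coc β) where
  hz1 h := by
    have : (1 : ZMod 2) = 0 := congrArg Coc.c h
    exact absurd this (by decide)
  hzz := by
    ext
    · simp [zc]
    · simp [zc]
      decide
  hcen g := by
    ext
    · simp [zc]
    · simp [zc]
      ring
  hcenter g hg := by
    have hv : g.v = 0 := by
      by_contra hne
      obtain ⟨w, hw⟩ := hnd _ hne
      apply hw
      exact (comm_iff g ⟨w, 0⟩).1 (hg _)
    have : g = ⟨0, g.c⟩ := by
      ext
      · exact hv
      · rfl
    rw [this]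
    exact mk_zero_val _
  hsq x := by
    have : x * x = ⟨0, β x.v x.v⟩ := by
      ext
      · exact hchar _
      · simp [two_eq]
    rw [this]
    exact mk_zero_val _
  hcom x y := by
    rw [cc_eq]
    exact mk_zero_val _

theorem chi_mk (x : ZMod 2) (hchar : ∀ v : V, v + v = 0) (hnd : ∀ v : V, v ≠ 0 → ∃ w, β v w + β w v ≠ 0) :
    chi (⟨0, x⟩ : Coc β) = sgn x := by
  rcases cases2' x with rfl | rfl
  · have : (⟨0, 0⟩ : Coc β) = 1 := rfl
    rw [this, chi_one]
    rfl
  · have : (⟨0, 1⟩ : Coc β) = zc := rfl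
    rw [this, (es_coc hchar hnd).chi_z]
    rfl

theorem ss_coc (x : Coc β) (hchar : ∀ v : V, v + v = 0) (hnd : ∀ v : V, v ≠ 0 → ∃ w, β v w + β w v ≠ 0) :
    ss x = sgn (β x.v x.v) := by
  have : x * x = ⟨0, β x.v x.v⟩ := by
    ext
    · exact hchar _
    · simp [two_eq]
  rw [ss, this, chi_mk _ hchar hnd]

theorem sum_coc [Fintype V] [Fintype (Coc β)] (hchar : ∀ v : V, v + v = 0) (hnd : ∀ v : V, v ≠ 0 → ∃ w, β v w + β w v ≠ 0) :
    (∑ x : Coc β, ss x) = 2 * ∑ v : V, sgn (β v v) := by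
  classical
  rw [← Equiv.sum_comp (cocEquiv (β := β)).symm]
  simp only [ss_coc _ hchar hnd]
  rw [Fintype.sum_prod_type]
  simp only [cocEquiv, Equiv.coe_fn_symm_mk, Finset.sum_const, Finset.card_univ, ZMod.card, smul_eq_mul]
  simp [Finset.mul_sum]

end coc

/-! ### The concrete forms -/

abbrev VV (m : ℕ) := (Fin m → ZMod 2) × (Fin m → ZMod 2) × ZMod 2 × ZMod 2

def bf {m : ℕ} (ε : ZMod 2) (a b : VV m) : ZMod 2 :=
  ∑ i, a.2.1 i * b.1 i + a.2.2.2 * b.2.2.1 + ε * (a.2.2.1 * b.2.2.1 + a.2.2.2 * b.2.2.2)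

def bm (m : ℕ) (ε : ZMod 2) : VV m →+ VV m →+ ZMod 2 :=
  AddMonoidHom.mk' (fun a => AddMonoidHom.mk' (fun b => bf ε a b) (by
      intro b b'
      simp only [bf, Prod.fst_add, Prod.snd_add, Pi.add_apply, mul_add, Finset.sum_add_distrib]
      ring)) (by
    intro a a'
    apply AddMonoidHom.ext
    intro b
    simp only [AddMonoidHom.mk'_apply, AddMonoidHom.add_apply, bf, Prod.fst_add, Prod.snd_add, Pi.add_apply, add_mul, Finset.sum_add_distrib]
    ring)

theorem bm_apply {m : ℕ} (ε : ZMod 2) (a b : VV m) : bm m ε a b = bf ε a b := rfl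

theorem hchar_VV {m : ℕ} (v : VV m) : v + v = 0 := by
  ext <;> simp [two_eq]

theorem one_ne (x : ZMod 2) (h : x ≠ 0) : x = 1 := (cases2' x).resolve_left h

theorem hnd_VV {m : ℕ} (ε : ZMod 2) (a : VV m) (ha : a ≠ 0) : ∃ b, bm m ε a b + bm m ε b a ≠ 0 := by
  classical
  by_contra hcon
  push Not at hcon
  apply ha
  obtain ⟨x, y, u, w⟩ := a
  have h1 : ∀ i, x i = 0 := by
    intro i
    have := hcon (0, Pi.single i 1, 0, 0)
    simpa [bm_apply, bf, Pi.single_apply] using this
  have h2 : ∀ i, y i = 0 := by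
    intro i
    have := hcon (Pi.single i 1, 0, 0, 0)
    simpa [bm_apply, bf, Pi.single_apply] using this
  have h3 : u = 0 := by
    have := hcon (0, 0, 0, 1)
    simp only [bm_apply, bf] at this
    simp at this
    have h2' := two_eq (ε * w)
    linear_combination this - h2'
  have h4 : w = 0 := by
    have := hcon (0, 0, 1, 0)
    simp only [bm_apply, bf] at this
    simp at this
    have h2' := two_eq (ε * u)
    linear_combination this - h2'
  subst h3 h4
  have e1 : x = 0 := funext h1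
  have e2 : y = 0 := funext h2
  subst e1 e2
  rfl

theorem sgn_add (a b : ZMod 2) : sgn (a + b) = sgn a * sgn b := by
  revert a b
  decide

/-- The sum over the hyperbolic part is positive. -/
theorem FF_pos (m : ℕ) : 0 < ∑ x : Fin m → ZMod 2, ∑ y : Fin m → ZMod 2, sgn (∑ i, y i * x i) := by
  classical
  have hnn : ∀ x : Fin m → ZMod 2, 0 ≤ ∑ y : Fin m → ZMod 2, sgn (∑ i, y i * x i) := by
    intro x
    by_cases hx : x = 0
    · subst hx
      simp [sgn]
    · obtain ⟨i, hi⟩ := Function.ne_iff.1 hx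
      have hi' : x i = 1 := one_ne _ hi
      have h1 : ∑ y : Fin m → ZMod 2, sgn (∑ i, y i * x i) =
          ∑ y : Fin m → ZMod 2, sgn (∑ j, ((y + Pi.single i (1 : ZMod 2) : Fin m → ZMod 2) j) * x j) := by
        let e0 : (Fin m → ZMod 2) ≃ (Fin m → ZMod 2) := Equiv.addRight (Pi.single i (1 : ZMod 2))
        have := Equiv.sum_comp e0 (fun y : Fin m → ZMod 2 => sgn (∑ j, y j * x j))
        exact this.symm
      have h2 : ∀ y : Fin m → ZMod 2, sgn (∑ j, ((y + Pi.single i (1 : ZMod 2) : Fin m → ZMod 2) j) * x j) = - sgn (∑ j, y j * x j) := by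
        intro y
        have e : ∑ j, ((y + Pi.single i (1 : ZMod 2) : Fin m → ZMod 2) j) * x j = ∑ j, y j * x j + 1 := by
          simp only [Pi.add_apply, add_mul, Finset.sum_add_distrib]
          congr 1
          rw [Finset.sum_eq_single i]
          · simp [hi']
          · intro j _ hj
            simp [Pi.single_apply, hj]
          · simp
        rw [e, sgn_add]
        simp [sgn]
      simp only [h2, Finset.sum_neg_distrib] at h1
      have : ∑ y : Fin m → ZMod 2, sgn (∑ i, y i * x i) = 0 := by linarith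
      rw [this]
  have h0 : 0 < ∑ y : Fin m → ZMod 2, sgn (∑ i, y i * (0 : Fin m → ZMod 2) i) := by
    simp [sgn]
  calc 0 < _ := h0
    _ ≤ _ := Finset.single_le_sum (f := fun x : Fin m → ZMod 2 => ∑ y : Fin m → ZMod 2, sgn (∑ i, y i * x i)) (fun x _ => hnn x) (Finset.mem_univ 0)

theorem sum_VV (m : ℕ) (ε : ZMod 2) :
    (∑ v : VV m, sgn (bm m ε v v)) = (∑ x : Fin m → ZMod 2, ∑ y : Fin m → ZMod 2, sgn (∑ i, y i * x i)) *
      (∑ u : ZMod 2, ∑ w : ZMod 2, sgn (w * u + ε * (u * u + w * w))) := by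
  simp only [Fintype.sum_prod_type, bm_apply, bf]
  rw [Finset.sum_mul]
  refine Finset.sum_congr rfl fun x _ => ?_
  rw [Finset.sum_mul]
  refine Finset.sum_congr rfl fun y _ => ?_
  rw [Finset.mul_sum]
  refine Finset.sum_congr rfl fun u _ => ?_
  rw [Finset.mul_sum]
  refine Finset.sum_congr rfl fun w _ => ?_
  rw [add_assoc, sgn_add]

theorem GG0 : (∑ u : ZMod 2, ∑ w : ZMod 2, sgn (w * u + (0 : ZMod 2) * (u * u + w * w))) = 2 := by decide
theorem GG1 : (∑ u : ZMod 2, ∑ w : ZMod 2, sgn (w * u + (1 : ZMod 2) * (u * u + w * w))) = -2 := by decide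

theorem card_model (m : ℕ) (ε : ZMod 2) : Nat.card (Coc (bm m ε)) = 2 ^ (2 * (m + 1) + 1) := by
  rw [Nat.card_congr cocEquiv, Nat.card_prod, Nat.card_prod, Nat.card_prod, Nat.card_prod, Nat.card_fun, Nat.card_zmod, Nat.card_fin]
  ring

theorem es_model (m : ℕ) (ε : ZMod 2) : ES' (zc : Coc (bm m ε)) := es_coc hchar_VV (hnd_VV ε)

theorem extra_model (m : ℕ) (ε : ZMod 2) : Cfsg.IsExtraspecial 2 (Coc (bm m ε)) := by
  apply isExtra_of_ES (es_model m ε)
  have h : ((0, 0, 1, 0) : VV m) ≠ 0 := by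
    intro e
    have : (1 : ZMod 2) = 0 := congrArg (fun v : VV m => v.2.2.1) e
    exact absurd this (by decide)
  obtain ⟨w, hw⟩ := hnd_VV ε _ h
  refine ⟨⟨(0, 0, 1, 0), 0⟩, ⟨w, 0⟩, ?_⟩
  intro e
  exact hw ((comm_iff _ _).1 e)

/-- The supremum of the ranks. -/
theorem sSup_eq {E : Type} [Group E] (r : ℕ) (hA : ∃ A : Subgroup E, Cfsg.IsElementaryAbelian 2 A ∧ Nat.card A = 2 ^ r)
    (hle : Cfsg.PRankLE 2 r E) : sSup {k : ℕ | ∃ A : Subgroup E, Cfsg.IsElementaryAbelian 2 A ∧ Nat.card A = 2 ^ k} = r := by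
  apply IsGreatest.csSup_eq
  refine ⟨hA, ?_⟩
  rintro k ⟨A, ⟨h1, h2⟩, h3⟩
  have := hle A h1 h2
  rw [h3] at this
  exact (Nat.pow_le_pow_iff_right (by norm_num)).1 this

theorem exists_model (n : ℕ) (hn : 1 ≤ n) : ∀ r ∈ ({n, n + 1} : Set ℕ), ∃ (E : Type) (_ : Group E) (_ : Finite E),
    Cfsg.IsExtraspecial 2 E ∧ Nat.card E = 2 ^ (2 * n + 1) ∧
      sSup {k : ℕ | ∃ A : Subgroup E, Cfsg.IsElementaryAbelian 2 A ∧ Nat.card A = 2 ^ k} = r := by
  classical
  obtain ⟨m, rfl⟩ : ∃ m, n = m + 1 := ⟨n - 1, by omega⟩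
  have hF := FF_pos m
  intro r hr
  rcases hr with rfl | hr
  · -- minus type
    refine ⟨Coc (bm m 1), inferInstance, inferInstance, extra_model m 1, card_model m 1, ?_⟩
    letI : Fintype (Coc (bm m 1)) := Fintype.ofFinite _
    have hc : Fintype.card (Coc (bm m 1)) = 2 ^ (2 * (m + 1) + 1) := by
      rw [← Nat.card_eq_fintype_card, card_model]
    have hs : (∑ x : Coc (bm m 1), ss x) = 2 * ((∑ x : Fin m → ZMod 2, ∑ y : Fin m → ZMod 2, sgn (∑ i, y i * x i)) * (-2)) := by
      rw [sum_coc hchar_VV (hnd_VV 1), sum_VV, GG1]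
    have hneg : (∑ x : Coc (bm m 1), ss x) < 0 := by
      rw [hs]
      linarith
    rcases rank_form (extra_model m 1) (m + 1) (card_model m 1) (es_model m 1) hc with ⟨h0, -, -⟩ | ⟨h0, h1, -⟩
    · rw [h0] at hneg
      have : (0 : ℤ) < 2 ^ (m + 1 + 1) := by positivity
      linarith
    · apply sSup_eq _ _ h1
      obtain ⟨A0, hc1, hc2, hA⟩ := exists_abelian _ (es_model m 1) rfl
      rcases hA with ⟨h3, -⟩ | ⟨-, h3⟩
      · linarith
      · refine ⟨A0, ⟨⟨⟨fun a b => Subtype.ext (hc1 _ a.2 _ b.2)⟩⟩, fun a ha => by rw [sq]; exact hc2 a ha⟩, ?_⟩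
        rw [h0] at h3
        have e : (2 : ℤ) * (Nat.card A0 : ℤ) = 2 * 2 ^ (m + 1) := by
          rw [h3]
          ring
        have e2 : (Nat.card A0 : ℤ) = 2 ^ (m + 1) := by linarith
        exact_mod_cast e2
  · -- plus type
    have hr' : r = m + 1 + 1 := hr
    subst hr'
    refine ⟨Coc (bm m 0), inferInstance, inferInstance, extra_model m 0, card_model m 0, ?_⟩
    letI : Fintype (Coc (bm m 0)) := Fintype.ofFinite _
    have hc : Fintype.card (Coc (bm m 0)) = 2 ^ (2 * (m + 1) + 1) := by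
      rw [← Nat.card_eq_fintype_card, card_model]
    have hs : (∑ x : Coc (bm m 0), ss x) = 2 * ((∑ x : Fin m → ZMod 2, ∑ y : Fin m → ZMod 2, sgn (∑ i, y i * x i)) * 2) := by
      rw [sum_coc hchar_VV (hnd_VV 0), sum_VV, GG0]
    have hpos : 0 < (∑ x : Coc (bm m 0), ss x) := by
      rw [hs]
      linarith
    rcases rank_form (extra_model m 0) (m + 1) (card_model m 0) (es_model m 0) hc with ⟨h0, h1, -⟩ | ⟨h0, -, -⟩
    · apply sSup_eq _ _ h1
      obtain ⟨A0, hc1, hc2, hA⟩ := exists_abelian _ (es_model m 0) rfl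
      rcases hA with ⟨-, h3⟩ | ⟨h3, -⟩
      · refine ⟨A0, ⟨⟨⟨fun a b => Subtype.ext (hc1 _ a.2 _ b.2)⟩⟩, fun a ha => by rw [sq]; exact hc2 a ha⟩, ?_⟩
        rw [h0] at h3
        exact_mod_cast h3
      · linarith
    · rw [h0] at hpos
      have : (0 : ℤ) < 2 ^ (m + 1 + 1) := by positivity
      linarith

end Cfsg.Agent.Lib.ExtraModel
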