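/-
A concrete model of the field with four elements, for kernel computations.
-/
import Mathlib

set_option autoImplicit false
set_option linter.all false

namespace Cfsg.Agent.Lib.F4Model

/-- The field with four elements: `0, 1, ω, ω + 1`. -/
inductive K4 : Type
  | o | i | w | v
  deriving DecidableEq, Repr

namespace K4

instance : Fintype K4 := ⟨{o, i, w, v}, by intro x; cases x <;> decide⟩

def add : K4 → K4 → K4
  | o, x => x
  | x, o => x
  | i, i => o
  | i, w => v
  | i, v => w
  | w, i => v
  | w, w => o
  | w, v => i
  | v, i => w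
  | v, w => i
  | v, v => o

def mul : K4 → K4 → K4
  | o, _ => o
  | _, o => o
  | i, x => x
  | x, i => x
  | w, w => v
  | w, v => i
  | v, w => i
  | v, v => w

def inv : K4 → K4
  | o => o
  | i => i
  | w => v
  | v => w

instance : Add K4 := ⟨add⟩
instance : Mul K4 := ⟨mul⟩
instance : Zero K4 := ⟨o⟩
instance : One K4 := ⟨i⟩
instance : Neg K4 := ⟨id⟩
instance : Inv K4 := ⟨inv⟩
instance : Sub K4 := ⟨add⟩

theorem add_assoc' : ∀ a b c : K4, a + b + c = a + (b + c) := by decide
theorem zero_add' : ∀ a : K4, 0 + a = a := by decide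
theorem add_zero' : ∀ a : K4, a + 0 = a := by decide
theorem add_comm' : ∀ a b : K4, a + b = b + a := by decide
theorem neg_add_cancel' : ∀ a : K4, -a + a = 0 := by decide
theorem mul_assoc' : ∀ a b c : K4, a * b * c = a * (b * c) := by decide
theorem one_mul' : ∀ a : K4, 1 * a = a := by decide
theorem mul_one' : ∀ a : K4, a * 1 = a := by decide
theorem mul_comm' : ∀ a b : K4, a * b = b * a := by decide
theorem zero_mul' : ∀ a : K4, 0 * a = 0 := by decide
theorem mul_zero' : ∀ a : K4, a * 0 = 0 := by decide
theorem left_distrib' : ∀ a b c : K4, a * (b + c) = a * b + a * c := by decide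
theorem right_distrib' : ∀ a b c : K4, (a + b) * c = a * c + b * c := by decide
theorem sub_eq' : ∀ a b : K4, a - b = a + -b := by decide
theorem mul_inv' : ∀ a : K4, a ≠ 0 → a * a⁻¹ = 1 := by decide

instance : Field K4 where
  add_assoc := add_assoc'
  zero_add := zero_add'
  add_zero := add_zero'
  add_comm := add_comm'
  nsmul := nsmulRec
  zsmul := zsmulRec
  neg_add_cancel := neg_add_cancel'
  sub_eq_add_neg := sub_eq'
  mul_assoc := mul_assoc'
  one_mul := one_mul'
  mul_one := mul_one'
  mul_comm := mul_comm'
  zero_mul := zero_mul'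
  mul_zero := mul_zero'
  left_distrib := left_distrib'
  right_distrib := right_distrib'
  exists_pair_ne := ⟨o, i, by decide⟩
  mul_inv_cancel := mul_inv'
  inv_zero := rfl
  nnqsmul := _
  qsmul := _

theorem card_eq : Fintype.card K4 = 4 := rfl

end K4

/-- Any field with four elements is the model. -/
noncomputable def equivK4 {F : Type*} [Field F] [Fintype F] (hF : Fintype.card F = 4) : F ≃+* K4 :=
  FiniteField.ringEquivOfCardEq (by rw [hF, K4.card_eq])

end Cfsg.Agent.Lib.F4Model
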