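import Mathlib

set_option autoImplicit false
set_option linter.unusedVariables false
set_option linter.style.haveILetI false
set_option linter.unusedSectionVars false

namespace Cfsg.Agent.Lib.FpfFour

open Subgroup
open scoped commutatorElement

universe u

/-- Frobenius-type trick: a group `Q` of automorphisms normalised by `S`, with all the powers of `S`
fixed point free on `Q`, acts trivially on any invariant subgroup where the trace of `S` vanishes. -/
theorem key {V : Type*} [CommGroup V] [Finite V] (Q : Subgroup (MulAut V)) (S : MulAut V)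
    (W : Subgroup V) (m : ℕ)
    (hQS : ∀ x ∈ Q, S * x * S⁻¹ ∈ Q)
    (hfix : ∀ i, 0 < i → i < m + 1 → ∀ x ∈ Q, S ^ i * x * (S ^ i)⁻¹ = x → x = 1)
    (hQW : ∀ x ∈ Q, ∀ w ∈ W, x w ∈ W)
    (htr : ∀ w ∈ W, ∏ i ∈ Finset.range (m + 1), (S ^ i) w = 1)
    (hcop : ∀ v : V, v ^ Nat.card Q = 1 → v = 1) :
    ∀ x ∈ Q, ∀ w ∈ W, x w = w := by
  classical
  cases nonempty_fintype Q
  have hpow : ∀ i : ℕ, ∀ x ∈ Q, S ^ i * x * (S ^ i)⁻¹ ∈ Q := by
    intro i
    induction i with
    | zero => intro x hx; simpa using hx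
    | succ i ih =>
      intro x hx
      have := hQS _ (ih x hx)
      have e : S ^ (i + 1) * x * (S ^ (i + 1))⁻¹ = S * (S ^ i * x * (S ^ i)⁻¹) * S⁻¹ := by
        rw [pow_succ']; group
      rw [e]; exact this
  -- the map `E`
  let E : V → V := fun u => ∏ y : Q, (y : MulAut V) u
  have hEprod : ∀ (s : Finset ℕ) (g : ℕ → V), E (∏ i ∈ s, g i) = ∏ i ∈ s, E (g i) := by
    intro s g
    simp only [E, map_prod]
    exact Finset.prod_comm
  have hEone : E 1 = 1 := by simp [E]
  have hEleft : ∀ (y₀ : Q) (u : V), (y₀ : MulAut V) (E u) = E u := by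
    intro y₀ u
    simp only [E, map_prod]
    have : ∀ y : Q, (y₀ : MulAut V) ((y : MulAut V) u) = ((y₀ * y : Q) : MulAut V) u := by
      intro y; simp [MulAut.mul_apply]
    simp only [this]
    exact Equiv.prod_comp (Equiv.mulLeft y₀) (fun y : Q => (y : MulAut V) u)
  -- the bijection
  have hbij : ∀ i, 0 < i → i < m + 1 → ∀ u : V,
      ∏ x : Q, ((x : MulAut V) * (S ^ i * (x : MulAut V) * (S ^ i)⁻¹)⁻¹) u = E u := by
    intro i hi0 hi u
    let φ : Q → Q := fun x => x * (⟨S ^ i * (x : MulAut V) * (S ^ i)⁻¹, hpow i x x.2⟩ : Q)⁻¹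
    have hinj : Function.Injective φ := by
      intro x y hxy
      have h1 : ((x : MulAut V)) * (S ^ i * (x : MulAut V) * (S ^ i)⁻¹)⁻¹ =
          ((y : MulAut V)) * (S ^ i * (y : MulAut V) * (S ^ i)⁻¹)⁻¹ := by
        have := congrArg (Subtype.val) hxy
        simpa [φ] using this
      have h2 : S ^ i * ((y : MulAut V)⁻¹ * (x : MulAut V)) * (S ^ i)⁻¹ =
          (y : MulAut V)⁻¹ * (x : MulAut V) := by
        have h3 : (y : MulAut V)⁻¹ * (x : MulAut V) =
            (S ^ i * (y : MulAut V) * (S ^ i)⁻¹)⁻¹ * (S ^ i * (x : MulAut V) * (S ^ i)⁻¹) := by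
          have aux : ∀ a b c d : MulAut V, a * c⁻¹ = b * d⁻¹ → b⁻¹ * a = d⁻¹ * c := by
            intro a b c d h
            have : a = b * d⁻¹ * c := by rw [← h]; group
            rw [this]; group
          exact aux _ _ _ _ h1
        have h6 : S ^ i * ((y : MulAut V)⁻¹ * (x : MulAut V)) * (S ^ i)⁻¹ =
            (S ^ i * (y : MulAut V) * (S ^ i)⁻¹)⁻¹ * (S ^ i * (x : MulAut V) * (S ^ i)⁻¹) := by
          group
        rw [h6, ← h3]
      have h5 := hfix i hi0 hi _ (Q.mul_mem (Q.inv_mem y.2) x.2) h2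
      apply Subtype.ext
      rw [inv_mul_eq_one] at h5
      exact h5.symm
    have hb : Function.Bijective φ := Finite.injective_iff_bijective.1 hinj
    have : ∀ x : Q, ((x : MulAut V) * (S ^ i * (x : MulAut V) * (S ^ i)⁻¹)⁻¹) u = ((φ x : Q) : MulAut V) u := by
      intro x; simp [φ]
    simp only [this]
    exact Function.Bijective.prod_comp hb (fun y : Q => (y : MulAut V) u)
  have main : ∀ w ∈ W, w ^ Nat.card Q = E w := by
    intro w hw
    have h1 : ∏ x : Q, ∏ i ∈ Finset.range (m + 1),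
        (x : MulAut V) ((S ^ i) ((x : MulAut V)⁻¹ w)) = 1 := by
      apply Finset.prod_eq_one
      intro x _
      rw [← map_prod, htr _ (hQW _ (Q.inv_mem x.2) w hw), map_one]
    have h2 : ∀ (x : Q) (i : ℕ), (x : MulAut V) ((S ^ i) ((x : MulAut V)⁻¹ w)) =
        ((x : MulAut V) * (S ^ i * (x : MulAut V) * (S ^ i)⁻¹)⁻¹) ((S ^ i) w) := by
      intro x i
      simp [MulAut.mul_apply, mul_inv_rev]
    rw [Finset.prod_comm, Finset.prod_range_succ'] at h1
    have h3 : ∏ x : Q, (x : MulAut V) ((S ^ 0) ((x : MulAut V)⁻¹ w)) = w ^ Nat.card Q := by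
      simp [Nat.card_eq_fintype_card]
    have h4 : ∀ i ∈ Finset.range m, ∏ x : Q, (x : MulAut V) ((S ^ (i + 1)) ((x : MulAut V)⁻¹ w))
        = E ((S ^ (i + 1)) w) := by
      intro i hi
      simp only [h2]
      exact hbij (i + 1) (Nat.succ_pos _) (by have := Finset.mem_range.1 hi; omega) _
    rw [h3, Finset.prod_congr rfl h4] at h1
    have h5 : E (∏ i ∈ Finset.range (m + 1), (S ^ i) w) = 1 := by rw [htr w hw, hEone]
    rw [hEprod, Finset.prod_range_succ'] at h5
    have h6 : (S ^ 0) w = w := by simp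
    rw [h6] at h5
    exact mul_left_cancel (h1.trans h5.symm)
  intro x hx w hw
  have h1 : ((x w) * w⁻¹) ^ Nat.card Q = 1 := by
    rw [mul_pow, inv_pow, ← map_pow, main w hw]
    have := hEleft ⟨x, hx⟩ w
    simp only at this
    rw [this]; simp
  have h2 := hcop _ h1
  exact mul_inv_eq_one.1 h2

theorem abelian_exp_of_minimal {H : Type*} [Group H] [Finite H] (𝒜 : Set (MulAut H)) (K : Subgroup H)
    (hsol : Group.IsSolvable K) (hne : K ≠ ⊥)
    (hinv : ∀ α ∈ 𝒜, ∀ x ∈ K, α x ∈ K)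
    (hmin : ∀ L : Subgroup H, L ≤ K → L ≠ ⊥ → (∀ α ∈ 𝒜, ∀ x ∈ L, α x ∈ L) → L = K) :
    (∀ a ∈ K, ∀ b ∈ K, a * b = b * a) ∧ ∃ p : ℕ, p.Prime ∧ ∀ a ∈ K, a ^ p = 1 := by
  classical
  have hnt : Nontrivial K := (Subgroup.nontrivial_iff_ne_bot K).2 hne
  have hc : ⁅K, K⁆ ≠ K := by
    intro h
    have h1 : commutator K < ⊤ := Group.IsSolvable.commutator_lt_top_of_nontrivial K
    have h2 : (commutator K).map K.subtype = ⁅K, K⁆ := Subgroup.map_subtype_commutator K
    apply h1.ne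
    apply Subgroup.map_injective K.subtype_injective
    rw [h2, h, ← MonoidHom.range_eq_map, Subgroup.range_subtype]
  have hcb : ⁅K, K⁆ = ⊥ := by
    by_contra hb
    apply hc
    apply hmin _ (Subgroup.commutator_le.2 fun a ha b hb =>
      K.mul_mem (K.mul_mem (K.mul_mem ha hb) (K.inv_mem ha)) (K.inv_mem hb)) hb
    intro α hα x hx
    have h1 : (⁅K, K⁆).map α.toMonoidHom ≤ ⁅K, K⁆ := by
      rw [Subgroup.map_commutator]
      have : K.map α.toMonoidHom ≤ K := by
        rintro _ ⟨y, hy, rfl⟩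
        exact hinv α hα y hy
      exact Subgroup.commutator_mono this this
    exact h1 ⟨x, hx, rfl⟩
  have hcomm : ∀ a ∈ K, ∀ b ∈ K, a * b = b * a := by
    intro a ha b hb
    have : ⁅a, b⁆ ∈ ⁅K, K⁆ := Subgroup.commutator_mem_commutator ha hb
    rw [hcb, Subgroup.mem_bot] at this
    exact commutatorElement_eq_one_iff_mul_comm.1 this
  refine ⟨hcomm, ?_⟩
  obtain ⟨x, hxK, hx1⟩ := (Subgroup.bot_or_exists_ne_one K).resolve_left hne
  obtain ⟨p, hp, hpd⟩ := Nat.exists_prime_and_dvd (n := orderOf x) (by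
    rw [Ne, orderOf_eq_one_iff]; exact hx1)
  refine ⟨p, hp, ?_⟩
  let L : Subgroup H :=
    { carrier := {y | y ∈ K ∧ y ^ p = 1}
      mul_mem' := by
        rintro a b ⟨ha, ha'⟩ ⟨hb, hb'⟩
        refine ⟨K.mul_mem ha hb, ?_⟩
        have : Commute a b := hcomm a ha b hb
        rw [this.mul_pow, ha', hb', one_mul]
      one_mem' := ⟨K.one_mem, one_pow _⟩
      inv_mem' := by
        rintro a ⟨ha, ha'⟩
        exact ⟨K.inv_mem ha, by rw [inv_pow, ha', inv_one]⟩ }
  have hLK : L ≤ K := fun y hy => hy.1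
  have hLne : L ≠ ⊥ := by
    intro hb
    obtain ⟨k, hk⟩ := hpd
    have hk1 : x ^ k ≠ 1 := by
      intro h
      have := orderOf_dvd_of_pow_eq_one h
      have hk0 : 0 < k := by
        rcases Nat.eq_zero_or_pos k with h0 | h0
        · subst h0
          simp at hk
          exact absurd (isOfFinOrder_of_finite x) hk
        · exact h0
      have := Nat.le_of_dvd hk0 this
      rw [hk] at this
      have := hp.two_le
      nlinarith
    have : x ^ k ∈ L := ⟨K.pow_mem hxK k, by rw [← pow_mul, mul_comm, ← hk, pow_orderOf_eq_one]⟩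
    rw [hb, Subgroup.mem_bot] at this
    exact hk1 this
  have hLeq : L = K := by
    apply hmin L hLK hLne
    rintro α hα y ⟨hy, hy'⟩
    exact ⟨hinv α hα y hy, by rw [← map_pow, hy', map_one]⟩
  intro a ha
  rw [← hLeq] at ha
  exact ha.2

theorem pow_conj_mem {V : Type*} [Group V] (S : MulAut V) (L : Subgroup (MulAut V))
    (hL : ∀ x ∈ L, S * x * S⁻¹ ∈ L) (i : ℕ) : ∀ x ∈ L, S ^ i * x * (S ^ i)⁻¹ ∈ L := by
  induction i with
  | zero => intro x hx; simpa using hx
  | succ i ih =>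
    intro x hx
    have := hL _ (ih x hx)
    have e : S ^ (i + 1) * x * (S ^ (i + 1))⁻¹ = S * (S ^ i * x * (S ^ i)⁻¹) * S⁻¹ := by
      rw [pow_succ']; group
    rw [e]; exact this

theorem inv_conj_mem {V : Type*} [Group V] (S : MulAut V) (hS4 : S ^ 4 = 1) (L : Subgroup (MulAut V))
    (hL : ∀ x ∈ L, S * x * S⁻¹ ∈ L) : ∀ x ∈ L, S⁻¹ * x * S ∈ L := by
  intro x hx
  have h := pow_conj_mem S L hL 3 x hx
  have h3 : S ^ 3 = S⁻¹ := by
    rw [eq_inv_iff_mul_eq_one, ← pow_succ, hS4]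
  rw [h3, inv_inv] at h
  exact h

theorem core {V : Type*} [Group V] [Finite V] (hV : ∀ a b : V, a * b = b * a)
    (r : ℕ) (hr : r.Prime) (hexp : ∀ v : V, v ^ r = 1)
    (S : MulAut V) (hS4 : S ^ 4 = 1) (hfix : ∀ v, S v = v → v = 1)
    (A : Subgroup (MulAut V)) (hsol : Group.IsSolvable A) (hodd : Odd (Nat.card A))
    (hSA : ∀ a ∈ A, S * a * S⁻¹ ∈ A) (hfixA : ∀ a ∈ A, S * a * S⁻¹ = a → a = 1)
    (hirr : ∀ W : Subgroup V, (∀ a ∈ A, ∀ w ∈ W, a w ∈ W) → (∀ w ∈ W, S w ∈ W) → W = ⊥ ∨ W = ⊤) :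
    ∀ a ∈ A, ∀ b ∈ A, a * b = b * a := by
  classical
  letI : CommGroup V := { (inferInstance : Group V) with mul_comm := hV }
  by_cases hAb : A = ⊥
  · intro a ha b hb
    rw [hAb, Subgroup.mem_bot] at ha hb
    rw [ha, hb]
  -- a minimal invariant subgroup of `A`
  let 𝒜 : Set (MulAut (MulAut V)) := {α | (∃ a ∈ A, α = MulAut.conj a) ∨ α = MulAut.conj S}
  let P : Subgroup (MulAut V) → Prop := fun L => L ≤ A ∧ L ≠ ⊥ ∧ ∀ α ∈ 𝒜, ∀ x ∈ L, α x ∈ L
  have hPA : P A := by
    refine ⟨le_rfl, hAb, ?_⟩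
    rintro α (⟨a, ha, rfl⟩ | rfl) x hx
    · simpa [MulAut.conj_apply] using A.mul_mem (A.mul_mem ha hx) (A.inv_mem ha)
    · simpa [MulAut.conj_apply] using hSA x hx
  obtain ⟨Z, hZ⟩ := exists_minimal_of_wellFoundedLT P ⟨A, hPA⟩
  obtain ⟨hZA, hZne, hZinv⟩ := hZ.1
  have hZsol : Group.IsSolvable Z :=
    Group.isSolvable_of_isSolvable_injective (f := Subgroup.inclusion hZA) (Subgroup.inclusion_injective hZA)
  obtain ⟨hZcomm, s, hs, hZexp⟩ := abelian_exp_of_minimal 𝒜 Z hZsol hZne hZinv (by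
    intro L hLZ hLne hLinv
    exact le_antisymm hLZ (hZ.2 ⟨hLZ.trans hZA, hLne, hLinv⟩ hLZ))
  have hZS : ∀ z ∈ Z, S * z * S⁻¹ ∈ Z := by
    intro z hz
    simpa [MulAut.conj_apply] using hZinv (MulAut.conj S) (Or.inr rfl) z hz
  have hZa : ∀ a ∈ A, ∀ z ∈ Z, a * z * a⁻¹ ∈ Z := by
    intro a ha z hz
    simpa [MulAut.conj_apply] using hZinv (MulAut.conj a) (Or.inl ⟨a, ha, rfl⟩) z hz
  have hZS' := inv_conj_mem S hS4 Z hZS
  -- the fixed subgroup of `Z`
  let CZ : Subgroup V :=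
    { carrier := {v | ∀ z ∈ Z, z v = v}
      mul_mem' := by
        intro a b ha hb z hz
        rw [map_mul, ha z hz, hb z hz]
      one_mem' := by
        intro z hz
        exact map_one z
      inv_mem' := by
        intro a ha z hz
        rw [map_inv, ha z hz] }
  have hCZ : CZ = ⊥ := by
    have hi1 : ∀ a ∈ A, ∀ w ∈ CZ, a w ∈ CZ := by
      intro a ha v hv z hz
      have h1 : a⁻¹ * z * a ∈ Z := by
        simpa using hZa a⁻¹ (A.inv_mem ha) z hz
      have h2 := hv _ h1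
      have h3 : z (a v) = a ((a⁻¹ * z * a) v) := by
        simp [MulAut.mul_apply]
      rw [h3, h2]
    have hi2 : ∀ w ∈ CZ, S w ∈ CZ := by
      intro v hv z hz
      have h2 := hv _ (hZS' z hz)
      have h3 : z (S v) = S ((S⁻¹ * z * S) v) := by
        simp [MulAut.mul_apply]
      rw [h3, h2]
    rcases hirr CZ hi1 hi2 with h | h
    · exact h
    · exfalso
      apply hZne
      rw [eq_bot_iff]
      intro z hz
      rw [Subgroup.mem_bot]
      ext v
      have : v ∈ CZ := by rw [h]; trivial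
      simpa using this z hz
  have hZne1 : ∀ v : V, (∀ z ∈ Z, z v = v) → v = 1 := by
    intro v hv
    have : v ∈ CZ := hv
    rw [hCZ, Subgroup.mem_bot] at this
    exact this
  -- `s ≠ r`
  have hsr : s ≠ r := by
    intro hsr
    subst hsr
    haveI : Fact s.Prime := ⟨hs⟩
    have hZp : IsPGroup s Z := by
      intro z
      exact ⟨1, by
        apply Subtype.ext
        simpa using hZexp z.1 z.2⟩
    have hVp : IsPGroup s V := fun v => ⟨1, by simpa using hexp v⟩
    have hVnt : Nontrivial V := by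
      by_contra hnt
      rw [not_nontrivial_iff_subsingleton] at hnt
      apply hAb
      rw [eq_bot_iff]
      intro a _
      rw [Subgroup.mem_bot]
      ext v
      exact Subsingleton.elim _ _
    obtain ⟨n, hn0, hn⟩ := hVp.nontrivial_iff_card.1 hVnt
    have hmod := hZp.card_modEq_card_fixedPoints V
    have hd : s ∣ Nat.card (MulAction.fixedPoints Z V) := by
      have h1 : s ∣ Nat.card V := by rw [hn]; exact dvd_pow_self _ hn0.ne'
      exact (Nat.modEq_zero_iff_dvd.1 (hmod.symm.trans (Nat.modEq_zero_iff_dvd.2 h1)))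
    have h1fix : (1 : V) ∈ MulAction.fixedPoints Z V := by
      intro z
      exact map_one z.1
    have huniq : ∀ x : MulAction.fixedPoints Z V, x = ⟨1, h1fix⟩ := by
      intro x
      apply Subtype.ext
      apply hZne1
      intro z hz
      exact x.2 ⟨z, hz⟩
    have hcard : Nat.card (MulAction.fixedPoints Z V) = 1 :=
      Nat.card_eq_one_iff_unique.2 ⟨⟨fun a b => by rw [huniq a, huniq b]⟩, ⟨⟨1, h1fix⟩⟩⟩
    rw [hcard] at hd
    exact hs.one_lt.ne' (Nat.dvd_one.1 hd)
  -- coprimality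
  have hcopG : ∀ Q : Subgroup (MulAut V), Q ≤ Z → ∀ v : V, v ^ Nat.card Q = 1 → v = 1 := by
    intro Q hQZ v hv
    haveI : Fact s.Prime := ⟨hs⟩
    have hQp : IsPGroup s Q := by
      intro z
      exact ⟨1, by
        apply Subtype.ext
        simpa using hZexp z.1 (hQZ z.2)⟩
    obtain ⟨k, hk⟩ := IsPGroup.iff_card.1 hQp
    rw [hk] at hv
    have hc : Nat.Coprime (s ^ k) r := Nat.Coprime.pow_left _ ((Nat.coprime_primes hs hr).2 hsr)
    have h1 := pow_gcd_eq_one.2 ⟨hv, hexp v⟩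
    rw [Nat.Coprime.gcd_eq_one hc, pow_one] at h1
    exact h1
  have hodd2 : ∀ x ∈ A, x ^ 2 = 1 → x = 1 := by
    intro x hx h2
    have h1 : orderOf x ∣ 2 := orderOf_dvd_of_pow_eq_one h2
    have h3 : orderOf (⟨x, hx⟩ : A) ∣ Nat.card A := orderOf_dvd_natCard _
    have h4 : orderOf x ∣ Nat.card A := by
      rwa [Subgroup.orderOf_mk] at h3
    have h5 : Odd (orderOf x) := Odd.of_dvd_nat hodd h4
    rcases (Nat.dvd_prime Nat.prime_two).1 h1 with h | h
    · exact orderOf_eq_one_iff.1 h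
    · rw [h] at h5; exact absurd h5 (by decide)
  have hτ2 : S ^ 2 * S ^ 2 = 1 := by rw [← pow_add]; exact hS4
  have hτinvE : (S ^ 2)⁻¹ = S ^ 2 := by
    rw [inv_eq_iff_mul_eq_one]; exact hτ2
  -- step 1: `τ` centralises `Z`
  let D : Subgroup (MulAut V) :=
    { carrier := {x | x ∈ Z ∧ S ^ 2 * x * (S ^ 2)⁻¹ = x⁻¹}
      mul_mem' := by
        rintro a b ⟨ha, ha'⟩ ⟨hb, hb'⟩
        refine ⟨Z.mul_mem ha hb, ?_⟩
        have : S ^ 2 * (a * b) * (S ^ 2)⁻¹ = (S ^ 2 * a * (S ^ 2)⁻¹) * (S ^ 2 * b * (S ^ 2)⁻¹) := by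
          group
        rw [this, ha', hb', mul_inv_rev, hZcomm _ (Z.inv_mem ha) _ (Z.inv_mem hb)]
      one_mem' := ⟨Z.one_mem, by simp⟩
      inv_mem' := by
        rintro a ⟨ha, ha'⟩
        refine ⟨Z.inv_mem ha, ?_⟩
        have : S ^ 2 * a⁻¹ * (S ^ 2)⁻¹ = (S ^ 2 * a * (S ^ 2)⁻¹)⁻¹ := by group
        rw [this, ha'] }
  have hDZ : D ≤ Z := fun x hx => hx.1
  have hDtriv : ∀ x ∈ D, x = 1 := by
    intro x hx
    have hkey := key D S ⊤ 3
      (by
        rintro y ⟨hy, hy'⟩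
        refine ⟨hZS y hy, ?_⟩
        have : S ^ 2 * (S * y * S⁻¹) * (S ^ 2)⁻¹ = S * (S ^ 2 * y * (S ^ 2)⁻¹) * S⁻¹ := by
          group
        rw [this, hy']; group)
      (by
        intro i hi0 hi y hy hyy
        have hyA : y ∈ A := hZA (hDZ hy)
        have hi' : i = 1 ∨ i = 2 ∨ i = 3 := by omega
        rcases hi' with rfl | rfl | rfl
        · apply hfixA y hyA
          simpa using hyy
        · apply hodd2 y hyA
          have h2 := hy.2
          rw [hyy] at h2
          rw [pow_two]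
          exact mul_eq_one_iff_eq_inv.2 h2
        · apply hfixA y hyA
          have h1 : S * (S ^ 3 * y * (S ^ 3)⁻¹) * S⁻¹ = S ^ 4 * y * (S ^ 4)⁻¹ := by
            rw [show (4 : ℕ) = 3 + 1 from rfl, pow_succ']; group
          rw [hyy, hS4] at h1
          simpa using h1)
      (by intro y hy w hw; trivial)
      (by
        intro w hw
        apply hfix
        simp only [Finset.prod_range_succ, Finset.prod_range_zero, one_mul, map_mul]
        have h4 : (S * S ^ 3) w = w := by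
          rw [← pow_succ', hS4]; rfl
        have e1 : S ((S ^ 0) w) = (S ^ 1) w := by simp
        have e2 : S ((S ^ 1) w) = (S ^ 2) w := by
          rw [pow_succ' S 1]; rfl
        have e3 : S ((S ^ 2) w) = (S ^ 3) w := by
          rw [pow_succ' S 2]; rfl
        have e4 : S ((S ^ 3) w) = (S ^ 0) w := by
          simpa using h4
        rw [e1, e2, e3, e4]
        rw [mul_comm ((S ^ 1) w * (S ^ 2) w * (S ^ 3) w) ((S ^ 0) w)]
        simp only [mul_assoc])
      (hcopG D hDZ)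
    ext v
    simpa using hkey x hx v trivial
  have hτZ : ∀ z ∈ Z, S ^ 2 * z * (S ^ 2)⁻¹ = z := by
    intro z hz
    have hτz : S ^ 2 * z * (S ^ 2)⁻¹ ∈ Z := pow_conj_mem S Z hZS 2 z hz
    have hy : z * (S ^ 2 * z * (S ^ 2)⁻¹)⁻¹ ∈ D := by
      refine ⟨Z.mul_mem hz (Z.inv_mem hτz), ?_⟩
      have h1 : S ^ 2 * (z * (S ^ 2 * z * (S ^ 2)⁻¹)⁻¹) * (S ^ 2)⁻¹ =
          (S ^ 2 * z * (S ^ 2)⁻¹) * (S ^ 2 * S ^ 2 * z⁻¹ * (S ^ 2 * S ^ 2)⁻¹) := by
        group
      rw [h1, hτ2]
      simp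
    have := hDtriv _ hy
    rw [mul_inv_eq_one] at this
    exact this.symm
  -- step 2
  let W : Subgroup V :=
    { carrier := {v | (S ^ 2) v = v}
      mul_mem' := by
        intro a b ha hb
        simp only [Set.mem_ofPred_eq] at ha hb ⊢
        rw [map_mul, ha, hb]
      one_mem' := by simp
      inv_mem' := by
        intro a ha
        simp only [Set.mem_ofPred_eq] at ha ⊢
        rw [map_inv, ha] }
  have hWbot : ∀ v, (S ^ 2) v = v → v = 1 := by
    intro v hv
    have hkey := key Z S W 1 hZS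
      (by
        intro i hi0 hi y hy hyy
        have hi' : i = 1 := by omega
        subst hi'
        apply hfixA y (hZA hy)
        simpa using hyy)
      (by
        intro z hz w hw
        have hw' : (S ^ 2) w = w := hw
        change (S ^ 2) (z w) = z w
        have h1 : (S ^ 2) (z w) = (S ^ 2 * z * (S ^ 2)⁻¹) ((S ^ 2) w) := by
          simp [MulAut.mul_apply]
        rw [h1, hτZ z hz, hw'])
      (by
        intro w hw
        have hw' : (S ^ 2) w = w := hw
        apply hfix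
        simp only [Finset.prod_range_succ, Finset.prod_range_zero, one_mul, map_mul]
        have e1 : S ((S ^ 0) w) = (S ^ 1) w := by simp
        have e2 : S ((S ^ 1) w) = (S ^ 0) w := by
          have : S ((S ^ 1) w) = (S ^ 2) w := by rw [pow_succ' S 1]; rfl
          rw [this, hw']; simp
        rw [e1, e2, mul_comm])
      (hcopG Z le_rfl)
    exact hZne1 v (fun z hz => hkey z hz v hv)
  have hτinv : ∀ v, (S ^ 2) v = v⁻¹ := by
    intro v
    have h1 : (S ^ 2) (v * (S ^ 2) v) = v * (S ^ 2) v := by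
      have h2 : (S ^ 2) ((S ^ 2) v) = v := by
        have : (S ^ 2 * S ^ 2) v = v := by rw [hτ2]; rfl
        simpa [MulAut.mul_apply] using this
      rw [map_mul, h2, mul_comm]
    have h3 := hWbot _ h1
    exact (eq_inv_of_mul_eq_one_right h3)
  have hτA : ∀ a ∈ A, S ^ 2 * a * (S ^ 2)⁻¹ = a := by
    intro a ha
    rw [mul_inv_eq_iff_eq_mul]
    ext v
    simp only [MulAut.mul_apply]
    rw [hτinv, hτinv, map_inv]
  -- step 3: `A` is inverted
  have hff : ∀ a ∈ A, S * (S * a * S⁻¹) * S⁻¹ = a := by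
    intro a ha
    have : S * (S * a * S⁻¹) * S⁻¹ = S ^ 2 * a * (S ^ 2)⁻¹ := by
      rw [pow_two]; group
    rw [this, hτA a ha]
  have hAinv : ∀ b ∈ A, S * b * S⁻¹ = b⁻¹ := by
    let φ : A → A := fun a => a⁻¹ * ⟨S * (a : MulAut V) * S⁻¹, hSA a a.2⟩
    have hinj : Function.Injective φ := by
      intro x y hxy
      have h1 : (x : MulAut V)⁻¹ * (S * (x : MulAut V) * S⁻¹) =
          (y : MulAut V)⁻¹ * (S * (y : MulAut V) * S⁻¹) := by
        have := congrArg Subtype.val hxy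
        simpa [φ] using this
      have h2 : S * ((y : MulAut V) * (x : MulAut V)⁻¹) * S⁻¹ = (y : MulAut V) * (x : MulAut V)⁻¹ := by
        have aux : ∀ a b c d : MulAut V, a⁻¹ * c = b⁻¹ * d → b * a⁻¹ = d * c⁻¹ := by
          intro a b c d h
          have : c = a * (b⁻¹ * d) := by rw [← h]; group
          rw [this]; group
        have h3 := aux _ _ _ _ h1
        have h4 : S * ((y : MulAut V) * (x : MulAut V)⁻¹) * S⁻¹ =
            (S * (y : MulAut V) * S⁻¹) * (S * (x : MulAut V) * S⁻¹)⁻¹ := by group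
        rw [h4, ← h3]
      have h5 := hfixA _ (A.mul_mem y.2 (A.inv_mem x.2)) h2
      apply Subtype.ext
      rw [mul_inv_eq_one] at h5
      exact h5.symm
    have hsurj : Function.Surjective φ := (Finite.injective_iff_bijective.1 hinj).2
    intro b hb
    obtain ⟨a, ha⟩ := hsurj ⟨b, hb⟩
    have hb' : b = (a : MulAut V)⁻¹ * (S * (a : MulAut V) * S⁻¹) := by
      have := congrArg Subtype.val ha
      simpa [φ] using this.symm
    have h1 := hff a a.2
    rw [hb']
    have h2 : S * ((a : MulAut V)⁻¹ * (S * (a : MulAut V) * S⁻¹)) * S⁻¹ =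
        (S * (a : MulAut V) * S⁻¹)⁻¹ * (S * (S * (a : MulAut V) * S⁻¹) * S⁻¹) := by group
    rw [h2, h1]
    group
  intro a ha b hb
  have h1 := hAinv _ (A.mul_mem ha hb)
  have h2 : S * (a * b) * S⁻¹ = (S * a * S⁻¹) * (S * b * S⁻¹) := by group
  rw [h2, hAinv a ha, hAinv b hb] at h1
  have h3 : a⁻¹ * b⁻¹ = (b * a)⁻¹ := by group
  rw [h3] at h1
  exact (inv_injective h1).symm

/-- descent for fixed point free automorphisms -/
theorem descend {G : Type*} [Group G] [Finite G] (σ : MulAut G) (hfpf : ∀ g : G, σ g = g → g = 1)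
    (K : Subgroup G) (hK : ∀ x ∈ K, σ x ∈ K) (g : G) (h : g⁻¹ * σ g ∈ K) : g ∈ K := by
  let c : K → K := fun k => (k : K)⁻¹ * ⟨σ k, hK k k.2⟩
  have hinj : Function.Injective c := by
    intro x y hxy
    have h1 : (x : G)⁻¹ * σ x = (y : G)⁻¹ * σ y := by
      have := congrArg Subtype.val hxy
      simpa [c] using this
    have h2 : σ ((y : G) * (x : G)⁻¹) = (y : G) * (x : G)⁻¹ := by
      rw [map_mul, map_inv]
      have aux : ∀ a b c d : G, a⁻¹ * c = b⁻¹ * d → b * a⁻¹ = d * c⁻¹ := by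
        intro a b c d h
        have : c = a * (b⁻¹ * d) := by rw [← h]; group
        rw [this]; group
      exact (aux _ _ _ _ h1).symm
    have h3 := hfpf _ h2
    apply Subtype.ext
    rw [mul_inv_eq_one] at h3
    exact h3.symm
  have hsurj : Function.Surjective c := (Finite.injective_iff_bijective.1 hinj).2
  obtain ⟨k, hk⟩ := hsurj ⟨_, h⟩
  have h1 : (k : G)⁻¹ * σ k = g⁻¹ * σ g := by
    have := congrArg Subtype.val hk
    simpa [c] using this
  have h2 : σ (g * (k : G)⁻¹) = g * (k : G)⁻¹ := by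
    rw [map_mul, map_inv]
    have aux : ∀ a b c d : G, a⁻¹ * c = b⁻¹ * d → b * a⁻¹ = d * c⁻¹ := by
      intro a b c d h
      have : c = a * (b⁻¹ * d) := by rw [← h]; group
      rw [this]; group
    exact (aux _ _ _ _ h1).symm
  have h3 := hfpf _ h2
  rw [mul_inv_eq_one] at h3
  rw [h3]
  exact k.2

theorem odd_card {G : Type*} [Group G] [Finite G] (σ : MulAut G) (hσ : σ ^ 4 = 1)
    (hfpf : ∀ g : G, σ g = g → g = 1) : Odd (Nat.card G) := by
  classical
  haveI : Fact (Nat.Prime 2) := ⟨Nat.prime_two⟩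
  have hp : IsPGroup 2 (Subgroup.zpowers σ) := by
    rintro ⟨x, k, rfl⟩
    refine ⟨2, ?_⟩
    apply Subtype.ext
    simp only [Subgroup.coe_pow, Subgroup.coe_one]
    rw [← zpow_natCast, ← zpow_mul, mul_comm, zpow_mul]
    have : σ ^ ((2 ^ 2 : ℕ) : ℤ) = 1 := by
      rw [zpow_natCast]; exact hσ
    rw [this, one_zpow]
  have hmod := hp.card_modEq_card_fixedPoints G
  have h1fix : (1 : G) ∈ MulAction.fixedPoints (Subgroup.zpowers σ) G := by
    intro z
    exact map_one z.1
  have huniq : ∀ x : MulAction.fixedPoints (Subgroup.zpowers σ) G, x = ⟨1, h1fix⟩ := by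
    intro x
    apply Subtype.ext
    apply hfpf
    exact x.2 ⟨σ, Subgroup.mem_zpowers σ⟩
  have hcard : Nat.card (MulAction.fixedPoints (Subgroup.zpowers σ) G) = 1 :=
    Nat.card_eq_one_iff_unique.2 ⟨⟨fun a b => by rw [huniq a, huniq b]⟩, ⟨⟨1, h1fix⟩⟩⟩
  rw [hcard] at hmod
  rw [Nat.odd_iff]
  exact hmod

theorem main_aux : ∀ (n : ℕ) (G : Type u) [Group G] [Finite G], Nat.card G = n →
    Group.IsSolvable G → ∀ σ : MulAut G, σ ^ 4 = 1 → (∀ g : G, σ g = g → g = 1) →
    Group.IsNilpotent (commutator G) := by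
  intro n
  induction n using Nat.strong_induction_on with
  | _ n ih =>
  intro G _ _ hn hsol σ hσ hfpf
  classical
  by_cases hbot : (⊤ : Subgroup G) = ⊥
  · have hs : Subsingleton G := by
      rw [← Subgroup.subsingleton_iff]
      exact subsingleton_of_bot_eq_top hbot.symm
    have : Subsingleton (commutator G) := inferInstance
    infer_instance
  let 𝒜 : Set (MulAut G) := {α | (∃ g : G, α = MulAut.conj g) ∨ α = σ}
  let P : Subgroup G → Prop := fun L => L ≠ ⊥ ∧ ∀ α ∈ 𝒜, ∀ x ∈ L, α x ∈ L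
  have hPT : P ⊤ := ⟨hbot, fun _ _ _ _ => Subgroup.mem_top _⟩
  obtain ⟨N, hN⟩ := exists_minimal_of_wellFoundedLT P ⟨⊤, hPT⟩
  obtain ⟨hNne, hNinv⟩ := hN.1
  have hNsol : Group.IsSolvable N := inferInstance
  obtain ⟨hNcomm, r, hr, hNexp⟩ := abelian_exp_of_minimal 𝒜 N hNsol hNne hNinv (by
    intro L hLN hLne hLinv
    exact le_antisymm hLN (hN.2 ⟨hLne, hLinv⟩ hLN))
  have hNσ : ∀ x ∈ N, σ x ∈ N := fun x hx => hNinv σ (Or.inr rfl) x hx
  have hσ3 : σ ^ 3 = σ⁻¹ := by
    rw [eq_inv_iff_mul_eq_one, ← pow_succ, hσ]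
  have hNσ' : ∀ x ∈ N, σ⁻¹ x ∈ N := by
    intro x hx
    rw [← hσ3, pow_succ, pow_two]
    exact hNσ _ (hNσ _ (hNσ _ hx))
  haveI hNnormal : N.Normal := ⟨fun x hx g => by
    simpa [MulAut.conj_apply] using hNinv (MulAut.conj g) (Or.inl ⟨g, rfl⟩) x hx⟩
  -- the quotient
  have hmapN : N.map σ.toMonoidHom = N := by
    apply le_antisymm
    · rintro _ ⟨x, hx, rfl⟩
      exact hNσ x hx
    · intro x hx
      exact ⟨σ⁻¹ x, hNσ' x hx, by simp⟩
  let σb : MulAut (G ⧸ N) := QuotientGroup.congr N N σ hmapN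
  have hσb : ∀ g : G, σb (g : G ⧸ N) = ((σ g : G) : G ⧸ N) := fun g => rfl
  have hσg4 : ∀ g : G, σ (σ (σ (σ g))) = g := by
    intro g
    have : (σ ^ 4) g = g := by rw [hσ]; rfl
    simpa [pow_succ, MulAut.mul_apply] using this
  have hσb4 : σb ^ 4 = 1 := by
    ext q
    induction q using QuotientGroup.induction_on with
    | H g =>
      have : (σb ^ 4) (g : G ⧸ N) = σb (σb (σb (σb (g : G ⧸ N)))) := by
        simp [pow_succ, MulAut.mul_apply]
      rw [this, hσb, hσb, hσb, hσb, hσg4]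
      rfl
  have hσbfix : ∀ q : G ⧸ N, σb q = q → q = 1 := by
    intro q hq
    induction q using QuotientGroup.induction_on with
    | H g =>
      rw [hσb] at hq
      have h1 : g⁻¹ * σ g ∈ N := QuotientGroup.eq.1 hq.symm
      exact (QuotientGroup.eq_one_iff g).2 (descend σ hfpf N hNσ g h1)
  have hcardlt : Nat.card (G ⧸ N) < n := by
    rw [← hn, Subgroup.card_eq_card_quotient_mul_card_subgroup N]
    have h1 : 1 < Nat.card N := (Subgroup.one_lt_card_iff_ne_bot N).2 hNne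
    have h2 : 0 < Nat.card (G ⧸ N) := Nat.card_pos
    nlinarith
  have hsolq : Group.IsSolvable (G ⧸ N) :=
    Group.isSolvable_of_surjective (f := QuotientGroup.mk' N) (QuotientGroup.mk'_surjective N)
  have IH := ih _ hcardlt (G ⧸ N) rfl hsolq σb hσb4 hσbfix
  -- the action on `N`
  have hV : ∀ a b : N, a * b = b * a := by
    intro a b
    apply Subtype.ext
    exact hNcomm a a.2 b b.2
  have hexp : ∀ v : N, v ^ r = 1 := by
    intro v
    apply Subtype.ext
    simpa using hNexp v v.2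
  let S : MulAut N :=
    { toFun := fun v => ⟨σ v, hNσ v v.2⟩
      invFun := fun v => ⟨σ⁻¹ v, hNσ' v v.2⟩
      left_inv := by intro v; ext; simp
      right_inv := by intro v; ext; simp
      map_mul' := by intro a b; ext; simp }
  have hSc : ∀ v : N, ((S v : N) : G) = σ v := fun v => rfl
  have hSic : ∀ v : N, ((S⁻¹ v : N) : G) = σ⁻¹ v := fun v => rfl
  have hS4 : S ^ 4 = 1 := by
    ext v
    have : ((S ^ 4) v) = S (S (S (S v))) := by
      simp [pow_succ, MulAut.mul_apply]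
    rw [this, hSc, hSc, hSc, hSc, hσg4]
    rfl
  have hSfix : ∀ v, S v = v → v = 1 := by
    intro v hv
    apply Subtype.ext
    exact hfpf _ (congrArg Subtype.val hv)
  let φ : G →* MulAut N := MulAut.conjNormal
  have hφ : ∀ (g : G) (v : N), ((φ g v : N) : G) = g * v * g⁻¹ := fun g v => MulAut.conjNormal_apply g v
  have hconj : ∀ g, S * φ g * S⁻¹ = φ (σ g) := by
    intro g
    ext v
    simp only [MulAut.mul_apply]
    rw [hSc, hφ, hφ, hSic]
    simp
  have hKσ : ∀ x ∈ φ.ker, σ x ∈ φ.ker := by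
    intro x hx
    rw [MonoidHom.mem_ker] at hx ⊢
    rw [← hconj, hx]
    simp
  have hsolA : Group.IsSolvable φ.range :=
    Group.isSolvable_of_surjective (f := φ.rangeRestrict) φ.rangeRestrict_surjective
  have hoddA : Odd (Nat.card φ.range) := by
    have h1 : Nat.card φ.range ∣ Nat.card G := Subgroup.card_range_dvd φ
    exact Odd.of_dvd_nat (odd_card σ hσ hfpf) h1
  have hSA : ∀ a ∈ φ.range, S * a * S⁻¹ ∈ φ.range := by
    rintro _ ⟨g, rfl⟩
    rw [hconj]
    exact ⟨_, rfl⟩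
  have hfixA : ∀ a ∈ φ.range, S * a * S⁻¹ = a → a = 1 := by
    rintro _ ⟨g, rfl⟩ h
    rw [hconj] at h
    have h1 : g⁻¹ * σ g ∈ φ.ker := by
      rw [MonoidHom.mem_ker, map_mul, map_inv, h]
      simp
    exact descend σ hfpf _ hKσ g h1
  have hirr : ∀ W : Subgroup N, (∀ a ∈ φ.range, ∀ w ∈ W, a w ∈ W) → (∀ w ∈ W, S w ∈ W) →
      W = ⊥ ∨ W = ⊤ := by
    intro W hW1 hW2
    by_cases hWb : W = ⊥
    · exact Or.inl hWb
    right
    have hLne : W.map N.subtype ≠ ⊥ := by
      intro h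
      apply hWb
      exact (Subgroup.map_eq_bot_iff_of_injective W N.subtype_injective).1 h
    have hLinv : ∀ α ∈ 𝒜, ∀ x ∈ W.map N.subtype, α x ∈ W.map N.subtype := by
      rintro α (⟨g, rfl⟩ | rfl) x ⟨w, hw, rfl⟩
      · refine ⟨φ g w, hW1 _ ⟨g, rfl⟩ w hw, ?_⟩
        simp only [Subgroup.subtype_apply, MulAut.conj_apply]
        exact hφ g w
      · exact ⟨S w, hW2 w hw, rfl⟩
    have hLN : W.map N.subtype ≤ N := by
      rintro _ ⟨w, _, rfl⟩
      exact w.2
    have h1 := hN.2 ⟨hLne, hLinv⟩ hLN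
    rw [eq_top_iff]
    intro v _
    obtain ⟨w, hw, hwv⟩ := h1 v.2
    have : w = v := Subtype.ext hwv
    rw [← this]
    exact hw
  have hAcomm := core hV r hr hexp S hS4 hSfix φ.range hsolA hoddA hSA hfixA hirr
  have hcommK : commutator G ≤ φ.ker := by
    rw [_root_.commutator_def, Subgroup.commutator_le]
    intro g _ h _
    rw [MonoidHom.mem_ker, commutatorElement_def, map_mul, map_mul, map_mul, map_inv, map_inv,
      hAcomm (φ g) ⟨g, rfl⟩ (φ h) ⟨h, rfl⟩]
    group
  have hmapc : ∀ x ∈ commutator G, (QuotientGroup.mk' N) x ∈ commutator (G ⧸ N) := by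
    intro x hx
    have h1 : (commutator G).map (QuotientGroup.mk' N) ≤ commutator (G ⧸ N) := by
      rw [_root_.commutator_def, _root_.commutator_def, Subgroup.map_commutator]
      exact Subgroup.commutator_mono le_top le_top
    exact h1 ⟨x, hx, rfl⟩
  let f : commutator G →* commutator (G ⧸ N) :=
    ((QuotientGroup.mk' N).comp (commutator G).subtype).codRestrict _ (fun x => hmapc x x.2)
  haveI := IH
  refine _root_.isNilpotent_of_ker_le_center f ?_
  intro x hx
  have hxN : (x : G) ∈ N := by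
    rw [MonoidHom.mem_ker] at hx
    have h1 := congrArg Subtype.val hx
    simp only [f] at h1
    exact (QuotientGroup.eq_one_iff _).1 h1
  rw [Subgroup.mem_center_iff]
  intro y
  have hy : φ (y : G) = 1 := hcommK y.2
  have h2 := hφ (y : G) ⟨x, hxN⟩
  rw [hy] at h2
  apply Subtype.ext
  have h3 : ((x : G)) = (y : G) * x * (y : G)⁻¹ := h2
  simp only [Subgroup.coe_mul]
  rw [eq_mul_inv_iff_mul_eq] at h3
  exact h3.symm

theorem final {G : Type*} [Group G] [Finite G] (hG : Group.IsSolvable G) (σ : MulAut G) (hσ : σ ^ 4 = 1)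
    (hfpf : ∀ g : G, σ g = g → g = 1) : Group.IsNilpotent (commutator G) :=
  main_aux _ G rfl hG σ hσ hfpf

end Cfsg.Agent.Lib.FpfFour
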