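import Mathlib
import Cfsg.Agent.Lib.H6PGroup
import Cfsg.Agent.Lib.CoprimeGen4
import Cfsg.Agent.Lib.TraceFix
import Cfsg.Agent.Lib.PReduced

/-! Frobenius complement basics (helper4). -/

namespace Cfsg.Agent.Lib.FrobC

variable {G : Type*} [Group G] [Finite G]

/-- A group acting fixed point freely on `K` has order dividing `|K| - 1`. -/
theorem card_dvd_sub_one (H K : Subgroup G) (hHK : H ≤ Subgroup.normalizer (K : Set G))
    (hfpf : ∀ h ∈ H, h ≠ 1 → K ⊓ Subgroup.centralizer {h} = ⊥) :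
    Nat.card H ∣ Nat.card K - 1 := by
  classical
  let act : H → {k : K // k ≠ 1} → {k : K // k ≠ 1} := fun h k =>
    ⟨Cfsg.Agent.Lib.PReduced.actHom K hHK h k.1, fun e => k.2 (by
      have := (map_eq_one_iff (Cfsg.Agent.Lib.PReduced.actHom K hHK h) (MulEquiv.injective _)).mp e
      exact this)⟩
  letI : MulAction H {k : K // k ≠ 1} :=
    { smul := act
      one_smul := fun k => Subtype.ext (by
        show Cfsg.Agent.Lib.PReduced.actHom K hHK 1 k.1 = k.1
        rw [map_one]; rfl)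
      mul_smul := fun a b k => Subtype.ext (by
        show Cfsg.Agent.Lib.PReduced.actHom K hHK (a * b) k.1 = _
        rw [map_mul]; rfl) }
  have hfree : ∀ (a : H) (y : {k : K // k ≠ 1}), a • y = y → a = 1 := by
    intro a y h
    by_contra ha
    have ha' : (a : G) ≠ 1 := fun e => ha (Subtype.ext e)
    have h1 := hfpf a a.2 ha'
    have h2 : ((y.1 : K) : G) ∈ K ⊓ Subgroup.centralizer {(a : G)} := by
      refine Subgroup.mem_inf.mpr ⟨y.1.2, ?_⟩
      rw [Subgroup.mem_centralizer_singleton_iff]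
      have h3 : (a : G) * (y.1 : G) * (a : G)⁻¹ = (y.1 : G) := congrArg (fun z : {k : K // k ≠ 1} => ((z.1 : K) : G)) h
      calc ((y.1 : K) : G) * a = ((a : G) * (y.1 : G) * (a : G)⁻¹) * a := by rw [h3]
        _ = a * (y.1 : G) := by group
    rw [h1] at h2
    exact y.2 (Subtype.ext (Subgroup.mem_bot.mp h2))
  have h := Cfsg.Agent.Lib.H6PGroup.card_dvd_card_of_free (A := H) (Y := {k : K // k ≠ 1}) hfree
  have hc : Nat.card {k : K // k ≠ 1} = Nat.card K - 1 := by
    haveI := Fintype.ofFinite K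
    rw [Nat.card_eq_fintype_card, Nat.card_eq_fintype_card, Fintype.card_subtype_compl]
    simp
  rwa [hc] at h

theorem coprime_of_fpf (H K : Subgroup G) (hHK : H ≤ Subgroup.normalizer (K : Set G))
    (hfpf : ∀ h ∈ H, h ≠ 1 → K ⊓ Subgroup.centralizer {h} = ⊥) :
    (Nat.card H).Coprime (Nat.card K) := by
  have h := card_dvd_sub_one H K hHK hfpf
  have hpos : 0 < Nat.card K := Nat.card_pos
  have : (Nat.card K - 1).Coprime (Nat.card K) := by
    have e : Nat.card K = (Nat.card K - 1) + 1 := by omega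
    rw [e]
    simp
  exact Nat.Coprime.coprime_dvd_left h this

/-- The conjugation action of `A` on `V`, fixed points. -/
theorem act_fixed {A V : Subgroup G} (hAV : A ≤ Subgroup.normalizer (V : Set G))
    (hfpf : ∀ a ∈ A, a ≠ 1 → V ⊓ Subgroup.centralizer {a} = ⊥) (a : A) (ha : a ≠ 1) (w : V)
    (h : Cfsg.Agent.Lib.PReduced.actHom V hAV a w = w) : w = 1 := by
  have ha' : (a : G) ≠ 1 := fun e => ha (Subtype.ext e)
  have h2 : (w : G) ∈ V ⊓ Subgroup.centralizer {(a : G)} := by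
    refine Subgroup.mem_inf.mpr ⟨w.2, ?_⟩
    rw [Subgroup.mem_centralizer_singleton_iff]
    have h3 : (a : G) * w * (a : G)⁻¹ = w := congrArg Subtype.val h
    calc (w : G) * a = ((a : G) * w * (a : G)⁻¹) * a := by rw [h3]
      _ = a * w := by group
  rw [hfpf a a.2 ha'] at h2
  exact Subtype.ext (Subgroup.mem_bot.mp h2)

/-- The key computation for groups of order `pq` acting fixed point freely. -/
theorem pq_key {A V : Type*} [Group A] [Finite A] [CommGroup V] (ρ : A →* MulAut V)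
    (hf : ∀ a : A, a ≠ 1 → ∀ w, ρ a w = w → w = 1) (Q : Subgroup A) [hQn : Q.Normal]
    (hQ1 : Q ≠ ⊥) {p : ℕ} (hp : p.Prime) (z : A) (hz : z ∉ Q)
    (hord : ∀ u ∈ Q, (z * u) ^ p = 1) (v : V) : v ^ Nat.card Q = 1 := by
  classical
  haveI := Fintype.ofFinite Q
  -- norm along `w` is trivial
  have hN1 : ∀ w : A, w ≠ 1 → w ^ p = 1 → ∏ i ∈ Finset.range p, ρ (w ^ i) v = 1 := by
    intro w hw hwp
    apply hf w hw
    rw [map_prod]
    have h1 : ∀ i, ρ w (ρ (w ^ i) v) = ρ (w ^ (i + 1)) v := by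
      intro i
      rw [pow_succ', map_mul]; rfl
    simp only [h1]
    have h2 := Finset.prod_range_succ (fun i => ρ (w ^ i) v) p
    have h3 := Finset.prod_range_succ' (fun i => ρ (w ^ i) v) p
    rw [h2, hwp] at h3
    simp only [pow_zero] at h3
    exact (mul_right_cancel h3).symm
  have hN2 : ∏ u : Q, ρ (u : A) v = 1 := by
    obtain ⟨u0, hu01⟩ := Subgroup.ne_bot_iff_exists_ne_one.mp hQ1
    have hu01' : (u0 : A) ≠ 1 := fun e => hu01 (Subtype.ext e)
    apply hf u0 hu01'
    rw [map_prod]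
    have h1 : ∀ u : Q, ρ (u0 : A) (ρ (u : A) v) = ρ ((u0 * u : Q) : A) v := by
      intro u
      rw [Subgroup.coe_mul, map_mul]; rfl
    simp only [h1]
    exact Fintype.prod_equiv (Equiv.mulLeft u0) _ _ (fun _ => rfl)
  -- the coset map
  have hmem : ∀ (i : ℕ) (u : Q), (z ^ i)⁻¹ * (z * (u : A)) ^ i ∈ Q := by
    intro i u
    have h1 : ((QuotientGroup.mk ((z ^ i)⁻¹ * (z * (u : A)) ^ i) : A ⧸ Q)) = 1 := by
      rw [QuotientGroup.mk_mul, QuotientGroup.mk_inv, QuotientGroup.mk_pow, QuotientGroup.mk_pow,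
        QuotientGroup.mk_mul, (QuotientGroup.eq_one_iff (u : A)).mpr u.2, mul_one, inv_mul_cancel]
    exact (QuotientGroup.eq_one_iff _).mp h1
  have hinj : ∀ i : ℕ, 0 < i → i < p → Function.Injective
      (fun u : Q => (⟨(z ^ i)⁻¹ * (z * (u : A)) ^ i, hmem i u⟩ : Q)) := by
    intro i hi hip u u' h
    have h1 : (z * (u : A)) ^ i = (z * (u' : A)) ^ i := by
      have := congrArg Subtype.val h
      exact mul_left_cancel this
    have hcop : p.Coprime i := Nat.coprime_of_lt_prime (by omega) hip hp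
    obtain ⟨k, -, hk⟩ := Nat.exists_mul_mod_eq_one_of_coprime hcop.symm hp.one_lt
    have h2 : ∀ w : A, w ^ p = 1 → (w ^ i) ^ k = w := by
      intro w hw
      rw [← pow_mul]
      conv_lhs => rw [← Nat.mod_add_div (i * k) p, pow_add, pow_mul, hw, one_pow, mul_one, hk, pow_one]
    have h3 := h2 _ (hord u u.2)
    have h4 := h2 _ (hord u' u'.2)
    rw [h1, h4] at h3
    exact Subtype.ext (mul_left_cancel h3).symm
  have hterm : ∀ i ∈ Finset.range p, i ≠ 0 → ∏ u : Q, ρ ((z * (u : A)) ^ i) v = 1 := by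
    intro i hi hi0
    have hip := Finset.mem_range.mp hi
    have hbij := Finite.injective_iff_bijective.mp (hinj i (Nat.pos_of_ne_zero hi0) hip)
    have h1 : ∀ u : Q, ρ ((z * (u : A)) ^ i) v =
        ρ (z ^ i) (ρ (((⟨(z ^ i)⁻¹ * (z * (u : A)) ^ i, hmem i u⟩ : Q)) : A) v) := by
      intro u
      rw [← MulAut.mul_apply, ← map_mul]
      congr 2
      group
    simp only [h1]
    rw [← map_prod]
    have h2 := Function.Bijective.prod_comp hbij (fun u : Q => ρ (u : A) v)
    rw [h2, hN2, map_one]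
  have htot : ∏ u : Q, ∏ i ∈ Finset.range p, ρ ((z * (u : A)) ^ i) v = 1 := by
    apply Finset.prod_eq_one
    intro u _
    refine hN1 _ ?_ (hord u u.2)
    intro e
    apply hz
    have : z = (u : A)⁻¹ := eq_inv_of_mul_eq_one_left e
    rw [this]
    exact Q.inv_mem u.2
  rw [Finset.prod_comm] at htot
  have h0 : 0 ∈ Finset.range p := Finset.mem_range.mpr hp.pos
  rw [Finset.prod_eq_single_of_mem 0 h0 hterm] at htot
  simp only [pow_zero, map_one, MulAut.one_apply, Finset.prod_const, Finset.card_univ] at htot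
  rwa [← Nat.card_eq_fintype_card] at htot

/-- A nontrivial `s`-subgroup of `A` cannot act fixed point freely on an `s`-group `V ≠ 1`. -/
theorem fixed_contra {A V T : Subgroup G} {s : ℕ} [Fact s.Prime] (hV : V ≠ ⊥)
    (hAV : A ≤ Subgroup.normalizer (V : Set G))
    (hfpf : ∀ a ∈ A, a ≠ 1 → V ⊓ Subgroup.centralizer {a} = ⊥)
    (hTA : T ≤ A) (hT1 : T ≠ ⊥) (hT : IsPGroup s T) (hVs : IsPGroup s V) : False := by
  obtain ⟨x, hxV, hx1, hxc⟩ :=
    Cfsg.Agent.Lib.TraceFix.exists_fixed_of_normalizes hT hVs (hTA.trans hAV) hV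
  obtain ⟨a, ha⟩ := Subgroup.ne_bot_iff_exists_ne_one.mp hT1
  have ha' : (a : G) ≠ 1 := fun e => ha (Subtype.ext e)
  have h1 : x ∈ V ⊓ Subgroup.centralizer {(a : G)} := by
    refine Subgroup.mem_inf.mpr ⟨hxV, ?_⟩
    rw [Subgroup.mem_centralizer_singleton_iff]
    exact ((Subgroup.mem_centralizer_iff.mp hxc) a a.2).symm
  rw [hfpf a (hTA a.2) ha'] at h1
  exact hx1 (Subgroup.mem_bot.mp h1)

end Cfsg.Agent.Lib.FrobC
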