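import Cfsg.Agent.Lib.FusionQuot
import Cfsg.Agent.Lib.FusionFactor
import Cfsg.Agent.Lib.FusionNormal
import Cfsg.Agent.Lib.FusionHyp
import Cfsg.Agent.Lib.FusionCentric
import Cfsg.Agent.Lib.FusionSat
import Cfsg.Agent.S5088
import Cfsg.Agent.Lib.FusionSolv
import Cfsg.Agent.Lib.FusionInv

/-! Central subgroups of fusion systems and the second centre. -/

set_option autoImplicit false

namespace Cfsg.Agent.Lib.FusionGrun

open Cfsg Cfsg.FusionSystem Cfsg.Agent.Lib.FusionBasic Cfsg.Agent.Lib.FusionFactor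
  Cfsg.Agent.Lib.FusionQuot Cfsg.Agent.Lib.FusionNormal Cfsg.Agent.Lib.FusionSat
  Cfsg.Agent.Lib.FusionAut Cfsg.Agent.Lib.FusionCentric Cfsg.Agent.Lib.FusionHyp
  Cfsg.Agent.Lib.FusionSolv Cfsg.Agent.Lib.FusionInv

variable {Ω : Type*} [Group Ω] {S : Subgroup Ω}

/-- Maps of the system fix the elements of a central subgroup. -/
theorem IsCentral.fix {F : FusionSystem S} {Z : Subgroup Ω} (hZ : F.IsCentral Z) {P : Subgroup Ω}
    {φ : P →* Ω} (hφ : φ ∈ F.Hom P) (x : P) (hx : (x : Ω) ∈ Z) : φ x = x := by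
  obtain ⟨ψ, -, h1, h2⟩ := hZ.2 P φ hφ
  rw [← h1 x]
  exact h2 ⟨x, hx⟩

/-- A central subgroup is strongly closed. -/
theorem IsCentral.stronglyClosed {F : FusionSystem S} {Z : Subgroup Ω} (hZ : F.IsCentral Z) :
    F.StronglyClosed Z := by
  refine ⟨hZ.1, fun R hR φ hφ x => ?_⟩
  rw [IsCentral.fix hZ hφ x (hR x.2)]
  exact hR x.2

/-- A map of the system is trivial modulo `Z` on the preimage of a central subgroup of the factor. -/
theorem factor_stab {Ω' : Type*} [Group Ω'] {S' : Subgroup Ω'} {F : FusionSystem S}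
    {E : FusionSystem S'} {θ : S →* Ω'} {Z : Subgroup Ω} (hZ : F.IsCentral Z)
    (hE : F.IsFactorSystem Z θ E) {W : Subgroup Ω'} (hW : E.IsCentral W) {P : Subgroup Ω}
    {φ : P →* Ω} (hφ : φ ∈ F.Hom P) (x : P) (hxS : (x : Ω) ∈ S) (hx : θ ⟨x, hxS⟩ ∈ W) :
    (x : Ω)⁻¹ * φ x ∈ Z := by
  obtain ⟨hZS, hker, hrange, hiff⟩ := hE
  have hPS : P ≤ S := source_le F hφ
  set P' : Subgroup Ω' := imageAlong θ P with hP'
  have hP'r : P' ≤ θ.range := by
    rintro _ ⟨y, -, rfl⟩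
    exact ⟨y, rfl⟩
  have hmemP' : ∀ y : P, θ ⟨y, hPS y.2⟩ ∈ P' := by
    intro y
    exact ⟨⟨y, hPS y.2⟩, Subgroup.mem_subgroupOf.mpr y.2, rfl⟩
  have hRle : preimageAlong θ P' ≤ P ⊔ Z := by
    intro y hy
    obtain ⟨hyS, t, ht, e⟩ := (mem_preimageAlong θ P' y).mp hy
    have ht' : (t : Ω) ∈ P := Subgroup.mem_subgroupOf.mp ht
    have h1 : θ (t⁻¹ * ⟨y, hyS⟩) = 1 := by
      rw [map_mul, map_inv, e, inv_mul_cancel]
    have h2 : (t : Ω)⁻¹ * y ∈ Z := (hker _).mp h1
    have h3 : y = (t : Ω) * ((t : Ω)⁻¹ * y) := by group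
    rw [h3]
    exact Subgroup.mul_mem _ (Subgroup.mem_sup_left ht') (Subgroup.mem_sup_right h2)
  obtain ⟨ψ, hψ, h1, h2⟩ := hZ.2 P φ hφ
  have hψ₀ := restrict_mem F hψ hRle
  set ψ₀ := ψ.comp (Subgroup.inclusion hRle) with hψ₀def
  have hv : ∀ y, ψ₀ y ∈ S := fun y => map_mem_S F hψ₀ y
  have hS₀ : ∀ y : ↥(preimageAlong θ P'), (y : Ω) ∈ Z → ψ₀ y ∈ Z := by
    intro y hy
    rw [IsCentral.fix hZ hψ₀ y hy]
    exact hy
  obtain ⟨φ', hind⟩ := exists_induced θ hker hP'r hv hS₀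
  have hφ'E : φ' ∈ E.Hom P' := (hiff P' φ').mpr ⟨hrange ▸ hP'r, ψ₀, hψ₀, hind⟩
  obtain ⟨ψ', -, h3, h4⟩ := hW.2 P' φ' hφ'E
  obtain ⟨hRS, hv', hP'', hx''⟩ := hind
  have hxR : (x : Ω) ∈ preimageAlong θ P' :=
    (mem_preimageAlong θ P' x).mpr ⟨hPS x.2, hmemP' x⟩
  have e1 := hx'' ⟨x, hxR⟩
  have e2 : ψ₀ ⟨x, hxR⟩ = φ x := h1 x
  have e3 := h3 ⟨θ ⟨x, hxS⟩, hmemP' x⟩
  have e4 := h4 ⟨θ ⟨x, hxS⟩, hx⟩
  have e5 : (Subgroup.inclusion (le_sup_left : P' ≤ P' ⊔ W) ⟨θ ⟨x, hxS⟩, hmemP' x⟩) =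
      Subgroup.inclusion (le_sup_right : W ≤ P' ⊔ W) ⟨θ ⟨x, hxS⟩, hx⟩ := rfl
  rw [e5, e4] at e3
  have e6 : θ ⟨φ x, map_mem_S F hφ x⟩ = θ ⟨x, hxS⟩ := by
    have e7 : θ ⟨ψ₀ ⟨x, hxR⟩, hv' _⟩ = φ' ⟨θ ⟨x, hxS⟩, hmemP' x⟩ := e1.symm
    rw [← e3] at *
    have e8 : (⟨ψ₀ ⟨x, hxR⟩, hv' _⟩ : S) = ⟨φ x, map_mem_S F hφ x⟩ := Subtype.ext e2
    rw [← e8, e7]
  have e9 : θ ((⟨x, hxS⟩ : S)⁻¹ * ⟨φ x, map_mem_S F hφ x⟩) = 1 := by
    rw [map_mul, map_inv, e6, inv_mul_cancel]
  exact (hker _).mp e9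

/-- An automorphism in the system of a strongly closed central-in-`S` subgroup `X` that is
trivial on a central subgroup `Z ≤ X` and trivial modulo `Z` is the identity. -/
theorem aut_eq_one [Finite S] {p : ℕ} [Fact p.Prime] (hS : IsPGroup p S) {F : FusionSystem S}
    (hF : F.IsSaturated p) {X Z : Subgroup Ω} (hX : F.StronglyClosed X) (hZX : Z ≤ X)
    (hXc : ∀ x ∈ X, ∀ s ∈ S, s * x = x * s) {α : MulAut X} (hα : α ∈ F.autGroup X)
    (hst : ∀ y : X, (y : Ω)⁻¹ * (α y : X) ∈ Z) (hfix : ∀ y : X, (y : Ω) ∈ Z → ((α y : X) : Ω) = y) :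
    α = 1 := by
  have hXS : X ≤ S := hX.1
  haveI hfinX : Finite X := finite_of_le hXS
  have hXp : IsPGroup p X := hS.to_le hXS
  have hfn : F.IsFullyNormalized X := by
    refine ⟨hXS, fun Q hQ => ?_⟩
    obtain ⟨φ, hφ, hr⟩ := hQ
    have := (StronglyClosed.weaklyClosed hX).2 φ hφ
    rw [← hr, this]
  have hA := (IsSaturated.fullyNormalized hS hF hfn).1
  obtain ⟨m, hm⟩ := pow_fix_of_stab hXp α (B := Z.subgroupOf X) (C := ⊤) le_top
    (fun y _ => by
      rw [Subgroup.mem_subgroupOf]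
      exact hst y) 0
    (fun b hb => by
      rw [Subgroup.mem_subgroupOf] at hb
      apply Subtype.ext
      simpa using hfix b hb)
  have hpow : α ^ (p ^ m) = 1 := by
    ext y
    exact congrArg Subtype.val (hm y (Subgroup.mem_top y))
  obtain ⟨σ, -, hσ⟩ := exists_conj_autInducedBy hA hα hpow
  rw [mem_autInducedBy_iff] at hσ
  obtain ⟨g, hg, e⟩ := hσ
  have h1 : σ * α * σ⁻¹ = 1 := by
    ext y
    have := e y
    rw [this]
    show g * (y : Ω) * g⁻¹ = y
    rw [hXc y y.2 g hg]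
    group
  have h2 : α = σ⁻¹ * (σ * α * σ⁻¹) * σ := by group
  rw [h2, h1]
  group


/-- The inner system of an abelian group is a normal subsystem. -/
theorem inner_isNormalIn_of_abelian [Finite S] {p : ℕ} [Fact p.Prime] (hS : IsPGroup p S)
    {F : FusionSystem S} (hF : F.IsSaturated p) (hab : ∀ a ∈ S, ∀ b ∈ S, a * b = b * a) :
    (innerFusionSystem S).IsNormalIn F p := by
  have hconj : ∀ g ∈ S, ∀ x ∈ S, g * x * g⁻¹ = x := by
    intro g hg x hx
    rw [hab g hg x hx]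
    group
  have hsc : F.StronglyClosed S := ⟨le_rfl, fun R _ φ hφ x => map_mem_S F hφ x⟩
  have hcomm : ⁅S, S⁆ ≤ ⊥ := by
    rw [Subgroup.commutator_le]
    intro x hx y hy
    rw [Subgroup.mem_bot, commutatorElement_def, hab x hx y hy]
    group
  have hn : F.IsNormal S := isNormal_of_abelian hS hF hsc hcomm
  refine ⟨⟨isSaturated_inner hS, hF, ?_, hsc, ?_, ?_⟩, ?_⟩
  · rintro P φ ⟨hP, g, hg, e⟩
    exact hom_of_eq (F.conj_mem hP hg) e
  · intro P hPT φ hφ α _
    obtain ⟨-, g, hg, e⟩ := hφ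
    set R := (P.subgroupOf S).map (S.subtype.comp α.toMonoidHom) with hR
    have hRS : R ≤ S := by
      rintro _ ⟨y, -, rfl⟩
      exact (α y).2
    refine ⟨R.subtype, ⟨hRS, 1, S.one_mem, fun y => by simp⟩, fun x hφx hαx => ?_⟩
    show ((α ⟨x, hPT x.2⟩ : S) : Ω) = ((α ⟨φ x, hφx⟩ : S) : Ω)
    have e1 : φ x = x := by
      rw [e x]
      exact hconj g hg x (hPT x.2)
    congr 2
    exact Subtype.ext e1.symm
  · intro P hPS φ hφ
    obtain ⟨α, hα, e⟩ := IsNormal.star hn P hPS φ hφ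
    refine ⟨α, hα, P.subtype, ⟨hPS, 1, S.one_mem, fun y => by simp⟩, fun x hx => ?_⟩
    exact (e x).symm
  · intro α hα
    have hα1 : α = 1 := by
      obtain ⟨-, g, hg, e⟩ := (mem_autGroup_iff _ le_rfl).mp hα
      ext x
      exact (e x).trans (hconj g hg x x.2)
    refine ⟨1, one_mem _, fun x => ?_, fun c hc => ?_⟩
    · rw [hα1]
      rfl
    · have : (c : Ω)⁻¹ * ((1 : MulAut ↥(S ⊔ centralizerIn S S)) c : ↥(S ⊔ centralizerIn S S)) = 1 := by
        simp
      rw [this]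
      exact one_mem _

/-! ### Trace complements -/

section Trace

variable {L A : Type*} [Group L] [Group A]

/-- The fixed points of a subgroup. -/
def fixedSub (φ : L →* MulAut A) (T : Subgroup L) : Subgroup A where
  carrier := {z | ∀ t ∈ T, φ t z = z}
  mul_mem' := by
    intro a b ha hb t ht
    rw [map_mul, ha t ht, hb t ht]
  one_mem' := by
    intro t _
    exact map_one _
  inv_mem' := by
    intro a ha t ht
    rw [map_inv, ha t ht]

theorem mem_fixedSub {φ : L →* MulAut A} {T : Subgroup L} {z : A} :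
    z ∈ fixedSub φ T ↔ ∀ t ∈ T, φ t z = z := Iff.rfl

/-- A subgroup of fixed points of a larger group has a complement in the fixed points of a
subgroup of index prime to `p`. -/
theorem exists_complement [Finite L] {p : ℕ} [Fact p.Prime] (hcomm : ∀ a b : A, a * b = b * a)
    (φ : L →* MulAut A) (T : Subgroup L)
    (hidx : ¬ p ∣ T.index) (hp : IsPGroup p (fixedSub φ T)) :
    ∃ K : Subgroup A, K ≤ fixedSub φ T ∧ fixedSub φ ⊤ ⊓ K = ⊥ ∧ fixedSub φ ⊤ ⊔ K = fixedSub φ T := by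
  classical
  letI instC : CommGroup A := { (inferInstance : Group A) with mul_comm := hcomm }
  letI : Fintype (L ⧸ T) := Fintype.ofFinite _
  have hpp : p.Prime := Fact.out
  let N : A →* A :=
    { toFun := fun z => ∏ q : L ⧸ T, φ (Quotient.out q) z
      map_one' := by simp
      map_mul' := by
        intro a b
        simp [Finset.prod_mul_distrib] }
  have hN : ∀ z, N z = ∏ q : L ⧸ T, φ (Quotient.out q) z := fun z => rfl
  have hle : fixedSub φ ⊤ ≤ fixedSub φ T := fun z hz t _ => hz t (Subgroup.mem_top t)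
  have hf : ∀ z ∈ fixedSub φ T, ∀ l : L, φ l (N z) = N z := by
    intro z hz l
    let f : L ⧸ T → A := fun q => φ (Quotient.out q) z
    have hfm : ∀ x : L, f (QuotientGroup.mk x) = φ x z := by
      intro x
      have h1 : (x⁻¹ * Quotient.out (QuotientGroup.mk x : L ⧸ T)) ∈ T := by
        have h2 : QuotientGroup.mk (Quotient.out (QuotientGroup.mk x : L ⧸ T)) = (QuotientGroup.mk x : L ⧸ T) :=
          QuotientGroup.out_eq' _
        exact QuotientGroup.eq.mp h2.symm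
      have h3 := hz _ h1
      have h4 : Quotient.out (QuotientGroup.mk x : L ⧸ T) = x * (x⁻¹ * Quotient.out (QuotientGroup.mk x : L ⧸ T)) := by group
      change φ (Quotient.out (QuotientGroup.mk x : L ⧸ T)) z = φ x z
      rw [h4, map_mul, MulAut.mul_apply, h3]
    rw [hN, map_prod]
    have h5 : ∀ q : L ⧸ T, φ l (φ (Quotient.out q) z) = f (l • q) := by
      intro q
      obtain ⟨x, rfl⟩ := QuotientGroup.mk_surjective q
      rw [MulAction.Quotient.smul_mk, hfm, smul_eq_mul, map_mul, MulAut.mul_apply]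
      congr 1
      exact hfm x
    simp_rw [h5]
    exact Equiv.prod_comp (MulAction.toPerm l) f
  have hNfix : ∀ z ∈ fixedSub φ ⊤, N z = z ^ T.index := by
    intro z hz
    rw [hN]
    have : ∀ q : L ⧸ T, φ (Quotient.out q) z = z := fun q => hz _ (Subgroup.mem_top _)
    simp_rw [this]
    rw [Finset.prod_const, Finset.card_univ, ← Nat.card_eq_fintype_card, Subgroup.index]
  have hcop : ∀ z ∈ fixedSub φ T, ∃ k : ℕ, z ^ (p ^ k) = 1 := by
    intro z hz
    obtain ⟨k, hk⟩ := hp ⟨z, hz⟩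
    exact ⟨k, congrArg Subtype.val hk⟩
  refine ⟨(fixedSub φ T) ⊓ N.ker, inf_le_left, ?_, ?_⟩
  · rw [eq_bot_iff]
    rintro z ⟨hz1, -, hz2⟩
    have h1 : N z = 1 := hz2
    rw [hNfix z hz1] at h1
    obtain ⟨k, hk⟩ := hcop z (hle hz1)
    have hc : Nat.Coprime T.index (p ^ k) :=
      Nat.Coprime.pow_right k ((Nat.Prime.coprime_iff_not_dvd hpp).mpr hidx).symm
    have : z ^ (Nat.gcd T.index (p ^ k)) = 1 := pow_gcd_eq_one.mpr ⟨h1, hk⟩
    rw [hc] at this
    simpa using this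
  · apply le_antisymm
    · exact sup_le hle inf_le_left
    · intro z hz
      set c := N z with hc
      have hcF : c ∈ fixedSub φ ⊤ := fun l _ => hf z hz l
      obtain ⟨k, hk⟩ := hcop c (hle hcF)
      have hcp : Nat.Coprime T.index (p ^ k) :=
        Nat.Coprime.pow_right k ((Nat.Prime.coprime_iff_not_dvd hpp).mpr hidx).symm
      have e := Nat.gcd_eq_gcd_ab T.index (p ^ k)
      rw [Nat.Coprime.gcd_eq_one hcp] at e
      set a := Nat.gcdA T.index (p ^ k) with ha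
      set b := Nat.gcdB T.index (p ^ k) with hb
      have hy : (c ^ a) ^ T.index = c := by
        have h : c ^ ((T.index : ℤ) * a + ((p ^ k : ℕ) : ℤ) * b) = c := by
          rw [← e]
          simp
        rw [zpow_add, zpow_mul c ((p ^ k : ℕ) : ℤ), zpow_natCast, hk, one_zpow, mul_one,
          mul_comm (T.index : ℤ), zpow_mul, zpow_natCast] at h
        exact h
      have hyF : c ^ a ∈ fixedSub φ ⊤ := (fixedSub φ ⊤).zpow_mem hcF a
      have h2 : N (c ^ a) = c := by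
        rw [hNfix _ hyF, hy]
      have h3 : z = c ^ a * (z * (c ^ a)⁻¹) := by
        rw [mul_comm z, mul_inv_cancel_left]
      rw [h3]
      refine Subgroup.mul_mem _ (Subgroup.mem_sup_left hyF) (Subgroup.mem_sup_right ⟨?_, ?_⟩)
      · exact (fixedSub φ T).mul_mem hz ((fixedSub φ T).inv_mem (hle hyF))
      · show N (z * (c ^ a)⁻¹) = 1
        rw [map_mul, map_inv, h2, ← hc, mul_inv_cancel]

end Trace

/-- Restriction of automorphisms to the centre. -/
def centerAct (G : Type*) [Group G] : MulAut G →* MulAut (Subgroup.center G) where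
  toFun α :=
    { toFun := fun z => ⟨α z, MulEquivClass.apply_mem_center α z.2⟩
      invFun := fun z => ⟨α⁻¹ z, MulEquivClass.apply_mem_center α⁻¹ z.2⟩
      left_inv := by
        intro z
        apply Subtype.ext
        simp
      right_inv := by
        intro z
        apply Subtype.ext
        simp
      map_mul' := by
        intro a b
        apply Subtype.ext
        simp }
  map_one' := by
    ext z
    rfl
  map_mul' := by
    intro a b
    ext z
    rfl

theorem centerAct_apply {G : Type*} [Group G] (α : MulAut G) (z : Subgroup.center G) :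
    ((centerAct G α z : Subgroup.center G) : G) = α z := rfl

end Cfsg.Agent.Lib.FusionGrun
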