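import Cfsg.Agent.Lib.FusionLocalModel
import Cfsg.Agent.Lib.FusionModelExist
import Cfsg.Agent.Lib.FusionNormSat
import Cfsg.Agent.Lib.FusionLocal
import Cfsg.Agent.Lib.FusionAlperin
import Cfsg.Agent.Lib.FusionGrun

/-!
Control of central elements by a characteristic functor (a weak-closure argument for fusion
systems, running through models of normalizer systems of fully normalized centric subgroups).
-/

set_option autoImplicit false

universe u

namespace Cfsg.Agent.Lib.FusionCenCtl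

open Cfsg Cfsg.FusionSystem Cfsg.Agent.Lib.FusionBasic Cfsg.Agent.Lib.FusionAut
  Cfsg.Agent.Lib.FusionSat Cfsg.Agent.Lib.FusionModel Cfsg.Agent.Lib.FusionLocal
  Cfsg.Agent.Lib.FusionLocalModel Cfsg.Agent.Lib.FusionAlperin

section Abstract

variable {Ω : Type u} [Group Ω] {S : Subgroup Ω} {p : ℕ} [Fact p.Prime]

/-- `x` is moved by an automorphism of `Q` in the system. -/
def AMv (F : FusionSystem S) (x : Ω) (Q : Subgroup Ω) : Prop :=
  ∃ (hx : x ∈ Q) (φ : Q →* Ω), φ ∈ F.Hom Q ∧ φ.range = Q ∧ φ ⟨x, hx⟩ ≠ x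

/-- Maps with large source fix `x`. -/
def FixAbove (F : FusionSystem S) (x : Ω) (M : ℕ) : Prop :=
  ∀ (Q : Subgroup Ω) (φ : Q →* Ω), φ ∈ F.Hom Q → ∀ hx : x ∈ Q, M < Nat.card Q → φ ⟨x, hx⟩ = x

theorem FixAbove.mono {F : FusionSystem S} {x : Ω} {M M' : ℕ} (h : FixAbove F x M) (hM : M ≤ M') :
    FixAbove F x M' := fun Q φ hφ hx hc => h Q φ hφ hx (lt_of_le_of_lt hM hc)

/-- Selecting an element of largest size. -/
theorem exists_max_of_bdd {α : Type*} (s : Set α) (f : α → ℕ) (B : ℕ) (hB : ∀ a ∈ s, f a ≤ B)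
    (hne : s.Nonempty) : ∃ a ∈ s, ∀ b ∈ s, f b ≤ f a := by
  obtain ⟨a₀, ha₀⟩ := hne
  suffices h : ∀ n a, a ∈ s → B - f a ≤ n → ∃ a ∈ s, ∀ b ∈ s, f b ≤ f a from h _ a₀ ha₀ le_rfl
  intro n
  induction n with
  | zero =>
    intro a ha hn
    refine ⟨a, ha, fun b hb => ?_⟩
    have := hB b hb
    omega
  | succ n ih =>
    intro a ha hn
    by_cases hex : ∃ b ∈ s, f a < f b
    · obtain ⟨b, hb, hab⟩ := hex
      exact ih b hb (by have := hB b hb; omega)
    · push Not at hex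
      exact ⟨a, ha, hex⟩

theorem card_le_of_le' [Finite S] {P Q : Subgroup Ω} (hP : Q ≤ S) (h : P ≤ Q) : Nat.card P ≤ Nat.card Q := by
  haveI : Finite Q := finite_of_le hP
  exact Subgroup.card_le_of_le h

theorem card_le_S [Finite S] {P : Subgroup Ω} (h : P ≤ S) : Nat.card P ≤ Nat.card S :=
  Subgroup.card_le_of_le h

theorem mem_normalizerIn_of_central {x : Ω} (hxS : x ∈ S) (hxC : ∀ s ∈ S, s * x = x * s)
    {R : Subgroup Ω} (hR : R ≤ S) : x ∈ normalizerIn S R := by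
  refine ⟨hxS, ?_⟩
  show x ∈ Subgroup.normalizer (R : Set Ω)
  rw [Subgroup.mem_normalizer_iff]
  intro y
  have hcomm : y ∈ R → x * y * x⁻¹ = y := fun hy => by
    rw [← hxC y (hR hy), mul_inv_cancel_right]
  constructor
  · intro hy
    show x * y * x⁻¹ ∈ R
    rw [hcomm hy]
    exact hy
  · intro hy
    have hy' : x * y * x⁻¹ ∈ R := hy
    have h2 := hxC _ (hR hy')
    have h3 : y = x * y * x⁻¹ := by
      have h4 : x * y = x * (x * y * x⁻¹) := by
        rw [← h2]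
        group
      exact mul_left_cancel h4
    rw [h3]
    exact hy'

/-- Two maps onto the same fully normalized subgroup: an automorphism moving `x`. -/
theorem amv_conj [Finite S] (hS : IsPGroup p S) {F : FusionSystem S} (hF : F.IsSaturated p) {x : Ω}
    (hxS : x ∈ S) (hxC : ∀ s ∈ S, s * x = x * s) {M : ℕ} (hfix : FixAbove F x M) {Q₀ X : Subgroup Ω}
    {φ₀ : Q₀ →* Ω} (hφ₀ : φ₀ ∈ F.Hom Q₀) (hx₀ : x ∈ Q₀) (hmv : φ₀ ⟨x, hx₀⟩ ≠ x)
    (hM₀ : M < Nat.card (normalizerIn S Q₀)) (hM₁ : M < Nat.card (normalizerIn S φ₀.range))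
    (hXn : F.IsFullyNormalized X) (hconj : F.IsConj Q₀ X) :
    AMv F x X ∧ M < Nat.card (normalizerIn S X) := by
  have hnorm : ∀ R : Subgroup Ω, R ≤ S → x ∈ normalizerIn S R := fun R hR => mem_normalizerIn_of_central hxS hxC hR
  have hQ₀S : Q₀ ≤ S := source_le F hφ₀
  have hrS : φ₀.range ≤ S := range_le F hφ₀
  have hconj₁ : F.IsConj φ₀.range X := isConj_trans F (isConj_symm F (isConj_range F hφ₀)) hconj
  obtain ⟨ζ₀, hζ₀, -, hin₀, hsurj₀⟩ := IsSaturated.exists_normalizer_map hS hF hXn hconj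
  obtain ⟨ζ₁, hζ₁, -, hin₁, hsurj₁⟩ := IsSaturated.exists_normalizer_map hS hF hXn hconj₁
  have hζ₀x : ζ₀ ⟨x, hnorm _ hQ₀S⟩ = x := hfix _ ζ₀ hζ₀ _ hM₀
  have hζ₁x : ζ₁ ⟨x, hnorm _ hrS⟩ = x := hfix _ ζ₁ hζ₁ _ hM₁
  have hle₀ : Q₀ ≤ normalizerIn S Q₀ := le_normalizerIn hQ₀S
  have hle₁ : φ₀.range ≤ normalizerIn S φ₀.range := le_normalizerIn hrS
  have hρ₀ := restrict_mem F hζ₀ hle₀
  have hρ₁ := restrict_mem F hζ₁ hle₁
  have hr₀ : (ζ₀.comp (Subgroup.inclusion hle₀)).range = X := by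
    ext y
    constructor
    · rintro ⟨w, rfl⟩
      exact hin₀ w w.2 _
    · intro hy
      obtain ⟨w, hw, hN, e⟩ := hsurj₀ y hy
      exact ⟨⟨w, hw⟩, e⟩
  have hr₁ : (ζ₁.comp (Subgroup.inclusion hle₁)).range = X := by
    ext y
    constructor
    · rintro ⟨w, rfl⟩
      exact hin₁ w w.2 _
    · intro hy
      obtain ⟨w, hw, hN, e⟩ := hsurj₁ y hy
      exact ⟨⟨w, hw⟩, e⟩
  obtain ⟨ψ₀, hψ₀, h1, h2, -⟩ := exists_inverse F hρ₀ hr₀
  obtain ⟨χ₁, hχ₁, hχe⟩ := exists_comp F hψ₀ hφ₀ h2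
  have hval : ∀ y : X, χ₁ y ∈ φ₀.range := fun y => by
    rw [hχe y]
    exact ⟨_, rfl⟩
  obtain ⟨β, hβ, hβe⟩ := exists_comp F hχ₁ hρ₁ hval
  have hxX : x ∈ X := by
    have := hin₀ x hx₀ (hnorm _ hQ₀S)
    rwa [hζ₀x] at this
  have hβr : β.range = X := by
    haveI : Finite X := finite_of_le (source_le F hβ)
    apply Subgroup.eq_of_le_of_card_ge
    · rintro _ ⟨y, rfl⟩
      have hm : ∀ w, (ζ₁.comp (Subgroup.inclusion hle₁)) w ∈ X := fun w =>
        hr₁ ▸ (⟨w, rfl⟩ : (ζ₁.comp (Subgroup.inclusion hle₁)) w ∈ (ζ₁.comp (Subgroup.inclusion hle₁)).range)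
      rw [hβe y]
      exact hm _
    · rw [card_range_eq F hβ]
  have hψx : ψ₀ ⟨x, hxX⟩ = x := by
    have hm : (ζ₀.comp (Subgroup.inclusion hle₀)) ⟨x, hx₀⟩ ∈ X := by
      rw [← hr₀]
      exact ⟨_, rfl⟩
    have h3 := h1 ⟨x, hx₀⟩ hm
    have h4 : (⟨(ζ₀.comp (Subgroup.inclusion hle₀)) ⟨x, hx₀⟩, hm⟩ : X) = ⟨x, hxX⟩ := Subtype.ext hζ₀x
    rw [h4] at h3
    exact h3
  refine ⟨⟨hxX, β, hβ, hβr, fun hcon => hmv ?_⟩, ?_⟩
  · have e1 : β ⟨x, hxX⟩ = ζ₁ ⟨χ₁ ⟨x, hxX⟩, hle₁ (hval _)⟩ := hβe _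
    have e2 : χ₁ ⟨x, hxX⟩ = φ₀ ⟨x, hx₀⟩ := by
      rw [hχe]
      congr 1
      exact Subtype.ext hψx
    have e3 : ζ₁ ⟨φ₀ ⟨x, hx₀⟩, hle₁ ⟨_, rfl⟩⟩ = ζ₁ ⟨x, hnorm _ hrS⟩ := by
      have e5 : ζ₁ ⟨φ₀ ⟨x, hx₀⟩, hle₁ ⟨_, rfl⟩⟩ = β ⟨x, hxX⟩ := by
        rw [e1]
        congr 2
        exact e2.symm
      rw [e5, hcon, hζ₁x]
    have e4 := F.injective_of_mem hζ₁ e3
    exact congrArg Subtype.val e4
  · exact lt_of_lt_of_le hM₀ (hXn.2 _ (isConj_symm F hconj))

/-- The normalizer normalizes a join. -/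
theorem mem_normalizer_iff_map {g : Ω} {H : Subgroup Ω} :
    g ∈ Subgroup.normalizer (H : Set Ω) ↔ H.map (MulAut.conj g).toMonoidHom = H := by
  constructor
  · intro hg
    have hg' := Subgroup.mem_normalizer_iff.mp hg
    ext y
    constructor
    · rintro ⟨h, hh, rfl⟩
      exact (hg' h).mp hh
    · intro hy
      refine ⟨g⁻¹ * y * g, (hg' _).mpr ?_, ?_⟩
      · have : g * (g⁻¹ * y * g) * g⁻¹ = y := by group
        rw [this]
        exact hy
      · show g * (g⁻¹ * y * g) * g⁻¹ = y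
        group
  · intro h
    rw [Subgroup.mem_normalizer_iff]
    intro y
    constructor
    · intro hy
      rw [← h]
      exact ⟨y, hy, rfl⟩
    · intro hy
      rw [← h] at hy
      obtain ⟨y', hy', e⟩ := hy
      have e' : y' = y := (MulAut.conj g).injective e
      exact e' ▸ hy'

theorem normalizerIn_le_sup_centralizer (X : Subgroup Ω) :
    normalizerIn S X ≤ normalizerIn S (X ⊔ centralizerIn S X) := by
  rintro g ⟨hgS, hgN⟩
  refine ⟨hgS, ?_⟩
  have hgN' : g ∈ Subgroup.normalizer (X : Set Ω) := hgN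
  have h1 := mem_normalizer_iff_map.mp hgN'
  have hgi := Subgroup.mem_normalizer_iff.mp hgN'
  have h2 : g ∈ Subgroup.normalizer ((centralizerIn S X : Subgroup Ω) : Set Ω) := by
    rw [Subgroup.mem_normalizer_iff]
    intro c
    have key : ∀ (g : Ω), g ∈ S → (∀ y, y ∈ X ↔ g * y * g⁻¹ ∈ X) → ∀ c, c ∈ centralizerIn S X →
        g * c * g⁻¹ ∈ centralizerIn S X := by
      intro g hgS hgi c hc
      refine ⟨S.mul_mem (S.mul_mem hgS hc.1) (S.inv_mem hgS), ?_⟩
      show g * c * g⁻¹ ∈ Subgroup.centralizer (X : Set Ω)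
      rw [Subgroup.mem_centralizer_iff]
      intro w hw
      have hw' : g⁻¹ * w * g ∈ X := by
        rw [hgi]
        have : g * (g⁻¹ * w * g) * g⁻¹ = w := by group
        rw [this]
        exact hw
      have hcc := (Subgroup.mem_centralizer_iff.mp hc.2) _ hw'
      calc w * (g * c * g⁻¹) = g * ((g⁻¹ * w * g) * c) * g⁻¹ := by group
        _ = g * (c * (g⁻¹ * w * g)) * g⁻¹ := by rw [hcc]
        _ = g * c * g⁻¹ * w := by group
    constructor
    · exact key g hgS hgi c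
    · intro hc
      have hinv : ∀ y, y ∈ X ↔ g⁻¹ * y * g⁻¹⁻¹ ∈ X := by
        intro y
        rw [hgi (g⁻¹ * y * g⁻¹⁻¹)]
        have : g * (g⁻¹ * y * g⁻¹⁻¹) * g⁻¹ = y := by group
        rw [this]
      have := key g⁻¹ (S.inv_mem hgS) hinv _ hc
      have e : g⁻¹ * (g * c * g⁻¹) * g⁻¹⁻¹ = c := by group
      rwa [e] at this
  have h3 := mem_normalizer_iff_map.mp h2
  show g ∈ Subgroup.normalizer (((X ⊔ centralizerIn S X : Subgroup Ω)) : Set Ω)
  rw [mem_normalizer_iff_map, Subgroup.map_sup, h1, h3]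

/-- Reduction to a fully normalized subgroup containing its centralizer in `S`. -/
theorem exists_centric_amv [Finite S] (hS : IsPGroup p S) {F : FusionSystem S} (hF : F.IsSaturated p)
    {x : Ω} (hxS : x ∈ S) (hxC : ∀ s ∈ S, s * x = x * s) {M : ℕ} (hfix : FixAbove F x M)
    {Q₁ : Subgroup Ω} (hQ₁ : AMv F x Q₁) (hM₁ : M < Nat.card (normalizerIn S Q₁)) :
    ∃ Q, F.IsFullyNormalized Q ∧ centralizerIn S Q ≤ Q ∧ AMv F x Q ∧
      M < Nat.card (normalizerIn S Q) := by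
  have hle : ∀ {Q : Subgroup Ω}, AMv F x Q → Q ≤ S := by
    rintro Q ⟨-, φ, hφ, -, -⟩
    exact source_le F hφ
  obtain ⟨Q, ⟨hQA, hQM⟩, hQmax⟩ := exists_max_of_bdd
    {Q : Subgroup Ω | AMv F x Q ∧ M < Nat.card (normalizerIn S Q)} (fun Q => Nat.card Q) (Nat.card S)
    (fun Q hQ => card_le_S (hle hQ.1)) ⟨Q₁, hQ₁, hM₁⟩
  have hQS := hle hQA
  obtain ⟨X, hconj, hXn⟩ := exists_isConj_fullyNormalized F hQS
  obtain ⟨hx₀, φ, hφ, hφr, hmv⟩ := hQA
  have hr : M < Nat.card (normalizerIn S φ.range) := by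
    rw [hφr]
    exact hQM
  obtain ⟨hXA, hXM⟩ := amv_conj hS hF hxS hxC hfix hφ hx₀ hmv hQM hr hXn hconj
  refine ⟨X, hXn, ?_, hXA, hXM⟩
  have hcX := card_eq_of_isConj F hconj
  have hXS : X ≤ S := hle hXA
  obtain ⟨hxX, β, hβ, hβr, hβmv⟩ := hXA
  obtain ⟨ψ, hψ, hψe⟩ := (IsSaturated.fullyNormalized hS hF hXn).2.2 X β hβ hβr
  have hβS : ∀ y : X, β y ∈ S := fun y => map_mem_S F hβ y
  have hle2 : X ⊔ centralizerIn S X ≤ extender S X β :=
    sup_le (le_extender hXS β hβS) (centralizerIn_le_extender S X β)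
  obtain ⟨ρ, hρ, hρX⟩ : ∃ ρ ∈ F.Hom (X ⊔ centralizerIn S X), ∀ (y : Ω) (hy : y ∈ X),
      ρ ⟨y, Subgroup.mem_sup_left hy⟩ = β ⟨y, hy⟩ :=
    ⟨ψ.comp (Subgroup.inclusion hle2), restrict_mem F hψ hle2, fun y hy => hψe y hy _⟩
  have hval : ∀ y, ρ y ∈ X ⊔ centralizerIn S X := by
    refine sup_values_mem ρ ?_ ?_
    · intro y hy
      rw [hρX y hy]
      apply Subgroup.mem_sup_left
      exact hβr.le (MonoidHom.mem_range.mpr ⟨_, rfl⟩)
    · intro c hc
      apply Subgroup.mem_sup_right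
      refine ⟨map_mem_S F hρ _, ?_⟩
      show ρ ⟨c, Subgroup.mem_sup_right hc⟩ ∈ Subgroup.centralizer (X : Set Ω)
      rw [Subgroup.mem_centralizer_iff]
      intro w hw
      rw [← hβr] at hw
      obtain ⟨w', rfl⟩ := hw
      have e1 := hρX w' w'.2
      have hcm : (⟨(w' : Ω), Subgroup.mem_sup_left w'.2⟩ : ↥(X ⊔ centralizerIn S X)) *
          ⟨c, Subgroup.mem_sup_right hc⟩ = ⟨c, Subgroup.mem_sup_right hc⟩ *
          ⟨(w' : Ω), Subgroup.mem_sup_left w'.2⟩ := by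
        apply Subtype.ext
        exact (Subgroup.mem_centralizer_iff.mp hc.2) w' w'.2
      have e2 := congrArg ρ hcm
      rw [map_mul, map_mul, e1] at e2
      exact e2
  haveI : Finite ↥(X ⊔ centralizerIn S X) := finite_of_le (source_le F hρ)
  have hρr : ρ.range = X ⊔ centralizerIn S X := by
    apply Subgroup.eq_of_le_of_card_ge
    · rintro _ ⟨y, rfl⟩
      exact hval y
    · rw [card_range_eq F hρ]
  have hA2 : AMv F x (X ⊔ centralizerIn S X) := by
    refine ⟨Subgroup.mem_sup_left hxX, ρ, hρ, hρr, ?_⟩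
    rw [hρX x hxX]
    exact hβmv
  have hM2 : M < Nat.card (normalizerIn S (X ⊔ centralizerIn S X)) :=
    lt_of_lt_of_le hXM (card_le_of_le' inf_le_left (normalizerIn_le_sup_centralizer X))
  have hc2 := hQmax _ ⟨hA2, hM2⟩
  have heq : X = X ⊔ centralizerIn S X := by
    haveI : Finite ↥(X ⊔ centralizerIn S X) := finite_of_le (source_le F hρ)
    apply Subgroup.eq_of_le_of_card_ge le_sup_left
    show Nat.card ↥(X ⊔ centralizerIn S X) ≤ Nat.card X
    rw [← hcX]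
    exact hc2
  have h5 : centralizerIn S X ≤ X ⊔ centralizerIn S X := le_sup_right
  rwa [← heq] at h5

/-- The image of the functor on a subgroup. -/
def Wof (W : ∀ (Q : Type u) [Group Q], Subgroup Q) (R : Subgroup Ω) : Subgroup Ω :=
  (W ↥R).map R.subtype

theorem Wof_le (W : ∀ (Q : Type u) [Group Q], Subgroup Q) (R : Subgroup Ω) : Wof W R ≤ R := by
  rintro _ ⟨y, -, rfl⟩
  exact y.2

/-- The local hypothesis (for the element `c ^ k` with `c` central in a Sylow subgroup). -/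
def LocFix (W : ∀ (Q : Type u) [Group Q], Subgroup Q) (p k : ℕ) : Prop :=
  ∀ (L : Type u) [Group L] [Finite L] (P : Sylow p L) (c : L),
    Subgroup.centralizer ((pCore p L : Subgroup L) : Set L) ≤ pCore p L →
    c ∈ (P : Subgroup L) → (∀ t ∈ (P : Subgroup L), t * c = c * t) →
    (∀ g ∈ Subgroup.normalizer (((W ↥(P : Subgroup L)).map (P : Subgroup L).subtype : Subgroup L) : Set L),
      g * c ^ k * g⁻¹ = c ^ k) →
    ∀ g : L, g * c ^ k * g⁻¹ = c ^ k

/-- Local step: a moved element in a fully normalized centric subgroup gives an automorphism of the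
functor image of its normalizer moving the element. -/
theorem amv_of_centric {W : ∀ (Q : Type u) [Group Q], Subgroup Q} {k : ℕ} (hLoc : LocFix W p k)
    (hW2 : ∀ (Q R : Type u) [Group Q] [Group R] [Finite Q], IsPGroup p Q → ∀ φ : Q ≃* R,
      (W Q).map φ.toMonoidHom = W R)
    (hWZ : ∀ (Q : Type u) [Group Q] [Finite Q], IsPGroup p Q → Subgroup.center Q ≤ W Q)
    [Finite S] (hS : IsPGroup p S) {F : FusionSystem S} (hF : F.IsSaturated p)
    {z : Ω} (hzS : z ∈ S) (hzC : ∀ s ∈ S, s * z = z * s) {Q : Subgroup Ω}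
    (hQn : F.IsFullyNormalized Q) (hQc : centralizerIn S Q ≤ Q) (hA : AMv F (z ^ k) Q) :
    AMv F (z ^ k) (Wof W (normalizerIn S Q)) := by
  by_contra hnone
  have hQS : Q ≤ S := hQn.1
  have hTS : normalizerIn S Q ≤ S := inf_le_left
  haveI hTfin : Finite ↥(normalizerIn S Q) := finite_of_le hTS
  have hTp : IsPGroup p ↥(normalizerIn S Q) := hS.to_le hTS
  have hQcen : F.IsCentric Q := isCentric_of_fullyCentralized hS hF
    (IsReceptive.isFullyCentralized (IsSaturated.fullyNormalized hS hF hQn).2) hQc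
  have hN := isNormalizerSystem_normalizerSystem F Q hQS
  obtain ⟨L, _, ι, hfin, hR, ⟨P, hP⟩, hC⟩ := FusionModelExist.exists_model hTp _
    (isConstrained_normalizerSystem hS hF hQn hQcen hN)
  haveI : Finite L := hfin
  obtain ⟨hx, β, hβ, hβr, hmv⟩ := hA
  have hβN : β ∈ (normalizerSystem F Q hQS).Hom Q := by
    have h1 : isoOfRange hβ hβr ∈ F.autGroup Q := by
      rw [mem_autGroup_iff F hQS]
      exact hom_of_eq hβ fun y => rfl
    rw [← autGroup_normalizerSystem hN hQS, mem_autGroup_iff _ (le_normalizerIn hQS)] at h1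
    exact hom_of_eq h1 fun y => rfl
  obtain ⟨hPle, hvals, g, hg⟩ := exists_conj_of_mem hR hβN
  have hzT : z ∈ normalizerIn S Q := mem_normalizerIn_of_central hzS hzC hQS
  have hzkT : z ^ k ∈ normalizerIn S Q := Subgroup.pow_mem _ hzT k
  set c : L := ι ⟨z, hzT⟩ with hc
  have hck : c ^ k = ι ⟨z ^ k, hzkT⟩ := by
    rw [hc, ← map_pow]
    rfl
  have hPr : ∀ t, t ∈ (P : Subgroup L) ↔ ∃ s, ι s = t := by
    intro t
    rw [hP, MonoidHom.mem_range]
  have hzcomm : ∀ s : ↥(normalizerIn S Q), s * ⟨z, hzT⟩ = ⟨z, hzT⟩ * s := fun s =>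
    Subtype.ext (hzC _ (hTS s.2))
  -- the group-theoretic input
  have hmain := hLoc L P c hC ((hPr c).mpr ⟨_, rfl⟩) (by
    intro t ht
    obtain ⟨s, rfl⟩ := (hPr t).mp ht
    rw [hc, ← map_mul, ← map_mul, hzcomm]) (by
    intro g' hg'
    let e : ↥(normalizerIn S Q) ≃* ↥(P : Subgroup L) :=
      (MonoidHom.ofInjective hR.1).trans (MulEquiv.subgroupCongr hP.symm)
    have hec : ∀ t, (e t : L) = ι t := fun _ => rfl
    have hnat := hW2 _ _ hTp e
    have himg : (W ↥(P : Subgroup L)).map (P : Subgroup L).subtype =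
        imageAlong ι (Wof W (normalizerIn S Q)) := by
      rw [← hnat]
      ext y
      constructor
      · rintro ⟨_, ⟨t, ht, rfl⟩, rfl⟩
        refine ⟨t, ?_, rfl⟩
        exact ⟨t, ht, rfl⟩
      · rintro ⟨t, ⟨t₀, ht₀, e₀⟩, rfl⟩
        have h1 : t₀ = t := Subtype.ext e₀
        subst h1
        exact ⟨e t₀, ⟨t₀, ht₀, rfl⟩, rfl⟩
    rw [himg] at hg'
    have hg'' := Subgroup.mem_normalizer_iff.mp hg'
    have hWT : Wof W (normalizerIn S Q) ≤ normalizerIn S Q := Wof_le W _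
    have hmemW : ∀ y : ↥(Wof W (normalizerIn S Q)),
        conjOn ι hWT g' y ∈ imageAlong ι (Wof W (normalizerIn S Q)) := by
      intro y
      rw [conjOn_apply]
      apply (hg'' _).mp
      exact ⟨⟨y, hWT y.2⟩, y.2, rfl⟩
    have hvalW : ∀ y, conjOn ι hWT g' y ∈ ι.range := fun y =>
      imageAlong_le_range ι _ (hmemW y)
    have hαN := liftHom_conj_mem hR hWT g' hvalW
    set α := liftHom hR.1 (conjOn ι hWT g') hvalW with hα
    have hαF : α ∈ F.Hom (Wof W (normalizerIn S Q)) := by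
      have := hαN
      rw [hN] at this
      exact this.1
    have hαr : α.range = Wof W (normalizerIn S Q) := by
      haveI : Finite ↥(Wof W (normalizerIn S Q)) := finite_of_le (source_le F hαF)
      apply Subgroup.eq_of_le_of_card_ge
      · rintro _ ⟨y, rfl⟩
        have h1 := ι_liftHom hR.1 _ hvalW y
        have h2 := hmemW y
        rw [← h1] at h2
        exact (mem_imageAlong_iff hR.1 _).mp h2
      · rw [card_range_eq F hαF]
    have hxW : z ^ k ∈ Wof W (normalizerIn S Q) := by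
      have hcen : (⟨z ^ k, hzkT⟩ : ↥(normalizerIn S Q)) ∈ Subgroup.center ↥(normalizerIn S Q) := by
        rw [Subgroup.mem_center_iff]
        intro s
        apply Subtype.ext
        have h1 := hzC _ (hTS s.2)
        exact (Commute.pow_right h1 k).eq
      exact ⟨_, hWZ _ hTp hcen, rfl⟩
    have hαx : α ⟨z ^ k, hxW⟩ = z ^ k := by
      by_contra hne
      exact hnone ⟨hxW, α, hαF, hαr, hne⟩
    have h1 := ι_liftHom hR.1 _ hvalW ⟨z ^ k, hxW⟩
    rw [conjOn_apply] at h1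
    have h2 : (⟨liftHom hR.1 (conjOn ι hWT g') hvalW ⟨z ^ k, hxW⟩, liftHom_mem hR.1 _ hvalW _⟩ :
        ↥(normalizerIn S Q)) = ⟨z ^ k, hzkT⟩ := Subtype.ext hαx
    rw [h2] at h1
    rw [hck]
    exact h1.symm)
  -- contradiction with the moved element
  have h3 := hg ⟨z ^ k, hx⟩
  have h4 := hmain g
  rw [hck] at h4
  apply hmv
  have h5 : (⟨β ⟨z ^ k, hx⟩, hvals _⟩ : ↥(normalizerIn S Q)) = ⟨z ^ k, hzkT⟩ := by
    apply hR.1
    rw [h3]
    exact h4
  exact congrArg Subtype.val h5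

/-- Automorphisms of `S` act on the functor image. -/
theorem amv_wof_top {W : ∀ (Q : Type u) [Group Q], Subgroup Q}
    (hW2 : ∀ (Q R : Type u) [Group Q] [Group R] [Finite Q], IsPGroup p Q → ∀ φ : Q ≃* R,
      (W Q).map φ.toMonoidHom = W R)
    [Finite S] (hS : IsPGroup p S) {F : FusionSystem S} {x : Ω} (hxW : x ∈ Wof W S)
    {φ : S →* Ω} (hφ : φ ∈ F.Hom S) (hxS : x ∈ S) (hmv : φ ⟨x, hxS⟩ ≠ x) : AMv F x (Wof W S) := by
  have hr : φ.range = S := eq_of_isConj_self (isConj_range F hφ)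
  have hnat := hW2 _ _ hS (isoOfRange hφ hr)
  have hle : Wof W S ≤ S := Wof_le W S
  have hρ := restrict_mem F hφ hle
  refine ⟨hxW, _, hρ, ?_, hmv⟩
  haveI : Finite ↥(Wof W S) := finite_of_le hle
  apply Subgroup.eq_of_le_of_card_ge
  · rintro _ ⟨y, rfl⟩
    obtain ⟨y₀, hy₀, e⟩ := y.2
    have h1 : (⟨(y : Ω), hle y.2⟩ : S) = y₀ := Subtype.ext e.symm
    show φ ⟨(y : Ω), hle y.2⟩ ∈ Wof W S
    rw [h1]
    refine ⟨isoOfRange hφ hr y₀, ?_, rfl⟩
    rw [← hnat]
    exact ⟨y₀, hy₀, rfl⟩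
  · rw [card_range_eq F hρ]

section Main

variable {W : ∀ (Q : Type u) [Group Q], Subgroup Q} {k : ℕ}

/-- Normalizers of `R` normalize the functor image of `R`. -/
theorem normalizerIn_le_normalizerIn_Wof
    (hW2 : ∀ (Q R : Type u) [Group Q] [Group R] [Finite Q], IsPGroup p Q → ∀ φ : Q ≃* R,
      (W Q).map φ.toMonoidHom = W R)
    [Finite S] (hS : IsPGroup p S) {R : Subgroup Ω} (hR : R ≤ S) :
    normalizerIn S R ≤ normalizerIn S (Wof W R) := by
  rintro g ⟨hgS, hgN⟩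
  refine ⟨hgS, ?_⟩
  haveI : Finite R := finite_of_le hR
  have hRp : IsPGroup p R := hS.to_le hR
  have hnat := hW2 _ _ hRp (conjAut R ⟨g, hgN⟩)
  show g ∈ Subgroup.normalizer ((Wof W R : Subgroup Ω) : Set Ω)
  rw [mem_normalizer_iff_map]
  apply le_antisymm
  · rintro _ ⟨_, ⟨y, hy, rfl⟩, rfl⟩
    refine ⟨conjAut R ⟨g, hgN⟩ y, ?_, rfl⟩
    rw [← hnat]
    exact ⟨y, hy, rfl⟩
  · rintro _ ⟨y, hy, rfl⟩
    rw [← hnat] at hy
    obtain ⟨y₀, hy₀, rfl⟩ := hy
    exact ⟨_, ⟨y₀, hy₀, rfl⟩, rfl⟩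

theorem exists_larger (hLoc : LocFix W p k)
    (hW2 : ∀ (Q R : Type u) [Group Q] [Group R] [Finite Q], IsPGroup p Q → ∀ φ : Q ≃* R,
      (W Q).map φ.toMonoidHom = W R)
    (hWZ : ∀ (Q : Type u) [Group Q] [Finite Q], IsPGroup p Q → Subgroup.center Q ≤ W Q)
    [Finite S] (hS : IsPGroup p S) {F : FusionSystem S} (hF : F.IsSaturated p)
    {z : Ω} (hzS : z ∈ S) (hzC : ∀ s ∈ S, s * z = z * s) {M : ℕ} (hfix : FixAbove F (z ^ k) M)
    {Y : Subgroup Ω} (hY : AMv F (z ^ k) Y) (hM : M < Nat.card (normalizerIn S Y)) :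
    ∃ T, T ≤ S ∧ AMv F (z ^ k) (Wof W T) ∧ M < Nat.card T := by
  have hxS : z ^ k ∈ S := Subgroup.pow_mem _ hzS k
  have hxC : ∀ s ∈ S, s * z ^ k = z ^ k * s := fun s hs => (Commute.pow_right (hzC s hs) k).eq
  obtain ⟨Q, hQn, hQc, hQA, hQM⟩ := exists_centric_amv hS hF hxS hxC hfix hY hM
  exact ⟨_, inf_le_left, amv_of_centric hLoc hW2 hWZ hS hF hzS hzC hQn hQc hQA, hQM⟩

theorem no_large (hLoc : LocFix W p k)
    (hW2 : ∀ (Q R : Type u) [Group Q] [Group R] [Finite Q], IsPGroup p Q → ∀ φ : Q ≃* R,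
      (W Q).map φ.toMonoidHom = W R)
    (hWZ : ∀ (Q : Type u) [Group Q] [Finite Q], IsPGroup p Q → Subgroup.center Q ≤ W Q)
    [Finite S] (hS : IsPGroup p S) {F : FusionSystem S} (hF : F.IsSaturated p)
    {z : Ω} (hzS : z ∈ S) (hzC : ∀ s ∈ S, s * z = z * s) (H : ¬ AMv F (z ^ k) (Wof W S)) {M : ℕ}
    (hfix : FixAbove F (z ^ k) M) {T : Subgroup Ω} (hT : T ≤ S) (hA : AMv F (z ^ k) (Wof W T))
    (hM : M < Nat.card T) : False := by
  obtain ⟨R, ⟨hRS, hRA, hRM⟩, hRmax⟩ := exists_max_of_bdd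
    {R : Subgroup Ω | R ≤ S ∧ AMv F (z ^ k) (Wof W R) ∧ M < Nat.card R} (fun R => Nat.card R) (Nat.card S)
    (fun R hR => card_le_S hR.1) ⟨T, hT, hA, hM⟩
  have hne : R ≠ S := by
    rintro rfl
    exact H hRA
  have hlt : R < S := lt_of_le_of_ne hRS hne
  have h1 := lt_normalizerIn hS hlt
  haveI : Finite ↥(normalizerIn S (Wof W R)) := finite_of_le inf_le_left
  haveI : Finite ↥(normalizerIn S R) := finite_of_le inf_le_left
  have h2 : Nat.card R < Nat.card (normalizerIn S R) :=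
    lt_of_not_ge fun hge => h1.ne (Subgroup.eq_of_le_of_card_ge h1.le hge)
  have h3 : Nat.card (normalizerIn S R) ≤ Nat.card (normalizerIn S (Wof W R)) :=
    Subgroup.card_le_of_le (normalizerIn_le_normalizerIn_Wof hW2 hS hRS)
  obtain ⟨T', hT'S, hT'A, hT'M⟩ := exists_larger hLoc hW2 hWZ hS hF hzS hzC
    (FixAbove.mono hfix hRM.le) hRA (lt_of_lt_of_le h2 h3)
  have := hRmax T' ⟨hT'S, hT'A, hRM.trans hT'M⟩
  exact absurd hT'M (not_lt.mpr this)

/-- The weak-closure theorem: all maps fix `z ^ k`. -/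
theorem fixed_of_loc (hLoc : LocFix W p k)
    (hW2 : ∀ (Q R : Type u) [Group Q] [Group R] [Finite Q], IsPGroup p Q → ∀ φ : Q ≃* R,
      (W Q).map φ.toMonoidHom = W R)
    (hWZ : ∀ (Q : Type u) [Group Q] [Finite Q], IsPGroup p Q → Subgroup.center Q ≤ W Q)
    [Finite S] (hS : IsPGroup p S) {F : FusionSystem S} (hF : F.IsSaturated p)
    {z : Ω} (hzS : z ∈ S) (hzC : ∀ s ∈ S, s * z = z * s) (H : ¬ AMv F (z ^ k) (Wof W S)) :
    ∀ (Q : Subgroup Ω) (φ : Q →* Ω), φ ∈ F.Hom Q → ∀ hx : z ^ k ∈ Q, φ ⟨z ^ k, hx⟩ = z ^ k := by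
  have hxS : z ^ k ∈ S := Subgroup.pow_mem _ hzS k
  have hxC : ∀ s ∈ S, s * z ^ k = z ^ k * s := fun s hs => (Commute.pow_right (hzC s hs) k).eq
  have hxW : z ^ k ∈ Wof W S := by
    have hcen : (⟨z ^ k, hxS⟩ : S) ∈ Subgroup.center S := by
      rw [Subgroup.mem_center_iff]
      intro s
      exact Subtype.ext (hxC s s.2)
    exact ⟨_, hWZ _ hS hcen, rfl⟩
  have hall : ∀ n M, Nat.card S ≤ M + n → FixAbove F (z ^ k) M := by
    intro n
    induction n with
    | zero =>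
      intro M hM Q φ hφ hx hc
      have := card_le_S (source_le F hφ)
      omega
    | succ n ih =>
      intro M hM Q φ hφ hx hc
      by_contra hmv
      have hfix := ih (M + 1) (by omega)
      have hQS := source_le F hφ
      have hQc : Nat.card Q = M + 1 := by
        by_contra hne
        exact hmv (hfix Q φ hφ hx (by omega))
      by_cases hQeq : Q = S
      · subst hQeq
        exact H (amv_wof_top hW2 hS hxW hφ hxS hmv)
      · have hlt : Q < S := lt_of_le_of_ne hQS hQeq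
        have hrS : φ.range ≤ S := range_le F hφ
        have hrc : Nat.card φ.range = M + 1 := by rw [card_range_eq F hφ, hQc]
        have hcS : Nat.card Q < Nat.card S :=
          lt_of_not_ge fun hge => hlt.ne (Subgroup.eq_of_le_of_card_ge hlt.le hge)
        have hrlt : φ.range < S := by
          refine lt_of_le_of_ne hrS ?_
          intro h
          have : Nat.card φ.range = Nat.card S := by rw [h]
          omega
        have hN₀ := lt_normalizerIn hS hlt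
        have hN₁ := lt_normalizerIn hS hrlt
        haveI : Finite ↥(normalizerIn S Q) := finite_of_le inf_le_left
        haveI : Finite ↥(normalizerIn S φ.range) := finite_of_le inf_le_left
        have hM₀ : M + 1 < Nat.card (normalizerIn S Q) := by
          rw [← hQc]
          exact lt_of_not_ge fun hge => hN₀.ne (Subgroup.eq_of_le_of_card_ge hN₀.le hge)
        have hM₁ : M + 1 < Nat.card (normalizerIn S φ.range) := by
          rw [← hrc]
          exact lt_of_not_ge fun hge => hN₁.ne (Subgroup.eq_of_le_of_card_ge hN₁.le hge)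
        obtain ⟨X, hconj, hXn⟩ := exists_isConj_fullyNormalized F hQS
        obtain ⟨hXA, hXM⟩ := amv_conj hS hF hxS hxC hfix hφ hx hmv hM₀ hM₁ hXn hconj
        obtain ⟨T, hTS, hTA, hTM⟩ := exists_larger hLoc hW2 hWZ hS hF hzS hzC hfix hXA hXM
        exact no_large hLoc hW2 hWZ hS hF hzS hzC H hfix hTS hTA hTM
  intro Q φ hφ hx
  have hQS := source_le F hφ
  haveI : Finite Q := finite_of_le hQS
  by_cases h0 : 0 < Nat.card Q
  · exact hall (Nat.card S) 0 (by omega) Q φ hφ hx h0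
  · exact absurd Nat.card_pos h0

end Main

end Abstract

end Cfsg.Agent.Lib.FusionCenCtl
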