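import Cfsg.Agent.Lib.FusionCenCtl
import Cfsg.Agent.Lib.PCore
import Cfsg.Agent.Lib.FitCore
import Cfsg.Agent.Lib.SylowIn
import Cfsg.Agent.Lib.PIrreducible

/-!
Quadratic elements and `p`-th powers of central elements of a Sylow subgroup: the local condition.
-/

set_option autoImplicit false

universe u

namespace Cfsg.Agent.Lib.FusionCenQuad

open Cfsg Cfsg.Agent.Lib.FusionCenCtl

section Formula

variable {L : Type*} [Group L]

theorem quad_pow {V : Subgroup L} {t : L}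
    (hq : ∀ a ∈ V, t * (t * a * t⁻¹ * a⁻¹) * t⁻¹ = t * a * t⁻¹ * a⁻¹) {a : L} (ha : a ∈ V) (n : ℕ) :
    t ^ n * a * (t ^ n)⁻¹ = (t * a * t⁻¹ * a⁻¹) ^ n * a := by
  induction n with
  | zero => simp
  | succ n ih =>
    have h1 : t * (t * a * t⁻¹ * a⁻¹) ^ n * t⁻¹ = (t * a * t⁻¹ * a⁻¹) ^ n := by
      rw [← conj_pow, hq a ha]
    calc t ^ (n + 1) * a * (t ^ (n + 1))⁻¹ = t * (t ^ n * a * (t ^ n)⁻¹) * t⁻¹ := by
          rw [pow_succ']
          group
      _ = t * (t * a * t⁻¹ * a⁻¹) ^ n * t⁻¹ * (t * a * t⁻¹) := by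
          rw [ih]
          group
      _ = (t * a * t⁻¹ * a⁻¹) ^ n * (t * a * t⁻¹) := by rw [h1]
      _ = (t * a * t⁻¹ * a⁻¹) ^ (n + 1) * a := by
          rw [pow_succ]
          group

theorem quad_d_pow {V : Subgroup L} (hVn : V.Normal) (hab : ∀ a ∈ V, ∀ b ∈ V, a * b = b * a) {t : L}
    {a : L} (ha : a ∈ V) (m : ℕ) :
    t * a ^ m * t⁻¹ * (a ^ m)⁻¹ = (t * a * t⁻¹ * a⁻¹) ^ m := by
  have hd : t * a * t⁻¹ * a⁻¹ ∈ V := V.mul_mem (hVn.conj_mem a ha t) (V.inv_mem ha)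
  have hc : Commute (t * a * t⁻¹ * a⁻¹) a := hab _ hd _ ha
  have h1 : t * a * t⁻¹ = (t * a * t⁻¹ * a⁻¹) * a := by group
  calc t * a ^ m * t⁻¹ * (a ^ m)⁻¹ = (t * a * t⁻¹) ^ m * (a ^ m)⁻¹ := by rw [conj_pow]
    _ = ((t * a * t⁻¹ * a⁻¹) * a) ^ m * (a ^ m)⁻¹ := by rw [← h1]
    _ = (t * a * t⁻¹ * a⁻¹) ^ m := by rw [hc.mul_pow, mul_inv_cancel_right]

theorem isPGroup_zpowers_of_pow {p : ℕ} {a : L} {k : ℕ} (h : a ^ p ^ k = 1) :
    IsPGroup p (Subgroup.zpowers a) := by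
  rintro ⟨_, n, rfl⟩
  refine ⟨k, ?_⟩
  apply Subtype.ext
  show (a ^ n) ^ p ^ k = 1
  rw [← zpow_natCast, ← zpow_mul, mul_comm, zpow_mul, zpow_natCast, h, one_zpow]

/-- A quadratic `p`-element of `P` fixes all conjugates of `c ^ p`, for `c` in an abelian normal
subgroup with `c` central in `P`. -/
theorem quad_fixes_conj [Finite L] {p : ℕ} [Fact p.Prime] (P : Sylow p L) {V : Subgroup L} (hVn : V.Normal)
    (hab : ∀ a ∈ V, ∀ b ∈ V, a * b = b * a) {c : L} (hcV : c ∈ V)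
    (hcC : ∀ t ∈ (P : Subgroup L), t * c = c * t) {t : L} (htP : t ∈ (P : Subgroup L))
    (hq : ∀ a ∈ V, t * (t * a * t⁻¹ * a⁻¹) * t⁻¹ = t * a * t⁻¹ * a⁻¹) (h : L) :
    t * (h * c ^ p * h⁻¹) * t⁻¹ = h * c ^ p * h⁻¹ := by
  set y := h * c ^ p * h⁻¹ with hy
  obtain ⟨N, hN⟩ : ∃ N, t ^ p ^ N = 1 := by
    obtain ⟨N, hN⟩ := P.isPGroup' ⟨t, htP⟩
    exact ⟨N, congrArg Subtype.val hN⟩
  have hstep : ∀ n, t ^ p ^ (n + 1) * y * (t ^ p ^ (n + 1))⁻¹ = y → t ^ p ^ n * y * (t ^ p ^ n)⁻¹ = y := by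
    intro n hn
    -- the centralizer of `c ^ p`
    let E₀ : Subgroup L := Subgroup.centralizer {c ^ p}
    have hPE : (P : Subgroup L) ≤ E₀ := by
      intro u hu
      rw [Subgroup.mem_centralizer_singleton_iff]
      exact (Commute.pow_right (hcC u hu) p).eq
    let t₂ : L := h⁻¹ * t ^ p ^ (n + 1) * h
    have ht₂E : t₂ ∈ E₀ := by
      rw [Subgroup.mem_centralizer_singleton_iff]
      have h1 : t ^ p ^ (n + 1) * (h * c ^ p * h⁻¹) = (h * c ^ p * h⁻¹) * t ^ p ^ (n + 1) := by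
        have h2 := hn
        rw [hy] at h2
        exact mul_inv_eq_iff_eq_mul.mp h2
      show (h⁻¹ * t ^ p ^ (n + 1) * h) * c ^ p = c ^ p * (h⁻¹ * t ^ p ^ (n + 1) * h)
      have h3 : h⁻¹ * (t ^ p ^ (n + 1) * (h * c ^ p * h⁻¹)) * h = h⁻¹ * ((h * c ^ p * h⁻¹) * t ^ p ^ (n + 1)) * h := by
        rw [h1]
      calc (h⁻¹ * t ^ p ^ (n + 1) * h) * c ^ p = h⁻¹ * (t ^ p ^ (n + 1) * (h * c ^ p * h⁻¹)) * h := by group
        _ = h⁻¹ * ((h * c ^ p * h⁻¹) * t ^ p ^ (n + 1)) * h := h3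
        _ = c ^ p * (h⁻¹ * t ^ p ^ (n + 1) * h) := by group
    have ht₂pow : t₂ ^ p ^ N = 1 := by
      show (h⁻¹ * t ^ p ^ (n + 1) * h) ^ p ^ N = 1
      have h1 : h⁻¹ * t ^ p ^ (n + 1) * h = h⁻¹ * t ^ p ^ (n + 1) * h⁻¹⁻¹ := by rw [inv_inv]
      rw [h1, conj_pow, ← pow_mul, mul_comm, pow_mul, hN, one_pow]
      group
    have hT : IsPGroup p (Subgroup.zpowers (⟨t₂, ht₂E⟩ : E₀)) :=
      isPGroup_zpowers_of_pow (k := N) (Subtype.ext ht₂pow)
    obtain ⟨e, he⟩ := Cfsg.Agent.Lib.SylowIn.exists_conj_mem_sylow (P.subtype hPE) hT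
    have h1 := he ⟨t₂, ht₂E⟩ (Subgroup.mem_zpowers _)
    have h1' : (e : L) * t₂ * (e : L)⁻¹ ∈ (P : Subgroup L) := by
      have h2 : (e * ⟨t₂, ht₂E⟩ * e⁻¹ : E₀) ∈ ((P : Subgroup L).subgroupOf E₀) := by
        rw [← Sylow.coe_subtype]
        exact h1
      exact Subgroup.mem_subgroupOf.mp h2
    have hec : (e : L) * c ^ p = c ^ p * (e : L) := by
      exact Subgroup.mem_centralizer_singleton_iff.mp e.2
    -- the element `z₂` with `z₂ ^ p = y`
    let z₂ : L := h * ((e : L)⁻¹ * c * (e : L)) * h⁻¹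
    have hz₂V : z₂ ∈ V := by
      have h2 := hVn.conj_mem c hcV (e : L)⁻¹
      rw [inv_inv] at h2
      exact hVn.conj_mem _ h2 h
    have hz₂p : z₂ ^ p = y := by
      show (h * ((e : L)⁻¹ * c * (e : L)) * h⁻¹) ^ p = h * c ^ p * h⁻¹
      have h3 : (e : L)⁻¹ * c * (e : L) = (e : L)⁻¹ * c * (e : L)⁻¹⁻¹ := by rw [inv_inv]
      rw [conj_pow, h3, conj_pow, inv_inv]
      have h4 : (e : L)⁻¹ * c ^ p * (e : L) = c ^ p := by
        rw [mul_assoc, ← hec, inv_mul_cancel_left]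
      rw [h4]
    have hcomm := hcC _ h1'
    have hfix₂ : t ^ p ^ (n + 1) * z₂ * (t ^ p ^ (n + 1))⁻¹ = z₂ := by
      have h5 : t₂ * ((e : L)⁻¹ * c * (e : L)) = ((e : L)⁻¹ * c * (e : L)) * t₂ := by
        have h6 : (e : L) * (t₂ * ((e : L)⁻¹ * c * (e : L))) * (e : L)⁻¹ =
            (e : L) * (((e : L)⁻¹ * c * (e : L)) * t₂) * (e : L)⁻¹ := by
          calc (e : L) * (t₂ * ((e : L)⁻¹ * c * (e : L))) * (e : L)⁻¹ = ((e : L) * t₂ * (e : L)⁻¹) * c := by group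
            _ = c * ((e : L) * t₂ * (e : L)⁻¹) := hcomm
            _ = (e : L) * (((e : L)⁻¹ * c * (e : L)) * t₂) * (e : L)⁻¹ := by group
        exact mul_left_cancel (mul_right_cancel h6)
      show t ^ p ^ (n + 1) * (h * ((e : L)⁻¹ * c * (e : L)) * h⁻¹) * (t ^ p ^ (n + 1))⁻¹ =
        h * ((e : L)⁻¹ * c * (e : L)) * h⁻¹
      rw [mul_inv_eq_iff_eq_mul]
      have h7 : h⁻¹ * t ^ p ^ (n + 1) * h * ((e : L)⁻¹ * c * (e : L)) =
          ((e : L)⁻¹ * c * (e : L)) * (h⁻¹ * t ^ p ^ (n + 1) * h) := h5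
      calc t ^ p ^ (n + 1) * (h * ((e : L)⁻¹ * c * (e : L)) * h⁻¹)
          = h * (h⁻¹ * t ^ p ^ (n + 1) * h * ((e : L)⁻¹ * c * (e : L))) * h⁻¹ := by group
        _ = h * (((e : L)⁻¹ * c * (e : L)) * (h⁻¹ * t ^ p ^ (n + 1) * h)) * h⁻¹ := by rw [h7]
        _ = h * ((e : L)⁻¹ * c * (e : L)) * h⁻¹ * t ^ p ^ (n + 1) := by group
    have hd : (t * z₂ * t⁻¹ * z₂⁻¹) ^ p ^ (n + 1) = 1 := by
      have h8 := quad_pow hq hz₂V (p ^ (n + 1))
      rw [hfix₂] at h8
      exact (mul_eq_right.mp h8.symm)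
    have h9 := quad_pow hq (a := y) (hz₂p ▸ V.pow_mem hz₂V p) (p ^ n)
    rw [h9]
    have h10 : t * y * t⁻¹ * y⁻¹ = (t * z₂ * t⁻¹ * z₂⁻¹) ^ p := by
      rw [← hz₂p]
      exact quad_d_pow hVn hab hz₂V p
    rw [h10, ← pow_mul, ← pow_succ', hd, one_mul]
  have hall : ∀ k n, n + k = N → t ^ p ^ n * y * (t ^ p ^ n)⁻¹ = y := by
    intro k
    induction k with
    | zero =>
      intro n hn
      have : n = N := by omega
      subst this
      rw [hN]
      simp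
    | succ k ih =>
      intro n hn
      exact hstep n (ih (n + 1) (by omega))
  have := hall N 0 (by omega)
  simpa using this

end Formula

section Local

variable {p : ℕ} [Fact p.Prime]

/-- The transport of the functor image to a subgroup containing the Sylow subgroup. -/
theorem map_functor_subtype {W : ∀ (Q : Type u) [Group Q], Subgroup Q}
    (hW2 : ∀ (Q R : Type u) [Group Q] [Group R] [Finite Q], IsPGroup p Q → ∀ φ : Q ≃* R,
      (W Q).map φ.toMonoidHom = W R)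
    {L : Type u} [Group L] [Finite L] (P : Sylow p L) (H : Subgroup L) (hPH : (P : Subgroup L) ≤ H) :
    ((W ↥((P.subtype hPH : Sylow p H) : Subgroup H)).map ((P.subtype hPH : Sylow p H) : Subgroup H).subtype).map H.subtype =
      (W ↥(P : Subgroup L)).map (P : Subgroup L).subtype := by
  let e : ↥((P.subtype hPH : Sylow p H) : Subgroup H) ≃* ↥(P : Subgroup L) :=
    (MulEquiv.subgroupCongr (P.coe_subtype hPH)).trans (Subgroup.subgroupOfEquivOfLe hPH)
  have hec : ∀ x, ((e x : ↥(P : Subgroup L)) : L) = ((x : H) : L) := fun _ => rfl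
  have hnat := hW2 _ _ (P.subtype hPH).isPGroup' e
  rw [← hnat]
  ext y
  constructor
  · rintro ⟨_, ⟨x, hx, rfl⟩, rfl⟩
    exact ⟨e x, ⟨x, hx, rfl⟩, rfl⟩
  · rintro ⟨_, ⟨x, hx, rfl⟩, rfl⟩
    exact ⟨_, ⟨x, hx, rfl⟩, rfl⟩

theorem locFix_aux {W : ∀ (Q : Type u) [Group Q], Subgroup Q}
    (hW2 : ∀ (Q R : Type u) [Group Q] [Group R] [Finite Q], IsPGroup p Q → ∀ φ : Q ≃* R,
      (W Q).map φ.toMonoidHom = W R)
    (hq : ∀ (G : Type u) [Group G] [Finite G] (P : Sylow p G),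
      Subgroup.centralizer ((pCore p G : Subgroup G) : Set G) ≤ pCore p G →
      ¬ (((W ↥(P : Subgroup G)).map (P : Subgroup G).subtype : Subgroup G)).Normal →
      ∃ g : G, g ∈ (P : Subgroup G) ∧ g ∉ pCore p G ∧
        ∀ a ∈ (Subgroup.center ↥(pCore p G)).map (pCore p G).subtype,
          g * (g * a * g⁻¹ * a⁻¹) * g⁻¹ = g * a * g⁻¹ * a⁻¹) :
    ∀ (n : ℕ) (L : Type u) [Group L] [Finite L], Nat.card L ≤ n → ∀ (P : Sylow p L) (c : L),
      Subgroup.centralizer ((pCore p L : Subgroup L) : Set L) ≤ pCore p L →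
      c ∈ (P : Subgroup L) → (∀ t ∈ (P : Subgroup L), t * c = c * t) →
      (∀ g ∈ Subgroup.normalizer (((W ↥(P : Subgroup L)).map (P : Subgroup L).subtype : Subgroup L) : Set L),
        g * c ^ p * g⁻¹ = c ^ p) →
      ∀ g : L, g * c ^ p * g⁻¹ = c ^ p := by
  intro n
  induction n with
  | zero =>
    intro L _ _ hn
    have := Nat.card_pos (α := L)
    omega
  | succ n ih =>
    intro L _ _ hn P c hC hcP hcC hN g
    by_cases hnorm : (((W ↥(P : Subgroup L)).map (P : Subgroup L).subtype : Subgroup L)).Normal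
    · apply hN g
      refine Subgroup.mem_normalizer_iff.mpr fun y => ⟨fun hy => hnorm.conj_mem y hy g, fun hy => ?_⟩
      have := hnorm.conj_mem _ hy g⁻¹
      have e : g⁻¹ * (g * y * g⁻¹) * g⁻¹⁻¹ = y := by group
      rwa [e] at this
    obtain ⟨t, htP, htO, htq⟩ := hq L P hC hnorm
    haveI hOn : (pCore p L).Normal := Cfsg.Agent.Lib.PCore.pCore_normal p L
    have hVn : ((Subgroup.center ↥(pCore p L)).map (pCore p L).subtype).Normal :=
      Cfsg.Agent.Lib.FitCore.map_subtype_normal_of_char _ _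
    have hab : ∀ a ∈ (Subgroup.center ↥(pCore p L)).map (pCore p L).subtype,
        ∀ b ∈ (Subgroup.center ↥(pCore p L)).map (pCore p L).subtype, a * b = b * a := by
      rintro _ ⟨a, ha, rfl⟩ _ ⟨b, hb, rfl⟩
      exact congrArg Subtype.val ((Subgroup.mem_center_iff.mp ha b).symm)
    have hOP := Cfsg.Agent.Lib.PCore.pCore_le_sylow P
    have hcO : c ∈ pCore p L := hC (by
      rw [Subgroup.mem_centralizer_iff]
      intro o ho
      exact hcC o (hOP ho))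
    have hcV : c ∈ (Subgroup.center ↥(pCore p L)).map (pCore p L).subtype := by
      refine ⟨⟨c, hcO⟩, ?_, rfl⟩
      show _ ∈ Subgroup.center _
      rw [Subgroup.mem_center_iff]
      intro o
      exact Subtype.ext (hcC o (hOP o.2))
    have hfix := quad_fixes_conj P hVn hab hcV hcC htP htq
    -- the centralizer of all conjugates
    let C₀ : Subgroup L := Subgroup.centralizer (Set.range fun h : L => h * c ^ p * h⁻¹)
    have hC₀mem : ∀ u : L, u ∈ C₀ ↔ ∀ h : L, u * (h * c ^ p * h⁻¹) * u⁻¹ = h * c ^ p * h⁻¹ := by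
      intro u
      constructor
      · intro hu h
        have := (Subgroup.mem_centralizer_iff.mp hu) _ ⟨h, rfl⟩
        rw [mul_inv_eq_iff_eq_mul]
        exact this.symm
      · intro hu
        rw [Subgroup.mem_centralizer_iff]
        rintro _ ⟨h, rfl⟩
        exact (mul_inv_eq_iff_eq_mul.mp (hu h)).symm
    haveI hC₀n : C₀.Normal := by
      refine ⟨fun u hu a => (hC₀mem _).mpr fun h => ?_⟩
      have h1 := (hC₀mem u).mp hu (a⁻¹ * h)
      have h2 : (a * u * a⁻¹) * (h * c ^ p * h⁻¹) * (a * u * a⁻¹)⁻¹ =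
          a * (u * ((a⁻¹ * h) * c ^ p * (a⁻¹ * h)⁻¹) * u⁻¹) * a⁻¹ := by group
      rw [h2, h1]
      group
    have htC₀ : t ∈ C₀ := (hC₀mem t).mpr hfix
    obtain ⟨R, hR⟩ := Cfsg.Agent.Lib.PIrreducible.exists_sylow_inf_normal P (N := C₀)
    have hFrat := Sylow.normalizer_sup_eq_top R
    have hR' : (R : Subgroup C₀).map C₀.subtype = (P : Subgroup L) ⊓ C₀ := hR
    rw [hR'] at hFrat
    let H : Subgroup L := Subgroup.normalizer (((P : Subgroup L) ⊓ C₀ : Subgroup L) : Set L)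
    have hPH : (P : Subgroup L) ≤ H := by
      intro u hu
      show u ∈ Subgroup.normalizer (((P : Subgroup L) ⊓ C₀ : Subgroup L) : Set L)
      rw [Subgroup.mem_normalizer_iff]
      intro v
      constructor
      · rintro ⟨hv1, hv2⟩
        exact ⟨(P : Subgroup L).mul_mem ((P : Subgroup L).mul_mem hu hv1) ((P : Subgroup L).inv_mem hu),
          hC₀n.conj_mem v hv2 u⟩
      · rintro ⟨hv1, hv2⟩
        have e1 : v = u⁻¹ * (u * v * u⁻¹) * u := by group
        refine ⟨?_, ?_⟩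
        · rw [e1]
          exact (P : Subgroup L).mul_mem ((P : Subgroup L).mul_mem ((P : Subgroup L).inv_mem hu) hv1) hu
        · have := hC₀n.conj_mem _ hv2 u⁻¹
          rw [inv_inv] at this
          rw [e1]
          exact this
    have hHne : H ≠ ⊤ := by
      intro htop
      have hnm : ((P : Subgroup L) ⊓ C₀ : Subgroup L).Normal :=
        ⟨fun v hv a => (Subgroup.mem_normalizer_iff.mp (show a ∈ H from htop ▸ Subgroup.mem_top a) v).mp hv⟩
      have hpg : IsPGroup p ((P : Subgroup L) ⊓ C₀ : Subgroup L) := P.isPGroup'.to_le inf_le_left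
      exact htO (Cfsg.Agent.Lib.PCore.le_pCore hnm hpg ⟨htP, htC₀⟩)
    have hcardH : Nat.card H ≤ n := by
      have h1 : Nat.card H < Nat.card L := by
        refine lt_of_le_of_ne (Subgroup.card_le_card_group H) fun h => hHne ?_
        exact Subgroup.eq_top_of_card_eq H h
      omega
    have hIH := ih H hcardH (P.subtype hPH) ⟨c, hPH hcP⟩ (by
      -- centralizer condition in `H`
      have hOH : (pCore p L).subgroupOf H ≤ pCore p H := by
        apply Cfsg.Agent.Lib.PCore.le_pCore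
        · infer_instance
        · exact (Cfsg.Agent.Lib.PCore.isPGroup_pCore p L).comap_of_injective _ Subtype.val_injective
      intro a ha
      have h1 : (a : L) ∈ pCore p L := hC (by
        rw [Subgroup.mem_centralizer_iff]
        intro o ho
        have hoH : o ∈ H := hPH (hOP ho)
        have := (Subgroup.mem_centralizer_iff.mp ha) ⟨o, hoH⟩ (hOH (Subgroup.mem_subgroupOf.mpr ho))
        exact congrArg Subtype.val this)
      exact hOH (Subgroup.mem_subgroupOf.mpr h1)) (by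
      rw [Sylow.coe_subtype]
      exact Subgroup.mem_subgroupOf.mpr hcP) (by
      intro u hu
      rw [Sylow.coe_subtype] at hu
      exact Subtype.ext (hcC _ (Subgroup.mem_subgroupOf.mp hu))) (by
      intro u hu
      have h1 := map_functor_subtype hW2 P H hPH
      have h2 : (u : L) ∈ Subgroup.normalizer (((W ↥(P : Subgroup L)).map (P : Subgroup L).subtype : Subgroup L) : Set L) := by
        rw [← h1, Subgroup.mem_normalizer_iff]
        have hu' := Subgroup.mem_normalizer_iff.mp hu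
        intro y
        constructor
        · rintro ⟨y₀, hy₀, rfl⟩
          exact ⟨u * y₀ * u⁻¹, (hu' y₀).mp hy₀, rfl⟩
        · rintro ⟨y₀, hy₀, ey⟩
          have h5 := hu' (u⁻¹ * y₀ * u)
          have h6 : u * (u⁻¹ * y₀ * u) * u⁻¹ = y₀ := by group
          rw [h6] at h5
          refine ⟨u⁻¹ * y₀ * u, h5.mpr hy₀, ?_⟩
          have h7 : ((y₀ : H) : L) = (u : L) * y * (u : L)⁻¹ := ey
          show (u : L)⁻¹ * ((y₀ : H) : L) * (u : L) = y
          rw [h7]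
          group
      have h3 := hN _ h2
      apply Subtype.ext
      exact h3)
    -- final
    let K : Subgroup L := Subgroup.centralizer {c ^ p}
    have hKmem : ∀ u : L, u ∈ K ↔ u * c ^ p * u⁻¹ = c ^ p := by
      intro u
      rw [Subgroup.mem_centralizer_singleton_iff, mul_inv_eq_iff_eq_mul]
    have hHK : H ≤ K := by
      intro u hu
      rw [hKmem]
      have := hIH ⟨u, hu⟩
      exact congrArg Subtype.val this
    have hCK : C₀ ≤ K := by
      intro u hu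
      rw [hKmem]
      have := (hC₀mem u).mp hu 1
      simpa using this
    have htop : (⊤ : Subgroup L) ≤ K := by
      rw [← hFrat]
      exact sup_le hHK hCK
    exact (hKmem g).mp (htop trivial)

end Local

section Wrap

open Cfsg.FusionSystem Cfsg.Agent.Lib.FusionBasic Cfsg.Agent.Lib.FusionAut
  Cfsg.Agent.Lib.FusionSat Cfsg.Agent.Lib.FusionLocal Cfsg.Agent.Lib.FusionGrun

variable {Ω : Type u} [Group Ω] {S : Subgroup Ω} {p : ℕ} [Fact p.Prime]

/-- A subgroup of `Z(S)` whose elements are fixed by all maps of the system is central in it. -/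
theorem isCentral_of_fixed_all [Finite S] (hS : IsPGroup p S) {F : FusionSystem S} (hF : F.IsSaturated p)
    {Z : Subgroup Ω} (hZS : Z ≤ S) (hZC : ∀ z ∈ Z, ∀ s ∈ S, s * z = z * s)
    (hfix : ∀ (Q : Subgroup Ω) (φ : Q →* Ω), φ ∈ F.Hom Q → ∀ z ∈ Z, ∀ hz : z ∈ Q, φ ⟨z, hz⟩ = z) :
    F.IsCentral Z := by
  refine ⟨hZS, fun P φ hφ => ?_⟩
  have hPS := source_le F hφ
  have hrS := range_le F hφ
  obtain ⟨X, hconj, hXn⟩ := exists_isConj_fullyNormalized F hrS
  obtain ⟨ζ, hζ, hζr⟩ := hconj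
  have hrec := (IsSaturated.fullyNormalized hS hF hXn).2
  -- the composite to `X`
  have hφval : ∀ y : P, φ y ∈ φ.range := fun y => MonoidHom.mem_range.mpr ⟨y, rfl⟩
  obtain ⟨χ, hχ, hχe⟩ := exists_comp F hφ hζ hφval
  have hχr : χ.range = X := by
    rw [← hζr]
    ext y
    constructor
    · rintro ⟨w, rfl⟩
      rw [hχe]
      exact MonoidHom.mem_range.mpr ⟨_, rfl⟩
    · rintro ⟨⟨_, w, rfl⟩, rfl⟩
      exact ⟨w, hχe w⟩
  obtain ⟨ψ₁, hψ₁, hψ₁e⟩ := hrec.2 P χ hχ hχr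
  obtain ⟨ψ₂, hψ₂, hψ₂e⟩ := hrec.2 φ.range ζ hζ hζr
  have hZcent : ∀ {R : Subgroup Ω}, R ≤ S → Z ≤ centralizerIn S R := by
    intro R hR z hz
    refine ⟨hZS hz, ?_⟩
    show z ∈ Subgroup.centralizer (R : Set Ω)
    rw [Subgroup.mem_centralizer_iff]
    intro r hr
    exact hZC z hz r (hR hr)
  have hle₁ : P ⊔ Z ≤ extender S P χ :=
    sup_le (le_extender hPS χ (map_mem_S F hχ))
      ((hZcent hPS).trans (centralizerIn_le_extender S P χ))
  have hle₂ : φ.range ⊔ Z ≤ extender S φ.range ζ :=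
    sup_le (le_extender hrS ζ (map_mem_S F hζ))
      ((hZcent hrS).trans (centralizerIn_le_extender S φ.range ζ))
  obtain ⟨ρ₁, hρ₁, hρ₁P, hρ₁Z⟩ : ∃ ρ₁ ∈ F.Hom (P ⊔ Z),
      (∀ (y : Ω) (hy : y ∈ P), ρ₁ ⟨y, Subgroup.mem_sup_left hy⟩ = χ ⟨y, hy⟩) ∧
      ∀ (z : Ω) (hz : z ∈ Z), ρ₁ ⟨z, Subgroup.mem_sup_right hz⟩ = z :=
    ⟨ψ₁.comp (Subgroup.inclusion hle₁), restrict_mem F hψ₁ hle₁, fun y hy => hψ₁e y hy _,
      fun z hz => hfix _ _ (restrict_mem F hψ₁ hle₁) z hz _⟩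
  obtain ⟨ρ₂, hρ₂, hρ₂P, hρ₂Z⟩ : ∃ ρ₂ ∈ F.Hom (φ.range ⊔ Z),
      (∀ (y : Ω) (hy : y ∈ φ.range), ρ₂ ⟨y, Subgroup.mem_sup_left hy⟩ = ζ ⟨y, hy⟩) ∧
      ∀ (z : Ω) (hz : z ∈ Z), ρ₂ ⟨z, Subgroup.mem_sup_right hz⟩ = z :=
    ⟨ψ₂.comp (Subgroup.inclusion hle₂), restrict_mem F hψ₂ hle₂, fun y hy => hψ₂e y hy _,
      fun z hz => hfix _ _ (restrict_mem F hψ₂ hle₂) z hz _⟩
  have hval : ∀ w, ρ₁ w ∈ ρ₂.range := by
    refine sup_values_mem ρ₁ ?_ ?_
    · intro y hy
      rw [hρ₁P y hy, hχe ⟨y, hy⟩, ← hρ₂P _ (hφval _)]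
      exact MonoidHom.mem_range.mpr ⟨_, rfl⟩
    · intro z hz
      rw [hρ₁Z z hz, ← hρ₂Z z hz]
      exact MonoidHom.mem_range.mpr ⟨_, rfl⟩
  obtain ⟨ψ, hψ, hψ1, -, -⟩ := exists_inverse F hρ₂ rfl
  obtain ⟨θ, hθ, hθe⟩ := exists_comp F hρ₁ hψ hval
  refine ⟨θ, hθ, fun y => ?_, fun z => ?_⟩
  · rw [hθe]
    have h1 : ρ₁ (Subgroup.inclusion le_sup_left y) = ρ₂ ⟨φ y, Subgroup.mem_sup_left (hφval y)⟩ := by
      rw [hρ₂P _ (hφval y), ← hχe y]
      exact hρ₁P y y.2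
    have h2 : ρ₂ ⟨φ y, Subgroup.mem_sup_left (hφval y)⟩ ∈ ρ₂.range := MonoidHom.mem_range.mpr ⟨_, rfl⟩
    have h3 := hψ1 ⟨φ y, Subgroup.mem_sup_left (hφval y)⟩ h2
    have h4 : (⟨ρ₁ (Subgroup.inclusion le_sup_left y), hval _⟩ : ρ₂.range) =
        ⟨ρ₂ ⟨φ y, Subgroup.mem_sup_left (hφval y)⟩, h2⟩ := Subtype.ext h1
    rw [h4, h3]
  · rw [hθe]
    have h1 : ρ₁ (Subgroup.inclusion le_sup_right z) = ρ₂ ⟨z, Subgroup.mem_sup_right z.2⟩ := by
      rw [hρ₂Z z z.2]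
      exact hρ₁Z z z.2
    have h2 : ρ₂ ⟨z, Subgroup.mem_sup_right z.2⟩ ∈ ρ₂.range := MonoidHom.mem_range.mpr ⟨_, rfl⟩
    have h3 := hψ1 ⟨z, Subgroup.mem_sup_right z.2⟩ h2
    have h4 : (⟨ρ₁ (Subgroup.inclusion le_sup_right z), hval _⟩ : ρ₂.range) =
        ⟨ρ₂ ⟨z, Subgroup.mem_sup_right z.2⟩, h2⟩ := Subtype.ext h1
    rw [h4, h3]

/-- The central subgroups of a normalizer system are fixed by automorphisms of the subgroup. -/
theorem not_amv_of_center {Y : Subgroup Ω} {F : FusionSystem S} [Finite S] (hYS : Y ≤ S)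
    {N : FusionSystem (normalizerIn S Y)} (hN : F.IsNormalizerSystem Y N) {x : Ω}
    (hx : x ∈ N.center) : ¬ AMv F x Y := by
  rintro ⟨hxY, α, hα, hαr, hmv⟩
  have hαN : α ∈ N.Hom Y := by
    have h1 : isoOfRange hα hαr ∈ F.autGroup Y := by
      rw [mem_autGroup_iff F hYS]
      exact hom_of_eq hα fun y => rfl
    rw [← autGroup_normalizerSystem hN hYS, mem_autGroup_iff _ (le_normalizerIn hYS)] at h1
    exact hom_of_eq h1 fun y => rfl
  haveI : Finite ↥(normalizerIn S Y) := finite_of_le inf_le_left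
  exact hmv (IsCentral.fix (isCentral_center N) hαN _ hx)

/-- `Z(F)` lies in the centre of the normalizer system of a subgroup containing `Z(S)`. -/
theorem center_le_center_normalizer {Y : Subgroup Ω} {F : FusionSystem S} [Finite S] (hYS : Y ≤ S)
    (hYN : normalizerIn S Y = S) (hYZ : ∀ z ∈ S, (∀ s ∈ S, s * z = z * s) → z ∈ Y)
    {N : FusionSystem (normalizerIn S Y)} (hN : F.IsNormalizerSystem Y N) : F.center ≤ N.center := by
  have hZ := isCentral_center F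
  have hZS : F.center ≤ S := hZ.1
  have hZc : ∀ z ∈ F.center, ∀ s ∈ S, s * z = z * s := by
    intro z hz s hs
    have h1 := IsCentral.fix hZ (F.conj_mem (le_refl S) hs) ⟨z, hZS hz⟩ hz
    have h2 : s * z * s⁻¹ = z := h1
    exact mul_inv_eq_iff_eq_mul.mp h2
  have hZY : F.center ≤ Y := fun z hz => hYZ z (hZS hz) (hZc z hz)
  apply IsCentral.le_center
  refine ⟨by rw [hYN]; exact hZS, fun P φ hφ => ?_⟩
  have hφ' := hφ
  rw [hN P] at hφ'
  obtain ⟨-, hPN, -, ψ, hψ, hext, hmap⟩ := hφ'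
  have hψN := hom_of_restrict_sup hN hψ (sup_le hPN (le_normalizerIn hYS)) hmap
  have hle : P ⊔ F.center ≤ P ⊔ Y := sup_le_sup_left hZY P
  refine ⟨ψ.comp (Subgroup.inclusion hle), restrict_mem N hψN hle, fun x => ?_, fun z => ?_⟩
  · exact hext x
  · exact IsCentral.fix hZ hψ ⟨z, Subgroup.mem_sup_right (hZY z.2)⟩ z.2

theorem normalizerIn_Wof_top {W : ∀ (Q : Type u) [Group Q], Subgroup Q}
    (hW2 : ∀ (Q R : Type u) [Group Q] [Group R] [Finite Q], IsPGroup p Q → ∀ φ : Q ≃* R,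
      (W Q).map φ.toMonoidHom = W R)
    [Finite S] (hS : IsPGroup p S) : normalizerIn S (Wof W S) = S := by
  apply le_antisymm inf_le_left
  have h1 := normalizerIn_le_normalizerIn_Wof hW2 hS (le_refl S)
  have h2 : S ≤ normalizerIn S S := le_inf le_rfl Subgroup.le_normalizer
  exact h2.trans h1

theorem Wof_contains_center {W : ∀ (Q : Type u) [Group Q], Subgroup Q}
    (hWZ : ∀ (Q : Type u) [Group Q] [Finite Q], IsPGroup p Q → Subgroup.center Q ≤ W Q)
    [Finite S] (hS : IsPGroup p S) (z : Ω) (hz : z ∈ S) (hzC : ∀ s ∈ S, s * z = z * s) : z ∈ Wof W S := by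
  have hcen : (⟨z, hz⟩ : S) ∈ Subgroup.center S := by
    rw [Subgroup.mem_center_iff]
    intro s
    exact Subtype.ext (hzC s s.2)
  exact ⟨_, hWZ _ hS hcen, rfl⟩

/-- The main consequence: central elements of the normalizer system of the special form are central. -/
theorem le_center_of_loc {W : ∀ (Q : Type u) [Group Q], Subgroup Q} {k : ℕ} (hLoc : LocFix W p k)
    (hW2 : ∀ (Q R : Type u) [Group Q] [Group R] [Finite Q], IsPGroup p Q → ∀ φ : Q ≃* R,
      (W Q).map φ.toMonoidHom = W R)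
    (hWZ : ∀ (Q : Type u) [Group Q] [Finite Q], IsPGroup p Q → Subgroup.center Q ≤ W Q)
    [Finite S] (hS : IsPGroup p S) {F : FusionSystem S} (hF : F.IsSaturated p)
    {N : FusionSystem (normalizerIn S (Wof W S))} (hN : F.IsNormalizerSystem (Wof W S) N)
    {Z : Subgroup Ω} (hZN : Z ≤ N.center)
    (hZf : ∀ x ∈ Z, ∃ z ∈ S, (∀ s ∈ S, s * z = z * s) ∧ z ^ k = x) : Z ≤ F.center := by
  apply IsCentral.le_center
  refine isCentral_of_fixed_all hS hF (fun x hx => ?_) (fun x hx s hs => ?_) (fun Q φ hφ x hx hxQ => ?_)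
  · obtain ⟨z, hz, -, rfl⟩ := hZf x hx
    exact Subgroup.pow_mem _ hz k
  · obtain ⟨z, -, hzC, rfl⟩ := hZf x hx
    exact (Commute.pow_right (hzC s hs) k).eq
  · obtain ⟨z, hz, hzC, rfl⟩ := hZf x hx
    exact fixed_of_loc hLoc hW2 hWZ hS hF hz hzC (not_amv_of_center (Wof_le W S) hN (hZN hx)) Q φ hφ hxQ

/-- The local hypothesis from the quadratic condition. -/
theorem locFix_of_quadratic {W : ∀ (Q : Type u) [Group Q], Subgroup Q}
    (hW2 : ∀ (Q R : Type u) [Group Q] [Group R] [Finite Q], IsPGroup p Q → ∀ φ : Q ≃* R,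
      (W Q).map φ.toMonoidHom = W R)
    (hq : ∀ (G : Type u) [Group G] [Finite G] (P : Sylow p G),
      Subgroup.centralizer ((pCore p G : Subgroup G) : Set G) ≤ pCore p G →
      ¬ (((W ↥(P : Subgroup G)).map (P : Subgroup G).subtype : Subgroup G)).Normal →
      ∃ g : G, g ∈ (P : Subgroup G) ∧ g ∉ pCore p G ∧
        ∀ a ∈ (Subgroup.center ↥(pCore p G)).map (pCore p G).subtype,
          g * (g * a * g⁻¹ * a⁻¹) * g⁻¹ = g * a * g⁻¹ * a⁻¹) : LocFix W p p := by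
  intro L _ _ P c hC hcP hcC hN g
  exact locFix_aux hW2 hq _ L le_rfl P c hC hcP hcC hN g

end Wrap

end Cfsg.Agent.Lib.FusionCenQuad
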