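import Cfsg.Agent.Lib.FusionNormal
import Cfsg.Agent.Lib.FusionHyp
import Cfsg.Agent.Lib.PNilpB
import Cfsg.Agent.Lib.CharPBasic

/-! Itô's lemma for automorphisms and the focal subgroup. -/

set_option autoImplicit false

namespace Cfsg.Agent.Lib.FusionFoc

open Cfsg Cfsg.FusionSystem Cfsg.Agent.Lib.FusionBasic Cfsg.Agent.Lib.FusionAut
  Cfsg.Agent.Lib.FusionSat Cfsg.Agent.Lib.FusionNormal Cfsg.Agent.Lib.FusionHyp
  Cfsg.Agent.Lib.FusionAlperin

/-- Itô's lemma for automorphisms. -/
theorem ito_aut {X : Type*} [Group X] [Finite X] {p : ℕ} [Fact p.Prime] (γ : MulAut X)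
    (hγ : (orderOf γ).Coprime p) (Q : Subgroup X) (hQ : IsPGroup p Q) (hinv : ∀ q ∈ Q, γ q ∈ Q)
    (hE : ∀ E : Subgroup X, E ≤ Q → (∀ e ∈ E, γ e ∈ E) →
      (∀ e ∈ E, e ^ p = 1 ∨ (p = 2 ∧ e ^ 4 = 1)) → ∀ e ∈ E, γ e = e) : ∀ q ∈ Q, γ q = q := by
  classical
  let φ : MulAut X →* MulAut X := MonoidHom.id _
  let G := X ⋊[φ] MulAut X
  haveI : Finite (MulAut X) := Finite.of_injective (fun α : MulAut X => (α : X → X)) DFunLike.coe_injective
  haveI : Finite G := Finite.of_equiv _ SemidirectProduct.equivProd.symm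
  let y : G := SemidirectProduct.inr γ
  have hy : (orderOf y).Coprime p := by
    have : orderOf y = orderOf γ := orderOf_injective _ SemidirectProduct.inr_injective γ
    rw [this]
    exact hγ
  have hconj : ∀ q : X, y * SemidirectProduct.inl q * y⁻¹ = SemidirectProduct.inl (γ q) := by
    intro q
    have := SemidirectProduct.inl_aut (φ := φ) γ q
    rw [← map_inv] at *
    exact this.symm
  have hinl : Function.Injective (SemidirectProduct.inl : X →* G) := SemidirectProduct.inl_injective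
  have key := Cfsg.Agent.Lib.PNilpB.ito_lemma (p := p) hy _ (Q.map (SemidirectProduct.inl : X →* G)) rfl
    (hQ.map _) (by
      rintro _ ⟨q, hq, rfl⟩
      rw [hconj]
      exact ⟨_, hinv q hq, rfl⟩) (by
      intro E hEQ hEinv hEexp e he
      have he' := hEQ he
      obtain ⟨q, hq, rfl⟩ := he'
      rw [hconj]
      congr 1
      refine hE (E.comap (SemidirectProduct.inl : X →* G)) ?_ ?_ ?_ q he
      · intro a ha
        obtain ⟨b, hb, e1⟩ := hEQ ha
        have : b = a := hinl e1
        exact this ▸ hb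
      · intro a ha
        show SemidirectProduct.inl (γ a) ∈ E
        rw [← hconj]
        exact hEinv _ ha
      · intro a ha
        have := hEexp _ ha
        rcases this with h | ⟨h1, h2⟩
        · left
          apply hinl
          rw [map_pow, h, map_one]
        · right
          refine ⟨h1, ?_⟩
          apply hinl
          rw [map_pow, h2, map_one])
  intro q hq
  have := key _ ⟨q, hq, rfl⟩
  rw [hconj] at this
  exact hinl this

variable {Ω : Type*} [Group Ω] {S : Subgroup Ω} {p : ℕ} [Fact p.Prime]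

/-- An element of a normal cyclic subgroup of order `p` is centralized by `p`-elements. -/
theorem conj_eq_of_pow_eq_one {x s : Ω} {m : ℕ} (hx : x ^ p = 1) (hs : s ^ (p ^ m) = 1)
    (h : s * x * s⁻¹ ∈ Subgroup.zpowers x) : s * x * s⁻¹ = x := by
  have hpp : p.Prime := Fact.out
  obtain ⟨k, hk⟩ := (Subgroup.mem_zpowers_iff).mp h
  -- reduce to a natural exponent
  obtain ⟨n, hn⟩ : ∃ n : ℕ, s * x * s⁻¹ = x ^ n := by
    refine ⟨(k % (p : ℤ)).toNat, ?_⟩
    have hpos : (0 : ℤ) < p := by exact_mod_cast hpp.pos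
    have h0 : (0 : ℤ) ≤ k % p := Int.emod_nonneg _ hpos.ne'
    have h1 : x ^ k = x ^ (k % (p : ℤ)) := by
      conv_lhs => rw [← Int.emod_add_mul_ediv k p, zpow_add, zpow_mul, zpow_natCast, hx, one_zpow, mul_one]
    rw [← hk, h1]
    conv_lhs => rw [← Int.toNat_of_nonneg h0]
    rw [zpow_natCast]
  have hit : ∀ j : ℕ, s ^ j * x * (s ^ j)⁻¹ = x ^ (n ^ j) := by
    intro j
    induction j with
    | zero => simp
    | succ j ih =>
      have e : s ^ (j + 1) * x * (s ^ (j + 1))⁻¹ = s * (s ^ j * x * (s ^ j)⁻¹) * s⁻¹ := by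
        rw [pow_succ']
        group
      rw [e, ih, ← conj_pow, hn, ← pow_mul, pow_succ, mul_comm]
  have h2 := hit (p ^ m)
  rw [hs] at h2
  simp only [one_mul, inv_one, mul_one] at h2
  have h3 : (n : ZMod p) ^ (p ^ m) = n := ZMod.pow_card_pow _
  have h4 : n ^ (p ^ m) ≡ n [MOD p] := by
    rw [← ZMod.natCast_eq_natCast_iff]
    push_cast
    exact h3
  have h5 : x ^ (n ^ (p ^ m)) = x ^ n := by
    have hord : orderOf x ∣ p := orderOf_dvd_of_pow_eq_one hx
    exact pow_eq_pow_iff_modEq.mpr (h4.of_dvd hord)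
  rw [hn, ← h5]
  exact h2.symm

/-- An element of exponent dividing `4` generating a subgroup normalized by `s`. -/
theorem conj_eq_of_pow_four {x s : Ω} (hx : x ^ 4 = 1) (h : s * x * s⁻¹ ∈ Subgroup.zpowers x)
    (hx2 : x ^ 2 ≠ 1) : s * x * s⁻¹ = x ∨ s * x * s⁻¹ = x⁻¹ := by
  obtain ⟨k, hk⟩ := (Subgroup.mem_zpowers_iff).mp h
  have h1 : x ^ k = x ^ (k % 4) := by
    conv_lhs => rw [← Int.emod_add_mul_ediv k 4, zpow_add, zpow_mul]
    have : x ^ (4 : ℤ) = 1 := by
      rw [show (4 : ℤ) = ((4 : ℕ) : ℤ) by norm_num, zpow_natCast, hx]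
    rw [this, one_zpow, mul_one]
  have hb : 0 ≤ k % 4 ∧ k % 4 < 4 := ⟨Int.emod_nonneg _ (by norm_num), Int.emod_lt_of_pos _ (by norm_num)⟩
  have hs2 : (s * x * s⁻¹) ^ 2 ≠ 1 := by
    rw [conj_pow]
    intro h5
    apply hx2
    have : s⁻¹ * (s * x ^ 2 * s⁻¹) * s = 1 := by
      rw [h5]
      group
    simpa [mul_assoc] using this
  rw [← hk, h1] at hs2 ⊢
  have hcases : k % 4 = 0 ∨ k % 4 = 1 ∨ k % 4 = 2 ∨ k % 4 = 3 := by omega
  rcases hcases with h0 | h0 | h0 | h0 <;> rw [h0] at hs2 ⊢
  · exfalso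
    apply hs2
    simp
  · left
    simp
  · exfalso
    apply hs2
    rw [← zpow_natCast, ← zpow_mul]
    have : (2 : ℤ) * ((2 : ℕ) : ℤ) = ((4 : ℕ) : ℤ) := by norm_num
    rw [this, zpow_natCast, hx]
  · right
    have e : x ^ (3 : ℤ) * x = 1 := by
      rw [← zpow_add_one]
      have : (3 : ℤ) + 1 = ((4 : ℕ) : ℤ) := by norm_num
      rw [this, zpow_natCast, hx]
    exact eq_inv_of_mul_eq_one_left e

/-- The main step: an essential subgroup cannot exist under the hypothesis on the focal subgroup. -/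
theorem top_le_of_isEssential [Finite S] (hS : IsPGroup p S) {F : FusionSystem S}
    (hnorm : ∀ x ∈ F.focalSubgroup, (x ^ p = 1 ∨ (p = 2 ∧ x ^ 4 = 1)) → ∀ s ∈ S, s * x * s⁻¹ ∈ Subgroup.zpowers x)
    {P : Subgroup Ω} (hP : F.IsEssential p P) : S ≤ P := by
  classical
  have hpp : p.Prime := Fact.out
  have hrad := isRadical_of_isEssential hS hP
  obtain ⟨hc, -, -⟩ := hP
  have hPS : P ≤ S := hc.1
  haveI hfinP : Finite P := finite_of_le hPS
  haveI hfinM : Finite (MulAut P) := mulAut_finite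
  have hPp : IsPGroup p P := hS.to_le hPS
  -- membership of the small elements
  let D : Set P := {x | (x : Ω) ∈ F.focalSubgroup ∧ ((x : Ω) ^ p = 1 ∨ (p = 2 ∧ (x : Ω) ^ 4 = 1))}
  have hDinv : ∀ α ∈ F.autGroup P, ∀ x ∈ D, α x ∈ D := by
    intro α hα x hx
    have h1 := mem_foc ((mem_autGroup_iff F hPS).mp hα) x
    have h2 : ((α x : P) : Ω) = (x : Ω) * ((x : Ω)⁻¹ * ((α x : P) : Ω)) := by group
    refine ⟨?_, ?_⟩
    · rw [h2]
      exact Subgroup.mul_mem _ hx.1 h1
    · rcases hx.2 with h | ⟨h3, h4⟩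
      · left
        have : (x : P) ^ p = 1 := Subtype.ext h
        have h5 : (α x) ^ p = 1 := by rw [← map_pow, this, map_one]
        exact congrArg Subtype.val h5
      · right
        refine ⟨h3, ?_⟩
        have : (x : P) ^ 4 = 1 := Subtype.ext h4
        have h5 : (α x) ^ 4 = 1 := by rw [← map_pow, this, map_one]
        exact congrArg Subtype.val h5
  let M : Submonoid (F.autGroup P) :=
    { carrier := {γ | ∀ x ∈ D, (γ : MulAut P) x = x ∨ (p = 2 ∧ (γ : MulAut P) x = x⁻¹)}
      one_mem' := fun x _ => Or.inl rfl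
      mul_mem' := by
        intro a b ha hb x hx
        show (a : MulAut P) ((b : MulAut P) x) = x ∨ (p = 2 ∧ (a : MulAut P) ((b : MulAut P) x) = x⁻¹)
        rcases hb x hx with h | ⟨h1, h⟩
        · rw [h]
          exact ha x hx
        · rw [h, map_inv]
          rcases ha x hx with h2 | ⟨-, h2⟩
          · right
            exact ⟨h1, by rw [h2]⟩
          · left
            rw [h2, inv_inv] }
  have hmemM : ∀ γ : F.autGroup P, γ ∈ M ↔ ∀ x ∈ D, (γ : MulAut P) x = x ∨ (p = 2 ∧ (γ : MulAut P) x = x⁻¹) := fun γ => Iff.rfl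
  haveI hfinA : Finite (F.autGroup P) := inferInstance
  let K : Subgroup (F.autGroup P) := subgroupOfSubmonoid M
  have hKn : K.Normal := by
    refine ⟨fun n hn g => ?_⟩
    have hn' : n ∈ M := hn
    show g * n * g⁻¹ ∈ M
    intro x hx
    have hy : (g⁻¹ : F.autGroup P).1 x ∈ D := hDinv _ (g⁻¹).2 x hx
    have e1 : (g : MulAut P) ((g⁻¹ : F.autGroup P).1 x) = x := by
      show (g : MulAut P) ((g : MulAut P)⁻¹ x) = x
      simp
    rcases hn' _ hy with h | ⟨h1, h⟩
    · left
      show (g : MulAut P) ((n : MulAut P) ((g⁻¹ : F.autGroup P).1 x)) = x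
      rw [h, e1]
    · right
      refine ⟨h1, ?_⟩
      show (g : MulAut P) ((n : MulAut P) ((g⁻¹ : F.autGroup P).1 x)) = x⁻¹
      rw [h, map_inv, e1]
  have hKp : IsPGroup p K := by
    refine Cfsg.Agent.Lib.CharPBasic.isPGroup_of_forall_coprime K fun y hy hco => ?_
    have hy' : y ∈ M := hy
    set γ : MulAut P := y.1 with hγ
    have hordγ : orderOf γ = orderOf y := Subgroup.orderOf_coe y
    have hγco : (orderOf γ).Coprime p := by
      rw [hordγ]
      exact hco
    -- `γ` fixes the small elements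
    have hfix : ∀ x ∈ D, γ x = x := by
      intro x hx
      rcases hy' x hx with h | ⟨h1, h⟩
      · exact h
      · subst h1
        have h2 : (γ ^ 2) x = x := by
          rw [pow_two, MulAut.mul_apply, h, map_inv, h, inv_inv]
        have hodd : Odd (orderOf γ) := by
          rcases Nat.even_or_odd (orderOf γ) with h3 | h3
          · exfalso
            have := Nat.dvd_gcd h3.two_dvd (dvd_refl 2)
            rw [hγco] at this
            exact absurd this (by norm_num)
          · exact h3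
        obtain ⟨r, hr⟩ := hodd
        have h3 : γ = (γ ^ 2) ^ (r + 1) := by
          rw [← pow_mul]
          have : 2 * (r + 1) = orderOf γ + 1 := by omega
          rw [this, pow_succ, pow_orderOf_eq_one, one_mul]
        have h4 : ∀ j : ℕ, ((γ ^ 2) ^ j) x = x := by
          intro j
          induction j with
          | zero => rfl
          | succ j ih =>
            rw [pow_succ, MulAut.mul_apply, h2, ih]
        rw [h3]
        exact h4 _
    set Q : Subgroup P := F.focalSubgroup.subgroupOf P with hQ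
    have hfoc : ∀ x : P, (x : Ω)⁻¹ * ((γ x : P) : Ω) ∈ F.focalSubgroup :=
      fun x => mem_foc ((mem_autGroup_iff F hPS).mp y.2) x
    have hQinv : ∀ q ∈ Q, γ q ∈ Q := by
      intro q hq
      rw [hQ, Subgroup.mem_subgroupOf] at hq ⊢
      have h2 : ((γ q : P) : Ω) = (q : Ω) * ((q : Ω)⁻¹ * ((γ q : P) : Ω)) := by group
      rw [h2]
      exact Subgroup.mul_mem _ hq (hfoc q)
    have hito := ito_aut γ hγco Q (hPp.to_subgroup Q) hQinv (fun E hEQ _ hEexp e he => by
      apply hfix
      refine ⟨hEQ he, ?_⟩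
      rcases hEexp e he with h | ⟨h1, h2⟩
      · left
        exact congrArg Subtype.val h
      · right
        exact ⟨h1, congrArg Subtype.val h2⟩)
    obtain ⟨m, hm⟩ := pow_fix_of_stab hPp γ (B := Q) (C := ⊤) le_top
      (fun z _ => by
        rw [hQ, Subgroup.mem_subgroupOf]
        exact hfoc z) 0
      (fun b hb => by
        simpa using hito b hb)
    have hpow : γ ^ (p ^ m) = 1 := by
      ext z
      exact congrArg Subtype.val (hm z (Subgroup.mem_top z))
    have hcop : Nat.Coprime (orderOf γ) (p ^ m) := Nat.Coprime.pow_right m hγco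
    have h1 : γ = 1 := by
      have h2 := pow_gcd_eq_one.mpr ⟨pow_orderOf_eq_one γ, hpow⟩
      rw [hcop, pow_one] at h2
      exact h2
    apply Subtype.ext
    exact h1
  have hKle : K ≤ pCore p (F.autGroup P) := le_sSup ⟨hKn, hKp⟩
  -- `N_S(P) ≤ P`
  have hN : normalizerIn S P ≤ P := by
    rintro r ⟨hrS, hrN⟩
    have hα : conjAut P ⟨r, hrN⟩ ∈ autInducedBy S P := conjAut_mem_autInducedBy hrS
    have hαA := autInducedBy_le_autGroup F hPS hα
    have hmem : (⟨_, hαA⟩ : F.autGroup P) ∈ K := by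
      show (⟨_, hαA⟩ : F.autGroup P) ∈ M
      intro x hx
      show conjAut P ⟨r, hrN⟩ x = x ∨ (p = 2 ∧ conjAut P ⟨r, hrN⟩ x = x⁻¹)
      have hrp : ∃ m : ℕ, r ^ (p ^ m) = 1 := by
        obtain ⟨m, hm⟩ := hS ⟨r, hrS⟩
        exact ⟨m, congrArg Subtype.val hm⟩
      obtain ⟨m, hm⟩ := hrp
      have hz := hnorm x hx.1 hx.2 r hrS
      by_cases hxp : (x : Ω) ^ p = 1
      · left
        apply Subtype.ext
        exact conj_eq_of_pow_eq_one hxp hm hz
      · rcases hx.2 with h | ⟨h1, h2⟩
        · exact absurd h hxp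
        · subst h1
          rcases conj_eq_of_pow_four h2 hz hxp with h3 | h3
          · left
            apply Subtype.ext
            exact h3
          · right
            refine ⟨rfl, ?_⟩
            apply Subtype.ext
            exact h3
    have h1 := hKle hmem
    have h2 : conjAut P ⟨r, hrN⟩ ∈ Inn P := by
      rw [← hrad.2]
      exact ⟨_, h1, rfl⟩
    exact mem_of_conjAut_mem_inn hc hrS hrN h2
  by_contra hne
  have hlt : P < S := lt_of_le_of_ne hPS (fun h => hne (h ▸ le_rfl))
  exact (lt_normalizerIn hS hlt).not_ge hN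

end Cfsg.Agent.Lib.FusionFoc
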