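import Cfsg.Agent.Lib.FusionFactorModel
import Cfsg.Agent.Lib.FusionModelUniq

/-!
Section-freeness of the system of a finite group: the normalizer of a centric fully normalized
subgroup, modulo the `p'`-part of its centralizer, is a model of the normalizer system.
-/

set_option autoImplicit false

universe u

namespace Cfsg.Agent.Lib.FusionGroupFree

open Cfsg Cfsg.FusionSystem Cfsg.Agent.Lib.FusionBasic Cfsg.Agent.Lib.FusionAut
  Cfsg.Agent.Lib.FusionSat Cfsg.Agent.Lib.FusionAlperin Cfsg.Agent.Lib.FusionNormal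
  Cfsg.Agent.Lib.FusionFactor Cfsg.Agent.Lib.FusionLocal Cfsg.Agent.Lib.FusionNormSat
  Cfsg.Agent.Lib.FusionModel Cfsg.Agent.Lib.FusionLocalModel Cfsg.Agent.Lib.FusionEmb
  Cfsg.Agent.Lib.FusionQuot Cfsg.Agent.Lib.FusionFactorModel Cfsg.Agent.Lib.SylowIn

variable {p : ℕ} [Fact p.Prime]

section localStuff

variable {Ω : Type u} [Group Ω] {T : Subgroup Ω} {G : Type*} [Group G]

/-- The normalizer in a realizing group realizes the normalizer system. -/
theorem local_realized {E : FusionSystem T} {ι : T →* G} (hF : E.IsRealizedBy ι) {U : Subgroup Ω}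
    (hUT : U ≤ T) : (normalizerSystem E U hUT).IsRealizedBy (ιN ι U) := by
  refine ⟨ιN_injective hF.1 U, fun P hP φ hφ => ?_⟩
  constructor
  · rintro ⟨h1, h2, h3, ψ, hψ, hext, hmap⟩
    obtain ⟨hPU, hv, g, hg⟩ := exists_conj_of_mem hF hψ
    obtain ⟨hm1, hm2⟩ := (map_subgroupOf_sup_eq_iff ψ).mp hmap
    have hgN : g ∈ Subgroup.normalizer (imageAlong ι U : Set G) := by
      rw [Subgroup.mem_normalizer_iff]
      intro a
      constructor
      · rintro ⟨u, hu, rfl⟩
        have hu' : (u : Ω) ∈ U := hu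
        have e := hg ⟨u, Subgroup.mem_sup_right hu'⟩
        refine ⟨⟨_, hv _⟩, hm1 u hu', ?_⟩
        exact e
      · rintro ⟨u, hu, e⟩
        have hu' : (u : Ω) ∈ U := hu
        obtain ⟨w, hw, ew⟩ := hm2 u hu'
        have e2 := hg ⟨w, Subgroup.mem_sup_right hw⟩
        have e3 : (⟨ψ ⟨w, Subgroup.mem_sup_right hw⟩, hv _⟩ : T) = u := Subtype.ext ew
        rw [e3, e] at e2
        have e4 : a = ι ⟨w, hPU (Subgroup.mem_sup_right hw)⟩ :=
          mul_left_cancel (mul_right_cancel e2)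
        rw [e4]
        exact ⟨⟨w, hPU (Subgroup.mem_sup_right hw)⟩, hw, rfl⟩
    refine ⟨⟨g, hgN⟩, fun x => Subtype.ext ?_⟩
    have e := hg (Subgroup.inclusion le_sup_left x)
    have e2 : (⟨ψ (Subgroup.inclusion le_sup_left x), hv _⟩ : T) = ⟨φ x, (hφ x).1⟩ :=
      Subtype.ext (hext x)
    rw [e2] at e
    exact e
  · rintro ⟨⟨g, hgN⟩, hg⟩
    have hg' : ∀ x : P, ι ⟨φ x, (hφ x).1⟩ = g * ι ⟨x, (hP x.2).1⟩ * g⁻¹ :=
      fun x => congrArg Subtype.val (hg x)
    have hsup : P ⊔ U ≤ T := sup_le (hP.trans inf_le_left) hUT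
    have hval : ∀ z, conjOn ι hsup g z ∈ ι.range := by
      refine sup_values_mem _ (fun x hx => ?_) (fun x hx => ?_)
      · refine ⟨⟨φ ⟨x, hx⟩, (hφ _).1⟩, ?_⟩
        exact hg' ⟨x, hx⟩
      · apply imageAlong_le_range ι U
        exact (Subgroup.mem_normalizer_iff.mp hgN _).mp ⟨⟨x, hUT hx⟩, hx, rfl⟩
    have hψ := liftHom_conj_mem hF hsup g hval
    have hιψ := ι_liftHom hF.1 _ hval
    have hS' := liftHom_mem hF.1 _ hval
    have hagree : ∀ x : P, liftHom hF.1 (conjOn ι hsup g) hval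
        (Subgroup.inclusion le_sup_left x) = φ x := by
      intro x
      apply eq_of_ι_eq hF.1 (hS' _) (hφ x).1
      rw [hιψ, conjOn_apply]
      exact (hg' x).symm
    have hU1 : ∀ (x : Ω) (hx : x ∈ U), liftHom hF.1 (conjOn ι hsup g) hval
        ⟨x, Subgroup.mem_sup_right hx⟩ ∈ U := by
      intro x hx
      have h1 : g * ι ⟨x, hUT hx⟩ * g⁻¹ ∈ imageAlong ι U :=
        (Subgroup.mem_normalizer_iff.mp hgN _).mp ⟨⟨x, hUT hx⟩, hx, rfl⟩
      have h2 := hιψ ⟨x, Subgroup.mem_sup_right hx⟩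
      rw [conjOn_apply] at h2
      have h3 : ι ⟨_, hS' ⟨x, Subgroup.mem_sup_right hx⟩⟩ ∈ imageAlong ι U := by
        rw [h2]
        exact h1
      exact (mem_imageAlong_iff hF.1 _).mp h3
    refine ⟨hom_of_eq (restrict_mem E hψ le_sup_left) fun x => (hagree x).symm, hP, hφ, _, hψ,
      hagree, ?_⟩
    rw [map_subgroupOf_sup_eq_iff]
    refine ⟨hU1, fun y hy => ?_⟩
    have h1 : g⁻¹ * ι ⟨y, hUT hy⟩ * g⁻¹⁻¹ ∈ imageAlong ι U :=
      (Subgroup.mem_normalizer_iff.mp (inv_mem hgN) _).mp ⟨⟨y, hUT hy⟩, hy, rfl⟩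
    obtain ⟨w, hw, e⟩ := h1
    have hw' : (w : Ω) ∈ U := hw
    refine ⟨w, hw', ?_⟩
    apply eq_of_ι_eq hF.1 (hS' _) (hUT hy)
    rw [hιψ, conjOn_apply]
    show g * ι w * g⁻¹ = _
    rw [e]
    group

/-- At a fully normalized subgroup, the local subgroup is a Sylow subgroup of the normalizer. -/
theorem local_sylow [Finite G] [Finite T] {E : FusionSystem T} {ι : T →* G} (hF : E.IsRealizedBy ι)
    (T₀ : Sylow p G) (hT₀ : (T₀ : Subgroup G) = ι.range) {U : Subgroup Ω} (hUT : U ≤ T)
    (hfull : E.IsFullyNormalized U) :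
    ∃ Y : Sylow p ↥(Subgroup.normalizer (imageAlong ι U : Set G)),
      (Y : Subgroup ↥(Subgroup.normalizer (imageAlong ι U : Set G))) = (ιN ι U).range := by
  have hinj := ιN_injective hF.1 U
  have hTp : IsPGroup p ι.range := hT₀ ▸ T₀.isPGroup'
  have hTpS : IsPGroup p T := by
    intro t
    obtain ⟨k, hk'⟩ := hTp ((MonoidHom.ofInjective hF.1) t)
    refine ⟨k, (MonoidHom.ofInjective hF.1).injective ?_⟩
    rw [map_pow, hk', map_one]
  have hNp : IsPGroup p (normalizerIn T U) := hTpS.to_le inf_le_left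
  have hrp : IsPGroup p (ιN ι U).range :=
    hNp.of_surjective (ιN ι U).rangeRestrict (ιN ι U).rangeRestrict_surjective
  obtain ⟨Y, hY⟩ := hrp.exists_le_sylow
  refine ⟨Y, ?_⟩
  symm
  refine Subgroup.eq_of_le_of_card_ge hY ?_
  have hŶp : IsPGroup p ((Y : Subgroup _).map (Subgroup.normalizer (imageAlong ι U : Set G)).subtype) :=
    Y.isPGroup'.map _
  obtain ⟨h, hh⟩ := exists_conj_mem_sylow T₀ hŶp
  have hh' : ∀ y ∈ (Y : Subgroup _).map (Subgroup.normalizer (imageAlong ι U : Set G)).subtype,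
      h * y * h⁻¹ ∈ ι.range := fun y hy => by
    rw [← hT₀]
    exact hh y hy
  have hUY : imageAlong ι U ≤ (Y : Subgroup _).map (Subgroup.normalizer (imageAlong ι U : Set G)).subtype := by
    intro a ha
    have haN : a ∈ Subgroup.normalizer (imageAlong ι U : Set G) := Subgroup.le_normalizer ha
    haveI hN' : ((imageAlong ι U).subgroupOf (Subgroup.normalizer (imageAlong ι U : Set G))).Normal :=
      Subgroup.normal_in_normalizer
    have hp' : IsPGroup p ((imageAlong ι U).subgroupOf (Subgroup.normalizer (imageAlong ι U : Set G))) :=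
      (hTp.to_le (imageAlong_le_range ι U)).comap_of_injective _ (Subgroup.subtype_injective _)
    have hle := hp'.le_sylow_of_normal Y
    exact ⟨⟨a, haN⟩, hle ha, rfl⟩
  obtain ⟨U₀, hc, hU₀T, hmem⟩ := exists_conj_img hF hUT h (fun y hy => hh' y (hUY hy))
  have hcard1 := hfull.2 U₀ hc
  have hKle : ((Y : Subgroup _).map (Subgroup.normalizer (imageAlong ι U : Set G)).subtype).map
      (MulAut.conj h).toMonoidHom ≤ ι.range := by
    rintro _ ⟨y, hy, rfl⟩
    exact hh' y hy
  have hkey : ∀ t : T, ι t ∈ ((Y : Subgroup _).map (Subgroup.normalizer (imageAlong ι U : Set G)).subtype).map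
      (MulAut.conj h).toMonoidHom → ∀ a ∈ U₀, (t : Ω) * a * (t : Ω)⁻¹ ∈ U₀ := by
    intro t ht a ha
    obtain ⟨_, ⟨y, hy, rfl⟩, e⟩ := ht
    have haT := hU₀T ha
    have hb := (hmem a haT).mp ha
    have hyb := (Subgroup.mem_normalizer_iff.mp y.2 _).mp hb
    have hq : (t : Ω) * a * (t : Ω)⁻¹ ∈ T := T.mul_mem (T.mul_mem t.2 haT) (T.inv_mem t.2)
    refine (hmem _ hq).mpr ?_
    have e1 : ι ⟨(t : Ω) * a * (t : Ω)⁻¹, hq⟩ = ι t * ι ⟨a, haT⟩ * (ι t)⁻¹ := by
      rw [← map_inv, ← map_mul, ← map_mul]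
      rfl
    have e2 : ι t = h * (y : G) * h⁻¹ := e.symm
    rw [e1, e2]
    have e3 : h⁻¹ * (h * (y : G) * h⁻¹ * ι ⟨a, haT⟩ * (h * (y : G) * h⁻¹)⁻¹) * h =
        (y : G) * (h⁻¹ * ι ⟨a, haT⟩ * h) * (y : G)⁻¹ := by group
    rw [e3]
    exact hyb
  have hKnorm : preS ι (((Y : Subgroup _).map (Subgroup.normalizer (imageAlong ι U : Set G)).subtype).map
      (MulAut.conj h).toMonoidHom) ≤ normalizerIn T U₀ := by
    rintro _ ⟨t, ht, rfl⟩
    refine ⟨t.2, Subgroup.mem_normalizer_iff.mpr fun a => ⟨hkey t ht a, fun ha => ?_⟩⟩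
    have ht' : ι t⁻¹ ∈ ((Y : Subgroup _).map (Subgroup.normalizer (imageAlong ι U : Set G)).subtype).map
        (MulAut.conj h).toMonoidHom := by
      rw [map_inv]
      exact inv_mem ht
    have := hkey t⁻¹ ht' ((t : Ω) * a * (t : Ω)⁻¹) (show (t : Ω) * a * (t : Ω)⁻¹ ∈ U₀ from ha)
    have e : ((t⁻¹ : T) : Ω) * ((t : Ω) * a * (t : Ω)⁻¹) * ((t⁻¹ : T) : Ω)⁻¹ = a := by
      show (t : Ω)⁻¹ * ((t : Ω) * a * (t : Ω)⁻¹) * ((t : Ω)⁻¹)⁻¹ = a
      group
    rw [e] at this
    exact this
  haveI hfin3 : Finite (normalizerIn T U₀) := finite_of_le inf_le_left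
  haveI hfin4 : Finite (normalizerIn T U) := finite_of_le inf_le_left
  have hc1 : Nat.card Y = Nat.card ↥(preS ι (((Y : Subgroup _).map
      (Subgroup.normalizer (imageAlong ι U : Set G)).subtype).map (MulAut.conj h).toMonoidHom)) := by
    set K := ((Y : Subgroup _).map
      (Subgroup.normalizer (imageAlong ι U : Set G)).subtype).map (MulAut.conj h).toMonoidHom
      with hKdef
    have a1 : Nat.card ((Y : Subgroup _).map
        (Subgroup.normalizer (imageAlong ι U : Set G)).subtype) = Nat.card Y :=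
      Subgroup.card_map_of_injective (Subgroup.subtype_injective _)
    have a2 : Nat.card K = Nat.card ((Y : Subgroup _).map
        (Subgroup.normalizer (imageAlong ι U : Set G)).subtype) :=
      Subgroup.card_map_of_injective (MulAut.conj h).injective
    have a3 : (K.comap ι).map ι = K := Subgroup.map_comap_eq_self hKle
    have a4 : Nat.card ((K.comap ι).map ι) = Nat.card (K.comap ι) :=
      Subgroup.card_map_of_injective hF.1
    have a5 : Nat.card ((K.comap ι).map T.subtype) = Nat.card (K.comap ι) :=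
      Subgroup.card_map_of_injective (Subgroup.subtype_injective _)
    have a6 : preS ι K = (K.comap ι).map T.subtype := rfl
    rw [a6, a5, ← a4, a3, a2, a1]
  have hc2 : Nat.card (ιN ι U).range = Nat.card (normalizerIn T U) :=
    (Nat.card_congr (MonoidHom.ofInjective hinj).toEquiv).symm
  have hc3 := Subgroup.card_le_of_le hKnorm
  change Nat.card Y ≤ _
  omega

/-- The system on a Sylow subgroup is a factor system of itself by the trivial subgroup. -/
theorem isFactorSystem_self {N : FusionSystem T} : N.IsFactorSystem ⊥ T.subtype N := by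
  have hpre : ∀ P' : Subgroup Ω, P' ≤ T → preimageAlong T.subtype P' = P' := by
    intro P' hP'
    ext x
    rw [mem_preimageAlong]
    constructor
    · rintro ⟨_, h⟩
      exact h
    · intro h
      exact ⟨hP' h, h⟩
  refine ⟨bot_le, fun s => ?_, Subgroup.range_subtype T, fun P' φ' => ⟨fun h => ?_, ?_⟩⟩
  · rw [Subgroup.mem_bot]
    rfl
  · have hP' := source_le N h
    have hle : preimageAlong T.subtype P' ≤ P' := (hpre P' hP').le
    have hle2 : P' ≤ preimageAlong T.subtype P' := (hpre P' hP').ge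
    refine ⟨hP', _, restrict_mem N h hle, preimageAlong_le _ _, fun x => map_mem_S N h _,
      fun x => hle x.2, fun x => rfl⟩
  · rintro ⟨hP', φ, hφ, hPS, hv, hPm, e⟩
    have hle2 : P' ≤ preimageAlong T.subtype P' := (hpre P' hP').ge
    refine hom_of_eq (restrict_mem N hφ hle2) fun x => ?_
    exact e (Subgroup.inclusion hle2 x)

/-- Modulo a complement of a normal self-centralizing `p`-subgroup in its centralizer, a group
realizing the system on a Sylow subgroup is a model. -/
theorem exists_model_quot [Finite T] {N : FusionSystem T} {B : Type*} [Group B] [Finite B]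
    {ι₀ : T →* B} (hN : N.IsRealizedBy ι₀) (T₁ : Sylow p B) (hT₁ : (T₁ : Subgroup B) = ι₀.range)
    (R : Subgroup B) [hRn : R.Normal] (hRle : R ≤ ι₀.range)
    (hC : (T₁ : Subgroup B) ⊓ Subgroup.centralizer (R : Set B) ≤ R) :
    ∃ (K : Subgroup B) (_ : K.Normal), N.IsModel p (B ⧸ K) ((QuotientGroup.mk' K).comp ι₀) := by
  obtain ⟨K, hKn, hKreg, hdec⟩ := exists_complement_centralizer R T₁ hC
  haveI := hKn
  refine ⟨K, hKn, ?_⟩
  have hT₁p : IsPGroup p ι₀.range := hT₁ ▸ T₁.isPGroup'
  have hreg1 : ∀ y ∈ ι₀.range, y ∈ K → y = 1 := by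
    intro y hy hyK
    obtain ⟨k, hk⟩ := hT₁p ⟨y, hy⟩
    have h1 : y ^ p ^ k = 1 := congrArg Subtype.val hk
    obtain ⟨j, -, hj⟩ := (Nat.dvd_prime_pow (Fact.out : p.Prime)).mp (orderOf_dvd_of_pow_eq_one h1)
    have h2 := hKreg y hyK
    rw [hj] at h2
    cases j with
    | zero =>
      rw [pow_zero, orderOf_eq_one_iff] at hj
      exact hj
    | succ j =>
      exact absurd (dvd_pow_self p (Nat.succ_ne_zero j)) h2
  have hπ : Function.Surjective (QuotientGroup.mk' K) := QuotientGroup.mk'_surjective K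
  have hinj : Function.Injective ((QuotientGroup.mk' K).comp ι₀) := by
    rw [injective_iff_map_eq_one]
    intro b hb
    have h1 : ι₀ b ∈ K := (QuotientGroup.eq_one_iff _).mp hb
    exact hN.1 (by rw [hreg1 _ ⟨b, rfl⟩ h1, map_one])
  refine ⟨inferInstance, realized_quot isFactorSystem_self hN T₁ hT₁ (QuotientGroup.mk' K) hπ _
    (fun t h => rfl) hinj, ⟨T₁.mapSurjective hπ, ?_⟩, ?_⟩
  · rw [Sylow.coe_mapSurjective, hT₁]
    ext y
    constructor
    · rintro ⟨_, ⟨t, rfl⟩, rfl⟩
      exact ⟨t, rfl⟩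
    · rintro ⟨b, rfl⟩
      exact ⟨ι₀ b, ⟨b, rfl⟩, rfl⟩
  · have hVn : (R.map (QuotientGroup.mk' K)).Normal :=
      Subgroup.Normal.map inferInstance _ (QuotientGroup.mk'_surjective K)
    have hVp : IsPGroup p (R.map (QuotientGroup.mk' K)) := (hT₁p.to_le hRle).map _
    have hVO := Cfsg.Agent.Lib.PCore.le_pCore hVn hVp
    intro y hy
    apply hVO
    obtain ⟨g, rfl⟩ := QuotientGroup.mk'_surjective K y
    have hgc : g ∈ Subgroup.centralizer (R : Set B) := by
      rw [Subgroup.mem_centralizer_iff]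
      intro r hr
      have h1 := Subgroup.mem_centralizer_iff.mp hy (QuotientGroup.mk' K r) (hVO ⟨r, hr, rfl⟩)
      have h2 : g * r * g⁻¹ * r⁻¹ ∈ K := by
        have h3 : QuotientGroup.mk' K (g * r * g⁻¹ * r⁻¹) = 1 := by
          rw [map_mul, map_mul, map_mul, map_inv, map_inv, ← h1]
          group
        exact (QuotientGroup.eq_one_iff _).mp h3
      have h4 : g * r * g⁻¹ * r⁻¹ ∈ R :=
        mul_mem (hRn.conj_mem r hr g) (inv_mem hr)
      have h5 := hreg1 _ (hRle h4) h2
      have h6 : g * r * g⁻¹ = r := by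
        have := congrArg (· * r) h5
        simpa using this
      calc r * g = (g * r * g⁻¹) * g := by rw [h6]
        _ = g * r := by group
    obtain ⟨k, hk, r, hr, rfl⟩ := hdec g hgc
    refine ⟨r, hr, ?_⟩
    have hk1 : QuotientGroup.mk' K k = 1 := (QuotientGroup.eq_one_iff k).mpr hk
    rw [map_mul, hk1, one_mul]

end localStuff

/-- The system of a finite group is section free for every group not involved in the group. -/
theorem sectionFree_of_group {G : Type u} [Group G] [Finite G] (P : Sylow p G) {H : Type*} [Group H]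
    (hfree : ¬ Involves H G) : (groupFusionSystem (P : Subgroup G)).IsSectionFree p H := by
  intro Q hQn hQc N hN L _ ι hL hinv
  have hQS := hQn.1
  have hNeq : N = normalizerSystem (groupFusionSystem (P : Subgroup G)) Q hQS :=
    fusionSystem_ext fun A => by
      rw [hN A, isNormalizerSystem_normalizerSystem _ Q hQS A]
  subst hNeq
  have hreal : (groupFusionSystem (P : Subgroup G)).IsRealizedBy (P : Subgroup G).subtype := by
    refine ⟨Subgroup.subtype_injective _, fun A hA φ hφ => ⟨?_, ?_⟩⟩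
    · rintro ⟨-, -, g, hg⟩
      exact ⟨g, fun x => hg x⟩
    · rintro ⟨g, hg⟩
      exact ⟨hA, hφ, g, fun x => hg x⟩
  have hrange : (P : Subgroup G) = (P : Subgroup G).subtype.range := (Subgroup.range_subtype _).symm
  have hreal₀ := local_realized hreal hQS
  obtain ⟨T₁, hT₁⟩ := local_sylow hreal P hrange hQS hQn
  haveI hRn : ((imageAlong (P : Subgroup G).subtype Q).subgroupOf
      (Subgroup.normalizer (imageAlong (P : Subgroup G).subtype Q : Set G))).Normal :=
    Subgroup.normal_in_normalizer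
  have hmemW : ∀ q : G, q ∈ imageAlong (P : Subgroup G).subtype Q ↔ q ∈ Q := by
    intro q
    constructor
    · rintro ⟨t, ht, rfl⟩
      exact ht
    · intro hq
      exact ⟨⟨q, hQS hq⟩, hq, rfl⟩
  have hRle : (imageAlong (P : Subgroup G).subtype Q).subgroupOf
      (Subgroup.normalizer (imageAlong (P : Subgroup G).subtype Q : Set G)) ≤
      (ιN (P : Subgroup G).subtype Q).range := by
    intro r hr
    have hr' : (r : G) ∈ imageAlong (P : Subgroup G).subtype Q := hr
    have hrQ := (hmemW _).mp hr'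
    exact ⟨⟨r, le_normalizerIn hQS hrQ⟩, Subtype.ext rfl⟩
  have hC : (T₁ : Subgroup _) ⊓ Subgroup.centralizer (((imageAlong (P : Subgroup G).subtype Q).subgroupOf
      (Subgroup.normalizer (imageAlong (P : Subgroup G).subtype Q : Set G)) : Subgroup _) : Set _) ≤
      (imageAlong (P : Subgroup G).subtype Q).subgroupOf
      (Subgroup.normalizer (imageAlong (P : Subgroup G).subtype Q : Set G)) := by
    rintro y ⟨hy1, hy2⟩
    have hy1' : y ∈ (ιN (P : Subgroup G).subtype Q).range := hT₁ ▸ hy1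
    obtain ⟨t, rfl⟩ := hy1'
    have ht : (t : G) ∈ centralizerIn (P : Subgroup G) Q := by
      refine ⟨t.2.1, Subgroup.mem_centralizer_iff.mpr fun q hq => ?_⟩
      have hqW : q ∈ imageAlong (P : Subgroup G).subtype Q := (hmemW q).mpr hq
      have h1 := Subgroup.mem_centralizer_iff.mp hy2 ⟨q, Subgroup.le_normalizer hqW⟩ hqW
      exact congrArg Subtype.val h1
    have h2 := hQc.2 Q (isConj_refl _ hQS) ht
    exact (hmemW _).mpr h2
  obtain ⟨K, hKn, hM⟩ := exists_model_quot hreal₀ T₁ hT₁ _ hRle hC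
  obtain ⟨e, -⟩ := Cfsg.Agent.Lib.FusionModelUniq.exists_iso_of_models hL hM
  apply hfree
  have h1 := involves_trans_inj hinv e.toMonoidHom e.injective
  have h2 := involves_of_surj h1 (QuotientGroup.mk' K) (QuotientGroup.mk'_surjective K)
  exact involves_trans_inj h2 (Subgroup.subtype _) (Subgroup.subtype_injective _)

end Cfsg.Agent.Lib.FusionGroupFree
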