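import Cfsg.Agent.Lib.FusionHyp
import Cfsg.Agent.Lib.FusionSubgroup
import Cfsg.Agent.Lib.Focal
import Cfsg.Agent.Lib.H6PGroup
import Cfsg.Agent.Lib.PResidual
import Cfsg.Agent.S5076

/-! The hyperfocal subgroup of a group fusion system. -/

set_option autoImplicit false

namespace Cfsg.Agent.Lib.FusionHypGroup

open Cfsg Cfsg.FusionSystem Cfsg.Agent.Lib.FusionAut Cfsg.Agent.Lib.FusionBasic
  Cfsg.Agent.Lib.FusionHyp Cfsg.Agent.Lib.FusionSat Cfsg.Agent.Lib.FusionSubgroup
  Cfsg.Agent.Lib.SylowIn Cfsg.Agent.Lib.Focal Cfsg.Agent.Lib.H6PGroup Cfsg.Agent.Lib.PResidual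

universe u

variable {G : Type*} [Group G] {p : ℕ} [hp : Fact p.Prime]

theorem aut_conj_exists {S P : Subgroup G} (hP : P ≤ S) {α : MulAut P}
    (hα : α ∈ (groupFusionSystem S).autGroup P) : ∃ g : G, ∀ x : P, ((α x : P) : G) = g * x * g⁻¹ := by
  obtain ⟨-, -, g, hg⟩ := (mem_autGroup_iff _ hP).mp hα
  exact ⟨g, hg⟩

theorem pow_conj {P : Subgroup G} {α : MulAut P} {g : G}
    (h : ∀ x : P, ((α x : P) : G) = g * x * g⁻¹) (k : ℕ) :
    ∀ x : P, (((α ^ k) x : P) : G) = g ^ k * x * (g ^ k)⁻¹ := by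
  induction k with
  | zero =>
    intro x
    simp
  | succ k ih =>
    intro x
    rw [pow_succ', MulAut.mul_apply, h, ih, pow_succ']
    group

/-- An automorphism of order prime to `p` induced by an element is induced by an element of
order prime to `p`. -/
theorem exists_coprime_conj [Finite G] {P : Subgroup G} {α : MulAut P} {g : G}
    (h : ∀ x : P, ((α x : P) : G) = g * x * g⁻¹) (hα : (orderOf α).Coprime p) :
    ∃ t : G, (orderOf t).Coprime p ∧ ∀ x : P, ((α x : P) : G) = t * x * t⁻¹ := by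
  have hn0 : orderOf g ≠ 0 := (orderOf_pos g).ne'
  obtain ⟨a, n', hn', e⟩ := Nat.exists_eq_pow_mul_and_not_dvd hn0 p hp.out.ne_one
  have hc : Nat.Coprime (orderOf α) (p ^ a) := Nat.Coprime.pow_right a hα
  let k := Nat.chineseRemainder hc 1 0
  have hk1 : (k : ℕ) ≡ 1 [MOD orderOf α] := k.2.1
  have hk2 : (k : ℕ) ≡ 0 [MOD p ^ a] := k.2.2
  refine ⟨g ^ (k : ℕ), ?_, ?_⟩
  · have hd : orderOf (g ^ (k : ℕ)) ∣ n' := by
      apply orderOf_dvd_of_pow_eq_one
      rw [← pow_mul]
      apply orderOf_dvd_iff_pow_eq_one.mp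
      rw [e]
      have : p ^ a ∣ (k : ℕ) := (Nat.modEq_zero_iff_dvd).mp hk2
      exact Nat.mul_dvd_mul_right this n'
    exact Nat.Coprime.coprime_dvd_left hd ((Nat.Prime.coprime_iff_not_dvd hp.out).mpr hn').symm
  · intro x
    have h2 : α ^ (k : ℕ) = α ^ 1 := pow_eq_pow_iff_modEq.mpr hk1
    have h3 := pow_conj h k x
    rw [h2, pow_one] at h3
    exact h3

/-- The hyperfocal subgroup lies in `O^p(G)`. -/
theorem hyp_le_residual [Finite G] (S : Subgroup G) :
    (groupFusionSystem S).hyperfocalSubgroup p ≤ pResidual p G := by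
  rw [hyperfocalSubgroup, Subgroup.closure_le]
  rintro _ ⟨P, α, x, hP, hα, rfl⟩
  have hN : (pResidual p G).Normal := pResidual_normal p G
  haveI hfinP : Finite P := inferInstance
  have key : ∀ β ∈ pResidual p ((groupFusionSystem S).autGroup P), ∀ x : P,
      (x : G)⁻¹ * ((β : MulAut P) x : P) ∈ pResidual p G := by
    intro β hβ
    induction hβ using Subgroup.closure_induction with
    | mem β hβ =>
      intro x
      obtain ⟨g, hg⟩ := aut_conj_exists hP β.2
      have hc : (orderOf (β : MulAut P)).Coprime p := by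
        rw [Subgroup.orderOf_coe]
        exact hβ
      obtain ⟨t, ht, e⟩ := exists_coprime_conj hg hc
      rw [e]
      have htO : t ∈ pResidual p G := mem_pResidual_of_coprime ht
      have h1 : (x : G)⁻¹ * t * (x : G)⁻¹⁻¹ ∈ pResidual p G := hN.conj_mem t htO _
      have h2 : (x : G)⁻¹ * (t * x * t⁻¹) = ((x : G)⁻¹ * t * (x : G)⁻¹⁻¹) * t⁻¹ := by group
      rw [h2]
      exact Subgroup.mul_mem _ h1 (Subgroup.inv_mem _ htO)
    | one =>
      intro x
      simp
    | mul a b _ _ ha hb =>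
      intro x
      have h1 := hb x
      have h2 := ha ((b : MulAut P) x)
      have e : (x : G)⁻¹ * (((a * b : (groupFusionSystem S).autGroup P) : MulAut P) x : P) =
          ((x : G)⁻¹ * ((b : MulAut P) x : P)) * ((((b : MulAut P) x : P) : G)⁻¹ * ((a : MulAut P) ((b : MulAut P) x) : P)) := by
        show (x : G)⁻¹ * ((a : MulAut P) ((b : MulAut P) x) : P) = _
        group
      rw [e]
      exact Subgroup.mul_mem _ h1 h2
    | inv a _ ha =>
      intro x
      set y := (a⁻¹ : (groupFusionSystem S).autGroup P).1 x with hy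
      have h1 := ha y
      have h2 : ((a : MulAut P) y) = x := by
        rw [hy]
        show (a : MulAut P) ((a : MulAut P)⁻¹ x) = x
        simp
      rw [h2] at h1
      have h3 := Subgroup.inv_mem _ h1
      have e : ((y : G)⁻¹ * (x : G))⁻¹ = (x : G)⁻¹ * (y : G) := by group
      rw [e] at h3
      exact h3
  exact key α hα x

/-- Transport along a subgroup. -/
theorem map_hyp_le [Finite G] (S K : Subgroup G) (R : Subgroup K) (hRS : ∀ r : R, ((r : K) : G) ∈ S) :
    ((groupFusionSystem R).hyperfocalSubgroup p).map K.subtype ≤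
      (groupFusionSystem S).hyperfocalSubgroup p := by
  rw [Subgroup.map_le_iff_le_comap, hyperfocalSubgroup, Subgroup.closure_le]
  rintro _ ⟨P₁, α, x, hP₁, hα, rfl⟩
  set P := P₁.map K.subtype with hPdef
  have hPS : P ≤ S := by
    rintro _ ⟨y, hy, rfl⟩
    exact hRS ⟨y, hP₁ hy⟩
  let e : P₁ ≃* P := P₁.equivMapOfInjective K.subtype K.subtype_injective
  have he : ∀ w : P₁, ((e w : P) : G) = ((w : K) : G) := fun w => rfl
  let f : (groupFusionSystem R).autGroup P₁ →* (groupFusionSystem S).autGroup P :=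
    { toFun := fun β => ⟨MulAut.congr e β, by
        rw [mem_autGroup_iff _ hPS]
        obtain ⟨g, hg⟩ := aut_conj_exists hP₁ β.2
        refine ⟨hPS, fun y => hPS (MulAut.congr e (β : MulAut P₁) y).2, (g : G), fun y => ?_⟩
        have e1 : y = e (e.symm y) := (e.apply_symm_apply y).symm
        have e2 := hg (e.symm y)
        show ((e ((β : MulAut P₁) (e.symm y)) : P) : G) = (g : G) * y * (g : G)⁻¹
        rw [he, e2]
        conv_rhs => rw [e1]
        rw [he]
        rfl⟩
      map_one' := by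
        apply Subtype.ext
        exact map_one (MulAut.congr e)
      map_mul' := by
        intro a b
        apply Subtype.ext
        exact map_mul (MulAut.congr e) a.1 b.1 }
  have h1 := mem_hyp_of_residual hPS (f α) (pResidual_map_mem f hα) (e x)
  have h2 : (((f α : MulAut P) (e x) : P) : G) = (((α : MulAut P₁) x : P₁) : K) := by
    show ((e ((α : MulAut P₁) (e.symm (e x))) : P) : G) = _
    rw [e.symm_apply_apply]
    rfl
  rw [h2, he] at h1
  show K.subtype (((x : K))⁻¹ * ((α : MulAut P₁) x : P₁)) ∈ (groupFusionSystem S).hyperfocalSubgroup p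
  rw [map_mul, map_inv]
  exact h1

/-- If the focal subgroup is all of `S`, so is the hyperfocal subgroup. -/
theorem le_hyp_of_le_foc {Ω : Type*} [Group Ω] {S : Subgroup Ω} [Finite S] (hS : IsPGroup p S)
    {F : FusionSystem S} (hF : F.IsSaturated p) (h : S ≤ F.focalSubgroup) :
    S ≤ F.hyperfocalSubgroup p := by
  set H := F.hyperfocalSubgroup p with hH
  have hHS : H ≤ S := hyp_le F
  set Z : Subgroup Ω := (H.subgroupOf S ⊔ frattini S).map S.subtype with hZ
  have h1 : H ≤ Z := by
    intro x hx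
    exact ⟨⟨x, hHS hx⟩, Subgroup.mem_sup_left (Subgroup.mem_subgroupOf.mpr hx), rfl⟩
  have h2 : ⁅S, S⁆ ≤ Z := by
    rw [Subgroup.commutator_le]
    intro x hx y hy
    refine ⟨⟨x, hx⟩ * ⟨y, hy⟩ * (⟨x, hx⟩ : S)⁻¹ * (⟨y, hy⟩ : S)⁻¹,
      Subgroup.mem_sup_right (comm_mem_frattini hS _ _), ?_⟩
    rw [commutatorElement_def]
    rfl
  have h3 : S ≤ Z := by
    refine h.trans ?_
    rw [foc_eq hS hF]
    exact sup_le h1 h2
  have h4 : H.subgroupOf S ⊔ frattini S = ⊤ := by
    rw [eq_top_iff]
    intro s _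
    obtain ⟨y, hy, e⟩ := h3 s.2
    have : y = s := Subtype.ext e
    exact this ▸ hy
  have h5 := frattini_nongenerating h4
  intro s hs
  have : (⟨s, hs⟩ : S) ∈ H.subgroupOf S := by
    rw [h5]
    trivial
  exact this

/-- The elements of `S` conjugation quotients lie in the focal subgroup. -/
theorem focal_le_foc [Finite G] (S : Subgroup G) :
    focal S ≤ (groupFusionSystem S).focalSubgroup := by
  refine focal_le_of _ _ fun x hx g hg => ?_
  have hP : Subgroup.zpowers x ≤ S := by
    rw [Subgroup.zpowers_le]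
    exact hx
  have hφ : conjHom (Subgroup.zpowers x) g ∈ (groupFusionSystem S).Hom (Subgroup.zpowers x) := by
    refine ⟨hP, ?_, g, fun y => rfl⟩
    rintro ⟨_, k, rfl⟩
    have e : g * x ^ k * g⁻¹ = (g * x * g⁻¹) ^ k := by
      rw [conj_zpow]
    show g * x ^ k * g⁻¹ ∈ S
    rw [e]
    exact S.zpow_mem hg k
  exact mem_foc hφ ⟨x, Subgroup.mem_zpowers x⟩

theorem inf_residual_le_aux (n : ℕ) : ∀ (G : Type u) [Group G] [Finite G] (S : Sylow p G),
    Nat.card G = n → (S : Subgroup G) ⊓ pResidual p G ≤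
      (groupFusionSystem (S : Subgroup G)).hyperfocalSubgroup p := by
  induction n using Nat.strong_induction_on with
  | _ n ih =>
  intro G _ _ S hcard
  classical
  have hcA : Nat.card (Abelianization G) ≠ 0 := Nat.card_pos.ne'
  obtain ⟨a, m, hm, he⟩ := Nat.exists_eq_pow_mul_and_not_dvd hcA p hp.out.ne_one
  let θ : G →* Abelianization G := (powMonoidHom m).comp Abelianization.of
  have hθ : ∀ g, θ g = (Abelianization.of g) ^ m := fun g => rfl
  haveI hN : θ.ker.Normal := MonoidHom.normal_ker θ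
  have hcop : ∀ g : G, (orderOf g).Coprime p → g ∈ θ.ker := by
    intro g hg
    rw [MonoidHom.mem_ker, hθ]
    have h1 : ((Abelianization.of g) ^ m) ^ (p ^ a) = 1 := by
      rw [← pow_mul, mul_comm, ← he]
      exact pow_card_eq_one'
    have h2 : ((Abelianization.of g) ^ m) ^ (orderOf g) = 1 := by
      rw [← pow_mul, mul_comm, pow_mul, ← map_pow, pow_orderOf_eq_one, map_one, one_pow]
    have hc : Nat.Coprime (p ^ a) (orderOf g) := Nat.Coprime.pow_left a hg.symm
    have h3 := pow_gcd_eq_one.mpr ⟨h1, h2⟩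
    rw [hc, pow_one] at h3
    exact h3
  have hScomm : ∀ s ∈ (S : Subgroup G), s ∈ θ.ker → s ∈ commutator G := by
    intro s hs hk
    have h2 : (Abelianization.of s) ^ m = 1 := hk
    obtain ⟨k, hk'⟩ := S.isPGroup' ⟨s, hs⟩
    have h3 : s ^ (p ^ k) = 1 := by simpa using congrArg Subtype.val hk'
    have h4 : (Abelianization.of s) ^ (p ^ k) = 1 := by
      rw [← map_pow, h3, map_one]
    have hc : Nat.Coprime m (p ^ k) :=
      Nat.Coprime.pow_right _ ((Nat.Prime.coprime_iff_not_dvd hp.out).2 hm).symm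
    have h5 := pow_gcd_eq_one.2 ⟨h2, h4⟩
    rw [hc, pow_one] at h5
    exact (QuotientGroup.eq_one_iff s).1 h5
  by_cases hSG : (S : Subgroup G) ≤ θ.ker
  · have h1 : (S : Subgroup G) ≤ commutator G := fun s hs => hScomm s hs (hSG hs)
    have h2 : (S : Subgroup G) ≤ focal (S : Subgroup G) := by
      rw [focal_eq S]
      exact le_inf le_rfl h1
    have h3 := le_hyp_of_le_foc S.isPGroup' (Cfsg.Agent.S5076.result p S) (h2.trans (focal_le_foc _))
    exact inf_le_left.trans h3
  · have hne : θ.ker ≠ ⊤ := by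
      intro h
      apply hSG
      rw [h]
      exact le_top
    have hlt : Nat.card θ.ker < n := by
      rw [← hcard]
      exact Nat.lt_of_le_of_ne (Subgroup.card_le_card_group _) (fun h => hne (Subgroup.eq_top_of_card_eq _ h))
    obtain ⟨R, hR⟩ := isSylowIn_inf S θ.ker
    have IH := ih _ hlt (↥θ.ker) R rfl
    rintro t ⟨htS, htO⟩
    have hOG : pResidual p G ≤ θ.ker := by
      rw [pResidual, Subgroup.closure_le]
      intro g hg
      exact hcop g hg
    have ht₁ := hOG htO
    have hO₁ : pResidual p G ≤ (pResidual p (↥θ.ker)).map θ.ker.subtype := by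
      rw [pResidual, Subgroup.closure_le]
      intro g hg
      refine ⟨⟨g, hcop g hg⟩, Subgroup.subset_closure ?_, rfl⟩
      show (orderOf (⟨g, hcop g hg⟩ : θ.ker)).Coprime p
      rw [Subgroup.orderOf_mk]
      exact hg
    obtain ⟨y, hy, ey⟩ := hO₁ htO
    have hyt : y = ⟨t, ht₁⟩ := Subtype.ext ey
    have hyR : y ∈ (R : Subgroup ↥θ.ker) := by
      rw [hR, hyt]
      exact Subgroup.mem_subgroupOf.mpr ⟨htS, ht₁⟩
    have h1 := IH ⟨hyR, hy⟩
    refine map_hyp_le (S : Subgroup G) θ.ker (R : Subgroup ↥θ.ker) (fun r => ?_) ⟨y, h1, ey⟩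
    have h2 : (r : ↥θ.ker) ∈ ((S : Subgroup G) ⊓ θ.ker).subgroupOf θ.ker := hR ▸ r.2
    exact (Subgroup.mem_subgroupOf.mp h2).1

/-- The hyperfocal subgroup theorem. -/
theorem hyp_eq {G : Type*} [Group G] [Finite G] (S : Sylow p G) :
    (groupFusionSystem (S : Subgroup G)).hyperfocalSubgroup p = (S : Subgroup G) ⊓ pResidual p G :=
  le_antisymm (le_inf (hyp_le _) (hyp_le_residual _)) (inf_residual_le_aux _ G S rfl)

end Cfsg.Agent.Lib.FusionHypGroup
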