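import Cfsg.Agent.Lib.FusionCenQuad
import Cfsg.Agent.Lib.CDLattice
import Cfsg.Agent.Lib.Replacement

/-!
Abelian subgroups of largest order in a Sylow subgroup centralize all conjugates of the `p`-th powers of
central elements, and the resulting factorization of a group with `C(O_p) ≤ O_p`.
-/

set_option autoImplicit false

universe u

namespace Cfsg.Agent.Lib.FusionJFactor

open Cfsg Cfsg.Agent.Lib.FusionCenQuad

section LemmaJ

variable {L : Type*} [Group L]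

theorem quad_d_pow' {t a : L} (hc : Commute (t * a * t⁻¹ * a⁻¹) a) (m : ℕ) :
    t * a ^ m * t⁻¹ * (a ^ m)⁻¹ = (t * a * t⁻¹ * a⁻¹) ^ m := by
  have h1 : t * a * t⁻¹ = (t * a * t⁻¹ * a⁻¹) * a := by group
  calc t * a ^ m * t⁻¹ * (a ^ m)⁻¹ = (t * a * t⁻¹) ^ m * (a ^ m)⁻¹ := by rw [conj_pow]
    _ = ((t * a * t⁻¹ * a⁻¹) * a) ^ m * (a ^ m)⁻¹ := by rw [← h1]
    _ = (t * a * t⁻¹ * a⁻¹) ^ m := by rw [hc.mul_pow, mul_inv_cancel_right]

/-- Coprimality of `2 ^ (p ^ N) - 1` with `p`. -/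
theorem two_pow_sub_one_coprime (p : ℕ) [hp : Fact p.Prime] (N : ℕ) :
    Nat.Coprime (2 ^ p ^ N - 1) p := by
  have h2 : ((2 : ℕ) : ZMod p) ^ p ^ N = 2 := by
    induction N with
    | zero => simp
    | succ N ih =>
      rw [pow_succ, pow_mul, ih]
      push_cast
      exact ZMod.pow_card 2
  have hpos : 1 ≤ 2 ^ p ^ N := Nat.one_le_two_pow
  rw [Nat.coprime_comm, Nat.Prime.coprime_iff_not_dvd hp.out]
  intro hd
  have h3 : ((2 ^ p ^ N - 1 : ℕ) : ZMod p) = 0 := (ZMod.natCast_eq_zero_iff _ _).mpr hd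
  rw [Nat.cast_sub hpos] at h3
  push_cast at h3 h2
  rw [h2] at h3
  have h4 : (1 : ZMod p) = 0 := by
    have : (2 : ZMod p) - 1 = 1 := by ring
    rw [this] at h3
    exact h3
  haveI : Nontrivial (ZMod p) := ZMod.nontrivial p
  exact one_ne_zero h4

end LemmaJ

section LemmaJ2

variable {L : Type*} [Group L] [Finite L] {p : ℕ} [Fact p.Prime]

/-- A root of a conjugate of `z ^ p` fixed by a given `p`-subgroup centralizing that conjugate. -/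
theorem exists_root (T : Sylow p L) {W₀ : Subgroup L} (hW₀n : W₀.Normal) {z : L} (hzW : z ∈ W₀)
    (hzC : ∀ t ∈ (T : Subgroup L), t * z = z * t) {Q' : Subgroup L} (hQ'T : Q' ≤ T) (h : L)
    (hQ' : ∀ q ∈ Q', q * (h * z ^ p * h⁻¹) = (h * z ^ p * h⁻¹) * q) :
    ∃ y₂ ∈ W₀, y₂ ^ p = h * z ^ p * h⁻¹ ∧ ∀ q ∈ Q', q * y₂ = y₂ * q := by
  let E₀ : Subgroup L := Subgroup.centralizer {z ^ p}
  have hTE : (T : Subgroup L) ≤ E₀ := by
    intro u hu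
    rw [Subgroup.mem_centralizer_singleton_iff]
    exact (Commute.pow_right (hzC u hu) p).eq
  let Q₂ : Subgroup L := Q'.map (MulAut.conj h⁻¹).toMonoidHom
  have hQ₂p : IsPGroup p Q₂ := (T.isPGroup'.to_le hQ'T).map _
  have hQ₃ : IsPGroup p (Q₂.subgroupOf E₀) := hQ₂p.comap_of_injective _ Subtype.val_injective
  obtain ⟨e, he⟩ := Cfsg.Agent.Lib.SylowIn.exists_conj_mem_sylow (T.subtype hTE) hQ₃
  have hq₂ : ∀ q ∈ Q', h⁻¹ * q * h ∈ E₀ := by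
    intro q hq
    rw [Subgroup.mem_centralizer_singleton_iff]
    have h1 := hQ' q hq
    calc h⁻¹ * q * h * z ^ p = h⁻¹ * (q * (h * z ^ p * h⁻¹)) * h := by group
      _ = h⁻¹ * ((h * z ^ p * h⁻¹) * q) * h := by rw [h1]
      _ = z ^ p * (h⁻¹ * q * h) := by group
  have hq₃ : ∀ q ∈ Q', (e : L) * (h⁻¹ * q * h) * (e : L)⁻¹ ∈ (T : Subgroup L) := by
    intro q hq
    have h1 : (⟨h⁻¹ * q * h, hq₂ q hq⟩ : E₀) ∈ Q₂.subgroupOf E₀ := by
      rw [Subgroup.mem_subgroupOf]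
      refine ⟨q, hq, ?_⟩
      show h⁻¹ * q * h⁻¹⁻¹ = h⁻¹ * q * h
      rw [inv_inv]
    have h2 := he _ h1
    have h3 : (e * ⟨h⁻¹ * q * h, hq₂ q hq⟩ * e⁻¹ : E₀) ∈ ((T : Subgroup L).subgroupOf E₀) := by
      rw [← Sylow.coe_subtype]
      exact h2
    exact Subgroup.mem_subgroupOf.mp h3
  have hec : (e : L) * z ^ p = z ^ p * (e : L) := Subgroup.mem_centralizer_singleton_iff.mp e.2
  refine ⟨h * ((e : L)⁻¹ * z * (e : L)) * h⁻¹, ?_, ?_, ?_⟩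
  · have h2 := hW₀n.conj_mem z hzW (e : L)⁻¹
    rw [inv_inv] at h2
    exact hW₀n.conj_mem _ h2 h
  · have h3 : (e : L)⁻¹ * z * (e : L) = (e : L)⁻¹ * z * (e : L)⁻¹⁻¹ := by rw [inv_inv]
    rw [conj_pow, h3, conj_pow, inv_inv]
    have h4 : (e : L)⁻¹ * z ^ p * (e : L) = z ^ p := by
      rw [mul_assoc, ← hec, inv_mul_cancel_left]
    rw [h4]
  · intro q hq
    have hcomm := hzC _ (hq₃ q hq)
    have h6 : (e : L) * ((h⁻¹ * q * h) * ((e : L)⁻¹ * z * (e : L))) * (e : L)⁻¹ =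
        (e : L) * (((e : L)⁻¹ * z * (e : L)) * (h⁻¹ * q * h)) * (e : L)⁻¹ := by
      calc (e : L) * ((h⁻¹ * q * h) * ((e : L)⁻¹ * z * (e : L))) * (e : L)⁻¹
          = ((e : L) * (h⁻¹ * q * h) * (e : L)⁻¹) * z := by group
        _ = z * ((e : L) * (h⁻¹ * q * h) * (e : L)⁻¹) := hcomm
        _ = (e : L) * (((e : L)⁻¹ * z * (e : L)) * (h⁻¹ * q * h)) * (e : L)⁻¹ := by group
    have h5 := mul_left_cancel (mul_right_cancel h6)
    calc q * (h * ((e : L)⁻¹ * z * (e : L)) * h⁻¹)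
        = h * ((h⁻¹ * q * h) * ((e : L)⁻¹ * z * (e : L))) * h⁻¹ := by group
      _ = h * (((e : L)⁻¹ * z * (e : L)) * (h⁻¹ * q * h)) * h⁻¹ := by rw [h5]
      _ = (h * ((e : L)⁻¹ * z * (e : L)) * h⁻¹) * q := by group

/-- If the element `y₂` of the abelian normal subgroup satisfies `2`-eigenvalue type relation modulo the
fixed points, it is itself fixed. -/
theorem mem_of_two_eigen {W₀ C : Subgroup L} (hW₀n : W₀.Normal)
    (hW₀ab : ∀ a ∈ W₀, ∀ b ∈ W₀, a * b = b * a) (hCW : C ≤ W₀) {b y₂ c₀ : L} (hy₂ : y₂ ∈ W₀)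
    (hbC : ∀ c ∈ C, b * c = c * b) (hc₀ : c₀ ∈ C) (hr : b * y₂ * b⁻¹ = c₀ * y₂ ^ 2) {N M : ℕ}
    (hbN : b ^ p ^ N = 1) (hyM : y₂ ^ p ^ M = 1) : y₂ ∈ C := by
  have hind : ∀ n, ∃ c ∈ C, b ^ n * y₂ * (b ^ n)⁻¹ = c * y₂ ^ 2 ^ n := by
    intro n
    induction n with
    | zero => exact ⟨1, C.one_mem, by simp⟩
    | succ n ih =>
      obtain ⟨c, hc, e⟩ := ih
      refine ⟨c * c₀ ^ 2 ^ n, C.mul_mem hc (C.pow_mem hc₀ _), ?_⟩
      have h1 : b * c * b⁻¹ = c := by rw [hbC c hc, mul_inv_cancel_right]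
      have hcomm : Commute c₀ (y₂ ^ 2) := hW₀ab _ (hCW hc₀) _ (W₀.pow_mem hy₂ 2)
      calc b ^ (n + 1) * y₂ * (b ^ (n + 1))⁻¹ = b * (b ^ n * y₂ * (b ^ n)⁻¹) * b⁻¹ := by
            rw [pow_succ']
            group
        _ = (b * c * b⁻¹) * (b * y₂ * b⁻¹) ^ 2 ^ n := by
            rw [e, conj_pow]
            group
        _ = c * (c₀ * y₂ ^ 2) ^ 2 ^ n := by rw [h1, hr]
        _ = c * c₀ ^ 2 ^ n * y₂ ^ 2 ^ (n + 1) := by
            rw [hcomm.mul_pow, ← pow_mul, mul_assoc, pow_succ']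
  obtain ⟨c, hc, e⟩ := hind (p ^ N)
  rw [hbN, one_mul, inv_one, mul_one] at e
  -- `y₂ ^ K ∈ C`
  have hK : 1 ≤ 2 ^ p ^ N := Nat.one_le_two_pow
  have h1 : y₂ ^ (2 ^ p ^ N - 1) ∈ C := by
    have h2 : y₂ = c * (y₂ ^ (2 ^ p ^ N - 1) * y₂) := by
      rw [← pow_succ, Nat.sub_add_cancel hK]
      exact e
    have h3 : y₂ ^ (2 ^ p ^ N - 1) = c⁻¹ := by
      have h4 : y₂ = (c * y₂ ^ (2 ^ p ^ N - 1)) * y₂ := by
        rw [mul_assoc]
        exact h2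
      have h5 : c * y₂ ^ (2 ^ p ^ N - 1) = 1 := by
        have h8 : (c * y₂ ^ (2 ^ p ^ N - 1)) * y₂ = 1 * y₂ := by
          rw [one_mul]
          exact h4.symm
        exact mul_right_cancel h8
      exact eq_inv_of_mul_eq_one_right h5
    rw [h3]
    exact C.inv_mem hc
  have hcop : Nat.Coprime (2 ^ p ^ N - 1) (p ^ M) :=
    Nat.Coprime.pow_right M (two_pow_sub_one_coprime p N)
  have hbez := Nat.gcd_eq_gcd_ab (2 ^ p ^ N - 1) (p ^ M)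
  rw [hcop] at hbez
  have h6 : y₂ = (y₂ ^ (2 ^ p ^ N - 1)) ^ (Nat.gcdA (2 ^ p ^ N - 1) (p ^ M)) := by
    have h7 : y₂ ^ ((1 : ℕ) : ℤ) = y₂ ^ (((2 ^ p ^ N - 1 : ℕ) : ℤ) * Nat.gcdA (2 ^ p ^ N - 1) (p ^ M) +
        ((p ^ M : ℕ) : ℤ) * Nat.gcdB (2 ^ p ^ N - 1) (p ^ M)) := by rw [← hbez]
    have hz : y₂ ^ ((p ^ M : ℕ) : ℤ) = 1 := by
      rw [zpow_natCast]
      exact hyM
    rw [zpow_add, zpow_mul, zpow_mul, hz, one_zpow, mul_one, zpow_natCast, zpow_natCast, pow_one] at h7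
    exact h7
  rw [h6]
  exact C.zpow_mem h1 _

/-- **Lemma**: an abelian subgroup of largest order of a Sylow subgroup centralizes all conjugates of
`z ^ p`, for `z` central in the Sylow subgroup and in an abelian normal subgroup. -/
theorem fix_conj_power (T : Sylow p L) {W₀ : Subgroup L} (hW₀n : W₀.Normal)
    (hW₀ab : ∀ a ∈ W₀, ∀ b ∈ W₀, a * b = b * a) (hW₀T : W₀ ≤ T) {z : L} (hzW : z ∈ W₀)
    (hzC : ∀ t ∈ (T : Subgroup L), t * z = z * t) {A : Subgroup L} (hAT : A ≤ T)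
    (hAab : ∀ a ∈ A, ∀ b ∈ A, a * b = b * a)
    (hAmax : ∀ B : Subgroup L, B ≤ T → (∀ a ∈ B, ∀ b ∈ B, a * b = b * a) → Nat.card B ≤ Nat.card A)
    {a₀ : L} (ha₀ : a₀ ∈ A) (h : L) : a₀ * (h * z ^ p * h⁻¹) * a₀⁻¹ = h * z ^ p * h⁻¹ := by
  classical
  set y' := h * z ^ p * h⁻¹ with hy'
  by_contra hne
  let Q' : Subgroup L := A ⊓ Subgroup.centralizer {y'}
  have hQ'mem : ∀ q, q ∈ Q' ↔ q ∈ A ∧ q * y' = y' * q := by
    intro q
    show q ∈ A ⊓ Subgroup.centralizer {y'} ↔ _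
    rw [Subgroup.mem_inf, Subgroup.mem_centralizer_singleton_iff]
  have hQ'T : Q' ≤ T := inf_le_left.trans hAT
  obtain ⟨y₂, hy₂W, hy₂p, hy₂Q⟩ := exists_root T hW₀n hzW hzC hQ'T h
    (fun q hq => ((hQ'mem q).mp hq).2)
  have hfixQ : ∀ a ∈ A, a * y₂ = y₂ * a → a ∈ Q' := by
    intro a ha hc
    refine (hQ'mem a).mpr ⟨ha, ?_⟩
    have e : y' = y₂ ^ p := hy₂p.symm
    rw [e]
    exact (Commute.pow_right hc p).eq
  -- the module generated by `y₂`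
  let W₂ : Subgroup L := Subgroup.closure {w | ∃ b ∈ A, w = b * y₂ * b⁻¹}
  have hW₂W : W₂ ≤ W₀ := by
    rw [Subgroup.closure_le]
    rintro _ ⟨b, -, rfl⟩
    exact hW₀n.conj_mem _ hy₂W b
  have hy₂W₂ : y₂ ∈ W₂ := Subgroup.subset_closure ⟨1, A.one_mem, by simp⟩
  have hW₂inv : ∀ b ∈ A, ∀ w ∈ W₂, b * w * b⁻¹ ∈ W₂ := by
    intro b hb w hw
    refine Subgroup.closure_induction (p := fun w _ => b * w * b⁻¹ ∈ W₂) ?_ ?_ ?_ ?_ hw
    · rintro _ ⟨c, hc, rfl⟩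
      refine Subgroup.subset_closure ⟨b * c, A.mul_mem hb hc, ?_⟩
      group
    · simp [W₂.one_mem]
    · intro u v _ _ hu hv
      have : b * (u * v) * b⁻¹ = (b * u * b⁻¹) * (b * v * b⁻¹) := by group
      rw [this]
      exact W₂.mul_mem hu hv
    · intro u _ hu
      have : b * u⁻¹ * b⁻¹ = (b * u * b⁻¹)⁻¹ := by group
      rw [this]
      exact W₂.inv_mem hu
  have hQW : ∀ q ∈ Q', ∀ w ∈ W₂, q * w = w * q := by
    intro q hq w hw
    refine Subgroup.closure_induction (p := fun w _ => q * w = w * q) ?_ ?_ ?_ ?_ hw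
    · rintro _ ⟨b, hb, rfl⟩
      have hq1 := ((hQ'mem q).mp hq).1
      have h1 := hAab q hq1 b hb
      have h2 := hy₂Q q hq
      calc q * (b * y₂ * b⁻¹) = (q * b) * y₂ * b⁻¹ := by group
        _ = (b * q) * y₂ * b⁻¹ := by rw [h1]
        _ = b * (q * y₂) * b⁻¹ := by group
        _ = b * (y₂ * q) * b⁻¹ := by rw [h2]
        _ = b * y₂ * (q * b⁻¹) := by group
        _ = b * y₂ * (b⁻¹ * q) := by
            have : q * b⁻¹ = b⁻¹ * q := (show Commute q b from h1).inv_right.eq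
            rw [this]
        _ = b * y₂ * b⁻¹ * q := by group
    · simp
    · intro u v _ _ hu hv
      rw [← mul_assoc, hu, mul_assoc, hv, mul_assoc]
    · intro u _ hu
      exact (show Commute q u from hu).inv_right.eq
  let C : Subgroup L := W₂ ⊓ Subgroup.centralizer (A : Set L)
  have hCmem : ∀ c ∈ C, ∀ b ∈ A, b * c = c * b := fun c hc b hb =>
    Subgroup.mem_centralizer_iff.mp hc.2 b hb
  have hCW₂ : C ≤ W₂ := inf_le_left
  -- counting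
  have hcount : Nat.card W₂ * Nat.card Q' ≤ Nat.card A * Nat.card C := by
    have hcomm : ∀ u ∈ W₂, ∀ d ∈ Q', u * d = d * u := fun u hu d hd => (hQW d hd u hu).symm
    have h1 := Cfsg.Agent.Lib.CDLattice.card_sup_central hcomm
    have hab : ∀ a ∈ W₂ ⊔ Q', ∀ b ∈ W₂ ⊔ Q', a * b = b * a := by
      have hsup : W₂ ⊔ Q' = Subgroup.closure ((W₂ : Set L) ∪ (Q' : Set L)) := by
        rw [Subgroup.closure_union, Subgroup.closure_eq, Subgroup.closure_eq]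
      rw [hsup]
      apply Cfsg.Agent.Lib.Replacement.comm_closure'
      rintro x (hx | hx) y (hy | hy)
      · exact hW₀ab x (hW₂W hx) y (hW₂W hy)
      · exact hcomm x hx y hy
      · exact (hcomm y hy x hx).symm
      · exact hAab x ((hQ'mem x).mp hx).1 y ((hQ'mem y).mp hy).1
    have h2 := hAmax _ (sup_le (hW₂W.trans hW₀T) hQ'T) hab
    have h3 : Nat.card ↥(W₂ ⊓ Q') ≤ Nat.card C := by
      apply Subgroup.card_le_of_le
      rintro u ⟨hu1, hu2⟩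
      refine ⟨hu1, ?_⟩
      show u ∈ Subgroup.centralizer (A : Set L)
      rw [Subgroup.mem_centralizer_iff]
      intro b hb
      exact hAab b hb u ((hQ'mem u).mp hu2).1
    rw [← h1]
    exact Nat.mul_le_mul h2 h3
  -- quotients
  have hX : Nat.card (↥W₂ ⧸ C.subgroupOf W₂) * Nat.card C = Nat.card W₂ := by
    have h1 := (C.subgroupOf W₂).card_eq_card_quotient_mul_card_subgroup
    have h2 : Nat.card (C.subgroupOf W₂) = Nat.card C :=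
      Nat.card_congr (Subgroup.subgroupOfEquivOfLe hCW₂).toEquiv
    rw [h2] at h1
    exact h1.symm
  have hQA : Q' ≤ A := inf_le_left
  have hA : Nat.card (↥A ⧸ Q'.subgroupOf A) * Nat.card Q' = Nat.card A := by
    have h1 := (Q'.subgroupOf A).card_eq_card_quotient_mul_card_subgroup
    have h2 : Nat.card (Q'.subgroupOf A) = Nat.card Q' :=
      Nat.card_congr (Subgroup.subgroupOfEquivOfLe hQA).toEquiv
    rw [h2] at h1
    exact h1.symm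
  have hcardX : Nat.card (↥W₂ ⧸ C.subgroupOf W₂) ≤ Nat.card (↥A ⧸ Q'.subgroupOf A) := by
    have hpos : 0 < Nat.card C * Nat.card Q' := Nat.mul_pos Nat.card_pos Nat.card_pos
    apply Nat.le_of_mul_le_mul_right _ hpos
    calc Nat.card (↥W₂ ⧸ C.subgroupOf W₂) * (Nat.card C * Nat.card Q')
        = (Nat.card (↥W₂ ⧸ C.subgroupOf W₂) * Nat.card C) * Nat.card Q' := by ring
      _ = Nat.card W₂ * Nat.card Q' := by rw [hX]
      _ ≤ Nat.card A * Nat.card C := hcount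
      _ = (Nat.card (↥A ⧸ Q'.subgroupOf A) * Nat.card Q') * Nat.card C := by rw [hA]
      _ = Nat.card (↥A ⧸ Q'.subgroupOf A) * (Nat.card C * Nat.card Q') := by ring
  -- the map on cosets
  have hval : ∀ b : ↥A, (b : L) * y₂ * (b : L)⁻¹ * y₂⁻¹ ∈ W₂ := fun b =>
    W₂.mul_mem (hW₂inv b b.2 y₂ hy₂W₂) (W₂.inv_mem hy₂W₂)
  let F₀ : ↥A → ↥W₂ ⧸ C.subgroupOf W₂ := fun b => QuotientGroup.mk ⟨_, hval b⟩
  have hF₀ : ∀ a b : ↥A, a⁻¹ * b ∈ Q'.subgroupOf A → F₀ a = F₀ b := by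
    intro a b hab
    have hab' : (a : L)⁻¹ * (b : L) ∈ Q' := Subgroup.mem_subgroupOf.mp hab
    have hb : (b : L) = (a : L) * ((a : L)⁻¹ * (b : L)) := by group
    have h1 : (b : L) * y₂ * (b : L)⁻¹ = (a : L) * y₂ * (a : L)⁻¹ := by
      have h2 := hy₂Q _ hab'
      rw [hb]
      calc (a : L) * ((a : L)⁻¹ * (b : L)) * y₂ * ((a : L) * ((a : L)⁻¹ * (b : L)))⁻¹
          = (a : L) * ((((a : L)⁻¹ * (b : L)) * y₂) * ((a : L)⁻¹ * (b : L))⁻¹) * (a : L)⁻¹ := by group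
        _ = (a : L) * (y₂ * ((a : L)⁻¹ * (b : L)) * ((a : L)⁻¹ * (b : L))⁻¹) * (a : L)⁻¹ := by rw [h2]
        _ = (a : L) * y₂ * (a : L)⁻¹ := by group
    show QuotientGroup.mk _ = QuotientGroup.mk _
    congr 1
    apply Subtype.ext
    show (a : L) * y₂ * (a : L)⁻¹ * y₂⁻¹ = (b : L) * y₂ * (b : L)⁻¹ * y₂⁻¹
    rw [h1]
  let fbar : ↥A ⧸ Q'.subgroupOf A → ↥W₂ ⧸ C.subgroupOf W₂ :=
    Quotient.lift F₀ (fun a b hab => hF₀ a b (QuotientGroup.leftRel_apply.mp hab))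
  have hfbar : ∀ a : ↥A, fbar (QuotientGroup.mk a) = F₀ a := fun _ => rfl
  have hW₂ab : ∀ a ∈ W₂, ∀ b ∈ W₂, a * b = b * a := fun a ha b hb => hW₀ab a (hW₂W ha) b (hW₂W hb)
  have hinj : Function.Injective fbar := by
    intro x₁ x₂ hx
    obtain ⟨a₁, rfl⟩ := QuotientGroup.mk_surjective x₁
    obtain ⟨a₂, rfl⟩ := QuotientGroup.mk_surjective x₂
    rw [hfbar, hfbar] at hx
    have hmem := QuotientGroup.eq.mp hx
    have hmem' := Subgroup.mem_subgroupOf.mp hmem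
    apply QuotientGroup.eq.mpr
    apply Subgroup.mem_subgroupOf.mpr
    -- notation
    set d : L := (a₁ : L)⁻¹ * (a₂ : L) with hd
    have hdA : d ∈ A := A.mul_mem (A.inv_mem a₁.2) a₂.2
    set y₃ : L := (a₁ : L) * y₂ * (a₁ : L)⁻¹ with hy₃
    have hy₃W : y₃ ∈ W₂ := hW₂inv _ a₁.2 _ hy₂W₂
    have ha₂ : (a₂ : L) = d * (a₁ : L) := by
      have h1 : d * (a₁ : L) = (a₁ : L) * d := hAab _ hdA _ a₁.2
      rw [h1, hd]
      group
    have hv₃ : d * y₃ * d⁻¹ * y₃⁻¹ ∈ C := by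
      have h1 : (((⟨_, hval a₁⟩ : ↥W₂)⁻¹ * ⟨_, hval a₂⟩ : ↥W₂) : L) =
          ((a₁ : L) * y₂ * (a₁ : L) ⁻¹ * y₂⁻¹)⁻¹ * ((a₂ : L) * y₂ * (a₂ : L)⁻¹ * y₂⁻¹) := rfl
      have h2 : ((a₁ : L) * y₂ * (a₁ : L) ⁻¹ * y₂⁻¹)⁻¹ * ((a₂ : L) * y₂ * (a₂ : L)⁻¹ * y₂⁻¹) =
          d * y₃ * d⁻¹ * y₃⁻¹ := by
        have h3 : (a₂ : L) * y₂ * (a₂ : L)⁻¹ = d * y₃ * d⁻¹ := by
          rw [ha₂, hy₃]
          group
        rw [h3]
        have hdW : d * y₃ * d⁻¹ ∈ W₂ := hW₂inv _ hdA _ hy₃W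
        have hc1 : y₃⁻¹ * (d * y₃ * d⁻¹) = (d * y₃ * d⁻¹) * y₃⁻¹ :=
          hW₂ab _ (W₂.inv_mem hy₃W) _ hdW
        calc ((a₁ : L) * y₂ * (a₁ : L)⁻¹ * y₂⁻¹)⁻¹ * (d * y₃ * d⁻¹ * y₂⁻¹)
            = y₂ * y₃⁻¹ * (d * y₃ * d⁻¹) * y₂⁻¹ := by
              rw [hy₃]
              group
          _ = y₂ * ((d * y₃ * d⁻¹) * y₃⁻¹) * y₂⁻¹ := by rw [mul_assoc y₂, hc1]
          _ = d * y₃ * d⁻¹ * y₃⁻¹ := by
              have hm : (d * y₃ * d⁻¹) * y₃⁻¹ ∈ W₂ := W₂.mul_mem hdW (W₂.inv_mem hy₃W)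
              rw [hW₂ab _ hy₂W₂ _ hm, mul_inv_cancel_right]
      rw [← h2, ← h1]
      exact hmem'
    have hdfix : d * (d * y₃ * d⁻¹ * y₃⁻¹) * d⁻¹ = d * y₃ * d⁻¹ * y₃⁻¹ := by
      rw [hCmem _ hv₃ d hdA, mul_inv_cancel_right]
    -- quadratic action of `d` on `W₂`
    have hq : ∀ w ∈ W₂, d * (d * w * d⁻¹ * w⁻¹) * d⁻¹ = d * w * d⁻¹ * w⁻¹ := by
      intro w hw
      refine Subgroup.closure_induction (p := fun w _ => d * (d * w * d⁻¹ * w⁻¹) * d⁻¹ = d * w * d⁻¹ * w⁻¹)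
        ?_ ?_ ?_ ?_ hw
      · rintro _ ⟨b, hb, rfl⟩
        set e : L := b * (a₁ : L)⁻¹ with he
        have heA : e ∈ A := A.mul_mem hb (A.inv_mem a₁.2)
        have h1 : b * y₂ * b⁻¹ = e * y₃ * e⁻¹ := by
          rw [he, hy₃]
          group
        have hde : d * e = e * d := hAab _ hdA _ heA
        have hde' : d⁻¹ * e = e * d⁻¹ := by
          have := (show Commute d e from hde).inv_left.eq
          exact this
        have h2 : d * (e * y₃ * e⁻¹) * d⁻¹ * (e * y₃ * e⁻¹)⁻¹ = d * y₃ * d⁻¹ * y₃⁻¹ := by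
          have h3 : d * (e * y₃ * e⁻¹) * d⁻¹ * (e * y₃ * e⁻¹)⁻¹ = e * (d * y₃ * d⁻¹ * y₃⁻¹) * e⁻¹ := by
            calc d * (e * y₃ * e⁻¹) * d⁻¹ * (e * y₃ * e⁻¹)⁻¹
                = (d * e) * y₃ * (d * e)⁻¹ * e * y₃⁻¹ * e⁻¹ := by group
              _ = (e * d) * y₃ * (e * d)⁻¹ * e * y₃⁻¹ * e⁻¹ := by rw [hde]
              _ = e * (d * y₃ * d⁻¹ * y₃⁻¹) * e⁻¹ := by group
          rw [h3, hCmem _ hv₃ e heA, mul_inv_cancel_right]
        rw [h1, h2, hdfix]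
      · simp
      · intro u v hu hv iu iv
        have huW : u ∈ W₂ := hu
        have hvW : v ∈ W₂ := hv
        have hduW := hW₂inv d hdA u huW
        have hdvW := hW₂inv d hdA v hvW
        have hc1 : (d * v * d⁻¹) * (u⁻¹) = u⁻¹ * (d * v * d⁻¹) := hW₂ab _ hdvW _ (W₂.inv_mem huW)
        have h1 : d * (u * v) * d⁻¹ * (u * v)⁻¹ = (d * u * d⁻¹ * u⁻¹) * (d * v * d⁻¹ * v⁻¹) := by
          have huv : (u * v)⁻¹ = u⁻¹ * v⁻¹ := by
            rw [mul_inv_rev]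
            exact hW₂ab _ (W₂.inv_mem hvW) _ (W₂.inv_mem huW)
          calc d * (u * v) * d⁻¹ * (u * v)⁻¹ = (d * u * d⁻¹) * ((d * v * d⁻¹) * u⁻¹) * v⁻¹ := by
                rw [huv]
                group
            _ = (d * u * d⁻¹) * (u⁻¹ * (d * v * d⁻¹)) * v⁻¹ := by rw [hc1]
            _ = (d * u * d⁻¹ * u⁻¹) * (d * v * d⁻¹ * v⁻¹) := by group
        rw [h1]
        have h2 : d * ((d * u * d⁻¹ * u⁻¹) * (d * v * d⁻¹ * v⁻¹)) * d⁻¹ =
            (d * (d * u * d⁻¹ * u⁻¹) * d⁻¹) * (d * (d * v * d⁻¹ * v⁻¹) * d⁻¹) := by group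
        rw [h2, iu, iv]
      · intro u hu iu
        have huW : u ∈ W₂ := hu
        have hduW := hW₂inv d hdA u huW
        have h1 : d * u⁻¹ * d⁻¹ * u⁻¹⁻¹ = (d * u * d⁻¹ * u⁻¹)⁻¹ := by
          have hc1 : (d * u * d⁻¹)⁻¹ * u = u * (d * u * d⁻¹)⁻¹ := hW₂ab _ (W₂.inv_mem hduW) _ huW
          calc d * u⁻¹ * d⁻¹ * u⁻¹⁻¹ = (d * u * d⁻¹)⁻¹ * u := by
                rw [inv_inv]
                group
            _ = u * (d * u * d⁻¹)⁻¹ := hc1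
            _ = (d * u * d⁻¹ * u⁻¹)⁻¹ := by group
        rw [h1]
        have h2 : d * (d * u * d⁻¹ * u⁻¹)⁻¹ * d⁻¹ = (d * (d * u * d⁻¹ * u⁻¹) * d⁻¹)⁻¹ := by group
        rw [h2, iu]
    -- the descent
    obtain ⟨N, hN⟩ : ∃ N, d ^ p ^ N = 1 := by
      obtain ⟨N, hN⟩ := T.isPGroup' ⟨d, hAT hdA⟩
      exact ⟨N, congrArg Subtype.val hN⟩
    set v : L := d * y₂ * d⁻¹ * y₂⁻¹ with hv
    have hdy : d * y₂ * d⁻¹ ∈ W₂ := hW₂inv _ hdA _ hy₂W₂
    have hvW : v ∈ W₂ := W₂.mul_mem hdy (W₂.inv_mem hy₂W₂)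
    have hstep : ∀ n, d ^ p ^ (n + 1) * y₂ = y₂ * d ^ p ^ (n + 1) → d ^ p ^ n * y₂ = y₂ * d ^ p ^ n := by
      intro n hn
      have h1 := quad_pow hq hy₂W₂ (p ^ (n + 1))
      have h2 : d ^ p ^ (n + 1) * y₂ * (d ^ p ^ (n + 1))⁻¹ = y₂ := by
        rw [hn, mul_inv_cancel_right]
      rw [h2] at h1
      have h3 : v ^ p ^ (n + 1) = 1 := (mul_eq_right.mp h1.symm)
      have hy₂pW : y₂ ^ p ∈ W₂ := W₂.pow_mem hy₂W₂ p
      have h4 := quad_pow hq hy₂pW (p ^ n)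
      have h5 : d * y₂ ^ p * d⁻¹ * (y₂ ^ p)⁻¹ = v ^ p :=
        quad_d_pow' (hW₂ab _ hvW _ hy₂W₂) p
      rw [h5, ← pow_mul, ← pow_succ', h3, one_mul] at h4
      have h6 : d ^ p ^ n ∈ A := A.pow_mem hdA _
      have h7 : d ^ p ^ n ∈ Q' := by
        refine (hQ'mem _).mpr ⟨h6, ?_⟩
        have e : y' = y₂ ^ p := hy₂p.symm
        rw [e]
        exact mul_inv_eq_iff_eq_mul.mp h4
      exact hy₂Q _ h7
    have hall : ∀ k n, n + k = N → d ^ p ^ n * y₂ = y₂ * d ^ p ^ n := by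
      intro k
      induction k with
      | zero =>
        intro n hn
        have : n = N := by omega
        subst this
        rw [hN, one_mul, mul_one]
      | succ k ih =>
        intro n hn
        exact hstep n (ih (n + 1) (by omega))
    have h0 := hall N 0 (by omega)
    rw [pow_zero, pow_one] at h0
    exact hfixQ d hdA h0
  -- bijectivity
  have hbij := hinj.bijective_of_nat_card_le hcardX
  obtain ⟨x, hx⟩ := hbij.2 (QuotientGroup.mk ⟨y₂, hy₂W₂⟩)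
  obtain ⟨b, rfl⟩ := QuotientGroup.mk_surjective x
  rw [hfbar] at hx
  have hmem := QuotientGroup.eq.mp hx
  have hmem' := Subgroup.mem_subgroupOf.mp hmem
  -- `y₂` is fixed
  have hyC : y₂ ∈ C := by
    have hbW := hW₂inv _ b.2 _ hy₂W₂
    set c₁ : L := (((⟨_, hval b⟩ : ↥W₂)⁻¹ * ⟨y₂, hy₂W₂⟩ : ↥W₂) : L) with hc₁
    have hc₁C : c₁ ∈ C := hmem'
    have hc₁e : c₁ = ((b : L) * y₂ * (b : L)⁻¹ * y₂⁻¹)⁻¹ * y₂ := rfl
    have hr : (b : L) * y₂ * (b : L)⁻¹ = c₁⁻¹ * y₂ ^ 2 := by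
      have hcc : y₂⁻¹ * ((b : L) * y₂ * (b : L)⁻¹) = ((b : L) * y₂ * (b : L)⁻¹) * y₂⁻¹ :=
        hW₂ab _ (W₂.inv_mem hy₂W₂) _ hbW
      rw [hc₁e, pow_two]
      have key : ∀ w : L, y₂⁻¹ * w = w * y₂⁻¹ → w = ((w * y₂⁻¹)⁻¹ * y₂)⁻¹ * (y₂ * y₂) := by
        intro w hw
        have h9 : ((w * y₂⁻¹)⁻¹ * y₂)⁻¹ * (y₂ * y₂) = y₂⁻¹ * w * y₂ := by group
        rw [h9, hw]
        group
      exact key _ hcc
    obtain ⟨N, hN⟩ : ∃ N, (b : L) ^ p ^ N = 1 := by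
      obtain ⟨N, hN⟩ := T.isPGroup' ⟨b, hAT b.2⟩
      exact ⟨N, congrArg Subtype.val hN⟩
    obtain ⟨M, hM⟩ : ∃ M, y₂ ^ p ^ M = 1 := by
      obtain ⟨M, hM⟩ := T.isPGroup' ⟨y₂, hW₀T hy₂W⟩
      exact ⟨M, congrArg Subtype.val hM⟩
    exact mem_of_two_eigen (p := p) hW₀n hW₀ab (hCW₂.trans hW₂W) hy₂W
      (fun c hc => hCmem c hc b b.2) (C.inv_mem hc₁C) hr hN hM
  apply hne
  have h1 := hCmem y₂ hyC a₀ ha₀
  have e : y' = y₂ ^ p := hy₂p.symm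
  rw [e, mul_inv_eq_iff_eq_mul]
  exact (Commute.pow_right h1 p).eq

end LemmaJ2

section Mabs

variable {L : Type*} [Group L]

/-- Abelian subgroups of largest order inside `R`, as subgroups of the ambient group. -/
def mabs (R : Subgroup L) : Set (Subgroup L) :=
  {A | A ≤ R ∧ (∀ a ∈ A, ∀ b ∈ A, a * b = b * a) ∧
    ∀ B : Subgroup L, B ≤ R → (∀ a ∈ B, ∀ b ∈ B, a * b = b * a) → Nat.card B ≤ Nat.card A}

theorem thompsonAOf_eq_sSup (R : Subgroup L) : thompsonSubgroupAOf R = sSup (mabs R) := by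
  apply le_antisymm
  · unfold thompsonSubgroupAOf thompsonSubgroupA
    rw [Subgroup.map_le_iff_le_comap]
    apply sSup_le
    rintro A ⟨hAc, hAm⟩ a ha
    rw [Subgroup.mem_comap]
    apply (le_sSup (a := A.map R.subtype) _ : A.map R.subtype ≤ sSup (mabs R))
    · exact ⟨a, ha, rfl⟩
    · refine ⟨?_, ?_, ?_⟩
      · rintro _ ⟨x, -, rfl⟩
        exact x.2
      · rintro _ ⟨x, hx, rfl⟩ _ ⟨y, hy, rfl⟩
        have h1 := hAc.is_comm.comm ⟨x, hx⟩ ⟨y, hy⟩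
        exact congrArg (fun w : A => ((w : R) : L)) h1
      · intro B hB hBc
        have h1 := hAm (B.subgroupOf R) ⟨⟨fun x y => Subtype.ext (Subtype.ext (hBc _ x.2 _ y.2))⟩⟩
        have h2 : Nat.card (B.subgroupOf R) = Nat.card B :=
          Nat.card_congr (Subgroup.subgroupOfEquivOfLe hB).toEquiv
        have h3 : Nat.card (A.map R.subtype) = Nat.card A :=
          Subgroup.card_map_of_injective Subtype.val_injective
        rw [h3, ← h2]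
        exact h1
  · apply sSup_le
    rintro A ⟨hAR, hAc, hAm⟩ a ha
    unfold thompsonSubgroupAOf thompsonSubgroupA
    refine ⟨⟨a, hAR ha⟩, ?_, rfl⟩
    apply (le_sSup (a := A.subgroupOf R) _ : A.subgroupOf R ≤ _)
    · exact Subgroup.mem_subgroupOf.mpr ha
    · refine ⟨⟨⟨fun x y => Subtype.ext (Subtype.ext (hAc _ x.2 _ y.2))⟩⟩, fun B hB => ?_⟩
      have h1 := hAm (B.map R.subtype) (by
        rintro _ ⟨x, -, rfl⟩
        exact x.2) (by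
        rintro _ ⟨x, hx, rfl⟩ _ ⟨y, hy, rfl⟩
        have h1 := hB.is_comm.comm ⟨x, hx⟩ ⟨y, hy⟩
        exact congrArg (fun w : B => ((w : R) : L)) h1)
      have h2 : Nat.card (A.subgroupOf R) = Nat.card A :=
        Nat.card_congr (Subgroup.subgroupOfEquivOfLe hAR).toEquiv
      have h3 : Nat.card (B.map R.subtype) = Nat.card B :=
        Subgroup.card_map_of_injective Subtype.val_injective
      rw [h2, ← h3]
      exact h1

/-- The set of maximal abelian subgroups is nonempty. -/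
theorem mabs_nonempty (R : Subgroup L) [Finite R] : (mabs R).Nonempty := by
  obtain ⟨A, ⟨hAR, hAc⟩, hAm⟩ := Cfsg.Agent.Lib.FusionCenCtl.exists_max_of_bdd
    {A : Subgroup L | A ≤ R ∧ ∀ a ∈ A, ∀ b ∈ A, a * b = b * a} (fun A => Nat.card A) (Nat.card R)
    (fun A hA => Subgroup.card_le_of_le hA.1)
    ⟨⊥, bot_le, fun a ha b hb => by
      rw [Subgroup.mem_bot] at ha hb
      rw [ha, hb]⟩
  exact ⟨A, hAR, hAc, fun B hB hBc => hAm B ⟨hB, hBc⟩⟩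

/-- `mabs` for a subgroup in between. -/
theorem mabs_eq_of_le {T T₀ : Subgroup L} [Finite T] (h₁ : sSup (mabs T) ≤ T₀) (h₂ : T₀ ≤ T) :
    mabs T₀ = mabs T := by
  ext A
  constructor
  · rintro ⟨hA, hAc, hAm⟩
    obtain ⟨A₁, hA₁⟩ := mabs_nonempty T
    refine ⟨hA.trans h₂, hAc, fun B hB hBc => ?_⟩
    exact (hA₁.2.2 B hB hBc).trans (hAm A₁ ((le_sSup hA₁).trans h₁) hA₁.2.1)
  · rintro ⟨hA, hAc, hAm⟩
    have hAm' : A ∈ mabs T := ⟨hA, hAc, hAm⟩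
    exact ⟨(le_sSup hAm').trans h₁, hAc, fun B hB hBc => hAm B (hB.trans h₂) hBc⟩

theorem sSup_mabs_eq_of_le {T T₀ : Subgroup L} [Finite T] (h₁ : sSup (mabs T) ≤ T₀) (h₂ : T₀ ≤ T) :
    sSup (mabs T₀) = sSup (mabs T) := by
  rw [mabs_eq_of_le h₁ h₂]

theorem mabs_map_conj {R : Subgroup L} {g : L} (hg : g ∈ Subgroup.normalizer (R : Set L))
    {A : Subgroup L} (hA : A ∈ mabs R) : A.map (MulAut.conj g).toMonoidHom ∈ mabs R := by
  obtain ⟨hAR, hAc, hAm⟩ := hA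
  have hg' := Subgroup.mem_normalizer_iff.mp hg
  refine ⟨?_, ?_, fun B hB hBc => ?_⟩
  · rintro _ ⟨a, ha, rfl⟩
    exact (hg' a).mp (hAR ha)
  · rintro _ ⟨x, hx, rfl⟩ _ ⟨y, hy, rfl⟩
    show g * x * g⁻¹ * (g * y * g⁻¹) = g * y * g⁻¹ * (g * x * g⁻¹)
    have := hAc x hx y hy
    calc g * x * g⁻¹ * (g * y * g⁻¹) = g * (x * y) * g⁻¹ := by group
      _ = g * (y * x) * g⁻¹ := by rw [this]
      _ = g * y * g⁻¹ * (g * x * g⁻¹) := by group
  · have h1 := hAm (B.map (MulAut.conj g⁻¹).toMonoidHom) (by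
      rintro _ ⟨b, hb, rfl⟩
      show g⁻¹ * b * g⁻¹⁻¹ ∈ R
      rw [hg', inv_inv]
      have e : g * (g⁻¹ * b * g) * g⁻¹ = b := by group
      rw [e]
      exact hB hb) (by
      rintro _ ⟨x, hx, rfl⟩ _ ⟨y, hy, rfl⟩
      show g⁻¹ * x * g⁻¹⁻¹ * (g⁻¹ * y * g⁻¹⁻¹) = g⁻¹ * y * g⁻¹⁻¹ * (g⁻¹ * x * g⁻¹⁻¹)
      have := hBc x hx y hy
      calc g⁻¹ * x * g⁻¹⁻¹ * (g⁻¹ * y * g⁻¹⁻¹) = g⁻¹ * (x * y) * g⁻¹⁻¹ := by group
        _ = g⁻¹ * (y * x) * g⁻¹⁻¹ := by rw [this]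
        _ = g⁻¹ * y * g⁻¹⁻¹ * (g⁻¹ * x * g⁻¹⁻¹) := by group)
    have h2 : Nat.card (B.map (MulAut.conj g⁻¹).toMonoidHom) = Nat.card B :=
      Subgroup.card_map_of_injective (MulAut.conj g⁻¹).injective
    have h3 : Nat.card (A.map (MulAut.conj g).toMonoidHom) = Nat.card A :=
      Subgroup.card_map_of_injective (MulAut.conj g).injective
    rw [h3, ← h2]
    exact h1

/-- A normalizer of `R` normalizes the Thompson subgroup. -/
theorem normalizer_le_normalizer_sSup_mabs (R : Subgroup L) :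
    Subgroup.normalizer (R : Set L) ≤ Subgroup.normalizer ((sSup (mabs R) : Subgroup L) : Set L) := by
  have key : ∀ g ∈ Subgroup.normalizer (R : Set L), ∀ y ∈ sSup (mabs R), g * y * g⁻¹ ∈ sSup (mabs R) := by
    intro g hg y hy
    have h1 : sSup (mabs R) ≤ (sSup (mabs R)).comap (MulAut.conj g).toMonoidHom := by
      apply sSup_le
      intro A hA a ha
      rw [Subgroup.mem_comap]
      exact (le_sSup (mabs_map_conj hg hA)) ⟨a, ha, rfl⟩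
    exact h1 hy
  intro g hg
  rw [Subgroup.mem_normalizer_iff]
  intro y
  refine ⟨key g hg y, fun hy => ?_⟩
  have := key g⁻¹ (Subgroup.inv_mem _ hg) _ hy
  have e : g⁻¹ * (g * y * g⁻¹) * g⁻¹⁻¹ = y := by group
  rwa [e] at this

/-- Central elements lie in all members of `mabs`. -/
theorem central_mem_mabs {R : Subgroup L} [Finite R] {A : Subgroup L} (hA : A ∈ mabs R) {z : L}
    (hzR : z ∈ R) (hzC : ∀ r ∈ R, r * z = z * r) : z ∈ A := by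
  obtain ⟨hAR, hAc, hAm⟩ := hA
  have hB : A ⊔ Subgroup.zpowers z ≤ R := sup_le hAR ((Subgroup.zpowers_le).mpr hzR)
  have hBc : ∀ a ∈ A ⊔ Subgroup.zpowers z, ∀ b ∈ A ⊔ Subgroup.zpowers z, a * b = b * a := by
    have hsup : A ⊔ Subgroup.zpowers z = Subgroup.closure ((A : Set L) ∪ {z}) := by
      rw [Subgroup.closure_union, Subgroup.closure_eq, Subgroup.zpowers_eq_closure]
    rw [hsup]
    apply Cfsg.Agent.Lib.Replacement.comm_closure'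
    rintro x (hx | hx) y (hy | hy)
    · exact hAc x hx y hy
    · rw [Set.mem_singleton_iff] at hy
      subst hy
      exact hzC x (hAR hx)
    · rw [Set.mem_singleton_iff] at hx
      subst hx
      exact (hzC y (hAR hy)).symm
    · rw [Set.mem_singleton_iff] at hx hy
      rw [hx, hy]
  have h1 := hAm _ hB hBc
  haveI : Finite ↥(A ⊔ Subgroup.zpowers z) := Finite.of_injective (Subgroup.inclusion hB) (Subgroup.inclusion_injective hB)
  have h2 : A = A ⊔ Subgroup.zpowers z := Subgroup.eq_of_le_of_card_ge le_sup_left h1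
  rw [h2]
  exact Subgroup.mem_sup_right (Subgroup.mem_zpowers z)

theorem central_mem_sSup_mabs {R : Subgroup L} [Finite R] {z : L}
    (hzR : z ∈ R) (hzC : ∀ r ∈ R, r * z = z * r) : z ∈ sSup (mabs R) := by
  obtain ⟨A, hA⟩ := mabs_nonempty R
  exact (le_sSup hA : A ≤ sSup (mabs R)) (central_mem_mabs hA hzR hzC)

theorem sSup_mabs_le (R : Subgroup L) : sSup (mabs R) ≤ R := sSup_le fun _ hA => hA.1

end Mabs

section Factor

variable {L : Type*} [Group L] [Finite L] {p : ℕ} [Fact p.Prime]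

/-- The factorization of an element of a group with `C(O_p) ≤ O_p`. -/
theorem exists_factor (T : Sylow p L)
    (hC : Subgroup.centralizer ((pCore p L : Subgroup L) : Set L) ≤ pCore p L) {g : L} {P₀ : Subgroup L}
    (hP₀ : P₀ ≤ T) (hg : ∀ x ∈ P₀, g * x * g⁻¹ ∈ (T : Subgroup L)) :
    ∃ k ν : L, g = k * ν ∧ (∀ c ∈ (T : Subgroup L), (∀ t ∈ (T : Subgroup L), t * c = c * t) → k * c ^ p = c ^ p * k) ∧
      ν ∈ Subgroup.normalizer ((thompsonSubgroupAOf (T : Subgroup L) : Subgroup L) : Set L) ∧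
      ∀ x ∈ P₀, ν * x * ν⁻¹ ∈ (T : Subgroup L) := by
  classical
  haveI hOn : (pCore p L).Normal := Cfsg.Agent.Lib.PCore.pCore_normal p L
  have hW₀n : ((Subgroup.center ↥(pCore p L)).map (pCore p L).subtype).Normal :=
    Cfsg.Agent.Lib.FitCore.map_subtype_normal_of_char _ _
  have hW₀ab : ∀ a ∈ (Subgroup.center ↥(pCore p L)).map (pCore p L).subtype,
      ∀ b ∈ (Subgroup.center ↥(pCore p L)).map (pCore p L).subtype, a * b = b * a := by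
    rintro _ ⟨a, ha, rfl⟩ _ ⟨b, hb, rfl⟩
    exact congrArg Subtype.val ((Subgroup.mem_center_iff.mp ha b).symm)
  have hOT := Cfsg.Agent.Lib.PCore.pCore_le_sylow T
  have hW₀T : (Subgroup.center ↥(pCore p L)).map (pCore p L).subtype ≤ T := by
    rintro _ ⟨a, -, rfl⟩
    exact hOT a.2
  have hcW : ∀ c ∈ (T : Subgroup L), (∀ t ∈ (T : Subgroup L), t * c = c * t) →
      c ∈ (Subgroup.center ↥(pCore p L)).map (pCore p L).subtype := by
    intro c _ hcC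
    have hcO : c ∈ pCore p L := hC (by
      rw [Subgroup.mem_centralizer_iff]
      intro o ho
      exact hcC o (hOT ho))
    refine ⟨⟨c, hcO⟩, ?_, rfl⟩
    show _ ∈ Subgroup.center _
    rw [Subgroup.mem_center_iff]
    intro o
    exact Subtype.ext (hcC o (hOT o.2))
  -- the normal subgroup
  let Ω₁ : Set L := {y | ∃ h : L, ∃ c ∈ (T : Subgroup L), (∀ t ∈ (T : Subgroup L), t * c = c * t) ∧ y = h * c ^ p * h⁻¹}
  let C₁ : Subgroup L := Subgroup.centralizer Ω₁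
  have hC₁mem : ∀ u, u ∈ C₁ ↔ ∀ y ∈ Ω₁, y * u = u * y := fun u => Subgroup.mem_centralizer_iff
  haveI hC₁n : C₁.Normal := by
    refine ⟨fun u hu a => (hC₁mem _).mpr ?_⟩
    rintro _ ⟨h, c, hc, hcC, rfl⟩
    have h1 := (hC₁mem u).mp hu ((a⁻¹ * h) * c ^ p * (a⁻¹ * h)⁻¹) ⟨a⁻¹ * h, c, hc, hcC, rfl⟩
    calc h * c ^ p * h⁻¹ * (a * u * a⁻¹)
        = a * (((a⁻¹ * h) * c ^ p * (a⁻¹ * h)⁻¹) * u) * a⁻¹ := by group
      _ = a * (u * ((a⁻¹ * h) * c ^ p * (a⁻¹ * h)⁻¹)) * a⁻¹ := by rw [h1]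
      _ = a * u * a⁻¹ * (h * c ^ p * h⁻¹) := by group
  have hJC : sSup (mabs (T : Subgroup L)) ≤ C₁ := by
    apply sSup_le
    rintro A ⟨hAT, hAc, hAm⟩ a ha
    rw [hC₁mem]
    rintro _ ⟨h, c, hc, hcC, rfl⟩
    have := fix_conj_power T hW₀n hW₀ab hW₀T (hcW c hc hcC) hcC hAT hAc hAm ha h
    exact (mul_inv_eq_iff_eq_mul.mp this).symm
  -- Frattini
  obtain ⟨R, hR⟩ := Cfsg.Agent.Lib.PIrreducible.exists_sylow_inf_normal T (N := C₁)
  have hFrat := Sylow.normalizer_sup_eq_top R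
  have hR' : (R : Subgroup C₁).map C₁.subtype = (T : Subgroup L) ⊓ C₁ := hR
  rw [hR'] at hFrat
  have hJT₀ : sSup (mabs (T : Subgroup L)) ≤ (T : Subgroup L) ⊓ C₁ := le_inf (sSup_mabs_le _) hJC
  have hJeq : sSup (mabs ((T : Subgroup L) ⊓ C₁)) = sSup (mabs (T : Subgroup L)) :=
    sSup_mabs_eq_of_le hJT₀ inf_le_left
  have hJ' : thompsonSubgroupAOf (T : Subgroup L) = sSup (mabs (T : Subgroup L)) := thompsonAOf_eq_sSup _
  rw [hJ']
  let M : Subgroup L := Subgroup.normalizer ((sSup (mabs (T : Subgroup L)) : Subgroup L) : Set L)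
  have hN₀M : Subgroup.normalizer ((((T : Subgroup L) ⊓ C₁ : Subgroup L)) : Set L) ≤ M := by
    have h1 := normalizer_le_normalizer_sSup_mabs ((T : Subgroup L) ⊓ C₁)
    rw [hJeq] at h1
    exact h1
  have hTM : (T : Subgroup L) ≤ M := by
    refine le_trans ?_ (normalizer_le_normalizer_sSup_mabs (T : Subgroup L))
    exact Subgroup.le_normalizer
  -- first factorization
  obtain ⟨k₀, ν₀, hk₀, hν₀, hg₀⟩ : ∃ k₀ ν₀ : L, k₀ ∈ C₁ ∧
      ν₀ ∈ Subgroup.normalizer ((((T : Subgroup L) ⊓ C₁ : Subgroup L)) : Set L) ∧ g = k₀ * ν₀ := by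
    have h1 : g⁻¹ ∈ Subgroup.normalizer ((((T : Subgroup L) ⊓ C₁ : Subgroup L)) : Set L) ⊔ C₁ := by
      rw [hFrat]
      trivial
    obtain ⟨y, hy, z, hz, e⟩ := Subgroup.mem_sup_of_normal_right.mp h1
    refine ⟨z⁻¹, y⁻¹, C₁.inv_mem hz, Subgroup.inv_mem _ hy, ?_⟩
    rw [← mul_inv_rev, e, inv_inv]
  have hν₀M := hN₀M hν₀
  -- second factorization
  let K : Subgroup L := M ⊓ C₁
  have hKn : (T : Subgroup L) ≤ Subgroup.normalizer ((K : Subgroup L) : Set L) := by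
    intro t ht
    rw [Subgroup.mem_normalizer_iff]
    intro u
    constructor
    · rintro ⟨hu1, hu2⟩
      exact ⟨M.mul_mem (M.mul_mem (hTM ht) hu1) (M.inv_mem (hTM ht)), hC₁n.conj_mem u hu2 t⟩
    · rintro ⟨hu1, hu2⟩
      have e : u = t⁻¹ * (t * u * t⁻¹) * t := by group
      rw [e]
      refine ⟨M.mul_mem (M.mul_mem (M.inv_mem (hTM ht)) hu1) (hTM ht), ?_⟩
      have := hC₁n.conj_mem _ hu2 t⁻¹
      rwa [inv_inv] at this
  let H₀ : Subgroup L := (T : Subgroup L) ⊔ K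
  have hTH₀ : (T : Subgroup L) ≤ H₀ := le_sup_left
  -- the conjugate of `P₀`
  have hyH : ∀ x ∈ P₀, ν₀ * x * ν₀⁻¹ ∈ H₀ := by
    intro x hx
    set r := g * x * g⁻¹ with hr
    have hrT : r ∈ (T : Subgroup L) := hg x hx
    have hy : ν₀ * x * ν₀⁻¹ = (k₀⁻¹ * r * k₀ * r⁻¹) * r := by
      rw [hr, hg₀]
      group
    have hc₁ : k₀⁻¹ * r * k₀ * r⁻¹ ∈ C₁ := by
      have h1 := hC₁n.conj_mem k₀ hk₀ r
      have e : k₀⁻¹ * r * k₀ * r⁻¹ = k₀⁻¹ * (r * k₀ * r⁻¹) := by group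
      rw [e]
      exact C₁.mul_mem (C₁.inv_mem hk₀) h1
    have hc₂ : k₀⁻¹ * r * k₀ * r⁻¹ ∈ M := by
      have e : k₀⁻¹ * r * k₀ * r⁻¹ = (ν₀ * x * ν₀⁻¹) * r⁻¹ := by
        rw [hy]
        group
      rw [e]
      exact M.mul_mem (M.mul_mem (M.mul_mem hν₀M (hTM (hP₀ hx))) (M.inv_mem hν₀M)) (M.inv_mem (hTM hrT))
    rw [hy]
    exact H₀.mul_mem (Subgroup.mem_sup_right ⟨hc₂, hc₁⟩) (hTH₀ hrT)
  let P₁ : Subgroup L := P₀.map (MulAut.conj ν₀).toMonoidHom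
  have hP₁H : P₁ ≤ H₀ := by
    rintro _ ⟨x, hx, rfl⟩
    exact hyH x hx
  have hP₁p : IsPGroup p P₁ := (T.isPGroup'.to_le hP₀).map _
  have hP₂ : IsPGroup p (P₁.subgroupOf H₀) := hP₁p.comap_of_injective _ Subtype.val_injective
  obtain ⟨w, hw⟩ := Cfsg.Agent.Lib.SylowIn.exists_conj_mem_sylow (T.subtype hTH₀) hP₂
  obtain ⟨s, hs, u, hu, hwe⟩ := Cfsg.Agent.Lib.Replacement.mem_sup_of_le_normalizer hKn w.2
  have hconj : ∀ x ∈ P₀, u * (ν₀ * x * ν₀⁻¹) * u⁻¹ ∈ (T : Subgroup L) := by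
    intro x hx
    have h1 : (⟨ν₀ * x * ν₀⁻¹, hyH x hx⟩ : H₀) ∈ P₁.subgroupOf H₀ :=
      Subgroup.mem_subgroupOf.mpr ⟨x, hx, rfl⟩
    have h2 := hw _ h1
    have h3 : (w * ⟨ν₀ * x * ν₀⁻¹, hyH x hx⟩ * w⁻¹ : H₀) ∈ ((T : Subgroup L).subgroupOf H₀) := by
      rw [← Sylow.coe_subtype]
      exact h2
    have h4 : (w : L) * (ν₀ * x * ν₀⁻¹) * (w : L)⁻¹ ∈ (T : Subgroup L) := Subgroup.mem_subgroupOf.mp h3
    rw [hwe] at h4
    have h5 := (T : Subgroup L).mul_mem ((T : Subgroup L).mul_mem ((T : Subgroup L).inv_mem hs) h4) hs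
    have e : s⁻¹ * (s * u * (ν₀ * x * ν₀⁻¹) * (s * u)⁻¹) * s = u * (ν₀ * x * ν₀⁻¹) * u⁻¹ := by group
    rwa [e] at h5
  refine ⟨k₀ * u⁻¹, u * ν₀, ?_, ?_, M.mul_mem hu.1 hν₀M, ?_⟩
  · rw [hg₀]
    group
  · intro c hc hcC
    have hk : k₀ * u⁻¹ ∈ C₁ := C₁.mul_mem hk₀ (C₁.inv_mem hu.2)
    have := (hC₁mem _).mp hk (c ^ p) ⟨1, c, hc, hcC, by simp⟩
    exact this.symm
  · intro x hx
    have := hconj x hx
    have e : u * ν₀ * x * (u * ν₀)⁻¹ = u * (ν₀ * x * ν₀⁻¹) * u⁻¹ := by group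
    rwa [e]

end Factor

end Cfsg.Agent.Lib.FusionJFactor
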