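import Cfsg.Agent.Lib.FusionJFactor

/-!
Generation of a saturated fusion system by the centralizer of the `p`-th powers of `Z(S)` and the normalizer of
the Thompson subgroup `J(S)`.
-/

set_option autoImplicit false

universe u

namespace Cfsg.Agent.Lib.FusionJGen

open Cfsg Cfsg.FusionSystem Cfsg.Agent.Lib.FusionBasic Cfsg.Agent.Lib.FusionAut
  Cfsg.Agent.Lib.FusionSat Cfsg.Agent.Lib.FusionModel Cfsg.Agent.Lib.FusionLocal
  Cfsg.Agent.Lib.FusionLocalModel Cfsg.Agent.Lib.FusionAlperin Cfsg.Agent.Lib.FusionJFactor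
  Cfsg.Agent.Lib.FusionCenCtl Cfsg.Agent.Lib.FusionCenQuad Cfsg.Agent.Lib.FusionGrun
  Cfsg.Agent.Lib.FusionNormal

section Basics

variable {Ω : Type*} [Group Ω] {S : Subgroup Ω} {p : ℕ}

/-- `Z(S)`. -/
abbrev Zf (S : Subgroup Ω) : Subgroup Ω := S ⊓ Subgroup.centralizer (S : Set Ω)

/-- The subgroup generated by the `p`-th powers of `Z(S)`. -/
abbrev Vf (p : ℕ) (S : Subgroup Ω) : Subgroup Ω := powerClosure p 1 (Zf S)

/-- The Thompson subgroup. -/
abbrev Jf (S : Subgroup Ω) : Subgroup Ω := thompsonSubgroupAOf S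

theorem mem_Zf {z : Ω} : z ∈ Zf S ↔ z ∈ S ∧ ∀ s ∈ S, s * z = z * s := by
  rw [Subgroup.mem_inf, Subgroup.mem_centralizer_iff]
  rfl

theorem Vf_le_Zf : Vf p S ≤ Zf S := by
  unfold Vf powerClosure
  rw [Subgroup.closure_le]
  rintro _ ⟨x, hx, rfl⟩
  exact Subgroup.pow_mem _ hx _

theorem Vf_le : Vf p S ≤ S := Vf_le_Zf.trans inf_le_left

theorem Vf_mono {S' : Subgroup Ω} (h : Zf S ≤ Zf S') : Vf p S ≤ Vf p S' := by
  unfold Vf powerClosure
  apply Subgroup.closure_mono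
  rintro _ ⟨x, hx, rfl⟩
  exact ⟨x, h hx, rfl⟩

theorem Zf_le_Zf {S' : Subgroup Ω} (h₁ : S' ≤ S) (h₂ : Zf S ≤ S') : Zf S ≤ Zf S' := by
  intro z hz
  rw [mem_Zf] at hz ⊢
  exact ⟨h₂ (mem_Zf.mpr hz), fun s hs => hz.2 s (h₁ hs)⟩

theorem Jf_eq (S : Subgroup Ω) : Jf S = sSup (mabs S) := thompsonAOf_eq_sSup S

theorem Jf_le (S : Subgroup Ω) : Jf S ≤ S := by
  rw [Jf_eq]
  exact sSup_mabs_le S

theorem Zf_le_Jf [Finite S] : Zf S ≤ Jf S := by
  intro z hz
  rw [mem_Zf] at hz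
  rw [Jf_eq]
  exact central_mem_sSup_mabs hz.1 hz.2

/-- Natural behaviour of the Thompson subgroup: one inclusion. -/
theorem thompson_map_le {Q R : Type*} [Group Q] [Group R] (φ : Q ≃* R) :
    (thompsonSubgroupA Q).map φ.toMonoidHom ≤ thompsonSubgroupA R := by
  unfold thompsonSubgroupA
  rw [Subgroup.map_le_iff_le_comap]
  apply sSup_le
  rintro A ⟨hAc, hAm⟩ a ha
  rw [Subgroup.mem_comap]
  apply (le_sSup (a := A.map φ.toMonoidHom) _ : A.map φ.toMonoidHom ≤ _)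
  · exact ⟨a, ha, rfl⟩
  · refine ⟨⟨⟨?_⟩⟩, fun B hB => ?_⟩
    · rintro ⟨_, x, hx, rfl⟩ ⟨_, y, hy, rfl⟩
      apply Subtype.ext
      show φ x * φ y = φ y * φ x
      rw [← map_mul, ← map_mul]
      have := hAc.is_comm.comm ⟨x, hx⟩ ⟨y, hy⟩
      exact congrArg (fun w : A => φ (w : Q)) this
    · have h1 := hAm (B.map φ.symm.toMonoidHom) ⟨⟨by
        rintro ⟨_, x, hx, rfl⟩ ⟨_, y, hy, rfl⟩
        apply Subtype.ext
        show φ.symm x * φ.symm y = φ.symm y * φ.symm x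
        rw [← map_mul, ← map_mul]
        have := hB.is_comm.comm ⟨x, hx⟩ ⟨y, hy⟩
        exact congrArg (fun w : B => φ.symm (w : R)) this⟩⟩
      have h2 : Nat.card (B.map φ.symm.toMonoidHom) = Nat.card B :=
        Subgroup.card_map_of_injective φ.symm.injective
      have h3 : Nat.card (A.map φ.toMonoidHom) = Nat.card A :=
        Subgroup.card_map_of_injective φ.injective
      rw [h3, ← h2]
      exact h1

/-- Natural behaviour of the Thompson subgroup. -/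
theorem thompson_map_equiv {Q R : Type*} [Group Q] [Group R] (φ : Q ≃* R) :
    (thompsonSubgroupA Q).map φ.toMonoidHom = thompsonSubgroupA R := by
  apply le_antisymm (thompson_map_le φ)
  intro y hy
  refine ⟨φ.symm y, ?_, φ.apply_symm_apply y⟩
  have := thompson_map_le φ.symm ⟨y, hy, rfl⟩
  exact this

/-- A map onto `P'` carries `J(P)` to `J(P')`. -/
theorem map_Jf {F : FusionSystem S} {P P' : Subgroup Ω} {φ : P →* Ω} (hφ : φ ∈ F.Hom P) (hr : φ.range = P')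
    {y : P} (hy : (y : Ω) ∈ Jf P) : φ y ∈ Jf P' := by
  obtain ⟨y₀, hy₀, e⟩ := hy
  have hnat := thompson_map_equiv (isoOfRange hφ hr)
  have e1 : y = y₀ := Subtype.ext e.symm
  subst e1
  refine ⟨isoOfRange hφ hr y, ?_, rfl⟩
  rw [← hnat]
  exact ⟨y, hy₀, rfl⟩

theorem map_Jf_surj {F : FusionSystem S} {P P' : Subgroup Ω} {φ : P →* Ω} (hφ : φ ∈ F.Hom P) (hr : φ.range = P')
    {y : Ω} (hy : y ∈ Jf P') : ∃ y₀ : P, (y₀ : Ω) ∈ Jf P ∧ φ y₀ = y := by
  obtain ⟨y₁, hy₁, rfl⟩ := hy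
  have hnat := thompson_map_equiv (isoOfRange hφ hr)
  rw [← hnat] at hy₁
  obtain ⟨y₀, hy₀, rfl⟩ := hy₁
  exact ⟨y₀, ⟨y₀, hy₀, rfl⟩, rfl⟩

theorem normalizerIn_le_normalizerIn_Jf (R : Subgroup Ω) : normalizerIn S R ≤ normalizerIn S (Jf R) := by
  rintro g ⟨hg1, hg2⟩
  refine ⟨hg1, ?_⟩
  show g ∈ Subgroup.normalizer ((Jf R : Subgroup Ω) : Set Ω)
  rw [Jf_eq]
  exact normalizer_le_normalizer_sSup_mabs R hg2

theorem normalizerIn_Jf_self : normalizerIn S (Jf S) = S := by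
  apply le_antisymm inf_le_left
  have h2 : S ≤ normalizerIn S S := le_inf le_rfl Subgroup.le_normalizer
  exact h2.trans (normalizerIn_le_normalizerIn_Jf S)

end Basics

section ModelFactor

variable {Ω : Type*} [Group Ω] {p : ℕ} [Fact p.Prime]

/-- The factorization of a map in the system of a model. -/
theorem model_factor {T : Subgroup Ω} [Finite T] {N : FusionSystem T} {L : Type*} [Group L]
    {ι : T →* L} (hM : N.IsModel p L ι) {Pt : Subgroup Ω} {φ : Pt →* Ω} (hφ : φ ∈ N.Hom Pt) :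
    ∃ θ ∈ N.Hom (Pt ⊔ Jf T), ((Jf T).subgroupOf (Pt ⊔ Jf T)).map θ = Jf T ∧
      ∃ θ₁ ∈ N.Hom ((θ.comp (Subgroup.inclusion le_sup_left)).range ⊔ Vf p T),
        (∀ v : Vf p T, θ₁ (Subgroup.inclusion le_sup_right v) = v) ∧
        ∀ x : Pt, θ₁ ⟨θ (Subgroup.inclusion le_sup_left x),
          Subgroup.mem_sup_left (MonoidHom.mem_range.mpr ⟨x, rfl⟩)⟩ = φ x := by
  obtain ⟨hfin, hR, ⟨Pl, hPl⟩, hC⟩ := hM
  haveI : Finite L := hfin
  obtain ⟨hPtT, hvals, g, hg⟩ := exists_conj_of_mem hR hφ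
  have hPr : ∀ t, t ∈ (Pl : Subgroup L) ↔ t ∈ ι.range := by
    intro t
    rw [hPl]
  have hP₀ : imageAlong ι Pt ≤ (Pl : Subgroup L) := by
    rw [hPl]
    exact imageAlong_le_range ι Pt
  have hg' : ∀ x ∈ imageAlong ι Pt, g * x * g⁻¹ ∈ (Pl : Subgroup L) := by
    rintro _ ⟨t, ht, rfl⟩
    have ht' : (t : Ω) ∈ Pt := ht
    have h1 := hg ⟨t, ht'⟩
    rw [hPr]
    exact ⟨_, h1⟩
  obtain ⟨k, ν, hgk, hkc, hνJ, hν⟩ := exists_factor Pl hC hP₀ hg'
  -- transport of `J`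
  let e : T ≃* ↥(Pl : Subgroup L) :=
    (MonoidHom.ofInjective hR.1).trans (MulEquiv.subgroupCongr hPl.symm)
  have hJimg : thompsonSubgroupAOf (Pl : Subgroup L) = imageAlong ι (Jf T) := by
    have hnat := thompson_map_equiv e
    unfold thompsonSubgroupAOf
    rw [← hnat]
    ext y
    constructor
    · rintro ⟨_, ⟨t, ht, rfl⟩, rfl⟩
      exact ⟨t, ⟨t, ht, rfl⟩, rfl⟩
    · rintro ⟨t, ⟨t₀, ht₀, e₀⟩, rfl⟩
      have h1 : t₀ = t := Subtype.ext e₀
      subst h1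
      exact ⟨e t₀, ⟨t₀, ht₀, rfl⟩, rfl⟩
  rw [hJimg] at hνJ
  have hνJ' := Subgroup.mem_normalizer_iff.mp hνJ
  have hJT : Jf T ≤ T := Jf_le T
  have hsup : Pt ⊔ Jf T ≤ T := sup_le hPtT hJT
  have hval : ∀ x, conjOn ι hsup ν x ∈ ι.range := by
    refine sup_values_mem (conjOn ι hsup ν) ?_ ?_
    · intro x hx
      rw [conjOn_apply, ← hPr]
      exact hν _ ⟨⟨x, hPtT hx⟩, hx, rfl⟩
    · intro x hx
      rw [conjOn_apply]
      apply imageAlong_le_range ι (Jf T)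
      apply (hνJ' _).mp
      exact ⟨⟨x, hJT hx⟩, hx, rfl⟩
  have hθ := liftHom_conj_mem hR hsup ν hval
  have hιθ : ∀ x, ι ⟨liftHom hR.1 (conjOn ι hsup ν) hval x, liftHom_mem hR.1 _ hval x⟩ =
      ν * ι ⟨x, hsup x.2⟩ * ν⁻¹ := fun x => ι_liftHom hR.1 _ hval x
  refine ⟨_, hθ, ?_, ?_⟩
  · ext y
    constructor
    · rintro ⟨x, hx, rfl⟩
      have hx' : ((x : ↥(Pt ⊔ Jf T)) : Ω) ∈ Jf T := hx
      have h1 : ν * ι ⟨x, hsup x.2⟩ * ν⁻¹ ∈ imageAlong ι (Jf T) :=
        (hνJ' _).mp ⟨⟨x, hsup x.2⟩, hx', rfl⟩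
      rw [← hιθ x] at h1
      exact (mem_imageAlong_iff hR.1 _).mp h1
    · intro hy
      have h1 : ι ⟨y, hJT hy⟩ ∈ imageAlong ι (Jf T) := ⟨⟨y, hJT hy⟩, hy, rfl⟩
      have h2 := (hνJ' (ν⁻¹ * ι ⟨y, hJT hy⟩ * ν)).mpr (by
        have e1 : ν * (ν⁻¹ * ι ⟨y, hJT hy⟩ * ν) * ν⁻¹ = ι ⟨y, hJT hy⟩ := by group
        rw [e1]
        exact h1)
      obtain ⟨t, ht, e2⟩ := h2
      have ht' : (t : Ω) ∈ Jf T := ht
      refine ⟨⟨t, Subgroup.mem_sup_right ht'⟩, Subgroup.mem_subgroupOf.mpr ht', ?_⟩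
      have h3 := hιθ ⟨t, Subgroup.mem_sup_right ht'⟩
      have h4 : (⟨(t : Ω), hsup (Subgroup.mem_sup_right ht')⟩ : T) = t := rfl
      rw [h4] at h3
      have e3 : ι t = ν⁻¹ * ι ⟨y, hJT hy⟩ * ν := e2
      rw [e3] at h3
      have h5 : ν * (ν⁻¹ * ι ⟨y, hJT hy⟩ * ν) * ν⁻¹ = ι ⟨y, hJT hy⟩ := by group
      rw [h5] at h3
      exact congrArg Subtype.val (hR.1 h3)
  · set θ₀ := (liftHom hR.1 (conjOn ι hsup ν) hval).comp (Subgroup.inclusion (le_sup_left : Pt ≤ Pt ⊔ Jf T))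
      with hθ₀
    have hθ₀T : ∀ x : Pt, θ₀ x ∈ T := fun x => liftHom_mem hR.1 _ hval _
    have hrange : θ₀.range ≤ T := by
      rintro _ ⟨x, rfl⟩
      exact hθ₀T x
    have h₂ : θ₀.range ⊔ Vf p T ≤ T := sup_le hrange Vf_le
    have hVfix : ∀ v (hv : v ∈ Vf p T), k * ι ⟨v, Vf_le hv⟩ = ι ⟨v, Vf_le hv⟩ * k := by
      have hgen : ∀ v (hv : v ∈ Vf p T), ∀ hv' : v ∈ T, k * ι ⟨v, hv'⟩ = ι ⟨v, hv'⟩ * k := by
        intro v hv
        unfold Vf powerClosure at hv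
        induction hv using Subgroup.closure_induction with
        | mem x hx =>
          obtain ⟨z, hz, rfl⟩ := hx
          intro hv'
          have hzT : z ∈ T := (mem_Zf.mp hz).1
          have hz2 : ι ⟨z, hzT⟩ ∈ (Pl : Subgroup L) := by
            rw [hPr]
            exact ⟨_, rfl⟩
          have hz3 : ∀ t ∈ (Pl : Subgroup L), t * ι ⟨z, hzT⟩ = ι ⟨z, hzT⟩ * t := by
            intro t ht
            rw [hPr] at ht
            obtain ⟨t₀, rfl⟩ := ht
            rw [← map_mul, ← map_mul]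
            congr 1
            apply Subtype.ext
            exact (mem_Zf.mp hz).2 t₀ t₀.2
          have h4 := hkc _ hz2 hz3
          have e : (⟨z ^ p ^ 1, hv'⟩ : T) = (⟨z, hzT⟩ : T) ^ p := by
            apply Subtype.ext
            simp
          rw [e, map_pow]
          exact h4
        | one =>
          intro hv'
          have e : (⟨1, hv'⟩ : T) = 1 := rfl
          rw [e, map_one, mul_one, one_mul]
        | mul x y hx hy hx' hy' =>
          intro hv'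
          have hxT : x ∈ T := (Subgroup.closure_le _ |>.mpr (by
            rintro _ ⟨z, hz, rfl⟩
            exact T.pow_mem (mem_Zf.mp hz).1 _)) hx
          have hyT : y ∈ T := (Subgroup.closure_le _ |>.mpr (by
            rintro _ ⟨z, hz, rfl⟩
            exact T.pow_mem (mem_Zf.mp hz).1 _)) hy
          have e : (⟨x * y, hv'⟩ : T) = ⟨x, hxT⟩ * ⟨y, hyT⟩ := rfl
          rw [e, map_mul, ← mul_assoc, hx' hxT, mul_assoc, hy' hyT, mul_assoc]
        | inv x hx hx' =>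
          intro hv'
          have hxT : x ∈ T := by
            have := T.inv_mem hv'
            rwa [inv_inv] at this
          have e : (⟨x⁻¹, hv'⟩ : T) = (⟨x, hxT⟩ : T)⁻¹ := rfl
          rw [e, map_inv]
          have h5 := hx' hxT
          exact Commute.inv_right h5
      exact fun v hv => hgen v hv (Vf_le hv)
    have hvalφ : ∀ x : Pt, k * ι ⟨θ₀ x, hθ₀T x⟩ * k⁻¹ = ι ⟨φ x, hvals x⟩ := by
      intro x
      rw [hg x, hgk]
      have h6 := hιθ (Subgroup.inclusion le_sup_left x)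
      have e1 : (⟨θ₀ x, hθ₀T x⟩ : T) = ⟨liftHom hR.1 (conjOn ι hsup ν) hval (Subgroup.inclusion le_sup_left x),
          liftHom_mem hR.1 _ hval _⟩ := rfl
      rw [e1, h6]
      have e2 : (⟨(((Subgroup.inclusion (le_sup_left : Pt ≤ Pt ⊔ Jf T) x : ↥(Pt ⊔ Jf T))) : Ω),
          hsup (Subgroup.inclusion le_sup_left x).2⟩ : T) = ⟨x, hPtT x.2⟩ := rfl
      rw [e2]
      group
    have hval₂ : ∀ x, conjOn ι h₂ k x ∈ ι.range := by
      refine sup_values_mem (conjOn ι h₂ k) ?_ ?_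
      · rintro _ ⟨x, rfl⟩
        rw [conjOn_apply]
        exact ⟨⟨φ x, hvals x⟩, (hvalφ x).symm⟩
      · intro v hv
        rw [conjOn_apply]
        refine ⟨⟨v, Vf_le hv⟩, ?_⟩
        have h7 := hVfix v hv
        show ι ⟨v, Vf_le hv⟩ = k * ι ⟨v, Vf_le hv⟩ * k⁻¹
        rw [h7, mul_inv_cancel_right]
    have hθ₁ι := fun x => ι_liftHom hR.1 _ hval₂ x
    refine ⟨_, liftHom_conj_mem hR h₂ k hval₂, ?_, ?_⟩
    · intro v
      apply eq_of_ι_eq hR.1 (liftHom_mem hR.1 _ hval₂ _) (Vf_le v.2)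
      rw [hθ₁ι]
      rw [conjOn_apply]
      have h7 := hVfix v v.2
      show k * ι ⟨v, Vf_le v.2⟩ * k⁻¹ = ι ⟨v, Vf_le v.2⟩
      rw [h7, mul_inv_cancel_right]
    · intro x
      apply eq_of_ι_eq hR.1 (liftHom_mem hR.1 _ hval₂ _) (hvals x)
      rw [hθ₁ι, conjOn_apply]
      exact hvalφ x

end ModelFactor

section Gen

variable {Ω : Type*} [Group Ω] {S : Subgroup Ω} {p : ℕ} [Fact p.Prime]

/-- The truncated Alperin--Goldschmidt fusion theorem. -/
theorem alperin_above [Finite S] (hS : IsPGroup p S) {F : FusionSystem S} (hF : F.IsSaturated p)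
    (E : FusionSystem S) (N : ℕ)
    (hE : ∀ P : Subgroup Ω, N ≤ Nat.card P → (P = S ∨ F.IsEssential p P) → F.autGroup P ≤ E.autGroup P) :
    ∀ P : Subgroup Ω, N ≤ Nat.card P → F.Hom P ⊆ E.Hom P := by
  -- strong induction on `|S| - |P|`
  have key : ∀ n : ℕ, ∀ P : Subgroup Ω, Nat.card S - Nat.card P = n → N ≤ Nat.card P → F.Hom P ⊆ E.Hom P := by
    intro n
    induction n using Nat.strong_induction_on with
    | _ n ih =>
      intro P hn hNP φ hφ
      have hPS : P ≤ S := source_le F hφ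
      have hfinP : Finite P := finite_of_le hPS
      have hIH : ∀ Q : Subgroup Ω, Q ≤ S → Nat.card P < Nat.card Q → F.Hom Q ⊆ E.Hom Q := by
        intro Q hQS hc
        have hc2 : Nat.card Q ≤ Nat.card S := Subgroup.card_le_of_le hQS
        exact ih (Nat.card S - Nat.card Q) (by omega) Q rfl (by omega)
      by_cases hPeq : P = S
      · subst hPeq
        have hr : φ.range = P := by
          have h1 : φ.range ≤ P := range_le F hφ
          refine Subgroup.eq_of_le_of_card_ge h1 ?_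
          rw [card_range_eq F hφ]
        let e : P ≃* P := isoOfRange hφ hr
        have he : e ∈ F.autGroup P := by
          rw [mem_autGroup_iff F le_rfl]
          exact hom_of_eq hφ fun x => rfl
        have he' := hE P hNP (Or.inl rfl) he
        have := (mem_autGroup_iff E le_rfl).mp he'
        exact hom_of_eq this fun x => rfl
      · have hPlt : P < S := lt_of_le_of_ne hPS hPeq
        -- choose a fully normalized conjugate `R`
        obtain ⟨R, hPR, hRn⟩ := exists_isConj_fullyNormalized F hPS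
        have hQS : φ.range ≤ S := range_le F hφ
        have hQcard : Nat.card φ.range = Nat.card P := card_range_eq F hφ
        have hRcard : Nat.card P = Nat.card R := card_eq_of_isConj F hPR
        have hQlt : φ.range < S := by
          refine lt_of_le_of_ne hQS fun he => hPeq ?_
          refine Subgroup.eq_of_le_of_card_ge hPS ?_
          rw [← he, hQcard]
        have hRlt : R < S := by
          have hRS : R ≤ S := hRn.1
          refine lt_of_le_of_ne hRS fun he => hPeq ?_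
          refine Subgroup.eq_of_le_of_card_ge hPS ?_
          rw [← he, hRcard]
        -- `χ₁ : P → R` in `E`
        have hlift : ∀ {A : Subgroup Ω}, A < S → F.IsConj A R → Nat.card A = Nat.card P →
            ∃ χ ∈ E.Hom A, χ.range = R ∧ χ ∈ F.Hom A := by
          intro A hAS hAR hcA
          obtain ⟨χ, hχ, hv, h1, h2⟩ := IsSaturated.exists_normalizer_map hS hF hRn hAR
          have hlt := lt_normalizerIn hS hAS
          have hAN := hlt.le
          have hfinA : Finite A := finite_of_le hAS.le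
          have hfinN : Finite (normalizerIn S A) := finite_of_le inf_le_left
          have hE1 : χ ∈ E.Hom (normalizerIn S A) := by
            have hcc : Nat.card P < Nat.card (normalizerIn S A) := by
              rw [← hcA]
              exact Nat.lt_of_le_of_ne (Subgroup.card_le_of_le hAN)
                (fun he => hlt.ne (Subgroup.eq_of_le_of_card_ge hAN he.ge))
            have hcc2 : Nat.card (normalizerIn S A) ≤ Nat.card S :=
              Subgroup.card_le_of_le inf_le_left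
            exact ih (Nat.card S - Nat.card (normalizerIn S A)) (by omega) _ rfl (by omega) hχ
          refine ⟨χ.comp (Subgroup.inclusion hAN), restrict_mem E hE1 hAN, ?_, restrict_mem F hχ hAN⟩
          ext y
          constructor
          · rintro ⟨x, rfl⟩
            exact h1 x x.2 _
          · intro hy
            obtain ⟨x, hx, hN, e⟩ := h2 y hy
            exact ⟨⟨x, hx⟩, e⟩
        obtain ⟨χ₁, hχ₁E, hχ₁r, hχ₁F⟩ := hlift hPlt hPR rfl
        obtain ⟨χ₂, hχ₂E, hχ₂r, hχ₂F⟩ := hlift hQlt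
          (isConj_trans F (isConj_symm F (isConj_range F hφ)) hPR) hQcard
        -- the automorphism `α = χ₂ φ χ₁⁻¹`
        obtain ⟨ι, hι, h11, h12, h13⟩ := exists_inverse F hχ₁F hχ₁r
        have hv1 : ∀ y : R, ι y ∈ P := h12
        obtain ⟨a₁, ha₁, ea₁⟩ := exists_comp F hι hφ hv1
        have hv2 : ∀ y : R, a₁ y ∈ φ.range := by
          intro y
          rw [ea₁]
          exact ⟨_, rfl⟩
        obtain ⟨a₂, ha₂, ea₂⟩ := exists_comp F ha₁ hχ₂F hv2
        have hχ₂R : ∀ z : φ.range, χ₂ z ∈ R := fun z => hχ₂r ▸ ⟨z, rfl⟩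
        have ha₂r : a₂.range = R := by
          ext y
          constructor
          · rintro ⟨x, rfl⟩
            rw [ea₂]
            exact hχ₂R _
          · intro hy
            have hy' : y ∈ χ₂.range := by rw [hχ₂r]; exact hy
            obtain ⟨⟨_, w, rfl⟩, rfl⟩ := hy'
            have hw : χ₁ w ∈ R := hχ₁r ▸ ⟨w, rfl⟩
            refine ⟨⟨χ₁ w, hw⟩, ?_⟩
            have e1 : a₁ ⟨χ₁ w, hw⟩ = φ w := by
              rw [ea₁]
              congr 1
              exact Subtype.ext (h11 w hw)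
            rw [ea₂]
            congr 1
            exact Subtype.ext e1
        let α : R ≃* R := isoOfRange ha₂ ha₂r
        have hαF : α ∈ F.autGroup R := by
          rw [mem_autGroup_iff F hRlt.le]
          exact hom_of_eq ha₂ fun x => rfl
        have hαE : α ∈ E.autGroup R := by
          rcases essential_dichotomy hS hF hRlt hRn with ⟨-, hH⟩ | ⟨hess, -⟩
          · rw [← hH] at hαF
            have hle : extendingAut F R ≤ E.autGroup R := by
              rw [extendingAut, Subgroup.closure_le]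
              rintro β ⟨Q, hRQ, ψ, hψ, hβ⟩
              have hQS' : Q ≤ S := source_le F hψ
              have hfinQ : Finite Q := finite_of_le hQS'
              have hcQ : Nat.card P < Nat.card Q := by
                rw [hRcard]
                exact Nat.lt_of_le_of_ne (Subgroup.card_le_of_le hRQ.le)
                  (fun he => hRQ.ne (Subgroup.eq_of_le_of_card_ge hRQ.le he.ge))
              have hψE := hIH Q hQS' hcQ hψ
              show β ∈ E.autGroup R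
              rw [mem_autGroup_iff E hRlt.le]
              exact hom_of_eq (restrict_mem E hψE hRQ.le) fun x => (hβ x).symm
            exact hle hαF
          · exact hE R (by omega) (Or.inr hess) hαF
        have hαE' := (mem_autGroup_iff E hRlt.le).mp hαE
        obtain ⟨κ, hκ, hκ1, hκ2, hκ3⟩ := exists_inverse E hχ₂E hχ₂r
        have hv3 : ∀ x : P, χ₁ x ∈ R := fun x => hχ₁r ▸ ⟨x, rfl⟩
        obtain ⟨b₁, hb₁, eb₁⟩ := exists_comp E hχ₁E hαE' hv3
        have hv4 : ∀ x : P, b₁ x ∈ R := by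
          intro x
          rw [eb₁]
          exact (α ⟨χ₁ x, hv3 x⟩).2
        obtain ⟨b₂, hb₂, eb₂⟩ := exists_comp E hb₁ hκ hv4
        refine hom_of_eq hb₂ fun x => ?_
        rw [eb₂]
        have e1 : a₁ ⟨χ₁ x, hv3 x⟩ = φ x := by
          rw [ea₁]
          congr 1
          exact Subtype.ext (h11 x (hv3 x))
        have e2 : b₁ x = χ₂ ⟨φ x, ⟨x, rfl⟩⟩ := by
          rw [eb₁]
          show a₂ ⟨χ₁ x, hv3 x⟩ = _
          rw [ea₂]
          congr 1
          exact Subtype.ext e1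
        have e3 : (⟨b₁ x, hv4 x⟩ : R) = ⟨χ₂ ⟨φ x, ⟨x, rfl⟩⟩, hχ₂R _⟩ := Subtype.ext e2
        rw [e3]
        exact (hκ1 ⟨φ x, ⟨x, rfl⟩⟩ _).symm
  exact fun P hP => key _ P rfl hP


/-- A map on `R ⊔ V` fixing `V` restricts to a map of `C_F(V)`. -/
theorem mem_cent {F E : FusionSystem S}
    (hC : ∀ (P : Subgroup Ω) (φ : P →* Ω), φ ∈ F.centralizerHom (Vf p S) P → φ ∈ E.Hom P)
    {R V' : Subgroup Ω} (hV : V' = Vf p S) {ψ : ↥(R ⊔ V') →* Ω} (hψ : ψ ∈ F.Hom (R ⊔ V'))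
    (hfix : ∀ v : V', ψ (Subgroup.inclusion le_sup_right v) = v) :
    ψ.comp (Subgroup.inclusion le_sup_left) ∈ E.Hom R := by
  subst hV
  have hsS : R ⊔ Vf p S ≤ S := source_le F hψ
  have hRS : R ≤ S := le_sup_left.trans hsS
  have hcen : ∀ {x : Ω}, x ∈ S → x ∈ centralizerIn S (Vf p S) := by
    intro x hx
    refine ⟨hx, ?_⟩
    show x ∈ Subgroup.centralizer ((Vf p S : Subgroup Ω) : Set Ω)
    rw [Subgroup.mem_centralizer_iff]
    intro v hv
    exact (mem_Zf.mp (Vf_le_Zf hv)).2 x hx |>.symm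
  refine hC R _ ⟨restrict_mem F hψ le_sup_left, fun x hx => hcen (hRS hx), fun x => hcen (map_mem_S F hψ _),
    ψ, hψ, fun x => rfl, hfix⟩

/-- A map on `R ⊔ J` preserving `J` restricts to a map of `N_F(J)`. -/
theorem mem_norm [Finite S] {F E : FusionSystem S}
    (hN : ∀ (P : Subgroup Ω) (φ : P →* Ω), φ ∈ F.normalizerHom (Jf S) P → φ ∈ E.Hom P)
    {R J' : Subgroup Ω} (hJ : J' = Jf S) {ψ : ↥(R ⊔ J') →* Ω} (hψ : ψ ∈ F.Hom (R ⊔ J'))
    (hmap : (J'.subgroupOf (R ⊔ J')).map ψ = J') :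
    ψ.comp (Subgroup.inclusion le_sup_left) ∈ E.Hom R := by
  subst hJ
  have hsS : R ⊔ Jf S ≤ S := source_le F hψ
  have hRS : R ≤ S := le_sup_left.trans hsS
  have hnor : ∀ {x : Ω}, x ∈ S → x ∈ normalizerIn S (Jf S) := by
    intro x hx
    rw [normalizerIn_Jf_self]
    exact hx
  exact hN R _ ⟨restrict_mem F hψ le_sup_left, fun x hx => hnor (hRS hx), fun x => hnor (map_mem_S F hψ _),
    ψ, hψ, fun x => rfl, hmap⟩

/-- Transport of the containment of a normalizer system along a conjugation. -/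
theorem transport_norm {F E : FusionSystem S} {X₀ X' : Subgroup Ω} (hX₀S : X₀ ≤ S)
    {ζ : ↥(normalizerIn S X₀) →* Ω}
    (hζF : ζ ∈ F.Hom (normalizerIn S X₀)) (hζE : ζ ∈ E.Hom (normalizerIn S X₀))
    (hv : ∀ x, ζ x ∈ normalizerIn S X')
    (hin : ∀ (x : Ω) (_ : x ∈ X₀) (hN : x ∈ normalizerIn S X₀), ζ ⟨x, hN⟩ ∈ X')
    (hsurj : ∀ y ∈ X', ∃ (x : Ω) (_ : x ∈ X₀) (hN : x ∈ normalizerIn S X₀), ζ ⟨x, hN⟩ = y)
    (hB : ∀ (P : Subgroup Ω) (φ : P →* Ω), φ ∈ F.normalizerHom X' P → φ ∈ E.Hom P)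
    (P : Subgroup Ω) (φ : P →* Ω) (hmem : φ ∈ F.normalizerHom X₀ P) : φ ∈ E.Hom P := by
  obtain ⟨hφ, hPN, hφv, ψ, hψ, hext, hmap⟩ := hmem
  have hX₀N : X₀ ≤ normalizerIn S X₀ := le_normalizerIn hX₀S
  have hle : P ⊔ X₀ ≤ normalizerIn S X₀ := sup_le hPN hX₀N
  obtain ⟨hmap1, hmap2⟩ := (map_subgroupOf_sup_eq_iff ψ).mp hmap
  have hψv : ∀ u, ψ u ∈ normalizerIn S X₀ := by
    refine sup_values_mem ψ ?_ ?_
    · intro x hx
      have := hext ⟨x, hx⟩
      have e : Subgroup.inclusion (le_sup_left : P ≤ P ⊔ X₀) ⟨x, hx⟩ = ⟨x, Subgroup.mem_sup_left hx⟩ := rfl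
      rw [e] at this
      rw [this]
      exact hφv _
    · intro x hx
      exact hX₀N (hmap1 x hx)
  set ζ₁ := ζ.comp (Subgroup.inclusion hle) with hζ₁
  have hζ₁F : ζ₁ ∈ F.Hom (P ⊔ X₀) := restrict_mem F hζF hle
  obtain ⟨κ, hκ, hκ1, hκ2, hκ3⟩ := exists_inverse F hζ₁F rfl
  set P' := (ζ.comp (Subgroup.inclusion hPN)).range with hP'
  have hP'R : P' ≤ ζ₁.range := by
    rintro _ ⟨x, rfl⟩
    exact ⟨Subgroup.inclusion le_sup_left x, rfl⟩
  have hX'R : X' ≤ ζ₁.range := by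
    intro y hy
    obtain ⟨x, hx, hN, rfl⟩ := hsurj y hy
    exact ⟨⟨x, Subgroup.mem_sup_right hx⟩, rfl⟩
  have hsupR : P' ⊔ X' ≤ ζ₁.range := sup_le hP'R hX'R
  have hκ' := restrict_mem F hκ hsupR
  obtain ⟨χ₁, hχ₁, eχ₁⟩ := exists_comp F hκ' hψ (fun y => hκ2 _)
  obtain ⟨χ, hχ, eχ⟩ := exists_comp F hχ₁ hζF (fun y => by rw [eχ₁]; exact hψv _)
  -- the basic formula
  have hform : ∀ (u : ↥(P ⊔ X₀)) (h : ζ₁ u ∈ P' ⊔ X'), χ ⟨ζ₁ u, h⟩ = ζ ⟨ψ u, hψv u⟩ := by
    intro u h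
    rw [eχ]
    have e1 : χ₁ ⟨ζ₁ u, h⟩ = ψ u := by
      rw [eχ₁]
      congr 1
      apply Subtype.ext
      exact hκ1 u ⟨u, rfl⟩
    congr 1
    exact Subtype.ext e1
  have hχv : ∀ y, χ y ∈ normalizerIn S X' := fun y => by
    rw [eχ]
    exact hv _
  have hmem' : χ.comp (Subgroup.inclusion le_sup_left) ∈ F.normalizerHom X' P' := by
    refine ⟨restrict_mem F hχ le_sup_left, ?_, fun y => hχv _, χ, hχ, fun y => rfl, ?_⟩
    · rintro _ ⟨x, rfl⟩
      exact hv _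
    · rw [map_subgroupOf_sup_eq_iff]
      constructor
      · intro y hy
        obtain ⟨x, hx, hN, rfl⟩ := hsurj y hy
        have h2 := hform ⟨x, Subgroup.mem_sup_right hx⟩ (Subgroup.mem_sup_right hy)
        have e : (⟨ζ ⟨x, hN⟩, Subgroup.mem_sup_right hy⟩ : ↥(P' ⊔ X')) =
            ⟨ζ₁ ⟨x, Subgroup.mem_sup_right hx⟩, Subgroup.mem_sup_right hy⟩ := rfl
        rw [e, h2]
        exact hin _ (hmap1 x hx) _
      · intro y hy
        obtain ⟨x, hx, hN, rfl⟩ := hsurj y hy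
        obtain ⟨x₀, hx₀, e₀⟩ := hmap2 x hx
        have hm := hin x₀ hx₀ (hX₀N hx₀)
        refine ⟨_, hm, ?_⟩
        have h2 := hform ⟨x₀, Subgroup.mem_sup_right hx₀⟩ (Subgroup.mem_sup_right hm)
        have e : (⟨ζ ⟨x₀, hX₀N hx₀⟩, Subgroup.mem_sup_right hm⟩ : ↥(P' ⊔ X')) =
            ⟨ζ₁ ⟨x₀, Subgroup.mem_sup_right hx₀⟩, Subgroup.mem_sup_right hm⟩ := rfl
        rw [e, h2]
        congr 1
        exact Subtype.ext e₀
  have hE1 := hB P' _ hmem'
  have hζP : ζ.comp (Subgroup.inclusion hPN) ∈ E.Hom P := restrict_mem E hζE hPN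
  obtain ⟨b₁, hb₁, eb₁⟩ := exists_comp E hζP hE1 (fun x => ⟨x, rfl⟩)
  have hb₁form : ∀ x : P, b₁ x = ζ ⟨φ x, hφv x⟩ := by
    intro x
    rw [eb₁]
    have hm : ζ₁ (Subgroup.inclusion le_sup_left x) ∈ P' ⊔ X' :=
      Subgroup.mem_sup_left ⟨x, rfl⟩
    have h2 := hform (Subgroup.inclusion le_sup_left x) hm
    have e : (Subgroup.inclusion (le_sup_left : P' ≤ P' ⊔ X')
        ⟨(ζ.comp (Subgroup.inclusion hPN)) x, ⟨x, rfl⟩⟩) = ⟨ζ₁ (Subgroup.inclusion le_sup_left x), hm⟩ := rfl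
    show χ (Subgroup.inclusion (le_sup_left : P' ≤ P' ⊔ X')
        ⟨(ζ.comp (Subgroup.inclusion hPN)) x, ⟨x, rfl⟩⟩) = _
    rw [e, h2]
    congr 1
    apply Subtype.ext
    have h3 := hext x
    exact h3
  have hrg : φ.range ≤ normalizerIn S X₀ := by
    rintro _ ⟨x, rfl⟩
    exact hφv x
  have hζφ : ζ.comp (Subgroup.inclusion hrg) ∈ E.Hom φ.range := restrict_mem E hζE hrg
  obtain ⟨ι', hι', hι1, hι2, hι3⟩ := exists_inverse E hζφ rfl
  have hb₁R : ∀ x : P, b₁ x ∈ (ζ.comp (Subgroup.inclusion hrg)).range := by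
    intro x
    rw [hb₁form]
    exact ⟨⟨φ x, ⟨x, rfl⟩⟩, rfl⟩
  obtain ⟨b₂, hb₂, eb₂⟩ := exists_comp E hb₁ hι' hb₁R
  refine hom_of_eq hb₂ fun x => ?_
  rw [eb₂]
  have h4 := hι1 ⟨φ x, ⟨x, rfl⟩⟩ ⟨_, rfl⟩
  have e4 : (⟨b₁ x, hb₁R x⟩ : ↥(ζ.comp (Subgroup.inclusion hrg)).range) =
      ⟨(ζ.comp (Subgroup.inclusion hrg)) ⟨φ x, ⟨x, rfl⟩⟩, ⟨_, rfl⟩⟩ := Subtype.ext (hb₁form x)
  rw [e4, h4]

/-- The restriction of a system to a subgroup of `S`. -/
def restrictSystem (E : FusionSystem S) (S' : Subgroup Ω) (hS' : S' ≤ S) : FusionSystem S' where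
  Hom P := {φ | φ ∈ E.Hom P ∧ P ≤ S' ∧ ∀ x, φ x ∈ S'}
  le_of_mem h := ⟨h.2.1, h.2.2⟩
  injective_of_mem h := E.injective_of_mem h.1
  conj_mem := fun {P g} hP hg => by
    refine ⟨E.conj_mem (hP.trans hS') (hS' hg), hP, fun x => ?_⟩
    show g * (x : Ω) * g⁻¹ ∈ S'
    exact S'.mul_mem (S'.mul_mem hg (hP x.2)) (S'.inv_mem hg)
  comp_mem := fun {P Q φ ψ} hφ hψ h => by
    refine ⟨E.comp_mem hφ.1 hψ.1 h, hφ.2.1, fun x => hψ.2.2 _⟩
  inv_mem := fun {P φ} hφ => by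
    obtain ⟨ψ, hψ, he⟩ := E.inv_mem hφ.1
    refine ⟨ψ, ⟨hψ, ?_, ?_⟩, he⟩
    · rintro _ ⟨x, rfl⟩
      exact hφ.2.2 x
    · rintro ⟨_, x, rfl⟩
      rw [he x]
      exact hφ.2.1 x.2

/-- The factorization inside a constrained normalizer system, with the centralizer part already in `E`. -/
theorem factor_mem [Finite S] (hS : IsPGroup p S) {F E : FusionSystem S} (hF : F.IsSaturated p)
    (hC : ∀ (P : Subgroup Ω) (φ : P →* Ω), φ ∈ F.centralizerHom (Vf p S) P → φ ∈ E.Hom P)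
    {Q : Subgroup Ω} (hQn : F.IsFullyNormalized Q) (hQc : centralizerIn S Q ≤ Q)
    {P : Subgroup Ω} {φ : P →* Ω} (hφ : φ ∈ F.normalizerHom Q P) :
    ∃ θ ∈ F.Hom (P ⊔ Jf (normalizerIn S Q)),
      ((Jf (normalizerIn S Q)).subgroupOf (P ⊔ Jf (normalizerIn S Q))).map θ = Jf (normalizerIn S Q) ∧
      (θ.comp (Subgroup.inclusion le_sup_left) ∈ E.Hom P → φ ∈ E.Hom P) := by
  have hQS : Q ≤ S := hQn.1
  have hTS : normalizerIn S Q ≤ S := inf_le_left
  haveI hTfin : Finite ↥(normalizerIn S Q) := finite_of_le hTS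
  have hTp : IsPGroup p ↥(normalizerIn S Q) := hS.to_le hTS
  have hQcen : F.IsCentric Q := isCentric_of_fullyCentralized hS hF
    (IsReceptive.isFullyCentralized (IsSaturated.fullyNormalized hS hF hQn).2) hQc
  have hNs := isNormalizerSystem_normalizerSystem F Q hQS
  obtain ⟨L, _, ι, hM⟩ := FusionModelExist.exists_model hTp _
    (isConstrained_normalizerSystem hS hF hQn hQcen hNs)
  have hφN : φ ∈ (normalizerSystem F Q hQS).Hom P := hφ
  obtain ⟨θ, hθ, hmap, θ₁, hθ₁, hfix, hcomp⟩ := model_factor hM hφN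
  have hθF : θ ∈ F.Hom (P ⊔ Jf (normalizerIn S Q)) := hθ.1
  have hθ₁F : θ₁ ∈ F.Hom _ := hθ₁.1
  refine ⟨θ, hθF, hmap, fun hE => ?_⟩
  have hZT : Zf S ≤ normalizerIn S Q := fun z hz =>
    mem_normalizerIn_of_central (mem_Zf.mp hz).1 (mem_Zf.mp hz).2 hQS
  have hVV : Vf p S ≤ Vf p (normalizerIn S Q) := Vf_mono (Zf_le_Zf hTS hZT)
  have hle : (θ.comp (Subgroup.inclusion le_sup_left)).range ⊔ Vf p S ≤
      (θ.comp (Subgroup.inclusion le_sup_left)).range ⊔ Vf p (normalizerIn S Q) :=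
    sup_le_sup_left hVV _
  have hψ := restrict_mem F hθ₁F hle
  have hψE := mem_cent hC rfl hψ (fun v => by
    have h1 := hfix ⟨v, hVV v.2⟩
    exact h1)
  obtain ⟨χ, hχ, eχ⟩ := exists_comp E hE hψE (fun x => ⟨x, rfl⟩)
  refine hom_of_eq hχ fun x => ?_
  rw [eχ]
  exact (hcomp x).symm

/-- A normal subgroup of `S` containing its centralizer. -/
theorem normal_centric_case [Finite S] (hS : IsPGroup p S) {F E : FusionSystem S} (hF : F.IsSaturated p)
    (hC : ∀ (P : Subgroup Ω) (φ : P →* Ω), φ ∈ F.centralizerHom (Vf p S) P → φ ∈ E.Hom P)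
    (hN : ∀ (P : Subgroup Ω) (φ : P →* Ω), φ ∈ F.normalizerHom (Jf S) P → φ ∈ E.Hom P)
    {Y : Subgroup Ω} (hYS : Y ≤ S) (hYn : S ≤ Subgroup.normalizer (Y : Set Ω)) (hYc : centralizerIn S Y ≤ Y)
    {P : Subgroup Ω} {φ : P →* Ω} (hφ : φ ∈ F.normalizerHom Y P) : φ ∈ E.Hom P := by
  have hT : normalizerIn S Y = S := inf_eq_left.mpr hYn
  have hfn : F.IsFullyNormalized Y := by
    refine ⟨hYS, fun Q _ => ?_⟩
    rw [hT]
    exact card_le_S inf_le_left
  obtain ⟨θ, hθ, hmap, himp⟩ := factor_mem hS hF hC hfn hYc hφ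
  apply himp
  exact mem_norm hN (by rw [hT]) hθ hmap

/-- The case of a subgroup normal in the system containing the `p`-th powers of `Z(S)`. -/
theorem normal_case [Finite S] (hS : IsPGroup p S) {F E : FusionSystem S} (hF : F.IsSaturated p)
    (hC : ∀ (P : Subgroup Ω) (φ : P →* Ω), φ ∈ F.centralizerHom (Vf p S) P → φ ∈ E.Hom P)
    (hN : ∀ (P : Subgroup Ω) (φ : P →* Ω), φ ∈ F.normalizerHom (Jf S) P → φ ∈ E.Hom P)
    {X : Subgroup Ω} (hXn : F.IsNormal X) (hVX : Vf p S ≤ X)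
    (P : Subgroup Ω) (φ : P →* Ω) (hφ : φ ∈ F.Hom P) : φ ∈ E.Hom P := by
  have hXS : X ≤ S := hXn.1
  have hSX : S ≤ Subgroup.normalizer (X : Set Ω) :=
    StronglyClosed.le_normalizer (IsNormal.stronglyClosed hXn)
  have hNX : normalizerIn S X = S := inf_eq_left.mpr hSX
  have hfn : F.IsFullyNormalized X := by
    refine ⟨hXS, fun Q _ => ?_⟩
    rw [hNX]
    exact card_le_S inf_le_left
  obtain ⟨-, hrec⟩ := IsSaturated.fullyNormalized hS hF hfn
  obtain ⟨φ₁, hφ₁, hext, hmap⟩ := hXn.2 P φ hφ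
  obtain ⟨hm1, hm2⟩ := (map_subgroupOf_sup_eq_iff φ₁).mp hmap
  have hsS : P ⊔ X ≤ S := source_le F hφ₁
  -- the automorphism of `X`
  have hα₀ : φ₁.comp (Subgroup.inclusion le_sup_right) ∈ F.Hom X := restrict_mem F hφ₁ le_sup_right
  have hα₀r : (φ₁.comp (Subgroup.inclusion (le_sup_right : X ≤ P ⊔ X))).range = X := by
    ext y
    constructor
    · rintro ⟨x, rfl⟩
      exact hm1 x x.2
    · intro hy
      obtain ⟨x, hx, e⟩ := hm2 y hy
      exact ⟨⟨x, hx⟩, e⟩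
  obtain ⟨αh, hαh, hαhe⟩ := hrec.2 X _ hα₀ hα₀r
  -- the extender is big
  have hPX : P ⊔ X ≤ extender S X (φ₁.comp (Subgroup.inclusion (le_sup_right : X ≤ P ⊔ X))) := by
    intro g hg
    rw [mem_extender_iff]
    refine ⟨hsS hg, hSX (hsS hg), φ₁ ⟨g, hg⟩, map_mem_S F hφ₁ _, fun x hx => ?_⟩
    have e : (Subgroup.inclusion (le_sup_right : X ≤ P ⊔ X) ⟨g * x * g⁻¹, hx⟩ : ↥(P ⊔ X)) =
        ⟨g, hg⟩ * Subgroup.inclusion le_sup_right x * ⟨g, hg⟩⁻¹ := rfl
    show φ₁ (Subgroup.inclusion le_sup_right ⟨g * x * g⁻¹, hx⟩) = _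
    rw [e, map_mul, map_mul, map_inv]
    rfl
  have hCX := centralizerIn_le_extender S X (φ₁.comp (Subgroup.inclusion (le_sup_right : X ≤ P ⊔ X)))
  obtain ⟨C, hCdef⟩ : ∃ C, C = centralizerIn S X := ⟨_, rfl⟩
  rw [← hCdef] at hCX
  have hCS : C ≤ S := by rw [hCdef]; exact inf_le_left
  have hP₁ : (P ⊔ X) ⊔ (X ⊔ C) ≤ extender S X (φ₁.comp (Subgroup.inclusion (le_sup_right : X ≤ P ⊔ X))) :=
    sup_le hPX (sup_le (le_sup_right.trans hPX) hCX)
  have hα₁ := restrict_mem F hαh hP₁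
  obtain ⟨α₁, hα₁def⟩ : ∃ α₁, α₁ = αh.comp (Subgroup.inclusion hP₁) := ⟨_, rfl⟩
  rw [← hα₁def] at hα₁
  have hα₁X : ∀ (x : Ω) (hx : x ∈ X) (hA : x ∈ (P ⊔ X) ⊔ (X ⊔ C)),
      α₁ ⟨x, hA⟩ = φ₁ ⟨x, Subgroup.mem_sup_right hx⟩ := by
    intro x hx hA
    rw [hα₁def]
    exact hαhe x hx _
  have hCcomm : ∀ c ∈ C, ∀ x ∈ X, x * c = c * x := by
    intro c hc x hx
    rw [hCdef] at hc
    exact Subgroup.mem_centralizer_iff.mp hc.2 x hx
  have hC2 : ∀ g, g ∈ S → (∀ x ∈ X, x * g = g * x) → g ∈ C := by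
    intro g hg hcomm
    rw [hCdef]
    refine ⟨hg, ?_⟩
    show g ∈ Subgroup.centralizer (X : Set Ω)
    rw [Subgroup.mem_centralizer_iff]
    exact hcomm
  -- `α₁` preserves `C`
  have hα₁C : ∀ (c : Ω) (hc : c ∈ C) (hA : c ∈ (P ⊔ X) ⊔ (X ⊔ C)), α₁ ⟨c, hA⟩ ∈ C := by
    intro c hc hA
    refine hC2 _ (map_mem_S F hα₁ _) fun y hy => ?_
    obtain ⟨x, hx, rfl⟩ := hm2 y hy
    have hxA : x ∈ (P ⊔ X) ⊔ (X ⊔ C) := Subgroup.mem_sup_right (Subgroup.mem_sup_left hx)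
    have hcm : (⟨x, hxA⟩ : ↥((P ⊔ X) ⊔ (X ⊔ C))) * ⟨c, hA⟩ = ⟨c, hA⟩ * ⟨x, hxA⟩ :=
      Subtype.ext (hCcomm c hc x hx)
    have e2 := congrArg α₁ hcm
    rw [map_mul, map_mul, hα₁X x hx hxA] at e2
    exact e2
  have hα₁Csurj : ∀ d ∈ C, ∃ (c : Ω) (_ : c ∈ C) (hA : c ∈ (P ⊔ X) ⊔ (X ⊔ C)), α₁ ⟨c, hA⟩ = d := by
    have hle : C ≤ (P ⊔ X) ⊔ (X ⊔ C) := le_sup_of_le_right le_sup_right
    have hres := restrict_mem F hα₁ hle
    haveI : Finite C := finite_of_le hCS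
    have hr : (α₁.comp (Subgroup.inclusion hle)).range = C := by
      apply Subgroup.eq_of_le_of_card_ge
      · rintro _ ⟨c, rfl⟩
        exact hα₁C c c.2 _
      · rw [card_range_eq F hres]
    intro d hd
    rw [← hr] at hd
    obtain ⟨c, rfl⟩ := hd
    exact ⟨c, c.2, hle c.2, rfl⟩
  -- the normalizer system of `X ⊔ C`
  have hYS : X ⊔ C ≤ S := sup_le hXS hCS
  have hYn : S ≤ Subgroup.normalizer ((X ⊔ C : Subgroup Ω) : Set Ω) := by
    intro s hs
    have h1 : s ∈ normalizerIn S X := ⟨hs, hSX hs⟩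
    have h2 := normalizerIn_le_sup_centralizer (S := S) X h1
    rw [← hCdef] at h2
    exact h2.2
  have hYc : centralizerIn S (X ⊔ C) ≤ X ⊔ C := by
    rintro g ⟨hg, hgc⟩
    apply Subgroup.mem_sup_right
    refine hC2 g hg fun x hx => ?_
    exact Subgroup.mem_centralizer_iff.mp hgc x (Subgroup.mem_sup_left hx)
  have hmapY : ((X ⊔ C).subgroupOf ((P ⊔ X) ⊔ (X ⊔ C))).map α₁ = X ⊔ C := by
    rw [map_subgroupOf_sup_eq_iff]
    have hsub : ∀ (y : Ω) (hy : y ∈ X ⊔ C), α₁ ⟨y, Subgroup.mem_sup_right hy⟩ ∈ X ⊔ C := by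
      have hle : X ⊔ C ≤ (P ⊔ X) ⊔ (X ⊔ C) := le_sup_right
      have hv : ∀ w, (α₁.comp (Subgroup.inclusion hle)) w ∈ X ⊔ C := by
        refine sup_values_mem (α₁.comp (Subgroup.inclusion hle)) ?_ ?_
        · intro x hx
          show α₁ ⟨x, hle (Subgroup.mem_sup_left hx)⟩ ∈ X ⊔ C
          rw [hα₁X x hx]
          exact Subgroup.mem_sup_left (hm1 x hx)
        · intro c hc
          exact Subgroup.mem_sup_right (hα₁C c hc _)
      intro y hy
      exact hv ⟨y, hy⟩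
    refine ⟨hsub, fun y hy => ?_⟩
    have hle : X ⊔ C ≤ (P ⊔ X) ⊔ (X ⊔ C) := le_sup_right
    have hres := restrict_mem F hα₁ hle
    haveI : Finite ↥(X ⊔ C) := finite_of_le hYS
    have hr : (α₁.comp (Subgroup.inclusion hle)).range = X ⊔ C := by
      apply Subgroup.eq_of_le_of_card_ge
      · rintro _ ⟨w, rfl⟩
        exact hsub w w.2
      · rw [card_range_eq F hres]
    rw [← hr] at hy
    obtain ⟨w, rfl⟩ := hy
    exact ⟨w, w.2, rfl⟩
  have hNs := isNormalizerSystem_normalizerSystem F (X ⊔ C) hYS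
  have hα₁N : α₁ ∈ (normalizerSystem F (X ⊔ C) hYS).Hom ((P ⊔ X) ⊔ (X ⊔ C)) :=
    hom_of_restrict_sup hNs hα₁ (by
      have hT : normalizerIn S (X ⊔ C) = S := inf_eq_left.mpr hYn
      rw [hT]
      exact source_le F hα₁) hmapY
  have hα₁E : α₁ ∈ E.Hom ((P ⊔ X) ⊔ (X ⊔ C)) :=
    normal_centric_case hS hF hC hN hYS hYn (by
      have h3 := hYc
      exact h3) hα₁N
  -- the values of `φ₁` lie in the range of `α₁`
  have hφ₁r : ∀ u : ↥(P ⊔ X), φ₁ u ∈ α₁.range := by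
    intro u
    have hleu : P ⊔ X ≤ (P ⊔ X) ⊔ (X ⊔ C) := le_sup_left
    set a : Ω := α₁ ⟨u, hleu u.2⟩ with ha
    have haS : a ∈ S := map_mem_S F hα₁ _
    have hmem : a⁻¹ * φ₁ u ∈ C := by
      refine hC2 _ (S.mul_mem (S.inv_mem haS) (map_mem_S F hφ₁ _)) fun y hy => ?_
      obtain ⟨x, hx, rfl⟩ := hm2 y hy
      have hux : (u : Ω) * x * (u : Ω)⁻¹ ∈ X := by
        have := hSX (hsS u.2)
        exact (Subgroup.mem_normalizer_iff.mp this x).mp hx
      have hA : ∀ {w : Ω}, w ∈ X → w ∈ (P ⊔ X) ⊔ (X ⊔ C) :=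
        fun hw => Subgroup.mem_sup_left (Subgroup.mem_sup_right hw)
      have e1 := hα₁X _ hux (hA hux)
      have e2 : (⟨(u : Ω) * x * (u : Ω)⁻¹, hA hux⟩ : ↥((P ⊔ X) ⊔ (X ⊔ C))) =
          ⟨u, hleu u.2⟩ * ⟨x, hA hx⟩ * ⟨u, hleu u.2⟩⁻¹ := rfl
      have e3 : (⟨(u : Ω) * x * (u : Ω)⁻¹, Subgroup.mem_sup_right hux⟩ : ↥(P ⊔ X)) =
          u * ⟨x, Subgroup.mem_sup_right hx⟩ * u⁻¹ := rfl
      rw [e2, e3, map_mul, map_mul, map_inv, map_mul, map_mul, map_inv, hα₁X x hx (hA hx)] at e1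
      have e4 : a * φ₁ ⟨x, Subgroup.mem_sup_right hx⟩ * a⁻¹ =
          φ₁ u * φ₁ ⟨x, Subgroup.mem_sup_right hx⟩ * (φ₁ u)⁻¹ := e1
      calc φ₁ ⟨x, Subgroup.mem_sup_right hx⟩ * (a⁻¹ * φ₁ u)
          = a⁻¹ * (a * φ₁ ⟨x, Subgroup.mem_sup_right hx⟩ * a⁻¹) * φ₁ u := by group
        _ = a⁻¹ * (φ₁ u * φ₁ ⟨x, Subgroup.mem_sup_right hx⟩ * (φ₁ u)⁻¹) * φ₁ u := by rw [e4]
        _ = a⁻¹ * φ₁ u * φ₁ ⟨x, Subgroup.mem_sup_right hx⟩ := by group
    obtain ⟨c, hc, hA, e⟩ := hα₁Csurj _ hmem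
    refine ⟨⟨u, hleu u.2⟩ * ⟨c, hA⟩, ?_⟩
    rw [map_mul, e]
    show a * (a⁻¹ * φ₁ u) = _
    group
  obtain ⟨κ, hκ, hκ1, hκ2, hκ3⟩ := exists_inverse F hα₁ rfl
  obtain ⟨γ, hγ, eγ⟩ := exists_comp F hφ₁ hκ hφ₁r
  have hγX : ∀ (x : Ω) (hx : x ∈ X), γ ⟨x, Subgroup.mem_sup_right hx⟩ = x := by
    intro x hx
    rw [eγ]
    have hA : x ∈ (P ⊔ X) ⊔ (X ⊔ C) := Subgroup.mem_sup_left (Subgroup.mem_sup_right hx)
    have h1 := hκ1 ⟨x, hA⟩ ⟨_, rfl⟩
    have h2 : (⟨φ₁ ⟨x, Subgroup.mem_sup_right hx⟩, hφ₁r _⟩ : α₁.range) = ⟨α₁ ⟨x, hA⟩, ⟨_, rfl⟩⟩ :=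
      Subtype.ext (hα₁X x hx hA).symm
    rw [h2, h1]
  have hle2 : P ⊔ Vf p S ≤ P ⊔ X := sup_le_sup_left hVX _
  have hγ' := restrict_mem F hγ hle2
  have hγE := mem_cent hC rfl hγ' (fun v => hγX v (hVX v.2))
  obtain ⟨χ, hχ, eχ⟩ := exists_comp E hγE hα₁E (fun x => by
    show γ _ ∈ _
    rw [eγ]
    exact hκ2 _)
  refine hom_of_eq hχ fun x => ?_
  rw [eχ]
  have h1 := hext x
  have h2 : (Subgroup.inclusion (le_sup_left : P ≤ P ⊔ X)) x = ⟨x, Subgroup.mem_sup_left x.2⟩ := rfl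
  have h3 := hκ3 ⟨φ₁ (Subgroup.inclusion le_sup_left x), hφ₁r _⟩ (hκ2 _)
  rw [← h1]
  refine Eq.trans h3.symm ?_
  congr 1
  apply Subtype.ext
  show κ _ = γ _
  rw [eγ]
  rfl

/-- The number of subgroups of `S` that are not normal in the system. -/
noncomputable def nonNormalCount {S : Subgroup Ω} (F : FusionSystem S) : ℕ :=
  Set.ncard {Q : Subgroup Ω | Q ≤ S ∧ ¬ F.IsNormal Q}

/-- A subgroup normal in the system stays normal in the normalizer system of a normal subgroup of `S`. -/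
theorem isNormal_normalizerSystem_of_isNormal {F : FusionSystem S} {X Q : Subgroup Ω} (hXS : X ≤ S)
    (hSX : normalizerIn S X = S) (hQ : F.IsNormal Q) : (normalizerSystem F X hXS).IsNormal Q := by
  have hQS : Q ≤ S := hQ.1
  refine ⟨by rw [hSX]; exact hQS, fun P φ hφ => ?_⟩
  obtain ⟨hφF, hPN, hφv, ψ₁, hψ₁, hext₁, hmap₁⟩ := hφ
  obtain ⟨hm1, hm2⟩ := (map_subgroupOf_sup_eq_iff ψ₁).mp hmap₁
  obtain ⟨ψ₂, hψ₂, hext₂, hmap₂⟩ := hQ.2 (P ⊔ X) ψ₁ hψ₁
  obtain ⟨hq1, hq2⟩ := (map_subgroupOf_sup_eq_iff ψ₂).mp hmap₂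
  have hle : P ⊔ Q ≤ (P ⊔ X) ⊔ Q := sup_le (le_sup_left.trans le_sup_left) le_sup_right
  have hle3 : (P ⊔ Q) ⊔ X ≤ (P ⊔ X) ⊔ Q := sup_le hle (le_sup_right.trans le_sup_left)
  have hψ₂S : (P ⊔ X) ⊔ Q ≤ S := source_le F hψ₂
  have hX' : ∀ (x : Ω) (hx : x ∈ X) (hA : x ∈ (P ⊔ X) ⊔ Q), ψ₂ ⟨x, hA⟩ = ψ₁ ⟨x, Subgroup.mem_sup_right hx⟩ :=
    fun x hx hA => hext₂ ⟨x, Subgroup.mem_sup_right hx⟩
  refine ⟨ψ₂.comp (Subgroup.inclusion hle), ⟨restrict_mem F hψ₂ hle, ?_, ?_, ψ₂.comp (Subgroup.inclusion hle3),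
    restrict_mem F hψ₂ hle3, fun x => rfl, ?_⟩, fun x => ?_, ?_⟩
  · rw [hSX]
    exact hle.trans hψ₂S
  · intro x
    rw [hSX]
    exact map_mem_S F hψ₂ _
  · rw [map_subgroupOf_sup_eq_iff]
    constructor
    · intro x hx
      show ψ₂ ⟨x, _⟩ ∈ X
      rw [hX' x hx]
      exact hm1 x hx
    · intro y hy
      obtain ⟨x, hx, e⟩ := hm2 y hy
      refine ⟨x, hx, ?_⟩
      show ψ₂ ⟨x, _⟩ = y
      rw [hX' x hx, e]
  · have h1 := hext₂ ⟨x, Subgroup.mem_sup_left x.2⟩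
    have h2 := hext₁ x
    exact h1.trans h2
  · rw [map_subgroupOf_sup_eq_iff]
    constructor
    · intro x hx
      exact hq1 x hx
    · intro y hy
      obtain ⟨x, hx, e⟩ := hq2 y hy
      exact ⟨x, hx, e⟩

theorem nonNormalCount_lt [Finite S] {F : FusionSystem S} {X : Subgroup Ω} (hXS : X ≤ S)
    (hSX : normalizerIn S X = S) (hnot : ¬ F.IsNormal X) :
    nonNormalCount (normalizerSystem F X hXS) < nonNormalCount F := by
  apply Set.ncard_lt_ncard _ (finite_setOf_le.subset fun Q hQ => hQ.1)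
  rw [Set.ssubset_iff_of_subset]
  · exact ⟨X, ⟨hXS, hnot⟩, fun h => h.2 (isNormal_normalizerSystem
      (isNormalizerSystem_normalizerSystem F X hXS) hXS)⟩
  · rintro Q ⟨hQ, hQn⟩
    rw [hSX] at hQ
    exact ⟨hQ, fun h => hQn (isNormal_normalizerSystem_of_isNormal hXS hSX h)⟩

/-- The normalizer of a subgroup with a large normalizer, up to conjugation. -/
theorem norm_of_large [Finite S] (hS : IsPGroup p S) {F E : FusionSystem S} (hF : F.IsSaturated p) {n : ℕ}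
    (hA : ∀ P : Subgroup Ω, n + 1 ≤ Nat.card P → F.Hom P ⊆ E.Hom P)
    (hB : ∀ X' : Subgroup Ω, F.IsFullyNormalized X' → (∃ X₀, F.IsConj X₀ X' ∧ Zf S ≤ X₀) →
      n + 1 ≤ Nat.card (normalizerIn S X') →
      ∀ (P : Subgroup Ω) (φ : P →* Ω), φ ∈ F.normalizerHom X' P → φ ∈ E.Hom P)
    {X₀ : Subgroup Ω} (hX₀S : X₀ ≤ S) (hZ : Zf S ≤ X₀) (hc : n + 1 ≤ Nat.card (normalizerIn S X₀))
    (P : Subgroup Ω) (φ : P →* Ω) (hmem : φ ∈ F.normalizerHom X₀ P) : φ ∈ E.Hom P := by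
  obtain ⟨X', hconj, hX'⟩ := exists_isConj_fullyNormalized F hX₀S
  have hc' : n + 1 ≤ Nat.card (normalizerIn S X') := hc.trans (hX'.2 _ (isConj_symm F hconj))
  have hBX := hB X' hX' ⟨X₀, hconj, hZ⟩ hc'
  obtain ⟨ζ, hζ, hv, hin, hsurj⟩ := IsSaturated.exists_normalizer_map hS hF hX' hconj
  exact transport_norm hX₀S hζ (hA _ hc hζ) hv hin hsurj hBX P φ hmem

/-- An automorphism of a fully normalized subgroup containing its centralizer lies in `E`. -/
theorem essential_step [Finite S] (hS : IsPGroup p S) {F E : FusionSystem S} (hF : F.IsSaturated p)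
    (hC : ∀ (P : Subgroup Ω) (φ : P →* Ω), φ ∈ F.centralizerHom (Vf p S) P → φ ∈ E.Hom P) {n : ℕ}
    (hA : ∀ P : Subgroup Ω, n + 1 ≤ Nat.card P → F.Hom P ⊆ E.Hom P)
    (hB : ∀ X' : Subgroup Ω, F.IsFullyNormalized X' → (∃ X₀, F.IsConj X₀ X' ∧ Zf S ≤ X₀) →
      n + 1 ≤ Nat.card (normalizerIn S X') →
      ∀ (P : Subgroup Ω) (φ : P →* Ω), φ ∈ F.normalizerHom X' P → φ ∈ E.Hom P)
    {Q : Subgroup Ω} (hQlt : Q < S) (hQn : F.IsFullyNormalized Q) (hQc : centralizerIn S Q ≤ Q)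
    (hcard : n ≤ Nat.card Q) {β : Q →* Ω} (hβ : β ∈ F.Hom Q) (hβr : β.range = Q) : β ∈ E.Hom Q := by
  by_cases hn : n + 1 ≤ Nat.card Q
  · exact hA Q hn hβ
  have hQS : Q ≤ S := hQn.1
  have hNs := isNormalizerSystem_normalizerSystem F Q hQS
  have hβN : β ∈ F.normalizerHom Q Q := by
    have h1 : isoOfRange hβ hβr ∈ F.autGroup Q := by
      rw [mem_autGroup_iff F hQS]
      exact hom_of_eq hβ fun y => rfl
    rw [← autGroup_normalizerSystem hNs hQS, mem_autGroup_iff _ (le_normalizerIn hQS)] at h1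
    exact hom_of_eq h1 fun y => rfl
  obtain ⟨θ, hθ, hmap, himp⟩ := factor_mem hS hF hC hQn hQc hβN
  have hTS : normalizerIn S Q ≤ S := inf_le_left
  haveI hTfin : Finite ↥(normalizerIn S Q) := finite_of_le hTS
  haveI hQfin : Finite Q := finite_of_le hQS
  have hlt := lt_normalizerIn hS hQlt
  have hcT : n + 1 ≤ Nat.card (normalizerIn S Q) := by
    have h1 : Nat.card Q < Nat.card (normalizerIn S Q) :=
      lt_of_not_ge fun hge => hlt.ne (Subgroup.eq_of_le_of_card_ge hlt.le hge)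
    omega
  by_cases hJQ : Jf (normalizerIn S Q) ≤ Q
  · -- `J(T)` lies in `Q`
    have hJJ : Jf Q = Jf (normalizerIn S Q) := by
      have h1 : sSup (mabs (normalizerIn S Q)) ≤ Q := by
        rw [← Jf_eq]
        exact hJQ
      rw [Jf_eq, Jf_eq]
      exact sSup_mabs_eq_of_le h1 hlt.le
    have hJS : Jf (normalizerIn S Q) ≤ S := (Jf_le _).trans hTS
    have hZT : Zf S ≤ normalizerIn S Q := fun z hz =>
      mem_normalizerIn_of_central (mem_Zf.mp hz).1 (mem_Zf.mp hz).2 hQS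
    have hZJ : Zf S ≤ Jf (normalizerIn S Q) := (Zf_le_Zf hTS hZT).trans Zf_le_Jf
    have hTN : normalizerIn S Q ≤ normalizerIn S (Jf (normalizerIn S Q)) := by
      rw [← hJJ]
      exact normalizerIn_le_normalizerIn_Jf Q
    refine norm_of_large hS hF hA hB hJS hZJ (hcT.trans (card_le_of_le' inf_le_left hTN)) Q β
      ⟨hβ, hlt.le.trans hTN, fun x => ?_, β.comp (Subgroup.inclusion (sup_le le_rfl hJQ)),
        restrict_mem F hβ _, fun x => rfl, ?_⟩
    · apply hTN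
      apply hlt.le
      exact hβr.le ⟨x, rfl⟩
    · rw [map_subgroupOf_sup_eq_iff]
      constructor
      · intro x hx
        have hx' : x ∈ Jf Q := by
          rw [hJJ]
          exact hx
        have h5 := map_Jf hβ hβr (y := ⟨x, hJQ hx⟩) hx'
        rw [hJJ] at h5
        exact h5
      · intro y hy
        have hy' : y ∈ Jf Q := by
          rw [hJJ]
          exact hy
        obtain ⟨y₀, hy₀, e⟩ := map_Jf_surj hβ hβr hy'
        have hy₀' : (y₀ : Ω) ∈ Jf (normalizerIn S Q) := by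
          rw [← hJJ]
          exact hy₀
        exact ⟨y₀, hy₀', e⟩
  · -- the source grows
    apply himp
    have hcard2 : n + 1 ≤ Nat.card ↥(Q ⊔ Jf (normalizerIn S Q)) := by
      have hsup : Q ⊔ Jf (normalizerIn S Q) ≤ S := source_le F hθ
      haveI : Finite ↥(Q ⊔ Jf (normalizerIn S Q)) := finite_of_le hsup
      have h1 : Q < Q ⊔ Jf (normalizerIn S Q) := lt_of_le_of_ne le_sup_left fun he =>
        hJQ ((le_sup_right : Jf (normalizerIn S Q) ≤ Q ⊔ Jf (normalizerIn S Q)).trans (le_of_eq he.symm))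
      have h2 : Nat.card Q < Nat.card ↥(Q ⊔ Jf (normalizerIn S Q)) :=
        lt_of_not_ge fun hge => h1.ne (Subgroup.eq_of_le_of_card_ge h1.le hge)
      omega
    exact restrict_mem E (hA _ hcard2 hθ) le_sup_left

/-- The statement being proved. -/
def GenThm (S : Subgroup Ω) (F : FusionSystem S) (p : ℕ) : Prop :=
  ∀ E : FusionSystem S,
    (∀ (P : Subgroup Ω) (φ : P →* Ω), φ ∈ F.centralizerHom (Vf p S) P → φ ∈ E.Hom P) →
    (∀ (P : Subgroup Ω) (φ : P →* Ω), φ ∈ F.normalizerHom (Jf S) P → φ ∈ E.Hom P) →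
    ∀ (P : Subgroup Ω) (φ : P →* Ω), φ ∈ F.Hom P → φ ∈ E.Hom P

/-- The normalizer system of a fully normalized subgroup lies in `E`, by induction. -/
theorem norm_step [Finite S] (hS : IsPGroup p S) {F E : FusionSystem S} (hF : F.IsSaturated p)
    (hC : ∀ (P : Subgroup Ω) (φ : P →* Ω), φ ∈ F.centralizerHom (Vf p S) P → φ ∈ E.Hom P)
    (hN : ∀ (P : Subgroup Ω) (φ : P →* Ω), φ ∈ F.normalizerHom (Jf S) P → φ ∈ E.Hom P)
    (hIH : ∀ (S' : Subgroup Ω) (_ : Finite S') (F' : FusionSystem S'), IsPGroup p S' → F'.IsSaturated p →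
      (Nat.card S' < Nat.card S ∨ (Nat.card S' = Nat.card S ∧ nonNormalCount F' < nonNormalCount F)) →
      GenThm S' F' p) {n : ℕ}
    (hA : ∀ P : Subgroup Ω, n + 1 ≤ Nat.card P → F.Hom P ⊆ E.Hom P)
    (hB : ∀ X' : Subgroup Ω, F.IsFullyNormalized X' → (∃ X₀, F.IsConj X₀ X' ∧ Zf S ≤ X₀) →
      n + 1 ≤ Nat.card (normalizerIn S X') →
      ∀ (P : Subgroup Ω) (φ : P →* Ω), φ ∈ F.normalizerHom X' P → φ ∈ E.Hom P)
    {X' : Subgroup Ω} (hXn : F.IsFullyNormalized X') (hX₀ : ∃ X₀, F.IsConj X₀ X' ∧ Zf S ≤ X₀)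
    (hcard : n ≤ Nat.card (normalizerIn S X'))
    (P : Subgroup Ω) (φ : P →* Ω) (hφ : φ ∈ F.normalizerHom X' P) : φ ∈ E.Hom P := by
  by_cases hn : n + 1 ≤ Nat.card (normalizerIn S X')
  · exact hB X' hXn hX₀ hn P φ hφ
  have hXS : X' ≤ S := hXn.1
  obtain ⟨X₀, hconj, hZX₀⟩ := hX₀
  by_cases hnor : F.IsNormal X'
  · -- the subgroup is normal
    obtain ⟨ρ, hρ, hρr⟩ := hconj
    obtain ⟨κ, hκ, -, hκ2, hκ3⟩ := exists_inverse F hρ hρr
    have hsc := IsNormal.stronglyClosed hnor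
    have hle : X₀ ≤ X' := by
      intro x hx
      have h1 : ρ ⟨x, hx⟩ ∈ X' := hρr.le ⟨_, rfl⟩
      have h2 := hsc.2 X' le_rfl κ hκ ⟨ρ ⟨x, hx⟩, h1⟩
      have h3 : κ ⟨ρ ⟨x, hx⟩, h1⟩ = x := by
        apply congrArg Subtype.val (F.injective_of_mem hρ (a₁ := ⟨_, hκ2 _⟩) (a₂ := ⟨x, hx⟩) _)
        exact hκ3 _ _
      rwa [h3] at h2
    exact normal_case hS hF hC hN hnor ((Vf_le_Zf.trans hZX₀).trans hle) P φ hφ.1
  -- the induction
  have hS'S : normalizerIn S X' ≤ S := inf_le_left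
  haveI hfin' : Finite ↥(normalizerIn S X') := finite_of_le hS'S
  have hNs := isNormalizerSystem_normalizerSystem F X' hXS
  have hsat := Cfsg.Agent.Lib.FusionNormSat.isSaturated_normalizerSystem hS hF hXn hNs
  have hlt : Nat.card ↥(normalizerIn S X') < Nat.card S ∨
      (Nat.card ↥(normalizerIn S X') = Nat.card S ∧
        nonNormalCount (normalizerSystem F X' hXS) < nonNormalCount F) := by
    by_cases hSS : normalizerIn S X' = S
    · right
      refine ⟨by rw [hSS], nonNormalCount_lt hXS hSS hnor⟩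
    · left
      have h1 : normalizerIn S X' < S := lt_of_le_of_ne hS'S hSS
      exact lt_of_not_ge fun hge => h1.ne (Subgroup.eq_of_le_of_card_ge h1.le hge)
  have hgen := hIH _ hfin' (normalizerSystem F X' hXS) (hS.to_le hS'S) hsat hlt
  have hZS' : Zf S ≤ normalizerIn S X' := fun z hz =>
    mem_normalizerIn_of_central (mem_Zf.mp hz).1 (mem_Zf.mp hz).2 hXS
  have hZZ := Zf_le_Zf hS'S hZS'
  have hVV : Vf p S ≤ Vf p (normalizerIn S X') := Vf_mono hZZ
  refine (hgen (restrictSystem E _ hS'S) ?_ ?_ P φ hφ).1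
  · rintro R χ ⟨hχ, -, -, ψ, hψ, hext, hfix⟩
    have hbd := (normalizerSystem F X' hXS).le_of_mem hχ
    refine ⟨?_, hbd.1, hbd.2⟩
    have hψF : ψ ∈ F.Hom _ := hψ.1
    have hle : R ⊔ Vf p S ≤ R ⊔ Vf p (normalizerIn S X') := sup_le_sup_left hVV _
    have h1 := mem_cent hC rfl (restrict_mem F hψF hle) (fun v => by
      have h2 := hfix ⟨v, hVV v.2⟩
      exact h2)
    exact hom_of_eq h1 fun x => (hext x).symm
  · rintro R χ ⟨hχ, hRN, hχN, ψ, hψ, hext, hmap⟩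
    have hbd := (normalizerSystem F X' hXS).le_of_mem hχ
    refine ⟨?_, hbd.1, hbd.2⟩
    have hψF : ψ ∈ F.Hom _ := hψ.1
    by_cases hSS : normalizerIn S X' = S
    · have h1 := mem_norm hN (by rw [hSS]) hψF hmap
      exact hom_of_eq h1 fun x => (hext x).symm
    · have hS'lt : normalizerIn S X' < S := lt_of_le_of_ne hS'S hSS
      have hl := lt_normalizerIn hS hS'lt
      have hl2 := normalizerIn_le_normalizerIn_Jf (S := S) (normalizerIn S X')
      have hc1 : n + 1 ≤ Nat.card ↥(normalizerIn S (Jf (normalizerIn S X'))) := by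
        haveI : Finite ↥(normalizerIn S (normalizerIn S X')) := finite_of_le inf_le_left
        have h1 : Nat.card ↥(normalizerIn S X') < Nat.card ↥(normalizerIn S (normalizerIn S X')) :=
          lt_of_not_ge fun hge => hl.ne (Subgroup.eq_of_le_of_card_ge hl.le hge)
        have h2 : Nat.card ↥(normalizerIn S (normalizerIn S X')) ≤
            Nat.card ↥(normalizerIn S (Jf (normalizerIn S X'))) := card_le_of_le' (S := S) inf_le_left hl2
        omega
      have hle3 : normalizerIn (normalizerIn S X') (Jf (normalizerIn S X')) ≤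
          normalizerIn S (Jf (normalizerIn S X')) := inf_le_inf_right _ hS'S
      exact norm_of_large hS hF hA hB ((Jf_le _).trans hS'S) (hZZ.trans Zf_le_Jf) hc1 R χ
        ⟨hχ.1, hRN.trans hle3, fun x => hle3 (hχN x), ψ, hψF, hext, hmap⟩

/-- One step of the main induction. -/
theorem gen_step [Finite S] (hS : IsPGroup p S) {F : FusionSystem S} (hF : F.IsSaturated p)
    (hIH : ∀ (S' : Subgroup Ω) (_ : Finite S') (F' : FusionSystem S'), IsPGroup p S' → F'.IsSaturated p →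
      (Nat.card S' < Nat.card S ∨ (Nat.card S' = Nat.card S ∧ nonNormalCount F' < nonNormalCount F)) →
      GenThm S' F' p) : GenThm S F p := by
  intro E hC hN
  let A : ℕ → Prop := fun n => ∀ P : Subgroup Ω, n ≤ Nat.card P → F.Hom P ⊆ E.Hom P
  let B : ℕ → Prop := fun n => ∀ X' : Subgroup Ω, F.IsFullyNormalized X' → (∃ X₀, F.IsConj X₀ X' ∧ Zf S ≤ X₀) →
      n ≤ Nat.card (normalizerIn S X') →
      ∀ (P : Subgroup Ω) (φ : P →* Ω), φ ∈ F.normalizerHom X' P → φ ∈ E.Hom P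
  have htop : A (Nat.card S + 1) ∧ B (Nat.card S + 1) := by
    constructor
    · intro P hP φ hφ
      have := card_le_S (source_le F hφ)
      omega
    · intro X' _ _ hc
      have := card_le_S (S := S) (P := normalizerIn S X') inf_le_left
      omega
  have hdesc : ∀ n, A (n + 1) ∧ B (n + 1) → A n ∧ B n := by
    rintro n ⟨hA, hB⟩
    constructor
    · apply alperin_above hS hF E n
      intro P hPn hP α hα
      have hPS : P ≤ S := by
        rcases hP with rfl | h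
        · exact le_rfl
        · exact h.1.1
      rw [mem_autGroup_iff F hPS] at hα
      rw [mem_autGroup_iff E hPS]
      have hr := Cfsg.Agent.Lib.FusionAlperin.range_subtype_comp α
      by_cases hPS' : P = S
      · subst hPS'
        refine hN P _ ⟨hα, ?_, fun x => ?_, _, restrict_mem F hα (sup_le le_rfl (Jf_le P)), fun x => rfl, ?_⟩
        · rw [normalizerIn_Jf_self]
        · rw [normalizerIn_Jf_self]
          exact map_mem_S F hα x
        · rw [map_subgroupOf_sup_eq_iff]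
          constructor
          · intro x hx
            exact map_Jf hα hr (y := ⟨x, Jf_le P hx⟩) hx
          · intro y hy
            obtain ⟨y₀, hy₀, e⟩ := map_Jf_surj hα hr hy
            exact ⟨y₀, hy₀, e⟩
      · have hess : F.IsEssential p P := by
          rcases hP with h | h
          · exact absurd h hPS'
          · exact h
        obtain ⟨hc, hfn, -⟩ := hess
        exact essential_step hS hF hC hA hB (lt_of_le_of_ne hPS hPS') hfn (hc.2 P (isConj_refl F hPS)) hPn hα hr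
    · intro X' hXn hX₀ hc P φ hφ
      exact norm_step hS hF hC hN hIH hA hB hXn hX₀ hc P φ hφ
  have hall : ∀ k n, n + k = Nat.card S + 1 → A n ∧ B n := by
    intro k
    induction k with
    | zero =>
      intro n hn
      have : n = Nat.card S + 1 := by omega
      rw [this]
      exact htop
    | succ k ih =>
      intro n hn
      exact hdesc n (ih (n + 1) (by omega))
  intro P φ hφ
  exact (hall (Nat.card S + 1) 0 (by omega)).1 P (Nat.zero_le _) hφ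

/-- The generation theorem. -/
theorem genThm_all (p : ℕ) [Fact p.Prime] : ∀ (n m : ℕ) (S : Subgroup Ω) (_ : Finite S) (F : FusionSystem S),
    IsPGroup p S → F.IsSaturated p → Nat.card S = n → nonNormalCount F = m → GenThm S F p := by
  intro n
  induction n using Nat.strong_induction_on with
  | _ n ihn =>
    intro m
    induction m using Nat.strong_induction_on with
    | _ m ihm =>
      intro S hfin F hS hF hn hm
      refine gen_step hS hF fun S' hfin' F' hS' hF' hlt => ?_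
      rcases hlt with h | ⟨h1, h2⟩
      · exact ihn _ (hn ▸ h) _ S' hfin' F' hS' hF' rfl rfl
      · have hn' : Nat.card S' = n := h1.trans hn
        exact ihm _ (hm ▸ h2) S' hfin' F' hS' hF' hn' rfl

end Gen

end Cfsg.Agent.Lib.FusionJGen
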