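import Mathlib

/-! An irreducible module for two endomorphisms of square zero is a natural module for a field. -/

set_option autoImplicit false
set_option linter.all false

namespace Cfsg.Agent.Lib.QuadModule

universe u

variable {A : Type u} [AddCommGroup A]

/-- The commutant of two endomorphisms. -/
abbrev Comm (a b : AddMonoid.End A) : Subring (AddMonoid.End A) := Subring.centralizer {a, b}

theorem comm_a {a b : AddMonoid.End A} (f : Comm a b) (v : A) :
    (f : AddMonoid.End A) (a v) = a ((f : AddMonoid.End A) v) := by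
  have h := (Subring.mem_centralizer_iff.1 f.2) a (by simp)
  have := congrArg (fun e : AddMonoid.End A => e v) h
  exact this.symm

theorem comm_b {a b : AddMonoid.End A} (f : Comm a b) (v : A) :
    (f : AddMonoid.End A) (b v) = b ((f : AddMonoid.End A) v) := by
  have h := (Subring.mem_centralizer_iff.1 f.2) b (by simp)
  have := congrArg (fun e : AddMonoid.End A => e v) h
  exact this.symm

theorem comm_inj {a b : AddMonoid.End A}
    (hirr : ∀ S : AddSubgroup A, (∀ v ∈ S, a v ∈ S) → (∀ v ∈ S, b v ∈ S) → S = ⊥ ∨ S = ⊤)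
    (f : Comm a b) (hf : f ≠ 0) : Function.Injective (f : AddMonoid.End A) := by
  let g : A →+ A := (f : AddMonoid.End A)
  have hg : ∀ v, g v = (f : AddMonoid.End A) v := fun _ => rfl
  rcases hirr g.ker (fun v hv => by
      rw [AddMonoidHom.mem_ker, hg, comm_a, ← hg, (AddMonoidHom.mem_ker).1 hv, map_zero])
      (fun v hv => by
      rw [AddMonoidHom.mem_ker, hg, comm_b, ← hg, (AddMonoidHom.mem_ker).1 hv, map_zero]) with h | h
  · exact (AddMonoidHom.ker_eq_bot_iff g).1 h
  · exfalso
    apply hf
    apply Subtype.ext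
    ext v
    have : v ∈ g.ker := by rw [h]; trivial
    exact (AddMonoidHom.mem_ker).1 this

section

variable [Finite A]

instance finite_end : Finite (AddMonoid.End A) :=
  Finite.of_injective (fun f : AddMonoid.End A => (f : A → A)) DFunLike.coe_injective

theorem comm_domain {a b : AddMonoid.End A} (ha0 : a ≠ 0)
    (hirr : ∀ S : AddSubgroup A, (∀ v ∈ S, a v ∈ S) → (∀ v ∈ S, b v ∈ S) → S = ⊥ ∨ S = ⊤) :
    IsDomain (Comm a b) := by
  haveI : Nontrivial (Comm a b) := by
    refine ⟨⟨1, 0, ?_⟩⟩
    intro h
    apply ha0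
    ext v
    have h1 : ((1 : Comm a b) : AddMonoid.End A) v = ((0 : Comm a b) : AddMonoid.End A) v := by rw [h]
    have h2 : v = 0 := h1
    rw [h2, map_zero]
    rfl
  haveI : NoZeroDivisors (Comm a b) := by
    constructor
    intro f g hfg
    by_contra h
    push Not at h
    obtain ⟨hf, hg⟩ := h
    apply hg
    apply Subtype.ext
    ext v
    have h1 := congrArg (fun e : Comm a b => (e : AddMonoid.End A) v) hfg
    have h2 : (f : AddMonoid.End A) ((g : AddMonoid.End A) v) = 0 := h1
    have h3 := comm_inj hirr f hf (h2.trans (map_zero _).symm)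
    exact h3
  exact NoZeroDivisors.to_isDomain _

theorem quad_core {a b : AddMonoid.End A} (ha : a * a = 0) (hb : b * b = 0) (ha0 : a ≠ 0)
    (hirr : ∀ S : AddSubgroup A, (∀ v ∈ S, a v ∈ S) → (∀ v ∈ S, b v ∈ S) → S = ⊥ ∨ S = ⊤) :
    ∃ (lam : Comm a b) (u w : A), lam ≠ 0 ∧
      (∀ f g : Comm a b, a ((f : AddMonoid.End A) u + (g : AddMonoid.End A) w) =
        ((g * lam : Comm a b) : AddMonoid.End A) u) ∧
      (∀ f g : Comm a b, b ((f : AddMonoid.End A) u + (g : AddMonoid.End A) w) =
        (f : AddMonoid.End A) w) ∧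
      Function.Bijective (fun x : Comm a b × Comm a b =>
        (x.1 : AddMonoid.End A) u + (x.2 : AddMonoid.End A) w) := by
  haveI := comm_domain ha0 hirr
  have ha' : ∀ v, a (a v) = 0 := fun v => congrArg (fun e : AddMonoid.End A => e v) ha
  have hb' : ∀ v, b (b v) = 0 := fun v => congrArg (fun e : AddMonoid.End A => e v) hb
  let c : AddMonoid.End A := a * b + b * a
  have hcmem : c ∈ Comm a b := by
    rw [Subring.mem_centralizer_iff]
    intro g hg
    rcases hg with rfl | rfl
    · show g * (g * b + b * g) = (g * b + b * g) * g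
      have e1 : g * (g * b + b * g) = g * b * g := by
        rw [mul_add, ← mul_assoc g g b, ha, zero_mul, zero_add, mul_assoc]
      have e2 : (g * b + b * g) * g = g * b * g := by
        rw [add_mul, mul_assoc b g g, ha, mul_zero, add_zero]
      rw [e1, e2]
    · show g * (a * g + g * a) = (a * g + g * a) * g
      have e1 : g * (a * g + g * a) = g * a * g := by
        rw [mul_add, ← mul_assoc g g a, hb, zero_mul, add_zero, mul_assoc]
      have e2 : (a * g + g * a) * g = g * a * g := by
        rw [add_mul, mul_assoc a g g, hb, mul_zero, zero_add]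
      rw [e1, e2]
  let lam : Comm a b := ⟨c, hcmem⟩
  have hlam : lam ≠ 0 := by
    intro h
    have hc0 : c = 0 := congrArg Subtype.val h
    have hab : ∀ v, a (b v) = - b (a v) := by
      intro v
      have := congrArg (fun e : AddMonoid.End A => e v) hc0
      have h1 : a (b v) + b (a v) = 0 := this
      exact eq_neg_of_add_eq_zero_left h1
    let g : A →+ A := a
    rcases hirr g.ker (fun v hv => by
        rw [AddMonoidHom.mem_ker]
        exact ha' v)
        (fun v hv => by
        rw [AddMonoidHom.mem_ker]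
        show a (b v) = 0
        rw [hab]
        have : a v = 0 := (AddMonoidHom.mem_ker).1 hv
        rw [this, map_zero, neg_zero]) with h1 | h1
    · have h2 : ∀ v, a v = 0 := by
        intro v
        have : a v ∈ g.ker := (AddMonoidHom.mem_ker).2 (ha' v)
        rw [h1] at this
        exact this
      exact ha0 (by ext v; exact h2 v)
    · apply ha0
      ext v
      have : v ∈ g.ker := by rw [h1]; trivial
      exact (AddMonoidHom.mem_ker).1 this
  obtain ⟨v, hv⟩ : ∃ v, a v ≠ 0 := by
    by_contra h
    push Not at h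
    exact ha0 (by ext v; exact h v)
  set u := a v with hu
  set w := b u with hw
  have hau : a u = 0 := ha' v
  have haw : a w = c u := by
    show a (b u) = a (b u) + b (a u)
    rw [hau, map_zero, add_zero]
  have hbw : b w = 0 := hb' u
  have h1 : ∀ f g : Comm a b, a ((f : AddMonoid.End A) u + (g : AddMonoid.End A) w) =
      ((g * lam : Comm a b) : AddMonoid.End A) u := by
    intro f g
    rw [map_add, ← comm_a, ← comm_a, hau, map_zero, zero_add, haw]
    rfl
  have h2 : ∀ f g : Comm a b, b ((f : AddMonoid.End A) u + (g : AddMonoid.End A) w) =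
      (f : AddMonoid.End A) w := by
    intro f g
    rw [map_add, ← comm_b, ← comm_b, hbw, map_zero, add_zero]
  refine ⟨lam, u, w, hlam, h1, h2, ?_, ?_⟩
  · rintro ⟨f, g⟩ ⟨f', g'⟩ he
    simp only at he
    have huinj : ∀ e : Comm a b, (e : AddMonoid.End A) u = 0 → e = 0 := by
      intro e he0
      by_contra hne
      exact hv (comm_inj hirr e hne (he0.trans (map_zero _).symm))
    have h3 : ((g * lam : Comm a b) : AddMonoid.End A) u = ((g' * lam : Comm a b) : AddMonoid.End A) u := by
      rw [← h1 f g, ← h1 f' g', he]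
    have h4 : (((g - g') * lam : Comm a b) : AddMonoid.End A) u = 0 := by
      rw [sub_mul]
      show ((g * lam : Comm a b) : AddMonoid.End A) u - ((g' * lam : Comm a b) : AddMonoid.End A) u = 0
      rw [h3, sub_self]
    have h5 := huinj _ h4
    have h6 : g - g' = 0 := (mul_eq_zero.1 h5).resolve_right hlam
    have h7 : g = g' := sub_eq_zero.1 h6
    subst h7
    have h8 : (f : AddMonoid.End A) u = (f' : AddMonoid.End A) u := add_right_cancel he
    have h9 : ((f - f' : Comm a b) : AddMonoid.End A) u = 0 := by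
      show (f : AddMonoid.End A) u - (f' : AddMonoid.End A) u = 0
      rw [h8, sub_self]
    have h10 := huinj _ h9
    have h11 : f = f' := sub_eq_zero.1 h10
    rw [h11]
  · let Φ : Comm a b × Comm a b →+ A :=
      { toFun := fun x => (x.1 : AddMonoid.End A) u + (x.2 : AddMonoid.End A) w
        map_zero' := by
          show (0 : A) + 0 = 0
          exact add_zero 0
        map_add' := by
          rintro ⟨f, g⟩ ⟨f', g'⟩
          show (f : AddMonoid.End A) u + (f' : AddMonoid.End A) u + ((g : AddMonoid.End A) w + (g' : AddMonoid.End A) w) = _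
          simp only
          abel }
    have h3 : Φ.range = ⊤ := by
      rcases hirr Φ.range (by
          rintro _ ⟨⟨f, g⟩, rfl⟩
          refine ⟨⟨g * lam, 0⟩, ?_⟩
          show ((g * lam : Comm a b) : AddMonoid.End A) u + ((0 : Comm a b) : AddMonoid.End A) w = a _
          rw [show a (Φ (f, g)) = ((g * lam : Comm a b) : AddMonoid.End A) u from h1 f g]
          show _ + (0 : A) = _
          rw [add_zero]) (by
          rintro _ ⟨⟨f, g⟩, rfl⟩
          refine ⟨⟨0, f⟩, ?_⟩
          show ((0 : Comm a b) : AddMonoid.End A) u + (f : AddMonoid.End A) w = b _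
          rw [show b (Φ (f, g)) = (f : AddMonoid.End A) w from h2 f g]
          show (0 : A) + _ = _
          rw [zero_add]) with h4 | h4
      · exfalso
        have h5 : u ∈ Φ.range := by
          refine ⟨⟨1, 0⟩, ?_⟩
          show (u + (0 : A)) = u
          rw [add_zero]
        rw [h4] at h5
        exact hv h5
      · exact h4
    intro y
    have : y ∈ Φ.range := by rw [h3]; trivial
    exact this

theorem quad_field {p : ℕ} [hpp : Fact p.Prime] (hpA : ∀ v : A, p • v = 0) {a b : AddMonoid.End A}
    (ha : a * a = 0) (hb : b * b = 0) (ha0 : a ≠ 0)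
    (hirr : ∀ S : AddSubgroup A, (∀ v ∈ S, a v ∈ S) → (∀ v ∈ S, b v ∈ S) → S = ⊥ ∨ S = ⊤) :
    ∃ (F : Type u) (_ : Field F) (_ : Finite F) (_ : CharP F p) (lam : F) (ψ : A ≃+ (Fin 2 → F)),
      lam ≠ 0 ∧ (∀ v, ψ (a v) = ![lam * ψ v 1, 0]) ∧ ∀ v, ψ (b v) = ![0, ψ v 0] := by
  obtain ⟨lam, u, w, hlam, h1, h2, hbij⟩ := quad_core ha hb ha0 hirr
  haveI := comm_domain ha0 hirr
  let hF : IsField (Comm a b) := Finite.isDomain_to_isField _
  letI fld : Field (Comm a b) := hF.toField
  have hcoe : ∀ (x : Fin 2 → Comm a b), True := fun _ => trivial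
  let Φ : (Fin 2 → Comm a b) →+ A :=
    { toFun := fun x => (x 0 : AddMonoid.End A) u + (x 1 : AddMonoid.End A) w
      map_zero' := by
        show (0 : A) + 0 = 0
        exact add_zero 0
      map_add' := by
        intro x y
        show ((x 0 : AddMonoid.End A) u + (y 0 : AddMonoid.End A) u) + ((x 1 : AddMonoid.End A) w + (y 1 : AddMonoid.End A) w) = _
        abel }
  have hΦ : ∀ x, Φ x = (x 0 : AddMonoid.End A) u + (x 1 : AddMonoid.End A) w := fun _ => rfl
  have hΦbij : Function.Bijective Φ := by
    constructor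
    · intro x y hxy
      have : (x 0, x 1) = (y 0, y 1) := hbij.1 hxy
      have h0 : x 0 = y 0 := congrArg Prod.fst this
      have h3 : x 1 = y 1 := congrArg Prod.snd this
      funext i
      fin_cases i
      · exact h0
      · exact h3
    · intro y
      obtain ⟨⟨f, g⟩, hx⟩ := hbij.2 y
      exact ⟨![f, g], hx⟩
  let e : (Fin 2 → Comm a b) ≃+ A := AddEquiv.ofBijective Φ hΦbij
  have he : ∀ x, e x = (x 0 : AddMonoid.End A) u + (x 1 : AddMonoid.End A) w := fun _ => rfl
  have hchar : CharP (Comm a b) p := by
    obtain ⟨q, hq⟩ := CharP.exists (Comm a b)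
    have hp0 : ((p : ℕ) : Comm a b) = 0 := by
      apply Subtype.ext
      ext v
      show ((p : ℕ) : AddMonoid.End A) v = 0
      rw [AddMonoid.End.natCast_apply]
      exact hpA v
    have h3 : q ∣ p := (CharP.cast_eq_zero_iff (Comm a b) q p).1 hp0
    have h4 : q ≠ 1 := CharP.char_ne_one (Comm a b) q
    rcases (Nat.dvd_prime hpp.out).1 h3 with h5 | h5
    · exact absurd h5 h4
    · rw [← h5]
      exact hq
  refine ⟨Comm a b, fld, inferInstance, hchar, lam, e.symm, hlam, ?_, ?_⟩
  · intro v
    apply e.injective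
    rw [e.apply_symm_apply]
    obtain ⟨x, rfl⟩ := e.surjective v
    rw [e.symm_apply_apply, he, h1, he]
    have e0 : (![lam * x 1, 0] : Fin 2 → Comm a b) 0 = x 1 * lam := by
      show lam * x 1 = x 1 * lam
      exact mul_comm _ _
    have e1 : (![lam * x 1, 0] : Fin 2 → Comm a b) 1 = 0 := rfl
    rw [e0, e1]
    show _ = _ + (0 : A)
    rw [add_zero]
  · intro v
    apply e.injective
    rw [e.apply_symm_apply]
    obtain ⟨x, rfl⟩ := e.surjective v
    rw [e.symm_apply_apply, he, h2, he]
    have e0 : (![0, x 0] : Fin 2 → Comm a b) 0 = 0 := rfl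
    have e1 : (![0, x 0] : Fin 2 → Comm a b) 1 = x 0 := rfl
    rw [e0, e1]
    show _ = (0 : A) + _
    rw [zero_add]

end

end Cfsg.Agent.Lib.QuadModule
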