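import Mathlib
import Cfsg.Agent.Lib.QdSection
import Cfsg.Agent.Lib.QuadModule

/-! A quadratic pair acting irreducibly on an abelian section gives a section `Qd(p)`. -/

set_option autoImplicit false
set_option linter.all false

namespace Cfsg.Agent.Lib.QdQuad

open Cfsg.Agent.Lib.DicksonLite Cfsg.Agent.Lib.QdSection Cfsg.Agent.Lib.QuadModule

universe u v

set_option maxHeartbeats 4000000 in
theorem qd_of_quad_module {Y : Type v} [Group Y] [Finite Y] {p : ℕ} [hpp : Fact p.Prime] (hp : p ≠ 2)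
    {A : Type u} [AddCommGroup A] [Finite A] (dn : A → Y) (hadd : ∀ u v, dn (u + v) = dn u * dn v)
    (hinj : Function.Injective dn) (hexp : ∀ v : A, p • v = 0)
    (x y : Y) (a b : AddMonoid.End A)
    (hax : ∀ v, x * dn v * x⁻¹ = dn (a v + v)) (hby : ∀ v, y * dn v * y⁻¹ = dn (b v + v))
    (ha : a * a = 0) (hb : b * b = 0) (ha0 : a ≠ 0)
    (hirr : ∀ S : AddSubgroup A, (∀ v ∈ S, a v ∈ S) → (∀ v ∈ S, b v ∈ S) → S = ⊥ ∨ S = ⊤) :
    InvTo ↥(Cfsg.qd p) Y := by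
  classical
  obtain ⟨F, _, _, _, lam, ψ, hlam, hψa, hψb⟩ := quad_field hexp ha hb ha0 hirr
  -- the subgroup of `SL₂(F)` induced from `Y`
  let T : Matrix.SpecialLinearGroup (Fin 2) F → A → A := fun h v =>
    ψ.symm ((h : Matrix (Fin 2) (Fin 2) F).mulVec (ψ v))
  have hT1 : ∀ v, T 1 v = v := by
    intro v
    show ψ.symm (((1 : Matrix.SpecialLinearGroup (Fin 2) F) : Matrix (Fin 2) (Fin 2) F).mulVec (ψ v)) = v
    rw [Matrix.SpecialLinearGroup.coe_one, Matrix.one_mulVec, AddEquiv.symm_apply_apply]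
  have hTmul : ∀ h h' v, T (h * h') v = T h (T h' v) := by
    intro h h' v
    show ψ.symm (((h * h' : Matrix.SpecialLinearGroup (Fin 2) F) : Matrix (Fin 2) (Fin 2) F).mulVec (ψ v)) =
      ψ.symm ((h : Matrix (Fin 2) (Fin 2) F).mulVec (ψ (ψ.symm ((h' : Matrix (Fin 2) (Fin 2) F).mulVec (ψ v)))))
    rw [AddEquiv.apply_symm_apply, Matrix.mulVec_mulVec, Matrix.SpecialLinearGroup.coe_mul]
  let H : Subgroup (Matrix.SpecialLinearGroup (Fin 2) F) :=
    { carrier := {h | ∃ m : Y, ∀ v : A, dn (T h v) = m * dn v * m⁻¹}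
      mul_mem' := by
        rintro h h' ⟨m, hm⟩ ⟨m', hm'⟩
        refine ⟨m * m', fun v => ?_⟩
        rw [hTmul, hm, hm']
        group
      one_mem' := ⟨1, fun v => by rw [hT1]; group⟩
      inv_mem' := by
        rintro h ⟨m, hm⟩
        refine ⟨m⁻¹, fun v => ?_⟩
        have h1 := hm (T h⁻¹ v)
        rw [← hTmul, mul_inv_cancel, hT1] at h1
        rw [h1]
        group }
  have hxH : t₁ lam ∈ H := by
    refine ⟨x, fun v => ?_⟩
    rw [hax]
    congr 1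
    apply ψ.injective
    rw [map_add, hψa]
    simp only [T, AddEquiv.apply_symm_apply]
    ext i
    fin_cases i
    · simp [Matrix.mulVec, dotProduct, Fin.sum_univ_two, add_comm]
    · simp [Matrix.mulVec, dotProduct, Fin.sum_univ_two]
  have hyH : t₂ (1 : F) ∈ H := by
    refine ⟨y, fun v => ?_⟩
    rw [hby]
    congr 1
    apply ψ.injective
    rw [map_add, hψb]
    simp only [T, AddEquiv.apply_symm_apply]
    ext i
    fin_cases i
    · simp [Matrix.mulVec, dotProduct, Fin.sum_univ_two]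
    · simp [Matrix.mulVec, dotProduct, Fin.sum_univ_two, add_comm]
  obtain ⟨h₁, ⟨m₁, hm₁⟩, h₂, ⟨m₂, hm₂⟩, f₁, f₂, e1, e2, e3, e4, hdet⟩ := dickson_pair hp H hlam hxH hyH
  have hdn0 : dn 0 = 1 := by
    have := hadd 0 0
    rw [add_zero] at this
    exact (mul_eq_left.1 this.symm)
  have hdnpow : ∀ (n : ℕ) (v : A), dn v ^ n = dn (n • v) := by
    intro n v
    induction n with
    | zero => simp [hdn0]
    | succ n ih => rw [pow_succ, ih, ← hadd, succ_nsmul]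
  have hT₁ : ∀ f, T h₁ (ψ.symm f) = ψ.symm ((h₁ : Matrix (Fin 2) (Fin 2) F).mulVec f) := by
    intro f
    show ψ.symm ((h₁ : Matrix (Fin 2) (Fin 2) F).mulVec (ψ (ψ.symm f))) = _
    rw [AddEquiv.apply_symm_apply]
  have hT₂ : ∀ f, T h₂ (ψ.symm f) = ψ.symm ((h₂ : Matrix (Fin 2) (Fin 2) F).mulVec f) := by
    intro f
    show ψ.symm ((h₂ : Matrix (Fin 2) (Fin 2) F).mulVec (ψ (ψ.symm f))) = _
    rw [AddEquiv.apply_symm_apply]
  refine qd_of_transvections hp (dn (ψ.symm f₁)) (dn (ψ.symm f₂)) m₁ m₂ ?_ ?_ ?_ ?_ ?_ ?_ ?_ ?_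
  · rw [hdnpow, hexp, hdn0]
  · rw [hdnpow, hexp, hdn0]
  · rw [← hadd, ← hadd, add_comm]
  · intro α β hαβ
    rw [hdnpow, hdnpow, ← hadd] at hαβ
    have h1 : α • ψ.symm f₁ + β • ψ.symm f₂ = 0 := hinj (hαβ.trans hdn0.symm)
    have h2 : α • f₁ + β • f₂ = 0 := by
      apply ψ.symm.injective
      rw [map_add, map_nsmul, map_nsmul, h1, map_zero]
    have h3 : ∀ i, (α : F) * f₁ i + (β : F) * f₂ i = 0 := by
      intro i
      have := congrFun h2 i
      simpa [nsmul_eq_mul] using this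
    have h4 : (α : F) * (f₁ 0 * f₂ 1 - f₁ 1 * f₂ 0) = 0 := by
      linear_combination f₂ 1 * h3 0 - f₂ 0 * h3 1
    have h5 : (β : F) * (f₁ 0 * f₂ 1 - f₁ 1 * f₂ 0) = 0 := by
      linear_combination f₁ 0 * h3 1 - f₁ 1 * h3 0
    exact ⟨(CharP.cast_eq_zero_iff F p α).1 ((mul_eq_zero.1 h4).resolve_right hdet),
      (CharP.cast_eq_zero_iff F p β).1 ((mul_eq_zero.1 h5).resolve_right hdet)⟩
  · rw [← hm₁, hT₁, e1]
  · rw [← hm₁, hT₁, e2, map_add, hadd]
  · rw [← hm₂, hT₂, e3, map_add, hadd]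
  · rw [← hm₂, hT₂, e4]

section base

variable {X : Type u} [Group X] [Finite X] {p : ℕ} [hpp : Fact p.Prime]

set_option maxHeartbeats 4000000 in
/-- The base case: a minimal quadratic section. -/
theorem qd_of_base (hp : p ≠ 2) (Q : Subgroup X) (hc : ∀ u ∈ Q, ∀ v ∈ Q, u * v = v * u)
    (he : ∀ u ∈ Q, u ^ p = 1) (x y : X) (hx : ∀ u ∈ Q, x * u * x⁻¹ ∈ Q) (hy : ∀ u ∈ Q, y * u * y⁻¹ ∈ Q)
    (hxq : ∀ u ∈ Q, x * (x * u * x⁻¹ * u⁻¹) * x⁻¹ = x * u * x⁻¹ * u⁻¹)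
    (hyq : ∀ u ∈ Q, y * (y * u * y⁻¹ * u⁻¹) * y⁻¹ = y * u * y⁻¹ * u⁻¹)
    (hne : ∃ u ∈ Q, x * u * x⁻¹ ≠ u)
    (hirr : ∀ R : Subgroup X, R ≤ Q → (∀ u ∈ R, x * u * x⁻¹ ∈ R) → (∀ u ∈ R, y * u * y⁻¹ ∈ R) → R = ⊥ ∨ R = Q) :
    InvTo ↥(Cfsg.qd p) X := by
  classical
  letI cg : CommGroup ↥Q := { (inferInstance : Group ↥Q) with
    mul_comm := fun a b => Subtype.ext (hc a a.2 b b.2) }
  let A := Additive ↥Q
  let dn : A → X := fun v => ((Additive.toMul v : ↥Q) : X)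
  have hdnQ : ∀ v, dn v ∈ Q := fun v => (Additive.toMul v : ↥Q).2
  have hadd : ∀ u v, dn (u + v) = dn u * dn v := fun _ _ => rfl
  have hinj : Function.Injective dn := fun u v h => Additive.toMul.injective (Subtype.ext h)
  have hdn0 : dn 0 = 1 := rfl
  have hdnpow : ∀ (n : ℕ) (v : A), dn (n • v) = dn v ^ n := by
    intro n v
    induction n with
    | zero => simp [hdn0]
    | succ n ih => rw [pow_succ, succ_nsmul, hadd, ih]
  have hexp : ∀ v : A, p • v = 0 := by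
    intro v
    apply hinj
    rw [hdnpow, he _ (hdnQ v), hdn0]
  have hcomm : ∀ u v : A, dn u * dn v = dn v * dn u := fun u v => hc _ (hdnQ u) _ (hdnQ v)
  let up : ∀ g : X, g ∈ Q → A := fun g hg => Additive.ofMul (⟨g, hg⟩ : ↥Q)
  have hdnup : ∀ g hg, dn (up g hg) = g := fun _ _ => rfl
  -- the endomorphisms attached to an element normalizing `Q`
  have mkEnd : ∀ z : X, (∀ u ∈ Q, z * u * z⁻¹ ∈ Q) → ∃ e : AddMonoid.End A, ∀ v, dn (e v) = z * dn v * z⁻¹ * (dn v)⁻¹ := by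
    intro z hz
    have hm : ∀ v : A, z * dn v * z⁻¹ * (dn v)⁻¹ ∈ Q := fun v => Q.mul_mem (hz _ (hdnQ v)) (Q.inv_mem (hdnQ v))
    refine ⟨AddMonoidHom.mk' (fun v => up _ (hm v)) ?_, fun v => rfl⟩
    intro u v
    apply hinj
    show z * (dn u * dn v) * z⁻¹ * (dn u * dn v)⁻¹ =
      (z * dn u * z⁻¹ * (dn u)⁻¹) * (z * dn v * z⁻¹ * (dn v)⁻¹)
    have h3 : z * dn v * z⁻¹ * (dn v)⁻¹ ∈ Q := hm v
    calc z * (dn u * dn v) * z⁻¹ * (dn u * dn v)⁻¹
        = (z * dn u * z⁻¹) * ((z * dn v * z⁻¹ * (dn v)⁻¹) * (dn u)⁻¹) := by group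
      _ = (z * dn u * z⁻¹) * ((dn u)⁻¹ * (z * dn v * z⁻¹ * (dn v)⁻¹)) := by
          rw [hc _ h3 _ (Q.inv_mem (hdnQ u))]
      _ = _ := by group
  obtain ⟨a, ha'⟩ := mkEnd x hx
  obtain ⟨b, hb'⟩ := mkEnd y hy
  have hax : ∀ v, x * dn v * x⁻¹ = dn (a v + v) := by
    intro v
    rw [hadd, ha']
    group
  have hby : ∀ v, y * dn v * y⁻¹ = dn (b v + v) := by
    intro v
    rw [hadd, hb']
    group
  have ha : a * a = 0 := by
    refine DFunLike.ext _ _ (fun v => hinj ?_)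
    show dn (a (a v)) = dn 0
    rw [ha', ha', hxq _ (hdnQ v), mul_inv_cancel, hdn0]
  have hb : b * b = 0 := by
    refine DFunLike.ext _ _ (fun v => hinj ?_)
    show dn (b (b v)) = dn 0
    rw [hb', hb', hyq _ (hdnQ v), mul_inv_cancel, hdn0]
  have ha0 : a ≠ 0 := by
    intro h0
    obtain ⟨u, hu, hu2⟩ := hne
    apply hu2
    have h1 := ha' (up u hu)
    rw [h0] at h1
    have h2 : (1 : X) = x * u * x⁻¹ * u⁻¹ := h1
    exact (mul_inv_eq_one.1 h2.symm)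
  have hirr' : ∀ S : AddSubgroup A, (∀ v ∈ S, a v ∈ S) → (∀ v ∈ S, b v ∈ S) → S = ⊥ ∨ S = ⊤ := by
    intro S hSa hSb
    let R : Subgroup X :=
      { carrier := {g | ∃ h : g ∈ Q, up g h ∈ S}
        mul_mem' := by
          rintro g g' ⟨h, hS⟩ ⟨h', hS'⟩
          exact ⟨Q.mul_mem h h', S.add_mem hS hS'⟩
        one_mem' := ⟨Q.one_mem, S.zero_mem⟩
        inv_mem' := by
          rintro g ⟨h, hS⟩
          exact ⟨Q.inv_mem h, S.neg_mem hS⟩ }
    have hRQ : R ≤ Q := fun g hg => hg.1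
    have hinv : ∀ (z : X) (e : AddMonoid.End A), (∀ v ∈ S, e v ∈ S) → (∀ v, z * dn v * z⁻¹ = dn (e v + v)) →
        ∀ g ∈ R, z * g * z⁻¹ ∈ R := by
      rintro z e he1 he2 g ⟨h, hS⟩
      have h3 : z * g * z⁻¹ = dn (e (up g h) + up g h) := he2 (up g h)
      refine ⟨by rw [h3]; exact hdnQ _, ?_⟩
      have h4 : up (z * g * z⁻¹) (by rw [h3]; exact hdnQ _) = e (up g h) + up g h := by
        apply hinj
        rw [hdnup]
        exact h3
      rw [h4]
      exact S.add_mem (he1 _ hS) hS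
    rcases hirr R hRQ (hinv x a hSa hax) (hinv y b hSb hby) with h1 | h1
    · left
      rw [eq_bot_iff]
      intro v hv
      have h2 : dn v ∈ R := ⟨hdnQ v, hv⟩
      rw [h1] at h2
      exact hinj (h2.trans hdn0.symm)
    · right
      rw [eq_top_iff]
      intro v _
      have h2 : dn v ∈ R := by
        rw [h1]
        exact hdnQ v
      exact h2.2
  exact qd_of_quad_module hp dn hadd hinj hexp x y a b hax hby ha hb ha0 hirr'

end base

end Cfsg.Agent.Lib.QdQuad
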