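import Mathlib
import Cfsg.Agent.Lib.QdQuad

/-! A pair of elements acting quadratically on a `p`-group but not generating a `p`-group of
automorphisms gives a section `Qd(p)`. -/

set_option autoImplicit false
set_option linter.all false

namespace Cfsg.Agent.Lib.QdNonP

open Cfsg.Agent.Lib.QdSection Cfsg.Agent.Lib.QdQuad

universe u

section basics

variable {X : Type u} [Group X]

/-- The subgroup generated by `x` and `y` acts on `Q` as a `p`-group. -/
def ActsP (p : ℕ) (x y : X) (Q : Subgroup X) : Prop :=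
  ∀ m ∈ Subgroup.closure ({x, y} : Set X), ∃ k : ℕ, ∀ u ∈ Q, m ^ p ^ k * u = u * m ^ p ^ k

theorem pow_conj (n u : X) (hc : n * (n * u * n⁻¹ * u⁻¹) * n⁻¹ = n * u * n⁻¹ * u⁻¹) (j : ℕ) :
    n ^ j * u * (n ^ j)⁻¹ = (n * u * n⁻¹ * u⁻¹) ^ j * u := by
  induction j with
  | zero => simp
  | succ j ih =>
    have h1 : n * (n * u * n⁻¹ * u⁻¹) ^ j * n⁻¹ = (n * u * n⁻¹ * u⁻¹) ^ j := by
      rw [← conj_pow, hc]
    calc n ^ (j + 1) * u * (n ^ (j + 1))⁻¹ = n * (n ^ j * u * (n ^ j)⁻¹) * n⁻¹ := by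
          rw [pow_succ']
          group
      _ = n * ((n * u * n⁻¹ * u⁻¹) ^ j * u) * n⁻¹ := by rw [ih]
      _ = (n * (n * u * n⁻¹ * u⁻¹) ^ j * n⁻¹) * (n * u * n⁻¹) := by group
      _ = (n * u * n⁻¹ * u⁻¹) ^ j * (n * u * n⁻¹) := by rw [h1]
      _ = (n * u * n⁻¹ * u⁻¹) ^ (j + 1) * u := by
          rw [pow_succ]
          group

theorem conj_inv_mem [Finite X] {Q : Subgroup X} {x : X} (hx : ∀ u ∈ Q, x * u * x⁻¹ ∈ Q) :
    ∀ u ∈ Q, x⁻¹ * u * x ∈ Q := by
  have h1 : ∀ (n : ℕ), ∀ u ∈ Q, x ^ n * u * (x ^ n)⁻¹ ∈ Q := by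
    intro n
    induction n with
    | zero => simp
    | succ n ih =>
      intro u hu
      have := hx _ (ih u hu)
      rw [pow_succ']
      convert this using 1
      group
  intro u hu
  have h2 := h1 (orderOf x - 1) u hu
  have h3 : x ^ (orderOf x - 1) = x⁻¹ := by
    rw [eq_inv_iff_mul_eq_one, ← pow_succ]
    rw [Nat.sub_add_cancel (orderOf_pos x)]
    exact pow_orderOf_eq_one x
  rw [h3, inv_inv] at h2
  exact h2

theorem mem_normalizer_of_conj [Finite X] {Q : Subgroup X} {x : X} (hx : ∀ u ∈ Q, x * u * x⁻¹ ∈ Q) :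
    x ∈ Subgroup.normalizer (Q : Set X) := by
  rw [Subgroup.mem_normalizer_iff]
  intro u
  constructor
  · exact hx u
  · intro h
    have := conj_inv_mem hx _ h
    convert this using 1
    group

theorem ActsP.of_step [Finite X] {p : ℕ} [hpp : Fact p.Prime] {R Q : Subgroup X} (hQ : IsPGroup p Q) (hRQ : R ≤ Q)
    {m : X} {k : ℕ} (h1 : ∀ r ∈ R, m ^ p ^ k * r = r * m ^ p ^ k)
    (h2 : ∀ u ∈ Q, m ^ p ^ k * u * (m ^ p ^ k)⁻¹ * u⁻¹ ∈ R) :
    ∃ k' : ℕ, ∀ u ∈ Q, m ^ p ^ k' * u = u * m ^ p ^ k' := by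
  obtain ⟨t, ht⟩ := IsPGroup.iff_card.1 (hQ.to_le hRQ)
  refine ⟨k + t, fun u hu => ?_⟩
  set n := m ^ p ^ k with hn
  have h3 : m ^ p ^ (k + t) = n ^ p ^ t := by
    rw [hn, ← pow_mul, pow_add]
  rw [h3]
  have hz := h2 u hu
  have hc : n * (n * u * n⁻¹ * u⁻¹) * n⁻¹ = n * u * n⁻¹ * u⁻¹ := by
    rw [h1 _ hz]
    group
  have h4 := pow_conj n u hc (p ^ t)
  have h5 : (n * u * n⁻¹ * u⁻¹) ^ p ^ t = 1 := by
    have h6 : (⟨_, hz⟩ : ↥R) ^ Nat.card R = 1 := pow_card_eq_one'
    rw [ht] at h6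
    simpa using congrArg Subtype.val h6
  rw [h5, one_mul] at h4
  exact mul_inv_eq_iff_eq_mul.1 h4

end basics

section main

variable {p : ℕ} [hpp : Fact p.Prime]

/-- The case in which `x` centralizes `Q`. -/
theorem actsP_of_central {X : Type u} [Group X] [Finite X] {Q : Subgroup X} {x y : X}
    (hy : ∀ u ∈ Q, y * u * y⁻¹ ∈ Q) (he : ∀ u ∈ Q, u ^ p = 1)
    (hyq : ∀ u ∈ Q, y * (y * u * y⁻¹ * u⁻¹) * y⁻¹ = y * u * y⁻¹ * u⁻¹)
    (hx : ∀ u ∈ Q, x * u * x⁻¹ = u) : ActsP p x y Q := by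
  have hy' := conj_inv_mem hy
  have hzp : ∀ z : ℤ, ∀ u ∈ Q, y ^ z * u * (y ^ z)⁻¹ ∈ Q := by
    have hN : y ∈ Subgroup.normalizer (Q : Set X) := mem_normalizer_of_conj hy
    intro z u hu
    exact (Subgroup.mem_normalizer_iff.1 (Subgroup.zpow_mem _ hN z) u).1 hu
  let D : Subgroup X :=
    { carrier := {m | ∃ j : ℤ, ∀ u ∈ Q, m * u * m⁻¹ = y ^ j * u * (y ^ j)⁻¹}
      mul_mem' := by
        rintro a b ⟨j, hj⟩ ⟨j', hj'⟩
        refine ⟨j + j', fun u hu => ?_⟩
        have h1 : a * b * u * (a * b)⁻¹ = a * (b * u * b⁻¹) * a⁻¹ := by group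
        rw [h1, hj' u hu, hj _ (hzp _ _ hu), zpow_add]
        group
      one_mem' := ⟨0, fun u hu => by simp⟩
      inv_mem' := by
        rintro a ⟨j, hj⟩
        refine ⟨-j, fun u hu => ?_⟩
        have h1 := hj _ (hzp (-j) u hu)
        have h2 : y ^ j * (y ^ (-j) * u * (y ^ (-j))⁻¹) * (y ^ j)⁻¹ = u := by
          rw [zpow_neg]
          group
        rw [h2] at h1
        calc a⁻¹ * u * a⁻¹⁻¹ = a⁻¹ * (a * (y ^ (-j) * u * (y ^ (-j))⁻¹) * a⁻¹) * a := by
              rw [h1]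
              group
          _ = _ := by group }
  have hle : Subgroup.closure ({x, y} : Set X) ≤ D := by
    rw [Subgroup.closure_le]
    rintro z (rfl | rfl)
    · exact ⟨0, fun u hu => by rw [hx u hu]; simp⟩
    · exact ⟨1, fun u hu => by simp⟩
  have hyp : ∀ u ∈ Q, y ^ p * u * (y ^ p)⁻¹ = u := by
    intro u hu
    have h1 := pow_conj y u (hyq u hu) p
    have h2 : y * u * y⁻¹ * u⁻¹ ∈ Q := Q.mul_mem (hy u hu) (Q.inv_mem hu)
    rw [he _ h2, one_mul] at h1
    exact h1
  have hyC : y ^ p ∈ Subgroup.centralizer (Q : Set X) := by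
    rw [Subgroup.mem_centralizer_iff]
    intro u hu
    have := hyp u hu
    rw [mul_inv_eq_iff_eq_mul] at this
    exact this.symm
  intro m hm
  obtain ⟨j, hj⟩ := hle hm
  refine ⟨1, fun u hu => ?_⟩
  rw [pow_one]
  have h1 : ∀ (n : ℕ), ∀ u ∈ Q, m ^ n * u * (m ^ n)⁻¹ = (y ^ j) ^ n * u * ((y ^ j) ^ n)⁻¹ := by
    intro n
    induction n with
    | zero => simp
    | succ n ih =>
      intro u hu
      have h2 : m ^ (n + 1) * u * (m ^ (n + 1))⁻¹ = m ^ n * (m * u * m⁻¹) * (m ^ n)⁻¹ := by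
        rw [pow_succ]
        group
      rw [h2, hj u hu, ih _ (hzp _ _ hu), pow_succ]
      group
  have h2 := h1 p u hu
  have h3 : (y ^ j) ^ p ∈ Subgroup.centralizer (Q : Set X) := by
    have : (y ^ j) ^ p = (y ^ p) ^ j := by
      rw [← zpow_natCast, ← zpow_natCast, ← zpow_mul, ← zpow_mul, mul_comm]
    rw [this]
    exact Subgroup.zpow_mem _ hyC j
  have h4 := (Subgroup.mem_centralizer_iff.1 h3) u hu
  rw [← h4] at h2
  have h5 : u * (y ^ j) ^ p * ((y ^ j) ^ p)⁻¹ = u := by group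
  rw [h5] at h2
  exact mul_inv_eq_iff_eq_mul.1 h2

set_option maxHeartbeats 4000000 in
theorem qd_of_nonP (hp : p ≠ 2) (n : ℕ) : ∀ (X : Type u) [Group X] [Finite X] (Q : Subgroup X),
    IsPGroup p Q → Nat.card Q ≤ n → ∀ x y : X, (∀ u ∈ Q, x * u * x⁻¹ ∈ Q) → (∀ u ∈ Q, y * u * y⁻¹ ∈ Q) →
    (∀ u ∈ Q, x * (x * u * x⁻¹ * u⁻¹) * x⁻¹ = x * u * x⁻¹ * u⁻¹) →
    (∀ u ∈ Q, y * (y * u * y⁻¹ * u⁻¹) * y⁻¹ = y * u * y⁻¹ * u⁻¹) →
    ¬ ActsP p x y Q → InvTo ↥(Cfsg.qd p) X := by
  induction n with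
  | zero =>
    intro X _ _ Q _ hc
    have := Nat.card_pos (α := Q)
    omega
  | succ n ih =>
    intro X _ _ Q hQ hcard x y hx hy hxq hyq hna
    classical
    have hQ1 : Q ≠ ⊥ := by
      rintro rfl
      apply hna
      intro m _
      refine ⟨0, fun u hu => ?_⟩
      rw [Subgroup.mem_bot] at hu
      rw [hu, one_mul, mul_one]
    by_cases hmin : ∃ R : Subgroup X, R ≤ Q ∧ R ≠ ⊥ ∧ R ≠ Q ∧ (∀ u ∈ Q, ∀ r ∈ R, u * r * u⁻¹ ∈ R) ∧
        (∀ u ∈ R, x * u * x⁻¹ ∈ R) ∧ (∀ u ∈ R, y * u * y⁻¹ ∈ R)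
    · obtain ⟨R, hRQ, hR1, hRne, hRn, hRx, hRy⟩ := hmin
      have hRcard : Nat.card R < Nat.card Q := by
        by_contra h
        push Not at h
        exact hRne (Subgroup.eq_of_le_of_card_ge hRQ h)
      by_cases hA : ActsP p x y R
      · let K : Subgroup X := Subgroup.normalizer (R : Set X)
        have hxK : x ∈ K := mem_normalizer_of_conj hRx
        have hyK : y ∈ K := mem_normalizer_of_conj hRy
        have hQK : Q ≤ K := fun u hu => mem_normalizer_of_conj (hRn u hu)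
        have hRK : R ≤ K := fun u hu => hQK (hRQ hu)
        let R' : Subgroup K := R.subgroupOf K
        haveI hR'n : R'.Normal := Subgroup.normal_in_normalizer
        let π : K →* K ⧸ R' := QuotientGroup.mk' R'
        have hπ : ∀ z : K, π z = 1 ↔ (z : X) ∈ R := by
          intro z
          exact (QuotientGroup.eq_one_iff z)
        let x₀ : K := ⟨x, hxK⟩
        let y₀ : K := ⟨y, hyK⟩
        let Q' : Subgroup (K ⧸ R') := (Q.subgroupOf K).map π
        have hQ'p : IsPGroup p Q' :=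
          IsPGroup.map (IsPGroup.comap_of_injective hQ K.subtype K.subtype_injective) π
        have hQ'card : Nat.card Q' < Nat.card Q := by
          let f : ↥Q → ↥Q' := fun u => ⟨π ⟨u, hQK u.2⟩, ⟨u, hQK u.2⟩, u.2, rfl⟩
          have hf : Function.Surjective f := by
            rintro ⟨_, ⟨u, huK⟩, hu, rfl⟩
            exact ⟨⟨u, hu⟩, rfl⟩
          by_contra hle
          push Not at hle
          have hb := hf.bijective_of_nat_card_le hle
          obtain ⟨r, hr, hr1⟩ := (Subgroup.bot_or_exists_ne_one R).resolve_left hR1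
          have h1 : f ⟨r, hRQ hr⟩ = f 1 := by
            apply Subtype.ext
            show π ⟨r, _⟩ = π 1
            rw [map_one]
            exact (hπ _).2 hr
          have h2 := hb.1 h1
          exact hr1 (congrArg Subtype.val h2)
        have hconjmem : ∀ (z₀ : K), (∀ u ∈ Q, (z₀ : X) * u * (z₀ : X)⁻¹ ∈ Q) →
            ∀ u' ∈ Q', π z₀ * u' * (π z₀)⁻¹ ∈ Q' := by
          rintro z₀ hz _ ⟨u₀, hu₀, rfl⟩
          refine ⟨z₀ * u₀ * z₀⁻¹, hz _ hu₀, ?_⟩
          rw [map_mul, map_mul, map_inv]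
        have hquad : ∀ (z₀ : K), (∀ u ∈ Q, (z₀ : X) * ((z₀ : X) * u * (z₀ : X)⁻¹ * u⁻¹) * (z₀ : X)⁻¹ =
            (z₀ : X) * u * (z₀ : X)⁻¹ * u⁻¹) → ∀ u' ∈ Q',
            π z₀ * (π z₀ * u' * (π z₀)⁻¹ * u'⁻¹) * (π z₀)⁻¹ = π z₀ * u' * (π z₀)⁻¹ * u'⁻¹ := by
          rintro z₀ hz _ ⟨u₀, hu₀, rfl⟩
          have h1 : z₀ * (z₀ * u₀ * z₀⁻¹ * u₀⁻¹) * z₀⁻¹ = z₀ * u₀ * z₀⁻¹ * u₀⁻¹ :=
            Subtype.ext (hz _ hu₀)
          have h2 := congrArg π h1
          simpa only [map_mul, map_inv] using h2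
        refine (ih (K ⧸ R') Q' hQ'p (by omega) (π x₀) (π y₀) (hconjmem x₀ hx) (hconjmem y₀ hy)
          (hquad x₀ hxq) (hquad y₀ hyq) ?_).of_quot.of_le
        intro hA'
        apply hna
        intro m hm
        -- `m` lifts
        let E : Subgroup X := ((Subgroup.closure ({π x₀, π y₀} : Set (K ⧸ R'))).comap π).map K.subtype
        have hle : Subgroup.closure ({x, y} : Set X) ≤ E := by
          rw [Subgroup.closure_le]
          rintro z (rfl | rfl)
          · exact ⟨x₀, Subgroup.subset_closure (by simp), rfl⟩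
          · exact ⟨y₀, Subgroup.subset_closure (by simp), rfl⟩
        obtain ⟨m₀, hm₀, rfl⟩ := hle hm
        obtain ⟨k, hk⟩ := hA' _ hm₀
        obtain ⟨l, hl⟩ := hA _ hm
        have hmp : ∀ a b : ℕ, ((m₀ : X) ^ p ^ a) ^ p ^ b = (m₀ : X) ^ p ^ (a + b) := by
          intro a b
          rw [← pow_mul, pow_add]
        refine ActsP.of_step (k := k + l) hQ hRQ ?_ ?_
        · intro r hr
          show (m₀ : X) ^ p ^ (k + l) * r = r * (m₀ : X) ^ p ^ (k + l)
          rw [add_comm, ← hmp]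
          exact ((show Commute ((m₀ : X) ^ p ^ l) r from hl r hr).pow_left _).eq
        · intro u hu
          have h1 : π (m₀ ^ p ^ (k + l) * ⟨u, hQK hu⟩ * (m₀ ^ p ^ (k + l))⁻¹ * (⟨u, hQK hu⟩ : K)⁻¹) = 1 := by
            have hcm : Commute ((π m₀) ^ p ^ k) (π ⟨u, hQK hu⟩) := hk _ ⟨⟨u, hQK hu⟩, hu, rfl⟩
            have hcm2 : Commute ((π m₀) ^ p ^ (k + l)) (π ⟨u, hQK hu⟩) := by
              rw [pow_add, pow_mul]
              exact hcm.pow_left _
            simp only [map_mul, map_inv, map_pow]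
            rw [hcm2.eq]
            group
          have h2 := (hπ _).1 h1
          exact h2
      · exact ih X R (hQ.to_le hRQ) (by omega) x y hRx hRy (fun u hu => hxq u (hRQ hu))
          (fun u hu => hyq u (hRQ hu)) hA
    · have hmin' : ∀ R : Subgroup X, R ≤ Q → (∀ u ∈ Q, ∀ r ∈ R, u * r * u⁻¹ ∈ R) →
          (∀ u ∈ R, x * u * x⁻¹ ∈ R) → (∀ u ∈ R, y * u * y⁻¹ ∈ R) → R = ⊥ ∨ R = Q := by
        intro R h1 h2 h3 h4
        by_contra h5
        push Not at h5
        exact hmin ⟨R, h1, h5.1, h5.2, h2, h3, h4⟩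
      have hx' := conj_inv_mem hx
      have hy' := conj_inv_mem hy
      -- `Q` is abelian
      have hab : ∀ u ∈ Q, ∀ v ∈ Q, u * v = v * u := by
        let Z : Subgroup X := Q ⊓ Subgroup.centralizer (Q : Set X)
        have hZinv : ∀ z : X, (∀ u ∈ Q, z * u * z⁻¹ ∈ Q) → (∀ u ∈ Q, z⁻¹ * u * z ∈ Q) → ∀ u ∈ Z, z * u * z⁻¹ ∈ Z := by
          rintro z h1 h2 u ⟨hu, huc⟩
          refine ⟨h1 u hu, Subgroup.mem_centralizer_iff.2 ?_⟩
          intro v hv
          have h3 := (Subgroup.mem_centralizer_iff.1 huc) _ (h2 v hv)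
          calc v * (z * u * z⁻¹) = z * ((z⁻¹ * v * z) * u) * z⁻¹ := by group
            _ = z * (u * (z⁻¹ * v * z)) * z⁻¹ := by rw [h3]
            _ = _ := by group
        have hZne : Z ≠ ⊥ := by
          haveI : Nontrivial ↥Q := (Subgroup.nontrivial_iff_ne_bot _).2 hQ1
          haveI := hQ.center_nontrivial
          obtain ⟨z, hz⟩ := exists_ne (1 : Subgroup.center ↥Q)
          intro h0
          apply hz
          have h1 : ((z : ↥Q) : X) ∈ Z := by
            refine ⟨(z : ↥Q).2, Subgroup.mem_centralizer_iff.2 ?_⟩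
            intro v hv
            have := (Subgroup.mem_center_iff.1 z.2) ⟨v, hv⟩
            exact congrArg Subtype.val this
          rw [h0] at h1
          apply Subtype.ext
          apply Subtype.ext
          exact h1
        have hZQ : Z = Q := by
          rcases hmin' Z inf_le_left (by
              rintro u hu r ⟨hr, hrc⟩
              have h1 : u * r = r * u := (Subgroup.mem_centralizer_iff.1 hrc) u hu
              rw [h1, mul_inv_cancel_right]
              exact ⟨hr, hrc⟩) (hZinv x hx hx') (hZinv y hy hy') with h | h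
          · exact absurd h hZne
          · exact h
        intro u hu v hv
        have h1 : v ∈ Z := by rw [hZQ]; exact hv
        exact (Subgroup.mem_centralizer_iff.1 h1.2) u hu
      have hexp : ∀ u ∈ Q, u ^ p = 1 := by
        let Om : Subgroup X :=
          { carrier := {u | u ∈ Q ∧ u ^ p = 1}
            mul_mem' := by
              rintro a b ⟨ha, ha2⟩ ⟨hb, hb2⟩
              refine ⟨Q.mul_mem ha hb, ?_⟩
              rw [(show Commute a b from hab a ha b hb).mul_pow, ha2, hb2, one_mul]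
            one_mem' := ⟨Q.one_mem, one_pow _⟩
            inv_mem' := by
              rintro a ⟨ha, ha2⟩
              exact ⟨Q.inv_mem ha, by rw [inv_pow, ha2, inv_one]⟩ }
        have hOmne : Om ≠ ⊥ := by
          obtain ⟨t, ht⟩ := IsPGroup.iff_card.1 hQ
          have ht0 : t ≠ 0 := by
            rintro rfl
            rw [pow_zero] at ht
            exact hQ1 (Subgroup.card_eq_one.1 ht)
          have hdvd : p ∣ Nat.card Q := by
            rw [ht]
            exact dvd_pow_self p ht0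
          obtain ⟨w, hw⟩ := exists_prime_orderOf_dvd_card' (G := ↥Q) p hdvd
          intro h0
          have h1 : (w : X) ∈ Om := by
            refine ⟨w.2, ?_⟩
            have := pow_orderOf_eq_one w
            rw [hw] at this
            simpa using congrArg Subtype.val this
          rw [h0] at h1
          have h2 : w = 1 := Subtype.ext h1
          rw [h2, orderOf_one] at hw
          exact hpp.out.one_lt.ne hw
        have hOmQ : Om = Q := by
          have hinv : ∀ z : X, (∀ u ∈ Q, z * u * z⁻¹ ∈ Q) → ∀ u ∈ Om, z * u * z⁻¹ ∈ Om := by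
            rintro z hz u ⟨hu, hu2⟩
            refine ⟨hz u hu, ?_⟩
            rw [conj_pow, hu2]
            group
          rcases hmin' Om (fun u hu => hu.1) (by
              rintro u hu r hr
              have h1 : u * r = r * u := hab u hu r hr.1
              rw [h1, mul_inv_cancel_right]
              exact hr) (hinv x hx) (hinv y hy) with h | h
          · exact absurd h hOmne
          · exact h
        intro u hu
        have h1 : u ∈ Om := by rw [hOmQ]; exact hu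
        exact h1.2
      have hne : ∃ u ∈ Q, x * u * x⁻¹ ≠ u := by
        by_contra h
        push Not at h
        exact hna (actsP_of_central hy hexp hyq h)
      refine qd_of_base hp Q hab hexp x y hx hy hxq hyq hne ?_
      intro R hRQ hRx hRy
      refine hmin' R hRQ ?_ hRx hRy
      intro u hu r hr
      have h1 : u * r = r * u := hab u hu r (hRQ hr)
      rw [h1, mul_inv_cancel_right]
      exact hr

end main

end Cfsg.Agent.Lib.QdNonP
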