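import Mathlib
import Cfsg.Prelude
import Cfsg.Agent.Lib.QdNonP
import Cfsg.Agent.Lib.BaerSuzuki
import Cfsg.Agent.Lib.PCore

/-! `p`-stability in the normalizer form and sections isomorphic to `Qd(p)`. -/

set_option autoImplicit false
set_option linter.all false

namespace Cfsg.Agent.Lib.QdStable

open Cfsg Cfsg.Agent.Lib.QdSection Cfsg.Agent.Lib.QdQuad Cfsg.Agent.Lib.QdNonP
open scoped commutatorElement Pointwise

universe u

section quad

variable {X : Type u} [Group X]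

theorem quad_of_comm {g : X} {P : Subgroup X}
    (h : ⁅⁅P, Subgroup.zpowers g⁆, Subgroup.zpowers g⁆ = ⊥) {u : X} (hu : u ∈ P) :
    g * (g * u * g⁻¹ * u⁻¹) * g⁻¹ = g * u * g⁻¹ * u⁻¹ := by
  have h1 : ⁅u, g⁆ ∈ ⁅P, Subgroup.zpowers g⁆ :=
    Subgroup.commutator_mem_commutator hu (Subgroup.mem_zpowers g)
  have h2 : ⁅P, Subgroup.zpowers g⁆ ≤ Subgroup.centralizer (Subgroup.zpowers g : Set X) :=
    (Subgroup.commutator_eq_bot_iff_le_centralizer).1 h
  have h3 := Subgroup.mem_centralizer_iff.1 (h2 h1) g (Subgroup.mem_zpowers g)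
  have h4 : ⁅u, g⁆ = u * g * u⁻¹ * g⁻¹ := rfl
  have h5 : g * u * g⁻¹ * u⁻¹ = ⁅u, g⁆⁻¹ := by
    rw [h4]
    group
  rw [h5]
  have h6 : g * ⁅u, g⁆⁻¹ = ⁅u, g⁆⁻¹ * g := by
    have h7 : Commute g ⁅u, g⁆ := h3
    exact h7.inv_right.eq
  rw [h6, mul_inv_cancel_right]

theorem comm_of_quad [Finite X] {g : X} {P : Subgroup X}
    (hq : ∀ u ∈ P, g * (g * u * g⁻¹ * u⁻¹) * g⁻¹ = g * u * g⁻¹ * u⁻¹) :
    ⁅⁅P, Subgroup.zpowers g⁆, Subgroup.zpowers g⁆ = ⊥ := by
  rw [Subgroup.commutator_eq_bot_iff_le_centralizer, Subgroup.commutator_le]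
  intro u hu z hz
  obtain ⟨n, hn⟩ := (mem_powers_iff_mem_zpowers).2 hz
  rw [← hn]
  have h1 := pow_conj g u (hq u hu) n
  have h2 : ⁅u, g ^ n⁆ = ((g * u * g⁻¹ * u⁻¹) ^ n)⁻¹ := by
    have h3 : (g * u * g⁻¹ * u⁻¹) ^ n = g ^ n * u * (g ^ n)⁻¹ * u⁻¹ := by
      rw [h1]
      group
    rw [h3]
    show u * g ^ n * u⁻¹ * (g ^ n)⁻¹ = _
    group
  rw [h2]
  rw [Subgroup.mem_centralizer_iff]
  intro y hy
  obtain ⟨j, rfl⟩ := Subgroup.mem_zpowers_iff.1 hy
  have h4 : Commute g (g * u * g⁻¹ * u⁻¹) := by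
    show g * (g * u * g⁻¹ * u⁻¹) = (g * u * g⁻¹ * u⁻¹) * g
    have := hq u hu
    rw [mul_inv_eq_iff_eq_mul] at this
    exact this
  exact ((h4.pow_right n).inv_right.zpow_left j).eq

theorem pow_card_central [Finite X] {p : ℕ} [hpp : Fact p.Prime] {g : X} {P : Subgroup X} (hP : IsPGroup p P)
    (hg : ∀ u ∈ P, g * u * g⁻¹ ∈ P)
    (hq : ∀ u ∈ P, g * (g * u * g⁻¹ * u⁻¹) * g⁻¹ = g * u * g⁻¹ * u⁻¹) :
    ∃ k : ℕ, ∀ u ∈ P, g ^ p ^ k * u = u * g ^ p ^ k := by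
  obtain ⟨t, ht⟩ := IsPGroup.iff_card.1 hP
  refine ⟨t, fun u hu => ?_⟩
  have h1 := pow_conj g u (hq u hu) (p ^ t)
  have hz : g * u * g⁻¹ * u⁻¹ ∈ P := P.mul_mem (hg u hu) (P.inv_mem hu)
  have h5 : (g * u * g⁻¹ * u⁻¹) ^ p ^ t = 1 := by
    have h6 : (⟨_, hz⟩ : ↥P) ^ Nat.card P = 1 := pow_card_eq_one'
    rw [ht] at h6
    simpa using congrArg Subtype.val h6
  rw [h5, one_mul] at h1
  exact mul_inv_eq_iff_eq_mul.1 h1

end quad

section forward

variable {X : Type u} [Group X] [Finite X] {p : ℕ} [hpp : Fact p.Prime]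

set_option maxHeartbeats 4000000 in
theorem invTo_of_not_stable (hp : p ≠ 2) (h : ¬ IsNormalizerPStable p X) : InvTo ↥(Cfsg.qd p) X := by
  classical
  unfold IsNormalizerPStable at h
  push Not at h
  obtain ⟨P, hP, g, hg, hq, hnot⟩ := h
  set N := Subgroup.normalizer (P : Set X) with hN
  set C' := (Subgroup.centralizer (P : Set X)).subgroupOf N with hC'
  have hgP : ∀ u ∈ P, g * u * g⁻¹ ∈ P := fun u hu => (Subgroup.mem_normalizer_iff.1 hg u).1 hu
  have hxq := fun u (hu : u ∈ P) => quad_of_comm hq hu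
  set gbar : N ⧸ C' := QuotientGroup.mk (⟨g, hg⟩ : N) with hgbar
  have hgp : IsPGroup p (Subgroup.zpowers gbar) := by
    obtain ⟨k, hk⟩ := pow_card_central hP hgP hxq
    have h1 : gbar ^ p ^ k = 1 := by
      rw [hgbar, ← QuotientGroup.mk_pow]
      apply (QuotientGroup.eq_one_iff _).2
      show g ^ p ^ k ∈ Subgroup.centralizer (P : Set X)
      rw [Subgroup.mem_centralizer_iff]
      intro u hu
      exact (hk u hu).symm
    rintro ⟨a, ha⟩
    obtain ⟨m, rfl⟩ := Subgroup.mem_zpowers_iff.1 ha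
    refine ⟨k, Subtype.ext ?_⟩
    show (gbar ^ m) ^ p ^ k = 1
    rw [← zpow_natCast, ← zpow_mul, mul_comm, zpow_mul, zpow_natCast, h1, one_zpow]
  by_cases hAll : ∀ hbar : N ⧸ C', IsPGroup p ↥(Subgroup.zpowers gbar ⊔ (Subgroup.zpowers gbar).map (MulAut.conj hbar).toMonoidHom)
  · exfalso
    apply hnot
    exact (Cfsg.Agent.Lib.BaerSuzuki.le_pCore_of_conj _ hgp hAll) (Subgroup.mem_zpowers gbar)
  push Not at hAll
  obtain ⟨hbar, hhbar⟩ := hAll
  obtain ⟨h₀, rfl⟩ := QuotientGroup.mk_surjective hbar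
  let y : X := (h₀ : X) * g * (h₀ : X)⁻¹
  have hyN : y ∈ N := N.mul_mem (N.mul_mem h₀.2 hg) (N.inv_mem h₀.2)
  have hyP : ∀ u ∈ P, y * u * y⁻¹ ∈ P := fun u hu => (Subgroup.mem_normalizer_iff.1 hyN u).1 hu
  have hyq : ∀ u ∈ P, y * (y * u * y⁻¹ * u⁻¹) * y⁻¹ = y * u * y⁻¹ * u⁻¹ := by
    intro u hu
    have hu' : (h₀ : X)⁻¹ * u * (h₀ : X) ∈ P := by
      have := (Subgroup.mem_normalizer_iff.1 (N.inv_mem h₀.2) u).1 hu
      simpa using this
    have h1 := hxq _ hu'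
    have h2 : y * (y * u * y⁻¹ * u⁻¹) * y⁻¹ = (h₀ : X) * (g * (g * ((h₀ : X)⁻¹ * u * (h₀ : X)) * g⁻¹ * ((h₀ : X)⁻¹ * u * (h₀ : X))⁻¹) * g⁻¹) * (h₀ : X)⁻¹ := by
      simp only [y]
      group
    have h3 : y * u * y⁻¹ * u⁻¹ = (h₀ : X) * (g * ((h₀ : X)⁻¹ * u * (h₀ : X)) * g⁻¹ * ((h₀ : X)⁻¹ * u * (h₀ : X))⁻¹) * (h₀ : X)⁻¹ := by
      simp only [y]
      group
    rw [h2, h3, h1]
  refine qd_of_nonP hp (Nat.card P) X P hP le_rfl g y hgP hyP hxq hyq ?_
  intro hA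
  apply hhbar
  let g₀ : N := ⟨g, hg⟩
  let E : Subgroup N := Subgroup.closure ({g₀, h₀ * g₀ * h₀⁻¹} : Set N)
  have hEX : E ≤ (Subgroup.closure ({g, y} : Set X)).comap N.subtype := by
    rw [Subgroup.closure_le]
    rintro z (rfl | rfl)
    · exact Subgroup.subset_closure (by simp [g₀])
    · exact Subgroup.subset_closure (by simp [y, g₀])
  have hle : Subgroup.zpowers gbar ⊔ (Subgroup.zpowers gbar).map (MulAut.conj (QuotientGroup.mk h₀ : N ⧸ C')).toMonoidHom ≤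
      E.map (QuotientGroup.mk' C') := by
    apply sup_le
    · rw [Subgroup.zpowers_le]
      exact ⟨g₀, Subgroup.subset_closure (by simp), rfl⟩
    · rw [MonoidHom.map_zpowers, Subgroup.zpowers_le]
      refine ⟨h₀ * g₀ * h₀⁻¹, Subgroup.subset_closure (by simp), ?_⟩
      show _ = (MulAut.conj (QuotientGroup.mk h₀ : N ⧸ C')) gbar
      rw [MulAut.conj_apply]
      rfl
  rintro ⟨z, hz⟩
  obtain ⟨e, he, rfl⟩ := hle hz
  obtain ⟨k, hk⟩ := hA _ (hEX he)
  refine ⟨k, Subtype.ext ?_⟩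
  show (QuotientGroup.mk' C' e) ^ p ^ k = 1
  rw [← map_pow]
  apply (QuotientGroup.eq_one_iff _).2
  show ((e : X)) ^ p ^ k ∈ Subgroup.centralizer (P : Set X)
  rw [Subgroup.mem_centralizer_iff]
  intro u hu
  exact (hk u hu).symm

end forward

section converse

open Cfsg.Agent.Lib.DicksonLite

variable {X : Type u} [Group X] [Finite X] {p : ℕ} [hpp : Fact p.Prime]

set_option maxHeartbeats 4000000 in
/-- A group with a normal subgroup on which it acts as `SL₂(p)` is not stable. -/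
theorem not_stable_of_action (hp : p ≠ 2) (ν : (Fin 2 → ZMod p) → X) (hadd : ∀ u v, ν (u + v) = ν u * ν v)
    (hinj : Function.Injective ν) (τ : X →* Matrix.SpecialLinearGroup (Fin 2) (ZMod p))
    (hτ : Function.Surjective τ)
    (hact : ∀ x u, x * ν u * x⁻¹ = ν ((τ x : Matrix (Fin 2) (Fin 2) (ZMod p)).mulVec u)) :
    ¬ IsNormalizerPStable p X := by
  classical
  intro hst
  have hν0 : ν 0 = 1 := by
    have := hadd 0 0
    rw [add_zero] at this
    exact (mul_eq_left.1 this.symm)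
  have hνneg : ∀ v, ν (-v) = (ν v)⁻¹ := by
    intro v
    rw [eq_inv_iff_mul_eq_one, ← hadd, neg_add_cancel, hν0]
  let P : Subgroup X :=
    { carrier := {x | ∃ u, x = ν u}
      mul_mem' := by
        rintro _ _ ⟨u, rfl⟩ ⟨v, rfl⟩
        exact ⟨u + v, (hadd u v).symm⟩
      one_mem' := ⟨0, hν0.symm⟩
      inv_mem' := by
        rintro _ ⟨u, rfl⟩
        exact ⟨-u, (hνneg u).symm⟩ }
  have hνpow : ∀ (n : ℕ) (v : Fin 2 → ZMod p), ν v ^ n = ν ((n : ZMod p) • v) := by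
    intro n v
    induction n with
    | zero => simp [hν0]
    | succ n ih =>
      rw [pow_succ, ih, ← hadd]
      congr 1
      push_cast
      rw [add_smul, one_smul]
  have hPp : IsPGroup p P := by
    rintro ⟨_, u, rfl⟩
    refine ⟨1, Subtype.ext ?_⟩
    show ν u ^ p ^ 1 = 1
    rw [pow_one, hνpow]
    simp [hν0]
  have hPn : ∀ x : X, x ∈ Subgroup.normalizer (P : Set X) := by
    intro x
    apply mem_normalizer_of_conj
    rintro _ ⟨u, rfl⟩
    exact ⟨_, hact x u⟩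
  obtain ⟨g, hg⟩ := hτ (t₁ 1)
  have hτg : ∀ u, (τ g : Matrix (Fin 2) (Fin 2) (ZMod p)).mulVec u = u + ![u 1, 0] := by
    intro u
    rw [hg]
    ext i
    fin_cases i
    · simp [Matrix.mulVec, dotProduct, Fin.sum_univ_two]
    · simp [Matrix.mulVec, dotProduct, Fin.sum_univ_two]
  have hq : ∀ u ∈ P, g * (g * u * g⁻¹ * u⁻¹) * g⁻¹ = g * u * g⁻¹ * u⁻¹ := by
    rintro _ ⟨u, rfl⟩
    have h1 : g * ν u * g⁻¹ * (ν u)⁻¹ = ν ![u 1, 0] := by
      rw [hact, hτg, ← hνneg, ← hadd]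
      congr 1
      abel
    rw [h1, hact, hτg]
    congr 1
    ext i
    fin_cases i <;> simp
  have hmem := hst P hPp g (hPn g) (comm_of_quad hq)
  set N := Subgroup.normalizer (P : Set X) with hN
  set C' := (Subgroup.centralizer (P : Set X)).subgroupOf N with hC'
  set O := pCore p (↥N ⧸ C') with hO
  haveI hOn : O.Normal := Cfsg.Agent.Lib.PCore.pCore_normal p _
  let D : Subgroup (Matrix.SpecialLinearGroup (Fin 2) (ZMod p)) :=
    ((O.comap (QuotientGroup.mk' C')).map N.subtype).map τ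
  have ht1 : t₁ (1 : ZMod p) ∈ D := ⟨g, ⟨⟨g, hPn g⟩, hmem, rfl⟩, hg⟩
  have hDn : ∀ A, ∀ B ∈ D, A * B * A⁻¹ ∈ D := by
    rintro A _ ⟨_, ⟨n, hn, rfl⟩, rfl⟩
    obtain ⟨a, rfl⟩ := hτ A
    let a₀ : N := ⟨a, hPn a⟩
    refine ⟨(a₀ * n * a₀⁻¹ : N), ⟨a₀ * n * a₀⁻¹, ?_, rfl⟩, ?_⟩
    · show QuotientGroup.mk' C' (a₀ * n * a₀⁻¹) ∈ O
      rw [map_mul, map_mul, map_inv]
      exact hOn.conj_mem _ hn _
    · show τ (a * n * a⁻¹) = _
      rw [map_mul, map_mul, map_inv]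
      rfl
  let w : Matrix.SpecialLinearGroup (Fin 2) (ZMod p) := ⟨!![0, 1; -1, 0], by simp [Matrix.det_fin_two]⟩
  have hw : w * t₁ (1 : ZMod p) * w⁻¹ = t₂ (-1 : ZMod p) := by
    have w00 : w 0 0 = 0 := rfl
    have w01 : w 0 1 = 1 := rfl
    have w10 : w 1 0 = -1 := rfl
    have w11 : w 1 1 = 0 := rfl
    rw [mul_inv_eq_iff_eq_mul]
    apply sl_ext <;> simp [mul_00, mul_01, mul_10, mul_11, w00, w01, w10, w11]
  have ht2' : t₂ (-1 : ZMod p) ∈ D := by
    rw [← hw]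
    exact hDn _ _ ht1
  have ht2 : t₂ (1 : ZMod p) ∈ D := by
    have := D.inv_mem ht2'
    rwa [t₂_inv, neg_neg] at this
  have hDtop : D = ⊤ := sl2_gen D ht1 ht2
  have hneg : neg1 p ∈ D := by rw [hDtop]; trivial
  obtain ⟨_, ⟨n, hn, rfl⟩, hx⟩ := hneg
  obtain ⟨k, hk⟩ := (Cfsg.Agent.Lib.PCore.isPGroup_pCore p (↥N ⧸ C')) ⟨_, hn⟩
  have hk' : (QuotientGroup.mk' C' n) ^ p ^ k = 1 := by
    simpa using congrArg Subtype.val hk
  rw [← map_pow] at hk'
  have hnC₀ : (n ^ p ^ k : N) ∈ C' := (QuotientGroup.eq_one_iff _).1 hk'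
  have hnC : ((n : X)) ^ p ^ k ∈ Subgroup.centralizer (P : Set X) := hnC₀
  have hτC : ∀ c ∈ Subgroup.centralizer (P : Set X), τ c = 1 := by
    intro c hc
    apply Subtype.ext
    apply Matrix.ext_iff_mulVec.2
    intro u
    apply hinj
    rw [← hact, Matrix.SpecialLinearGroup.coe_one, Matrix.one_mulVec]
    have := (Subgroup.mem_centralizer_iff.1 hc) (ν u) ⟨u, rfl⟩
    rw [← this]
    group
  have h5 := hτC _ hnC
  rw [map_pow] at h5
  have h6 : τ (n : X) = neg1 p := hx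
  rw [h6] at h5
  have hodd : Odd (p ^ k) := (hpp.out.odd_of_ne_two hp).pow
  obtain ⟨m, hm⟩ := hodd
  rw [hm, pow_succ, pow_mul, pow_two, neg1_sq, one_pow, one_mul] at h5
  exact neg1_ne hp h5

end converse

section final

open Cfsg.Agent.Lib.DicksonLite

variable {p : ℕ} [hpp : Fact p.Prime]

/-- The extraction of the block. -/
theorem exists_tau : ∃ τ : ↥(Cfsg.qd p) →* Matrix.SpecialLinearGroup (Fin 2) (ZMod p),
    ∀ B u, τ ⟨blk B u, blk_mem B u⟩ = B := by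
  have huniq : ∀ B B' (u u' : Fin 2 → ZMod p), blk B u = blk B' u' → B = B' := by
    intro B B' u u' h
    have h1 : ∀ i j : Fin 2, (blk B u : Matrix (Fin 3) (Fin 3) (ZMod p)) (Fin.castLE (by omega) i) (Fin.castLE (by omega) j) =
        (blk B' u' : Matrix (Fin 3) (Fin 3) (ZMod p)) (Fin.castLE (by omega) i) (Fin.castLE (by omega) j) := by
      intro i j
      rw [h]
    apply Subtype.ext
    ext i j
    have := h1 i j
    fin_cases i <;> fin_cases j <;> simpa [blk] using this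
  have hex : ∀ M : ↥(Cfsg.qd p), ∃ B u, blk B u = (M : Matrix.SpecialLinearGroup (Fin 3) (ZMod p)) :=
    fun M => exists_blk _ M.2
  choose f hf using hex
  choose v hv using hf
  refine ⟨MonoidHom.mk' f ?_, ?_⟩
  · intro a b
    have h1 := hv (a * b)
    have h2 : ((a * b : ↥(Cfsg.qd p)) : Matrix.SpecialLinearGroup (Fin 3) (ZMod p)) = blk (f a) (v a) * blk (f b) (v b) := by
      rw [hv, hv]
      rfl
    rw [h2, blk_mul] at h1
    exact huniq _ _ _ _ h1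
  · intro B u
    exact huniq _ _ _ _ (hv ⟨blk B u, blk_mem B u⟩)

theorem qd_not_stable_core (hp : p ≠ 2) : ∃ (ν : (Fin 2 → ZMod p) → ↥(Cfsg.qd p))
    (τ : ↥(Cfsg.qd p) →* Matrix.SpecialLinearGroup (Fin 2) (ZMod p)),
    (∀ u v, ν (u + v) = ν u * ν v) ∧ Function.Injective ν ∧ Function.Surjective τ ∧
    ∀ x u, x * ν u * x⁻¹ = ν ((τ x : Matrix (Fin 2) (Fin 2) (ZMod p)).mulVec u) := by
  obtain ⟨τ, hτ⟩ := exists_tau (p := p)
  let ν : (Fin 2 → ZMod p) → ↥(Cfsg.qd p) := fun u => ⟨blk 1 u, blk_mem 1 u⟩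
  have hadd : ∀ u v, ν (u + v) = ν u * ν v := by
    intro u v
    apply Subtype.ext
    show blk 1 (u + v) = blk 1 u * blk 1 v
    rw [blk_mul, one_mul, Matrix.SpecialLinearGroup.coe_one, Matrix.one_mulVec]
  refine ⟨ν, τ, hadd, ?_, ?_, ?_⟩
  · intro u v h
    have h1 : blk 1 u = blk 1 v := congrArg Subtype.val h
    have h2 : ∀ i : Fin 2, (blk 1 u : Matrix (Fin 3) (Fin 3) (ZMod p)) (Fin.castLE (by omega) i) 2 =
        (blk 1 v : Matrix (Fin 3) (Fin 3) (ZMod p)) (Fin.castLE (by omega) i) 2 := by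
      intro i
      rw [h1]
    ext i
    have := h2 i
    fin_cases i <;> simpa [blk] using this
  · intro B
    exact ⟨⟨blk B 0, blk_mem B 0⟩, hτ B 0⟩
  · rintro ⟨M, hM⟩ u
    obtain ⟨B, w, rfl⟩ := exists_blk M hM
    rw [mul_inv_eq_iff_eq_mul]
    apply Subtype.ext
    show blk B w * blk 1 u = blk 1 (((τ ⟨blk B w, hM⟩ : Matrix.SpecialLinearGroup (Fin 2) (ZMod p)) : Matrix (Fin 2) (Fin 2) (ZMod p)).mulVec u) * blk B w
    have : τ ⟨blk B w, hM⟩ = B := hτ B w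
    rw [this, blk_mul, blk_mul, one_mul, mul_one, Matrix.SpecialLinearGroup.coe_one, Matrix.one_mulVec, add_comm]

/-- The main theorem of this file. -/
theorem involves_iff_not_stable {G : Type u} [Group G] [Finite G] (hp : p ≠ 2) :
    ¬ Cfsg.Involves ↥(Cfsg.qd p) G ↔
      ∀ (K R : Subgroup G) [hR : (R.subgroupOf K).Normal], IsNormalizerPStable p (K ⧸ R.subgroupOf K) := by
  constructor
  · intro h K R hR
    by_contra hst
    apply h
    have h1 := invTo_of_not_stable hp hst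
    exact involves_iff.2 ((h1.of_quot).of_le)
  · rintro h ⟨K, R, hn, ⟨e⟩⟩
    haveI := hn
    obtain ⟨ν, τ, hadd, hinj, hτ, hact⟩ := qd_not_stable_core (p := p) hp
    refine not_stable_of_action hp (fun u => e.symm (ν u)) ?_ ?_ (τ.comp e.toMonoidHom) ?_ ?_ (h K R)
    · intro u v
      rw [hadd, map_mul]
    · intro u v he
      exact hinj (e.symm.injective he)
    · exact hτ.comp e.surjective
    · intro x u
      apply e.injective
      simp only [map_mul, map_inv, MulEquiv.apply_symm_apply, MonoidHom.comp_apply]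
      exact hact _ _

end final

end Cfsg.Agent.Lib.QdStable
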