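import Cfsg.Agent.Lib.FusionFactorModel
import Cfsg.Agent.Lib.FusionModelExist
import Cfsg.Agent.Lib.FusionHyp
import Cfsg.Agent.Lib.FusionHypGroup
import Cfsg.Agent.Lib.QdStable

/-!
`p`-stability of fusion systems: quadratically acting automorphisms lie in `O_p` of the automizer.
-/

set_option autoImplicit false

universe u

namespace Cfsg.Agent.Lib.FusionPStable

open Cfsg Cfsg.FusionSystem Cfsg.Agent.Lib.FusionBasic Cfsg.Agent.Lib.FusionAut
  Cfsg.Agent.Lib.FusionSat Cfsg.Agent.Lib.FusionAlperin Cfsg.Agent.Lib.FusionNormal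
  Cfsg.Agent.Lib.FusionFactor Cfsg.Agent.Lib.FusionLocal Cfsg.Agent.Lib.FusionNormSat
  Cfsg.Agent.Lib.FusionModel Cfsg.Agent.Lib.FusionLocalModel Cfsg.Agent.Lib.FusionEmb
  Cfsg.Agent.Lib.FusionQuot Cfsg.Agent.Lib.FusionHyp
  Cfsg.Agent.Lib.PCore

/-- Quadratic action. -/
def IsQuad {X : Type*} [Group X] (χ : MulAut X) : Prop :=
  ∀ a : X, (χ a⁻¹) * a * (χ a⁻¹) * (χ (χ a)) = 1

/-- `p`-stability of a system. -/
def PStab (p : ℕ) {Ω : Type*} [Group Ω] {S : Subgroup Ω} (F : FusionSystem S) : Prop :=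
  ∀ Q : Subgroup Ω, F.IsFullyNormalized Q → ∀ χ : MulAut ↥Q, χ ∈ F.autGroup Q → IsQuad χ →
    χ ∈ ((pCore p ↥(F.autGroup Q)).map (F.autGroup Q).subtype : Subgroup (MulAut ↥Q))

section algebra

variable {X Y : Type*} [Group X] [Group Y]

theorem IsQuad.fix {χ : MulAut X} (h : IsQuad χ) (a : X) : χ (a⁻¹ * χ a) = a⁻¹ * χ a := by
  have h1 := h a
  rw [map_mul, map_inv]
  rw [map_inv] at h1
  calc (χ a)⁻¹ * χ (χ a) = (a⁻¹ * χ a) * (((χ a)⁻¹ * a) * ((χ a)⁻¹ * χ (χ a))) := by group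
    _ = a⁻¹ * χ a := by
      have e : (χ a)⁻¹ * a * ((χ a)⁻¹ * χ (χ a)) = (χ a)⁻¹ * a * (χ a)⁻¹ * χ (χ a) := by group
      rw [e, h1, mul_one]

theorem IsQuad.fix' {χ : MulAut X} (h : IsQuad χ) (a : X) : χ (χ a * a⁻¹) = χ a * a⁻¹ := by
  have h1 := h.fix a⁻¹
  rw [inv_inv, map_inv] at h1
  have h2 := congrArg (·⁻¹) h1
  simp only [mul_inv_rev, inv_inv, map_mul, map_inv] at h2 ⊢
  simpa using h2

theorem isQuad_congr (e : X ≃* Y) {χ : MulAut X} (h : IsQuad χ) : IsQuad (MulAut.congr e χ) := by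
  intro a
  obtain ⟨b, rfl⟩ := e.surjective a
  have hc : ∀ c : X, MulAut.congr e χ (e c) = e (χ c) := by
    intro c
    simp [MulAut.congr_apply]
  have h1 := h b
  rw [← map_inv, hc, hc, hc, ← map_mul, ← map_mul, ← map_mul, h1, map_one]

/-- A quadratic automorphism of a finite `p`-group has `p`-power order. -/
theorem IsQuad.pow_eq_one {p : ℕ} [Fact p.Prime] [Finite X] (hX : IsPGroup p X) {χ : MulAut X} (h : IsQuad χ) :
    ∃ k, χ ^ p ^ k = 1 := by
  obtain ⟨t, ht⟩ := IsPGroup.iff_card.1 hX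
  refine ⟨t, ?_⟩
  ext a
  have key : ∀ n : ℕ, (χ ^ n) a = a * (a⁻¹ * χ a) ^ n := by
    intro n
    induction n with
    | zero => simp
    | succ n ih =>
      rw [pow_succ', MulAut.mul_apply, ih, map_mul, map_pow, h.fix, pow_succ', ← mul_assoc,
        mul_inv_cancel_left]
  rw [key, ← ht, pow_card_eq_one', mul_one]
  rfl

theorem mem_pCore_of_surj {p : ℕ} (f : X →* Y) (hf : Function.Surjective f) {x : X}
    (h : x ∈ pCore p X) : f x ∈ pCore p Y :=
  le_pCore (Subgroup.Normal.map (pCore_normal p X) f hf) ((isPGroup_pCore p X).map f) ⟨x, h, rfl⟩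

/-- Membership in the core of a quotient. -/
theorem mem_pCore_quot_iff {p : ℕ} {N A : Type*} [Group N] [Group A] (θ : N →* A)
    (hθ : Function.Surjective θ) (C₀ : Subgroup N) [C₀.Normal] (hker : θ.ker = C₀) (n : N) :
    (QuotientGroup.mk n : N ⧸ C₀) ∈ pCore p (N ⧸ C₀) ↔ θ n ∈ pCore p A := by
  constructor
  · intro h
    have hle : C₀ ≤ θ.ker := hker.ge
    have hs : Function.Surjective (QuotientGroup.lift C₀ θ hle) := by
      intro y
      obtain ⟨n, rfl⟩ := hθ y
      exact ⟨QuotientGroup.mk n, rfl⟩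
    exact mem_pCore_of_surj (QuotientGroup.lift C₀ θ hle) hs h
  · intro h
    have hle : θ.ker ≤ (QuotientGroup.mk' C₀).ker := by
      rw [hker, QuotientGroup.ker_mk']
    have hs : Function.Surjective (θ.liftOfSurjective hθ ⟨QuotientGroup.mk' C₀, hle⟩) := by
      intro y
      obtain ⟨n, rfl⟩ := QuotientGroup.mk'_surjective C₀ y
      refine ⟨θ n, ?_⟩
      exact MonoidHom.liftOfRightInverse_comp_apply _ _ _ ⟨_, hle⟩ n
    have h2 := mem_pCore_of_surj (θ.liftOfSurjective hθ ⟨QuotientGroup.mk' C₀, hle⟩) hs h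
    have h3 : θ.liftOfSurjective hθ ⟨QuotientGroup.mk' C₀, hle⟩ (θ n) = QuotientGroup.mk' C₀ n :=
      MonoidHom.liftOfRightInverse_comp_apply _ _ _ ⟨_, hle⟩ n
    rw [h3] at h2
    exact h2

/-- `O_p` of a group meets a subgroup inside `O_p` of the subgroup. -/
theorem op_of_le {p : ℕ} {M : Type*} [Group M] {A B : Subgroup M} (hAB : A ≤ B) {χ : M}
    (hχ : χ ∈ A) (h : χ ∈ (pCore p ↥B).map B.subtype) : χ ∈ (pCore p ↥A).map A.subtype := by
  obtain ⟨y, hy, rfl⟩ := h
  have hO : (((pCore p ↥B).map B.subtype).subgroupOf A).Normal := by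
    refine Subgroup.Normal.mk fun a ha g => ?_
    obtain ⟨z, hz, ez⟩ := ha
    refine ⟨Subgroup.inclusion hAB g * z * (Subgroup.inclusion hAB g)⁻¹,
      (pCore_normal p ↥B).conj_mem z hz _, ?_⟩
    show (g : M) * z * (g : M)⁻¹ = _
    rw [show (z : M) = a from ez]
    rfl
  have hp : IsPGroup p ↥(((pCore p ↥B).map B.subtype).subgroupOf A) :=
    ((isPGroup_pCore p ↥B).map B.subtype).comap_of_injective _ (Subgroup.subtype_injective A)
  have hle := le_pCore hO hp
  exact ⟨⟨y, hχ⟩, hle ⟨y, hy, rfl⟩, rfl⟩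

/-- In the automizer of a cyclic group, `p`-elements lie in `O_p`. -/
theorem op_of_cyclic {p : ℕ} [Finite X] [IsCyclic X] (A : Subgroup (MulAut X)) {χ : MulAut X}
    (hχ : χ ∈ A) {k : ℕ} (hk : χ ^ p ^ k = 1) : χ ∈ (pCore p ↥A).map A.subtype := by
  have hcomm : ∀ a b : MulAut X, a * b = b * a := by
    intro a b
    apply (IsCyclic.mulAutMulEquiv X).injective
    rw [map_mul, map_mul, mul_comm]
  have hN : (Subgroup.zpowers (⟨χ, hχ⟩ : A)).Normal := by
    refine Subgroup.Normal.mk fun a ha g => ?_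
    have : g * a * g⁻¹ = a := by
      have h1 : g * a = a * g := Subtype.ext (hcomm _ _)
      rw [h1]
      group
    rw [this]
    exact ha
  have hp : IsPGroup p ↥(Subgroup.zpowers (⟨χ, hχ⟩ : A)) := by
    rintro ⟨_, n, rfl⟩
    refine ⟨k, Subtype.ext (Subtype.ext ?_)⟩
    show (χ ^ n) ^ p ^ k = 1
    rw [← zpow_natCast, ← zpow_mul, mul_comm, zpow_mul, zpow_natCast, hk, one_zpow]
  exact ⟨⟨χ, hχ⟩, le_pCore hN hp (Subgroup.mem_zpowers _), rfl⟩

end algebra

section system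

variable {p : ℕ} [Fact p.Prime] {Ω : Type u} [Group Ω] {S : Subgroup Ω}

theorem autGroupCongr_surj {F : FusionSystem S} {P Q : Subgroup Ω} {θ : Q →* Ω}
    (hθ : θ ∈ F.Hom Q) (hr : θ.range = P) : Function.Surjective (autGroupCongr hθ hr) := by
  obtain ⟨ψ, hψ, h1, h2, h3⟩ := exists_inverse F hθ hr
  have hrψ : ψ.range = Q := by
    ext y
    constructor
    · rintro ⟨z, rfl⟩
      exact h2 z
    · intro hy
      have hm : θ ⟨y, hy⟩ ∈ P := hr ▸ ⟨⟨y, hy⟩, rfl⟩
      exact ⟨⟨_, hm⟩, h1 ⟨y, hy⟩ hm⟩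
  have he : isoOfRange hψ hrψ = (isoOfRange hθ hr).symm := by
    apply MulEquiv.ext
    intro z
    rw [MulEquiv.eq_symm_apply]
    apply Subtype.ext
    exact h3 z (h2 z)
  intro β
  have hmem := congr_mem_autGroup hψ hrψ β.2
  rw [he] at hmem
  refine ⟨⟨_, hmem⟩, Subtype.ext ?_⟩
  ext x
  simp [autGroupCongr, MulAut.congr_apply]

theorem op_congr {F : FusionSystem S} {P Q : Subgroup Ω} {θ : Q →* Ω}
    (hθ : θ ∈ F.Hom Q) (hr : θ.range = P) {χ : MulAut Q}
    (h : χ ∈ (pCore p ↥(F.autGroup Q)).map (F.autGroup Q).subtype) :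
    MulAut.congr (isoOfRange hθ hr) χ ∈ (pCore p ↥(F.autGroup P)).map (F.autGroup P).subtype := by
  obtain ⟨y, hy, rfl⟩ := h
  exact ⟨autGroupCongr hθ hr y, mem_pCore_of_surj _ (autGroupCongr_surj hθ hr) hy, rfl⟩

theorem op_congr_back {F : FusionSystem S} {P Q : Subgroup Ω} {θ : Q →* Ω}
    (hθ : θ ∈ F.Hom Q) (hr : θ.range = P) {χ : MulAut Q}
    (h : MulAut.congr (isoOfRange hθ hr) χ ∈ (pCore p ↥(F.autGroup P)).map (F.autGroup P).subtype) :
    χ ∈ (pCore p ↥(F.autGroup Q)).map (F.autGroup Q).subtype := by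
  obtain ⟨ψ, hψ, h1, h2, h3⟩ := exists_inverse F hθ hr
  have hrψ : ψ.range = Q := by
    ext y
    constructor
    · rintro ⟨z, rfl⟩
      exact h2 z
    · intro hy
      have hm : θ ⟨y, hy⟩ ∈ P := hr ▸ ⟨⟨y, hy⟩, rfl⟩
      exact ⟨⟨_, hm⟩, h1 ⟨y, hy⟩ hm⟩
  have he : isoOfRange hψ hrψ = (isoOfRange hθ hr).symm := by
    apply MulEquiv.ext
    intro z
    rw [MulEquiv.eq_symm_apply]
    apply Subtype.ext
    exact h3 z (h2 z)
  have h4 := op_congr hψ hrψ h
  rw [he] at h4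
  have e : MulAut.congr (isoOfRange hθ hr).symm (MulAut.congr (isoOfRange hθ hr) χ) = χ := by
    ext x
    simp [MulAut.congr_apply]
  rwa [e] at h4

/-- Stability at fully normalized subgroups gives stability everywhere. -/
theorem stab_all [Finite S] {F : FusionSystem S} (hst : PStab p F) {Q : Subgroup Ω} (hQ : Q ≤ S)
    {χ : MulAut Q} (hχ : χ ∈ F.autGroup Q) (hq : IsQuad χ) :
    χ ∈ (pCore p ↥(F.autGroup Q)).map (F.autGroup Q).subtype := by
  obtain ⟨Q', ⟨θ, hθ, hr⟩, hn⟩ := exists_isConj_fullyNormalized F hQ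
  have h1 := hst Q' hn _ (congr_mem_autGroup hθ hr hχ) (isQuad_congr _ hq)
  exact op_congr_back hθ hr h1

theorem autGroup_normalizer_le {F : FusionSystem S} {R Q : Subgroup Ω}
    {N : FusionSystem (normalizerIn S R)} (hN : F.IsNormalizerSystem R N)
    (hQ : Q ≤ normalizerIn S R) : N.autGroup Q ≤ F.autGroup Q := by
  intro α hα
  rw [mem_autGroup_iff N hQ, hN] at hα
  rw [mem_autGroup_iff F (hQ.trans inf_le_left)]
  exact hα.1

/-- Local systems of stable systems are stable. -/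
theorem pstab_normalizer [Finite S] {F : FusionSystem S} (hst : PStab p F) {R : Subgroup Ω}
    {N : FusionSystem (normalizerIn S R)} (hN : F.IsNormalizerSystem R N) : PStab p N := by
  intro Q hQ χ hχ hq
  have hQT : Q ≤ normalizerIn S R := hQ.1
  have hle := autGroup_normalizer_le hN hQT
  exact op_of_le hle hχ (stab_all hst (hQT.trans inf_le_left) (hle hχ) hq)

/-- The local characterization at noncyclic subgroups. -/
theorem pstab_iff_noncyclic [Finite S] (hS : IsPGroup p S) (F : FusionSystem S) :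
    PStab p F ↔ ∀ R : Subgroup Ω, F.IsFullyNormalized R → ¬ IsCyclic ↥R →
      ∀ N : FusionSystem (normalizerIn S R), F.IsNormalizerSystem R N → PStab p N := by
  constructor
  · intro hst R _ _ N hN
    exact pstab_normalizer hst hN
  · intro h Q hQ χ hχ hq
    have hQS := hQ.1
    haveI hfQ : Finite Q := finite_of_le hQS
    by_cases hcyc : IsCyclic ↥Q
    · obtain ⟨k, hk⟩ := hq.pow_eq_one (hS.to_le hQS)
      exact op_of_cyclic _ hχ hk
    · have hNx := isNormalizerSystem_normalizerSystem F Q hQS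
      have hst := h Q hQ hcyc _ hNx
      have hnorm := isNormal_normalizerSystem hNx hQS
      haveI hfT : Finite (normalizerIn S Q) := finite_of_le inf_le_left
      have hfull : (normalizerSystem F Q hQS).IsFullyNormalized Q := by
        refine ⟨le_normalizerIn hQS, ?_⟩
        rintro _ ⟨φ, hφ, rfl⟩
        rw [(StronglyClosed.weaklyClosed (IsNormal.stronglyClosed hnorm)).2 φ hφ]
      have haut := autGroup_normalizerSystem hNx hQS
      have h1 := hst Q hfull χ (by rw [haut]; exact hχ) hq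
      rw [haut] at h1
      exact h1

end system

section centricRadical

variable {p : ℕ} [Fact p.Prime] {Ω : Type u} [Group Ω] {S : Subgroup Ω} [Finite S]

theorem mem_of_range_eq {A R : Subgroup Ω} {ψ : A →* Ω} (hr : ψ.range = R) (x : A) : ψ x ∈ R := by
  subst hr
  exact ⟨x, rfl⟩

/-- Every automorphism of `Q` extends to an automorphism of `R`. -/
def ExtProp (F : FusionSystem S) {Q R : Subgroup Ω} (hQR : Q ≤ R) : Prop :=
  ∀ α ∈ F.autGroup Q, ∃ ψ ∈ F.Hom R, (∀ x : Q, ψ (Subgroup.inclusion hQR x) = α x) ∧ ψ.range = R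

theorem radical_case (hS : IsPGroup p S) {F : FusionSystem S} (hF : F.IsSaturated p)
    (hN : ∀ R : Subgroup Ω, F.IsFullyNormalized R → F.IsCentric R → F.IsRadical p R →
      ∀ N : FusionSystem (normalizerIn S R), F.IsNormalizerSystem R N → PStab p N)
    {Q R : Subgroup Ω} (hQn : F.IsFullyNormalized Q) (hRn : F.IsFullyNormalized R)
    (hRc : F.IsCentric R) (hrad : F.IsRadical p R) (hQR : Q ≤ R)
    (hNR : normalizerIn S Q ≤ Subgroup.normalizer (R : Set Ω)) (hext : ExtProp F hQR)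
    (χ : MulAut Q) (hχ : χ ∈ F.autGroup Q) (hq : IsQuad χ) :
    χ ∈ (pCore p ↥(F.autGroup Q)).map (F.autGroup Q).subtype := by
  have hRS := hRc.1
  haveI hfR : Finite R := finite_of_le hRS
  have hNx := isNormalizerSystem_normalizerSystem F R hRS
  have hst := hN R hRn hRc hrad _ hNx
  have hQT : Q ≤ normalizerIn S R := hQR.trans (le_normalizerIn hRS)
  haveI hfT : Finite (normalizerIn S R) := finite_of_le inf_le_left
  have hfull : (normalizerSystem F R hRS).IsFullyNormalized Q := by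
    refine ⟨hQT, fun Q' hc => ?_⟩
    have hcF := IsConj_of_normalizerSystem hNx hc
    have h1 := hQn.2 Q' hcF
    have h2 : normalizerIn (normalizerIn S R) Q' ≤ normalizerIn S Q' :=
      le_inf (inf_le_left.trans inf_le_left) inf_le_right
    have h3 : normalizerIn S Q ≤ normalizerIn (normalizerIn S R) Q :=
      le_inf (le_inf inf_le_left hNR) inf_le_right
    haveI hf1 : Finite (normalizerIn S Q') := finite_of_le inf_le_left
    haveI hf2 : Finite (normalizerIn (normalizerIn S R) Q) := finite_of_le inf_le_left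
    exact (Subgroup.card_le_of_le h2).trans (h1.trans (Subgroup.card_le_of_le h3))
  have hψN : F.autGroup Q ≤ (normalizerSystem F R hRS).autGroup Q := by
    intro α hα
    obtain ⟨ψ, hψ, he, hr⟩ := hext α hα
    have hmap : (R.subgroupOf R).map ψ = R :=
      pres_of_le (F.injective_of_mem hψ) le_rfl (fun x _ => mem_of_range_eq hr x)
    have hψ' : ψ ∈ (normalizerSystem F R hRS).Hom R := by
      rw [hNx R]
      exact mem_normalizerHom_of_le le_rfl hψ (le_normalizerIn hRS) hmap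
    rw [mem_autGroup_iff _ hQT]
    exact hom_of_eq (restrict_mem _ hψ' hQR) (fun x => (he x).symm)
  have hauteq : (normalizerSystem F R hRS).autGroup Q = F.autGroup Q :=
    le_antisymm (autGroup_normalizer_le hNx hQT) hψN
  have h1 := hst Q hfull χ (hψN hχ) hq
  rw [hauteq] at h1
  exact h1

theorem nonradical_step (hS : IsPGroup p S) {F : FusionSystem S} (hF : F.IsSaturated p)
    {R : Subgroup Ω} (hRn : F.IsFullyNormalized R) (hRc : F.IsCentric R)
    (hrad : ¬ F.IsRadical p R) :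
    ∃ R', R < R' ∧ R' ≤ S ∧ normalizerIn S R ≤ Subgroup.normalizer (R' : Set Ω) ∧
      ∀ ψ ∈ F.Hom R, ψ.range = R → ∃ (hle : R ≤ R'), ∃ ψ' ∈ F.Hom R',
        (∀ x : R, ψ' (Subgroup.inclusion hle x) = ψ x) ∧ ψ'.range = R' := by
  have hRS := hRc.1
  haveI hfR : Finite R := finite_of_le hRS
  have hNx := isNormalizerSystem_normalizerSystem F R hRS
  have hcon := isConstrained_normalizerSystem hS hF hRn hRc hNx
  haveI hfT : Finite (normalizerIn S R) := finite_of_le inf_le_left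
  have hTp : IsPGroup p (normalizerIn S R) := hS.to_le inf_le_left
  haveI hfT2 : Finite ↥(S ⊓ Subgroup.normalizer (R : Set Ω)) := hfT
  obtain ⟨L, instL, ι, hL⟩ := Cfsg.Agent.Lib.FusionModelExist.exists_model hTp _ hcon
  have hcore : (normalizerSystem F R hRS).core ≠ R :=
    fun h => hrad (isRadical_of_core_eq hS hRc hNx hL h)
  have hnorm := isNormal_core (normalizerSystem F R hRS)
  have hle : R ≤ (normalizerSystem F R hRS).core :=
    IsNormal.le_core (isNormal_normalizerSystem hNx hRS)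
  have hT := StronglyClosed.le_normalizer (IsNormal.stronglyClosed hnorm)
  refine ⟨_, lt_of_le_of_ne hle (Ne.symm hcore), hnorm.1.trans inf_le_left, hT, fun ψ hψ hr => ?_⟩
  refine ⟨hle, ?_⟩
  have hmap : (R.subgroupOf R).map ψ = R :=
    pres_of_le (F.injective_of_mem hψ) le_rfl (fun x _ => mem_of_range_eq hr x)
  have hψN : ψ ∈ (normalizerSystem F R hRS).Hom R := by
    rw [hNx R]
    exact mem_normalizerHom_of_le le_rfl hψ (le_normalizerIn hRS) hmap
  obtain ⟨ψ₁, hψ₁, he, hm⟩ := hnorm.2 R ψ hψN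
  have hsup : (normalizerSystem F R hRS).core ≤ R ⊔ (normalizerSystem F R hRS).core := le_sup_right
  have hψ'N := restrict_mem _ hψ₁ hsup
  rw [hNx _] at hψ'N
  refine ⟨_, hψ'N.1, fun x => he x, ?_⟩
  obtain ⟨hm1, hm2⟩ := (map_subgroupOf_eq_iff ψ₁).mp hm
  ext y
  constructor
  · rintro ⟨z, rfl⟩
    exact hm1 ⟨z, hsup z.2⟩ z.2
  · intro hy
    obtain ⟨x, hx, e⟩ := hm2 y hy
    exact ⟨⟨x, hx⟩, e⟩

theorem conj_step (hS : IsPGroup p S) {F : FusionSystem S} (hF : F.IsSaturated p)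
    {Q R R₁ : Subgroup Ω} (hQn : F.IsFullyNormalized Q) (hRc : F.IsCentric R) (hQR : Q ≤ R)
    (hNR : normalizerIn S Q ≤ Subgroup.normalizer (R : Set Ω)) (hext : ExtProp F hQR)
    (hc : F.IsConj R R₁) (hR₁n : F.IsFullyNormalized R₁) :
    ∃ (Q₁ : Subgroup Ω) (ζ : Q →* Ω) (_ : ζ ∈ F.Hom Q) (_ : ζ.range = Q₁),
      F.IsFullyNormalized Q₁ ∧ F.IsCentric R₁ ∧ ∃ hQ₁R₁ : Q₁ ≤ R₁,
        normalizerIn S Q₁ ≤ Subgroup.normalizer (R₁ : Set Ω) ∧ ExtProp F hQ₁R₁ := by
  obtain ⟨θ, hθ, hv, h1, h2⟩ := IsSaturated.exists_normalizer_map hS hF hR₁n hc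
  have hB : imageAlong θ R = R₁ := imageAlong_eq_of_map h1 h2
  subst hB
  have hRS := hRc.1
  have hRT : R ≤ normalizerIn S R := le_normalizerIn hRS
  have hQT := hQR.trans hRT
  have hζ := restrict_mem F hθ hQT
  have hr := range_restrict θ hQT
  have hNT : normalizerIn S Q ≤ normalizerIn S R := le_inf inf_le_left hNR
  have hinjθ := F.injective_of_mem hθ
  have hconj : F.IsConj Q (imageAlong θ Q) := isConj_image hθ hQT
  have hA₀ : imageAlong θ (normalizerIn S Q) ≤ normalizerIn S (imageAlong θ Q) := by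
    rintro _ ⟨t, ht, rfl⟩
    have ht' : (t : Ω) ∈ normalizerIn S Q := ht
    exact ⟨map_mem_S F hθ t, mem_normalizer_imageAlong θ ht'.2⟩
  haveI hf1 : Finite (normalizerIn S Q) := finite_of_le inf_le_left
  haveI hf2 : Finite (normalizerIn S (imageAlong θ Q)) := finite_of_le inf_le_left
  have hcardA₀ : Nat.card (imageAlong θ (normalizerIn S Q)) = Nat.card (normalizerIn S Q) := by
    show Nat.card (((normalizerIn S Q).subgroupOf (normalizerIn S R)).map θ) = _
    rw [Subgroup.card_map_of_injective hinjθ]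
    exact Nat.card_congr (Subgroup.subgroupOfEquivOfLe hNT).toEquiv
  have hle1 := hQn.2 _ hconj
  have hA₀eq : imageAlong θ (normalizerIn S Q) = normalizerIn S (imageAlong θ Q) :=
    Subgroup.eq_of_le_of_card_ge hA₀ (by rw [hcardA₀]; exact hle1)
  refine ⟨imageAlong θ Q, _, hζ, hr, ⟨by
      rintro _ ⟨t, -, rfl⟩
      exact map_mem_S F hθ t, fun Q' hc' => ?_⟩,
    Cfsg.Agent.Lib.FusionLift.isCentric_of_isConj hRc hc, imageAlong_mono θ hQR, ?_, ?_⟩
  · have h3 := hQn.2 Q' (isConj_trans F hconj hc')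
    rw [← hA₀eq, hcardA₀]
    exact h3
  · rw [← hA₀eq]
    rintro _ ⟨t, -, rfl⟩
    exact (hv t).2
  · intro α₁ hα₁
    obtain ⟨β, hβ⟩ := autGroupCongr_surj hζ hr ⟨α₁, hα₁⟩
    obtain ⟨ψ, hψ, he, hrψ⟩ := hext β.1 β.2
    have hvR : ∀ x, ψ x ∈ normalizerIn S R := fun x => hRT (mem_of_range_eq hrψ x)
    obtain ⟨χ, hχ, eχ⟩ := transport_fwd hθ hRT hψ hvR
    refine ⟨χ, hχ, ?_, ?_⟩
    · rintro ⟨_, t, ht, rfl⟩
      have ht' : (t : Ω) ∈ Q := ht
      have e1 := eχ ⟨t, hQR ht'⟩ ⟨t, hQR ht', rfl⟩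
      have e2 := he ⟨t, ht'⟩
      have e3 := Cfsg.Agent.Lib.FusionHyp.autGroupCongr_apply hζ hr β ⟨t, ht'⟩ ⟨t, ht', rfl⟩
      rw [hβ] at e3
      have e4 := congrArg Subtype.val e3
      refine e1.trans ?_
      refine Eq.trans ?_ e4.symm
      exact congrArg θ (Subtype.ext e2)
    · ext y
      constructor
      · rintro ⟨⟨_, w, hw, rfl⟩, rfl⟩
        have hw' : (w : Ω) ∈ R := hw
        have e1 := eχ ⟨w, hw'⟩ ⟨w, hw', rfl⟩
        exact ⟨⟨ψ ⟨w, hw'⟩, hvR _⟩, mem_of_range_eq hrψ _, e1.symm⟩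
      · rintro ⟨w, hw, rfl⟩
        have hw' : (w : Ω) ∈ R := hw
        obtain ⟨w₀, e⟩ : (w : Ω) ∈ ψ.range := by
          rw [hrψ]
          exact hw'
        have e1 := eχ w₀ ⟨⟨w₀, hRT w₀.2⟩, w₀.2, rfl⟩
        refine ⟨⟨_, ⟨w₀, hRT w₀.2⟩, w₀.2, rfl⟩, ?_⟩
        refine e1.trans ?_
        exact congrArg θ (Subtype.ext e)

/-- The pair `(Q, Q C_S(Q))`. -/
theorem initial_pair (hS : IsPGroup p S) {F : FusionSystem S} (hF : F.IsSaturated p)
    {Q : Subgroup Ω} (hQn : F.IsFullyNormalized Q) :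
    F.IsCentric (Q ⊔ centralizerIn S Q) ∧
      normalizerIn S Q ≤ Subgroup.normalizer ((Q ⊔ centralizerIn S Q : Subgroup Ω) : Set Ω) ∧
      ExtProp F (le_sup_left : Q ≤ Q ⊔ centralizerIn S Q) := by
  have hQS := hQn.1
  have hCS : centralizerIn S Q ≤ S := inf_le_left
  have hRS : Q ⊔ centralizerIn S Q ≤ S := sup_le hQS hCS
  haveI hfR : Finite ↥(Q ⊔ centralizerIn S Q) := finite_of_le hRS
  have hNx := isNormalizerSystem_normalizerSystem F Q hQS
  have hRT : Q ⊔ centralizerIn S Q ≤ normalizerIn S Q :=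
    sup_le (le_normalizerIn hQS) (centralizerIn_le_normalizerIn S Q)
  refine ⟨?_, ?_, ?_⟩
  · refine Cfsg.Agent.Lib.FusionEmb.isCentric_of_normalizer hS hF hQn hNx le_sup_left ⟨hRT, ?_⟩
    rintro _ ⟨φ, hφ, rfl⟩ c hc
    rw [hNx _] at hφ
    obtain ⟨hφF, -, hv, ψ, hψ, hext, hm⟩ := hφ
    obtain ⟨hm1, hm2⟩ := (map_subgroupOf_sup_eq_iff ψ).mp hm
    have hsub : φ.range ≤ Q ⊔ centralizerIn S Q := by
      rintro _ ⟨z, rfl⟩
      refine sup_values_mem (R := Q ⊔ centralizerIn S Q) φ (fun x hx => ?_) (fun x hx => ?_) z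
      · have e := hext ⟨x, Subgroup.mem_sup_left hx⟩
        rw [← e]
        exact Subgroup.mem_sup_left (hm1 x hx)
      · refine Subgroup.mem_sup_right ⟨(hv _).1, Subgroup.mem_centralizer_iff.mpr fun y hy => ?_⟩
        obtain ⟨w, hw, ew⟩ := hm2 y hy
        have e := hext ⟨x, Subgroup.mem_sup_right hx⟩
        have hcomm := Subgroup.mem_centralizer_iff.mp hx.2 w hw
        have h1 : (⟨w, Subgroup.mem_sup_right hw⟩ : ↥((Q ⊔ centralizerIn S Q) ⊔ Q)) *
            Subgroup.inclusion le_sup_left (⟨x, Subgroup.mem_sup_right hx⟩ : ↥(Q ⊔ centralizerIn S Q)) =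
            Subgroup.inclusion le_sup_left (⟨x, Subgroup.mem_sup_right hx⟩ : ↥(Q ⊔ centralizerIn S Q)) *
            ⟨w, Subgroup.mem_sup_right hw⟩ := Subtype.ext hcomm
        have h2 := congrArg ψ h1
        rw [map_mul, map_mul, ew, e] at h2
        exact h2
    have heq : φ.range = Q ⊔ centralizerIn S Q :=
      Subgroup.eq_of_le_of_card_ge hsub (by rw [card_range_eq _ hφF])
    rw [heq] at hc ⊢
    have hcS : c ∈ S := hc.1.1
    have hcC : c ∈ Subgroup.centralizer (Q : Set Ω) :=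
      Subgroup.centralizer_le (le_sup_left : Q ≤ Q ⊔ centralizerIn S Q) hc.2
    exact Subgroup.mem_sup_right ⟨hcS, hcC⟩
  · intro x hx
    exact mem_normalizer_sup hx.2
      (Cfsg.Agent.Lib.FusionGT.mem_normalizer_centralizerIn hx.1 hx.2)
  · intro α hα
    have hθ := (mem_autGroup_iff F hQS).mp hα
    have hr : (Q.subtype.comp α.toMonoidHom).range = Q := by
      ext y
      constructor
      · rintro ⟨z, rfl⟩
        exact (α z).2
      · intro hy
        refine ⟨α.symm ⟨y, hy⟩, ?_⟩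
        show ((α (α.symm ⟨y, hy⟩) : Q) : Ω) = y
        rw [MulEquiv.apply_symm_apply]
    obtain ⟨ψ, hψ, hext⟩ := (IsSaturated.fullyNormalized hS hF hQn).2.2 Q _ hθ hr
    have hRE : Q ⊔ centralizerIn S Q ≤ extender S Q (Q.subtype.comp α.toMonoidHom) := by
      refine sup_le (fun x hx => ?_) (fun c hc => ?_)
      · refine mem_extender_iff.mpr ⟨hQS hx, Subgroup.le_normalizer hx, (α ⟨x, hx⟩ : Q),
          hQS (α ⟨x, hx⟩).2, fun y hy => ?_⟩
        have e : (⟨x * (y : Ω) * x⁻¹, hy⟩ : Q) = ⟨x, hx⟩ * y * ⟨x, hx⟩⁻¹ := rfl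
        rw [e, map_mul, map_mul, map_inv]
        rfl
      · refine mem_extender_iff.mpr ⟨hc.1, Subgroup.centralizer_le_normalizer _ hc.2, 1, one_mem _,
          fun y hy => ?_⟩
        have e : (⟨c * (y : Ω) * c⁻¹, hy⟩ : Q) = y := by
          apply Subtype.ext
          have := Subgroup.mem_centralizer_iff.mp hc.2 y y.2
          show c * (y : Ω) * c⁻¹ = y
          rw [← this]
          group
        rw [e]
        group
    have hψ₀ := restrict_mem F hψ hRE
    have hQval : ∀ (x : Ω) (hx : x ∈ Q), ψ ⟨x, hRE (Subgroup.mem_sup_left hx)⟩ = (α ⟨x, hx⟩ : Q) :=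
      fun x hx => hext x hx _
    refine ⟨_, hψ₀, fun x => hQval x x.2, ?_⟩
    have hsub : (ψ.comp (Subgroup.inclusion hRE)).range ≤ Q ⊔ centralizerIn S Q := by
      rintro _ ⟨z, rfl⟩
      refine sup_values_mem (R := Q ⊔ centralizerIn S Q) (ψ.comp (Subgroup.inclusion hRE))
        (fun x hx => ?_) (fun c hc => ?_) z
      · refine Subgroup.mem_sup_left ?_
        exact (congrArg (· ∈ Q) (hQval x hx)).mpr (α ⟨x, hx⟩).2
      · refine Subgroup.mem_sup_right ⟨map_mem_S F hψ _, Subgroup.mem_centralizer_iff.mpr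
          fun y hy => ?_⟩
        obtain ⟨w, rfl⟩ : y ∈ (Q.subtype.comp α.toMonoidHom).range := by
          rw [hr]
          exact hy
        have hcomm := Subgroup.mem_centralizer_iff.mp hc.2 w w.2
        have hw : (Q.subtype.comp α.toMonoidHom) w = ψ ⟨w, hRE (Subgroup.mem_sup_left w.2)⟩ :=
          (hQval w w.2).symm
        rw [hw]
        have h1 : (⟨w, hRE (Subgroup.mem_sup_left w.2)⟩ : ↥(extender S Q (Q.subtype.comp α.toMonoidHom))) *
            Subgroup.inclusion hRE ⟨c, Subgroup.mem_sup_right hc⟩ =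
            Subgroup.inclusion hRE ⟨c, Subgroup.mem_sup_right hc⟩ *
            ⟨w, hRE (Subgroup.mem_sup_left w.2)⟩ := Subtype.ext hcomm
        have h2 := congrArg ψ h1
        rw [map_mul, map_mul] at h2
        exact h2
    exact Subgroup.eq_of_le_of_card_ge hsub (by rw [card_range_eq _ hψ₀])

/-- The reduction to centric radical subgroups. -/
theorem stab_of_centric_radical (hS : IsPGroup p S) {F : FusionSystem S} (hF : F.IsSaturated p)
    (hN : ∀ R : Subgroup Ω, F.IsFullyNormalized R → F.IsCentric R → F.IsRadical p R →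
      ∀ N : FusionSystem (normalizerIn S R), F.IsNormalizerSystem R N → PStab p N) :
    ∀ (n : ℕ) (Q R : Subgroup Ω), Nat.card S - Nat.card R = n → F.IsFullyNormalized Q →
      F.IsCentric R → ∀ hQR : Q ≤ R, normalizerIn S Q ≤ Subgroup.normalizer (R : Set Ω) →
      ExtProp F hQR → ∀ χ : MulAut Q, χ ∈ F.autGroup Q → IsQuad χ →
        χ ∈ (pCore p ↥(F.autGroup Q)).map (F.autGroup Q).subtype := by
  intro n
  induction n using Nat.strong_induction_on with
  | _ n ih =>
    intro Q R hn hQn hRc hQR hNR hext χ hχ hq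
    obtain ⟨R₁, hc, hR₁n⟩ := exists_isConj_fullyNormalized F hRc.1
    obtain ⟨Q₁, ζ, hζ, hr, hQ₁n, hR₁c, hQ₁R₁, hNR₁, hext₁⟩ :=
      conj_step hS hF hQn hRc hQR hNR hext hc hR₁n
    apply op_congr_back hζ hr
    have hχ₁ := congr_mem_autGroup hζ hr hχ
    have hq₁ := isQuad_congr (isoOfRange hζ hr) hq
    by_cases hrad : F.IsRadical p R₁
    · exact radical_case hS hF hN hQ₁n hR₁n hR₁c hrad hQ₁R₁ hNR₁ hext₁ _ hχ₁ hq₁
    · obtain ⟨R', hlt, hR'S, hNR', hext'⟩ := nonradical_step hS hF hR₁n hR₁c hrad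
      have hcard : Nat.card R = Nat.card R₁ := card_eq_of_isConj F hc
      haveI hfR' : Finite R' := finite_of_le hR'S
      have hcardlt : Nat.card R₁ < Nat.card R' := Cfsg.Agent.Lib.FusionGT.card_lt_of_lt' hlt
      have hle : Nat.card R' ≤ Nat.card S := Subgroup.card_le_of_le hR'S
      refine ih _ (by omega) Q₁ R' rfl hQ₁n
        (Cfsg.Agent.Lib.FusionCentric.isCentric_of_le hR₁c hlt.le hR'S) (hQ₁R₁.trans hlt.le)
        ((le_inf inf_le_left hNR₁).trans hNR') ?_ _ hχ₁ hq₁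
      intro α hα
      obtain ⟨ψ, hψ, he, hr'⟩ := hext₁ α hα
      obtain ⟨hle', ψ', hψ', he', hr''⟩ := hext' ψ hψ hr'
      exact ⟨ψ', hψ', fun x => (he' (Subgroup.inclusion hQ₁R₁ x)).trans (he x), hr''⟩

theorem pstab_iff_centric_radical (hS : IsPGroup p S) {F : FusionSystem S} (hF : F.IsSaturated p) :
    PStab p F ↔ ∀ R : Subgroup Ω, F.IsFullyNormalized R → F.IsCentric R → F.IsRadical p R →
      ∀ N : FusionSystem (normalizerIn S R), F.IsNormalizerSystem R N → PStab p N := by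
  constructor
  · intro hst R _ _ _ N hN
    exact pstab_normalizer hst hN
  · intro h Q hQ χ hχ hq
    obtain ⟨h1, h2, h3⟩ := initial_pair hS hF hQ
    exact stab_of_centric_radical hS hF h _ Q _ rfl hQ h1 le_sup_left h2 h3 χ hχ hq

end centricRadical

end Cfsg.Agent.Lib.FusionPStable
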