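import Cfsg.Agent.Lib.FusionPStable
import Cfsg.Agent.Lib.FusionHypGroup
import Cfsg.Agent.Lib.QdStable

/-!
`p`-stability of a finite group in the normalizer form against `p`-stability of its system.
-/

set_option autoImplicit false

universe u

namespace Cfsg.Agent.Lib.FusionPStableGroup

open Cfsg Cfsg.FusionSystem Cfsg.Agent.Lib.FusionBasic Cfsg.Agent.Lib.FusionAut
  Cfsg.Agent.Lib.FusionSat Cfsg.Agent.Lib.FusionAlperin Cfsg.Agent.Lib.FusionPStable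
  Cfsg.Agent.Lib.SylowIn Cfsg.Agent.Lib.PCore Cfsg.Agent.Lib.FusionHypGroup

variable {p : ℕ} [Fact p.Prime] {G : Type u} [Group G] [Finite G]

/-- A `p`-subgroup has a fully normalized conjugate. -/
theorem exists_conj_fn (P : Sylow p G) {Q : Subgroup G} (hQ : IsPGroup p Q) :
    ∃ (c : G) (Q₁ : Subgroup G), Q₁ = Q.map (MulAut.conj c).toMonoidHom ∧
      (groupFusionSystem (P : Subgroup G)).IsFullyNormalized Q₁ := by
  obtain ⟨g, hg⟩ := exists_conj_mem_sylow P hQ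
  have hQ₀P : Q.map (MulAut.conj g).toMonoidHom ≤ (P : Subgroup G) := by
    rintro _ ⟨q, hq, rfl⟩
    exact hg q hq
  obtain ⟨Q₁, ⟨φ, hφ, hr⟩, hn⟩ := exists_isConj_fullyNormalized
    (groupFusionSystem (P : Subgroup G)) hQ₀P
  obtain ⟨-, -, d, hd⟩ := id hφ
  refine ⟨d * g, Q₁, ?_, hn⟩
  rw [← hr]
  ext y
  constructor
  · rintro ⟨⟨_, q, hq, rfl⟩, rfl⟩
    refine ⟨q, hq, ?_⟩
    rw [hd]
    show d * g * q * (d * g)⁻¹ = d * (g * q * g⁻¹) * d⁻¹
    group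
  · rintro ⟨q, hq, rfl⟩
    refine ⟨⟨g * q * g⁻¹, q, hq, rfl⟩, ?_⟩
    rw [hd]
    show d * (g * q * g⁻¹) * d⁻¹ = d * g * q * (d * g)⁻¹
    group

/-- The action of the normalizer on a conjugate. -/
theorem exists_theta {S Q Q₁ : Subgroup G} (hQ₁S : Q₁ ≤ S) (c : G)
    (hQ₁ : Q₁ = Q.map (MulAut.conj c).toMonoidHom) :
    ∃ θ : ↥(Subgroup.normalizer (Q : Set G)) →* ↥((groupFusionSystem S).autGroup Q₁),
      Function.Surjective θ ∧ θ.ker = (Subgroup.centralizer (Q : Set G)).subgroupOf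
        (Subgroup.normalizer (Q : Set G)) ∧
      ∀ (y : ↥(Subgroup.normalizer (Q : Set G))) (x : Q₁),
        (((θ y : MulAut Q₁) x : Q₁) : G) = (c * y * c⁻¹) * x * (c * y * c⁻¹)⁻¹ := by
  have hmemQ : ∀ x, x ∈ Q₁ ↔ c⁻¹ * x * c ∈ Q := by
    intro x
    rw [hQ₁]
    constructor
    · rintro ⟨u, hu, rfl⟩
      have e : c⁻¹ * ((MulAut.conj c).toMonoidHom u) * c = u := by
        show c⁻¹ * (c * u * c⁻¹) * c = u
        group
      rwa [e]
    · intro h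
      refine ⟨_, h, ?_⟩
      show c * (c⁻¹ * x * c) * c⁻¹ = x
      group
  have hγ : ∀ y : ↥(Subgroup.normalizer (Q : Set G)),
      c * (y : G) * c⁻¹ ∈ Subgroup.normalizer (Q₁ : Set G) := by
    intro y
    rw [Subgroup.mem_normalizer_iff]
    intro x
    rw [hmemQ, hmemQ]
    have e : c⁻¹ * (c * (y : G) * c⁻¹ * x * (c * (y : G) * c⁻¹)⁻¹) * c =
        (y : G) * (c⁻¹ * x * c) * (y : G)⁻¹ := by group
    rw [e]
    exact Subgroup.mem_normalizer_iff.mp y.2 _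
  let γ : ↥(Subgroup.normalizer (Q : Set G)) →* ↥(Subgroup.normalizer (Q₁ : Set G)) :=
    ((MulAut.conj c).toMonoidHom.comp (Subgroup.normalizer (Q : Set G)).subtype).codRestrict _ hγ
  have hγv : ∀ y, ((γ y : ↥(Subgroup.normalizer (Q₁ : Set G))) : G) = c * y * c⁻¹ := fun y => rfl
  have hmem : ∀ y, conjAut Q₁ (γ y) ∈ (groupFusionSystem S).autGroup Q₁ := by
    intro y
    rw [mem_autGroup_iff _ hQ₁S]
    refine ⟨hQ₁S, fun x => hQ₁S (conjAut Q₁ (γ y) x).2, (γ y : G), fun x => ?_⟩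
    exact conjAut_apply Q₁ (γ y) x
  refine ⟨((conjAut Q₁).comp γ).codRestrict _ hmem, ?_, ?_, ?_⟩
  · intro β
    obtain ⟨g, hg⟩ := aut_conj_exists hQ₁S β.2
    have hval : ∀ x : Q₁, g * x * g⁻¹ ∈ Q₁ := fun x => by
      rw [← hg]
      exact (β.1 x).2
    have hy : c⁻¹ * g * c ∈ Subgroup.normalizer (Q : Set G) := by
      refine Cfsg.Agent.Lib.QdNonP.mem_normalizer_of_conj fun u hu => ?_
      have h1 : c * u * c⁻¹ ∈ Q₁ := by
        rw [hmemQ]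
        have e : c⁻¹ * (c * u * c⁻¹) * c = u := by group
        rwa [e]
      have h2 := (hmemQ _).mp (hval ⟨_, h1⟩)
      have e : c⁻¹ * (g * (c * u * c⁻¹) * g⁻¹) * c = c⁻¹ * g * c * u * (c⁻¹ * g * c)⁻¹ := by group
      rwa [e] at h2
    refine ⟨⟨_, hy⟩, Subtype.ext ?_⟩
    ext x
    show ((conjAut Q₁ (γ ⟨_, hy⟩) x : Q₁) : G) = _
    rw [conjAut_apply, hγv, hg]
    show c * (c⁻¹ * g * c) * c⁻¹ * x * (c * (c⁻¹ * g * c) * c⁻¹)⁻¹ = _
    group
  · ext y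
    constructor
    · intro hy
      have h1 : conjAut Q₁ (γ y) = 1 := congrArg Subtype.val hy
      show (y : G) ∈ Subgroup.centralizer (Q : Set G)
      rw [Subgroup.mem_centralizer_iff]
      intro u hu
      have hm : c * u * c⁻¹ ∈ Q₁ := by
        rw [hmemQ]
        have e : c⁻¹ * (c * u * c⁻¹) * c = u := by group
        rwa [e]
      have h2 : ((conjAut Q₁ (γ y) ⟨_, hm⟩ : Q₁) : G) = c * u * c⁻¹ := by
        rw [h1]
        rfl
      rw [conjAut_apply, hγv] at h2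
      have h3 : (y : G) * u * (y : G)⁻¹ = u := by
        have e : c * (y : G) * c⁻¹ * (c * u * c⁻¹) * (c * (y : G) * c⁻¹)⁻¹ =
            c * ((y : G) * u * (y : G)⁻¹) * c⁻¹ := by group
        rw [e] at h2
        exact mul_left_cancel (mul_right_cancel h2)
      calc u * (y : G) = ((y : G) * u * (y : G)⁻¹) * (y : G) := by rw [h3]
        _ = (y : G) * u := by group
    · intro hy
      have hy' : (y : G) ∈ Subgroup.centralizer (Q : Set G) := hy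
      apply Subtype.ext
      show conjAut Q₁ (γ y) = 1
      ext x
      rw [conjAut_apply, hγv]
      have hu := (hmemQ x).mp x.2
      have h1 := Subgroup.mem_centralizer_iff.mp hy' _ hu
      show c * (y : G) * c⁻¹ * x * (c * (y : G) * c⁻¹)⁻¹ = x
      have e : c * (y : G) * c⁻¹ * x * (c * (y : G) * c⁻¹)⁻¹ =
          c * ((y : G) * (c⁻¹ * x * c) * (y : G)⁻¹) * c⁻¹ := by group
      rw [e, ← h1]
      group
  · intro y x
    show ((conjAut Q₁ (γ y) x : Q₁) : G) = _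
    rw [conjAut_apply]
    rfl

/-- The two forms of `p`-stability. -/
theorem normalizerStable_iff (P : Sylow p G) :
    IsNormalizerPStable p G ↔ PStab p (groupFusionSystem (P : Subgroup G)) := by
  constructor
  · intro hst Q hQ χ hχ hq
    have hQS := hQ.1
    obtain ⟨g, hg⟩ := aut_conj_exists hQS hχ
    have hgN : g ∈ Subgroup.normalizer (Q : Set G) := by
      refine Cfsg.Agent.Lib.QdNonP.mem_normalizer_of_conj fun u hu => ?_
      rw [← hg ⟨u, hu⟩]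
      exact (χ ⟨u, hu⟩).2
    have hcomm := Cfsg.Agent.Lib.QdStable.comm_of_quad (g := g) (P := Q) (fun u hu => by
      have h1 := hq.fix' ⟨u, hu⟩
      have h2 := congrArg Subtype.val h1
      have h3 : ((χ (χ ⟨u, hu⟩ * ⟨u, hu⟩⁻¹) : Q) : G) = g * (g * u * g⁻¹ * u⁻¹) * g⁻¹ := by
        rw [hg]
        show g * ((((χ ⟨u, hu⟩ : Q) : G)) * u⁻¹) * g⁻¹ = _
        rw [hg]
      rw [h3] at h2
      refine h2.trans ?_
      show ((χ ⟨u, hu⟩ : Q) : G) * u⁻¹ = _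
      rw [hg])
    have hQp : IsPGroup p Q := P.isPGroup'.to_le hQS
    have hmem := hst Q hQp g hgN hcomm
    obtain ⟨θ, hθs, hker, hθv⟩ := exists_theta (S := (P : Subgroup G)) (Q := Q) hQS 1 (by
      ext x
      simp)
    rw [mem_pCore_quot_iff θ hθs _ hker] at hmem
    have hθg : θ ⟨g, hgN⟩ = ⟨χ, hχ⟩ := by
      apply Subtype.ext
      ext x
      rw [hθv]
      show 1 * g * 1⁻¹ * (x : G) * (1 * g * 1⁻¹)⁻¹ = _
      rw [hg]
      simp
    rw [hθg] at hmem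
    exact ⟨⟨χ, hχ⟩, hmem, rfl⟩
  · intro hst Q hQp g hg hcomm
    obtain ⟨c, Q₁, hQ₁, hn⟩ := exists_conj_fn P hQp
    obtain ⟨θ, hθs, hker, hθv⟩ := exists_theta (S := (P : Subgroup G)) (Q := Q) hn.1 c hQ₁
    rw [mem_pCore_quot_iff θ hθs _ hker]
    have hq : IsQuad ((θ ⟨g, hg⟩ : ↥((groupFusionSystem (P : Subgroup G)).autGroup Q₁)) : MulAut Q₁) := by
      intro a
      apply Subtype.ext
      have key : ∀ x, x ∈ Q₁ → c⁻¹ * x * c ∈ Q := by
        intro x hx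
        rw [hQ₁] at hx
        obtain ⟨u, hu, e⟩ := hx
        rw [← e]
        have e' : c⁻¹ * ((MulAut.conj c).toMonoidHom u) * c = u := by
          show c⁻¹ * (c * u * c⁻¹) * c = u
          group
        rwa [e']
      have hmemQ : c⁻¹ * (a : G) * c ∈ Q := key a a.2
      have h1 := Cfsg.Agent.Lib.QdStable.quad_of_comm hcomm hmemQ
      have e1 : c * (g * (g * (c⁻¹ * (a : G) * c) * g⁻¹ * (c⁻¹ * (a : G) * c)⁻¹) * g⁻¹) * c⁻¹ =
          c * (g * (c⁻¹ * (a : G) * c) * g⁻¹ * (c⁻¹ * (a : G) * c)⁻¹) * c⁻¹ := by rw [h1]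
      have hχ : ∀ x : Q₁, (((θ ⟨g, hg⟩ : ↥((groupFusionSystem (P : Subgroup G)).autGroup Q₁)) : MulAut Q₁) x : Q₁).1 =
          (c * g * c⁻¹) * x * (c * g * c⁻¹)⁻¹ := hθv ⟨g, hg⟩
      have e2 : (c * g * c⁻¹) * ((c * g * c⁻¹) * (a : G) * (c * g * c⁻¹)⁻¹ * (a : G)⁻¹) * (c * g * c⁻¹)⁻¹ =
          (c * g * c⁻¹) * (a : G) * (c * g * c⁻¹)⁻¹ * (a : G)⁻¹ := by
        calc _ = c * (g * (g * (c⁻¹ * (a : G) * c) * g⁻¹ * (c⁻¹ * (a : G) * c)⁻¹) * g⁻¹) * c⁻¹ := by group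
          _ = c * (g * (c⁻¹ * (a : G) * c) * g⁻¹ * (c⁻¹ * (a : G) * c)⁻¹) * c⁻¹ := e1
          _ = _ := by group
      have e3 : (c * g * c⁻¹) * ((c * g * c⁻¹) * (a : G) * (c * g * c⁻¹)⁻¹) * (c * g * c⁻¹)⁻¹ =
          ((c * g * c⁻¹) * (a : G) * (c * g * c⁻¹)⁻¹) * (a : G)⁻¹ * ((c * g * c⁻¹) * (a : G) * (c * g * c⁻¹)⁻¹) := by
        have e4 : (c * g * c⁻¹) * ((c * g * c⁻¹) * (a : G) * (c * g * c⁻¹)⁻¹) * (c * g * c⁻¹)⁻¹ =
            (c * g * c⁻¹) * ((c * g * c⁻¹) * (a : G) * (c * g * c⁻¹)⁻¹ * (a : G)⁻¹) * (c * g * c⁻¹)⁻¹ *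
              ((c * g * c⁻¹) * (a : G) * (c * g * c⁻¹)⁻¹) := by group
        rw [e4, e2]
      show (((θ ⟨g, hg⟩ : ↥((groupFusionSystem (P : Subgroup G)).autGroup Q₁)) : MulAut Q₁) a⁻¹ : Q₁).1 * (a : G) *
        (((θ ⟨g, hg⟩ : ↥((groupFusionSystem (P : Subgroup G)).autGroup Q₁)) : MulAut Q₁) a⁻¹ : Q₁).1 *
        (((θ ⟨g, hg⟩ : ↥((groupFusionSystem (P : Subgroup G)).autGroup Q₁)) : MulAut Q₁)
          (((θ ⟨g, hg⟩ : ↥((groupFusionSystem (P : Subgroup G)).autGroup Q₁)) : MulAut Q₁) a) : Q₁).1 = 1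
      rw [hχ, hχ (((θ ⟨g, hg⟩ : ↥((groupFusionSystem (P : Subgroup G)).autGroup Q₁)) : MulAut Q₁) a), hχ a,
        Subgroup.coe_inv, e3]
      group
    have h3 := hst Q₁ hn _ (θ ⟨g, hg⟩).2 hq
    obtain ⟨y, hy, ey⟩ := h3
    have : y = θ ⟨g, hg⟩ := Subtype.ext ey
    rw [← this]
    exact hy

end Cfsg.Agent.Lib.FusionPStableGroup
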