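import Cfsg.Agent.Lib.FusionGroupFree
import Cfsg.Agent.Lib.FusionZJ
import Cfsg.Agent.Lib.QdStable
import Cfsg.Agent.Lib.ZJApps
import Cfsg.Agent.Lib.ZJFunctor

/-!
A system without `Qd(p)` sections has nontrivial core in every proper factor by a strongly closed
subgroup: divide out `Z(J(R))` and go on by induction.
-/

set_option autoImplicit false

universe u

namespace Cfsg.Agent.Lib.FusionSolvableQd

open Cfsg Cfsg.FusionSystem Cfsg.Agent.Lib.FusionBasic Cfsg.Agent.Lib.FusionAut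
  Cfsg.Agent.Lib.FusionSat Cfsg.Agent.Lib.FusionAlperin Cfsg.Agent.Lib.FusionNormal
  Cfsg.Agent.Lib.FusionFactor Cfsg.Agent.Lib.FusionLocal Cfsg.Agent.Lib.FusionNormSat
  Cfsg.Agent.Lib.FusionModel Cfsg.Agent.Lib.FusionLocalModel Cfsg.Agent.Lib.FusionEmb
  Cfsg.Agent.Lib.FusionQuot Cfsg.Agent.Lib.FusionFactorModel Cfsg.Agent.Lib.FusionZJ

variable {p : ℕ} [Fact p.Prime]

/-- The functor `D ↦ Z(J(D))`. -/
noncomputable def zjFun (hp : p ≠ 2) : GFun.{u} p where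
  W := fun _ _ D => centerThompsonAOf D
  Adm := fun _ _ _ => True
  adm_top := fun _ _ => trivial
  adm_comap := fun _ _ _ _ _ _ _ _ => trivial
  ne_bot := fun Q _ _ hQ D _ hD =>
    Cfsg.Agent.Lib.FusionGT.centerA_ne_bot hp (hQ.to_subgroup ⊤) le_top hD
  eq_bot := fun Q _ _ _ D _ hD => by
    have h := Cfsg.Agent.Lib.FusionGT.centerA_le (p := p) hp D
    rw [hD] at h ⊢
    exact le_bot_iff.mp h
  natural := fun Q R _ _ _ _ φ D _ =>
    Cfsg.Agent.Lib.ZJQuot.centerA_map φ.toMonoidHom (fun a _ b _ h => φ.injective h)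
  local_normal := fun L _ _ P D _ hDc hC hnot => by
    rw [Cfsg.Agent.Lib.ZJQuot.centerA_map (P : Subgroup L).subtype (fun a _ b _ h => Subtype.ext h)]
    have hst : IsNormalizerPStable p L := by
      by_contra hn
      exact hnot ((Cfsg.Agent.Lib.QdSection.involves_iff).2
        (Cfsg.Agent.Lib.QdStable.invTo_of_not_stable hp hn))
    exact Cfsg.Agent.Lib.ZJApps.centerA_normal hp P hDc hC
      fun B hB hBp => Cfsg.Agent.Lib.ZJApps.stabOn_of_normalizerStable hst hB hBp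

section factor

variable {Ω : Type*} [Group Ω] {S : Subgroup Ω} {Ω' : Type*} [Group Ω'] {S' : Subgroup Ω'}
  {Ω₁ : Type*} [Group Ω₁] {S₁ : Subgroup Ω₁}

/-- The image of a normal subgroup is normal in a factor system. -/
theorem imageAlong_normal [Finite S] (hS : IsPGroup p S) {F : FusionSystem S} (hF : F.IsSaturated p)
    {R : Subgroup Ω} (hR : F.StronglyClosed R) {θ : S →* Ω'} {E : FusionSystem S'}
    (hE : F.IsFactorSystem R θ E) {Y : Subgroup Ω} (hY : F.IsNormal Y) :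
    E.IsNormal (imageAlong θ Y) := by
  have hmor := isSurjectiveMorphism_of_factor hS hF hR hE
  obtain ⟨hRS, hker, hrange, hhom⟩ := hE
  have hYS := hY.1
  refine ⟨?_, fun P' φ' hφ' => ?_⟩
  · rintro _ ⟨t, -, rfl⟩
    rw [← hrange]
    exact ⟨t, rfl⟩
  obtain ⟨hP', φ, hφ, hPS, hv, hPm, e⟩ := (hhom P' φ').mp hφ'
  obtain ⟨ψ, hψ, hext, hmap⟩ := hY.2 _ φ hφ
  obtain ⟨ψ₀, hψ₀, hAS, hψv, hPm₀, e₀⟩ := hmor.1.2 _ ψ hψ
  have hP'r : P' ≤ θ.range := hrange ▸ hP'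
  have hD : imageAlong θ (preimageAlong θ P' ⊔ Y) = P' ⊔ imageAlong θ Y := by
    rw [imageAlong_sup' θ (preimageAlong_le θ P') hYS, image_preimage θ hP'r]
  have hDge := hD.ge
  refine ⟨ψ₀.comp (Subgroup.inclusion hDge), restrict_mem E hψ₀ hDge, fun y => ?_, ?_⟩
  · obtain ⟨x, hx, hxP, ex⟩ := exists_lift θ hP'r y
    have e1 := e ⟨x, hxP⟩
    have e2 := e₀ (Subgroup.inclusion le_sup_left ⟨x, hxP⟩)
    have e3 := hext ⟨x, hxP⟩
    have hy : y = ⟨θ ⟨x, hx⟩, ex ▸ y.2⟩ := Subtype.ext ex.symm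
    rw [hy]
    refine Eq.trans ?_ e1.symm
    refine Eq.trans (Eq.trans ?_ e2) (congrArg θ (Subtype.ext e3))
    rfl
  · rw [map_subgroupOf_eq_iff]
    obtain ⟨hY1, hY2⟩ := (map_subgroupOf_eq_iff ψ).mp hmap
    refine ⟨fun y hy => ?_, fun z hz => ?_⟩
    · have hy' : (y : Ω') ∈ imageAlong θ Y := hy
      obtain ⟨t, ht, ety⟩ := hy'
      have ht' : (t : Ω) ∈ Y := ht
      have e1 := e₀ ⟨t, Subgroup.mem_sup_right ht'⟩
      have e2 := hY1 ⟨t, Subgroup.mem_sup_right ht'⟩ ht'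
      have hy2 : Subgroup.inclusion hDge y = ⟨θ ⟨t, t.2⟩, hPm₀ ⟨t, Subgroup.mem_sup_right ht'⟩⟩ :=
        Subtype.ext ety.symm
      show ψ₀ (Subgroup.inclusion hDge y) ∈ imageAlong θ Y
      rw [hy2, e1]
      exact ⟨⟨ψ ⟨t, Subgroup.mem_sup_right ht'⟩, hψv _⟩, e2, rfl⟩
    · obtain ⟨t, ht, etz⟩ := hz
      have ht' : (t : Ω) ∈ Y := ht
      obtain ⟨w, hw, ew⟩ := hY2 t ht'
      have hwS : (w : Ω) ∈ S := hAS w.2
      have hθw : θ ⟨w, hwS⟩ ∈ imageAlong θ Y := ⟨⟨w, hwS⟩, hw, rfl⟩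
      refine ⟨⟨θ ⟨w, hwS⟩, Subgroup.mem_sup_right hθw⟩, hθw, ?_⟩
      have e1 := e₀ w
      have e2 : (⟨ψ w, hψv w⟩ : S) = t := Subtype.ext ew
      rw [e2, etz] at e1
      exact e1

/-- The image of a strongly closed subgroup containing the kernel is strongly closed. -/
theorem stronglyClosed_image {F : FusionSystem S} {Z R : Subgroup Ω} (hR : F.StronglyClosed R)
    (hZR : Z ≤ R) {π : S →* Ω₁} {F₁ : FusionSystem S₁} (hπ : F.IsFactorSystem Z π F₁) :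
    F₁.StronglyClosed (imageAlong π R) := by
  obtain ⟨hZS, hker, hrange, hhom⟩ := hπ
  refine ⟨?_, fun Q₁ hQ₁ φ₁ hφ₁ x => ?_⟩
  · rintro _ ⟨t, -, rfl⟩
    rw [← hrange]
    exact ⟨t, rfl⟩
  obtain ⟨hQ₁S, φ, hφ, hPS, hv, hPm, e⟩ := (hhom Q₁ φ₁).mp hφ₁
  have hQ₁r : Q₁ ≤ π.range := hrange ▸ hQ₁S
  obtain ⟨s, hs, hsP, es⟩ := exists_lift π hQ₁r x
  have hle : preimageAlong π Q₁ ≤ R := by
    intro z hz
    obtain ⟨hzS, hz'⟩ := (mem_preimageAlong π Q₁ z).mp hz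
    obtain ⟨r, hr, er⟩ := hQ₁ hz'
    have h1 : π (r⁻¹ * ⟨z, hzS⟩) = 1 := by
      rw [map_mul, map_inv, er, inv_mul_cancel]
    have h2 : ((r⁻¹ * ⟨z, hzS⟩ : S) : Ω) ∈ Z := (hker _).mp h1
    have h3 : (r : Ω)⁻¹ * z ∈ R := hZR h2
    have h4 : z = (r : Ω) * ((r : Ω)⁻¹ * z) := by group
    rw [h4]
    exact mul_mem hr h3
  have e1 := e ⟨s, hsP⟩
  have hx : x = ⟨π ⟨s, hs⟩, es ▸ x.2⟩ := Subtype.ext es.symm
  rw [hx]
  have e1' : φ₁ ⟨π ⟨s, hs⟩, es ▸ x.2⟩ = π ⟨φ ⟨s, hsP⟩, hv _⟩ := e1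
  rw [e1']
  exact ⟨⟨φ ⟨s, hsP⟩, hv _⟩, hR.2 _ hle φ hφ ⟨s, hsP⟩, rfl⟩

/-- The factor of a factor: `E` is a factor system of `F₁ = F/Z` by the image of `R`. -/
theorem isFactor_comp [Finite S] (hS : IsPGroup p S) {F : FusionSystem S} (hF : F.IsSaturated p)
    {Z R : Subgroup Ω} (hZ : F.StronglyClosed Z) (hZR : Z ≤ R) {π : S →* Ω₁}
    {F₁ : FusionSystem S₁} (hπ : F.IsFactorSystem Z π F₁) {θ : S →* Ω'} {E : FusionSystem S'}
    (hE : F.IsFactorSystem R θ E) {θ₁ : S₁ →* Ω'}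
    (hθ₁ : ∀ (s : S) (h : π s ∈ S₁), θ₁ ⟨π s, h⟩ = θ s) :
    F₁.IsFactorSystem (imageAlong π R) θ₁ E := by
  have hmor := isSurjectiveMorphism_of_factor hS hF hZ hπ
  obtain ⟨hZS, hkerπ, hrangeπ, hhomπ⟩ := hπ
  obtain ⟨hRS, hkerθ, hrangeθ, hhomθ⟩ := hE
  have hπS : ∀ s, π s ∈ S₁ := fun s => hrangeπ ▸ ⟨s, rfl⟩
  have hsurj : ∀ s₁ : S₁, ∃ s : S, s₁ = ⟨π s, hπS s⟩ := by
    intro s₁
    obtain ⟨s, hs⟩ : (s₁ : Ω₁) ∈ π.range := hrangeπ ▸ s₁.2
    exact ⟨s, Subtype.ext hs.symm⟩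
  have hmemR : ∀ s : S, π s ∈ imageAlong π R ↔ (s : Ω) ∈ R := by
    intro s
    constructor
    · rintro ⟨r, hr, er⟩
      have h1 : π (r⁻¹ * s) = 1 := by
        rw [map_mul, map_inv, er, inv_mul_cancel]
      have h2 : ((r⁻¹ * s : S) : Ω) ∈ Z := (hkerπ _).mp h1
      have h3 : (r : Ω)⁻¹ * s ∈ R := hZR h2
      have h4 : (s : Ω) = (r : Ω) * ((r : Ω)⁻¹ * s) := by group
      rw [h4]
      exact mul_mem hr h3
    · intro h
      exact ⟨s, h, rfl⟩
  have hpre : ∀ P' : Subgroup Ω', preimageAlong π (preimageAlong θ₁ P') = preimageAlong θ P' := by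
    intro P'
    ext x
    rw [mem_preimageAlong, mem_preimageAlong]
    constructor
    · rintro ⟨h, h'⟩
      obtain ⟨h1, h2⟩ := (mem_preimageAlong θ₁ P' _).mp h'
      refine ⟨h, ?_⟩
      rw [← hθ₁ ⟨x, h⟩ h1]
      exact h2
    · rintro ⟨h, h'⟩
      refine ⟨h, (mem_preimageAlong θ₁ P' _).mpr ⟨hπS _, ?_⟩⟩
      rw [hθ₁ ⟨x, h⟩]
      exact h'
  have him : ∀ P' : Subgroup Ω', imageAlong π (preimageAlong θ P') = preimageAlong θ₁ P' := by
    intro P'
    rw [← hpre P']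
    refine image_preimage π ?_
    rw [hrangeπ]
    exact preimageAlong_le θ₁ P'
  refine ⟨?_, ?_, ?_, fun P' φ' => ?_⟩
  · rintro _ ⟨t, -, rfl⟩
    exact hπS t
  · intro s₁
    obtain ⟨s, rfl⟩ := hsurj s₁
    rw [hθ₁, hkerθ]
    exact (hmemR s).symm
  · ext y
    constructor
    · rintro ⟨s₁, rfl⟩
      obtain ⟨s, rfl⟩ := hsurj s₁
      rw [hθ₁, ← hrangeθ]
      exact ⟨s, rfl⟩
    · intro hy
      rw [← hrangeθ] at hy
      obtain ⟨s, rfl⟩ := hy
      exact ⟨⟨π s, hπS s⟩, hθ₁ s _⟩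
  · constructor
    · intro hφ'
      obtain ⟨hP', φ, hφ, hPS, hv, hPm, e⟩ := (hhomθ P' φ').mp hφ'
      refine ⟨hP', ?_⟩
      obtain ⟨φ₀, hφ₀, hPS₀, hv₀, hPm₀, e₀⟩ := hmor.1.2 _ φ hφ
      have hle : preimageAlong θ₁ P' ≤ imageAlong π (preimageAlong θ P') := (him P').ge
      refine ⟨φ₀.comp (Subgroup.inclusion hle), restrict_mem F₁ hφ₀ hle, preimageAlong_le θ₁ P',
        fun x => map_mem_S F₁ hφ₀ _, fun x => ((mem_preimageAlong θ₁ P' _).mp x.2).2, fun x => ?_⟩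
      obtain ⟨a, ha, ex⟩ := hle x.2
      have ha' : (a : Ω) ∈ preimageAlong θ P' := ha
      have e1 := e ⟨a, ha'⟩
      have e2 := e₀ ⟨a, ha'⟩
      have hinc : Subgroup.inclusion hle x = ⟨π a, hPm₀ ⟨a, ha'⟩⟩ := Subtype.ext ex.symm
      have e3 : θ₁ ⟨x, preimageAlong_le θ₁ P' x.2⟩ = θ a := by
        have h5 : (⟨(x : Ω₁), preimageAlong_le θ₁ P' x.2⟩ : S₁) = ⟨π a, hπS a⟩ := Subtype.ext ex.symm
        rw [h5, hθ₁]
      have e4 : (φ₀.comp (Subgroup.inclusion hle)) x = π ⟨φ ⟨a, ha'⟩, hv _⟩ := by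
        show φ₀ (Subgroup.inclusion hle x) = _
        rw [hinc]
        exact e2
      have e5 : (⟨(φ₀.comp (Subgroup.inclusion hle)) x, map_mem_S F₁ hφ₀ _⟩ : S₁) =
          ⟨π ⟨φ ⟨a, ha'⟩, hv _⟩, hπS _⟩ := Subtype.ext e4
      rw [e5, hθ₁]
      refine Eq.trans ?_ e1
      congr 1
      exact Subtype.ext e3
    · rintro ⟨hP', φ₁, hφ₁, hPS₁, hv₁, hPm₁, e₁⟩
      obtain ⟨-, φ, hφ, hPS, hv, hPm, e⟩ := (hhomπ _ φ₁).mp hφ₁
      have hle : preimageAlong θ P' ≤ preimageAlong π (preimageAlong θ₁ P') := (hpre P').ge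
      refine (hhomθ P' φ').mpr ⟨hP', φ.comp (Subgroup.inclusion hle), restrict_mem F hφ hle,
        preimageAlong_le θ P', fun x => hv _, fun x => ((mem_preimageAlong θ P' _).mp x.2).2,
        fun x => ?_⟩
      have hx : (x : Ω) ∈ preimageAlong π (preimageAlong θ₁ P') := hle x.2
      have e2 := e ⟨x, hx⟩
      have hπx := hPm ⟨x, hx⟩
      have e3 := e₁ ⟨π ⟨x, hPS hx⟩, hπx⟩
      have e4 : θ₁ ⟨π ⟨x, hPS hx⟩, hPS₁ hπx⟩ = θ ⟨x, hPS hx⟩ := hθ₁ _ _
      have e5 : (⟨φ₁ ⟨π ⟨x, hPS hx⟩, hπx⟩, hv₁ _⟩ : S₁) = ⟨π ⟨φ ⟨x, hx⟩, hv _⟩, hπS _⟩ :=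
        Subtype.ext e2
      have e6 : θ₁ ⟨φ₁ ⟨π ⟨x, hPS hx⟩, hπx⟩, hv₁ _⟩ = θ ⟨φ ⟨x, hx⟩, hv _⟩ := by
        rw [e5, hθ₁]
      refine Eq.trans ?_ (e3.trans e6)
      congr 1
      exact Subtype.ext e4.symm

end factor

open Cfsg.Agent.Lib.FusionGT in
/-- The main theorem: every proper factor of a system without `Qd(p)` sections has nontrivial core. -/
theorem core_ne_bot (hp : p ≠ 2) : ∀ (n : ℕ) (Ω : Type u) [Group Ω] (S : Subgroup Ω) [Finite S],
    Nat.card S = n → IsPGroup p S → ∀ F : FusionSystem S, F.IsSaturated p →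
      F.IsSectionFree p ↥(qd p) → ∀ R : Subgroup Ω, F.StronglyClosed R → R ≠ S →
        ∀ (Ω' : Type u) [Group Ω'] (S' : Subgroup Ω') (θ : S →* Ω') (E : FusionSystem S'),
          F.IsFactorSystem R θ E → E.core ≠ ⊥ := by
  intro n
  induction n using Nat.strong_induction_on with
  | _ n ih =>
    intro Ω _ S _ hn hS F hF hfree R hR hne Ω' _ S' θ E hE
    have hmain := main_induction (zjFun.{u} hp) n Ω S hn hS F hF hfree
    have hSsc : F.StronglyClosed S := ⟨le_rfl, fun R _ φ hφ x => map_mem_S F hφ x⟩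
    by_cases hR0 : R = ⊥
    · have hSne : S ≠ ⊥ := fun h => hne (hR0.trans h.symm)
      have hY := hmain.2 S trivial hSsc
      have hDne : S.subgroupOf S ≠ ⊥ := by
        rw [Subgroup.subgroupOf_self]
        intro h3
        apply hSne
        rw [eq_bot_iff]
        intro x hx
        have h4 : (⟨x, hx⟩ : S) ∈ (⊤ : Subgroup S) := trivial
        rw [h3, Subgroup.mem_bot] at h4
        exact congrArg Subtype.val h4
      have hYne : Yf (zjFun.{u} hp) S S ≠ ⊥ := by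
        intro h0
        apply (zjFun.{u} hp).ne_bot _ hS _ trivial hDne
        exact (Subgroup.map_eq_bot_iff_of_injective _ (Subgroup.subtype_injective _)).mp h0
      have hN := imageAlong_normal hS hF hR hE hY
      intro h0
      have h1 := IsNormal.le_core hN
      rw [h0, le_bot_iff] at h1
      apply hYne
      rw [eq_bot_iff]
      intro y hy
      have hyS := Yf_le (zjFun.{u} hp) S S hy
      have h2 : θ ⟨y, hyS⟩ ∈ imageAlong θ (Yf (zjFun.{u} hp) S S) := ⟨⟨y, hyS⟩, hy, rfl⟩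
      rw [h1, Subgroup.mem_bot] at h2
      have h3 := (hE.2.1 _).mp h2
      rw [hR0] at h3
      exact h3
    · have hRS := hR.1
      have hZn := hmain.2 R trivial hR
      have hDne : R.subgroupOf S ≠ ⊥ := by
        intro h3
        apply hR0
        rw [eq_bot_iff]
        intro x hx
        have h4 : (⟨x, hRS hx⟩ : S) ∈ R.subgroupOf S := hx
        rw [h3, Subgroup.mem_bot] at h4
        exact congrArg Subtype.val h4
      have hZne : Yf (zjFun.{u} hp) S R ≠ ⊥ := by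
        intro h0
        apply (zjFun.{u} hp).ne_bot _ hS _ trivial hDne
        exact (Subgroup.map_eq_bot_iff_of_injective _ (Subgroup.subtype_injective _)).mp h0
      have hZR : Yf (zjFun.{u} hp) S R ≤ R := by
        rintro _ ⟨t, ht, rfl⟩
        have ht' : t ∈ centerThompsonAOf (R.subgroupOf S) := ht
        exact Cfsg.Agent.Lib.FusionGT.centerA_le (p := p) hp (R.subgroupOf S) ht'
      have hZsc := IsNormal.stronglyClosed hZn
      haveI hnorm : ((Yf (zjFun.{u} hp) S R).subgroupOf S).Normal := by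
        refine Subgroup.Normal.mk fun x hx g => ?_
        have h1 := Subgroup.mem_normalizer_iff.mp (StronglyClosed.le_normalizer hZsc g.2) x
        exact h1.mp hx
      have hker : ∀ s : S, (QuotientGroup.mk' ((Yf (zjFun.{u} hp) S R).subgroupOf S)) s = 1 ↔
          (s : Ω) ∈ Yf (zjFun.{u} hp) S R := fun s => QuotientGroup.eq_one_iff s
      have hrange : (QuotientGroup.mk' ((Yf (zjFun.{u} hp) S R).subgroupOf S)).range = ⊤ :=
        MonoidHom.range_eq_top.mpr (QuotientGroup.mk'_surjective _)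
      obtain ⟨F₁, hF₁⟩ := exists_factorSystem F hZsc
        (QuotientGroup.mk' ((Yf (zjFun.{u} hp) S R).subgroupOf S)) hker hrange
      have hmor := isSurjectiveMorphism_of_factor hS hF hZsc hF₁
      have hES : IsPGroup p (⊤ : Subgroup (S ⧸ (Yf (zjFun.{u} hp) S R).subgroupOf S)) :=
        (hS.to_quotient _).to_subgroup ⊤
      have hEs : F₁.IsSaturated p := isSaturated_of_surjective hS hF hmor
      have hEf := factor_sectionFree hS hF hZn hF₁ hfree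
      have hlt : Nat.card ↥(⊤ : Subgroup (S ⧸ (Yf (zjFun.{u} hp) S R).subgroupOf S)) < n := by
        rw [Subgroup.card_top, ← hn]
        have h1 := Subgroup.card_eq_card_quotient_mul_card_subgroup ((Yf (zjFun.{u} hp) S R).subgroupOf S)
        have h2 : 1 < Nat.card ↥((Yf (zjFun.{u} hp) S R).subgroupOf S) := by
          rw [Subgroup.one_lt_card_iff_ne_bot]
          intro h3
          apply hZne
          rw [eq_bot_iff]
          intro x hx
          have h4 : (⟨x, hZn.1 hx⟩ : S) ∈ (Yf (zjFun.{u} hp) S R).subgroupOf S := hx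
          rw [h3, Subgroup.mem_bot] at h4
          exact congrArg Subtype.val h4
        have h5 : 0 < Nat.card (S ⧸ (Yf (zjFun.{u} hp) S R).subgroupOf S) := Nat.card_pos
        rw [h1]
        nlinarith
      have hkerle : (Yf (zjFun.{u} hp) S R).subgroupOf S ≤ θ.ker := by
        intro s hs
        exact (hE.2.1 s).mpr (hZR hs)
      let θ₁ : ↥(⊤ : Subgroup (S ⧸ (Yf (zjFun.{u} hp) S R).subgroupOf S)) →* Ω' :=
        (QuotientGroup.lift ((Yf (zjFun.{u} hp) S R).subgroupOf S) θ hkerle).comp (⊤ : Subgroup _).subtype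
      have hθ₁ : ∀ (s : S) (h : QuotientGroup.mk' ((Yf (zjFun.{u} hp) S R).subgroupOf S) s ∈
          (⊤ : Subgroup (S ⧸ (Yf (zjFun.{u} hp) S R).subgroupOf S))),
          θ₁ ⟨QuotientGroup.mk' _ s, h⟩ = θ s := fun s h => rfl
      have hfac := isFactor_comp hS hF hZsc hZR hF₁ hE hθ₁
      have hR₁ := stronglyClosed_image hR hZR hF₁
      have hR₁ne : imageAlong (QuotientGroup.mk' ((Yf (zjFun.{u} hp) S R).subgroupOf S)) R ≠ ⊤ := by
        intro htop
        apply hne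
        refine le_antisymm hRS fun s hs => ?_
        have h1 : QuotientGroup.mk' ((Yf (zjFun.{u} hp) S R).subgroupOf S) ⟨s, hs⟩ ∈
            imageAlong (QuotientGroup.mk' ((Yf (zjFun.{u} hp) S R).subgroupOf S)) R := by
          rw [htop]
          trivial
        obtain ⟨r, hr, er⟩ := h1
        have h2 : QuotientGroup.mk' ((Yf (zjFun.{u} hp) S R).subgroupOf S) (r⁻¹ * ⟨s, hs⟩) = 1 := by
          rw [map_mul, map_inv, er, inv_mul_cancel]
        have h3 : ((r⁻¹ * ⟨s, hs⟩ : S) : Ω) ∈ Yf (zjFun.{u} hp) S R := (hker _).mp h2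
        have h4 : (r : Ω)⁻¹ * s ∈ R := hZR h3
        have h5 : s = (r : Ω) * ((r : Ω)⁻¹ * s) := by group
        rw [h5]
        exact mul_mem hr h4
      exact ih _ hlt _ ⊤ rfl hES F₁ hEs hEf _ hR₁ hR₁ne Ω' S' θ₁ E hfac

end Cfsg.Agent.Lib.FusionSolvableQd
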