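import Cfsg.Agent.Lib.FusionGroupFree
import Cfsg.Agent.Lib.FusionSolvableQd
import Cfsg.Agent.Lib.QdStable

/-!
A group involving `Qd(p)` has a centric fully normalized subgroup whose local model involves `Qd(p)`.
-/

set_option autoImplicit false

universe u

namespace Cfsg.Agent.Lib.FusionQdGroup

open Cfsg Cfsg.FusionSystem Cfsg.Agent.Lib.FusionBasic Cfsg.Agent.Lib.FusionAut
  Cfsg.Agent.Lib.FusionSat Cfsg.Agent.Lib.FusionAlperin Cfsg.Agent.Lib.FusionNormal
  Cfsg.Agent.Lib.FusionFactor Cfsg.Agent.Lib.FusionLocal Cfsg.Agent.Lib.FusionNormSat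
  Cfsg.Agent.Lib.FusionModel Cfsg.Agent.Lib.FusionLocalModel Cfsg.Agent.Lib.FusionEmb
  Cfsg.Agent.Lib.FusionQuot Cfsg.Agent.Lib.FusionFactorModel Cfsg.Agent.Lib.SylowIn
  Cfsg.Agent.Lib.FusionGroupFree

variable {p : ℕ} [Fact p.Prime]

/-- `SL₂(p)` for short. -/
abbrev SL2 (p : ℕ) := Matrix.SpecialLinearGroup (Fin 2) (ZMod p)

/-- The matrix action on vectors. -/
abbrev actV (M : SL2 p) (v : Fin 2 → ZMod p) : Fin 2 → ZMod p :=
  (M : Matrix (Fin 2) (Fin 2) (ZMod p)).mulVec v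

theorem SL2_ext {M M' : SL2 p} (h : ∀ v, actV M v = actV M' v) : M = M' := by
  apply Subtype.ext
  exact Matrix.ext_iff_mulVec.2 h

/-- A group with a section carrying the natural action involves `Qd(p)`. -/
theorem involves_of_action (hp : p ≠ 2) {B L : Type*} [Group B] [Finite B] [Group L] (β : B →* L)
    (W : Subgroup B) [hW : W.Normal] (ν : (Fin 2 → ZMod p) → B) (τ : B →* SL2 p)
    (hτ : Function.Surjective τ) (hWτ : W ≤ τ.ker) (hβτ : β.ker ≤ τ.ker)
    (hadd : ∀ u v, (ν (u + v))⁻¹ * (ν u * ν v) ∈ W)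
    (hact : ∀ x u, (ν (actV (τ x) u))⁻¹ * (x * ν u * x⁻¹) ∈ W)
    (hinj : ∀ u, ∀ w ∈ W, β (ν u) = β w → u = 0) : Involves ↥(qd p) L := by
  classical
  haveI hD : (W ⊔ β.ker).Normal := Subgroup.sup_normal _ _
  have hDτ : W ⊔ β.ker ≤ τ.ker := sup_le hWτ hβτ
  let τ' : (B ⧸ (W ⊔ β.ker)) →* SL2 p := QuotientGroup.lift (W ⊔ β.ker) τ hDτ
  have hτ'mk : ∀ b, τ' (QuotientGroup.mk' (W ⊔ β.ker) b) = τ b := fun b => rfl
  have hτ's : Function.Surjective τ' := by
    intro M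
    obtain ⟨b, hb⟩ := hτ M
    exact ⟨QuotientGroup.mk' _ b, hb⟩
  let ν' : (Fin 2 → ZMod p) → (B ⧸ (W ⊔ β.ker)) := fun u => QuotientGroup.mk' (W ⊔ β.ker) (ν u)
  have hmkW : ∀ x ∈ W, QuotientGroup.mk' (W ⊔ β.ker) x = 1 := fun x hx =>
    (QuotientGroup.eq_one_iff x).mpr (Subgroup.mem_sup_left hx)
  have hadd' : ∀ u v, ν' (u + v) = ν' u * ν' v := by
    intro u v
    have h1 := hmkW _ (hadd u v)
    rw [map_mul, map_inv, map_mul, inv_mul_eq_one] at h1
    exact h1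
  have hinj' : Function.Injective ν' := by
    intro u v huv
    have h0 : ν' (v - u) = 1 := by
      have h1 := hadd' u (v - u)
      rw [add_sub_cancel, huv] at h1
      exact (mul_eq_left.mp h1.symm)
    have h2 : ν (v - u) ∈ W ⊔ β.ker := (QuotientGroup.eq_one_iff _).mp h0
    obtain ⟨w, hw, k, hk, e⟩ := Subgroup.mem_sup_of_normal_right.mp h2
    have h3 : β (ν (v - u)) = β w := by
      rw [← e, map_mul, MonoidHom.mem_ker.mp hk, mul_one]
    have h4 := hinj _ w hw h3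
    exact (sub_eq_zero.mp h4).symm
  have hact' : ∀ x u, x * ν' u * x⁻¹ = ν' (actV (τ' x) u) := by
    intro x u
    obtain ⟨b, rfl⟩ := QuotientGroup.mk'_surjective _ x
    have h1 := hmkW _ (hact b u)
    rw [map_mul, map_inv, map_mul, map_mul, map_inv, inv_mul_eq_one] at h1
    exact h1.symm
  have h1 := Cfsg.Agent.Lib.QdStable.invTo_of_not_stable hp
    (Cfsg.Agent.Lib.QdStable.not_stable_of_action hp ν' hadd' hinj' τ' hτ's hact')
  have h2 : Involves ↥(qd p) (B ⧸ (W ⊔ β.ker)) := Cfsg.Agent.Lib.QdSection.involves_iff.2 h1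
  have hkerle : β.rangeRestrict.ker ≤ (QuotientGroup.mk' (W ⊔ β.ker)).ker := by
    intro x hx
    have hx' : β x = 1 := congrArg Subtype.val hx
    exact (QuotientGroup.eq_one_iff x).mpr (Subgroup.mem_sup_right hx')
  let f : β.range →* (B ⧸ (W ⊔ β.ker)) :=
    β.rangeRestrict.liftOfSurjective β.rangeRestrict_surjective ⟨_, hkerle⟩
  have hf : ∀ b, f (β.rangeRestrict b) = QuotientGroup.mk' _ b := fun b =>
    MonoidHom.liftOfRightInverse_comp_apply _ _ _ ⟨_, hkerle⟩ b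
  have hfs : Function.Surjective f := by
    intro y
    obtain ⟨b, rfl⟩ := QuotientGroup.mk'_surjective _ y
    exact ⟨β.rangeRestrict b, hf b⟩
  exact involves_trans_inj (involves_of_surj h2 f hfs) (Subgroup.subtype _)
    (Subgroup.subtype_injective _)

/-- The natural action of a subgroup on a section of a `p`-subgroup. -/
structure ActData (p : ℕ) {X : Type*} [Group X] (U A : Subgroup X) (ξ : X → (Fin 2 → ZMod p)) :
    Prop where
  hUA : U ≤ A
  hAN : A ≤ Subgroup.normalizer (U : Set X)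
  hp : IsPGroup p U
  hadd : ∀ x ∈ U, ∀ y ∈ U, ξ (x * y) = ξ x + ξ y
  hsurj : ∀ v, ∃ u ∈ U, ξ u = v
  hex : ∀ a ∈ A, ∃ M : SL2 p, ∀ u ∈ U, ξ (a * u * a⁻¹) = actV M (ξ u)
  hall : ∀ M : SL2 p, ∃ a ∈ A, ∀ u ∈ U, ξ (a * u * a⁻¹) = actV M (ξ u)

section actData

variable {X : Type*} [Group X] {U A : Subgroup X} {ξ : X → (Fin 2 → ZMod p)}

theorem ActData.xi_one (h : ActData p U A ξ) : ξ 1 = 0 := by
  have h1 := h.hadd 1 (one_mem _) 1 (one_mem _)
  rw [mul_one] at h1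
  exact left_eq_add.mp h1

theorem ActData.xi_inv (h : ActData p U A ξ) {x : X} (hx : x ∈ U) : ξ x⁻¹ = - ξ x := by
  have h1 := h.hadd x hx x⁻¹ (inv_mem hx)
  rw [mul_inv_cancel, h.xi_one] at h1
  exact eq_neg_of_add_eq_zero_right h1.symm

theorem ActData.conj_mem (h : ActData p U A ξ) {a x : X} (ha : a ∈ A) (hx : x ∈ U) :
    a * x * a⁻¹ ∈ U :=
  (Subgroup.mem_normalizer_iff.mp (h.hAN ha) x).mp hx

/-- The action as a homomorphism to `SL₂(p)`. -/
theorem ActData.exists_tau (h : ActData p U A ξ) :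
    ∃ τ : ↥A →* SL2 p, Function.Surjective τ ∧
      ∀ (a : A), ∀ u ∈ U, ξ ((a : X) * u * (a : X)⁻¹) = actV (τ a) (ξ u) := by
  classical
  have huniq : ∀ M M' : SL2 p, (∀ u ∈ U, actV M (ξ u) = actV M' (ξ u)) → M = M' := by
    intro M M' hMM
    apply SL2_ext
    intro v
    obtain ⟨u, hu, rfl⟩ := h.hsurj v
    exact hMM u hu
  choose f hf using fun a : A => h.hex a a.2
  have hmul : ∀ a b : A, f (a * b) = f a * f b := by
    intro a b
    apply huniq
    intro u hu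
    have e1 := hf (a * b) u hu
    have hb := h.conj_mem b.2 hu
    have e2 := hf a _ hb
    have e3 := hf b u hu
    have e4 : ((a * b : A) : X) * u * ((a * b : A) : X)⁻¹ =
        (a : X) * ((b : X) * u * (b : X)⁻¹) * (a : X)⁻¹ := by
      show (a : X) * b * u * ((a : X) * b)⁻¹ = _
      group
    rw [e4, e2, e3] at e1
    rw [← e1]
    show _ = ((f a * f b : SL2 p) : Matrix (Fin 2) (Fin 2) (ZMod p)).mulVec (ξ u)
    rw [Matrix.SpecialLinearGroup.coe_mul, ← Matrix.mulVec_mulVec]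
  refine ⟨MonoidHom.mk' f hmul, ?_, hf⟩
  intro M
  obtain ⟨a, ha, hM⟩ := h.hall M
  refine ⟨⟨a, ha⟩, huniq _ _ fun u hu => ?_⟩
  have e := hf ⟨a, ha⟩ u hu
  rw [← hM u hu]
  exact e.symm

/-- Transport along an injective map. -/
theorem ActData.map {G : Type*} [Group G] (h : ActData p U A ξ) (j : X →* G)
    (hj : Function.Injective j) :
    ActData p (U.map j) (A.map j) (Function.extend j ξ 0) := by
  have hξ : ∀ x, Function.extend j ξ 0 (j x) = ξ x := fun x => hj.extend_apply ξ 0 x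
  refine ⟨Subgroup.map_mono h.hUA, ?_, h.hp.map j, ?_, ?_, ?_, ?_⟩
  · rintro _ ⟨a, ha, rfl⟩
    exact Subgroup.le_normalizer_map j ⟨a, SetLike.mem_coe.mpr (h.hAN ha), rfl⟩
  · rintro _ ⟨x, hx, rfl⟩ _ ⟨y, hy, rfl⟩
    rw [← map_mul, hξ, hξ, hξ]
    exact h.hadd x hx y hy
  · intro v
    obtain ⟨u, hu, e⟩ := h.hsurj v
    exact ⟨j u, ⟨u, hu, rfl⟩, by rw [hξ, e]⟩
  · rintro _ ⟨a, ha, rfl⟩
    obtain ⟨M, hM⟩ := h.hex a ha
    refine ⟨M, ?_⟩
    rintro _ ⟨u, hu, rfl⟩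
    have e : j a * j u * (j a)⁻¹ = j (a * u * a⁻¹) := by
      rw [map_mul, map_mul, map_inv]
    rw [e, hξ, hξ]
    exact hM u hu
  · intro M
    obtain ⟨a, ha, hM⟩ := h.hall M
    refine ⟨j a, ⟨a, ha, rfl⟩, ?_⟩
    rintro _ ⟨u, hu, rfl⟩
    have e : j a * j u * (j a)⁻¹ = j (a * u * a⁻¹) := by
      rw [map_mul, map_mul, map_inv]
    rw [e, hξ, hξ]
    exact hM u hu

/-- Data with a map from the acting group: involvement in the target. -/
theorem involves_of_actData [Finite X] (hp : p ≠ 2) (h : ActData p U A ξ) {L : Type*} [Group L]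
    (β : ↥A →* L) (hβ1 : ∀ x : A, β x = 1 → ∀ u ∈ U, (x : X) * u * (x : X)⁻¹ = u)
    (hβ2 : ∀ x y : A, (x : X) ∈ U → (y : X) ∈ U → β x = β y → x = y) :
    Involves ↥(qd p) L := by
  classical
  obtain ⟨τ, hτ, hτa⟩ := h.exists_tau
  have huniq : ∀ (x : A), (∀ u ∈ U, (x : X) * u * (x : X)⁻¹ ∈ U ∧
      ξ ((x : X) * u * (x : X)⁻¹) = ξ u) → τ x = 1 := by
    intro x hx
    apply SL2_ext
    intro v
    obtain ⟨u, hu, rfl⟩ := h.hsurj v
    rw [← hτa x u hu, (hx u hu).2]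
    show _ = ((1 : SL2 p) : Matrix (Fin 2) (Fin 2) (ZMod p)).mulVec (ξ u)
    rw [Matrix.SpecialLinearGroup.coe_one, Matrix.one_mulVec]
  let W : Subgroup A :=
    { carrier := {x | (x : X) ∈ U ∧ ξ x = 0}
      mul_mem' := by
        rintro a b ⟨ha, ha'⟩ ⟨hb, hb'⟩
        refine ⟨mul_mem ha hb, ?_⟩
        show ξ ((a : X) * b) = 0
        rw [h.hadd _ ha _ hb, ha', hb', add_zero]
      one_mem' := ⟨one_mem _, h.xi_one⟩
      inv_mem' := by
        rintro a ⟨ha, ha'⟩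
        refine ⟨inv_mem ha, ?_⟩
        show ξ ((a : X)⁻¹) = 0
        rw [h.xi_inv ha, ha', neg_zero] }
  have hmemW : ∀ x : A, x ∈ W ↔ (x : X) ∈ U ∧ ξ x = 0 := fun x => Iff.rfl
  haveI hWn : W.Normal := by
    refine Subgroup.Normal.mk fun x hx g => ?_
    refine ⟨h.conj_mem g.2 hx.1, ?_⟩
    show ξ ((g : X) * x * (g : X)⁻¹) = 0
    rw [hτa g _ hx.1, hx.2]
    exact Matrix.mulVec_zero _
  have hcommconj : ∀ x ∈ U, ∀ u ∈ U, ξ (x * u * x⁻¹) = ξ u := by
    intro x hx u hu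
    rw [h.hadd _ (mul_mem hx hu) _ (inv_mem hx), h.hadd _ hx _ hu, h.xi_inv hx]
    abel
  have hWτ : W ≤ τ.ker := by
    intro x hx
    apply huniq
    intro u hu
    exact ⟨h.conj_mem x.2 hu, hcommconj _ hx.1 u hu⟩
  have hβτ : β.ker ≤ τ.ker := by
    intro x hx
    apply huniq
    intro u hu
    rw [hβ1 x hx u hu]
    exact ⟨hu, rfl⟩
  have hex : ∀ v, ∃ a : A, (a : X) ∈ U ∧ ξ (a : X) = v := by
    intro v
    obtain ⟨u, hu, e⟩ := h.hsurj v
    exact ⟨⟨u, h.hUA hu⟩, hu, e⟩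
  choose ν hνU hνξ using hex
  refine involves_of_action hp β W ν τ hτ hWτ hβτ ?_ ?_ ?_
  · intro u v
    have h1 : (((ν (u + v))⁻¹ * (ν u * ν v) : A) : X) ∈ U := by
      show ((ν (u + v) : X))⁻¹ * ((ν u : X) * ν v) ∈ U
      exact mul_mem (inv_mem (hνU _)) (mul_mem (hνU _) (hνU _))
    refine ⟨h1, ?_⟩
    show ξ (((ν (u + v) : X))⁻¹ * ((ν u : X) * ν v)) = 0
    rw [h.hadd _ (inv_mem (hνU _)) _ (mul_mem (hνU _) (hνU _)), h.xi_inv (hνU _),
      h.hadd _ (hνU _) _ (hνU _), hνξ, hνξ, hνξ]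
    abel
  · intro x u
    have hc := h.conj_mem x.2 (hνU u)
    have h1 : (((ν (actV (τ x) u))⁻¹ * (x * ν u * x⁻¹) : A) : X) ∈ U := by
      show ((ν (actV (τ x) u) : X))⁻¹ * ((x : X) * ν u * (x : X)⁻¹) ∈ U
      exact mul_mem (inv_mem (hνU _)) hc
    refine ⟨h1, ?_⟩
    show ξ (((ν (actV (τ x) u) : X))⁻¹ * ((x : X) * ν u * (x : X)⁻¹)) = 0
    rw [h.hadd _ (inv_mem (hνU _)) _ hc, h.xi_inv (hνU _), hτa x _ (hνU u), hνξ, hνξ]
    abel
  · intro u w hw e
    have h1 := hβ2 _ _ (hνU u) hw.1 e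
    rw [← hνξ u, h1]
    exact hw.2

end actData

section jStep

variable {G : Type u} [Group G] [Finite G]

/-- Every element of the `p`-part centralizing: `Q` contains all `p`-elements of its centralizer. -/
def PCentric (p : ℕ) (Q : Subgroup G) : Prop :=
  ∀ x ∈ Subgroup.centralizer (Q : Set G), IsPGroup p (Subgroup.zpowers x) → x ∈ Q

/-- Enlarging the acting data to a centric subgroup. -/
theorem exists_centric_data {U A : Subgroup G} {ξ : G → (Fin 2 → ZMod p)} (h : ActData p U A ξ) :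
    ∃ Q B : Subgroup G, IsPGroup p Q ∧ PCentric p Q ∧ U ≤ Q ∧ B ≤ Subgroup.normalizer (Q : Set G) ∧
      ActData p U B ξ := by
  classical
  let H : Subgroup G := Subgroup.normalizer (U : Set G)
  haveI hR₁ : (U.subgroupOf H).Normal := Subgroup.normal_in_normalizer
  let C₁ : Subgroup H := Subgroup.centralizer ((U.subgroupOf H : Subgroup H) : Set H)
  haveI hC₁ : C₁.Normal := Subgroup.normal_centralizer
  obtain ⟨Z⟩ : Nonempty (Sylow p ↥C₁) := inferInstance
  let Z₁ : Subgroup H := (Z : Subgroup C₁).map C₁.subtype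
  have hFr : Subgroup.normalizer (Z₁ : Set H) ⊔ C₁ = ⊤ := Sylow.normalizer_sup_eq_top Z
  have hUH : U ≤ H := Subgroup.le_normalizer
  have hC₁U : ∀ c : H, c ∈ C₁ → ∀ u ∈ U, (c : G) * u * (c : G)⁻¹ = u := by
    intro c hc u hu
    have h1 := Subgroup.mem_centralizer_iff.mp hc ⟨u, hUH hu⟩ (show (u : G) ∈ U from hu)
    have h2 : u * (c : G) = (c : G) * u := congrArg Subtype.val h1
    rw [← h2]
    group
  let Zg : Subgroup G := Z₁.map H.subtype
  have hZg : ∀ z ∈ Zg, ∀ u ∈ U, z * u * z⁻¹ = u := by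
    rintro _ ⟨_, ⟨z, hz, rfl⟩, rfl⟩ u hu
    exact hC₁U z.1 z.2 u hu
  have hZgp : IsPGroup p Zg := (Z.isPGroup'.map _).map _
  have hUZ : U ≤ Subgroup.normalizer (Zg : Set G) := by
    intro u hu
    refine Cfsg.Agent.Lib.QdNonP.mem_normalizer_of_conj fun z hz => ?_
    have h1 := hZg z hz u hu
    have h2 : u * z = z * u := by
      have : z * u = (z * u * z⁻¹) * z := by group
      rw [this, h1]
    rw [h2]
    simpa using hz
  let Q : Subgroup G := U ⊔ Zg
  have hQp : IsPGroup p Q := h.hp.to_sup_of_normal_right' hZgp hUZ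
  let A₁ : Subgroup H := A.subgroupOf H
  let B₁ : Subgroup H := Subgroup.normalizer (Z₁ : Set H) ⊓ (A₁ ⊔ C₁)
  let B : Subgroup G := B₁.map H.subtype
  have hBH : B ≤ H := by
    rintro _ ⟨b, -, rfl⟩
    exact b.2
  have hBZ : ∀ b ∈ B, b ∈ Subgroup.normalizer (Zg : Set G) := by
    rintro _ ⟨b, hb, rfl⟩
    exact Subgroup.le_normalizer_map H.subtype ⟨b, SetLike.mem_coe.mpr hb.1, rfl⟩
  have hBA : ∀ b ∈ B, ∃ a ∈ A, ∀ u ∈ U, b * u * b⁻¹ = a * u * a⁻¹ := by
    rintro _ ⟨b, hb, rfl⟩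
    obtain ⟨a, ha, c, hc, e⟩ := Subgroup.mem_sup_of_normal_right.mp hb.2
    refine ⟨a, ha, fun u hu => ?_⟩
    have e1 := hC₁U c hc u hu
    show (b : G) * u * (b : G)⁻¹ = _
    rw [← e]
    show (a : G) * c * u * ((a : G) * c)⁻¹ = _
    calc (a : G) * c * u * ((a : G) * c)⁻¹ = (a : G) * ((c : G) * u * (c : G)⁻¹) * (a : G)⁻¹ := by group
      _ = _ := by rw [e1]
  have hAB : ∀ a ∈ A, ∃ b ∈ B, ∀ u ∈ U, b * u * b⁻¹ = a * u * a⁻¹ := by
    intro a ha
    have haH : a ∈ H := h.hAN ha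
    have h1 : (⟨a, haH⟩ : H) ∈ Subgroup.normalizer (Z₁ : Set H) ⊔ C₁ := by
      rw [hFr]
      trivial
    obtain ⟨n, hn, c, hc, e⟩ := Subgroup.mem_sup_of_normal_right.mp h1
    have hnA : n ∈ A₁ ⊔ C₁ := by
      have e2 : n = ⟨a, haH⟩ * c⁻¹ := by
        rw [← e]
        group
      rw [e2]
      exact mul_mem (Subgroup.mem_sup_left ha) (Subgroup.mem_sup_right (inv_mem hc))
    refine ⟨n, ⟨n, ⟨hn, hnA⟩, rfl⟩, fun u hu => ?_⟩
    have e3 := hC₁U c⁻¹ (inv_mem hc) u hu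
    have e4 : (n : G) = a * (c⁻¹ : H) := by
      have e2 : n = ⟨a, haH⟩ * c⁻¹ := by
        rw [← e]
        group
      rw [e2]
      rfl
    rw [e4]
    calc a * ((c⁻¹ : H) : G) * u * (a * ((c⁻¹ : H) : G))⁻¹ =
        a * (((c⁻¹ : H) : G) * u * ((c⁻¹ : H) : G)⁻¹) * a⁻¹ := by group
      _ = _ := by rw [e3]
  have hUB : U ≤ B := by
    intro u hu
    refine ⟨⟨u, hUH hu⟩, ⟨?_, Subgroup.mem_sup_left (h.hUA hu : u ∈ A)⟩, rfl⟩
    refine Cfsg.Agent.Lib.QdNonP.mem_normalizer_of_conj fun z hz => ?_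
    have hz' : (z : G) ∈ Zg := ⟨z, hz, rfl⟩
    have h1 := hZg z hz' u hu
    have h2 : (⟨u, hUH hu⟩ : H) * z = z * ⟨u, hUH hu⟩ := by
      apply Subtype.ext
      show u * (z : G) = (z : G) * u
      have : (z : G) * u = ((z : G) * u * (z : G)⁻¹) * z := by group
      rw [this, h1]
    rw [h2]
    simpa using hz
  refine ⟨Q, B, hQp, ?_, le_sup_left, ?_, hUB, hBH, h.hp, h.hadd, h.hsurj, ?_, ?_⟩
  · -- centric
    intro x hx hxp
    have hxU : x ∈ Subgroup.centralizer (U : Set G) :=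
      Subgroup.centralizer_le (le_sup_left : U ≤ Q) hx
    have hxH : x ∈ H := by
      refine Cfsg.Agent.Lib.QdNonP.mem_normalizer_of_conj fun u hu => ?_
      have h1 := Subgroup.mem_centralizer_iff.mp hxU u hu
      have h2 : x * u * x⁻¹ = u := by
        rw [← h1]
        group
      rw [h2]
      exact hu
    have hxC : (⟨x, hxH⟩ : H) ∈ C₁ := by
      rw [Subgroup.mem_centralizer_iff]
      intro u hu
      apply Subtype.ext
      exact Subgroup.mem_centralizer_iff.mp hxU _ hu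
    let x' : C₁ := ⟨⟨x, hxH⟩, hxC⟩
    have hzp : IsPGroup p (Subgroup.zpowers x') := by
      rintro ⟨_, k, rfl⟩
      obtain ⟨m, hm⟩ := hxp ⟨x ^ k, Subgroup.zpow_mem_zpowers x k⟩
      have hm' : (x ^ k) ^ p ^ m = 1 := congrArg Subtype.val hm
      refine ⟨m, Subtype.ext (Subtype.ext (Subtype.ext ?_))⟩
      exact hm'
    have hcomm : ∀ z ∈ (Z : Subgroup C₁), x' * z = z * x' := by
      intro z hz
      have hzQ : ((z : H) : G) ∈ Q :=
        Subgroup.mem_sup_right ⟨z, ⟨z, hz, rfl⟩, rfl⟩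
      have h1 := Subgroup.mem_centralizer_iff.mp hx _ hzQ
      apply Subtype.ext
      apply Subtype.ext
      exact h1.symm
    have hzN : Subgroup.zpowers x' ≤ Subgroup.normalizer ((Z : Subgroup C₁) : Set C₁) := by
      rw [Subgroup.zpowers_le]
      refine Cfsg.Agent.Lib.QdNonP.mem_normalizer_of_conj fun z hz => ?_
      rw [hcomm z hz]
      simpa using hz
    have hsup := hzp.to_sup_of_normal_right' Z.isPGroup' hzN
    have hle : (Z : Subgroup C₁) ≤ Subgroup.zpowers x' ⊔ (Z : Subgroup C₁) := le_sup_right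
    have heq := Z.is_maximal' hsup hle
    have hmem : x' ∈ (Z : Subgroup C₁) := by
      rw [← heq]
      exact Subgroup.mem_sup_left (Subgroup.mem_zpowers x')
    exact Subgroup.mem_sup_right ⟨x'.1, ⟨x', hmem, rfl⟩, rfl⟩
  · intro b hb
    exact Cfsg.Agent.Lib.FusionNormSat.mem_normalizer_sup (hBH hb) (hBZ b hb)
  · intro b hb
    obtain ⟨a, ha, e⟩ := hBA b hb
    obtain ⟨M, hM⟩ := h.hex a ha
    refine ⟨M, fun u hu => ?_⟩
    rw [e u hu]
    exact hM u hu
  · intro M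
    obtain ⟨a, ha, hM⟩ := h.hall M
    obtain ⟨b, hb, e⟩ := hAB a ha
    refine ⟨b, hb, fun u hu => ?_⟩
    rw [e u hu]
    exact hM u hu

/-- Modulo a given complement of a normal self-centralizing `p`-subgroup in its centralizer, a group
realizing the system on a Sylow subgroup is a model. -/
theorem model_of_complement {Ω : Type*} [Group Ω] {T : Subgroup Ω} [Finite T] {N : FusionSystem T}
    {B : Type*} [Group B] [Finite B]
    {ι₀ : T →* B} (hN : N.IsRealizedBy ι₀) (T₁ : Sylow p B) (hT₁ : (T₁ : Subgroup B) = ι₀.range)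
    (R : Subgroup B) [hRn : R.Normal] (hRle : R ≤ ι₀.range)
    (K : Subgroup B) [hKn : K.Normal] (hKreg : ∀ x ∈ K, ¬ p ∣ orderOf x)
    (hdec : ∀ y ∈ Subgroup.centralizer (R : Set B), ∃ k ∈ K, ∃ r ∈ R, y = k * r) :
    N.IsModel p (B ⧸ K) ((QuotientGroup.mk' K).comp ι₀) := by
  have hT₁p : IsPGroup p ι₀.range := hT₁ ▸ T₁.isPGroup'
  have hreg1 : ∀ y ∈ ι₀.range, y ∈ K → y = 1 := by
    intro y hy hyK
    obtain ⟨k, hk⟩ := hT₁p ⟨y, hy⟩
    have h1 : y ^ p ^ k = 1 := congrArg Subtype.val hk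
    obtain ⟨j, -, hj⟩ := (Nat.dvd_prime_pow (Fact.out : p.Prime)).mp (orderOf_dvd_of_pow_eq_one h1)
    have h2 := hKreg y hyK
    rw [hj] at h2
    cases j with
    | zero =>
      rw [pow_zero, orderOf_eq_one_iff] at hj
      exact hj
    | succ j =>
      exact absurd (dvd_pow_self p (Nat.succ_ne_zero j)) h2
  have hπ : Function.Surjective (QuotientGroup.mk' K) := QuotientGroup.mk'_surjective K
  have hinj : Function.Injective ((QuotientGroup.mk' K).comp ι₀) := by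
    rw [injective_iff_map_eq_one]
    intro b hb
    have h1 : ι₀ b ∈ K := (QuotientGroup.eq_one_iff _).mp hb
    exact hN.1 (by rw [hreg1 _ ⟨b, rfl⟩ h1, map_one])
  refine ⟨inferInstance, realized_quot isFactorSystem_self hN T₁ hT₁ (QuotientGroup.mk' K) hπ _
    (fun t h => rfl) hinj, ⟨T₁.mapSurjective hπ, ?_⟩, ?_⟩
  · rw [Sylow.coe_mapSurjective, hT₁]
    ext y
    constructor
    · rintro ⟨_, ⟨t, rfl⟩, rfl⟩
      exact ⟨t, rfl⟩
    · rintro ⟨b, rfl⟩
      exact ⟨ι₀ b, ⟨b, rfl⟩, rfl⟩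
  · have hVn : (R.map (QuotientGroup.mk' K)).Normal :=
      Subgroup.Normal.map inferInstance _ (QuotientGroup.mk'_surjective K)
    have hVp : IsPGroup p (R.map (QuotientGroup.mk' K)) := (hT₁p.to_le hRle).map _
    have hVO := Cfsg.Agent.Lib.PCore.le_pCore hVn hVp
    intro y hy
    apply hVO
    obtain ⟨g, rfl⟩ := QuotientGroup.mk'_surjective K y
    have hgc : g ∈ Subgroup.centralizer (R : Set B) := by
      rw [Subgroup.mem_centralizer_iff]
      intro r hr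
      have h1 := Subgroup.mem_centralizer_iff.mp hy (QuotientGroup.mk' K r) (hVO ⟨r, hr, rfl⟩)
      have h2 : g * r * g⁻¹ * r⁻¹ ∈ K := by
        have h3 : QuotientGroup.mk' K (g * r * g⁻¹ * r⁻¹) = 1 := by
          rw [map_mul, map_mul, map_mul, map_inv, map_inv, ← h1]
          group
        exact (QuotientGroup.eq_one_iff _).mp h3
      have h4 : g * r * g⁻¹ * r⁻¹ ∈ R :=
        mul_mem (hRn.conj_mem r hr g) (inv_mem hr)
      have h5 := hreg1 _ (hRle h4) h2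
      have h6 : g * r * g⁻¹ = r := by
        have := congrArg (· * r) h5
        simpa using this
      calc r * g = (g * r * g⁻¹) * g := by rw [h6]
        _ = g * r := by group
    obtain ⟨k, hk, r, hr, rfl⟩ := hdec g hgc
    refine ⟨r, hr, ?_⟩
    have hk1 : QuotientGroup.mk' K k = 1 := (QuotientGroup.eq_one_iff k).mpr hk
    rw [map_mul, hk1, one_mul]

/-- A section-free system of a group: every centric subgroup has a local quotient without the
forbidden section, after conjugation. -/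
theorem exists_local_of_centric (P : Sylow p G) {H : Type*} [Group H]
    (hfree : (groupFusionSystem (P : Subgroup G)).IsSectionFree p H) {Q : Subgroup G}
    (hQ : IsPGroup p Q) (hQc : PCentric p Q) :
    ∃ (c : G) (Y : Subgroup G) (K : Subgroup ↥(Subgroup.normalizer (Y : Set G))) (_ : K.Normal),
      Y = Q.map (MulAut.conj c).toMonoidHom ∧
      (∀ x ∈ K, ∀ y ∈ Y, ((x : G)) * y * ((x : G))⁻¹ = y) ∧ (∀ x ∈ K, (x : G) ∈ Y → x = 1) ∧
      ¬ Involves H (↥(Subgroup.normalizer (Y : Set G)) ⧸ K) := by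
  classical
  obtain ⟨g, hg⟩ := exists_conj_mem_sylow P hQ
  have hQ₀P : Q.map (MulAut.conj g).toMonoidHom ≤ (P : Subgroup G) := by
    rintro _ ⟨q, hq, rfl⟩
    exact hg q hq
  obtain ⟨Q₁, ⟨φ, hφ, hr⟩, hn⟩ := exists_isConj_fullyNormalized
    (groupFusionSystem (P : Subgroup G)) hQ₀P
  obtain ⟨-, -, d, hd⟩ := id hφ
  have hQ₁ : Q₁ = Q.map (MulAut.conj (d * g)).toMonoidHom := by
    rw [← hr]
    ext y
    constructor
    · rintro ⟨⟨_, q, hq, rfl⟩, rfl⟩
      refine ⟨q, hq, ?_⟩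
      rw [hd]
      show d * g * q * (d * g)⁻¹ = d * (g * q * g⁻¹) * d⁻¹
      group
    · rintro ⟨q, hq, rfl⟩
      refine ⟨⟨g * q * g⁻¹, q, hq, rfl⟩, ?_⟩
      rw [hd]
      show d * (g * q * g⁻¹) * d⁻¹ = d * g * q * (d * g)⁻¹
      group
  have hQ₁S : Q₁ ≤ (P : Subgroup G) := hn.1
  have hcent : (groupFusionSystem (P : Subgroup G)).IsCentric Q₁ := by
    refine ⟨hQ₁S, ?_⟩
    rintro _ ⟨φ', hφ', rfl⟩ x hx
    obtain ⟨-, -, d', hd'⟩ := id hφ'
    have hmem : ∀ q ∈ Q, d' * (d * g) * q * (d' * (d * g))⁻¹ ∈ φ'.range := by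
      intro q hq
      have hq₁ : d * g * q * (d * g)⁻¹ ∈ Q₁ := by
        rw [hQ₁]
        exact ⟨q, hq, rfl⟩
      refine ⟨⟨_, hq₁⟩, ?_⟩
      rw [hd']
      show d' * (d * g * q * (d * g)⁻¹) * d'⁻¹ = _
      group
    have hyc : (d' * (d * g))⁻¹ * x * (d' * (d * g)) ∈ Subgroup.centralizer (Q : Set G) := by
      rw [Subgroup.mem_centralizer_iff]
      intro q hq
      have h1 := Subgroup.mem_centralizer_iff.mp hx.2 _ (hmem q hq)
      have e : q * ((d' * (d * g))⁻¹ * x * (d' * (d * g))) =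
          (d' * (d * g))⁻¹ * ((d' * (d * g) * q * (d' * (d * g))⁻¹) * x) * (d' * (d * g)) := by group
      rw [e, h1]
      group
    have hxp : IsPGroup p (Subgroup.zpowers x) := by
      rintro ⟨_, k, rfl⟩
      have hxP : x ∈ (P : Subgroup G) := hx.1
      obtain ⟨m, hm⟩ := P.isPGroup' ⟨x ^ k, Subgroup.zpow_mem _ hxP k⟩
      have hm' : (x ^ k) ^ p ^ m = 1 := congrArg Subtype.val hm
      exact ⟨m, Subtype.ext hm'⟩
    have hyp : IsPGroup p (Subgroup.zpowers ((d' * (d * g))⁻¹ * x * (d' * (d * g)))) := by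
      rintro ⟨_, k, rfl⟩
      obtain ⟨m, hm⟩ := hxp ⟨x ^ k, Subgroup.zpow_mem_zpowers x k⟩
      have hm' : (x ^ k) ^ p ^ m = 1 := congrArg Subtype.val hm
      refine ⟨m, Subtype.ext ?_⟩
      show (((d' * (d * g))⁻¹ * x * (d' * (d * g))) ^ k) ^ p ^ m = 1
      have e : (((d' * (d * g))⁻¹ * x * (d' * (d * g))) ^ k) =
          (d' * (d * g))⁻¹ * x ^ k * (d' * (d * g)) := by
        have := conj_zpow (a := (d' * (d * g))⁻¹) (b := x) (i := k)
        rw [inv_inv] at this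
        exact this
      have e2 : ((d' * (d * g))⁻¹ * x ^ k * (d' * (d * g))) ^ p ^ m =
          (d' * (d * g))⁻¹ * (x ^ k) ^ p ^ m * (d' * (d * g)) := by
        have := conj_pow (a := (d' * (d * g))⁻¹) (b := x ^ k) (i := p ^ m)
        rw [inv_inv] at this
        exact this
      rw [e, e2, hm']
      group
    have hyQ := hQc _ hyc hyp
    have hqm := hmem _ hyQ
    have e : d' * (d * g) * ((d' * (d * g))⁻¹ * x * (d' * (d * g))) * (d' * (d * g))⁻¹ = x := by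
      group
    rwa [e] at hqm
  -- the local group
  have hreal : (groupFusionSystem (P : Subgroup G)).IsRealizedBy (P : Subgroup G).subtype := by
    refine ⟨Subgroup.subtype_injective _, fun A hA φ hφ => ⟨?_, ?_⟩⟩
    · rintro ⟨-, -, g, hg⟩
      exact ⟨g, fun x => hg x⟩
    · rintro ⟨g, hg⟩
      exact ⟨hA, hφ, g, fun x => hg x⟩
  have hrange : (P : Subgroup G) = (P : Subgroup G).subtype.range := (Subgroup.range_subtype _).symm
  have hreal₀ := local_realized hreal hQ₁S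
  obtain ⟨T₁, hT₁⟩ := local_sylow hreal P hrange hQ₁S hn
  haveI hRn : ((imageAlong (P : Subgroup G).subtype Q₁).subgroupOf
      (Subgroup.normalizer (imageAlong (P : Subgroup G).subtype Q₁ : Set G))).Normal :=
    Subgroup.normal_in_normalizer
  have hmemW : ∀ q : G, q ∈ imageAlong (P : Subgroup G).subtype Q₁ ↔ q ∈ Q₁ := by
    intro q
    constructor
    · rintro ⟨t, ht, rfl⟩
      exact ht
    · intro hq
      exact ⟨⟨q, hQ₁S hq⟩, hq, rfl⟩
  have hYeq : imageAlong (P : Subgroup G).subtype Q₁ = Q₁ := by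
    ext q
    exact hmemW q
  have hRle : (imageAlong (P : Subgroup G).subtype Q₁).subgroupOf
      (Subgroup.normalizer (imageAlong (P : Subgroup G).subtype Q₁ : Set G)) ≤
      (ιN (P : Subgroup G).subtype Q₁).range := by
    intro r hr
    have hr' : (r : G) ∈ imageAlong (P : Subgroup G).subtype Q₁ := hr
    have hrQ := (hmemW _).mp hr'
    exact ⟨⟨r, le_normalizerIn hQ₁S hrQ⟩, Subtype.ext rfl⟩
  have hC : (T₁ : Subgroup _) ⊓ Subgroup.centralizer (((imageAlong (P : Subgroup G).subtype Q₁).subgroupOf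
      (Subgroup.normalizer (imageAlong (P : Subgroup G).subtype Q₁ : Set G)) : Subgroup _) : Set _) ≤
      (imageAlong (P : Subgroup G).subtype Q₁).subgroupOf
      (Subgroup.normalizer (imageAlong (P : Subgroup G).subtype Q₁ : Set G)) := by
    rintro y ⟨hy1, hy2⟩
    have hy1' : y ∈ (ιN (P : Subgroup G).subtype Q₁).range := hT₁ ▸ hy1
    obtain ⟨t, rfl⟩ := hy1'
    have ht : (t : G) ∈ centralizerIn (P : Subgroup G) Q₁ := by
      refine ⟨t.2.1, Subgroup.mem_centralizer_iff.mpr fun q hq => ?_⟩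
      have hqW : q ∈ imageAlong (P : Subgroup G).subtype Q₁ := (hmemW q).mpr hq
      have h1 := Subgroup.mem_centralizer_iff.mp hy2 ⟨q, Subgroup.le_normalizer hqW⟩ hqW
      exact congrArg Subtype.val h1
    have h2 := hcent.2 Q₁ (isConj_refl _ hQ₁S) ht
    exact (hmemW _).mpr h2
  obtain ⟨K, hKn, hKreg, hdec⟩ := exists_complement_centralizer _ T₁ hC
  haveI := hKn
  have hM := model_of_complement hreal₀ T₁ hT₁ _ hRle K hKreg hdec
  have hnot := hfree Q₁ hn hcent _ (isNormalizerSystem_normalizerSystem _ Q₁ hQ₁S) _ _ hM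
  have hYp : IsPGroup p (imageAlong (P : Subgroup G).subtype Q₁) :=
    (P.isPGroup'.to_subgroup _).map _
  have hreg : ∀ x ∈ K, (x : G) ∈ imageAlong (P : Subgroup G).subtype Q₁ → x = 1 := by
    intro x hx hxY
    obtain ⟨k, hk⟩ := hYp ⟨_, hxY⟩
    have h1 : (x : G) ^ p ^ k = 1 := congrArg Subtype.val hk
    have h1' : x ^ p ^ k = 1 := Subtype.ext h1
    obtain ⟨j, -, hj⟩ := (Nat.dvd_prime_pow (Fact.out : p.Prime)).mp (orderOf_dvd_of_pow_eq_one h1')
    have h2 := hKreg x hx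
    rw [hj] at h2
    cases j with
    | zero =>
      rw [pow_zero, orderOf_eq_one_iff] at hj
      exact hj
    | succ j =>
      exact absurd (dvd_pow_self p (Nat.succ_ne_zero j)) h2
  refine ⟨d * g, imageAlong (P : Subgroup G).subtype Q₁, K, hKn, hYeq.trans hQ₁, ?_, hreg, hnot⟩
  intro x hx y hy
  have hyN : y ∈ Subgroup.normalizer (imageAlong (P : Subgroup G).subtype Q₁ : Set G) :=
    Subgroup.le_normalizer hy
  have h1 : x * ⟨y, hyN⟩ * x⁻¹ * (⟨y, hyN⟩ : ↥(Subgroup.normalizer (imageAlong (P : Subgroup G).subtype Q₁ : Set G)))⁻¹ ∈ K :=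
    by
      have e : x * ⟨y, hyN⟩ * x⁻¹ * (⟨y, hyN⟩ : ↥(Subgroup.normalizer (imageAlong (P : Subgroup G).subtype Q₁ : Set G)))⁻¹ =
          x * ((⟨y, hyN⟩ : ↥(Subgroup.normalizer (imageAlong (P : Subgroup G).subtype Q₁ : Set G))) * x⁻¹ *
            (⟨y, hyN⟩ : ↥(Subgroup.normalizer (imageAlong (P : Subgroup G).subtype Q₁ : Set G)))⁻¹) := by group
      rw [e]
      exact mul_mem hx (hKn.conj_mem _ (inv_mem hx) _)
  have h2 : ((x * ⟨y, hyN⟩ * x⁻¹ * (⟨y, hyN⟩ : ↥(Subgroup.normalizer (imageAlong (P : Subgroup G).subtype Q₁ : Set G)))⁻¹ :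
      ↥(Subgroup.normalizer (imageAlong (P : Subgroup G).subtype Q₁ : Set G))) : G) ∈
      imageAlong (P : Subgroup G).subtype Q₁ := by
    refine mul_mem ?_ (inv_mem hy)
    exact (Subgroup.mem_normalizer_iff.mp x.2 y).mp hy
  have h3 := hreg _ h1 h2
  have h4 : (x : G) * y * (x : G)⁻¹ * y⁻¹ = 1 := congrArg Subtype.val h3
  exact mul_inv_eq_one.mp h4

end jStep

/-- The data in a group mapping onto `Qd(p)`. -/
theorem exists_actData_of_surj (hp : p ≠ 2) {X : Type*} [Group X] [Finite X] (π : X →* ↥(qd p))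
    (hπ : Function.Surjective π) : ∃ (U A : Subgroup X) (ξ : X → (Fin 2 → ZMod p)),
      ActData p U A ξ := by
  classical
  obtain ⟨ν, τ, hadd, hinj, hτ, hact⟩ := Cfsg.Agent.Lib.QdStable.qd_not_stable_core (p := p) hp
  have hν0 : ν 0 = 1 := by
    have := hadd 0 0
    rw [add_zero] at this
    exact (mul_eq_left.1 this.symm)
  have hνneg : ∀ v, ν (-v) = (ν v)⁻¹ := by
    intro v
    rw [eq_inv_iff_mul_eq_one, ← hadd, neg_add_cancel, hν0]
  let V₀ : Subgroup ↥(qd p) :=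
    { carrier := {x | ∃ u, x = ν u}
      mul_mem' := by
        rintro _ _ ⟨u, rfl⟩ ⟨v, rfl⟩
        exact ⟨u + v, (hadd u v).symm⟩
      one_mem' := ⟨0, hν0.symm⟩
      inv_mem' := by
        rintro _ ⟨u, rfl⟩
        exact ⟨-u, (hνneg u).symm⟩ }
  have hνpow : ∀ (n : ℕ) (v : Fin 2 → ZMod p), ν v ^ n = ν ((n : ZMod p) • v) := by
    intro n v
    induction n with
    | zero => simp [hν0]
    | succ n ih =>
      rw [pow_succ, ih, ← hadd]
      congr 1
      push_cast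
      rw [add_smul, one_smul]
  have hV₀p : IsPGroup p V₀ := by
    rintro ⟨_, u, rfl⟩
    refine ⟨1, Subtype.ext ?_⟩
    show ν u ^ p ^ 1 = 1
    rw [pow_one, hνpow]
    simp [hν0]
  haveI hV₀n : V₀.Normal := by
    refine Subgroup.Normal.mk ?_
    rintro _ ⟨u, rfl⟩ g
    exact ⟨_, hact g u⟩
  have hτν : ∀ w, τ (ν w) = 1 := by
    intro w
    apply SL2_ext
    intro u
    apply hinj
    rw [← hact]
    show _ = ν (((1 : SL2 p) : Matrix (Fin 2) (Fin 2) (ZMod p)).mulVec u)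
    rw [Matrix.SpecialLinearGroup.coe_one, Matrix.one_mulVec]
    have e : ν w * ν u = ν u * ν w := by
      rw [← hadd, ← hadd, add_comm]
    rw [e]
    group
  haveI hVn : (V₀.comap π).Normal := Subgroup.Normal.comap hV₀n π
  obtain ⟨S₀⟩ : Nonempty (Sylow p ↥(V₀.comap π)) := inferInstance
  let U : Subgroup X := (S₀ : Subgroup ↥(V₀.comap π)).map (V₀.comap π).subtype
  have hFr : Subgroup.normalizer (U : Set X) ⊔ V₀.comap π = ⊤ := Sylow.normalizer_sup_eq_top S₀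
  have hUV : ∀ u ∈ U, ∃ v, π u = ν v := by
    rintro _ ⟨s, -, rfl⟩
    exact s.2
  -- the image of the Sylow subgroup
  have hfs : Function.Surjective (π.subgroupComap V₀) :=
    π.subgroupComap_surjective_of_surjective V₀ hπ
  have hSy : (S₀.mapSurjective hfs : Subgroup ↥V₀) = ⊤ :=
    ((S₀.mapSurjective hfs).is_maximal' (hV₀p.to_subgroup ⊤) le_top).symm
  have hUsurj : ∀ v, ∃ u ∈ U, π u = ν v := by
    intro v
    have h1 : (⟨ν v, v, rfl⟩ : ↥V₀) ∈ (S₀.mapSurjective hfs : Subgroup ↥V₀) := by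
      rw [hSy]
      trivial
    rw [Sylow.coe_mapSurjective] at h1
    obtain ⟨s, hs, e⟩ := h1
    exact ⟨s, ⟨s, hs, rfl⟩, congrArg Subtype.val e⟩
  have hinv : ∀ (x : X) (v), π x = ν v → (Function.invFun ν ∘ π) x = v := by
    intro x v e
    show Function.invFun ν (π x) = v
    rw [e]
    exact Function.leftInverse_invFun hinj v
  have hconj : ∀ a, ∀ u ∈ U, (Function.invFun ν ∘ π) (a * u * a⁻¹) =
      actV (τ (π a)) ((Function.invFun ν ∘ π) u) := by
    intro a u hu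
    obtain ⟨v, hv⟩ := hUV u hu
    rw [hinv u v hv]
    apply hinv
    rw [map_mul, map_mul, map_inv, hv]
    exact hact _ _
  refine ⟨U, Subgroup.normalizer (U : Set X), Function.invFun ν ∘ π, Subgroup.le_normalizer, le_rfl,
    S₀.isPGroup'.map _, ?_, ?_, ?_, ?_⟩
  · intro x hx y hy
    obtain ⟨v, hv⟩ := hUV x hx
    obtain ⟨w, hw⟩ := hUV y hy
    rw [hinv x v hv, hinv y w hw]
    apply hinv
    rw [map_mul, hv, hw, hadd]
  · intro v
    obtain ⟨u, hu, e⟩ := hUsurj v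
    exact ⟨u, hu, hinv u v e⟩
  · intro a _
    exact ⟨τ (π a), hconj a⟩
  · intro M
    obtain ⟨y, hy⟩ := hτ M
    obtain ⟨k, rfl⟩ := hπ y
    have h1 : k ∈ Subgroup.normalizer (U : Set X) ⊔ V₀.comap π := by
      rw [hFr]
      trivial
    obtain ⟨a, ha, b, hb, e⟩ := Subgroup.mem_sup_of_normal_right.mp h1
    refine ⟨a, ha, fun u hu => ?_⟩
    obtain ⟨w, hw⟩ : π b ∈ V₀ := hb
    have h2 : τ (π a) = M := by
      rw [← hy, ← e, map_mul, map_mul, hw, hτν, mul_one]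
    rw [← h2]
    exact hconj a u hu

/-- If the system of a group is `Qd(p)`-free then the group does not involve `Qd(p)`. -/
theorem not_involves_of_free {G : Type u} [Group G] [Finite G] (hp : p ≠ 2) (P : Sylow p G)
    (hfree : (groupFusionSystem (P : Subgroup G)).IsSectionFree p ↥(qd p)) :
    ¬ Involves ↥(qd p) G := by
  classical
  rintro ⟨K₀, R₀, hn, ⟨e⟩⟩
  haveI := hn
  obtain ⟨U₁, A₁, ξ₁, hD₁⟩ := exists_actData_of_surj hp
    (e.toMonoidHom.comp (QuotientGroup.mk' (R₀.subgroupOf K₀)))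
    (e.surjective.comp (QuotientGroup.mk'_surjective _))
  have hD₂ := hD₁.map K₀.subtype (Subgroup.subtype_injective _)
  obtain ⟨Q, B, hQp, hQc, hUQ, hBN, hD₃⟩ := exists_centric_data hD₂
  obtain ⟨c, Y, K₁, hK₁, hY, hcen, hreg, hnot⟩ := exists_local_of_centric P hfree hQp hQc
  haveI := hK₁
  have hmemY : ∀ q ∈ Q, c * q * c⁻¹ ∈ Y := by
    intro q hq
    rw [hY]
    exact ⟨q, hq, rfl⟩
  have hγ : ∀ b : B, (MulAut.conj c).toMonoidHom.comp B.subtype b ∈
      Subgroup.normalizer (Y : Set G) := by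
    intro b
    rw [hY]
    exact Subgroup.le_normalizer_map (MulAut.conj c).toMonoidHom
      ⟨b, SetLike.mem_coe.mpr (hBN b.2), rfl⟩
  let γ : B →* ↥(Subgroup.normalizer (Y : Set G)) :=
    ((MulAut.conj c).toMonoidHom.comp B.subtype).codRestrict _ hγ
  have hγv : ∀ b : B, ((γ b : ↥(Subgroup.normalizer (Y : Set G))) : G) = c * b * c⁻¹ := fun b => rfl
  refine hnot (involves_of_actData hp hD₃ ((QuotientGroup.mk' K₁).comp γ) ?_ ?_)
  · intro x hx u hu
    have h1 : γ x ∈ K₁ := (QuotientGroup.eq_one_iff _).mp hx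
    have h2 := hcen _ h1 _ (hmemY u (hUQ hu))
    rw [hγv] at h2
    have h3 : c * ((x : G) * u * (x : G)⁻¹) * c⁻¹ = c * u * c⁻¹ := by
      rw [← h2]
      group
    exact mul_left_cancel (mul_right_cancel h3)
  · intro x y hx hy hxy
    have h1 : (γ x)⁻¹ * γ y ∈ K₁ := QuotientGroup.eq.mp hxy
    have h2 : (((γ x)⁻¹ * γ y : ↥(Subgroup.normalizer (Y : Set G))) : G) ∈ Y := by
      show ((γ x : G))⁻¹ * (γ y : G) ∈ Y
      rw [hγv, hγv]
      have e1 : (c * (x : G) * c⁻¹)⁻¹ * (c * (y : G) * c⁻¹) = c * ((x : G)⁻¹ * y) * c⁻¹ := by group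
      rw [e1]
      exact hmemY _ (hUQ (mul_mem (inv_mem hx) hy))
    have h3 := hreg _ h1 h2
    have h4 : γ x = γ y := (inv_mul_eq_one.mp h3)
    have h5 : c * (x : G) * c⁻¹ = c * (y : G) * c⁻¹ := congrArg Subtype.val h4
    exact Subtype.ext (mul_left_cancel (mul_right_cancel h5))

end Cfsg.Agent.Lib.FusionQdGroup
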