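import Mathlib
import Cfsg.Prelude.Def_Local
import Cfsg.Agent.Lib.PComps
import Cfsg.Agent.Lib.PCore
import Cfsg.Agent.Lib.CharBlockPSolv

/-! The upper `p`-series: quotients, `p`-solvability of quotients. -/

set_option autoImplicit false
set_option linter.all false

namespace Cfsg.Agent.Lib.UpperP

open Cfsg
open scoped commutatorElement

variable {G : Type*} [Group G] {p : ℕ}

theorem isPSolvable_quotient [Finite G] [Fact p.Prime] (hs : IsPSolvable p G) (N : Subgroup G) [hN : N.Normal] :
    IsPSolvable p (G ⧸ N) := by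
  obtain ⟨n, H, h0, hl, hmono, hnorm, hc⟩ := hs
  let f := QuotientGroup.mk' N
  have hf : Function.Surjective f := QuotientGroup.mk'_surjective N
  refine ⟨n, fun i => (H i).map f, ?_, ?_, ?_, ?_, ?_⟩
  · show (H 0).map f = ⊥
    rw [h0, Subgroup.map_bot]
  · show (H (Fin.last n)).map f = ⊤
    rw [hl, Subgroup.map_top_of_surjective f hf]
  · intro i j hij
    exact Subgroup.map_mono (hmono hij)
  · intro i
    haveI := hnorm i
    exact Subgroup.Normal.map inferInstance f hf
  · intro i
    have hK : (H i.castSucc) ≤ H i.succ := hmono (Fin.castSucc_le_succ i)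
    haveI : (H i.castSucc).Normal := hnorm _
    haveI : (H i.succ).Normal := hnorm _
    -- the relative index in the quotient divides the relative index in `G`
    have hd : ((H i.castSucc).map f).relIndex ((H i.succ).map f) ∣ (H i.castSucc).relIndex (H i.succ) := by
      rw [Subgroup.relIndex_map_map]
      have hN' : (H i.castSucc ⊔ f.ker).Normal := inferInstance
      have e : H i.succ ⊔ f.ker = H i.succ ⊔ (H i.castSucc ⊔ f.ker) := by
        rw [← sup_assoc, sup_eq_left.mpr hK]
      rw [e, Subgroup.relIndex_sup_right]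
      exact Subgroup.relIndex_dvd_of_le_left _ le_sup_left
    rcases hc i with ⟨m, hm⟩ | hcop
    · left
      rw [hm] at hd
      obtain ⟨k, -, hk⟩ := (Nat.dvd_prime_pow (Fact.out)).mp hd
      exact ⟨k, hk⟩
    · right
      exact Nat.Coprime.coprime_dvd_left hd hcop


theorem upper_even (k : ℕ) : (upperPSeries p G (2 * k + 1)).1 =
    (pPrimeCore p (G ⧸ (upperPSeries p G (2 * k)).1)).comap (QuotientGroup.mk' _) := by
  conv_lhs => unfold upperPSeries
  simp

theorem upper_odd (k : ℕ) : (upperPSeries p G (2 * k + 2)).1 =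
    (pCore p (G ⧸ (upperPSeries p G (2 * k + 1)).1)).comap (QuotientGroup.mk' _) := by
  have h : ¬ Even (2 * k + 1) := by
    simp [Nat.even_add_one]
  conv_lhs => unfold upperPSeries
  simp [h]

theorem pPrimeCore_congr_bot {A B : Subgroup G} (h : A = B) [A.Normal] [B.Normal]
    (h0 : pPrimeCore p (G ⧸ A) = ⊥) : pPrimeCore p (G ⧸ B) = ⊥ := by
  subst h
  exact h0

theorem pPrimeCore_comap_quotient [Finite G] [Fact p.Prime] (N : Subgroup G) [N.Normal] :
    letI M := (pPrimeCore p (G ⧸ N)).comap (QuotientGroup.mk' N)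
    haveI : M.Normal := Subgroup.Normal.comap (Cfsg.Agent.Lib.FitCore.pPrimeCore_normal p) _
    pPrimeCore p (G ⧸ M) = ⊥ := by
  let M := (pPrimeCore p (G ⧸ N)).comap (QuotientGroup.mk' N)
  haveI : M.Normal := Subgroup.Normal.comap (Cfsg.Agent.Lib.FitCore.pPrimeCore_normal p) _
  haveI hO : (pPrimeCore p (G ⧸ N)).Normal := Cfsg.Agent.Lib.FitCore.pPrimeCore_normal p
  let φ : G →* ((G ⧸ N) ⧸ pPrimeCore p (G ⧸ N)) :=
    (QuotientGroup.mk' (pPrimeCore p (G ⧸ N))).comp (QuotientGroup.mk' N)
  have hφ : Function.Surjective φ :=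
    (QuotientGroup.mk'_surjective _).comp (QuotientGroup.mk'_surjective _)
  have hk : φ.ker = M := by
    ext x
    simp only [φ, M, MonoidHom.mem_ker, MonoidHom.comp_apply, Subgroup.mem_comap]
    rw [QuotientGroup.mk'_apply (pPrimeCore p (G ⧸ N)), QuotientGroup.eq_one_iff]
  refine pPrimeCore_congr_bot hk ?_
  let e := QuotientGroup.quotientKerEquivOfSurjective φ hφ
  have h1 := Cfsg.Agent.Lib.PComps.pPrimeCore_map_equiv (p := p) e
  rw [Cfsg.Agent.Lib.PComps.pPrimeCore_quotient_eq_bot] at h1
  exact (Subgroup.map_eq_bot_iff_of_injective _ e.injective).mp h1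

theorem pPrimeCore_upper_odd [Finite G] [Fact p.Prime] (k : ℕ) :
    pPrimeCore p (G ⧸ (upperPSeries p G (2 * k + 1)).1) = ⊥ := by
  haveI : ((pPrimeCore p (G ⧸ (upperPSeries p G (2 * k)).1)).comap (QuotientGroup.mk' _)).Normal :=
    Subgroup.Normal.comap (Cfsg.Agent.Lib.FitCore.pPrimeCore_normal p) _
  exact pPrimeCore_congr_bot (upper_even k).symm (pPrimeCore_comap_quotient _)

theorem centralizer_pCore_upper [Finite G] [Fact p.Prime] (hsol : IsPSolvable p G) (k : ℕ) :
    Subgroup.centralizer (pCore p (G ⧸ (upperPSeries p G (2 * k + 1)).1) : Set _) ≤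
      pCore p (G ⧸ (upperPSeries p G (2 * k + 1)).1) :=
  Cfsg.Agent.Lib.CharBlockPSolv.centralizer_pCore_le_of_pSolvable
    (isPSolvable_quotient hsol _) (pPrimeCore_upper_odd k)

theorem map_upper_odd (k : ℕ) : (upperPSeries p G (2 * k + 2)).1.map
      (QuotientGroup.mk' (upperPSeries p G (2 * k + 1)).1) =
    pCore p (G ⧸ (upperPSeries p G (2 * k + 1)).1) := by
  rw [upper_odd, Subgroup.map_comap_eq_self_of_surjective (QuotientGroup.mk'_surjective _)]

theorem upper_even_le (k : ℕ) : (upperPSeries p G (2 * k)).1 ≤ (upperPSeries p G (2 * k + 1)).1 := by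
  intro x hx
  rw [upper_even]
  have : QuotientGroup.mk' (upperPSeries p G (2 * k)).1 x = 1 := by
    rw [QuotientGroup.mk'_apply, QuotientGroup.eq_one_iff]
    exact hx
  rw [Subgroup.mem_comap, this]
  exact one_mem _

/-- the key step of the Hall–Higman bound -/
theorem upperCentral_le [Finite G] [hp : Fact p.Prime] (hsol : IsPSolvable p G) (S : Sylow p G) (i : ℕ) :
    (Subgroup.upperCentralSeries (S : Subgroup G) i).map (S : Subgroup G).subtype ≤
      (upperPSeries p G (2 * i)).1 := by
  induction i with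
  | zero =>
    have h0 : (upperPSeries p G (2 * 0)).1 = ⊥ := by
      simp [upperPSeries]
    rw [h0, Subgroup.upperCentralSeries_zero, Subgroup.map_bot]
  | succ i ih =>
    rintro _ ⟨z, hz, rfl⟩
    have hz' : ∀ y : (S : Subgroup G), ⁅(z : (S : Subgroup G)), y⁆ ∈ Subgroup.upperCentralSeries (S : Subgroup G) i :=
      Subgroup.mem_upperCentralSeries_succ_iff.mp hz
    have e2 : 2 * (i + 1) = 2 * i + 2 := by ring
    rw [e2, upper_odd]
    show QuotientGroup.mk' _ (z : G) ∈ pCore p _
    apply centralizer_pCore_upper hsol i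
    rw [Subgroup.mem_centralizer_iff]
    intro u hu
    -- `O_p` lies in the image of the Sylow subgroup
    let f := QuotientGroup.mk' (upperPSeries p G (2 * i + 1)).1
    have hf : Function.Surjective f := QuotientGroup.mk'_surjective _
    haveI : Finite (G ⧸ (upperPSeries p G (2 * i + 1)).1) := inferInstance
    let S' : Sylow p (G ⧸ (upperPSeries p G (2 * i + 1)).1) := S.mapSurjective hf
    have hu' : u ∈ (S' : Subgroup _) := Cfsg.Agent.Lib.PCore.pCore_le_sylow S' hu
    have hS' : (S' : Subgroup _) = (S : Subgroup G).map f := rfl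
    rw [hS'] at hu'
    obtain ⟨y, hy, rfl⟩ := hu'
    have hc := hz' ⟨y, hy⟩
    have hc2 : ((⁅(z : (S : Subgroup G)), (⟨y, hy⟩ : (S : Subgroup G))⁆ : (S : Subgroup G)) : G) ∈
        (upperPSeries p G (2 * i + 1)).1 :=
      upper_even_le i (ih ⟨_, hc, rfl⟩)
    have hc3 : f ((⁅(z : (S : Subgroup G)), (⟨y, hy⟩ : (S : Subgroup G))⁆ : (S : Subgroup G)) : G) = 1 := by
      show QuotientGroup.mk' _ _ = 1
      rw [QuotientGroup.mk'_apply, QuotientGroup.eq_one_iff]
      exact hc2
    have hc4 : (f (z : G)) * f y * (f (z : G))⁻¹ * (f y)⁻¹ = 1 := by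
      rw [← hc3]
      simp [commutatorElement_def]
    have hc5 : f (z : G) * f y = f y * f (z : G) := by
      rw [mul_inv_eq_one, mul_inv_eq_iff_eq_mul] at hc4
      exact hc4
    exact hc5.symm

theorem pLength_le_class [Finite G] [hp : Fact p.Prime] (hsol : IsPSolvable p G) (S : Sylow p G) :
    PLengthLE p (Group.nilpotencyClass (S : Subgroup G)) G := by
  haveI : Group.IsNilpotent (S : Subgroup G) := (S.isPGroup').isNilpotent
  set c := Group.nilpotencyClass (S : Subgroup G) with hc
  have h1 := upperCentral_le hsol S c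
  rw [hc, Subgroup.upperCentralSeries_nilpotencyClass, ← MonoidHom.range_eq_map, Subgroup.range_subtype] at h1
  rw [PLengthLE, upper_even]
  -- the quotient is a `p'`-group
  set U := (upperPSeries p G (2 * Group.nilpotencyClass (S : Subgroup G))).1 with hU
  have hcop : (Nat.card (G ⧸ U)).Coprime p := by
    have hd : U.index ∣ (S : Subgroup G).index := Subgroup.index_dvd_of_le h1
    have hn : ¬ p ∣ (S : Subgroup G).index := S.not_dvd_index
    have : ¬ p ∣ Nat.card (G ⧸ U) := fun h => hn ((h.trans (by rw [Subgroup.index])).trans hd)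
    exact ((Nat.Prime.coprime_iff_not_dvd hp.out).mpr this).symm
  have htop : pPrimeCore p (G ⧸ U) = ⊤ := by
    refine top_le_iff.mp (le_sSup ⟨inferInstance, ?_⟩)
    rw [Subgroup.card_top]
    exact hcop
  rw [htop]
  exact Subgroup.comap_top _

end Cfsg.Agent.Lib.UpperP
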