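import Mathlib
import Cfsg.Agent.Lib.PComps2
import Cfsg.Agent.Lib.ZJLift
import Cfsg.Agent.Lib.UpperP
import Cfsg.Agent.Lib.CharP

/-! Elementary facts on `p`-constraint. -/

set_option autoImplicit false
set_option linter.all false

namespace Cfsg.Agent.Lib.PConstr

open Cfsg Subgroup Cfsg.Agent.Lib.PComps2 Cfsg.Agent.Lib.PComps
open scoped commutatorElement

variable {G : Type*} [Group G] [Finite G] {p : ℕ} [hp : Fact p.Prime]

theorem constrained_iff_char : IsPConstrained p G ↔
    centralizer (pCore p (G ⧸ pPrimeCore p G) : Set (G ⧸ pPrimeCore p G)) ≤ pCore p (G ⧸ pPrimeCore p G) := by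
  constructor
  · exact Cfsg.Agent.Lib.ZJLift.centralizer_quot
  · intro h
    rw [isPConstrained_iff, pLayer_eq_bot_iff]
    exact layer_eq_bot_of_char h

theorem constrained_iff_layer : IsPConstrained p G ↔ layer (G ⧸ pPrimeCore p G) = ⊥ := by
  rw [isPConstrained_iff, pLayer_eq_bot_iff]

theorem layer_eq_bot_of_equiv {A B : Type*} [Group A] [Group B] (e : A ≃* B) (h : layer A = ⊥) :
    layer B = ⊥ := by
  rw [← Cfsg.Agent.Lib.Layer.layer_map e, h, Subgroup.map_bot]

/-- S0630 -/
theorem constrained_quot_iff : IsPConstrained p G ↔ IsPConstrained p (G ⧸ pPrimeCore p G) := by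
  haveI : (pPrimeCore p G).Normal := Cfsg.Agent.Lib.FitCore.pPrimeCore_normal p
  rw [constrained_iff_layer, constrained_iff_layer]
  have h0 : pPrimeCore p (G ⧸ pPrimeCore p G) = ⊥ := pPrimeCore_quotient_eq_bot
  let e : ((G ⧸ pPrimeCore p G) ⧸ pPrimeCore p (G ⧸ pPrimeCore p G)) ≃* (G ⧸ pPrimeCore p G) :=
    (QuotientGroup.quotientMulEquivOfEq h0).trans QuotientGroup.quotientBot
  exact ⟨layer_eq_bot_of_equiv e.symm, layer_eq_bot_of_equiv e⟩

/-- `p`-constraint is inherited by subnormal subgroups. -/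
theorem pLayer_subnormal (hL : pLayer p G = ⊥) {Y : Subgroup G} (hY : Y.IsSubnormal) :
    pLayer p Y = ⊥ := by
  haveI hOn : (pPrimeCore p G).Normal := Cfsg.Agent.Lib.FitCore.pPrimeCore_normal p
  haveI hOYn : (pPrimeCore p Y).Normal := Cfsg.Agent.Lib.FitCore.pPrimeCore_normal p
  set O := pPrimeCore p G with hO
  have hlayer : layer (G ⧸ O) = ⊥ := pLayer_eq_bot_iff.1 hL
  set π := QuotientGroup.mk' O with hπ
  set Yb := Y.map π with hYb
  have hYbs : Yb.IsSubnormal := hY.map (QuotientGroup.mk'_surjective O)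
  have hlY : layer Yb = ⊥ := by
    rw [eq_bot_iff]
    refine sSup_le fun K hK => ?_
    have h1 : K.map Yb.subtype ≤ layer (G ⧸ O) := le_sSup (Cfsg.Agent.Lib.Comps.isComponent_map_subtype hYbs hK)
    rw [hlayer, le_bot_iff, Subgroup.map_eq_bot_iff_of_injective _ Yb.subtype_injective] at h1
    rw [h1]
  let φ : Y →* Yb := (π.comp Y.subtype).codRestrict Yb (fun y => ⟨y, y.2, rfl⟩)
  have hφ : Function.Surjective φ := by
    rintro ⟨_, y, hy, rfl⟩
    exact ⟨⟨y, hy⟩, rfl⟩
  have hk : φ.ker = pPrimeCore p Y := by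
    apply le_antisymm
    · refine le_sSup ⟨inferInstance, ?_⟩
      have hcop : (Nat.card φ.ker).Coprime p := by
        have h7 : φ.ker.map Y.subtype ≤ O := by
          rintro _ ⟨y, hy, rfl⟩
          have h8 : φ y = 1 := hy
          have h9 : π (y : G) = 1 := congrArg Subtype.val h8
          exact (QuotientGroup.eq_one_iff _).1 h9
        have h10 := Subgroup.card_dvd_of_le h7
        rw [Subgroup.card_map_of_injective Y.subtype_injective] at h10
        exact Nat.Coprime.coprime_dvd_left h10 card_coprime_pPrimeCore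
      exact hcop
    · intro y hy
      have h1 : (y : G) ∈ O := map_pPrimeCore_le_of_subnormal hY ⟨y, hy, rfl⟩
      show φ y = 1
      apply Subtype.ext
      show π (y : G) = 1
      exact (QuotientGroup.eq_one_iff _).2 h1
  rw [pLayer_eq_bot_iff]
  let e : (Y ⧸ pPrimeCore p Y) ≃* Yb :=
    (QuotientGroup.quotientMulEquivOfEq hk.symm).trans (QuotientGroup.quotientKerEquivOfSurjective φ hφ)
  exact layer_eq_bot_of_equiv e.symm hlY

theorem constrained_of_equiv {A B : Type*} [Group A] [Group B] [Finite A] [Finite B] (e : A ≃* B)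
    (h : IsPConstrained p A) : IsPConstrained p B := by
  haveI hA : (pPrimeCore p A).Normal := Cfsg.Agent.Lib.FitCore.pPrimeCore_normal p
  haveI hB : (pPrimeCore p B).Normal := Cfsg.Agent.Lib.FitCore.pPrimeCore_normal p
  rw [constrained_iff_layer] at h ⊢
  exact layer_eq_bot_of_equiv
    (QuotientGroup.congr (pPrimeCore p A) (pPrimeCore p B) e (pPrimeCore_map_equiv e)) h

/-- S0631 -/
theorem constrained_normalizer_centralizer (hG : IsPConstrained p G) (P : Subgroup G) (hP : IsPGroup p P) :
    IsPConstrained p ↥(Subgroup.normalizer (P : Set G)) ∧ IsPConstrained p ↥(Subgroup.centralizer (P : Set G)) := by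
  have hL : pLayer p G = ⊥ := isPConstrained_iff.1 hG
  have h1 := (pLayer_normalizer hL P hP).1
  refine ⟨isPConstrained_iff.2 h1, ?_⟩
  have hle : Subgroup.centralizer (P : Set G) ≤ Subgroup.normalizer (P : Set G) :=
    Subgroup.centralizer_le_normalizer _
  have h2 := pLayer_subnormal h1 (Y := (Subgroup.centralizer (P : Set G)).subgroupOf (Subgroup.normalizer (P : Set G))) (Subgroup.Normal.isSubnormal inferInstance)
  have h3 : IsPConstrained p ↥((Subgroup.centralizer (P : Set G)).subgroupOf (Subgroup.normalizer (P : Set G))) :=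
    isPConstrained_iff.2 h2
  exact constrained_of_equiv (Subgroup.subgroupOfEquivOfLe hle) h3

/-- S0661 -/
theorem pPrimeCore_normalizer
    (hc : centralizer (pCore p (G ⧸ pPrimeCore p G) : Set (G ⧸ pPrimeCore p G)) ≤ pCore p (G ⧸ pPrimeCore p G))
    (P : Subgroup G) (hP : IsPGroup p P) :
    (pPrimeCore p ↥(normalizer (P : Set G))).map (normalizer (P : Set G)).subtype =
      pPrimeCore p G ⊓ normalizer (P : Set G) := by
  haveI hOn : (pPrimeCore p G).Normal := Cfsg.Agent.Lib.FitCore.pPrimeCore_normal p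
  have hL : pLayer p G = ⊥ := isPConstrained_iff.1 (constrained_iff_char.2 hc)
  apply le_antisymm
  · apply le_inf (pLayer_normalizer hL P hP).2
    exact Subgroup.map_subtype_le _
  · rintro x ⟨hx1, hx2⟩
    have hx2' : x ∈ normalizer (P : Set G) := hx2
    refine ⟨⟨x, hx2'⟩, ?_, rfl⟩
    have hle : (pPrimeCore p G).subgroupOf (normalizer (P : Set G)) ≤ pPrimeCore p ↥(normalizer (P : Set G)) := by
      refine le_sSup ⟨inferInstance, ?_⟩
      have h4 : Nat.card ((pPrimeCore p G).subgroupOf (normalizer (P : Set G))) ∣ Nat.card (pPrimeCore p G) := by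
        have h7 : ((pPrimeCore p G).subgroupOf (normalizer (P : Set G))).map (normalizer (P : Set G)).subtype ≤ pPrimeCore p G := by
          rintro _ ⟨x, hx, rfl⟩
          exact hx
        have := Subgroup.card_dvd_of_le h7
        rwa [Subgroup.card_map_of_injective (normalizer (P : Set G)).subtype_injective] at this
      exact Nat.Coprime.coprime_dvd_left h4 card_coprime_pPrimeCore
    exact hle hx1

theorem isPSolvable_of_surjective {A B : Type*} [Group A] [Group B]
    (f : A →* B) (hf : Function.Surjective f) (hs : IsPSolvable p A) : IsPSolvable p B := by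
  obtain ⟨n, H, h0, hl, hmono, hnorm, hc⟩ := hs
  refine ⟨n, fun i => (H i).map f, ?_, ?_, ?_, ?_, ?_⟩
  · show (H 0).map f = ⊥
    rw [h0, Subgroup.map_bot]
  · show (H (Fin.last n)).map f = ⊤
    rw [hl, Subgroup.map_top_of_surjective f hf]
  · intro i j hij
    exact Subgroup.map_mono (hmono hij)
  · intro i
    haveI := hnorm i
    exact Subgroup.Normal.map inferInstance f hf
  · intro i
    have hK : (H i.castSucc) ≤ H i.succ := hmono (Fin.castSucc_le_succ i)
    haveI : (H i.castSucc).Normal := hnorm _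
    haveI : (H i.succ).Normal := hnorm _
    have hd : ((H i.castSucc).map f).relIndex ((H i.succ).map f) ∣ (H i.castSucc).relIndex (H i.succ) := by
      rw [Subgroup.relIndex_map_map]
      have hN' : (H i.castSucc ⊔ f.ker).Normal := inferInstance
      have e : H i.succ ⊔ f.ker = H i.succ ⊔ (H i.castSucc ⊔ f.ker) := by
        rw [← sup_assoc, sup_eq_left.mpr hK]
      rw [e, Subgroup.relIndex_sup_right]
      exact Subgroup.relIndex_dvd_of_le_left _ le_sup_left
    rcases hc i with ⟨m, hm⟩ | hcop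
    · left
      rw [hm] at hd
      obtain ⟨k, -, hk⟩ := (Nat.dvd_prime_pow (Fact.out)).mp hd
      exact ⟨k, hk⟩
    · right
      exact Nat.Coprime.coprime_dvd_left hd hcop

/-- S0629 -/
theorem constrained_of_centralizer_solvable (P : Sylow p ↥(pPrimePCore p G))
    (hsol : IsPSolvable p ↥(centralizer (((P : Subgroup ↥(pPrimePCore p G)).map (pPrimePCore p G).subtype : Subgroup G) : Set G))) :
    IsPConstrained p G := by
  rw [constrained_iff_char]
  haveI hOn : (pPrimeCore p G).Normal := Cfsg.Agent.Lib.FitCore.pPrimeCore_normal p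
  have hO : ¬ p ∣ Nat.card (pPrimeCore p G) := Cfsg.Agent.Lib.FitCore.not_dvd_card_pPrimeCore p Fact.out
  set O := pPrimeCore p G with hOd
  set π := QuotientGroup.mk' O with hπ
  set Q := pCore p (G ⧸ O) with hQ
  haveI hQn : Q.Normal := Cfsg.Agent.Lib.FitCore.pCore_normal p
  set P₁ : Subgroup G := (P : Subgroup ↥(pPrimePCore p G)).map (pPrimePCore p G).subtype with hP₁d
  have hP₁ : IsPGroup p P₁ := isPGroup_map_sylow P
  have h1 : P₁.map π = Q := map_sylow_pPrimePCore P
  have hn : (O ⊔ P₁).Normal := by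
    have h2 : (P₁.map π).comap π = O ⊔ P₁ := by
      rw [Subgroup.comap_map_eq, QuotientGroup.ker_mk', sup_comm]
    rw [← h2, h1]
    exact Subgroup.Normal.comap hQn _
  have hfr := Cfsg.Agent.Lib.ZJQuot.frattini_p' hO hP₁ hn
  set X : Subgroup (G ⧸ O) := centralizer (Q : Set (G ⧸ O)) with hX
  haveI hXn : X.Normal := by
    rw [hX]
    infer_instance
  let φ : ↥(centralizer (P₁ : Set G)) →* X := (π.comp (centralizer (P₁ : Set G)).subtype).codRestrict X (by
    intro n
    rw [hX, Subgroup.mem_centralizer_iff]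
    intro q hq
    rw [← h1] at hq
    obtain ⟨u, hu, rfl⟩ := hq
    have := Subgroup.mem_centralizer_iff.1 n.2 u hu
    simp only [MonoidHom.comp_apply, Subgroup.subtype_apply]
    rw [← map_mul, ← map_mul, this])
  have hφ : Function.Surjective φ := by
    rintro ⟨x, hx⟩
    obtain ⟨g, rfl⟩ := QuotientGroup.mk'_surjective O x
    obtain ⟨o, ho, n, hn', rfl⟩ := hfr g
    have hok : QuotientGroup.mk' O o = 1 := (QuotientGroup.eq_one_iff o).2 ho
    have hx2 : QuotientGroup.mk' O n ∈ X := by
      have hx' := hx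
      rwa [map_mul, hok, one_mul] at hx'
    have h3 : n ∈ centralizer (P₁ : Set G) := by
      apply Cfsg.Agent.Lib.ZJLift.key_centralizer hO hP₁ hn'
      intro u hu
      have h4 : QuotientGroup.mk' O u ∈ Q := by rw [← h1]; exact ⟨u, hu, rfl⟩
      exact Subgroup.mem_centralizer_iff.1 hx2 _ h4
    refine ⟨⟨n, h3⟩, ?_⟩
    apply Subtype.ext
    show π n = QuotientGroup.mk' O (o * n)
    rw [map_mul, hok, one_mul]
  have hXs : IsPSolvable p X := isPSolvable_of_surjective φ hφ hsol
  have h0 : pPrimeCore p (G ⧸ O) = ⊥ := pPrimeCore_quotient_eq_bot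
  have hXc : pPrimeCore p X = ⊥ := by
    have h5 := map_pPrimeCore_le_of_subnormal (p := p) (K := X) hXn.isSubnormal
    rw [h0, le_bot_iff, Subgroup.map_eq_bot_iff_of_injective _ X.subtype_injective] at h5
    exact h5
  have hHH := Cfsg.Agent.Lib.CharBlockPSolv.centralizer_pCore_le_of_pSolvable hXs hXc
  have h6 := Cfsg.Agent.Lib.CharP.map_pCore_le_of_subnormal (p := p) (K := X) hXn.isSubnormal
  intro x hx
  have h7 : (⟨x, hx⟩ : X) ∈ pCore p X := by
    apply hHH
    rw [Subgroup.mem_centralizer_iff]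
    intro y hy
    apply Subtype.ext
    have h8 : (y : G ⧸ O) ∈ Q := h6 ⟨y, hy, rfl⟩
    exact Subgroup.mem_centralizer_iff.1 hx _ h8
  exact h6 ⟨_, h7, rfl⟩

end Cfsg.Agent.Lib.PConstr
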