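import Cfsg.Agent.Lib.ThmOFusC

/-!
Transport along a realizing homomorphism: maximal abelian subgroups, automizers, and the local hypotheses of the
group theorem.
-/

set_option autoImplicit false

universe u

namespace Cfsg.Agent.Lib.ThmOFus

open Cfsg Cfsg.FusionSystem Cfsg.Agent.Lib.FusionBasic Cfsg.Agent.Lib.FusionAut
  Cfsg.Agent.Lib.FusionSat Cfsg.Agent.Lib.FusionModel Cfsg.Agent.Lib.FusionLocal
  Cfsg.Agent.Lib.FusionLocalModel Cfsg.Agent.Lib.FusionAlperin Cfsg.Agent.Lib.FusionJFactor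
  Cfsg.Agent.Lib.FusionCenCtl Cfsg.Agent.Lib.FusionCenQuad Cfsg.Agent.Lib.FusionGrun
  Cfsg.Agent.Lib.FusionNormal Cfsg.Agent.Lib.FusionJGen Cfsg.Agent.Lib.ThmOS3 Cfsg.Agent.Lib.ThmOMain

section D

variable {Ω : Type u} [Group Ω] {S : Subgroup Ω} {L : Type*} [Group L]

theorem card_imageAlong {ι : S →* L} (hι : Function.Injective ι) {R : Subgroup Ω} (hR : R ≤ S) :
    Nat.card (imageAlong ι R) = Nat.card R := by
  show Nat.card ((R.subgroupOf S).map ι) = _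
  rw [Subgroup.card_map_of_injective hι]
  exact Nat.card_congr (Subgroup.subgroupOfEquivOfLe hR).toEquiv

theorem mem_imageAlong' {ι : S →* L} {R : Subgroup Ω} {y : L} :
    y ∈ imageAlong ι R ↔ ∃ (x : Ω) (hx : x ∈ R) (hS : x ∈ S), ι ⟨x, hS⟩ = y := by
  constructor
  · rintro ⟨t, ht, rfl⟩
    exact ⟨t, ht, t.2, rfl⟩
  · rintro ⟨x, hx, hS, rfl⟩
    exact ⟨⟨x, hS⟩, hx, rfl⟩

theorem imageAlong_mono {ι : S →* L} {R R' : Subgroup Ω} (h : R ≤ R') : imageAlong ι R ≤ imageAlong ι R' := by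
  rintro _ ⟨t, ht, rfl⟩
  exact ⟨t, h ht, rfl⟩

theorem imageAlong_preS' {ι : S →* L} {N : Subgroup L} (hN : N ≤ ι.range) : imageAlong ι (preS ι N) = N := by
  ext y
  constructor
  · rintro ⟨t, ht, rfl⟩
    exact (mem_preS ι N t.2).mp ht
  · intro hy
    obtain ⟨t, rfl⟩ := hN hy
    exact ⟨t, (mem_preS ι N t.2).mpr hy, rfl⟩

theorem preS_imageAlong' {ι : S →* L} (hι : Function.Injective ι) {R : Subgroup Ω} (hR : R ≤ S) :
    preS ι (imageAlong ι R) = R := by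
  ext x
  constructor
  · rintro ⟨t, ht, rfl⟩
    exact (mem_imageAlong_iff hι t).mp ht
  · intro hx
    exact (mem_preS ι _ (hR hx)).mpr ⟨⟨x, hR hx⟩, hx, rfl⟩

theorem preS_mono {ι : S →* L} {N N' : Subgroup L} (h : N ≤ N') : preS ι N ≤ preS ι N' := by
  rintro _ ⟨t, ht, rfl⟩
  exact ⟨t, h ht, rfl⟩

theorem imageAlong_comm {ι : S →* L} {A : Subgroup Ω} (h : ∀ a ∈ A, ∀ b ∈ A, a * b = b * a) :
    ∀ a ∈ imageAlong ι A, ∀ b ∈ imageAlong ι A, a * b = b * a := by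
  rintro _ ⟨s, hs, rfl⟩ _ ⟨t, ht, rfl⟩
  rw [← map_mul, ← map_mul]
  congr 1
  exact Subtype.ext (h _ hs _ ht)

theorem preS_comm {ι : S →* L} (hι : Function.Injective ι) {A : Subgroup L}
    (h : ∀ a ∈ A, ∀ b ∈ A, a * b = b * a) : ∀ a ∈ preS ι A, ∀ b ∈ preS ι A, a * b = b * a := by
  rintro _ ⟨s, hs, rfl⟩ _ ⟨t, ht, rfl⟩
  have := h _ hs _ ht
  rw [← map_mul, ← map_mul] at this
  exact congrArg Subtype.val (hι this)

/-- Maximal abelian subgroups are carried by a realizing homomorphism. -/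
theorem mabs_image {ι : S →* L} (hι : Function.Injective ι) {T₁ A : Subgroup Ω} (hT₁ : T₁ ≤ S)
    (hA : A ∈ mabs T₁) : imageAlong ι A ∈ mabs (imageAlong ι T₁) := by
  obtain ⟨hAT, hAc, hAm⟩ := hA
  refine ⟨imageAlong_mono hAT, imageAlong_comm hAc, fun B hB hBc => ?_⟩
  have hBr : B ≤ ι.range := hB.trans (imageAlong_le_range ι T₁)
  have h1 : preS ι B ≤ T₁ := by
    have := preS_mono (ι := ι) hB
    rwa [preS_imageAlong' hι hT₁] at this
  have h2 := hAm _ h1 (preS_comm hι hBc)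
  have h3 : Nat.card (imageAlong ι (preS ι B)) = Nat.card (preS ι B) :=
    card_imageAlong hι (preS_le ι B)
  rw [imageAlong_preS' hBr] at h3
  rw [h3, card_imageAlong hι (hAT.trans hT₁)]
  exact h2

theorem mabs_pre {ι : S →* L} (hι : Function.Injective ι) {T₁ : Subgroup Ω} {A : Subgroup L} (hT₁ : T₁ ≤ S)
    (hA : A ∈ mabs (imageAlong ι T₁)) : preS ι A ∈ mabs T₁ := by
  obtain ⟨hAT, hAc, hAm⟩ := hA
  have hAr : A ≤ ι.range := hAT.trans (imageAlong_le_range ι T₁)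
  refine ⟨?_, preS_comm hι hAc, fun B hB hBc => ?_⟩
  · have := preS_mono (ι := ι) hAT
    rwa [preS_imageAlong' hι hT₁] at this
  · have h2 := hAm _ (imageAlong_mono hB) (imageAlong_comm hBc)
    rw [card_imageAlong hι (hB.trans hT₁)] at h2
    have h3 : Nat.card (imageAlong ι (preS ι A)) = Nat.card (preS ι A) :=
      card_imageAlong hι (preS_le ι A)
    rw [imageAlong_preS' hAr] at h3
    rw [← h3]
    exact h2

theorem sSup_mabs_image_le {ι : S →* L} (hι : Function.Injective ι) {T₁ X : Subgroup Ω} (hT₁ : T₁ ≤ S)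
    (h : Jf T₁ ≤ X) : sSup (mabs (imageAlong ι T₁)) ≤ imageAlong ι X := by
  apply sSup_le
  intro A hA
  have hAr : A ≤ ι.range := hA.1.trans (imageAlong_le_range ι T₁)
  have h1 := mabs_pre hι hT₁ hA
  have h2 : preS ι A ≤ X := (le_sSup h1).trans (by
    rw [← Jf_eq]
    exact h)
  have h3 := imageAlong_mono (ι := ι) h2
  rwa [imageAlong_preS' hAr] at h3

theorem Jf_le_of_image {ι : S →* L} (hι : Function.Injective ι) {T₁ X : Subgroup Ω} (hT₁ : T₁ ≤ S) (hX : X ≤ S)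
    (h : sSup (mabs (imageAlong ι T₁)) ≤ imageAlong ι X) : Jf T₁ ≤ X := by
  rw [Jf_eq]
  apply sSup_le
  intro A hA
  have h1 := mabs_image hι hT₁ hA
  have h2 : imageAlong ι A ≤ imageAlong ι X := (le_sSup h1).trans h
  have h3 := preS_mono (ι := ι) h2
  rwa [preS_imageAlong' hι hX, preS_imageAlong' hι (hA.1.trans hT₁)] at h3

theorem image_normalizerIn {ι : S →* L} (hι : Function.Injective ι) {R : Subgroup Ω} (hR : R ≤ S) :
    imageAlong ι (normalizerIn S R) =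
      ι.range ⊓ Subgroup.normalizer ((imageAlong ι R : Subgroup L) : Set L) := by
  ext y
  constructor
  · rintro ⟨t, ⟨-, ht⟩, rfl⟩
    refine ⟨⟨t, rfl⟩, ?_⟩
    have ht' : (t : Ω) ∈ Subgroup.normalizer (R : Set Ω) := ht
    have ht1 := Subgroup.mem_normalizer_iff.mp ht'
    have ht2 := Subgroup.mem_normalizer_iff.mp (Subgroup.inv_mem _ ht')
    show ι t ∈ Subgroup.normalizer _
    apply ThmOFus.norm_of_values
    · rintro _ ⟨x, hx, rfl⟩
      refine ⟨t * x * t⁻¹, (ht1 _).mp hx, ?_⟩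
      simp only [map_mul, map_inv]
    · rintro _ ⟨x, hx, rfl⟩
      refine ⟨_, ⟨t⁻¹ * x * t⁻¹⁻¹, (ht2 _).mp hx, rfl⟩, ?_⟩
      simp only [map_mul, map_inv]
      group
  · rintro ⟨⟨t, rfl⟩, ht⟩
    refine ⟨t, ⟨t.2, ?_⟩, rfl⟩
    have ht' : ι t ∈ Subgroup.normalizer ((imageAlong ι R : Subgroup L) : Set L) := ht
    have ht1 := Subgroup.mem_normalizer_iff.mp ht'
    show (t : Ω) ∈ Subgroup.normalizer (R : Set Ω)
    rw [Subgroup.mem_normalizer_iff]
    intro x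
    have key : ∀ (s : S) , (s : Ω) ∈ R ↔ ι s ∈ imageAlong ι R := fun s => (mem_imageAlong_iff hι s).symm
    constructor
    · intro hx
      have hxS := hR hx
      have h1 := (ht1 (ι ⟨x, hxS⟩)).mp ((key ⟨x, hxS⟩).mp hx)
      rw [← map_inv, ← map_mul, ← map_mul] at h1
      exact (key _).mpr h1
    · intro hx
      have hxS : x ∈ S := by
        have h2 := S.mul_mem (S.mul_mem (S.inv_mem t.2) (hR hx)) t.2
        have e : (t : Ω)⁻¹ * ((t : Ω) * x * (t : Ω)⁻¹) * t = x := by group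
        rwa [e] at h2
      have h1 : ι t * ι ⟨x, hxS⟩ * (ι t)⁻¹ ∈ imageAlong ι R := by
        rw [← map_inv, ← map_mul, ← map_mul]
        exact (key _).mp hx
      exact (key ⟨x, hxS⟩).mpr ((ht1 _).mpr h1)

/-- The homomorphism from the normalizer to the automizer. -/
theorem exists_autHom {E : FusionSystem S} {ι : S →* L} (hE : E.IsRealizedBy ι)
    {R : Subgroup Ω} (hR : R ≤ S) :
    ∃ f : ↥(Subgroup.normalizer ((imageAlong ι R : Subgroup L) : Set L)) →* ↥(E.autGroup R),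
      Function.Surjective f ∧ ∀ (g) (x : R),
        ι ⟨((f g : MulAut R) x : Ω), hR ((f g : MulAut R) x).2⟩ = (g : L) * ι ⟨x, hR x.2⟩ * (g : L)⁻¹ := by
  let e : R ≃* ↥(imageAlong ι R) :=
    (Subgroup.subgroupOfEquivOfLe hR).symm.trans ((R.subgroupOf S).equivMapOfInjective ι hE.1)
  have he : ∀ x : R, ((e x : ↥(imageAlong ι R)) : L) = ι ⟨x, hR x.2⟩ := fun x => rfl
  let f₀ : ↥(Subgroup.normalizer ((imageAlong ι R : Subgroup L) : Set L)) →* MulAut R :=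
    (MulAut.congr e.symm).toMonoidHom.comp (imageAlong ι R).normalizerMonoidHom
  have h1 : ∀ g (x : R), e (f₀ g x) = (imageAlong ι R).normalizerMonoidHom g (e x) :=
    fun g x => e.apply_symm_apply _
  have hf₀ : ∀ g (x : R), ι ⟨(f₀ g x : Ω), hR (f₀ g x).2⟩ = (g : L) * ι ⟨x, hR x.2⟩ * (g : L)⁻¹ := by
    intro g x
    rw [← he, h1]
    rfl
  have hmem : ∀ g, f₀ g ∈ E.autGroup R := by
    intro g
    rw [mem_autGroup_iff E hR]
    exact (hE.2 R hR (R.subtype.comp (f₀ g).toMonoidHom) (fun x => hR (f₀ g x).2)).mpr ⟨g, fun x => hf₀ g x⟩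
  refine ⟨f₀.codRestrict (E.autGroup R) hmem, ?_, fun g x => hf₀ g x⟩
  rintro ⟨α, hα⟩
  have hα' := (mem_autGroup_iff E hR).mp hα
  obtain ⟨hP', hS', g, hg⟩ := exists_conj_of_mem hE hα'
  have hg' : ∀ x : R, ι ⟨((α x : R) : Ω), hR (α x).2⟩ = g * ι ⟨x, hR x.2⟩ * g⁻¹ := hg
  have hgN : g ∈ Subgroup.normalizer ((imageAlong ι R : Subgroup L) : Set L) := by
    apply ThmOFus.norm_of_values
    · rintro _ ⟨t, ht, rfl⟩
      have ht' : (t : Ω) ∈ R := ht
      have h2 := hg' ⟨t, ht'⟩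
      have e1 : (⟨t, hR ht'⟩ : S) = t := rfl
      simp only [e1] at h2
      rw [← h2]
      exact ⟨_, (α ⟨t, ht'⟩).2, rfl⟩
    · rintro _ ⟨t, ht, rfl⟩
      have ht' : (t : Ω) ∈ R := ht
      obtain ⟨x₀, hx₀⟩ := α.surjective ⟨t, ht'⟩
      refine ⟨ι ⟨x₀, hR x₀.2⟩, ⟨_, x₀.2, rfl⟩, ?_⟩
      rw [← hg' x₀]
      congr 1
      apply Subtype.ext
      exact congrArg (fun w : R => (w : Ω)) hx₀
  refine ⟨⟨g, hgN⟩, ?_⟩
  apply Subtype.ext
  apply MulEquiv.ext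
  intro x
  apply Subtype.ext
  apply congrArg Subtype.val (hE.1 ?_ : (⟨(f₀ ⟨g, hgN⟩ x : Ω), hR (f₀ ⟨g, hgN⟩ x).2⟩ : S) = ⟨α x, hR (α x).2⟩)
  rw [hf₀, hg']

end D

end Cfsg.Agent.Lib.ThmOFus
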