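import Cfsg.Agent.Lib.FusionModelUniq
import Cfsg.Agent.Lib.FusionModelExist
import Cfsg.Agent.Lib.SylowIn
import Cfsg.Agent.Lib.FitSolv
import Cfsg.Agent.Lib.CharBlockPSolv
import Cfsg.Agent.Lib.UpperP
import Cfsg.Agent.Lib.H6Hall
import Cfsg.Agent.Lib.PConstr
import Cfsg.Agent.Lib.ThmOFusD

/-!
Realization by finite groups: passing to the quotient by a normal subgroup of order prime to `p`, and
fusion systems of `p`-soluble groups.
-/

set_option autoImplicit false
set_option linter.all false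

universe u

namespace Cfsg.Agent.Lib.FusionRealize

open Cfsg Cfsg.FusionSystem Cfsg.Agent.Lib.FusionModel Cfsg.Agent.Lib.FusionModelUniq

variable {Ω G : Type*} [Group Ω] [Group G] {S : Subgroup Ω} {p : ℕ} [Fact p.Prime]

theorem sylow_inf_trivial [Finite G] (T : Sylow p G) (N : Subgroup G) (hc : (Nat.card N).Coprime p) {x : G}
    (hxT : x ∈ (T : Subgroup G)) (hxN : x ∈ N) : x = 1 := by
  obtain ⟨k, hk⟩ := T.isPGroup' ⟨x, hxT⟩
  have h1 : x ^ p ^ k = 1 := congrArg Subtype.val hk
  have h2 : orderOf x ∣ p ^ k := orderOf_dvd_of_pow_eq_one h1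
  have h3 : orderOf x ∣ Nat.card N := by
    have := Subgroup.orderOf_dvd_natCard N hxN
    exact this
  have h4 : Nat.Coprime (Nat.card N) (p ^ k) := Nat.Coprime.pow_right k hc
  have h5 : orderOf x ∣ 1 := by
    have := Nat.dvd_gcd h3 h2
    rwa [h4] at this
  exact orderOf_eq_one_iff.1 (Nat.dvd_one.1 h5)

/-- The quotient by a normal subgroup of order prime to `p` realizes the same system. -/
theorem realized_quot [Finite G] {F : FusionSystem S} {ι : S →* G} (hF : F.IsRealizedBy ι) (T : Sylow p G)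
    (hT : (T : Subgroup G) = ι.range) (N : Subgroup G) [hN : N.Normal] (hc : (Nat.card N).Coprime p) :
    F.IsRealizedBy ((QuotientGroup.mk' N).comp ι) ∧
      ∃ T' : Sylow p (G ⧸ N), (T' : Subgroup (G ⧸ N)) = ((QuotientGroup.mk' N).comp ι).range := by
  have hmk : ∀ a b : G, (QuotientGroup.mk' N a = QuotientGroup.mk' N b) ↔ a⁻¹ * b ∈ N := fun a b => by
    show (QuotientGroup.mk a : G ⧸ N) = QuotientGroup.mk b ↔ _
    exact QuotientGroup.eq
  have hιT : ∀ x : S, ι x ∈ (T : Subgroup G) := fun x => hT ▸ ⟨x, rfl⟩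
  refine ⟨⟨?_, ?_⟩, T.mapSurjective (QuotientGroup.mk'_surjective N), ?_⟩
  · intro a b hab
    have h1 : (ι a)⁻¹ * ι b ∈ N := (hmk _ _).1 hab
    have h2 : (ι a)⁻¹ * ι b ∈ (T : Subgroup G) := mul_mem (inv_mem (hιT a)) (hιT b)
    have h3 := sylow_inf_trivial T N hc h2 h1
    exact hF.1 (inv_mul_eq_one.1 h3)
  · intro P hP φ hφ
    rw [hF.2 P hP φ hφ]
    constructor
    · rintro ⟨g, hg⟩
      refine ⟨QuotientGroup.mk' N g, fun x => ?_⟩
      simp only [MonoidHom.comp_apply]
      rw [hg x, map_mul, map_mul, map_inv]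
    · rintro ⟨gb, hg⟩
      obtain ⟨g, rfl⟩ := QuotientGroup.mk'_surjective N gb
      have hg1 : ∀ x : P, (ι ⟨φ x, hφ x⟩)⁻¹ * (g * ι ⟨x, hP x.2⟩ * g⁻¹) ∈ N := by
        intro x
        refine (hmk _ _).1 ?_
        have := hg x
        simp only [MonoidHom.comp_apply] at this
        rw [this, map_mul, map_mul, map_inv]
      have hRp : IsPGroup p (imageAlong ι P) := by
        have h0 : IsPGroup p (T : Subgroup G) := T.isPGroup'
        refine h0.to_le ?_
        rintro _ ⟨s, -, rfl⟩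
        exact hιT s
      have hmem : ∀ y ∈ imageAlong ι P, g * y * g⁻¹ ∈ (T : Subgroup G) ⊔ N := by
        rintro _ ⟨s, hs, rfl⟩
        have hs' : (s : Ω) ∈ P := hs
        have h1 := hg1 ⟨s, hs'⟩
        have e : g * ι s * g⁻¹ = ι ⟨φ ⟨s, hs'⟩, hφ _⟩ * ((ι ⟨φ ⟨s, hs'⟩, hφ _⟩)⁻¹ * (g * ι s * g⁻¹)) := by
          group
        rw [e]
        exact mul_mem (Subgroup.mem_sup_left (hιT _)) (Subgroup.mem_sup_right h1)
      obtain ⟨n, hn, hnT⟩ := Cfsg.Agent.Lib.SylowIn.exists_conj_into_sylow_of_le_sup T N _ hRp g hmem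
      refine ⟨n * g, fun x => ?_⟩
      have hx1 : ι ⟨x, hP x.2⟩ ∈ imageAlong ι P := ⟨⟨x, hP x.2⟩, x.2, rfl⟩
      have h2 := hnT _ hx1
      set a := ι ⟨φ x, hφ x⟩ with ha
      set b := g * ι ⟨x, hP x.2⟩ * g⁻¹ with hb
      have h3 : a⁻¹ * b ∈ N := hg1 x
      have h4 : a⁻¹ * (n * b * n⁻¹) ∈ (T : Subgroup G) := mul_mem (inv_mem (hιT _)) h2
      have h5 : a⁻¹ * (n * b * n⁻¹) ∈ N := by
        have e : a⁻¹ * (n * b * n⁻¹) = (a⁻¹ * n * a) * (a⁻¹ * b) * n⁻¹ := by group
        rw [e]
        refine mul_mem (mul_mem ?_ h3) (inv_mem hn)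
        have := hN.conj_mem n hn a⁻¹
        simpa using this
      have h6 := sylow_inf_trivial T N hc h4 h5
      have h7 : a = n * b * n⁻¹ := inv_mul_eq_one.1 h6
      rw [h7, hb]
      group
  · show (T : Subgroup G).map (QuotientGroup.mk' N) = _
    rw [hT, MonoidHom.range_comp]

/-- An extension of a `p`-soluble group by a `p`-group is `p`-soluble. -/
theorem isPSolvable_of_ker {A B : Type*} [Group A] [Group B] (f : A →* B) (hf : Function.Surjective f)
    (hs : IsPSolvable p B) (hk : ∃ m : ℕ, Nat.card f.ker = p ^ m) : IsPSolvable p A := by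
  obtain ⟨n, H, h0, hl, hmono, hnorm, hc⟩ := hs
  refine ⟨n + 1, Fin.cons ⊥ (fun i => (H i).comap f), ?_, ?_, ?_, ?_, ?_⟩
  · exact Fin.cons_zero _ _
  · rw [← Fin.succ_last, Fin.cons_succ, hl, Subgroup.comap_top]
  · intro i j hij
    induction i using Fin.cases with
    | zero =>
      rw [Fin.cons_zero]
      exact bot_le
    | succ i =>
      induction j using Fin.cases with
      | zero => exact absurd hij (by simp)
      | succ j =>
        rw [Fin.cons_succ, Fin.cons_succ]
        exact Subgroup.comap_mono (hmono (Fin.succ_le_succ_iff.1 hij))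
  · intro i
    induction i using Fin.cases with
    | zero =>
      rw [Fin.cons_zero]
      infer_instance
    | succ i =>
      rw [Fin.cons_succ]
      haveI := hnorm i
      exact Subgroup.Normal.comap inferInstance f
  · intro i
    induction i using Fin.cases with
    | zero =>
      left
      obtain ⟨m, hm⟩ := hk
      refine ⟨m, ?_⟩
      have e1 : (Fin.cons (⊥ : Subgroup A) (fun i => (H i).comap f) : Fin (n + 2) → Subgroup A) (Fin.castSucc 0) = ⊥ :=
        Fin.cons_zero _ _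
      have e2 : (Fin.cons (⊥ : Subgroup A) (fun i => (H i).comap f) : Fin (n + 2) → Subgroup A) (Fin.succ 0) = f.ker := by
        rw [Fin.cons_succ, h0]
        rfl
      rw [e1, e2, Subgroup.relIndex_bot_left, hm]
    | succ j =>
      have e1 : (Fin.cons (⊥ : Subgroup A) (fun i => (H i).comap f) : Fin (n + 2) → Subgroup A) (Fin.castSucc (Fin.succ j)) =
          (H j.castSucc).comap f := by
        rw [← Fin.succ_castSucc, Fin.cons_succ]
      have e2 : (Fin.cons (⊥ : Subgroup A) (fun i => (H i).comap f) : Fin (n + 2) → Subgroup A) (Fin.succ (Fin.succ j)) =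
          (H j.succ).comap f := by
        rw [Fin.cons_succ]
      rw [e1, e2, Subgroup.relIndex_comap, Subgroup.map_comap_eq_self_of_surjective hf]
      exact hc j

/-- The theorem on fusion systems of `p`-soluble groups. -/
theorem psolvable_iff {Ω : Type u} [Group Ω] {S : Subgroup Ω} [Finite S] (hS : IsPGroup p S)
    (F : FusionSystem S) (hF : F.IsSaturated p) :
    (∃ (G : Type u) (_ : Group G) (_ : Finite G) (ι : S →* G), IsPSolvable p G ∧ F.IsRealizedBy ι ∧
        ∃ T : Sylow p G, (T : Subgroup G) = ι.range) ↔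
      (F.IsConstrained p ∧ IsPSolvable p ↥(F.autGroup F.core)) := by
  constructor
  · rintro ⟨G, hG, hfin, ι, hps, hreal, T, hT⟩
    haveI hNn := Cfsg.Agent.Lib.FitCore.pPrimeCore_normal (G := G) p
    have hc : (Nat.card (pPrimeCore p G)).Coprime p := by
      rw [Nat.coprime_comm, Nat.Prime.coprime_iff_not_dvd (Fact.out : p.Prime)]
      exact Cfsg.Agent.Lib.FitCore.not_dvd_card_pPrimeCore p Fact.out
    obtain ⟨hr', T', hT'⟩ := realized_quot hreal T hT (pPrimeCore p G) hc
    have hM : F.IsModel p (G ⧸ pPrimeCore p G) ((QuotientGroup.mk' (pPrimeCore p G)).comp ι) :=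
      ⟨inferInstance, hr', ⟨T', hT'⟩,
        Cfsg.Agent.Lib.CharBlockPSolv.centralizer_pCore_le_of_pSolvable
          (Cfsg.Agent.Lib.UpperP.isPSolvable_quotient hps _)
          (Cfsg.Agent.Lib.FitSolv.pPrimeCore_quotient p)⟩
    refine ⟨isConstrained_of_isModel hM, ?_⟩
    have hcore : F.core ≤ S := (Cfsg.Agent.Lib.FusionBasic.isNormal_core F).1
    obtain ⟨f, hf, -⟩ := Cfsg.Agent.Lib.ThmOFus.exists_autHom hreal hcore
    exact Cfsg.Agent.Lib.PConstr.isPSolvable_of_surjective f hf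
      (Cfsg.Agent.Lib.H6Hall.isPSolvable_subgroup p hps _)
  · rintro ⟨hcon, hsol⟩
    obtain ⟨G, hG, ι, hM⟩ := Cfsg.Agent.Lib.FusionModelExist.exists_model hS F hcon
    have hcore := preS_pCore_eq_core hM
    obtain ⟨hfin, hreal, ⟨T, hT⟩, hC⟩ := hM
    refine ⟨G, hG, hfin, ι, ?_, hreal, T, hT⟩
    haveI hOn := Cfsg.Agent.Lib.FusionAlperin.pCore_normal' (X := G) p
    have hOp := Cfsg.Agent.Lib.FusionAlperin.isPGroup_pCore' (X := G) p
    have hle : pCore p G ≤ ι.range := hT ▸ pCore_le_sylow' T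
    have hcoreS : F.core ≤ S := (Cfsg.Agent.Lib.FusionBasic.isNormal_core F).1
    have himg : imageAlong ι F.core = pCore p G := by
      rw [← hcore]
      apply le_antisymm
      · rintro _ ⟨s, hs, rfl⟩
        have hs' : (s : Ω) ∈ preS ι (pCore p G) := hs
        exact (mem_preS ι _ s.2).1 hs'
      · intro y hy
        obtain ⟨s, rfl⟩ := hle hy
        exact ⟨s, (mem_preS ι _ s.2).2 hy, rfl⟩
    obtain ⟨f, hf, hfe⟩ := Cfsg.Agent.Lib.ThmOFus.exists_autHom hreal hcoreS
    have htop : ∀ g : G, g ∈ Subgroup.normalizer ((imageAlong ι F.core : Subgroup G) : Set G) := by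
      intro g
      rw [himg, Subgroup.mem_normalizer_iff]
      intro y
      refine ⟨fun hy => hOn.conj_mem y hy g, fun hy => ?_⟩
      have := hOn.conj_mem _ hy g⁻¹
      have e : g⁻¹ * (g * y * g⁻¹) * g⁻¹⁻¹ = y := by group
      rwa [e] at this
    let f' : G →* F.autGroup F.core := f.comp (MonoidHom.codRestrict (MonoidHom.id G) _ htop)
    have hf' : Function.Surjective f' := by
      intro b
      obtain ⟨⟨g, hg⟩, rfl⟩ := hf b
      exact ⟨g, rfl⟩
    have hker : f'.ker ≤ pCore p G := by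
      intro g hg
      refine hC (Subgroup.mem_centralizer_iff.2 fun h hh => ?_)
      obtain ⟨s, rfl⟩ := hle hh
      have hs : (s : Ω) ∈ F.core := by
        rw [← hcore]
        exact (mem_preS ι _ s.2).2 hh
      have h1 := hfe ⟨g, htop g⟩ ⟨s, hs⟩
      have h2 : f ⟨g, htop g⟩ = 1 := hg
      rw [h2] at h1
      have h3 : ι s = g * ι s * g⁻¹ := h1
      have h4 : ι s * g = g * ι s := by
        calc ι s * g = (g * ι s * g⁻¹) * g := by rw [← h3]
          _ = g * ι s := by group
      exact h4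
    have hk : ∃ m : ℕ, Nat.card f'.ker = p ^ m := IsPGroup.iff_card.1 (hOp.to_le hker)
    exact isPSolvable_of_ker f' hf' hsol hk

end Cfsg.Agent.Lib.FusionRealize
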