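import Cfsg.Agent.S5160
import Cfsg.Agent.Lib.FusionSubgroup
import Cfsg.Agent.Lib.FusionSat
import Cfsg.Agent.Lib.FusionAlperin

/-!
A working form of the simplicity criterion: a self-normalizing Sylow subgroup without proper
nontrivial strongly closed subgroups (elementwise form) gives a simple fusion system.
-/

set_option autoImplicit false

namespace Cfsg.Agent.Lib.FusionSimpleCrit

open Cfsg Cfsg.FusionSystem Cfsg.Agent.Lib.FusionAut Cfsg.Agent.Lib.SylowIn
  Cfsg.Agent.Lib.FusionSubgroup Cfsg.Agent.Lib.FusionSat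

variable {H : Type*} [Group H] [Finite H] {p : ℕ} [Fact p.Prime]

/-- The criterion at a conjugate of a fixed Sylow subgroup. -/
theorem isSimple_of_selfNormalizing (S₁ : Sylow p H) (hne : (S₁ : Subgroup H) ≠ ⊥)
    (ha : ∀ T : Subgroup H, T ≤ S₁ → (∀ t ∈ T, ∀ g : H, g * t * g⁻¹ ∈ (S₁ : Subgroup H) → g * t * g⁻¹ ∈ T) →
      T = ⊥ ∨ T = S₁)
    (hb : ∀ g : H, g ∈ Subgroup.normalizer ((S₁ : Subgroup H) : Set H) → g ∈ (S₁ : Subgroup H))
    (S : Sylow p H) : (groupFusionSystem (S : Subgroup H)).IsSimple p := by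
  obtain ⟨a, ha'⟩ := MulAction.exists_smul_eq H S₁ S
  have hmem : ∀ x : H, x ∈ (S : Subgroup H) ↔ a⁻¹ * x * a ∈ (S₁ : Subgroup H) := by
    intro x
    rw [← ha', Sylow.coe_subgroup_smul, Subgroup.mem_pointwise_smul_iff_inv_smul_mem]
    simp [MulAut.smul_def, MulAut.conj_apply]
  have hmem' : ∀ x : H, x ∈ (S₁ : Subgroup H) ↔ a * x * a⁻¹ ∈ (S : Subgroup H) := by
    intro x
    rw [hmem]
    have : a⁻¹ * (a * x * a⁻¹) * a = x := by group
    rw [this]
  have hSne : (S : Subgroup H) ≠ ⊥ := by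
    intro h
    apply hne
    rw [eq_bot_iff]
    intro x hx
    have := (hmem' x).mp hx
    rw [h] at this
    have h2 : a * x * a⁻¹ = 1 := this
    have h3 : x = a⁻¹ * (a * x * a⁻¹) * a := by group
    rw [h3, h2]
    simp
  have hN : ∀ g : H, g ∈ Subgroup.normalizer ((S : Subgroup H) : Set H) → g ∈ (S : Subgroup H) := by
    intro g hg
    rw [hmem]
    apply hb
    apply mem_normalizer_of_conj_le
    intro x hx
    have h1 : a * x * a⁻¹ ∈ (S : Subgroup H) := (hmem' x).mp hx
    have h2 := (Subgroup.mem_normalizer_iff.mp hg _).mp h1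
    rw [hmem'] 
    convert h2 using 1
    group
  set F := groupFusionSystem (S : Subgroup H) with hF
  have hautS : F.autGroup (S : Subgroup H) = Inn (S : Subgroup H) := by
    apply le_antisymm
    · intro α hα
      obtain ⟨-, -, h, hh⟩ := (mem_autGroup_iff F le_rfl).mp hα
      have hh' : ∀ x : (S : Subgroup H), ((α x : (S : Subgroup H)) : H) = h * x * h⁻¹ := hh
      have hhS := hN h (mem_normalizer_of_induces hh')
      rw [inn_eq_autInducedBy]
      exact mem_autInducedBy_iff.mpr ⟨h, hhS, hh'⟩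
    · exact inn_le_autGroup F le_rfl
  have hIS : ∀ Q : Subgroup H, F.IsConj (S : Subgroup H) Q → Q = S := by
    intro Q hQ
    obtain ⟨φ, hφ, rfl⟩ := hQ
    have h1 : φ.range ≤ (S : Subgroup H) := by
      rintro _ ⟨x, rfl⟩
      exact (F.le_of_mem hφ).2 x
    refine Subgroup.eq_of_le_of_card_ge h1 ?_
    have h2 : Nat.card φ.range = Nat.card (S : Subgroup H) :=
      Nat.card_congr (MonoidHom.ofInjective (F.injective_of_mem hφ)).toEquiv.symm
    exact h2.ge
  apply Cfsg.Agent.S5160.result p S hSne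
  · intro T hT
    obtain ⟨hTS, hcl⟩ := hT
    let T' : Subgroup H := T.map (MulAut.conj a⁻¹).toMonoidHom
    have hT'mem : ∀ x : H, x ∈ T' ↔ a * x * a⁻¹ ∈ T := by
      intro x
      rw [mem_map_conj]
      simp
    have hT'le : T' ≤ S₁ := by
      intro x hx
      exact (hmem' x).mpr (hTS ((hT'mem x).mp hx))
    have hclosed : ∀ t ∈ T', ∀ g : H, g * t * g⁻¹ ∈ (S₁ : Subgroup H) → g * t * g⁻¹ ∈ T' := by
      intro t ht g hgt
      set u := a * t * a⁻¹ with hu
      have hu1 : u ∈ T := (hT'mem t).mp ht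
      set b := a * g * a⁻¹ with hb'
      have e1 : b * u * b⁻¹ = a * (g * t * g⁻¹) * a⁻¹ := by
        rw [hu, hb']
        group
      have hbu : b * u * b⁻¹ ∈ (S : Subgroup H) := by
        rw [e1]
        exact (hmem' _).mp hgt
      have hleT : Subgroup.zpowers u ≤ T := (Subgroup.zpowers_le).mpr hu1
      have hvals : ∀ x : Subgroup.zpowers u, b * (x : H) * b⁻¹ ∈ (S : Subgroup H) := by
        rintro ⟨_, k, rfl⟩
        have e2 : b * (u ^ k) * b⁻¹ = (b * u * b⁻¹) ^ k := by
          simp [conj_zpow]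
        show b * (u ^ k) * b⁻¹ ∈ (S : Subgroup H)
        rw [e2]
        exact zpow_mem hbu k
      have hmap : conjHom (Subgroup.zpowers u) b ∈ F.Hom (Subgroup.zpowers u) :=
        ⟨hleT.trans hTS, hvals, b, fun _ => rfl⟩
      have h3 := hcl _ hleT _ hmap ⟨u, Subgroup.mem_zpowers u⟩
      have h4 : b * u * b⁻¹ ∈ T := h3
      rw [hT'mem, ← e1]
      exact h4
    rcases ha T' hT'le hclosed with h | h
    · left
      rw [eq_bot_iff]
      intro x hx
      have h1 : a⁻¹ * x * a ∈ T' := by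
        rw [hT'mem]
        have : a * (a⁻¹ * x * a) * a⁻¹ = x := by group
        rw [this]
        exact hx
      rw [h] at h1
      have h2 : a⁻¹ * x * a = 1 := h1
      have h3 : x = a * (a⁻¹ * x * a) * a⁻¹ := by group
      rw [h3, h2]
      simp
    · right
      apply le_antisymm hTS
      intro x hx
      have h1 := (hmem x).mp hx
      rw [← h, hT'mem] at h1
      have e : a * (a⁻¹ * x * a) * a⁻¹ = x := by group
      rwa [e] at h1
  · apply le_antisymm
    · intro α hα
      obtain ⟨h, -, hh⟩ := mem_autInducedBy_iff.mp hα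
      have hhS := hN h (mem_normalizer_of_induces hh)
      have hfull : F.IsFullyNormalized (S : Subgroup H) ∧ F.IsRadical p (S : Subgroup H) ∧ F.IsCentric (S : Subgroup H) := by
        refine ⟨⟨le_rfl, fun Q hQ => ?_⟩, ⟨le_rfl, ?_⟩, ⟨le_rfl, fun Q hQ => ?_⟩⟩
        · rw [hIS Q hQ]
        · have hpA : IsPGroup p (F.autGroup (S : Subgroup H)) := by
            rw [hautS]
            exact Cfsg.Agent.Lib.FusionAlperin.isPGroup_inn S.isPGroup' le_rfl
          have htop : pCore p (F.autGroup (S : Subgroup H)) = ⊤ := by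
            rw [eq_top_iff]
            refine le_trans ?_ (le_sSup (a := (⊤ : Subgroup (F.autGroup (S : Subgroup H)))) ?_)
            · exact le_rfl
            · refine ⟨inferInstance, ?_⟩
              exact hpA.of_equiv Subgroup.topEquiv.symm
          rw [htop, ← MonoidHom.range_eq_map, Subgroup.range_subtype, hautS]
        · rw [hIS Q hQ]
          exact inf_le_left
      refine Subgroup.mem_iSup_of_mem (S : Subgroup H) (Subgroup.mem_iSup_of_mem hfull ?_)
      refine mem_autInducedBy_iff.mpr ⟨h, Subgroup.subset_closure ⟨mem_normalizer_of_induces hh, ?_⟩, hh⟩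
      have hp : IsPGroup p (S : Subgroup H) := S.isPGroup'
      obtain ⟨k, hk⟩ := (IsPGroup.iff_orderOf.mp hp) ⟨h, hhS⟩
      exact ⟨k, by rwa [Subgroup.orderOf_mk] at hk⟩
    · refine iSup₂_le fun R _ => ?_
      intro α hα
      obtain ⟨h, -, hh⟩ := mem_autInducedBy_iff.mp hα
      exact mem_autInducedBy_iff.mpr ⟨h, Subgroup.mem_top _, hh⟩

end Cfsg.Agent.Lib.FusionSimpleCrit
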