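import Cfsg.Agent.Lib.FusionRealize
import Cfsg.Agent.S5118

/-!
The system realized by a normal subgroup of a realizing group is normal in the system.  A simple system
that is realizable is realized by a simple group.
-/

set_option autoImplicit false
set_option linter.all false

universe u

namespace Cfsg.Agent.Lib.FusionSimpleReal

open Cfsg Cfsg.FusionSystem Cfsg.Agent.Lib.FusionBasic Cfsg.Agent.Lib.FusionAut
  Cfsg.Agent.Lib.FusionModel Cfsg.Agent.Lib.FusionRealize Cfsg.Agent.Lib.ThmOFus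

variable {Ω G : Type*} [Group Ω] [Group G] {S : Subgroup Ω}

/-- The system on `R` realized by an injective homomorphism. -/
def realSys {R : Subgroup Ω} (κ : R →* G) (hκ : Function.Injective κ) : FusionSystem R where
  Hom P := {φ | ∃ (hP : P ≤ R) (hv : ∀ x : P, φ x ∈ R), ∃ g : G,
    ∀ x : P, κ ⟨φ x, hv x⟩ = g * κ ⟨x, hP x.2⟩ * g⁻¹}
  le_of_mem := by
    rintro P φ ⟨hP, hv, -⟩
    exact ⟨hP, hv⟩
  injective_of_mem := by
    rintro P φ ⟨hP, hv, g, hg⟩ a b hab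
    have h1 : κ ⟨φ a, hv a⟩ = κ ⟨φ b, hv b⟩ := by
      congr 2
    rw [hg, hg] at h1
    have h2 : κ ⟨a, hP a.2⟩ = κ ⟨b, hP b.2⟩ := mul_left_cancel (mul_right_cancel h1)
    have h3 := hκ h2
    have h4 := congrArg Subtype.val h3
    exact Subtype.ext h4
  conj_mem := by
    intro P g hP hg
    have hv : ∀ x : P, conjHom P g x ∈ R := fun x => R.mul_mem (R.mul_mem hg (hP x.2)) (R.inv_mem hg)
    refine ⟨hP, hv, κ ⟨g, hg⟩, fun x => ?_⟩
    rw [← map_inv, ← map_mul, ← map_mul]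
    rfl
  comp_mem := by
    rintro P Q φ ψ ⟨hP, hφ, g, hg⟩ ⟨hQ, hψ, k, hk⟩ h
    refine ⟨hP, fun x => hψ _, k * g, fun x => ?_⟩
    have h1 := hk (φ.codRestrict Q h x)
    have h2 := hg x
    have e : κ ⟨((φ.codRestrict Q h x : Q) : Ω), hQ (φ.codRestrict Q h x).2⟩ = κ ⟨φ x, hφ x⟩ := rfl
    rw [e, h2] at h1
    refine h1.trans ?_
    group
  inv_mem := by
    rintro P φ ⟨hP, hφ, g, hg⟩
    have hle : φ.range ≤ R := by
      rintro _ ⟨x, rfl⟩
      exact hφ x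
    have hval : ∀ y : φ.range, conjOn κ hle g⁻¹ y ∈ κ.range := by
      rintro ⟨_, x, rfl⟩
      refine ⟨⟨x, hP x.2⟩, ?_⟩
      show _ = g⁻¹ * κ ⟨φ x, hφ x⟩ * g⁻¹⁻¹
      rw [hg]
      group
    refine ⟨liftHom hκ (conjOn κ hle g⁻¹) hval, ⟨hle, liftHom_mem hκ _ hval, g⁻¹, fun y => ?_⟩, fun x => ?_⟩
    · exact ι_liftHom hκ _ hval y
    · apply eq_of_ι_eq hκ (liftHom_mem hκ _ hval _) (hP x.2)
      rw [ι_liftHom]
      show g⁻¹ * κ ⟨φ x, hφ x⟩ * g⁻¹⁻¹ = _
      rw [hg]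
      group

theorem realized_realSys {R : Subgroup Ω} (κ : R →* G) (hκ : Function.Injective κ) :
    (realSys κ hκ).IsRealizedBy κ := by
  refine ⟨hκ, fun P hP φ hφ => ⟨?_, ?_⟩⟩
  · rintro ⟨_, _, g, hg⟩
    exact ⟨g, hg⟩
  · rintro ⟨g, hg⟩
    exact ⟨hP, hφ, g, hg⟩

/-- The restriction of `ι` to the preimage of a subgroup, into the subgroup. -/
def iotaN (ι : S →* G) (N : Subgroup G) : ↥(preS ι N) →* N :=
  (ι.comp (Subgroup.inclusion (preS_le ι N))).codRestrict N (fun x => (mem_preS ι N (preS_le ι N x.2)).1 x.2)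

theorem iotaN_coe (ι : S →* G) (N : Subgroup G) (x : Ω) (hx : x ∈ preS ι N) :
    ((iotaN ι N ⟨x, hx⟩ : N) : G) = ι ⟨x, preS_le ι N hx⟩ := rfl

theorem iotaN_inj {ι : S →* G} (hι : Function.Injective ι) (N : Subgroup G) :
    Function.Injective (iotaN ι N) := by
  intro a b hab
  have h1 : ι ⟨a, preS_le ι N a.2⟩ = ι ⟨b, preS_le ι N b.2⟩ := congrArg Subtype.val hab
  have h2 := hι h1
  have h3 := congrArg Subtype.val h2
  exact Subtype.ext h3

variable {p : ℕ} [Fact p.Prime]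

theorem image_preS (ι : S →* G) (N : Subgroup G) : imageAlong ι (preS ι N) = ι.range ⊓ N := by
  apply le_antisymm
  · rintro _ ⟨s, hs, rfl⟩
    exact ⟨⟨s, rfl⟩, (mem_preS ι N s.2).1 hs⟩
  · rintro _ ⟨⟨s, rfl⟩, hs⟩
    exact ⟨s, (mem_preS ι N s.2).2 hs, rfl⟩

/-- A normal subgroup of a realizing group gives a normal subsystem. -/
theorem isNormalIn_preS [Finite G] {F : FusionSystem S} {ι : S →* G} (hF : F.IsRealizedBy ι)
    (T : Sylow p G) (hT : (T : Subgroup G) = ι.range) (N : Subgroup G) [hN : N.Normal] :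
    (realSys (iotaN ι N) (iotaN_inj hF.1 N)).IsNormalIn F p := by
  have hRS : preS ι N ≤ S := preS_le ι N
  have hκ := iotaN_inj hF.1 N
  have hEr := realized_realSys (iotaN ι N) hκ
  have himg : imageAlong ι (preS ι N) = (T : Subgroup G) ⊓ N := by rw [image_preS, hT]
  have hιT : ∀ s : S, ι s ∈ (T : Subgroup G) := fun s => hT ▸ ⟨s, rfl⟩
  have hT1 : ∀ y ∈ (T : Subgroup G) ⊓ N, ∃ r : preS ι N, ι ⟨r, hRS r.2⟩ = y := by
    intro y hy
    rw [← himg] at hy
    obtain ⟨s, hs, rfl⟩ := hy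
    exact ⟨⟨s, hs⟩, rfl⟩
  have hT2 : ∀ r : preS ι N, ι ⟨r, hRS r.2⟩ ∈ (T : Subgroup G) ⊓ N := by
    intro r
    rw [← himg]
    exact ⟨⟨r, hRS r.2⟩, r.2, rfl⟩
  have hR₁ := Cfsg.Agent.Lib.FusionSubgroup.isSylowIn_inf T N
  obtain ⟨R₁, hR₁⟩ := hR₁
  have hrange : (R₁ : Subgroup N) = (iotaN ι N).range := by
    rw [hR₁]
    ext y
    constructor
    · intro hy
      have hy' : (y : G) ∈ (T : Subgroup G) ⊓ N := hy
      obtain ⟨r, hr⟩ := hT1 _ hy'
      exact ⟨r, Subtype.ext hr⟩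
    · rintro ⟨r, rfl⟩
      exact hT2 r
  have hEsat := isSaturated_of_isRealizedBy hEr R₁ hrange
  have hFsat := isSaturated_of_isRealizedBy hF T hT
  have hsub : (realSys (iotaN ι N) hκ).IsSubsystemOf F := by
    rintro P φ ⟨hP, hv, g, hg⟩
    refine (hF.2 P (hP.trans hRS) φ (fun x => hRS (hv x))).2 ⟨g, fun x => ?_⟩
    have h0 := congrArg Subtype.val (hg x)
    exact h0
  have hsc : F.StronglyClosed (preS ι N) := by
    refine ⟨hRS, fun Q hQ φ hφ x => ?_⟩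
    obtain ⟨hP, hS, g, hg⟩ := exists_conj_of_mem hF hφ
    refine (mem_preS ι N (hS x)).2 ?_
    rw [hg]
    exact hN.conj_mem _ ((mem_preS ι N _).1 (hQ x.2)) g
  refine ⟨⟨hEsat, hFsat, hsub, hsc, ?_, ?_⟩, ?_⟩
  · -- invariance
    intro P hPR φ hφ α hα
    obtain ⟨hP', hv, g, hg⟩ := hφ
    obtain ⟨_, hαS, h, hh⟩ := exists_conj_of_mem hF ((mem_autGroup_iff F hRS).1 hα)
    have hh' : ∀ r : preS ι N, ι ⟨(α r : Ω), hRS (α r).2⟩ = h * ι ⟨r, hRS r.2⟩ * h⁻¹ := hh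
    have hg' : ∀ x : P, ι ⟨φ x, hRS (hv x)⟩ = (g : G) * ι ⟨x, hRS (hP' x.2)⟩ * (g : G)⁻¹ := fun x => by
      have h0 := congrArg Subtype.val (hg x)
      exact h0
    have hP'R : (P.subgroupOf (preS ι N)).map ((preS ι N).subtype.comp α.toMonoidHom) ≤ preS ι N := by
      rintro _ ⟨r, -, rfl⟩
      exact (α r).2
    let g' : N := ⟨h * g * h⁻¹, hN.conj_mem _ g.2 h⟩
    have hval : ∀ y, conjOn (iotaN ι N) hP'R g' y ∈ (iotaN ι N).range := by
      rintro ⟨_, r, hr, rfl⟩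
      refine ⟨α ⟨φ ⟨r, hr⟩, hv _⟩, Subtype.ext ?_⟩
      show ι ⟨((α ⟨φ ⟨r, hr⟩, hv _⟩ : preS ι N) : Ω), hRS (α _).2⟩ =
        (h * g * h⁻¹) * ι ⟨((α r : preS ι N) : Ω), hRS (α r).2⟩ * (h * g * h⁻¹)⁻¹
      rw [hh', hh']
      have e := hg' ⟨r, hr⟩
      simp only at e
      rw [e]
      group
    refine ⟨liftHom hκ (conjOn (iotaN ι N) hP'R g') hval, liftHom_conj_mem hEr hP'R g' hval, fun x hφx hαx => ?_⟩
    apply eq_of_ι_eq hκ (liftHom_mem hκ _ hval _) (α _).2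
    rw [ι_liftHom]
    apply Subtype.ext
    show (h * g * h⁻¹) * ι ⟨((α ⟨x, hPR x.2⟩ : preS ι N) : Ω), hRS (α _).2⟩ * (h * g * h⁻¹)⁻¹ =
      ι ⟨((α ⟨φ x, hφx⟩ : preS ι N) : Ω), hRS (α _).2⟩
    rw [hh', hh']
    have e := hg' x
    rw [e]
    group
  · -- Frattini
    intro P hPR φ hφ
    obtain ⟨hPS, hS, g, hg⟩ := exists_conj_of_mem hF hφ
    have hmap : (R₁ : Subgroup N).map N.subtype = (T : Subgroup G) ⊓ N := by
      rw [hR₁, Subgroup.subgroupOf_map_subtype]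
      exact inf_of_le_left inf_le_right
    have htop := Sylow.normalizer_sup_eq_top R₁
    have hg0 : g ∈ Subgroup.normalizer (((T : Subgroup G) ⊓ N : Subgroup G) : Set G) ⊔ N := by
      rw [← hmap]
      have h1 : g ∈ (⊤ : Subgroup G) := trivial
      rw [← htop] at h1
      exact h1
    obtain ⟨a, ha, w, hw, e⟩ := Subgroup.mem_sup_of_normal_right.1 hg0
    obtain ⟨f, -, hfe⟩ := exists_autHom hF hRS
    let a' : ↥(Subgroup.normalizer ((imageAlong ι (preS ι N) : Subgroup G) : Set G)) := ⟨a, by rw [himg]; exact ha⟩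
    have hval : ∀ x, conjOn (iotaN ι N) hPR ⟨w, hw⟩ x ∈ (iotaN ι N).range := by
      intro x
      have h1 : ι ⟨φ x, hS x⟩ ∈ (T : Subgroup G) ⊓ N := by
        refine ⟨hιT _, ?_⟩
        rw [hg]
        exact hN.conj_mem _ ((mem_preS ι N _).1 (hPR x.2)) g
      have h2 : a⁻¹ * ι ⟨φ x, hS x⟩ * a⁻¹⁻¹ ∈ (T : Subgroup G) ⊓ N :=
        (Subgroup.mem_normalizer_iff.1 (inv_mem ha) _).1 h1
      have e2 : a⁻¹ * ι ⟨φ x, hS x⟩ * a⁻¹⁻¹ = w * ι ⟨x, hPS x.2⟩ * w⁻¹ := by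
        rw [hg, ← e]
        group
      rw [e2] at h2
      obtain ⟨r, hr⟩ := hT1 _ h2
      exact ⟨r, Subtype.ext hr⟩
    refine ⟨(f a').1, (f a').2, liftHom hκ (conjOn (iotaN ι N) hPR ⟨w, hw⟩) hval,
      liftHom_conj_mem hEr hPR _ hval, fun x hx => ?_⟩
    apply eq_of_ι_eq hF.1 (hS x) (hRS ((f a').1 ⟨_, hx⟩).2)
    rw [hfe a' ⟨_, hx⟩, hg x]
    have h3 : ι ⟨liftHom hκ (conjOn (iotaN ι N) hPR ⟨w, hw⟩) hval x, hRS hx⟩ =
        w * ι ⟨x, hPS x.2⟩ * w⁻¹ := by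
      have h0 := congrArg Subtype.val (ι_liftHom hκ _ hval x)
      exact h0
    show _ = a * ι ⟨liftHom hκ (conjOn (iotaN ι N) hPR ⟨w, hw⟩) hval x, hRS hx⟩ * a⁻¹
    rw [h3, ← e]
    group
  · -- extension
    intro α hα
    obtain ⟨hP₀, hv₀, h₀, hh₀⟩ := (mem_autGroup_iff _ le_rfl).1 hα
    have hh₀' : ∀ r : preS ι N, ι ⟨(α r : Ω), hRS (α r).2⟩ = (h₀ : G) * ι ⟨r, hRS r.2⟩ * (h₀ : G)⁻¹ := fun r => by
      have h0 := congrArg Subtype.val (hh₀ r)
      exact h0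
    have hnorm : (h₀ : G) ∈ Subgroup.normalizer (((T : Subgroup G) ⊓ N : Subgroup G) : Set G) := by
      apply norm_of_values
      · intro y hy
        obtain ⟨r, rfl⟩ := hT1 y hy
        rw [← hh₀']
        exact hT2 _
      · intro y hy
        obtain ⟨r, rfl⟩ := hT1 y hy
        obtain ⟨r₀, rfl⟩ := α.surjective r
        exact ⟨_, hT2 r₀, (hh₀' r₀).symm⟩
    have hE' := Cfsg.Agent.S5118.result p T N
    let α' : MulAut ↥((T : Subgroup G) ⊓ N) := conjAut _ ⟨_, hnorm⟩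
    have hα' : α' ∈ (fusionSystemOfSubgroup N ((T : Subgroup G) ⊓ N) inf_le_right).autGroup ((T : Subgroup G) ⊓ N) := by
      rw [mem_autGroup_iff _ le_rfl]
      exact ⟨le_rfl, fun x => (α' x).2, h₀, h₀.2, fun x => rfl⟩
    obtain ⟨β', hβ', hext, hcomm⟩ := hE'.2 α' hα'
    have hK'T : ((T : Subgroup G) ⊓ N) ⊔ centralizerIn (T : Subgroup G) ((T : Subgroup G) ⊓ N) ≤ (T : Subgroup G) :=
      sup_le inf_le_left inf_le_left
    obtain ⟨_, _, g, hg⟩ := (mem_autGroup_iff _ hK'T).1 hβ'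
    have hg' : ∀ y, ((β' y : ↥(((T : Subgroup G) ⊓ N) ⊔ centralizerIn (T : Subgroup G) ((T : Subgroup G) ⊓ N))) : G) = g * y * g⁻¹ := hg
    have hKS : preS ι N ⊔ centralizerIn S (preS ι N) ≤ S := sup_le hRS inf_le_left
    have hCmem : ∀ s : S, ι s ∈ centralizerIn (T : Subgroup G) ((T : Subgroup G) ⊓ N) ↔ (s : Ω) ∈ centralizerIn S (preS ι N) := by
      intro s
      constructor
      · rintro ⟨-, h2⟩
        refine ⟨s.2, Subgroup.mem_centralizer_iff.2 fun r hr => ?_⟩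
        have h3 := Subgroup.mem_centralizer_iff.1 h2 _ (hT2 ⟨r, hr⟩)
        have h4 : ι (⟨r, hRS hr⟩ * s) = ι (s * ⟨r, hRS hr⟩) := by
          rw [map_mul, map_mul]
          exact h3
        have h5 := congrArg Subtype.val (hF.1 h4)
        exact h5
      · rintro ⟨-, h2⟩
        refine ⟨hιT s, Subgroup.mem_centralizer_iff.2 fun y hy => ?_⟩
        obtain ⟨r, rfl⟩ := hT1 y hy
        have h3 := Subgroup.mem_centralizer_iff.1 h2 _ r.2
        have h4 : (⟨r, hRS r.2⟩ : S) * s = s * ⟨r, hRS r.2⟩ := Subtype.ext h3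
        rw [← map_mul, ← map_mul, h4]
    have himgK : imageAlong ι (preS ι N ⊔ centralizerIn S (preS ι N)) =
        ((T : Subgroup G) ⊓ N) ⊔ centralizerIn (T : Subgroup G) ((T : Subgroup G) ⊓ N) := by
      show ((preS ι N ⊔ centralizerIn S (preS ι N)).subgroupOf S).map ι = _
      have hCS : centralizerIn S (preS ι N) ≤ S := inf_le_left
      have hsup := Subgroup.subgroupOf_sup hRS hCS
      rw [hsup, Subgroup.map_sup]
      have e1 : ((preS ι N).subgroupOf S).map ι = (T : Subgroup G) ⊓ N := himg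
      have e2 : ((centralizerIn S (preS ι N)).subgroupOf S).map ι = centralizerIn (T : Subgroup G) ((T : Subgroup G) ⊓ N) := by
        apply le_antisymm
        · rintro _ ⟨s, hs, rfl⟩
          exact (hCmem s).2 hs
        · intro y hy
          have hyT : y ∈ (T : Subgroup G) := hy.1
          rw [hT] at hyT
          obtain ⟨s, rfl⟩ := hyT
          exact ⟨s, (hCmem s).1 hy, rfl⟩
      rw [e1, e2]
    have hgnorm : g ∈ Subgroup.normalizer ((((T : Subgroup G) ⊓ N) ⊔ centralizerIn (T : Subgroup G) ((T : Subgroup G) ⊓ N) : Subgroup G) : Set G) := by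
      apply norm_of_values
      · intro y hy
        rw [← hg' ⟨y, hy⟩]
        exact (β' _).2
      · intro y hy
        obtain ⟨x, hx⟩ := β'.surjective ⟨y, hy⟩
        refine ⟨x, x.2, ?_⟩
        rw [← hg' x, hx]
    obtain ⟨f, -, hfe⟩ := exists_autHom hF hKS
    let g' : ↥(Subgroup.normalizer ((imageAlong ι (preS ι N ⊔ centralizerIn S (preS ι N)) : Subgroup G) : Set G)) :=
      ⟨g, by rw [himgK]; exact hgnorm⟩
    refine ⟨(f g').1, (f g').2, fun x => ?_, fun c hc => ?_⟩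
    · apply eq_of_ι_eq hF.1 (hKS ((f g').1 _).2) (hRS (α x).2)
      rw [hfe g', hh₀' x]
      have h1 := hext ⟨ι ⟨x, hRS x.2⟩, hT2 x⟩
      rw [hg'] at h1
      exact h1
    · have hcS := hKS c.2
      have hc' : ι ⟨c, hcS⟩ ∈ centralizerIn (T : Subgroup G) ((T : Subgroup G) ⊓ N) := (hCmem ⟨c, hcS⟩).2 hc
      have h1 := hcomm ⟨ι ⟨c, hcS⟩, Subgroup.mem_sup_right hc'⟩ hc'
      rw [hg'] at h1
      have hdS : (c : Ω)⁻¹ * (((f g').1 c : ↥(preS ι N ⊔ centralizerIn S (preS ι N))) : Ω) ∈ S :=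
        S.mul_mem (S.inv_mem hcS) (hKS ((f g').1 c).2)
      have hd : ι ⟨(c : Ω)⁻¹ * (((f g').1 c : ↥(preS ι N ⊔ centralizerIn S (preS ι N))) : Ω), hdS⟩ =
          (ι ⟨c, hcS⟩)⁻¹ * (g * ι ⟨c, hcS⟩ * g⁻¹) := by
        have e0 : (⟨(c : Ω)⁻¹ * (((f g').1 c : ↥(preS ι N ⊔ centralizerIn S (preS ι N))) : Ω), hdS⟩ : S) =
            (⟨c, hcS⟩ : S)⁻¹ * ⟨_, hKS ((f g').1 c).2⟩ := rfl
        rw [e0, map_mul, map_inv, hfe g' c]
      have hd1 : (c : Ω)⁻¹ * (((f g').1 c : ↥(preS ι N ⊔ centralizerIn S (preS ι N))) : Ω) ∈ preS ι N := by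
        refine (mem_preS ι N hdS).2 ?_
        rw [hd]
        exact h1.1.2
      refine ⟨hd1, Subgroup.mem_centralizer_iff.2 fun r hr => ?_⟩
      have h3 := Subgroup.mem_centralizer_iff.1 h1.2 _ (hT2 ⟨r, hr⟩)
      rw [← hd] at h3
      have h4 : ι (⟨r, hRS hr⟩ * ⟨_, hdS⟩) = ι (⟨_, hdS⟩ * ⟨r, hRS hr⟩) := by
        rw [map_mul, map_mul]
        exact h3
      have h5 := congrArg Subtype.val (hF.1 h4)
      exact h5

/-- A simple realizable system is realized by a simple group. -/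
theorem simple_of_realizable {Ω : Type u} [Group Ω] {S : Subgroup Ω} [Finite S]
    (F : FusionSystem S) (hsimple : F.IsSimple p) (hreal : F.IsRealizable p) :
    ∃ (G : Type u) (_ : Group G) (_ : Finite G) (_ : IsSimpleGroup G) (ι : ↥S →* G), F.IsRealizedBy ι ∧
      ∃ T : Sylow p G, (T : Subgroup G) = ι.range := by
  classical
  have hex : ∃ n : ℕ, ∃ (G : Type u) (_ : Group G) (_ : Finite G) (ι : ↥S →* G), F.IsRealizedBy ι ∧
      (∃ T : Sylow p G, (T : Subgroup G) = ι.range) ∧ Nat.card G = n := by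
    obtain ⟨G, hG, hfin, ι, hr, hT⟩ := hreal
    exact ⟨_, G, hG, hfin, ι, hr, hT, rfl⟩
  obtain ⟨G, hG, hfin, ι, hF, ⟨T, hT⟩, hn⟩ := Nat.find_spec hex
  have hmin : ∀ (G' : Type u) [Group G'] [Finite G'] (ι' : ↥S →* G'), F.IsRealizedBy ι' →
      (∃ T' : Sylow p G', (T' : Subgroup G') = ι'.range) → Nat.card G ≤ Nat.card G' := by
    intro G' hg' hf' ι' h1 h2
    rw [hn]
    exact Nat.find_min' hex ⟨G', hg', hf', ι', h1, h2, rfl⟩
  refine ⟨G, hG, hfin, ?_, ι, hF, T, hT⟩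
  have hιT : ∀ s : S, ι s ∈ (T : Subgroup G) := fun s => hT ▸ ⟨s, rfl⟩
  have hnt : Nontrivial G := by
    have hS1 : Nontrivial S := (Subgroup.nontrivial_iff_ne_bot _).2 hsimple.2.1
    obtain ⟨a, b, hab⟩ := hS1.exists_pair_ne
    exact ⟨ι a, ι b, fun h => hab (hF.1 h)⟩
  refine { exists_pair_ne := hnt.exists_pair_ne, eq_bot_or_eq_top_of_normal := ?_ }
  intro N hN
  rcases hsimple.2.2 _ _ (isNormalIn_preS hF T hT N) with h | ⟨h, hE⟩
  · left
    -- `T ⊓ N = 1`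
    have hinf : (T : Subgroup G) ⊓ N = ⊥ := by
      rw [eq_bot_iff]
      rintro y ⟨hy1, hy2⟩
      have hy1' := hy1
      rw [hT] at hy1'
      obtain ⟨s, rfl⟩ := hy1'
      have h1 : (s : Ω) ∈ preS ι N := (mem_preS ι N s.2).2 hy2
      rw [h] at h1
      have h2 : s = 1 := Subtype.ext h1
      rw [h2, map_one]
      exact one_mem _
    have hcop : (Nat.card N).Coprime p := by
      have hsyl := Cfsg.Agent.Lib.FusionSubgroup.isSylowIn_inf T N
      rw [hinf] at hsyl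
      obtain ⟨R, hR⟩ := hsyl
      have hR' : (R : Subgroup N) = ⊥ := by
        rw [hR]
        exact Subgroup.bot_subgroupOf _
      rw [Nat.coprime_comm, Nat.Prime.coprime_iff_not_dvd (Fact.out : p.Prime)]
      intro hdvd
      obtain ⟨x, hx⟩ := exists_prime_orderOf_dvd_card' p hdvd
      have hxp : IsPGroup p (Subgroup.zpowers x) := by
        rw [IsPGroup.iff_card]
        exact ⟨1, by rw [Nat.card_zpowers, hx, pow_one]⟩
      obtain ⟨g, hg⟩ := Cfsg.Agent.Lib.SylowIn.exists_conj_mem_sylow R hxp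
      have h1 : g * x * g⁻¹ ∈ (R : Subgroup N) := hg x (Subgroup.mem_zpowers x)
      rw [hR'] at h1
      have h2 : g * x * g⁻¹ = 1 := h1
      have h3 : x = 1 := by
        have : x = g⁻¹ * (g * x * g⁻¹) * g := by group
        rw [this, h2]
        group
      rw [h3, orderOf_one] at hx
      exact (Fact.out : p.Prime).one_lt.ne hx
    obtain ⟨hr, T', hT'⟩ := realized_quot hF T hT N hcop
    have hle := hmin (G ⧸ N) _ hr ⟨T', hT'⟩
    have hc : Nat.card N * Nat.card (G ⧸ N) = Nat.card G := by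
      rw [mul_comm]
      exact (Subgroup.card_eq_card_quotient_mul_card_subgroup N).symm
    have hpos : 0 < Nat.card (G ⧸ N) := Nat.card_pos
    have h1 : Nat.card N = 1 := by
      have hNpos : 0 < Nat.card N := Nat.card_pos
      by_contra hne
      have h2 : 2 ≤ Nat.card N := by omega
      nlinarith
    exact Subgroup.eq_bot_of_card_eq N h1
  · right
    have hTN : ∀ s : S, ι s ∈ N := by
      intro s
      have h1 : (s : Ω) ∈ preS ι N := by
        rw [h]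
        exact s.2
      exact (mem_preS ι N s.2).1 h1
    let ι' : ↥S →* N := ι.codRestrict N hTN
    have hι' : Function.Injective ι' := by
      intro a b hab
      exact hF.1 (congrArg Subtype.val hab)
    have hr' : F.IsRealizedBy ι' := by
      refine ⟨hι', fun P hP φ hφ => ⟨fun hm => ?_, ?_⟩⟩
      · have hm' := hm
        rw [← hE P] at hm'
        obtain ⟨hP', hv, g, hg⟩ := hm'
        refine ⟨g, fun x => ?_⟩
        apply Subtype.ext
        have h0 := congrArg Subtype.val (hg x)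
        exact h0
      · rintro ⟨g, hg⟩
        refine (hF.2 P hP φ hφ).2 ⟨g, fun x => ?_⟩
        have h0 := congrArg Subtype.val (hg x)
        exact h0
    have hTle : (T : Subgroup G) ≤ N := by
      rw [hT]
      rintro _ ⟨s, rfl⟩
      exact hTN s
    let T' : Sylow p N := T.subtype hTle
    have hT' : (T' : Subgroup N) = ι'.range := by
      show (T : Subgroup G).subgroupOf N = _
      rw [hT]
      ext y
      constructor
      · rintro ⟨s, hs⟩
        exact ⟨s, Subtype.ext hs⟩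
      · rintro ⟨s, rfl⟩
        exact ⟨s, rfl⟩
    have hle := hmin N ι' hr' ⟨T', hT'⟩
    exact Subgroup.eq_top_of_le_card N hle

end Cfsg.Agent.Lib.FusionSimpleReal
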