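import Cfsg.Agent.Lib.CharCliff2
import Cfsg.Agent.Lib.CharBlockOrth
import Cfsg.Agent.Lib.SchurZ
import Cfsg.Agent.Lib.BlockPair

/-!
# The Glauberman correspondence: an elementary approach for operators of prime order
-/

set_option autoImplicit false
set_option linter.all false

namespace Cfsg.Agent.Lib.Glaub

open Cfsg Cfsg.Agent.Lib.CharOps Cfsg.Agent.Lib.CharIrr Cfsg.Agent.Lib.CharBlockOrth
open scoped ComplexConjugate

universe u

section Parseval

variable {C : Type u} [Group C] [Fintype C]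

theorem inner_parseval {f : C → ℂ} (hf : IsClassFunction C f) (g : C → ℂ) :
    classInner f g = ∑ χ : IrrCharacter C, classInner f (χ : C → ℂ) * conj (classInner g (χ : C → ℂ)) := by
  have hh : classInner f g = classInner (∑ χ : IrrCharacter C, classInner f (χ : C → ℂ) • (χ : C → ℂ)) g :=
    congrArg (fun h => classInner h g) (classFunction_expand hf)
  rw [hh, classInner_sum_left]
  refine Finset.sum_congr rfl fun χ _ => ?_
  rw [classInner_smul_left, classInner_conj]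

end Parseval

section Prod

variable {C Q : Type u} [Group C] [Group Q] [Fintype C] [Fintype Q]

/-- The section of a function on a product. -/
noncomputable def secA (Ψ : C × Q → ℂ) (β : C → ℂ) (q : Q) : ℂ := classInner (fun c => Ψ (c, q)) β

/-- The multiplicity on a product. -/
noncomputable def mult (Ψ : C × Q → ℂ) (β : C → ℂ) (μ : Q → ℂ) : ℂ := classInner Ψ (fun x => β x.1 * μ x.2)

theorem mult_nat {Ψ : C × Q → ℂ} (hΨ : IsCharacter (C × Q) Ψ) {β : C → ℂ} {μ : Q → ℂ} (hβ : IsCharacter C β)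
    (hμ : IsCharacter Q μ) : ∃ n : ℕ, mult Ψ β μ = n := by
  refine exists_nat_classInner hΨ ?_
  exact isCharacter_mul (isCharacter_comp (MonoidHom.fst C Q) hβ) (isCharacter_comp (MonoidHom.snd C Q) hμ)

theorem inner_secA (Ψ : C × Q → ℂ) (β : C → ℂ) (μ : Q → ℂ) : classInner (secA Ψ β) μ = mult Ψ β μ := by
  rw [classInner, mult, classInner]
  simp only [secA, classInner]
  rw [Fintype.sum_prod_type_right (fun x : C × Q => Ψ x * conj (β x.1 * μ x.2))]
  have hc : (Nat.card (C × Q) : ℂ)⁻¹ = (Nat.card Q : ℂ)⁻¹ * (Nat.card C : ℂ)⁻¹ := by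
    rw [Nat.card_prod]
    push_cast
    rw [mul_inv, mul_comm]
  rw [hc, mul_assoc]
  congr 1
  rw [Finset.mul_sum]
  refine Finset.sum_congr rfl fun q _ => ?_
  rw [mul_assoc, Finset.sum_mul]
  congr 1
  refine Finset.sum_congr rfl fun c _ => ?_
  simp only [map_mul]
  ring

theorem secF_isClass {Ψ : C × Q → ℂ} (hΨ : IsClassFunction (C × Q) Ψ) (q : Q) : IsClassFunction C (fun c => Ψ (c, q)) := by
  intro c g
  have := hΨ (c, q) (g, 1)
  simpa using this

variable (hcomm : ∀ a b : Q, a * b = b * a)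
include hcomm

theorem isClass_of_comm (f : Q → ℂ) : IsClassFunction Q f := by
  intro g h
  congr 1
  rw [hcomm h g, mul_assoc, mul_inv_cancel, mul_one]

theorem secA_expand (Ψ : C × Q → ℂ) (β : C → ℂ) (q : Q) :
    secA Ψ β q = ∑ μ : IrrCharacter Q, mult Ψ β μ * (μ : Q → ℂ) q := by
  have h1 := congrFun (classFunction_expand (isClass_of_comm hcomm (secA Ψ β))) q
  simp only [Finset.sum_apply, Pi.smul_apply, smul_eq_mul, inner_secA] at h1
  exact h1

theorem degree_one_of_comm (μ : IrrCharacter Q) : (μ : Q → ℂ) 1 = 1 := by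
  have := (Cfsg.Agent.Lib.CharAb.commutative_iff_apply_one (G := Q)).1 hcomm μ
  exact this

theorem secA_one (Ψ : C × Q → ℂ) (β : C → ℂ) :
    secA Ψ β 1 = ∑ μ : IrrCharacter Q, mult Ψ β μ := by
  rw [secA_expand hcomm]
  refine Finset.sum_congr rfl fun μ _ => ?_
  rw [degree_one_of_comm hcomm, mul_one]

theorem sum_secA (Ψ Ψ' : C × Q → ℂ) (β : C → ℂ) :
    ∑ q, secA Ψ β q * conj (secA Ψ' β q) =
      (Nat.card Q : ℂ) * ∑ μ : IrrCharacter Q, mult Ψ β μ * conj (mult Ψ' β μ) := by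
  have h1 : classInner (secA Ψ β) (secA Ψ' β) = ∑ μ : IrrCharacter Q, mult Ψ β μ * conj (mult Ψ' β μ) := by
    rw [inner_parseval (isClass_of_comm hcomm (secA Ψ β))]
    refine Finset.sum_congr rfl fun μ _ => ?_
    rw [inner_secA, inner_secA]
  rw [← h1]
  have h2 : classInner (secA Ψ β) (secA Ψ' β) = (Nat.card Q : ℂ)⁻¹ * ∑ q, secA Ψ β q * conj (secA Ψ' β q) := rfl
  rw [h2, ← mul_assoc, mul_inv_cancel₀, one_mul]
  exact_mod_cast Nat.card_pos.ne'

/-- The bilinear identity on a product. -/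
theorem sum_mult {Ψ Ψ' : C × Q → ℂ} (hΨ : IsClassFunction (C × Q) Ψ) :
    (Nat.card Q : ℂ) * ∑ β : IrrCharacter C, ∑ μ : IrrCharacter Q,
        mult Ψ (β : C → ℂ) μ * conj (mult Ψ' (β : C → ℂ) μ) =
      ∑ q, classInner (fun c => Ψ (c, q)) (fun c => Ψ' (c, q)) := by
  rw [Finset.mul_sum]
  simp only [← sum_secA hcomm]
  rw [Finset.sum_comm]
  refine Finset.sum_congr rfl fun q _ => ?_
  rw [inner_parseval (secF_isClass hΨ q)]
  rfl

end Prod

section Arith

/-- The dichotomy for the quadratic form. -/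
theorem dich {I : Type*} [Fintype I] {p : ℕ} (hI : Fintype.card I = p) (hp : 2 ≤ p) (u : I → ℤ) :
    (p : ℤ) * ∑ i, u i ^ 2 - (∑ i, u i) ^ 2 = 0 ∨ (p : ℤ) - 1 ≤ (p : ℤ) * ∑ i, u i ^ 2 - (∑ i, u i) ^ 2 := by
  have hp0 : (0 : ℤ) < p := by exact_mod_cast (by omega : 0 < p)
  set S := ∑ i, u i with hS
  set r := S % (p : ℤ) with hr
  set c := S / (p : ℤ) with hc
  have hSr : S = p * c + r := (Int.mul_ediv_add_emod S p).symm
  have hr0 : 0 ≤ r := Int.emod_nonneg _ hp0.ne'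
  have hr1 : r < p := Int.emod_lt_of_pos _ hp0
  let v : I → ℤ := fun i => u i - c
  have hsumv : ∑ i, v i = r := by
    simp only [v, Finset.sum_sub_distrib, Finset.sum_const, Finset.card_univ, hI, nsmul_eq_mul]
    rw [← hS, hSr]
    ring
  have hsq : ∑ i, u i ^ 2 = ∑ i, v i ^ 2 + 2 * c * r + (p : ℤ) * c ^ 2 := by
    have h1 : ∀ i, u i ^ 2 = v i ^ 2 + 2 * c * v i + c ^ 2 := by
      intro i
      simp only [v]
      ring
    simp only [h1, Finset.sum_add_distrib, Finset.sum_const, Finset.card_univ, hI, nsmul_eq_mul]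
    rw [← Finset.mul_sum, hsumv]
  have hD : (p : ℤ) * ∑ i, u i ^ 2 - S ^ 2 = (p : ℤ) * ∑ i, v i ^ 2 - r ^ 2 := by
    rw [hsq, hSr]
    ring
  rw [hD]
  have hge : r ≤ ∑ i, v i ^ 2 := by
    rw [← hsumv]
    refine Finset.sum_le_sum fun i _ => ?_
    have := sq_nonneg (v i)
    nlinarith [Int.le_self_sq (v i)]
  by_cases hr00 : r = 0
  · rw [hr00] at hge ⊢
    by_cases h0 : ∑ i, v i ^ 2 = 0
    · left
      rw [h0]
      ring
    · right
      have : 1 ≤ ∑ i, v i ^ 2 := by omega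
      nlinarith
  · right
    have hr1' : 1 ≤ r := by omega
    have hr2 : r ≤ p - 1 := by omega
    have h1 : (p : ℤ) * r ≤ (p : ℤ) * ∑ i, v i ^ 2 := mul_le_mul_of_nonneg_left hge hp0.le
    nlinarith [mul_nonneg (sub_nonneg.2 hr1') (sub_nonneg.2 hr2)]

end Arith

section Perm

variable {G : Type u} [Group G] [Fintype G]

/-- Brauer's permutation lemma for a single automorphism. -/
theorem card_inv_irr (a : G ≃* G) :
    Nat.card {χ : IrrCharacter G // ∀ g, (χ : G → ℂ) (a g) = (χ : G → ℂ) g} =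
      Nat.card {K : ConjClasses G // ∀ g, ConjClasses.mk g = K → ConjClasses.mk (a g) = K} := by
  classical
  have hG0 : (Nat.card G : ℂ) ≠ 0 := by exact_mod_cast Nat.card_pos.ne'
  let f : IrrCharacter G → ℂ := fun χ => classInner (fun g => (χ : G → ℂ) (a g)) (χ : G → ℂ)
  have h1 : ∀ χ : IrrCharacter G, f χ = if (∀ g, (χ : G → ℂ) (a g) = (χ : G → ℂ) g) then 1 else 0 := by
    intro χ
    have h2 := classInner_irr (Cfsg.Agent.Lib.CharCliff.isIrr_comp_mulEquiv a χ.2) χ.2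
    simp only [f]
    rw [h2]
    simp only [funext_iff]
  have h2 : ∑ χ, f χ = (Nat.card {χ : IrrCharacter G // ∀ g, (χ : G → ℂ) (a g) = (χ : G → ℂ) g} : ℂ) := by
    simp only [h1]
    rw [Finset.sum_boole, Nat.card_eq_fintype_card, Fintype.card_subtype]
  have h3 : ∑ χ, f χ = (Nat.card G : ℂ)⁻¹ * ∑ g : G, (if IsConj (a g) g then (Nat.card (Subgroup.centralizer ({g} : Set G)) : ℂ) else 0) := by
    simp only [f, classInner]
    rw [← Finset.mul_sum, Finset.sum_comm]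
    congr 1
    refine Finset.sum_congr rfl fun g _ => ?_
    rw [column_orthogonality]
  have hmap : ∀ g g' : G, IsConj g g' → IsConj (a g) (a g') := by
    intro g g' h
    obtain ⟨c, hc⟩ := isConj_iff.1 h
    refine isConj_iff.2 ⟨a c, ?_⟩
    rw [← hc]
    simp
  have h4 : ∀ K : ConjClasses G, ∑ g ∈ Finset.univ.filter (fun g => ConjClasses.mk g = K),
      (if IsConj (a g) g then (Nat.card (Subgroup.centralizer ({g} : Set G)) : ℂ) else 0) =
        if (∀ g, ConjClasses.mk g = K → ConjClasses.mk (a g) = K) then (Nat.card G : ℂ) else 0 := by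
    intro K
    obtain ⟨g₀, rfl⟩ := ConjClasses.mk_surjective K
    by_cases hK : ∀ g, ConjClasses.mk g = ConjClasses.mk g₀ → ConjClasses.mk (a g) = ConjClasses.mk g₀
    · rw [if_pos hK]
      have h5 : ∀ g ∈ Finset.univ.filter (fun g => ConjClasses.mk g = ConjClasses.mk g₀),
          (if IsConj (a g) g then (Nat.card (Subgroup.centralizer ({g} : Set G)) : ℂ) else 0) =
            (Nat.card (Subgroup.centralizer ({g₀} : Set G)) : ℂ) := by
        intro g hg
        have hg' : ConjClasses.mk g = ConjClasses.mk g₀ := (Finset.mem_filter.1 hg).2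
        have h6 : IsConj (a g) g := by
          rw [← ConjClasses.mk_eq_mk_iff_isConj, hK g hg', hg']
        rw [if_pos h6]
        have h7 := card_class_mul_card_centralizer g
        have h8 := card_class_mul_card_centralizer g₀
        have h9 : Nat.card {x : G // IsConj x g} = Nat.card {x : G // IsConj x g₀} := by
          apply Nat.card_congr
          refine Equiv.subtypeEquivRight fun x => ?_
          rw [← ConjClasses.mk_eq_mk_iff_isConj, ← ConjClasses.mk_eq_mk_iff_isConj, hg']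
        rw [h9, ← h8] at h7
        haveI : Nonempty {x : G // IsConj x g₀} := ⟨⟨g₀, IsConj.refl _⟩⟩
        have h10 := Nat.eq_of_mul_eq_mul_left Nat.card_pos h7
        rw [h10]
      rw [Finset.sum_congr rfl h5, Finset.sum_const, nsmul_eq_mul]
      have h11 := card_class_mul_card_centralizer g₀
      have h12 : (Finset.univ.filter (fun g => ConjClasses.mk g = ConjClasses.mk g₀)).card = Nat.card {x : G // IsConj x g₀} := by
        rw [Nat.card_eq_fintype_card, Fintype.card_subtype]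
        congr 1
        ext x
        simp only [Finset.mem_filter, Finset.mem_univ, true_and]
        rw [ConjClasses.mk_eq_mk_iff_isConj]
      rw [h12]
      exact_mod_cast h11
    · rw [if_neg hK]
      refine Finset.sum_eq_zero fun g hg => ?_
      have hg' : ConjClasses.mk g = ConjClasses.mk g₀ := (Finset.mem_filter.1 hg).2
      rw [if_neg]
      intro h
      apply hK
      intro g' hg2
      have h13 : IsConj g' g := by
        rw [← ConjClasses.mk_eq_mk_iff_isConj, hg2, hg']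
      have h14 : IsConj (a g') g := (hmap _ _ h13).trans h
      rw [ConjClasses.mk_eq_mk_iff_isConj] at hg'
      rw [ConjClasses.mk_eq_mk_iff_isConj]
      exact h14.trans hg'
  letI : Fintype (ConjClasses G) := Fintype.ofFinite _
  have h5 : ∑ g : G, (if IsConj (a g) g then (Nat.card (Subgroup.centralizer ({g} : Set G)) : ℂ) else 0) =
      (Nat.card G : ℂ) * (Nat.card {K : ConjClasses G // ∀ g, ConjClasses.mk g = K → ConjClasses.mk (a g) = K} : ℂ) := by
    rw [← Finset.sum_fiberwise Finset.univ (ConjClasses.mk : G → ConjClasses G)]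
    simp only [h4]
    rw [Finset.sum_ite, Finset.sum_const_zero, add_zero, Finset.sum_const, nsmul_eq_mul, mul_comm]
    congr 2
    rw [Nat.card_eq_fintype_card, Fintype.card_subtype]
  rw [h3, h5, ← mul_assoc, inv_mul_cancel₀ hG0, one_mul] at h2
  exact_mod_cast h2.symm

theorem exists_fixed_of_iter {X : Type*} [Fintype X] {p : ℕ} (hp : p.Prime) (f : X → X) (hf : ∀ x, f^[p] x = x)
    (hc : ¬ p ∣ Nat.card X) : ∃ x, f x = x := by
  classical
  haveI : Fact p.Prime := ⟨hp⟩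
  let F : Function.End X := f
  have hF : F ^ p ^ 1 = 1 := by
    funext x
    rw [pow_one]
    show (F ^ p) x = x
    have : ∀ n : ℕ, ∀ x, (F ^ n) x = f^[n] x := by
      intro n
      induction n with
      | zero => intro x; rfl
      | succ n ih =>
        intro x
        rw [pow_succ']
        show F ((F ^ n) x) = _
        rw [ih, Function.iterate_succ_apply']
    rw [this]
    exact hf x
  have h := Equiv.Perm.card_fixedPoints_modEq hF
  by_contra hno
  push_neg at hno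
  have h0 : Fintype.card (Function.fixedPoints F) = 0 := by
    rw [Fintype.card_eq_zero_iff]
    exact ⟨fun x => hno x.1 x.2⟩
  rw [h0] at h
  apply hc
  rw [Nat.card_eq_fintype_card]
  exact (Nat.modEq_zero_iff_dvd).1 h

/-- Fixed classes and the classes of the fixed point subgroup. -/
theorem card_fixed_classes {C : Type u} [Group C] {p : ℕ} (hp : p.Prime) (a : G ≃* G) (ha : ∀ g, a^[p] g = g)
    (hcop : ¬ p ∣ Nat.card G) (ι : C →* G) (hinj : Function.Injective ι) (hfix : ∀ c, a (ι c) = ι c)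
    (hrange : ∀ n, a n = n → ∃ c, ι c = n) :
    Nat.card {K : ConjClasses G // ∀ g, ConjClasses.mk g = K → ConjClasses.mk (a g) = K} = Nat.card (ConjClasses C) := by
  classical
  have hmap : ∀ g g' : G, IsConj g g' → IsConj (a g) (a g') := by
    intro g g' h
    obtain ⟨c, hc⟩ := isConj_iff.1 h
    refine isConj_iff.2 ⟨a c, ?_⟩
    rw [← hc]
    simp
  let Φ : ConjClasses C → {K : ConjClasses G // ∀ g, ConjClasses.mk g = K → ConjClasses.mk (a g) = K} := fun K =>
    ⟨ConjClasses.map ι K, by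
      obtain ⟨c, rfl⟩ := ConjClasses.mk_surjective K
      intro g hg
      have h1 : ConjClasses.map ι (ConjClasses.mk c) = ConjClasses.mk (ι c) := rfl
      rw [h1] at hg ⊢
      rw [ConjClasses.mk_eq_mk_iff_isConj] at hg ⊢
      have := hmap _ _ hg
      rwa [hfix] at this⟩
  refine (Nat.card_congr (Equiv.ofBijective Φ ⟨?_, ?_⟩)).symm
  · intro K K' hKK
    obtain ⟨c, rfl⟩ := ConjClasses.mk_surjective K
    obtain ⟨c', rfl⟩ := ConjClasses.mk_surjective K'
    have h1 : ConjClasses.mk (ι c) = ConjClasses.mk (ι c') := congrArg Subtype.val hKK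
    rw [ConjClasses.mk_eq_mk_iff_isConj] at h1
    obtain ⟨g, hg⟩ := isConj_iff.1 h1
    let X := {g' : G // g' * ι c * g'⁻¹ = ι c'}
    letI : Fintype X := Fintype.ofFinite _
    have hX : Nat.card X = Nat.card (Subgroup.centralizer ({ι c} : Set G)) := by
      refine Nat.card_congr ⟨fun x => ⟨g⁻¹ * x.1, ?_⟩, fun z => ⟨g * z.1, ?_⟩, ?_, ?_⟩
      · rw [Subgroup.mem_centralizer_singleton_iff]
        have h2 : x.1 * ι c * x.1⁻¹ = g * ι c * g⁻¹ := x.2.trans hg.symm
        have h3 : (g⁻¹ * x.1) * (ι c) * (g⁻¹ * x.1)⁻¹ = ι c := by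
          have : (g⁻¹ * x.1) * (ι c) * (g⁻¹ * x.1)⁻¹ = g⁻¹ * (x.1 * ι c * x.1⁻¹) * g := by group
          rw [this, h2]
          group
        rw [mul_inv_eq_iff_eq_mul] at h3
        exact h3
      · have h2 := Subgroup.mem_centralizer_singleton_iff.1 z.2
        rw [← hg]
        have : g * z.1 * ι c * (g * z.1)⁻¹ = g * (z.1 * ι c) * z.1⁻¹ * g⁻¹ := by group
        rw [this, h2]
        group
      · intro x
        apply Subtype.ext
        group
      · intro z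
        apply Subtype.ext
        group
    have hXc : ¬ p ∣ Nat.card X := by
      rw [hX]
      intro h
      exact hcop (h.trans (Subgroup.card_subgroup_dvd_card _))
    let f : X → X := fun x => ⟨a x.1, by
      have h2 := congrArg a x.2
      simp only [map_mul, map_inv, hfix] at h2
      exact h2⟩
    have hfi : ∀ (n : ℕ) (x : X), (f^[n] x).1 = a^[n] x.1 := by
      intro n
      induction n with
      | zero => intro x; rfl
      | succ n ih =>
        intro x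
        rw [Function.iterate_succ_apply', Function.iterate_succ_apply']
        show a ((f^[n] x).1) = _
        rw [ih]
    obtain ⟨x, hx⟩ := exists_fixed_of_iter hp f (fun x => Subtype.ext (by rw [hfi, ha])) hXc
    have hx' : a x.1 = x.1 := congrArg Subtype.val hx
    obtain ⟨h, hh⟩ := hrange _ hx'
    rw [ConjClasses.mk_eq_mk_iff_isConj]
    refine isConj_iff.2 ⟨h, hinj ?_⟩
    have := x.2
    rw [← hh] at this
    rw [← this]
    simp
  · rintro ⟨K, hK⟩
    obtain ⟨n₀, rfl⟩ := ConjClasses.mk_surjective K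
    let X := {n : G // IsConj n n₀}
    letI : Fintype X := Fintype.ofFinite _
    have hXc : ¬ p ∣ Nat.card X := by
      intro h
      apply hcop
      rw [← card_class_mul_card_centralizer n₀]
      exact Dvd.dvd.mul_right h _
    let f : X → X := fun x => ⟨a x.1, by
      have h1 := hK x.1 (ConjClasses.mk_eq_mk_iff_isConj.2 x.2)
      exact ConjClasses.mk_eq_mk_iff_isConj.1 h1⟩
    have hfi : ∀ (n : ℕ) (x : X), (f^[n] x).1 = a^[n] x.1 := by
      intro n
      induction n with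
      | zero => intro x; rfl
      | succ n ih =>
        intro x
        rw [Function.iterate_succ_apply', Function.iterate_succ_apply']
        show a ((f^[n] x).1) = _
        rw [ih]
    obtain ⟨x, hx⟩ := exists_fixed_of_iter hp f (fun x => Subtype.ext (by rw [hfi, ha])) hXc
    have hx' : a x.1 = x.1 := congrArg Subtype.val hx
    obtain ⟨c, hc⟩ := hrange _ hx'
    refine ⟨ConjClasses.mk c, Subtype.ext ?_⟩
    show ConjClasses.mk (ι c) = ConjClasses.mk n₀
    rw [hc]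
    exact ConjClasses.mk_eq_mk_iff_isConj.2 x.2

end Perm

section Base

variable {Y : Type u} [Group Y] [Fintype Y] {N : Subgroup Y} [hN : N.Normal] [Fintype N] {s : Y} {p : ℕ}
  {C : Type u} [Group C] [Fintype C]

/-- The data of an operator of prime order. -/
structure GD (N : Subgroup Y) (s : Y) (p : ℕ) (ι : C →* N) : Prop where
  hp : p.Prime
  hs : orderOf s = p
  hcop : ¬ p ∣ Nat.card N
  hY : ∀ y : Y, ∃ n ∈ N, ∃ k : ℕ, y = n * s ^ k
  hinj : Function.Injective ι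
  hcomm : ∀ c, ((ι c : N) : Y) * s = s * ((ι c : N) : Y)
  hrange : ∀ n : N, (n : Y) * s = s * (n : Y) → ∃ c, ι c = n

variable {ι : C →* N}

theorem comm_zpowers (a b : Subgroup.zpowers s) : a * b = b * a := by
  obtain ⟨a, ha⟩ := a
  obtain ⟨b, hb⟩ := b
  obtain ⟨k, rfl⟩ := Subgroup.mem_zpowers_iff.1 ha
  obtain ⟨l, rfl⟩ := Subgroup.mem_zpowers_iff.1 hb
  exact Subtype.ext (zpow_mul_comm s k l)

theorem GD.card_Q (D : GD N s p ι) : Nat.card (Subgroup.zpowers s) = p := by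
  rw [Nat.card_zpowers, D.hs]

theorem GD.cop (D : GD N s p ι) : (Nat.card N).Coprime p :=
  ((Nat.Prime.coprime_iff_not_dvd D.hp).2 D.hcop).symm

theorem GD.inf_bot (D : GD N s p ι) : N ⊓ Subgroup.zpowers s = ⊥ := by
  apply Subgroup.inf_eq_bot_of_coprime
  rw [D.card_Q]
  exact D.cop

theorem GD.mem_inf (D : GD N s p ι) {a : Y} (h1 : a ∈ N) (h2 : a ∈ Subgroup.zpowers s) : a = 1 := by
  have : a ∈ N ⊓ Subgroup.zpowers s := ⟨h1, h2⟩
  rw [D.inf_bot] at this
  exact this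

theorem GD.bij (D : GD N s p ι) : Function.Bijective (fun x : N × Subgroup.zpowers s => (x.1 : Y) * (x.2 : Y)) := by
  constructor
  · rintro ⟨a, b⟩ ⟨a', b'⟩ h
    simp only at h
    have h1 : (a' : Y)⁻¹ * a = b' * (b : Y)⁻¹ := by
      rw [inv_mul_eq_iff_eq_mul, ← mul_assoc, ← h]
      group
    have h2 : (a' : Y)⁻¹ * a = 1 := D.mem_inf (N.mul_mem (N.inv_mem a'.2) a.2)
      (by rw [h1]; exact Subgroup.mul_mem _ b'.2 (Subgroup.inv_mem _ b.2))
    have h3 : (a : Y) = a' := by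
      rw [inv_mul_eq_one] at h2
      exact h2.symm
    have h4 : (b : Y) = b' := by
      rw [h3] at h
      exact mul_left_cancel h
    exact Prod.ext (Subtype.ext h3) (Subtype.ext h4)
  · intro y
    obtain ⟨n, hn, k, rfl⟩ := D.hY y
    exact ⟨(⟨n, hn⟩, ⟨s ^ k, Subgroup.npow_mem_zpowers s k⟩), rfl⟩

theorem GD.sum_Y (D : GD N s p ι) (F : Y → ℂ) :
    ∑ y, F y = ∑ q : Subgroup.zpowers s, ∑ n : N, F ((n : Y) * (q : Y)) := by
  rw [← Fintype.sum_bijective _ D.bij (fun x : N × Subgroup.zpowers s => F ((x.1 : Y) * (x.2 : Y))) F (fun x => rfl)]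
  rw [Fintype.sum_prod_type_right (fun x : N × Subgroup.zpowers s => F ((x.1 : Y) * (x.2 : Y)))]

theorem GD.card_Y (D : GD N s p ι) : Nat.card Y = p * Nat.card N := by
  have h := Nat.card_congr (Equiv.ofBijective _ D.bij)
  rw [Nat.card_prod, D.card_Q] at h
  rw [← h, mul_comm]

theorem GD.card_quot (D : GD N s p ι) : Nat.card (Y ⧸ N) = p := by
  have h := Subgroup.card_eq_card_quotient_mul_card_subgroup N
  rw [D.card_Y] at h
  have h0 : 0 < Nat.card N := Nat.card_pos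
  exact (Nat.eq_of_mul_eq_mul_right h0 h).symm

theorem GD.mem_of_regular (D : GD N s p ι) {v : Y} (hv : ¬ p ∣ orderOf v) : v ∈ N := by
  have h1 : (QuotientGroup.mk v : Y ⧸ N) ^ p = 1 := by
    rw [← D.card_quot]
    exact pow_card_eq_one'
  have h2 : (QuotientGroup.mk v : Y ⧸ N) ^ orderOf v = 1 := by
    rw [← QuotientGroup.mk_pow, pow_orderOf_eq_one]
    rfl
  have h3 := Nat.dvd_gcd (orderOf_dvd_of_pow_eq_one h1) (orderOf_dvd_of_pow_eq_one h2)
  rw [(Nat.Prime.coprime_iff_not_dvd D.hp).2 hv] at h3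
  have h4 := orderOf_eq_one_iff.1 (Nat.dvd_one.1 h3)
  exact (QuotientGroup.eq_one_iff v).1 h4

theorem GD.comm_iff (D : GD N s p ι) {q : Subgroup.zpowers s} (hq : q ≠ 1) {a : Y} (h : a * q = q * a) : a * s = s * a := by
  have hq' : (q : Y) ≠ 1 := fun h => hq (Subtype.ext h)
  have hpq : (q : Y) ^ p = 1 := by
    obtain ⟨k, hk⟩ := Subgroup.mem_zpowers_iff.1 q.2
    rw [← hk, ← zpow_natCast, ← zpow_mul, mul_comm, zpow_mul, zpow_natCast, ← D.hs, pow_orderOf_eq_one, one_zpow]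
  haveI : Fact p.Prime := ⟨D.hp⟩
  have ho : orderOf (q : Y) = p := orderOf_eq_prime hpq hq'
  have hle : Subgroup.zpowers (q : Y) ≤ Subgroup.zpowers s := by
    rw [Subgroup.zpowers_le]
    exact q.2
  have heq : Subgroup.zpowers (q : Y) = Subgroup.zpowers s :=
    Subgroup.eq_of_le_of_card_ge hle (by rw [Nat.card_zpowers, Nat.card_zpowers, ho, D.hs])
  have hs' : s ∈ Subgroup.zpowers (q : Y) := by
    rw [heq]
    exact Subgroup.mem_zpowers s
  obtain ⟨k, hk⟩ := Subgroup.mem_zpowers_iff.1 hs'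
  have : Commute a ((q : Y) ^ k) := (show Commute a (q : Y) from h).zpow_right k
  rw [hk] at this
  exact this

theorem GD.comm_q (D : GD N s p ι) (c : C) (q : Subgroup.zpowers s) : ((ι c : N) : Y) * q = q * ((ι c : N) : Y) := by
  obtain ⟨k, hk⟩ := Subgroup.mem_zpowers_iff.1 q.2
  have : Commute ((ι c : N) : Y) s := D.hcomm c
  rw [← hk]
  exact (this.zpow_right k).eq

theorem GD.regular_N (D : GD N s p ι) (n : N) : ¬ p ∣ orderOf (n : Y) := by
  intro h
  apply D.hcop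
  rw [Subgroup.orderOf_coe] at h
  exact h.trans (orderOf_dvd_natCard n)

theorem GD.exists_rep (D : GD N s p ι) {q : Subgroup.zpowers s} (hq : q ≠ 1) (n : N) :
    ∃ (g : N) (c : C), (g : Y) * (((ι c : N) : Y) * q) * (g : Y)⁻¹ = n * q := by
  classical
  have hq' : (q : Y) ≠ 1 := fun h => hq (Subtype.ext h)
  obtain ⟨x, v, hxv, hcomm, ⟨k, hk⟩, hv⟩ := exists_pPart (G := Y) D.hp ((n : Y) * q)
  have hvN : v ∈ N := D.mem_of_regular hv
  have hxnot : x ≠ 1 := by
    rintro rfl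
    rw [one_mul] at hxv
    have : (q : Y) ∈ N := by
      have h2 : (q : Y) = (n : Y)⁻¹ * v := by
        rw [hxv]
        group
      rw [h2]
      exact N.mul_mem (N.inv_mem n.2) hvN
    exact hq' (D.mem_inf this q.2)
  have hox : orderOf x = p := by
    have h1 : p ^ k ∣ p * Nat.card N := by
      rw [← hk, ← D.card_Y]
      exact orderOf_dvd_natCard x
    have h2 : (p ^ k).Coprime (Nat.card N) := Nat.Coprime.pow_left k D.cop.symm
    have h3 : p ^ k ∣ p := h2.dvd_of_dvd_mul_right h1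
    have h4 : k ≤ 1 := by
      have := (Nat.pow_dvd_pow_iff_le_right D.hp.one_lt).1 (by simpa using h3 : p ^ k ∣ p ^ 1)
      exact this
    interval_cases k
    · rw [pow_zero] at hk
      exact absurd (orderOf_eq_one_iff.1 hk) hxnot
    · rw [hk, pow_one]
  have htop : N ⊔ Subgroup.zpowers s = ⊤ := by
    rw [eq_top_iff]
    intro y _
    obtain ⟨a, ha, l, rfl⟩ := D.hY y
    exact Subgroup.mul_mem _ (Subgroup.mem_sup_left ha) (Subgroup.mem_sup_right (Subgroup.npow_mem_zpowers s l))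
  have hnorm : Subgroup.zpowers s ≤ Subgroup.normalizer (N : Set Y) := by
    rw [Subgroup.normalizer_eq_top]
    exact le_top
  haveI : IsMulCommutative (Subgroup.zpowers s) := ⟨⟨fun a b => comm_zpowers a b⟩⟩
  obtain ⟨g, hg, hmap⟩ := Cfsg.Agent.Lib.SchurZ.sz_conj_ambient N (Subgroup.zpowers s) (Subgroup.zpowers x) hnorm (by rw [htop]; exact le_top)
    (by rw [Nat.card_zpowers, Nat.card_zpowers, hox, D.hs]) (by rw [D.card_Q]; exact D.cop) (Or.inr inferInstance)
  have hxmem : x ∈ (Subgroup.zpowers s).map (MulAut.conj g).toMonoidHom := by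
    rw [hmap]
    exact Subgroup.mem_zpowers x
  obtain ⟨z, hz, hzx⟩ := hxmem
  have hzx' : g * z * g⁻¹ = x := hzx
  -- `z = q`
  have hzq : z = q := by
    have h1 : z * (q : Y)⁻¹ ∈ N := by
      have h2 : z * (q : Y)⁻¹ = g⁻¹ * ((n : Y) * ((q : Y) * (v⁻¹ * g * (q : Y)⁻¹) * (q : Y)⁻¹⁻¹ * ((q : Y)⁻¹))) := by
        have h3 : z = g⁻¹ * x * g := by
          rw [← hzx']
          group
        have h4 : x = (n : Y) * q * v⁻¹ := by
          rw [← hxv]
          group
        rw [h3, h4]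
        group
      have h5 : (q : Y) * (v⁻¹ * g * (q : Y)⁻¹) * (q : Y)⁻¹⁻¹ * ((q : Y)⁻¹) = (q : Y) * (v⁻¹ * g) * (q : Y)⁻¹ * 1 := by
        group
      rw [h2, h5, mul_one]
      exact N.mul_mem (N.inv_mem hg) (N.mul_mem n.2 (hN.conj_mem _ (N.mul_mem (N.inv_mem hvN) hg) _))
    have h6 := D.mem_inf h1 (Subgroup.mul_mem _ hz (Subgroup.inv_mem _ q.2))
    exact mul_inv_eq_one.1 h6
  have hzx2 : g * (q : Y) * g⁻¹ = x := by rw [← hzq]; exact hzx'
  -- the centralizing part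
  let c' : N := ⟨g⁻¹ * v * g, by simpa using hN.conj_mem _ hvN g⁻¹⟩
  have hc' : (c' : Y) * (q : Y) = (q : Y) * (c' : Y) := by
    show g⁻¹ * v * g * (q : Y) = (q : Y) * (g⁻¹ * v * g)
    have h1 : x * v = v * x := hcomm
    rw [← hzx2] at h1
    have h2 : g⁻¹ * (g * (q : Y) * g⁻¹ * v) * g = g⁻¹ * (v * (g * (q : Y) * g⁻¹)) * g := by rw [h1]
    calc g⁻¹ * v * g * (q : Y) = g⁻¹ * (v * (g * (q : Y) * g⁻¹)) * g := by group
      _ = g⁻¹ * (g * (q : Y) * g⁻¹ * v) * g := h2.symm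
      _ = (q : Y) * (g⁻¹ * v * g) := by group
  obtain ⟨c, hc⟩ := D.hrange c' (D.comm_iff hq hc')
  refine ⟨⟨g, hg⟩, c, ?_⟩
  rw [hc]
  show g * ((g⁻¹ * v * g) * (q : Y)) * g⁻¹ = _
  rw [← hxv, ← hzx2]
  have : g⁻¹ * v * g * (q : Y) = (q : Y) * (g⁻¹ * v * g) := hc'
  rw [this]
  group

theorem GD.rep_unique (D : GD N s p ι) {q : Subgroup.zpowers s} (hq : q ≠ 1) {g g' : N} {c c' : C}
    (h : (g : Y) * (((ι c : N) : Y) * q) * (g : Y)⁻¹ = (g' : Y) * (((ι c' : N) : Y) * q) * (g' : Y)⁻¹) :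
    ∃ x : C, g' = g * ι x ∧ c' = x⁻¹ * c * x := by
  classical
  have hqp : ∃ k : ℕ, orderOf (q : Y) = p ^ k := by
    have hq' : (q : Y) ≠ 1 := fun h => hq (Subtype.ext h)
    have hpq : (q : Y) ^ p = 1 := by
      obtain ⟨k, hk⟩ := Subgroup.mem_zpowers_iff.1 q.2
      rw [← hk, ← zpow_natCast, ← zpow_mul, mul_comm, zpow_mul, zpow_natCast, ← D.hs, pow_orderOf_eq_one, one_zpow]
    haveI : Fact p.Prime := ⟨D.hp⟩
    exact ⟨1, by rw [pow_one]; exact orderOf_eq_prime hpq hq'⟩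
  have hp1 : ∀ a : C, IsPPart p (((ι a : N) : Y) * q) q := by
    intro a
    have h1 := isPPart_mul (p := p) hqp (show Commute (q : Y) ((ι a : N) : Y) from (D.comm_q a q).symm) (D.regular_N (ι a))
    rw [← D.comm_q a q] at h1
    exact h1
  have h1 := IsPPart.conj (hp1 c) g
  have h2 := IsPPart.conj (hp1 c') g'
  rw [← h] at h2
  have h3 := pPart_unique D.hp h1 h2
  have h4 : ((g⁻¹ * g' : N) : Y) * q = q * ((g⁻¹ * g' : N) : Y) := by
    show (g : Y)⁻¹ * g' * q = q * ((g : Y)⁻¹ * g')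
    have : (q : Y) = (g : Y)⁻¹ * ((g' : Y) * q * (g' : Y)⁻¹) * g := by
      rw [← h3]
      group
    calc (g : Y)⁻¹ * g' * q = (g : Y)⁻¹ * ((g' : Y) * q * (g' : Y)⁻¹) * g * ((g : Y)⁻¹ * g') := by group
      _ = q * ((g : Y)⁻¹ * g') := by rw [← this]
  obtain ⟨x, hx⟩ := D.hrange _ (D.comm_iff hq h4)
  have hg' : g' = g * ι x := by
    rw [hx]
    group
  refine ⟨x, hg', ?_⟩
  subst hg'
  have h5 : ((ι c : N) : Y) * q = ((ι x : N) : Y) * (((ι c' : N) : Y) * q) * ((ι x : N) : Y)⁻¹ := by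
    have h6 : (g : Y) * (((ι c : N) : Y) * q) * (g : Y)⁻¹ = (g : Y) * (((ι x : N) : Y) * (((ι c' : N) : Y) * q) * ((ι x : N) : Y)⁻¹) * (g : Y)⁻¹ := by
      rw [h]
      push_cast
      group
    exact mul_left_cancel (mul_right_cancel h6)
  have h7 : ((ι c : N) : Y) * q = ((ι (x * c' * x⁻¹) : N) : Y) * q := by
    rw [h5]
    simp only [map_mul, map_inv, Subgroup.coe_mul, Subgroup.coe_inv]
    have h8 := D.comm_q x⁻¹ q
    simp only [map_inv, Subgroup.coe_inv] at h8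
    calc ((ι x : N) : Y) * (((ι c' : N) : Y) * q) * ((ι x : N) : Y)⁻¹ = ((ι x : N) : Y) * ((ι c' : N) : Y) * (q * ((ι x : N) : Y)⁻¹) := by group
      _ = ((ι x : N) : Y) * ((ι c' : N) : Y) * (((ι x : N) : Y)⁻¹ * q) := by rw [h8]
      _ = _ := by group
  have h9 : ι c = ι (x * c' * x⁻¹) := Subtype.ext (mul_right_cancel h7)
  have h10 := D.hinj h9
  rw [h10]
  group

theorem GD.sum_rep (D : GD N s p ι) {q : Subgroup.zpowers s} (hq : q ≠ 1) (G : Y → ℂ) :
    ∑ x : N × C, G ((x.1 : Y) * (((ι x.2 : N) : Y) * q) * (x.1 : Y)⁻¹) = (Nat.card C : ℂ) * ∑ n : N, G ((n : Y) * q) := by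
  classical
  have hmem : ∀ x : N × C, (x.1 : Y) * (((ι x.2 : N) : Y) * q) * (x.1 : Y)⁻¹ * (q : Y)⁻¹ ∈ N := by
    intro x
    have h1 : (x.1 : Y) * (((ι x.2 : N) : Y) * q) * (x.1 : Y)⁻¹ * (q : Y)⁻¹ =
        (x.1 : Y) * ((ι x.2 : N) : Y) * ((q : Y) * (x.1 : Y)⁻¹ * (q : Y)⁻¹) := by group
    rw [h1]
    exact N.mul_mem (N.mul_mem x.1.2 (ι x.2).2) (hN.conj_mem _ (N.inv_mem x.1.2) _)
  let idx : N × C → N := fun x => ⟨_, hmem x⟩
  have hidx : ∀ x, ((idx x : N) : Y) * q = (x.1 : Y) * (((ι x.2 : N) : Y) * q) * (x.1 : Y)⁻¹ := by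
    intro x
    show (x.1 : Y) * (((ι x.2 : N) : Y) * q) * (x.1 : Y)⁻¹ * (q : Y)⁻¹ * q = _
    group
  have key : ∀ n : N, ∑ x ∈ Finset.univ.filter (fun x => idx x = n), G ((x.1 : Y) * (((ι x.2 : N) : Y) * q) * (x.1 : Y)⁻¹) =
      (Nat.card C : ℂ) * G ((n : Y) * q) := by
    intro n
    obtain ⟨g₀, c₀, h₀⟩ := D.exists_rep hq n
    let f : C → N × C := fun h => (g₀ * ι h, h⁻¹ * c₀ * h)
    have hval : ∀ h : C, (((f h).1 : N) : Y) * (((ι (f h).2 : N) : Y) * q) * (((f h).1 : N) : Y)⁻¹ = (n : Y) * q := by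
      intro h
      rw [← h₀]
      simp only [f, map_mul, map_inv, Subgroup.coe_mul, Subgroup.coe_inv]
      have h8 := D.comm_q h q
      calc (g₀ : Y) * ((ι h : N) : Y) * (((ι h : N) : Y)⁻¹ * ((ι c₀ : N) : Y) * ((ι h : N) : Y) * q) * ((g₀ : Y) * ((ι h : N) : Y))⁻¹
          = (g₀ : Y) * (((ι c₀ : N) : Y) * (((ι h : N) : Y) * q)) * ((ι h : N) : Y)⁻¹ * (g₀ : Y)⁻¹ := by group
        _ = (g₀ : Y) * (((ι c₀ : N) : Y) * ((q : Y) * ((ι h : N) : Y))) * ((ι h : N) : Y)⁻¹ * (g₀ : Y)⁻¹ := by rw [h8]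
        _ = _ := by group
    have hfib : Finset.univ.filter (fun x => idx x = n) = Finset.univ.image f := by
      ext ⟨g, c⟩
      simp only [Finset.mem_filter, Finset.mem_univ, true_and, Finset.mem_image]
      constructor
      · intro h
        have h2 : (g₀ : Y) * (((ι c₀ : N) : Y) * q) * (g₀ : Y)⁻¹ = (g : Y) * (((ι c : N) : Y) * q) * (g : Y)⁻¹ := by
          rw [h₀, ← h, hidx]
        obtain ⟨x, h3, h4⟩ := D.rep_unique hq h2
        exact ⟨x, by simp only [f]; rw [h3, h4]⟩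
      · rintro ⟨h, hh⟩
        apply Subtype.ext
        have h5 := hval h
        rw [hh] at h5
        show (g : Y) * (((ι c : N) : Y) * q) * (g : Y)⁻¹ * (q : Y)⁻¹ = n
        rw [mul_inv_eq_iff_eq_mul]
        exact h5
    have hinj : Function.Injective f := by
      intro a b hab
      have h1 := congrArg Prod.fst hab
      simp only [f] at h1
      exact D.hinj (mul_left_cancel h1)
    rw [hfib, Finset.sum_image (fun a _ b _ h => hinj h)]
    simp only [hval, Finset.sum_const, Finset.card_univ, nsmul_eq_mul, Nat.card_eq_fintype_card]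
  rw [← Finset.sum_fiberwise Finset.univ idx, Finset.mul_sum]
  exact Finset.sum_congr rfl fun n _ => key n

theorem GD.sum_coset (D : GD N s p ι) {q : Subgroup.zpowers s} (hq : q ≠ 1) {F : Y → ℂ}
    (hF : ∀ (g : N) (y : Y), F ((g : Y) * y * (g : Y)⁻¹) = F y) :
    (Nat.card C : ℂ) * ∑ n : N, F ((n : Y) * q) = (Nat.card N : ℂ) * ∑ c : C, F (((ι c : N) : Y) * q) := by
  rw [← D.sum_rep hq, Fintype.sum_prod_type]
  simp only [hF, Finset.sum_const, Finset.card_univ, nsmul_eq_mul, Nat.card_eq_fintype_card]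

/-- The hom from the product. -/
def GD.kap (D : GD N s p ι) : C × Subgroup.zpowers s →* Y where
  toFun x := ((ι x.1 : N) : Y) * x.2
  map_one' := by simp
  map_mul' := by
    rintro ⟨a, b⟩ ⟨c, d⟩
    simp only [Prod.mk_mul_mk, map_mul, Subgroup.coe_mul]
    have h := D.comm_q c b
    calc ((ι a : N) : Y) * ((ι c : N) : Y) * ((b : Y) * d) = ((ι a : N) : Y) * (((ι c : N) : Y) * b) * d := by group
      _ = ((ι a : N) : Y) * ((b : Y) * ((ι c : N) : Y)) * d := by rw [h]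
      _ = _ := by group

theorem GD.kap_apply (D : GD N s p ι) (c : C) (q : Subgroup.zpowers s) : D.kap (c, q) = ((ι c : N) : Y) * q := rfl

/-- The key identity. -/
theorem GD.key (D : GD N s p ι) {ψ ψ' : Y → ℂ} (hψ : IsClassFunction Y ψ) (hψ' : IsClassFunction Y ψ') :
    (p : ℂ) * ∑ β : IrrCharacter C, ∑ μ : IrrCharacter (Subgroup.zpowers s),
        mult (ψ ∘ D.kap) (β : C → ℂ) μ * conj (mult (ψ' ∘ D.kap) (β : C → ℂ) μ) -
      ∑ β : IrrCharacter C, (∑ μ : IrrCharacter (Subgroup.zpowers s), mult (ψ ∘ D.kap) (β : C → ℂ) μ) *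
        conj (∑ μ : IrrCharacter (Subgroup.zpowers s), mult (ψ' ∘ D.kap) (β : C → ℂ) μ) =
      (p : ℂ) * classInner ψ ψ' - classInner (fun n : N => ψ n) (fun n : N => ψ' n) := by
  classical
  have hN0 : (Nat.card N : ℂ) ≠ 0 := by exact_mod_cast Nat.card_pos.ne'
  have hC0 : (Nat.card C : ℂ) ≠ 0 := by exact_mod_cast Nat.card_pos.ne'
  have hY0 : (Nat.card Y : ℂ) ≠ 0 := by exact_mod_cast Nat.card_pos.ne'
  have hΨ : IsClassFunction (C × Subgroup.zpowers s) (ψ ∘ D.kap) := by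
    intro x g
    simp only [Function.comp, map_mul, map_inv]
    exact hψ _ _
  have h1 := sum_mult (comm_zpowers (s := s)) (Ψ := ψ ∘ D.kap) (Ψ' := ψ' ∘ D.kap) hΨ
  rw [D.card_Q] at h1
  rw [h1]
  have h2 : ∑ β : IrrCharacter C, (∑ μ : IrrCharacter (Subgroup.zpowers s), mult (ψ ∘ D.kap) (β : C → ℂ) μ) *
        conj (∑ μ : IrrCharacter (Subgroup.zpowers s), mult (ψ' ∘ D.kap) (β : C → ℂ) μ) =
      classInner (fun c => (ψ ∘ D.kap) (c, (1 : Subgroup.zpowers s))) (fun c => (ψ' ∘ D.kap) (c, (1 : Subgroup.zpowers s))) := by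
    rw [inner_parseval (secF_isClass hΨ 1)]
    refine Finset.sum_congr rfl fun β _ => ?_
    rw [← secA_one (comm_zpowers (s := s)), ← secA_one (comm_zpowers (s := s))]
    rfl
  rw [h2, ← Finset.sum_erase_eq_sub (Finset.mem_univ (1 : Subgroup.zpowers s))]
  -- the right side
  let G : Y → ℂ := fun y => ψ y * conj (ψ' y)
  have hG : ∀ (g : N) (y : Y), G ((g : Y) * y * (g : Y)⁻¹) = G y := by
    intro g y
    simp only [G]
    rw [hψ, hψ']
  have hr1 : (p : ℂ) * classInner ψ ψ' = (Nat.card N : ℂ)⁻¹ * ∑ q : Subgroup.zpowers s, ∑ n : N, G ((n : Y) * q) := by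
    rw [← D.sum_Y G, classInner, D.card_Y]
    push_cast
    have hp0 : (p : ℂ) ≠ 0 := by exact_mod_cast D.hp.ne_zero
    field_simp
    rfl
  have hr2 : classInner (fun n : N => ψ n) (fun n : N => ψ' n) = (Nat.card N : ℂ)⁻¹ * ∑ n : N, G ((n : Y) * ((1 : Subgroup.zpowers s) : Y)) := by
    rw [classInner]
    simp [G]
  rw [hr1, hr2, ← mul_sub, ← Finset.sum_erase_eq_sub (Finset.mem_univ (1 : Subgroup.zpowers s)), Finset.mul_sum]
  refine Finset.sum_congr rfl fun q hq => ?_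
  have hq1 : q ≠ 1 := Finset.ne_of_mem_erase hq
  have h3 := D.sum_coset hq1 hG
  rw [classInner]
  have h4 : ∑ c : C, (ψ ∘ D.kap) (c, q) * conj ((ψ' ∘ D.kap) (c, q)) = ∑ c : C, G (((ι c : N) : Y) * q) := rfl
  rw [h4]
  field_simp
  linear_combination -h3

theorem GD.card_irrQ (D : GD N s p ι) : Fintype.card (IrrCharacter (Subgroup.zpowers s)) = p := by
  rw [← Nat.card_eq_fintype_card, card_irr, (Cfsg.Agent.Lib.CharAb.card_classes_eq_card_iff).2 comm_zpowers, D.card_Q]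

/-- Invariance of the character under the operator. -/
def SInv (N : Subgroup Y) [hN : N.Normal] (s : Y) (χ : N → ℂ) : Prop :=
  ∀ n : N, χ ⟨s * n * s⁻¹, hN.conj_mem n n.2 s⟩ = χ n

theorem GD.invY (D : GD N s p ι) {χ : IrrCharacter N} (hinv : SInv N s (χ : N → ℂ)) (y : Y) (n : N) :
    (χ : N → ℂ) ⟨y * n * y⁻¹, hN.conj_mem n n.2 y⟩ = (χ : N → ℂ) n := by
  obtain ⟨a, ha, k, rfl⟩ := D.hY y
  have hc := IsCharacter.isClassFunction' (IsIrrCharacter.isCharacter' χ.2)
  have hk : ∀ (k : ℕ) (n : N), (χ : N → ℂ) ⟨s ^ k * n * (s ^ k)⁻¹, hN.conj_mem n n.2 (s ^ k)⟩ = (χ : N → ℂ) n := by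
    intro k
    induction k with
    | zero =>
      intro n
      refine congrArg (χ : N → ℂ) (Subtype.ext ?_)
      simp
    | succ k ih =>
      intro n
      have h1 := hinv ⟨s ^ k * n * (s ^ k)⁻¹, hN.conj_mem n n.2 (s ^ k)⟩
      rw [ih] at h1
      rw [← h1]
      refine congrArg (χ : N → ℂ) (Subtype.ext ?_)
      show s ^ (k + 1) * n * (s ^ (k + 1))⁻¹ = s * (s ^ k * n * (s ^ k)⁻¹) * s⁻¹
      rw [pow_succ']
      group
  have h2 := hc ⟨s ^ k * n * (s ^ k)⁻¹, hN.conj_mem n n.2 (s ^ k)⟩ ⟨a, ha⟩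
  rw [hk] at h2
  rw [← h2]
  refine congrArg (χ : N → ℂ) (Subtype.ext ?_)
  show a * s ^ k * n * (a * s ^ k)⁻¹ = a * (s ^ k * n * (s ^ k)⁻¹) * a⁻¹
  group

theorem GD.restrict_eq (D : GD N s p ι) {χ : IrrCharacter N} (hinv : SInv N s (χ : N → ℂ)) (ψ : IrrCharacter Y)
    (h : classInner (fun n : N => (ψ : Y → ℂ) n) (χ : N → ℂ) ≠ 0) :
    (fun n : N => (ψ : Y → ℂ) n) = classInner (fun n : N => (ψ : Y → ℂ) n) (χ : N → ℂ) • (χ : N → ℂ) := by
  classical
  have h1 := Cfsg.Agent.Lib.CharNormal.clifford N hN ψ.2 χ.2 h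
  have h2 : {φ : N → ℂ | ∃ g : Y, φ = fun n : N => (χ : N → ℂ) ⟨g * n * g⁻¹, hN.conj_mem n n.2 g⟩} = {(χ : N → ℂ)} := by
    ext φ
    simp only [Set.mem_setOf_eq, Set.mem_singleton_iff]
    constructor
    · rintro ⟨g, rfl⟩
      funext n
      exact D.invY hinv g n
    · rintro rfl
      exact ⟨1, by funext n; exact (D.invY hinv 1 n).symm⟩
  rw [h2, finsum_mem_singleton] at h1
  exact h1

/-- The integral form of the key identity. -/
theorem GD.key_int (D : GD N s p ι) (ψ ψ' : IrrCharacter Y) :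
    ∃ u u' : IrrCharacter C → IrrCharacter (Subgroup.zpowers s) → ℕ,
      (ψ = ψ' → u = u') ∧
      (∀ β : IrrCharacter C, classInner (fun c : C => (ψ : Y → ℂ) ((ι c : N) : Y)) (β : C → ℂ) = ((∑ μ, u β μ : ℕ) : ℂ)) ∧
      (∀ β : IrrCharacter C, classInner (fun c : C => (ψ' : Y → ℂ) ((ι c : N) : Y)) (β : C → ℂ) = ((∑ μ, u' β μ : ℕ) : ℂ)) ∧
      (p : ℂ) * (((∑ β, ∑ μ, u β μ * u' β μ : ℕ) : ℂ)) - ((∑ β, (∑ μ, u β μ) * (∑ μ, u' β μ) : ℕ) : ℂ) =
        (p : ℂ) * classInner (ψ : Y → ℂ) (ψ' : Y → ℂ) - classInner (fun n : N => (ψ : Y → ℂ) n) (fun n : N => (ψ' : Y → ℂ) n) := by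
  classical
  have hψc := IsIrrCharacter.isCharacter' ψ.2
  have hψc' := IsIrrCharacter.isCharacter' ψ'.2
  have hcl := IsCharacter.isClassFunction' hψc
  have hcl' := IsCharacter.isClassFunction' hψc'
  have hΨc : IsCharacter (C × Subgroup.zpowers s) ((ψ : Y → ℂ) ∘ D.kap) := isCharacter_comp D.kap hψc
  have hΨc' : IsCharacter (C × Subgroup.zpowers s) ((ψ' : Y → ℂ) ∘ D.kap) := isCharacter_comp D.kap hψc'
  have hm : ∀ (β : IrrCharacter C) (μ : IrrCharacter (Subgroup.zpowers s)), ∃ n : ℕ, mult ((ψ : Y → ℂ) ∘ D.kap) (β : C → ℂ) μ = n :=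
    fun β μ => mult_nat hΨc (IsIrrCharacter.isCharacter' β.2) (IsIrrCharacter.isCharacter' μ.2)
  have hm' : ∀ (β : IrrCharacter C) (μ : IrrCharacter (Subgroup.zpowers s)), ∃ n : ℕ, mult ((ψ' : Y → ℂ) ∘ D.kap) (β : C → ℂ) μ = n :=
    fun β μ => mult_nat hΨc' (IsIrrCharacter.isCharacter' β.2) (IsIrrCharacter.isCharacter' μ.2)
  choose u hu using hm
  choose u' hu' using hm'
  refine ⟨u, u', ?_, ?_, ?_, ?_⟩
  · rintro rfl
    funext β μ
    have := (hu β μ).symm.trans (hu' β μ)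
    exact_mod_cast this
  · intro β
    have h1 := secA_one (comm_zpowers (s := s)) ((ψ : Y → ℂ) ∘ D.kap) (β : C → ℂ)
    simp only [hu] at h1
    have h2 : secA ((ψ : Y → ℂ) ∘ D.kap) (β : C → ℂ) 1 = classInner (fun c : C => (ψ : Y → ℂ) ((ι c : N) : Y)) (β : C → ℂ) := by
      rw [secA]
      congr 1
      funext c
      simp [GD.kap_apply]
    rw [← h2, h1]
    push_cast
    rfl
  · intro β
    have h1 := secA_one (comm_zpowers (s := s)) ((ψ' : Y → ℂ) ∘ D.kap) (β : C → ℂ)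
    simp only [hu'] at h1
    have h2 : secA ((ψ' : Y → ℂ) ∘ D.kap) (β : C → ℂ) 1 = classInner (fun c : C => (ψ' : Y → ℂ) ((ι c : N) : Y)) (β : C → ℂ) := by
      rw [secA]
      congr 1
      funext c
      simp [GD.kap_apply]
    rw [← h2, h1]
    push_cast
    rfl
  · have hkey := D.key (ψ := (ψ : Y → ℂ)) (ψ' := (ψ' : Y → ℂ)) hcl hcl'
    rw [← hkey]
    simp only [hu, hu', Complex.conj_natCast, ← Nat.cast_sum, map_natCast]
    push_cast
    rfl

/-- The multiplicity vector and the correspondence. -/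
theorem GD.main (D : GD N s p ι) (χ : IrrCharacter N) (hinv : SInv N s (χ : N → ℂ)) :
    ∃ ψ : IrrCharacter Y, (∀ n : N, (ψ : Y → ℂ) n = (χ : N → ℂ) n) ∧ ∃ β₀ : IrrCharacter C, ∀ (β : IrrCharacter C) (m : ℕ),
      classInner (fun c : C => (χ : N → ℂ) (ι c)) (β : C → ℂ) = (m : ℂ) →
      (β = β₀ → (p : ℤ) ∣ (m : ℤ) ^ 2 - 1) ∧ (β ≠ β₀ → p ∣ m) := by
  classical
  haveI : Fact p.Prime := ⟨D.hp⟩
  have hp2 : 2 ≤ p := D.hp.two_le
  obtain ⟨ψ, hψ⟩ := Cfsg.Agent.Lib.BlockPair.exists_irr_over N.subtype N.subtype_injective χ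
  have hψ' : classInner (fun n : N => (ψ : Y → ℂ) n) (χ : N → ℂ) ≠ 0 := hψ
  have hψc := IsIrrCharacter.isCharacter' ψ.2
  obtain ⟨e, he⟩ := exists_nat_classInner (isCharacter_restrict N hψc) (IsIrrCharacter.isCharacter' χ.2)
  have hres := D.restrict_eq hinv ψ hψ'
  rw [he] at hres
  have hres' : ∀ n : N, (ψ : Y → ℂ) n = (e : ℂ) * (χ : N → ℂ) n := fun n => by
    have := congrFun hres n
    simpa using this
  have he0 : e ≠ 0 := by
    rintro rfl
    exact hψ' (by simpa using he)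
  obtain ⟨u, u', huu, hu, -, hkey⟩ := D.key_int ψ ψ
  obtain rfl := huu rfl
  have hnorm : classInner (fun n : N => (ψ : Y → ℂ) n) (fun n : N => (ψ : Y → ℂ) n) = (e : ℂ) ^ 2 := by
    rw [hres, classInner_smul_left, classInner_smul_right, classInner_irr χ.2 χ.2, if_pos rfl]
    simp
    ring
  rw [hnorm, classInner_irr ψ.2 ψ.2, if_pos rfl, mul_one] at hkey
  -- integers
  let V : IrrCharacter C → IrrCharacter (Subgroup.zpowers s) → ℤ := fun β μ => (u β μ : ℤ)
  let Dq : IrrCharacter C → ℤ := fun β => (p : ℤ) * ∑ μ, V β μ ^ 2 - (∑ μ, V β μ) ^ 2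
  have hDsum : ∑ β, Dq β = (p : ℤ) - (e : ℤ) ^ 2 := by
    have h1 : ((∑ β, Dq β : ℤ) : ℂ) = (((p : ℤ) - (e : ℤ) ^ 2 : ℤ) : ℂ) := by
      push_cast
      rw [← hkey]
      simp only [Dq, V]
      push_cast
      rw [Finset.sum_sub_distrib, ← Finset.mul_sum]
      simp only [pow_two]
    exact_mod_cast h1
  have hdich : ∀ β, Dq β = 0 ∨ (p : ℤ) - 1 ≤ Dq β := fun β => dich D.card_irrQ hp2 (V β)
  have hp1 : (1 : ℤ) ≤ (p : ℤ) - 1 := by
    have : (2 : ℤ) ≤ p := by exact_mod_cast hp2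
    omega
  have hnn : ∀ β, 0 ≤ Dq β := fun β => by
    rcases hdich β with h | h
    · rw [h]
    · omega
  have hle : ∀ β, Dq β ≤ (p : ℤ) - (e : ℤ) ^ 2 := fun β => by
    rw [← hDsum]
    exact Finset.single_le_sum (f := Dq) (fun x _ => hnn x) (Finset.mem_univ β)
  by_cases hall : ∀ β, Dq β = 0
  · exfalso
    rw [Finset.sum_eq_zero (fun β _ => hall β)] at hDsum
    have h2 : p = e ^ 2 := by
      have : (p : ℤ) = (e : ℤ) ^ 2 := by omega
      exact_mod_cast this
    have h3 := D.hp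
    rw [h2, pow_two] at h3
    rcases (Nat.prime_mul_iff.1 h3) with ⟨h4, h5⟩ | ⟨h4, h5⟩
    · rw [h5] at h4
      exact Nat.not_prime_one h4
    · rw [h5] at h4
      exact Nat.not_prime_one h4
  push_neg at hall
  obtain ⟨β₀, hβ₀⟩ := hall
  have hβ₀1 := (hdich β₀).resolve_left hβ₀
  have he1 : e = 1 := by
    have h1 := hle β₀
    have h2 : (e : ℤ) ^ 2 ≤ 1 := by omega
    have h3 : 1 ≤ e := Nat.pos_of_ne_zero he0
    have h4 : e ^ 2 ≤ 1 := by exact_mod_cast h2
    nlinarith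
  subst he1
  have hsum1 : ∑ β, Dq β = Dq β₀ + ∑ β ∈ Finset.univ.erase β₀, Dq β := (Finset.add_sum_erase _ _ (Finset.mem_univ β₀)).symm
  have hrest : ∀ β, β ≠ β₀ → Dq β = 0 := by
    intro β hβ
    by_contra h0
    have h1 := (hdich β).resolve_left h0
    have h2 : Dq β ≤ ∑ x ∈ Finset.univ.erase β₀, Dq x :=
      Finset.single_le_sum (f := Dq) (fun x _ => hnn x) (Finset.mem_erase.2 ⟨hβ, Finset.mem_univ β⟩)
    push_cast at hDsum
    omega
  have hDβ₀ : Dq β₀ = (p : ℤ) - 1 := by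
    rw [Finset.sum_eq_zero (fun x hx => hrest x (Finset.ne_of_mem_erase hx)), add_zero] at hsum1
    rw [← hsum1, hDsum]
    push_cast
    ring
  refine ⟨ψ, ?_, β₀, ?_⟩
  · intro n
    rw [hres']
    simp
  · intro β m hm
    have h1 : (fun c : C => (χ : N → ℂ) (ι c)) = (fun c : C => (ψ : Y → ℂ) ((ι c : N) : Y)) := by
      funext c
      rw [hres' (ι c)]
      simp
    rw [h1, hu β] at hm
    have hm' : ∑ μ, u β μ = m := by exact_mod_cast hm
    have hm2 : ∑ μ, V β μ = (m : ℤ) := by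
      rw [← hm']
      push_cast
      rfl
    constructor
    · rintro rfl
      have h2 : Dq β = (p : ℤ) * ∑ μ, V β μ ^ 2 - (m : ℤ) ^ 2 := by
        show (p : ℤ) * ∑ μ, V β μ ^ 2 - (∑ μ, V β μ) ^ 2 = _
        rw [hm2]
      rw [hDβ₀] at h2
      exact ⟨∑ μ, V β μ ^ 2 - 1, by linarith⟩
    · intro hne
      have h2 : Dq β = (p : ℤ) * ∑ μ, V β μ ^ 2 - (m : ℤ) ^ 2 := by
        show (p : ℤ) * ∑ μ, V β μ ^ 2 - (∑ μ, V β μ) ^ 2 = _
        rw [hm2]
      rw [hrest β hne] at h2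
      have h3 : (p : ℤ) ∣ (m : ℤ) ^ 2 := ⟨∑ μ, V β μ ^ 2, by linarith⟩
      have h4 : p ∣ m ^ 2 := by exact_mod_cast h3
      exact D.hp.dvd_of_dvd_pow h4

/-- Injectivity of the correspondence. -/
theorem GD.inj (D : GD N s p ι) {χ χ' : IrrCharacter N} {ψ ψ' : IrrCharacter Y}
    (hψ : ∀ n : N, (ψ : Y → ℂ) n = (χ : N → ℂ) n) (hψ' : ∀ n : N, (ψ' : Y → ℂ) n = (χ' : N → ℂ) n)
    {β₀ : IrrCharacter C}
    (h : ∀ (β : IrrCharacter C) (m : ℕ), classInner (fun c : C => (χ : N → ℂ) (ι c)) (β : C → ℂ) = (m : ℂ) →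
      (β = β₀ → (p : ℤ) ∣ (m : ℤ) ^ 2 - 1) ∧ (β ≠ β₀ → p ∣ m))
    (h' : ∀ (β : IrrCharacter C) (m : ℕ), classInner (fun c : C => (χ' : N → ℂ) (ι c)) (β : C → ℂ) = (m : ℂ) →
      (β = β₀ → (p : ℤ) ∣ (m : ℤ) ^ 2 - 1) ∧ (β ≠ β₀ → p ∣ m)) : χ = χ' := by
  classical
  by_contra hne
  have hne2 : (χ : N → ℂ) ≠ χ' := fun h => hne (Subtype.ext h)
  have hψne : (ψ : Y → ℂ) ≠ ψ' := by
    intro he
    apply hne2
    funext n
    rw [← hψ, ← hψ', he]
  obtain ⟨u, u', -, hu, hu', hkey⟩ := D.key_int ψ ψ'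
  have e1 : (fun n : N => (ψ : Y → ℂ) n) = (χ : N → ℂ) := funext hψ
  have e2 : (fun n : N => (ψ' : Y → ℂ) n) = (χ' : N → ℂ) := funext hψ'
  rw [classInner_irr ψ.2 ψ'.2, if_neg hψne, mul_zero, e1, e2, classInner_irr χ.2 χ'.2, if_neg hne2, sub_zero] at hkey
  have h1 : (p : ℂ) * ((∑ β, ∑ μ, u β μ * u' β μ : ℕ) : ℂ) = ((∑ β, (∑ μ, u β μ) * (∑ μ, u' β μ) : ℕ) : ℂ) := sub_eq_zero.1 hkey
  have h2 : p * (∑ β, ∑ μ, u β μ * u' β μ) = ∑ β, (∑ μ, u β μ) * (∑ μ, u' β μ) := by exact_mod_cast h1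
  have hm : ∀ β, ((β = β₀ → (p : ℤ) ∣ ((∑ μ, u β μ : ℕ) : ℤ) ^ 2 - 1) ∧ (β ≠ β₀ → p ∣ ∑ μ, u β μ)) := by
    intro β
    refine h β _ ?_
    rw [← hu β]
    congr 1
    funext c
    exact (hψ _).symm
  have hm' : ∀ β, ((β = β₀ → (p : ℤ) ∣ ((∑ μ, u' β μ : ℕ) : ℤ) ^ 2 - 1) ∧ (β ≠ β₀ → p ∣ ∑ μ, u' β μ)) := by
    intro β
    refine h' β _ ?_
    rw [← hu' β]
    congr 1
    funext c
    exact (hψ' _).symm
  have h3 : p ∣ ∑ β, (∑ μ, u β μ) * (∑ μ, u' β μ) := ⟨_, h2.symm⟩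
  rw [← Finset.add_sum_erase _ _ (Finset.mem_univ β₀)] at h3
  have h4 : p ∣ ∑ β ∈ Finset.univ.erase β₀, (∑ μ, u β μ) * (∑ μ, u' β μ) :=
    Finset.dvd_sum fun β hβ => Dvd.dvd.mul_right ((hm β).2 (Finset.ne_of_mem_erase hβ)) _
  have h5 := (Nat.dvd_add_left h4).1 h3
  have hnot : ∀ a : ℕ, (p : ℤ) ∣ (a : ℤ) ^ 2 - 1 → ¬ p ∣ a := by
    intro a h6 h7
    have h8 : (p : ℤ) ∣ (a : ℤ) ^ 2 := Dvd.dvd.pow (by exact_mod_cast h7) two_ne_zero
    have h9 : (p : ℤ) ∣ 1 := by
      have := dvd_sub h8 h6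
      simpa using this
    have h10 : p ∣ 1 := by exact_mod_cast h9
    exact D.hp.one_lt.ne' (Nat.dvd_one.1 h10)
  rcases (D.hp.dvd_mul).1 h5 with h6 | h6
  · exact hnot _ ((hm β₀).1 rfl) h6
  · exact hnot _ ((hm' β₀).1 rfl) h6

/-- The correspondence relation. -/
def Corr (p : ℕ) {C : Type u} [Group C] [Fintype C] (f : C → ℂ) (β₀ : IrrCharacter C) : Prop :=
  ∀ (β : IrrCharacter C) (m : ℕ), classInner f (β : C → ℂ) = (m : ℂ) →
    (β = β₀ → (p : ℤ) ∣ (m : ℤ) ^ 2 - 1) ∧ (β ≠ β₀ → p ∣ m)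

theorem not_dvd_of_sq {p a : ℕ} (hp : p.Prime) (h6 : (p : ℤ) ∣ (a : ℤ) ^ 2 - 1) : ¬ p ∣ a := by
  intro h7
  have h8 : (p : ℤ) ∣ (a : ℤ) ^ 2 := Dvd.dvd.pow (by exact_mod_cast h7) two_ne_zero
  have h9 : (p : ℤ) ∣ 1 := by
    have := dvd_sub h8 h6
    simpa using this
  have h10 : p ∣ 1 := by exact_mod_cast h9
  exact hp.one_lt.ne' (Nat.dvd_one.1 h10)

theorem Corr.unique {p : ℕ} (hp : p.Prime) {C : Type u} [Group C] [Fintype C] {f : C → ℂ} (hf : IsCharacter C f)
    {β β' : IrrCharacter C} (h : Corr p f β) (h' : Corr p f β') : β = β' := by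
  by_contra hne
  obtain ⟨m, hm⟩ := exists_nat_classInner hf (IsIrrCharacter.isCharacter' β.2)
  exact not_dvd_of_sq hp ((h β m hm).1 rfl) ((h' β m hm).2 hne)

theorem GD.surj (D : GD N s p ι) (β : IrrCharacter C) :
    ∃ χ : IrrCharacter N, SInv N s (χ : N → ℂ) ∧ Corr p (fun c : C => (χ : N → ℂ) (ι c)) β := by
  classical
  let a : N ≃* N := MulAut.conjNormal s
  have happ : ∀ n : N, ((a n : N) : Y) = s * n * s⁻¹ := fun n => MulAut.conjNormal_apply s n
  have hit : ∀ (k : ℕ) (n : N), ((a^[k] n : N) : Y) = s ^ k * n * (s ^ k)⁻¹ := by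
    intro k
    induction k with
    | zero => intro n; simp
    | succ k ih =>
      intro n
      rw [Function.iterate_succ_apply', happ, ih, pow_succ']
      group
  have ha : ∀ n : N, a^[p] n = n := by
    intro n
    apply Subtype.ext
    rw [hit, ← D.hs, pow_orderOf_eq_one]
    simp
  have hcomm : ∀ n : N, a n = n ↔ (n : Y) * s = s * n := by
    intro n
    constructor
    · intro h
      have h1 := congrArg Subtype.val h
      rw [happ] at h1
      rw [mul_inv_eq_iff_eq_mul] at h1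
      exact h1.symm
    · intro h
      apply Subtype.ext
      rw [happ, ← h]
      group
  have hinv : ∀ χ : IrrCharacter N, SInv N s (χ : N → ℂ) ↔ ∀ g, (χ : N → ℂ) (a g) = (χ : N → ℂ) g := by
    intro χ
    refine forall_congr' fun n => ?_
    have : a n = ⟨s * n * s⁻¹, hN.conj_mem n n.2 s⟩ := Subtype.ext (happ n)
    rw [this]
  have hc1 := card_inv_irr a
  have hc2 := card_fixed_classes D.hp a ha D.hcop ι D.hinj (fun c => (hcomm _).2 (D.hcomm c)) (fun n h => D.hrange n ((hcomm n).1 h))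
  have hc3 : Nat.card {χ : IrrCharacter N // ∀ g, (χ : N → ℂ) (a g) = (χ : N → ℂ) g} = Nat.card (IrrCharacter C) := by
    rw [hc1, hc2, card_irr]
  have hmain : ∀ χ : {χ : IrrCharacter N // ∀ g, (χ : N → ℂ) (a g) = (χ : N → ℂ) g}, ∃ β₀ : IrrCharacter C,
      Corr p (fun c : C => (χ.1 : N → ℂ) (ι c)) β₀ := by
    intro χ
    obtain ⟨ψ, -, β₀, h⟩ := D.main χ.1 ((hinv χ.1).2 χ.2)
    exact ⟨β₀, h⟩
  choose π hπ using hmain
  have hπinj : Function.Injective π := by
    intro χ χ' h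
    apply Subtype.ext
    obtain ⟨ψ, h1, β₀, h2⟩ := D.main χ.1 ((hinv χ.1).2 χ.2)
    obtain ⟨ψ', h1', β₀', h2'⟩ := D.main χ'.1 ((hinv χ'.1).2 χ'.2)
    have hres : ∀ χ₀ : IrrCharacter N, IsCharacter C (fun c : C => (χ₀ : N → ℂ) (ι c)) :=
      fun χ₀ => isCharacter_comp ι (IsIrrCharacter.isCharacter' χ₀.2)
    have e1 : β₀ = π χ := Corr.unique D.hp (hres _) h2 (hπ χ)
    have e2 : β₀' = π χ' := Corr.unique D.hp (hres _) h2' (hπ χ')
    rw [← e1, ← e2] at h
    subst h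
    exact D.inj h1 h1' h2 h2'
  have hbij := hπinj.bijective_of_nat_card_le hc3.ge
  obtain ⟨χ, rfl⟩ := hbij.2 β
  exact ⟨χ.1, (hinv χ.1).2 χ.2, hπ χ⟩

end Base

section Abs

variable {G C : Type u} [Group G] [Fintype G] [Group C] [Fintype C]

theorem GD.inj' {Y : Type u} [Group Y] [Fintype Y] {N : Subgroup Y} [hN : N.Normal] [Fintype N] {s : Y} {p : ℕ}
    {ι : C →* N} (D : GD N s p ι)
    {χ χ' : IrrCharacter N} (hχ : SInv N s (χ : N → ℂ)) (hχ' : SInv N s (χ' : N → ℂ)) {β : IrrCharacter C}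
    (h : Corr p (fun c => (χ : N → ℂ) (ι c)) β) (h' : Corr p (fun c => (χ' : N → ℂ) (ι c)) β) : χ = χ' := by
  obtain ⟨ψ, h1, β₀, h2⟩ := D.main χ hχ
  obtain ⟨ψ', h1', β₀', h2'⟩ := D.main χ' hχ'
  have hres : ∀ χ₀ : IrrCharacter N, IsCharacter C (fun c : C => (χ₀ : N → ℂ) (ι c)) :=
      fun χ₀ => isCharacter_comp ι (IsIrrCharacter.isCharacter' χ₀.2)
  have e1 : β₀ = β := Corr.unique D.hp (hres _) h2 h
  have e2 : β₀' = β := Corr.unique D.hp (hres _) h2' h'
  subst e1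
  subst e2
  exact D.inj h1 h1' h2 h2'

/-- The three properties of the correspondence for an invariance predicate. -/
structure GlauQ (p : ℕ) (Inv : (G → ℂ) → Prop) (ι : C →* G) : Prop where
  ex : ∀ χ : IrrCharacter G, Inv (χ : G → ℂ) → ∃ β : IrrCharacter C, Corr p (fun c => (χ : G → ℂ) (ι c)) β
  inj : ∀ χ χ' : IrrCharacter G, Inv (χ : G → ℂ) → Inv (χ' : G → ℂ) → ∀ β : IrrCharacter C,
    Corr p (fun c => (χ : G → ℂ) (ι c)) β → Corr p (fun c => (χ' : G → ℂ) (ι c)) β → χ = χ'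
  surj : ∀ β : IrrCharacter C, ∃ χ : IrrCharacter G, Inv (χ : G → ℂ) ∧ Corr p (fun c => (χ : G → ℂ) (ι c)) β

/-- Invariance under one automorphism. -/
def InvZ (z : MulAut G) (f : G → ℂ) : Prop := ∀ g, f (z g) = f g

/-- Invariance under a group of automorphisms. -/
def InvA (A : Subgroup (MulAut G)) (f : G → ℂ) : Prop := ∀ a ∈ A, ∀ g, f (a g) = f g

theorem base_transfer {Y : Type u} [Group Y] [Fintype Y] {N : Subgroup Y} [hN : N.Normal] [Fintype N] {s : Y} {p : ℕ}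
    (z : MulAut G) (σ : G ≃* N) (hσ : ∀ g, ((σ (z g) : N) : Y) = s * (σ g : N) * s⁻¹) (ι : C →* G)
    (D : GD N s p ((σ.toMonoidHom).comp ι)) : GlauQ p (InvZ z) ι := by
  classical
  have hinv : ∀ χ' : IrrCharacter N, InvZ z (BlockPair.irrComp σ χ' : G → ℂ) ↔ SInv N s (χ' : N → ℂ) := by
    intro χ'
    have key : ∀ g : G, (⟨s * (σ g : N) * s⁻¹, hN.conj_mem _ (σ g).2 s⟩ : N) = σ (z g) :=
      fun g => Subtype.ext (hσ g).symm
    constructor
    · intro h n
      obtain ⟨g, rfl⟩ := σ.surjective n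
      rw [key]
      exact h g
    · intro h g
      show (χ' : N → ℂ) (σ (z g)) = (χ' : N → ℂ) (σ g)
      rw [← key]
      exact h _
  refine ⟨?_, ?_, ?_⟩
  · intro χ hχ
    obtain ⟨χ', rfl⟩ := (BlockPair.irrComp_bijective σ).2 χ
    obtain ⟨ψ, -, β₀, h⟩ := D.main χ' ((hinv χ').1 hχ)
    exact ⟨β₀, h⟩
  · intro χ χ₂ hχ hχ₂ β h h₂
    obtain ⟨χ', rfl⟩ := (BlockPair.irrComp_bijective σ).2 χ
    obtain ⟨χ₂', rfl⟩ := (BlockPair.irrComp_bijective σ).2 χ₂
    rw [D.inj' ((hinv χ').1 hχ) ((hinv χ₂').1 hχ₂) h h₂]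
  · intro β
    obtain ⟨χ', h1, h2⟩ := D.surj β
    exact ⟨BlockPair.irrComp σ χ', (hinv χ').2 h1, h2⟩

theorem base_abs {p : ℕ} (hp : p.Prime) (z : MulAut G) (hz : orderOf z = p) (hcop : ¬ p ∣ Nat.card G) (ι : C →* G)
    (hinj : Function.Injective ι) (hfix : ∀ c, z (ι c) = ι c) (hrange : ∀ g, z g = g → ∃ c, ι c = g) :
    GlauQ p (InvZ z) ι := by
  classical
  let Z : Subgroup (MulAut G) := Subgroup.zpowers z
  let φ : Z →* MulAut G := Z.subtype
  letI : Fintype Z := Fintype.ofFinite _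
  letI : Fintype (G ⋊[φ] Z) := Fintype.ofEquiv (G × Z) SemidirectProduct.equivProd.symm
  let inl' : G →* (G ⋊[φ] Z) := SemidirectProduct.inl
  let N : Subgroup (G ⋊[φ] Z) := inl'.range
  haveI hN : N.Normal := by
    have : N = (SemidirectProduct.rightHom : (G ⋊[φ] Z) →* Z).ker := SemidirectProduct.range_inl_eq_ker_rightHom
    rw [this]
    exact MonoidHom.normal_ker _
  letI : Fintype N := Fintype.ofFinite _
  let z' : Z := ⟨z, Subgroup.mem_zpowers z⟩
  let s : G ⋊[φ] Z := SemidirectProduct.inr z'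
  have hinlinj : Function.Injective inl' := SemidirectProduct.inl_injective
  let σ : G ≃* N := MonoidHom.ofInjective hinlinj
  have hσ' : ∀ g, ((σ g : N) : G ⋊[φ] Z) = inl' g := fun g => rfl
  have hconj : ∀ g : G, inl' (z g) = s * inl' g * s⁻¹ := by
    intro g
    have := SemidirectProduct.inl_aut (φ := φ) z' g
    rw [map_inv] at this
    exact this
  have hσ : ∀ g, ((σ (z g) : N) : G ⋊[φ] Z) = s * (σ g : N) * s⁻¹ := fun g => hconj g
  refine base_transfer z σ hσ ι ?_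
  refine ⟨hp, ?_, ?_, ?_, ?_, ?_, ?_⟩
  · have : orderOf s = orderOf z' := orderOf_injective _ SemidirectProduct.inr_injective z'
    rw [this, ← hz]
    exact Subgroup.orderOf_mk z _
  · rw [Nat.card_congr σ.toEquiv.symm]
    exact hcop
  · intro y
    refine ⟨inl' y.left, ⟨y.left, rfl⟩, ?_⟩
    have hr : (y.right : MulAut G) ∈ Submonoid.powers z := mem_powers_iff_mem_zpowers.2 y.right.2
    obtain ⟨k, hk⟩ := hr
    refine ⟨k, ?_⟩
    have h1 : y.right = z' ^ k := Subtype.ext hk.symm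
    have h2 : s ^ k = SemidirectProduct.inr y.right := by
      rw [h1, map_pow]
    rw [h2]
    exact (SemidirectProduct.inl_left_mul_inr_right y).symm
  · intro a b hab
    exact hinj (hinlinj (congrArg (fun x : N => (x : G ⋊[φ] Z)) hab))
  · intro c
    have h1 := hconj (ι c)
    rw [hfix c] at h1
    show inl' (ι c) * s = s * inl' (ι c)
    rw [eq_mul_inv_iff_mul_eq] at h1
    exact h1
  · intro n hn
    obtain ⟨g, rfl⟩ := σ.surjective n
    have h1 := hconj g
    have h2 : inl' g * s = s * inl' g := hn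
    have h3 : inl' (z g) = inl' g := by
      rw [h1, ← h2]
      group
    obtain ⟨c, rfl⟩ := hrange g (hinlinj h3)
    exact ⟨c, rfl⟩

theorem Corr.comp {D : Type u} [Group D] [Fintype D] {p : ℕ} {f : D → ℂ}
    (hf : IsCharacter D f) {β₁ : IrrCharacter D} (h₁ : Corr p f β₁) (ι : C →* D) {β : IrrCharacter C}
    (h₂ : Corr p (fun c => (β₁ : D → ℂ) (ι c)) β) : Corr p (fun c => f (ι c)) β := by
  classical
  intro γ M hM
  have hexp := classFunction_expand (IsCharacter.isClassFunction' hf)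
  choose m hm using fun β' : IrrCharacter D => exists_nat_classInner hf (IsIrrCharacter.isCharacter' β'.2)
  choose n hn using fun β' : IrrCharacter D =>
    exists_nat_classInner (isCharacter_comp ι (IsIrrCharacter.isCharacter' β'.2)) (IsIrrCharacter.isCharacter' γ.2)
  have hsum : M = ∑ β', m β' * n β' := by
    have h3 : (M : ℂ) = ∑ β', (m β' : ℂ) * n β' := by
      rw [← hM]
      have h4 : (fun c => f (ι c)) = ∑ β' : IrrCharacter D, (m β' : ℂ) • (fun c => (β' : D → ℂ) (ι c)) := by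
        funext c
        conv_lhs => rw [hexp]
        simp [hm]
      rw [h4, classInner_sum_left]
      refine Finset.sum_congr rfl fun β' _ => ?_
      rw [classInner_smul_left, hn]
    exact_mod_cast h3
  rw [hsum, ← Finset.add_sum_erase _ _ (Finset.mem_univ β₁)]
  have herase : p ∣ ∑ β' ∈ Finset.univ.erase β₁, m β' * n β' :=
    Finset.dvd_sum fun β' hβ' => Dvd.dvd.mul_right ((h₁ β' _ (hm β')).2 (Finset.ne_of_mem_erase hβ')) _
  obtain ⟨t, ht⟩ := herase
  constructor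
  · rintro rfl
    have h1 := (h₁ β₁ _ (hm β₁)).1 rfl
    have h2 := (h₂ γ _ (hn β₁)).1 rfl
    rw [ht]
    push_cast
    obtain ⟨u, hu⟩ := h1
    obtain ⟨v, hv⟩ := h2
    refine ⟨u * (n β₁ : ℤ) ^ 2 + v + 2 * m β₁ * n β₁ * t + p * t ^ 2, ?_⟩
    linear_combination (n β₁ : ℤ) ^ 2 * hu + hv
  · intro hne
    exact dvd_add (Dvd.dvd.mul_left ((h₂ γ _ (hn β₁)).2 hne) _) ⟨t, ht⟩

theorem Corr.aut {p : ℕ} (a : C ≃* C) {f : C → ℂ} {β : IrrCharacter C} (h : Corr p f β) :
    Corr p (fun c => f (a c)) (BlockPair.irrComp a β) := by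
  classical
  intro γ m hm
  obtain ⟨γ', rfl⟩ := (BlockPair.irrComp_bijective a).2 γ
  have h1 : classInner (fun c => f (a c)) (BlockPair.irrComp a γ' : C → ℂ) = classInner f (γ' : C → ℂ) := by
    unfold classInner
    congr 1
    exact Equiv.sum_comp a.toEquiv (fun c => f c * (starRingEnd ℂ) ((γ' : C → ℂ) c))
  rw [h1] at hm
  have h2 := h γ' m hm
  constructor
  · intro e
    exact h2.1 ((BlockPair.irrComp_bijective a).1 e)
  · intro e
    exact h2.2 (fun e' => e (by rw [e']))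

theorem glau_triv {p : ℕ} (ι : C →* G) (hinj : Function.Injective ι) (hsurj : Function.Surjective ι) (hp : p.Prime)
    (Inv : (G → ℂ) → Prop) (hI : ∀ f, Inv f) : GlauQ p Inv ι := by
  classical
  let σ : C ≃* G := MulEquiv.ofBijective ι ⟨hinj, hsurj⟩
  have hcorr : ∀ χ : IrrCharacter G, Corr p (fun c => (χ : G → ℂ) (ι c)) (BlockPair.irrComp σ χ) := by
    intro χ β m hm
    have h1 := classInner_irr (BlockPair.irrComp σ χ).2 β.2
    have h2 : classInner (fun c => (χ : G → ℂ) (ι c)) (β : C → ℂ) = classInner (BlockPair.irrComp σ χ : C → ℂ) (β : C → ℂ) := rfl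
    rw [h2, h1] at hm
    constructor
    · rintro rfl
      rw [if_pos rfl] at hm
      have h3 : m = 1 := by exact_mod_cast hm.symm
      subst h3
      simp
    · intro hne
      rw [if_neg (fun h => hne (Subtype.ext h).symm)] at hm
      have h3 : m = 0 := by exact_mod_cast hm.symm
      subst h3
      simp
  have hres : ∀ χ₀ : IrrCharacter G, IsCharacter C (fun c : C => (χ₀ : G → ℂ) (ι c)) :=
      fun χ₀ => isCharacter_comp ι (IsIrrCharacter.isCharacter' χ₀.2)
  refine ⟨fun χ _ => ⟨_, hcorr χ⟩, ?_, ?_⟩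
  · intro χ χ' _ _ β h h'
    have e1 := Corr.unique hp (hres χ) h (hcorr χ)
    have e2 := Corr.unique hp (hres χ') h' (hcorr χ')
    exact (BlockPair.irrComp_bijective σ).1 (e1.symm.trans e2)
  · intro β
    obtain ⟨χ, rfl⟩ := (BlockPair.irrComp_bijective σ).2 β
    exact ⟨χ, hI _, hcorr χ⟩

/-- The fixed points of an automorphism. -/
def fixSub (z : MulAut G) : Subgroup G where
  carrier := {g | z g = g}
  mul_mem' := by
    intro a b ha hb
    simp only [Set.mem_setOf_eq] at *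
    rw [map_mul, ha, hb]
  one_mem' := map_one z
  inv_mem' := by
    intro a ha
    simp only [Set.mem_setOf_eq] at *
    rw [map_inv, ha]

theorem mem_fixSub {z : MulAut G} {g : G} : g ∈ fixSub z ↔ z g = g := Iff.rfl

theorem fix_apply {z a : MulAut G} (h : a * z = z * a) {g : G} (hg : g ∈ fixSub z) : a g ∈ fixSub z := by
  rw [mem_fixSub]
  have h1 := congrArg (fun x : MulAut G => x g) h
  simp only [MulAut.mul_apply] at h1
  rw [← h1, mem_fixSub.1 hg]

theorem comm_inv_aut {z a : MulAut G} (h : a * z = z * a) : a⁻¹ * z = z * a⁻¹ := by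
  rw [inv_mul_eq_iff_eq_mul, ← mul_assoc, h, mul_assoc, mul_inv_cancel, mul_one]

/-- The restriction of an automorphism to the fixed points of a commuting automorphism. -/
def resAut (z a : MulAut G) (h : a * z = z * a) : MulAut (fixSub z) where
  toFun g := ⟨a g, fix_apply h g.2⟩
  invFun g := ⟨a⁻¹ g, fix_apply (comm_inv_aut h) g.2⟩
  left_inv g := Subtype.ext (by simp)
  right_inv g := Subtype.ext (by simp)
  map_mul' g g' := Subtype.ext (by simp)

@[simp] theorem resAut_apply (z a : MulAut G) (h : a * z = z * a) (g : fixSub z) :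
    ((resAut z a h g : fixSub z) : G) = a g := rfl

/-- The restriction homomorphism. -/
def resHom (z : MulAut G) (A : Subgroup (MulAut G)) (h : ∀ a ∈ A, a * z = z * a) : A →* MulAut (fixSub z) :=
  MonoidHom.mk' (fun a => resAut z a.1 (h a.1 a.2)) (fun a b => by
    ext g
    rfl)

end Abs

section Main

theorem glau_main {p : ℕ} (hp : p.Prime) : ∀ (n : ℕ) (G C : Type u) [Group G] [Fintype G] [Group C] [Fintype C]
    (A : Subgroup (MulAut G)) (ι : C →* G), Nat.card A = n → IsPGroup p A → (A ≠ ⊥ → ¬ p ∣ Nat.card G) →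
    Function.Injective ι → (∀ c, ∀ a ∈ A, a (ι c) = ι c) → (∀ g, (∀ a ∈ A, a g = g) → ∃ c, ι c = g) →
    GlauQ p (InvA A) ι := by
  intro n
  induction n using Nat.strong_induction_on with
  | _ n IH =>
  intro G C _ _ _ _ A ι hn hA hcop hinj hfix hrange
  classical
  by_cases hbot : A = ⊥
  · subst hbot
    refine glau_triv ι hinj (fun g => hrange g ?_) hp _ ?_
    · intro a ha
      rw [Subgroup.mem_bot.1 ha]
      rfl
    · intro f a ha g
      rw [Subgroup.mem_bot.1 ha]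
      rfl
  · haveI : Fact p.Prime := ⟨hp⟩
    haveI : Nontrivial A := (Subgroup.nontrivial_iff_ne_bot A).2 hbot
    have hcen := hA.center_nontrivial
    have hAc : IsPGroup p (Subgroup.center A) := hA.to_subgroup _
    obtain ⟨k, hk, hk2⟩ := hAc.nontrivial_iff_card.1 hcen
    have hdvd : p ∣ Nat.card (Subgroup.center A) := by
      rw [hk2]
      exact dvd_pow_self p hk.ne'
    obtain ⟨z₀, hz₀⟩ := exists_prime_orderOf_dvd_card' p hdvd
    let z : MulAut G := ((z₀ : A) : MulAut G)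
    have hzA : z ∈ A := (z₀ : A).2
    have hzord : orderOf z = p := by
      have h1 : orderOf z = orderOf (z₀ : A) := Subgroup.orderOf_coe (z₀ : A)
      have h2 : orderOf (z₀ : A) = orderOf z₀ := Subgroup.orderOf_coe z₀
      rw [h1, h2, hz₀]
    have hcomm : ∀ a ∈ A, a * z = z * a := by
      intro a ha
      have h1 := (Subgroup.mem_center_iff.1 z₀.2) ⟨a, ha⟩
      exact congrArg Subtype.val h1
    have hcopG := hcop hbot
    have base : GlauQ p (InvZ z) (fixSub z).subtype :=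
      base_abs hp z hzord hcopG (fixSub z).subtype Subtype.val_injective (fun c => c.2) (fun g hg => ⟨⟨g, hg⟩, rfl⟩)
    let R := resHom z A hcomm
    let A₁ := R.range
    let ι₂ : C →* fixSub z := ι.codRestrict (fixSub z) (fun c => hfix c z hzA)
    have hι₂ : ∀ c, ((ι₂ c : fixSub z) : G) = ι c := fun c => rfl
    have hR : ∀ (a : A) (g : fixSub z), ((R a g : fixSub z) : G) = (a : MulAut G) g := fun a g => rfl
    have hlt : Nat.card A₁ < n := by
      by_contra hcon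
      have hle : Nat.card A ≤ Nat.card R.range := by
        rw [hn]
        exact not_lt.1 hcon
      have hb := (R.rangeRestrict_surjective).bijective_of_nat_card_le hle
      have h1 : R.rangeRestrict ⟨z, hzA⟩ = R.rangeRestrict 1 := by
        apply Subtype.ext
        rw [map_one]
        show R ⟨z, hzA⟩ = 1
        ext g
        exact g.2
      have h2 := hb.1 h1
      have h3 : z = 1 := congrArg Subtype.val h2
      have h4 : orderOf z = 1 := by rw [h3, orderOf_one]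
      rw [hzord] at h4
      exact hp.one_lt.ne' h4
    have hA₁ : IsPGroup p A₁ := hA.of_surjective R.rangeRestrict R.rangeRestrict_surjective
    have hcop₁ : A₁ ≠ ⊥ → ¬ p ∣ Nat.card (fixSub z) := fun _ h =>
      hcopG (h.trans (Subgroup.card_subgroup_dvd_card _))
    have hinj₂ : Function.Injective ι₂ := fun a b hab => hinj (congrArg Subtype.val hab)
    have hfix₂ : ∀ c, ∀ a ∈ A₁, a (ι₂ c) = ι₂ c := by
      rintro c _ ⟨a, rfl⟩
      apply Subtype.ext
      rw [hR, hι₂]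
      exact hfix c a.1 a.2
    have hrange₂ : ∀ g, (∀ a ∈ A₁, a g = g) → ∃ c, ι₂ c = g := by
      intro g hg
      obtain ⟨c, hc⟩ := hrange g.1 (fun a ha => by
        have h1 := hg (R ⟨a, ha⟩) ⟨_, rfl⟩
        have h2 := congrArg Subtype.val h1
        rw [hR] at h2
        exact h2)
      exact ⟨c, Subtype.ext hc⟩
    have IH' : GlauQ p (InvA A₁) ι₂ := IH _ hlt (fixSub z) C A₁ ι₂ rfl hA₁ hcop₁ hinj₂ hfix₂ hrange₂
    have hresC : ∀ χ : IrrCharacter G, IsCharacter (fixSub z) (fun g : fixSub z => (χ : G → ℂ) (g : G)) :=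
      fun χ => isCharacter_comp (fixSub z).subtype (IsIrrCharacter.isCharacter' χ.2)
    have hresC' : ∀ χ : IrrCharacter G, IsCharacter C (fun c : C => (χ : G → ℂ) (ι c)) :=
      fun χ => isCharacter_comp ι (IsIrrCharacter.isCharacter' χ.2)
    have hlift : ∀ χ : IrrCharacter G, InvA A (χ : G → ℂ) → ∀ β₁ : IrrCharacter (fixSub z),
        Corr p (fun g : fixSub z => (χ : G → ℂ) (g : G)) β₁ → InvA A₁ (β₁ : fixSub z → ℂ) := by
      intro χ hχ β₁ hβ₁
      rintro _ ⟨a, rfl⟩ g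
      have h := Corr.aut (R a) hβ₁
      have h1 : (fun c : fixSub z => (χ : G → ℂ) ((R a c : fixSub z) : G)) = (fun g : fixSub z => (χ : G → ℂ) (g : G)) := by
        funext c
        rw [hR]
        exact hχ a.1 a.2 c.1
      rw [h1] at h
      have h2 := Corr.unique hp (hresC χ) h hβ₁
      have h3 := congrFun (congrArg Subtype.val h2) g
      exact h3
    refine ⟨?_, ?_, ?_⟩
    · intro χ hχ
      obtain ⟨β₁, hβ₁⟩ := base.ex χ (fun g => hχ z hzA g)
      obtain ⟨β, h⟩ := IH'.ex β₁ (hlift χ hχ β₁ hβ₁)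
      exact ⟨β, Corr.comp (hresC χ) hβ₁ ι₂ h⟩
    · intro χ χ' hχ hχ' β h h'
      obtain ⟨β₁, hβ₁⟩ := base.ex χ (fun g => hχ z hzA g)
      obtain ⟨β₂, h₂⟩ := IH'.ex β₁ (hlift χ hχ β₁ hβ₁)
      have e := Corr.unique hp (hresC' χ) (Corr.comp (hresC χ) hβ₁ ι₂ h₂) h
      subst e
      obtain ⟨β₁', hβ₁'⟩ := base.ex χ' (fun g => hχ' z hzA g)
      obtain ⟨β₂', h₂'⟩ := IH'.ex β₁' (hlift χ' hχ' β₁' hβ₁')
      have e' := Corr.unique hp (hresC' χ') (Corr.comp (hresC χ') hβ₁' ι₂ h₂') h'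
      subst e'
      have e1 := IH'.inj β₁ β₁' (hlift χ hχ β₁ hβ₁) (hlift χ' hχ' β₁' hβ₁') _ h₂ h₂'
      subst e1
      exact base.inj χ χ' (fun g => hχ z hzA g) (fun g => hχ' z hzA g) β₁ hβ₁ hβ₁'
    · intro β
      obtain ⟨β₁, hinv, h⟩ := IH'.surj β
      obtain ⟨χ, hχ, hc⟩ := base.surj β₁
      refine ⟨χ, ?_, Corr.comp (hresC χ) hc ι₂ h⟩
      intro a ha g
      have hz' : InvZ z (BlockPair.irrComp a χ : G → ℂ) := by
        intro g
        show (χ : G → ℂ) (a (z g)) = (χ : G → ℂ) (a g)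
        have h1 := congrArg (fun x : MulAut G => x g) (hcomm a ha)
        simp only [MulAut.mul_apply] at h1
        rw [h1]
        exact hχ _
      have hcorr : Corr p (fun g : fixSub z => (BlockPair.irrComp a χ : G → ℂ) (g : G)) β₁ := by
        have h1 := Corr.aut (R ⟨a, ha⟩) hc
        have h2 : BlockPair.irrComp (R ⟨a, ha⟩) β₁ = β₁ := by
          apply Subtype.ext
          funext c
          exact hinv (R ⟨a, ha⟩) ⟨_, rfl⟩ c
        rw [h2] at h1
        exact h1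
      have h5 := base.inj (BlockPair.irrComp a χ) χ hz' hχ β₁ hcorr hc
      exact congrFun (congrArg Subtype.val h5) g

end Main

section Conj

variable {Γ : Type u} [Group Γ]

/-- Conjugation by an element normalizing a subgroup. -/
def conjAutOf (G : Subgroup Γ) (s : Γ) (h : ∀ g ∈ G, s * g * s⁻¹ ∈ G) (h' : ∀ g ∈ G, s⁻¹ * g * s ∈ G) : MulAut G where
  toFun g := ⟨s * g * s⁻¹, h g g.2⟩
  invFun g := ⟨s⁻¹ * g * s, h' g g.2⟩
  left_inv g := Subtype.ext (by simp [mul_assoc])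
  right_inv g := Subtype.ext (by simp [mul_assoc])
  map_mul' a b := Subtype.ext (by simp [mul_assoc])

/-- The conjugation homomorphism. -/
def conjHomOf (G S : Subgroup Γ) (hnorm : ∀ s ∈ S, ∀ g ∈ G, s * g * s⁻¹ ∈ G) : S →* MulAut G :=
  MonoidHom.mk' (fun s => conjAutOf G s (hnorm s s.2) (fun g hg => by simpa using hnorm s⁻¹ (inv_mem s.2) g hg))
    (fun a b => by
      ext g
      simp [conjAutOf, mul_assoc])

theorem conjHomOf_apply (G S : Subgroup Γ) (hnorm : ∀ s ∈ S, ∀ g ∈ G, s * g * s⁻¹ ∈ G) (s : S) (g : G) :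
    ((conjHomOf G S hnorm s g : G) : Γ) = s * g * (s : Γ)⁻¹ := rfl

theorem invA_conj_iff (G S : Subgroup Γ) [Fintype G] (hnorm : ∀ s ∈ S, ∀ g ∈ G, s * g * s⁻¹ ∈ G) (f : G → ℂ) :
    InvA (conjHomOf G S hnorm).range f ↔ ∀ s ∈ S, ∀ g g' : G, (g' : Γ) = s * g * s⁻¹ → f g' = f g := by
  constructor
  · intro h s hs g g' hg'
    have h1 : g' = conjHomOf G S hnorm ⟨s, hs⟩ g := Subtype.ext hg'
    rw [h1]
    exact h _ ⟨_, rfl⟩ g
  · rintro h _ ⟨s, rfl⟩ g
    exact h s s.2 g _ rfl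

theorem conj_glau [Fintype Γ] (G S C : Subgroup Γ) [Fintype G] [Fintype C]
    (hnorm : ∀ s ∈ S, ∀ g ∈ G, s * g * s⁻¹ ∈ G) (hcop : (Nat.card G).Coprime (Nat.card S)) {p : ℕ} (hp : p.Prime)
    (hS : IsPGroup p S) (hC : C = G ⊓ Subgroup.centralizer (S : Set Γ)) (hCG : C ≤ G) :
    GlauQ p (fun f : G → ℂ => ∀ s ∈ S, ∀ g g' : G, (g' : Γ) = s * g * s⁻¹ → f g' = f g) (Subgroup.inclusion hCG) := by
  classical
  have h1 : (fun f : G → ℂ => ∀ s ∈ S, ∀ g g' : G, (g' : Γ) = s * g * s⁻¹ → f g' = f g) =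
      InvA (conjHomOf G S hnorm).range := by
    funext f
    exact propext (invA_conj_iff G S hnorm f).symm
  rw [h1]
  refine glau_main hp _ G C _ _ rfl ?_ ?_ ?_ ?_ ?_
  · exact hS.of_surjective (conjHomOf G S hnorm).rangeRestrict (conjHomOf G S hnorm).rangeRestrict_surjective
  · intro hne hdvd
    have hSne : Nat.card S ≠ 1 := by
      intro h2
      apply hne
      rw [eq_bot_iff]
      rintro _ ⟨s, rfl⟩
      have h3 : s = 1 := by
        haveI := (Nat.card_eq_one_iff_unique.1 h2).1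
        exact Subsingleton.elim _ _
      rw [h3, map_one]
      exact Subgroup.one_mem _
    haveI : Fact p.Prime := ⟨hp⟩
    obtain ⟨k, hk⟩ := IsPGroup.iff_card.1 hS
    have hk0 : k ≠ 0 := by
      rintro rfl
      exact hSne (by simpa using hk)
    have h2 : p ∣ Nat.card S := by
      rw [hk]
      exact dvd_pow_self p hk0
    exact hp.one_lt.ne' (Nat.dvd_one.1 (hcop ▸ Nat.dvd_gcd hdvd h2))
  · exact Subgroup.inclusion_injective hCG
  · rintro c _ ⟨s, rfl⟩
    apply Subtype.ext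
    rw [conjHomOf_apply]
    have h2 : (c : Γ) ∈ G ⊓ Subgroup.centralizer (S : Set Γ) := hC ▸ c.2
    have h3 : (s : Γ) * c = c * s := (Subgroup.mem_centralizer_iff.1 h2.2) s s.2
    show (s : Γ) * c * (s : Γ)⁻¹ = c
    rw [h3]
    group
  · intro g hg
    have h2 : (g : Γ) ∈ C := by
      rw [hC]
      refine ⟨g.2, Subgroup.mem_centralizer_iff.2 fun s hs => ?_⟩
      have h3 := hg _ ⟨⟨s, hs⟩, rfl⟩
      have h4 := congrArg Subtype.val h3
      rw [conjHomOf_apply] at h4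
      have h5 : (s : Γ) * g * s⁻¹ = g := h4
      rw [mul_inv_eq_iff_eq_mul] at h5
      exact h5
    exact ⟨⟨g, h2⟩, rfl⟩

end Conj

end Cfsg.Agent.Lib.Glaub
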