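import Cfsg.Agent.Lib.Glaub
import Cfsg.Agent.Lib.SchurZ

/-!
# Counting invariant characters and classes for solvable coprime operators
-/

set_option autoImplicit false
set_option linter.all false

namespace Cfsg.Agent.Lib.Glaub2

open Cfsg Cfsg.Agent.Lib.CharOps Cfsg.Agent.Lib.CharIrr Cfsg.Agent.Lib.Glaub
open scoped ComplexConjugate

universe u

section Fix

variable {G : Type u} [Group G] [Fintype G]

/-- The fixed points of a group of automorphisms. -/
def fixA (R : Subgroup (MulAut G)) : Subgroup G where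
  carrier := {g | ∀ r ∈ R, r g = g}
  mul_mem' := by
    intro a b ha hb r hr
    rw [map_mul, ha r hr, hb r hr]
  one_mem' := fun r _ => map_one r
  inv_mem' := by
    intro a ha r hr
    rw [map_inv, ha r hr]

theorem mem_fixA {R : Subgroup (MulAut G)} {g : G} : g ∈ fixA R ↔ ∀ r ∈ R, r g = g := Iff.rfl

/-- Fintype structure on fixed points. -/
noncomputable instance fintypeFixA (R : Subgroup (MulAut G)) : Fintype (fixA R) := Fintype.ofFinite _

theorem fix_norm {R A : Subgroup (MulAut G)} (hN : ∀ a ∈ A, ∀ r ∈ R, a * r * a⁻¹ ∈ R) {a : MulAut G} (ha : a ∈ A) {g : G}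
    (hg : g ∈ fixA R) : a g ∈ fixA R := by
  intro r hr
  have h1 := hg _ (hN _ (A.inv_mem ha) r hr)
  rw [inv_inv] at h1
  have h2 := congrArg a h1
  simpa [MulAut.mul_apply] using h2

/-- Restriction of a normalizing automorphism to the fixed points. -/
def resA {R A : Subgroup (MulAut G)} (hN : ∀ a ∈ A, ∀ r ∈ R, a * r * a⁻¹ ∈ R) (a : A) : MulAut (fixA R) where
  toFun g := ⟨a.1 g, fix_norm hN a.2 g.2⟩
  invFun g := ⟨a.1⁻¹ g, fix_norm hN (A.inv_mem a.2) g.2⟩
  left_inv g := Subtype.ext (by simp)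
  right_inv g := Subtype.ext (by simp)
  map_mul' g g' := Subtype.ext (by simp)

theorem resA_apply {R A : Subgroup (MulAut G)} (hN : ∀ a ∈ A, ∀ r ∈ R, a * r * a⁻¹ ∈ R) (a : A) (g : fixA R) :
    ((resA hN a g : fixA R) : G) = a.1 g := rfl

/-- The restriction homomorphism. -/
def resHomA {R A : Subgroup (MulAut G)} (hN : ∀ a ∈ A, ∀ r ∈ R, a * r * a⁻¹ ∈ R) : A →* MulAut (fixA R) :=
  MonoidHom.mk' (fun a => resA hN a) (fun a b => by
    ext g
    rfl)

theorem resHomA_apply {R A : Subgroup (MulAut G)} (hN : ∀ a ∈ A, ∀ r ∈ R, a * r * a⁻¹ ∈ R) (a : A) (g : fixA R) :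
    ((resHomA hN a g : fixA R) : G) = a.1 g := rfl

theorem exists_fixed_pgroup {p : ℕ} (hp : p.Prime) {R : Subgroup (MulAut G)} (hR : IsPGroup p R) (Ω : Set G)
    (hinv : ∀ r ∈ R, ∀ x ∈ Ω, r x ∈ Ω) (hc : ¬ p ∣ Nat.card Ω) : ∃ x ∈ Ω, ∀ r ∈ R, r x = x := by
  classical
  haveI : Fact p.Prime := ⟨hp⟩
  let Ω' : SubMulAction R G :=
    { carrier := Ω
      smul_mem' := by
        intro r x hx
        exact hinv r.1 r.2 x hx }
  have hc' : ¬ p ∣ Nat.card Ω' := hc
  obtain ⟨x, hx⟩ := hR.nonempty_fixed_point_of_prime_not_dvd_card Ω' hc'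
  refine ⟨x.1, x.2, fun r hr => ?_⟩
  have h1 := hx ⟨r, hr⟩
  exact congrArg Subtype.val h1

/-- Elements of the fixed point subgroup conjugate in the whole group are conjugate in the fixed point subgroup. -/
theorem conj_fix {p : ℕ} (hp : p.Prime) {R : Subgroup (MulAut G)} (hR : IsPGroup p R) (hcop : ¬ p ∣ Nat.card G)
    {c c' : fixA R} (h : IsConj (c : G) (c' : G)) : IsConj c c' := by
  classical
  obtain ⟨g, hg⟩ := isConj_iff.1 h
  let Ω : Set G := {x | x * c * x⁻¹ = c'}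
  have hX : Nat.card Ω = Nat.card (Subgroup.centralizer ({(c : G)} : Set G)) := by
    refine Nat.card_congr ⟨fun x => ⟨g⁻¹ * x.1, ?_⟩, fun z => ⟨g * z.1, ?_⟩, ?_, ?_⟩
    · rw [Subgroup.mem_centralizer_singleton_iff]
      have h2 : x.1 * c * x.1⁻¹ = g * c * g⁻¹ := (x.2 : _ = _).trans hg.symm
      have h3 : (g⁻¹ * x.1) * (c : G) * (g⁻¹ * x.1)⁻¹ = c := by
        have : (g⁻¹ * x.1) * (c : G) * (g⁻¹ * x.1)⁻¹ = g⁻¹ * (x.1 * c * x.1⁻¹) * g := by group
        rw [this, h2]
        group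
      rw [mul_inv_eq_iff_eq_mul] at h3
      exact h3
    · have h2 := Subgroup.mem_centralizer_singleton_iff.1 z.2
      show g * z.1 * c * (g * z.1)⁻¹ = c'
      rw [← hg]
      have : g * z.1 * (c : G) * (g * z.1)⁻¹ = g * (z.1 * c) * z.1⁻¹ * g⁻¹ := by group
      rw [this, h2]
      group
    · intro x
      apply Subtype.ext
      group
    · intro z
      apply Subtype.ext
      group
  have hXc : ¬ p ∣ Nat.card Ω := by
    rw [hX]
    intro h
    exact hcop (h.trans (Subgroup.card_subgroup_dvd_card _))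
  obtain ⟨x, hx, hxf⟩ := exists_fixed_pgroup hp hR Ω (by
    intro r hr x hx
    have h2 : x * c * x⁻¹ = c' := hx
    show r x * c * (r x)⁻¹ = c'
    have h3 := congrArg r h2
    simp only [map_mul, map_inv] at h3
    rw [c.2 r hr, c'.2 r hr] at h3
    exact h3) hXc
  refine isConj_iff.2 ⟨⟨x, hxf⟩, Subtype.ext ?_⟩
  exact hx

/-- Class invariance. -/
def InvK (A : Subgroup (MulAut G)) (K : ConjClasses G) : Prop :=
  ∀ a ∈ A, ∀ g, ConjClasses.mk g = K → ConjClasses.mk (a g) = K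

theorem card_classes {p : ℕ} (hp : p.Prime) {R A : Subgroup (MulAut G)} (hRA : R ≤ A)
    (hN : ∀ a ∈ A, ∀ r ∈ R, a * r * a⁻¹ ∈ R) (hR : IsPGroup p R) (hcop : ¬ p ∣ Nat.card G) :
    Nat.card {K : ConjClasses G // InvK A K} = Nat.card {K : ConjClasses (fixA R) // InvK (resHomA hN).range K} := by
  classical
  have hmap : ∀ (a : MulAut G) (g g' : G), IsConj g g' → IsConj (a g) (a g') := by
    intro a g g' h
    obtain ⟨c, hc⟩ := isConj_iff.1 h
    refine isConj_iff.2 ⟨a c, ?_⟩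
    rw [← hc]
    simp
  have hmap₁ : ∀ (g g' : fixA R), IsConj g g' → IsConj (g : G) (g' : G) := by
    intro g g' h
    obtain ⟨c, hc⟩ := isConj_iff.1 h
    refine isConj_iff.2 ⟨c, ?_⟩
    rw [← hc]
    simp
  let Φ : {K : ConjClasses (fixA R) // InvK (resHomA hN).range K} → {K : ConjClasses G // InvK A K} := fun K =>
    ⟨ConjClasses.map (fixA R).subtype K.1, by
      obtain ⟨K, hK⟩ := K
      obtain ⟨c, rfl⟩ := ConjClasses.mk_surjective K
      intro a ha g hg
      show ConjClasses.mk (a g) = ConjClasses.mk (c : G)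
      have hg' : ConjClasses.mk g = ConjClasses.mk (c : G) := hg
      rw [ConjClasses.mk_eq_mk_iff_isConj] at hg' ⊢
      have h1 := hmap a _ _ hg'
      have h2 := hK _ ⟨⟨a, ha⟩, rfl⟩ c rfl
      rw [ConjClasses.mk_eq_mk_iff_isConj] at h2
      exact h1.trans (hmap₁ _ _ h2)⟩
  refine (Nat.card_congr (Equiv.ofBijective Φ ⟨?_, ?_⟩)).symm
  · rintro ⟨K, hK⟩ ⟨K', hK'⟩ hKK
    obtain ⟨c, rfl⟩ := ConjClasses.mk_surjective K
    obtain ⟨c', rfl⟩ := ConjClasses.mk_surjective K'
    have h1 : ConjClasses.mk (c : G) = ConjClasses.mk (c' : G) := congrArg Subtype.val hKK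
    rw [ConjClasses.mk_eq_mk_iff_isConj] at h1
    apply Subtype.ext
    exact ConjClasses.mk_eq_mk_iff_isConj.2 (conj_fix hp hR hcop h1)
  · rintro ⟨K, hK⟩
    obtain ⟨n₀, rfl⟩ := ConjClasses.mk_surjective K
    let Ω : Set G := {n | IsConj n n₀}
    have hXc : ¬ p ∣ Nat.card Ω := by
      intro h
      apply hcop
      rw [← card_class_mul_card_centralizer n₀]
      exact Dvd.dvd.mul_right h _
    obtain ⟨x, hx, hxf⟩ := exists_fixed_pgroup hp hR Ω (by
      intro r hr x hx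
      have h1 := hK r (hRA hr) x (ConjClasses.mk_eq_mk_iff_isConj.2 hx)
      exact ConjClasses.mk_eq_mk_iff_isConj.1 h1) hXc
    let x₁ : fixA R := ⟨x, hxf⟩
    refine ⟨⟨ConjClasses.mk x₁, ?_⟩, Subtype.ext ?_⟩
    · rintro _ ⟨a, rfl⟩ g hg
      rw [ConjClasses.mk_eq_mk_iff_isConj] at hg ⊢
      have h1 : IsConj (a.1 (g : G)) (a.1 x) := hmap a.1 _ _ (hmap₁ _ _ hg)
      have h2 := hK a.1 a.2 x (ConjClasses.mk_eq_mk_iff_isConj.2 hx)
      have h3 : IsConj (a.1 x) x := by
        have h4 := ConjClasses.mk_eq_mk_iff_isConj.1 h2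
        exact h4.trans (IsConj.symm hx)
      exact conj_fix hp hR hcop (h1.trans h3)
    · show ConjClasses.mk x = ConjClasses.mk n₀
      exact ConjClasses.mk_eq_mk_iff_isConj.2 hx

variable {p : ℕ}

theorem glau_fix (hp : p.Prime) {R : Subgroup (MulAut G)} (hR : IsPGroup p R) (hcop : ¬ p ∣ Nat.card G) :
    GlauQ p (InvA R) (fixA R).subtype := by
  refine glau_main hp _ G (fixA R) R (fixA R).subtype rfl hR (fun _ => hcop) Subtype.val_injective ?_ ?_
  · intro c a ha
    exact c.2 a ha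
  · intro g hg
    exact ⟨⟨g, hg⟩, rfl⟩

theorem card_chars (hp : p.Prime) {R A : Subgroup (MulAut G)} (hRA : R ≤ A)
    (hN : ∀ a ∈ A, ∀ r ∈ R, a * r * a⁻¹ ∈ R) (hR : IsPGroup p R) (hcop : ¬ p ∣ Nat.card G) :
    Nat.card {χ : IrrCharacter G // InvA A (χ : G → ℂ)} =
      Nat.card {β : IrrCharacter (fixA R) // InvA (resHomA hN).range (β : fixA R → ℂ)} := by
  classical
  have D := glau_fix hp hR hcop
  have hresC : ∀ χ : IrrCharacter G, IsCharacter (fixA R) (fun g : fixA R => (χ : G → ℂ) (g : G)) :=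
    fun χ => isCharacter_comp (fixA R).subtype (IsIrrCharacter.isCharacter' χ.2)
  have hinvR : ∀ χ : {χ : IrrCharacter G // InvA A (χ : G → ℂ)}, InvA R (χ.1 : G → ℂ) :=
    fun χ r hr g => χ.2 r (hRA hr) g
  have hlift : ∀ χ : IrrCharacter G, InvA A (χ : G → ℂ) → ∀ β : IrrCharacter (fixA R),
      Corr p (fun g : fixA R => (χ : G → ℂ) (g : G)) β → InvA (resHomA hN).range (β : fixA R → ℂ) := by
    intro χ hχ β hβ
    rintro _ ⟨a, rfl⟩ g
    have h := Corr.aut (resHomA hN a) hβ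
    have h1 : (fun c : fixA R => (χ : G → ℂ) ((resHomA hN a c : fixA R) : G)) = (fun g : fixA R => (χ : G → ℂ) (g : G)) := by
      funext c
      rw [resHomA_apply]
      exact hχ a.1 a.2 c.1
    rw [h1] at h
    have h2 := Corr.unique hp (hresC χ) h hβ
    have h3 := congrFun (congrArg Subtype.val h2) g
    exact h3
  choose π hπ using fun χ : {χ : IrrCharacter G // InvA A (χ : G → ℂ)} => D.ex χ.1 (hinvR χ)
  let Φ : {χ : IrrCharacter G // InvA A (χ : G → ℂ)} → {β : IrrCharacter (fixA R) // InvA (resHomA hN).range (β : fixA R → ℂ)} :=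
    fun χ => ⟨π χ, hlift χ.1 χ.2 _ (hπ χ)⟩
  refine Nat.card_congr (Equiv.ofBijective Φ ⟨?_, ?_⟩)
  · intro χ χ' h
    have h1 : π χ = π χ' := congrArg Subtype.val h
    apply Subtype.ext
    have h2 := hπ χ'
    rw [← h1] at h2
    exact D.inj χ.1 χ'.1 (hinvR χ) (hinvR χ') _ (hπ χ) h2
  · rintro ⟨β, hβ⟩
    obtain ⟨χ, hχ, h⟩ := D.surj β
    have hA : InvA A (χ : G → ℂ) := by
      intro a ha g
      have hz' : InvA R (BlockPair.irrComp a χ : G → ℂ) := by
        intro r hr g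
        show (χ : G → ℂ) (a (r g)) = (χ : G → ℂ) (a g)
        have h1 : a (r g) = (a * r * a⁻¹) (a g) := by simp [MulAut.mul_apply]
        rw [h1]
        exact hχ _ (hN a ha r hr) _
      have hcorr : Corr p (fun g : fixA R => (BlockPair.irrComp a χ : G → ℂ) (g : G)) β := by
        have h1 := Corr.aut (resHomA hN ⟨a, ha⟩) h
        have h2 : BlockPair.irrComp (resHomA hN ⟨a, ha⟩) β = β := by
          apply Subtype.ext
          funext c
          exact hβ _ ⟨_, rfl⟩ c
        rw [h2] at h1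
        exact h1
      have h5 := D.inj (BlockPair.irrComp a χ) χ hz' hχ β hcorr h
      exact congrFun (congrArg Subtype.val h5) g
    refine ⟨⟨χ, hA⟩, Subtype.ext ?_⟩
    exact Corr.unique hp (hresC χ) (hπ ⟨χ, hA⟩) h

end Fix

theorem exists_normal_pgroup {A : Type u} [Group A] [Finite A] (hs : Group.IsSolvable A) (hne : Nontrivial A) :
    ∃ (p : ℕ) (R : Subgroup A), p.Prime ∧ R.Normal ∧ R ≠ ⊥ ∧ IsPGroup p R := by
  classical
  obtain ⟨Z, hZn, -, hZne, hZc⟩ := Cfsg.Agent.Lib.SchurZ.exists_abelian_normal (⊤ : Subgroup A) (by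
    exact (inferInstance : Group.IsSolvable (⊤ : Subgroup A))) (by
      exact top_ne_bot)
  have hcard : Nat.card Z ≠ 1 := fun h => hZne (Subgroup.eq_bot_of_card_eq _ h)
  obtain ⟨p, hp, hpd⟩ := Nat.exists_prime_and_dvd hcard
  haveI : Fact p.Prime := ⟨hp⟩
  obtain ⟨x, hx⟩ := exists_prime_orderOf_dvd_card' (G := Z) p hpd
  let M : Subgroup A :=
    { carrier := {y | y ∈ Z ∧ y ^ p = 1}
      one_mem' := ⟨Z.one_mem, one_pow p⟩
      mul_mem' := by
        rintro a b ⟨ha, ha'⟩ ⟨hb, hb'⟩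
        refine ⟨Z.mul_mem ha hb, ?_⟩
        have hc : Commute a b := hZc a ha b hb
        rw [hc.mul_pow, ha', hb', one_mul]
      inv_mem' := by
        rintro a ⟨ha, ha'⟩
        exact ⟨Z.inv_mem ha, by rw [inv_pow, ha', inv_one]⟩ }
  have hMn : M.Normal := by
    constructor
    rintro y ⟨hy, hy'⟩ g
    refine ⟨hZn.conj_mem y hy g, ?_⟩
    rw [conj_pow, hy']
    simp
  have hMne : M ≠ ⊥ := by
    intro h
    have h1 : (x : A) ∈ M := by
      refine ⟨x.2, ?_⟩
      have h2 : x ^ p = 1 := by rw [← hx]; exact pow_orderOf_eq_one x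
      exact congrArg Subtype.val h2
    rw [h, Subgroup.mem_bot] at h1
    have h3 : x = 1 := Subtype.ext h1
    rw [h3, orderOf_one] at hx
    exact hp.one_lt.ne hx
  refine ⟨p, M, hp, hMn, hMne, ?_⟩
  intro y
  refine ⟨1, ?_⟩
  rw [pow_one]
  exact Subtype.ext y.2.2

section Count

theorem glau_count : ∀ (n : ℕ) (G : Type u) [Group G] [Fintype G] (A : Subgroup (MulAut G)), Nat.card A = n →
    Group.IsSolvable A → (Nat.card G).Coprime (Nat.card A) →
    Nat.card {χ : IrrCharacter G // InvA A (χ : G → ℂ)} = Nat.card {K : ConjClasses G // InvK A K} := by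
  intro n
  induction n using Nat.strong_induction_on with
  | _ n IH =>
  intro G _ _ A hn hs hcop
  classical
  by_cases hbot : A = ⊥
  · subst hbot
    have h1 : Nat.card {χ : IrrCharacter G // InvA (⊥ : Subgroup (MulAut G)) (χ : G → ℂ)} = Nat.card (IrrCharacter G) := by
      refine Nat.card_congr (Equiv.subtypeUnivEquiv fun χ => ?_)
      intro a ha g
      rw [Subgroup.mem_bot.1 ha]
      rfl
    have h2 : Nat.card {K : ConjClasses G // InvK (⊥ : Subgroup (MulAut G)) K} = Nat.card (ConjClasses G) := by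
      refine Nat.card_congr (Equiv.subtypeUnivEquiv fun K => ?_)
      intro a ha g hg
      rw [Subgroup.mem_bot.1 ha]
      exact hg
    rw [h1, h2, card_irr]
  · haveI : Nontrivial A := (Subgroup.nontrivial_iff_ne_bot A).2 hbot
    obtain ⟨p, R₀, hp, hRn, hRne, hRp⟩ := exists_normal_pgroup hs inferInstance
    let R : Subgroup (MulAut G) := R₀.map A.subtype
    have hRA : R ≤ A := by
      rintro _ ⟨r, -, rfl⟩
      exact r.2
    have hN : ∀ a ∈ A, ∀ r ∈ R, a * r * a⁻¹ ∈ R := by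
      rintro a ha _ ⟨r, hr, rfl⟩
      exact ⟨⟨a, ha⟩ * r * ⟨a, ha⟩⁻¹, hRn.conj_mem r hr _, rfl⟩
    have hR : IsPGroup p R := hRp.map A.subtype
    have hpA : p ∣ Nat.card A := by
      have hne : Nat.card R₀ ≠ 1 := fun h => hRne (Subgroup.eq_bot_of_card_eq _ h)
      haveI : Fact p.Prime := ⟨hp⟩
      obtain ⟨k, hk⟩ := IsPGroup.iff_card.1 hRp
      have hk0 : k ≠ 0 := by
        rintro rfl
        exact hne (by simpa using hk)
      exact (dvd_pow_self p hk0).trans (hk ▸ Subgroup.card_subgroup_dvd_card R₀)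
    have hcopG : ¬ p ∣ Nat.card G := fun h => hp.one_lt.ne' (Nat.dvd_one.1 (hcop ▸ Nat.dvd_gcd h hpA))
    let φ := resHomA hN
    let A₁ := φ.range
    have hlt : Nat.card A₁ < n := by
      by_contra hcon
      have hle : Nat.card A ≤ Nat.card φ.range := by
        rw [hn]
        exact not_lt.1 hcon
      have hb := (φ.rangeRestrict_surjective).bijective_of_nat_card_le hle
      obtain ⟨r, hr⟩ := Subgroup.ne_bot_iff_exists_ne_one.1 hRne
      have h1 : φ.rangeRestrict r.1 = φ.rangeRestrict 1 := by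
        apply Subtype.ext
        rw [map_one]
        show φ r.1 = 1
        ext g
        exact g.2 _ ⟨r, r.2, rfl⟩
      have h2 := hb.1 h1
      exact hr (Subtype.ext h2)
    have hs₁ : Group.IsSolvable A₁ := solvable_of_surjective φ.rangeRestrict_surjective
    have hcop₁ : (Nat.card (fixA R)).Coprime (Nat.card A₁) := by
      have h1 : Nat.card A₁ ∣ Nat.card A := by
        have := φ.ker.index_dvd_card
        rwa [Subgroup.index_ker] at this
      exact Nat.Coprime.coprime_dvd_left (Subgroup.card_subgroup_dvd_card _) (Nat.Coprime.coprime_dvd_right h1 hcop)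
    have h := IH _ hlt (fixA R) A₁ rfl hs₁ hcop₁
    rw [card_chars hp hRA hN hR hcopG, card_classes hp hRA hN hR hcopG]
    exact h

end Count

section Conj

variable {Γ : Type u} [Group Γ]

theorem invK_conj_iff (G S : Subgroup Γ) [Fintype G] (hnorm : ∀ s ∈ S, ∀ g ∈ G, s * g * s⁻¹ ∈ G) (K : ConjClasses G) :
    InvK (conjHomOf G S hnorm).range K ↔
      ∀ s ∈ S, ∀ g g' : G, (g' : Γ) = s * g * s⁻¹ → ConjClasses.mk g = K → ConjClasses.mk g' = K := by
  constructor
  · intro h s hs g g' hg' hK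
    have h1 : g' = conjHomOf G S hnorm ⟨s, hs⟩ g := Subtype.ext hg'
    rw [h1]
    exact h _ ⟨_, rfl⟩ g hK
  · rintro h _ ⟨s, rfl⟩ g hK
    exact h s s.2 g _ rfl hK

theorem conj_count [Fintype Γ] (G S : Subgroup Γ) [Fintype G] (hnorm : ∀ s ∈ S, ∀ g ∈ G, s * g * s⁻¹ ∈ G)
    (hcop : (Nat.card G).Coprime (Nat.card S)) (hsolv : Group.IsSolvable S) :
    Nat.card {χ : IrrCharacter G // ∀ s ∈ S, ∀ g g' : G, (g' : Γ) = s * g * s⁻¹ → (χ : G → ℂ) g' = (χ : G → ℂ) g} =
      Nat.card {K : ConjClasses G // ∀ s ∈ S, ∀ g g' : G, (g' : Γ) = s * g * s⁻¹ → ConjClasses.mk g = K → ConjClasses.mk g' = K} := by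
  classical
  let φ := conjHomOf G S hnorm
  have hs₁ : Group.IsSolvable φ.range := solvable_of_surjective φ.rangeRestrict_surjective
  have hcop₁ : (Nat.card G).Coprime (Nat.card φ.range) := by
    have h1 : Nat.card φ.range ∣ Nat.card S := by
      have := φ.ker.index_dvd_card
      rwa [Subgroup.index_ker] at this
    exact Nat.Coprime.coprime_dvd_right h1 hcop
  have h := glau_count _ G φ.range rfl hs₁ hcop₁
  have e1 : Nat.card {χ : IrrCharacter G // ∀ s ∈ S, ∀ g g' : G, (g' : Γ) = s * g * s⁻¹ → (χ : G → ℂ) g' = (χ : G → ℂ) g} =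
      Nat.card {χ : IrrCharacter G // InvA φ.range (χ : G → ℂ)} :=
    Nat.card_congr (Equiv.subtypeEquivRight fun χ => (invA_conj_iff G S hnorm _).symm)
  have e2 : Nat.card {K : ConjClasses G // ∀ s ∈ S, ∀ g g' : G, (g' : Γ) = s * g * s⁻¹ → ConjClasses.mk g = K → ConjClasses.mk g' = K} =
      Nat.card {K : ConjClasses G // InvK φ.range K} :=
    Nat.card_congr (Equiv.subtypeEquivRight fun K => (invK_conj_iff G S hnorm K).symm)
  rw [e1, e2]
  exact h

end Conj

end Cfsg.Agent.Lib.Glaub2
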