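import Cfsg.Agent.Lib.Glaub2
import Cfsg.Agent.Lib.CharKernel
import Cfsg.Agent.Lib.CharAb
import Cfsg.Agent.Lib.CharInflate

/-!
# Glauberman's lemma and invariant constituents
-/

set_option autoImplicit false
set_option linter.all false

namespace Cfsg.Agent.Lib.GlaubL

open Cfsg Cfsg.Agent.Lib.CharOps Cfsg.Agent.Lib.CharIrr Cfsg.Agent.Lib.Glaub Cfsg.Agent.Lib.Glaub2
open scoped ComplexConjugate

universe u

section Top

variable {M X : Type*} [Group M] [Finite M] [MulAction M X]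

theorem card_subgroupOf_dvd (G K : Subgroup M) : Nat.card (G.subgroupOf K) ∣ Nat.card G := by
  let f : G.subgroupOf K →* G := MonoidHom.mk' (fun a => ⟨a.1.1, a.2⟩) (fun a b => rfl)
  refine Subgroup.card_dvd_of_injective f ?_
  intro a b hab
  have h1 : ((f a : G) : M) = ((f b : G) : M) := congrArg Subtype.val hab
  exact Subtype.ext (Subtype.ext h1)

/-- Glauberman's lemma, the form with a normal subgroup. -/
theorem glauberman_top (G S : Subgroup M) [hG : G.Normal] (hsup : G ⊔ S = ⊤)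
    (hcop : (Nat.card G).Coprime (Nat.card S)) (hs : Group.IsSolvable G ∨ Group.IsSolvable S) (ω₀ : X)
    (h : ∀ s ∈ S, ∃ g ∈ G, s • ω₀ = g • ω₀) : ∃ g ∈ G, ∀ s ∈ S, s • (g • ω₀) = g • ω₀ := by
  classical
  let H : Subgroup M := MulAction.stabilizer M ω₀
  have hGH : H ⊔ G = ⊤ := by
    rw [eq_top_iff]
    intro m _
    have hm : m ∈ G ⊔ S := by
      rw [hsup]
      exact Subgroup.mem_top m
    rw [← SetLike.mem_coe, Subgroup.normal_mul] at hm
    obtain ⟨g, hg, s, hs', rfl⟩ := hm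
    obtain ⟨g', hg', hgs⟩ := h s hs'
    have h1 : g'⁻¹ * s ∈ H := by
      show (g'⁻¹ * s) • ω₀ = ω₀
      rw [mul_smul, hgs, inv_smul_smul]
    have h2 : g * s = (g * g') * (g'⁻¹ * s) := by group
    show g * s ∈ H ⊔ G
    rw [h2, sup_comm]
    exact Subgroup.mul_mem_sup (G.mul_mem hg hg') h1
  have hSG : S ⊔ G = ⊤ := by rw [sup_comm]; exact hsup
  have hindexH : G.relIndex H = G.index := by
    rw [← Subgroup.relIndex_sup_right, hGH, Subgroup.relIndex_top_right]
  have hindexS : G.relIndex S = G.index := by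
    rw [← Subgroup.relIndex_sup_right, hSG, Subgroup.relIndex_top_right]
  have hbot : G.subgroupOf S = ⊥ := by
    apply Subgroup.eq_bot_of_card_eq
    have h1 := card_subgroupOf_dvd G S
    have h2 : Nat.card (G.subgroupOf S) ∣ Nat.card S := Subgroup.card_subgroup_dvd_card _
    exact Nat.dvd_one.1 (hcop ▸ Nat.dvd_gcd h1 h2)
  have hcardS : G.index = Nat.card S := by
    rw [← hindexS, Subgroup.relIndex, hbot, Subgroup.index_bot]
  haveI : (G.subgroupOf H).Normal := Subgroup.normal_subgroupOf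
  have hcop2 : Nat.Coprime (Nat.card (G.subgroupOf H)) (G.subgroupOf H).index := by
    have h1 : (G.subgroupOf H).index = Nat.card S := by
      rw [← Subgroup.relIndex, hindexH, hcardS]
    rw [h1]
    exact Nat.Coprime.coprime_dvd_left (card_subgroupOf_dvd G H) hcop
  obtain ⟨U₀, hU₀⟩ := Subgroup.exists_right_complement'_of_coprime hcop2
  have hcardU₀ : Nat.card U₀ = Nat.card S := by
    rw [← hU₀.symm.index_eq_card, ← Subgroup.relIndex, hindexH, hcardS]
  let U : Subgroup M := U₀.map H.subtype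
  have hcardU : Nat.card U = Nat.card S := by
    rw [← hcardU₀]
    exact Nat.card_congr (U₀.equivMapOfInjective H.subtype H.subtype_injective).toEquiv.symm
  have hUH : U ≤ H := by
    rintro _ ⟨u, -, rfl⟩
    exact u.2
  obtain ⟨n, hn, hmap⟩ := Cfsg.Agent.Lib.SchurZ.sz_conj_ambient G S U
    (fun s _ => by
      rw [Subgroup.mem_normalizer_iff]
      intro g
      constructor
      · intro hg'
        exact hG.conj_mem g hg' s
      · intro hg'
        have := hG.conj_mem _ hg' s⁻¹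
        simpa [mul_assoc] using this)
    (by rw [hsup]; exact le_top) hcardU hcop hs
  refine ⟨n⁻¹, G.inv_mem hn, fun s hs' => ?_⟩
  have h1 : (MulAut.conj n).toMonoidHom s ∈ U := by
    rw [← hmap]
    exact Subgroup.mem_map_of_mem _ hs'
  have h2 : (n * s * n⁻¹) • ω₀ = ω₀ := hUH h1
  rw [← mul_smul]
  have h3 : s * n⁻¹ = n⁻¹ * (n * s * n⁻¹) := by group
  rw [h3, mul_smul, h2]

/-- Glauberman's lemma, the ambient form. -/
theorem glauberman_amb (G S : Subgroup M) (hnorm : ∀ s ∈ S, ∀ g ∈ G, s * g * s⁻¹ ∈ G)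
    (hcop : (Nat.card G).Coprime (Nat.card S)) (hs : Group.IsSolvable G ∨ Group.IsSolvable S) (ω₀ : X)
    (h : ∀ s ∈ S, ∃ g ∈ G, s • ω₀ = g • ω₀) : ∃ g ∈ G, ∀ s ∈ S, s • (g • ω₀) = g • ω₀ := by
  classical
  let T : Subgroup M := G ⊔ S
  have hGT : G ≤ T := le_sup_left
  have hST : S ≤ T := le_sup_right
  have hSN : S ≤ Subgroup.normalizer (G : Set M) := by
    intro s hs'
    rw [Subgroup.mem_normalizer_iff]
    intro g
    constructor
    · intro hg'
      exact hnorm s hs' g hg'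
    · intro hg'
      have := hnorm s⁻¹ (S.inv_mem hs') _ hg'
      simpa [mul_assoc] using this
  have hTN : T ≤ Subgroup.normalizer (G : Set M) := sup_le Subgroup.le_normalizer hSN
  haveI hG₀ : (G.subgroupOf T).Normal := Subgroup.normal_subgroupOf_of_le_normalizer hTN
  have hsup : G.subgroupOf T ⊔ S.subgroupOf T = ⊤ := by
    apply Subgroup.map_injective T.subtype_injective
    rw [Subgroup.map_sup, Subgroup.map_subgroupOf_eq_of_le hGT, Subgroup.map_subgroupOf_eq_of_le hST,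
      ← MonoidHom.range_eq_map, Subgroup.range_subtype]
  let eG : G.subgroupOf T ≃* G := Subgroup.subgroupOfEquivOfLe hGT
  let eS : S.subgroupOf T ≃* S := Subgroup.subgroupOfEquivOfLe hST
  have hcop' : (Nat.card (G.subgroupOf T)).Coprime (Nat.card (S.subgroupOf T)) := by
    rw [Nat.card_congr eG.toEquiv, Nat.card_congr eS.toEquiv]
    exact hcop
  have hs' : Group.IsSolvable (G.subgroupOf T) ∨ Group.IsSolvable (S.subgroupOf T) := by
    rcases hs with h1 | h1
    · left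
      haveI := h1
      exact solvable_of_surjective (f := eG.symm.toMonoidHom) eG.symm.surjective
    · right
      haveI := h1
      exact solvable_of_surjective (f := eS.symm.toMonoidHom) eS.symm.surjective
  obtain ⟨g, hg, hgs⟩ := glauberman_top (X := X) (G.subgroupOf T) (S.subgroupOf T) hsup hcop' hs' ω₀ (by
    intro s hs''
    obtain ⟨g, hg, hgs⟩ := h s.1 hs''
    exact ⟨⟨g, hGT hg⟩, hg, hgs⟩)
  refine ⟨g.1, hg, fun s hs'' => ?_⟩
  exact hgs ⟨s, hST hs''⟩ hs''

end Top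

section Aut

variable {N : Type u} [Group N] [Fintype N]

/-- The permutation action of automorphisms on irreducible characters. -/
noncomputable def permIrr : MulAut N →* Equiv.Perm (IrrCharacter N) :=
  MonoidHom.mk' (fun a =>
    { toFun := BlockPair.irrComp a⁻¹
      invFun := BlockPair.irrComp a
      left_inv := fun θ => Subtype.ext (by
        funext x
        simp [BlockPair.irrComp_apply])
      right_inv := fun θ => Subtype.ext (by
        funext x
        simp [BlockPair.irrComp_apply]) })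
    (fun a b => by
      ext θ x
      simp [BlockPair.irrComp_apply])

theorem permIrr_apply (a : MulAut N) (θ : IrrCharacter N) (x : N) :
    ((permIrr a θ : IrrCharacter N) : N → ℂ) x = (θ : N → ℂ) (a⁻¹ x) := rfl

end Aut

section Lift

variable {G N T : Type u} [Group G] [Group N] [Group T]

/-- Transport of a hom to automorphisms of an invariant copy of `N`. -/
noncomputable def liftAut (ι : N →* G) (hι : Function.Injective ι) (τ : T →* MulAut G)
    (hτ : ∀ t x, τ t (ι x) ∈ ι.range) : T →* MulAut N := by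
  classical
  refine MonoidHom.mk' (fun t =>
    { toFun := fun x => (hτ t x).choose
      invFun := fun x => (hτ t⁻¹ x).choose
      left_inv := ?_
      right_inv := ?_
      map_mul' := ?_ }) ?_
  · intro x
    apply hι
    rw [(hτ t⁻¹ _).choose_spec, (hτ t x).choose_spec, map_inv, MulAut.inv_apply_self]
  · intro x
    apply hι
    rw [(hτ t _).choose_spec, (hτ t⁻¹ x).choose_spec, map_inv, MulAut.apply_inv_self]
  · intro x y
    apply hι
    rw [(hτ t (x * y)).choose_spec, map_mul ι (hτ t x).choose, (hτ t x).choose_spec, (hτ t y).choose_spec, map_mul ι x y, map_mul]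
  · intro a b
    ext x
    apply hι
    have e1 := (hτ (a * b) x).choose_spec
    have e2 := (hτ a (hτ b x).choose).choose_spec
    have e3 := (hτ b x).choose_spec
    show ι ((hτ (a * b) x).choose) = ι ((hτ a (hτ b x).choose).choose)
    rw [e1, e2, e3, map_mul, MulAut.mul_apply]

theorem liftAut_spec (ι : N →* G) (hι : Function.Injective ι) (τ : T →* MulAut G)
    (hτ : ∀ t x, τ t (ι x) ∈ ι.range) (t : T) (x : N) : ι (liftAut ι hι τ hτ t x) = τ t (ι x) :=
  (hτ t x).choose_spec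

end Lift

section Clifford

variable {G N : Type u} [Group G] [Fintype G] [Group N] [Fintype N]

/-- Invariance relative to an embedding. -/
def InvI (A : Subgroup (MulAut G)) (ι : N →* G) (θ : N → ℂ) : Prop :=
  ∀ a ∈ A, ∀ n n' : N, ι n' = a (ι n) → θ n' = θ n

/-- The conjugation action on `N`. -/
noncomputable def conjN (ι : N →* G) (hι : Function.Injective ι) (hn : ι.range.Normal) : G →* MulAut N :=
  liftAut ι hι (MulAut.conj : G →* MulAut G) (fun t x => hn.conj_mem _ ⟨x, rfl⟩ t)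

theorem conjN_spec (ι : N →* G) (hι : Function.Injective ι) (hn : ι.range.Normal) (g : G) (x : N) :
    ι (conjN ι hι hn g x) = g * ι x * g⁻¹ :=
  liftAut_spec ι hι (MulAut.conj : G →* MulAut G) (fun t x => hn.conj_mem _ ⟨x, rfl⟩ t) g x

theorem conjN_of_range (ι : N →* G) (hι : Function.Injective ι) (hn : ι.range.Normal) (n₀ x : N) :
    conjN ι hι hn (ι n₀) x = n₀ * x * n₀⁻¹ := by
  apply hι
  rw [conjN_spec]
  simp

/-- The inner product with a twisted character. -/
theorem inner_permIrr (f : N → ℂ) (b : MulAut N) (hf : ∀ x, f (b x) = f x) (θ : IrrCharacter N) :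
    classInner f (permIrr b θ : N → ℂ) = classInner f (θ : N → ℂ) := by
  have h := Cfsg.Agent.Lib.CharCliff.classInner_comp_mulEquiv b f (permIrr b θ : N → ℂ)
  rw [← h]
  congr 1
  · funext x
    exact hf x
  · funext x
    rw [permIrr_apply]
    simp

theorem clifford_trans (ι : N →* G) (hι : Function.Injective ι) (hn : ι.range.Normal) (χ : IrrCharacter G)
    (θ₁ θ₂ : IrrCharacter N) (h₁ : classInner (fun x => (χ : G → ℂ) (ι x)) (θ₁ : N → ℂ) ≠ 0)
    (h₂ : classInner (fun x => (χ : G → ℂ) (ι x)) (θ₂ : N → ℂ) ≠ 0) :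
    ∃ g : G, permIrr (conjN ι hι hn g) θ₁ = θ₂ := by
  classical
  let N' : Subgroup G := ι.range
  haveI hN' : N'.Normal := hn
  letI : Fintype N' := Fintype.ofFinite _
  let σ : N ≃* N' := MonoidHom.ofInjective hι
  have hσ : ∀ x : N, ((σ x : N') : G) = ι x := fun x => rfl
  let θ₁' : IrrCharacter N' := BlockPair.irrComp σ.symm θ₁
  let θ₂' : IrrCharacter N' := BlockPair.irrComp σ.symm θ₂
  have hin : ∀ θ : IrrCharacter N, classInner (fun n : N' => (χ : G → ℂ) n) (BlockPair.irrComp σ.symm θ : N' → ℂ) =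
      classInner (fun x => (χ : G → ℂ) (ι x)) (θ : N → ℂ) := by
    intro θ
    rw [← Cfsg.Agent.Lib.CharCliff.classInner_comp_mulEquiv σ]
    congr 1
    funext x
    simp [BlockPair.irrComp_apply]
  have hc := Cfsg.Agent.Lib.CharNormal.clifford N' hN' χ.2 θ₁'.2 (by
    show classInner (fun n : N' => (χ : G → ℂ) n) (BlockPair.irrComp σ.symm θ₁ : N' → ℂ) ≠ 0
    rw [hin]
    exact h₁)
  by_contra hno
  push_neg at hno
  apply h₂
  rw [← hin θ₂]
  have hfin : {ψ : N' → ℂ | ∃ g : G, ψ = fun n : N' => (θ₁' : N' → ℂ) ⟨g * n * g⁻¹, hN'.conj_mem n n.2 g⟩}.Finite := by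
    refine (Set.finite_range (fun g : G => fun n : N' => (θ₁' : N' → ℂ) ⟨g * n * g⁻¹, hN'.conj_mem n n.2 g⟩)).subset ?_
    rintro ψ ⟨g, rfl⟩
    exact ⟨g, rfl⟩
  rw [hc, classInner_smul_left, finsum_mem_eq_finite_toFinset_sum _ hfin, classInner_sum_left]
  rw [Finset.sum_eq_zero, mul_zero]
  intro ψ hψ
  rw [Set.Finite.mem_toFinset] at hψ
  obtain ⟨g, rfl⟩ := hψ
  have hirr : IsIrrCharacter N' (fun n : N' => (θ₁' : N' → ℂ) ⟨g * n * g⁻¹, hN'.conj_mem n n.2 g⟩) :=
    Cfsg.Agent.Lib.CharNormal.isIrr_conjFun N' θ₁'.2 g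
  rw [classInner_irr hirr (BlockPair.irrComp σ.symm θ₂).2, if_neg]
  intro h
  apply hno g⁻¹
  apply Subtype.ext
  funext x
  rw [permIrr_apply, ← map_inv, inv_inv]
  have h3 := congrFun h (σ x)
  have h4 : (⟨g * (σ x : N') * g⁻¹, hN'.conj_mem _ (σ x).2 g⟩ : N') = σ (conjN ι hι hn g x) := by
    apply Subtype.ext
    show g * ((σ x : N') : G) * g⁻¹ = ((σ (conjN ι hι hn g x) : N') : G)
    rw [hσ, hσ, conjN_spec]
  simp only [h4] at h3
  have h5 : (θ₁' : N' → ℂ) (σ (conjN ι hι hn g x)) = (θ₁ : N → ℂ) (conjN ι hι hn g x) := by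
    show (θ₁ : N → ℂ) (σ.symm (σ (conjN ι hι hn g x))) = _
    rw [MulEquiv.symm_apply_apply]
  have h6 : (BlockPair.irrComp σ.symm θ₂ : N' → ℂ) (σ x) = (θ₂ : N → ℂ) x := by
    rw [BlockPair.irrComp_apply, MulEquiv.symm_apply_apply]
  rw [← h5, h3, h6]

theorem inv_constituent (ι : N →* G) (hι : Function.Injective ι) (N' : Subgroup G) [hN' : N'.Normal] (hr : ι.range = N')
    (A : Subgroup (MulAut G)) (hAN : ∀ a ∈ A, ∀ x, a (ι x) ∈ ι.range) (hcop : (N'.index).Coprime (Nat.card A))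
    (hs : Group.IsSolvable A ∨ Group.IsSolvable (G ⧸ N')) (χ : IrrCharacter G) (hinv : InvA A (χ : G → ℂ)) :
    ∃ θ : IrrCharacter N, classInner (fun x => (χ : G → ℂ) (ι x)) (θ : N → ℂ) ≠ 0 ∧ InvI A ι (θ : N → ℂ) := by
  classical
  have hn : ι.range.Normal := hr ▸ hN'
  have hres : IsCharacter N (fun x => (χ : G → ℂ) (ι x)) := isCharacter_comp ι (IsIrrCharacter.isCharacter' χ.2)
  obtain ⟨θ₀, hθ₀, hθ₀'⟩ := Cfsg.Agent.Lib.CharAb.exists_constituent hres (by
    rw [map_one, Cfsg.Agent.Lib.CharAb.apply_one_eq_deg]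
    exact_mod_cast (Cfsg.Agent.Lib.CharAb.deg_pos χ).ne')
  let φG : G →* Equiv.Perm (IrrCharacter N) := permIrr.comp (conjN ι hι hn)
  let τ : A →* MulAut N := liftAut ι hι A.subtype (fun t x => hAN t.1 t.2 x)
  have hτ : ∀ (a : A) (x : N), ι (τ a x) = a.1 (ι x) := fun a x =>
    liftAut_spec ι hι A.subtype (fun t x => hAN t.1 t.2 x) a x
  have hτinv : ∀ (a : A) (x : N), ι ((τ a)⁻¹ x) = (a.1)⁻¹ (ι x) := by
    intro a x
    rw [← map_inv, hτ]
    rfl
  let φA : A →* Equiv.Perm (IrrCharacter N) := permIrr.comp τ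
  have hfG : ∀ (g : G) (x : N), (χ : G → ℂ) (ι (conjN ι hι hn g x)) = (χ : G → ℂ) (ι x) := by
    intro g x
    rw [conjN_spec]
    have := IsCharacter.isClassFunction' (IsIrrCharacter.isCharacter' χ.2)
    exact this _ _
  have hfA : ∀ (a : A) (x : N), (χ : G → ℂ) (ι (τ a x)) = (χ : G → ℂ) (ι x) := by
    intro a x
    rw [hτ]
    exact hinv a.1 a.2 _
  have hnorm : ∀ s ∈ φA.range, ∀ g ∈ φG.range, s * g * s⁻¹ ∈ φG.range := by
    rintro _ ⟨a, rfl⟩ _ ⟨x, rfl⟩
    refine ⟨a.1 x, ?_⟩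
    have h1 : τ a * conjN ι hι hn x * (τ a)⁻¹ = conjN ι hι hn (a.1 x) := by
      ext y
      apply hι
      rw [conjN_spec, MulAut.mul_apply, MulAut.mul_apply, hτ, conjN_spec, hτinv, map_mul, map_mul, map_inv]
      simp
    show permIrr (conjN ι hι hn (a.1 x)) = _
    rw [← h1, map_mul, map_mul, map_inv]
    rfl
  have hkerG : N' ≤ φG.ker := by
    rw [← hr]
    rintro _ ⟨n₀, rfl⟩
    rw [MonoidHom.mem_ker]
    ext θ y
    show ((permIrr (conjN ι hι hn (ι n₀)) θ : IrrCharacter N) : N → ℂ) y = (θ : N → ℂ) y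
    rw [permIrr_apply, ← map_inv, ← map_inv, conjN_of_range]
    have := IsCharacter.isClassFunction' (IsIrrCharacter.isCharacter' θ.2)
    simpa using this y n₀⁻¹
  have hcardG : Nat.card φG.range ∣ N'.index := by
    rw [← Subgroup.index_ker]
    exact Subgroup.index_dvd_of_le hkerG
  have hcardA : Nat.card φA.range ∣ Nat.card A := by
    rw [← Subgroup.index_ker]
    exact φA.ker.index_dvd_card
  have hcop' : (Nat.card φG.range).Coprime (Nat.card φA.range) :=
    Nat.Coprime.coprime_dvd_left hcardG (Nat.Coprime.coprime_dvd_right hcardA hcop)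
  have hs' : Group.IsSolvable φG.range ∨ Group.IsSolvable φA.range := by
    rcases hs with h1 | h1
    · right
      haveI := h1
      exact solvable_of_surjective φA.rangeRestrict_surjective
    · left
      haveI := h1
      have h2 : N' ≤ φG.rangeRestrict.ker := by
        rw [MonoidHom.ker_rangeRestrict]
        exact hkerG
      exact solvable_of_surjective (f := QuotientGroup.lift N' φG.rangeRestrict (fun x hx => h2 hx))
        (QuotientGroup.lift_surjective_of_surjective _ _ φG.rangeRestrict_surjective _)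
  have hθ₀'' : classInner (fun x => (χ : G → ℂ) (ι x)) (⟨θ₀, hθ₀⟩ : IrrCharacter N).1 ≠ 0 := hθ₀'
  have hstep : ∀ s ∈ φA.range, ∃ g ∈ φG.range, s • (⟨θ₀, hθ₀⟩ : IrrCharacter N) = g • (⟨θ₀, hθ₀⟩ : IrrCharacter N) := by
    rintro _ ⟨a, rfl⟩
    have h1 : classInner (fun x => (χ : G → ℂ) (ι x)) (permIrr (τ a) ⟨θ₀, hθ₀⟩ : N → ℂ) ≠ 0 := by
      rw [inner_permIrr _ (τ a) (hfA a)]
      exact hθ₀''
    obtain ⟨g, hg⟩ := clifford_trans ι hι hn χ ⟨θ₀, hθ₀⟩ _ hθ₀'' h1
    exact ⟨φG g, ⟨g, rfl⟩, hg.symm⟩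
  obtain ⟨g, ⟨x, rfl⟩, hfixed⟩ := glauberman_amb (X := IrrCharacter N) φG.range φA.range hnorm hcop' hs' ⟨θ₀, hθ₀⟩ hstep
  refine ⟨φG x • ⟨θ₀, hθ₀⟩, ?_, ?_⟩
  · show classInner _ (permIrr (conjN ι hι hn x) ⟨θ₀, hθ₀⟩ : N → ℂ) ≠ 0
    rw [inner_permIrr _ _ (hfG x)]
    exact hθ₀''
  · intro a ha n n' hnn
    have h1 := hfixed (φA ⟨a, ha⟩⁻¹) ⟨_, rfl⟩
    have h2 : n' = τ ⟨a, ha⟩ n := hι (by rw [hnn, hτ])
    rw [h2]
    have h3 := congrArg (fun θ : IrrCharacter N => (θ : N → ℂ) n) h1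
    have h4 : ((φA ⟨a, ha⟩⁻¹ • (φG x • ⟨θ₀, hθ₀⟩) : IrrCharacter N) : N → ℂ) n =
        ((φG x • ⟨θ₀, hθ₀⟩ : IrrCharacter N) : N → ℂ) (τ ⟨a, ha⟩ n) := by
      show ((permIrr (τ ⟨a, ha⟩⁻¹) (φG x • ⟨θ₀, hθ₀⟩) : IrrCharacter N) : N → ℂ) n = _
      rw [permIrr_apply, ← map_inv, inv_inv]
    have h5 : ((φA ⟨a, ha⟩⁻¹ • (φG x • ⟨θ₀, hθ₀⟩) : IrrCharacter N) : N → ℂ) n = ((φG x • ⟨θ₀, hθ₀⟩ : IrrCharacter N) : N → ℂ) n := h3
    rw [h4] at h5
    exact h5

end Clifford

section Conj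

variable {Γ : Type u} [Group Γ]

theorem range_inclusion' (G N : Subgroup Γ) (hNG : N ≤ G) : (Subgroup.inclusion hNG).range = N.subgroupOf G := by
  ext x
  constructor
  · rintro ⟨y, rfl⟩
    exact y.2
  · intro h
    exact ⟨⟨x.1, h⟩, rfl⟩

theorem inv_constituent_conj [Fintype Γ] (G S N : Subgroup Γ) [Fintype G] [Fintype N]
    (hnorm : ∀ s ∈ S, ∀ g ∈ G, s * g * s⁻¹ ∈ G) (hNG : N ≤ G) [hNn : (N.subgroupOf G).Normal]
    (hNS : ∀ s ∈ S, ∀ n ∈ N, s * n * s⁻¹ ∈ N) (hcop : (N.relIndex G).Coprime (Nat.card S))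
    (hsolv : Group.IsSolvable S ∨ Group.IsSolvable (G ⧸ N.subgroupOf G)) (χ : IrrCharacter G)
    (hinv : ∀ s ∈ S, ∀ g g' : G, (g' : Γ) = s * g * s⁻¹ → (χ : G → ℂ) g' = (χ : G → ℂ) g) :
    ∃ θ : IrrCharacter N, classInner (fun n : N => (χ : G → ℂ) ⟨n, hNG n.2⟩) (θ : N → ℂ) ≠ 0 ∧
      ∀ s ∈ S, ∀ g g' : N, (g' : Γ) = s * g * s⁻¹ → (θ : N → ℂ) g' = (θ : N → ℂ) g := by
  classical
  let φ := conjHomOf G S hnorm
  have hcard : Nat.card φ.range ∣ Nat.card S := by
    rw [← Subgroup.index_ker]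
    exact φ.ker.index_dvd_card
  obtain ⟨θ, h1, h2⟩ := inv_constituent (Subgroup.inclusion hNG) (Subgroup.inclusion_injective hNG) (N.subgroupOf G)
    (range_inclusion' G N hNG) φ.range (by
      rintro _ ⟨s, rfl⟩ x
      exact ⟨⟨_, hNS s s.2 x x.2⟩, rfl⟩)
    (Nat.Coprime.coprime_dvd_right hcard hcop)
    (by
      rcases hsolv with h1 | h1
      · left
        haveI := h1
        exact solvable_of_surjective φ.rangeRestrict_surjective
      · right
        exact h1)
    χ ((invA_conj_iff G S hnorm _).2 hinv)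
  refine ⟨θ, h1, fun s hs g g' hg => ?_⟩
  exact h2 _ ⟨⟨s, hs⟩, rfl⟩ g g' (Subtype.ext hg)

end Conj

end Cfsg.Agent.Lib.GlaubL
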