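import Cfsg.Agent.Lib.GlaubL
import Cfsg.Agent.Lib.CharGen

/-!
# Invariant characters over invariant characters of normal subgroups with solvable quotient
-/

set_option autoImplicit false
set_option linter.all false

namespace Cfsg.Agent.Lib.GlaubM

open Cfsg Cfsg.Agent.Lib.CharOps Cfsg.Agent.Lib.CharIrr Cfsg.Agent.Lib.Glaub Cfsg.Agent.Lib.Glaub2
  Cfsg.Agent.Lib.GlaubL
open scoped ComplexConjugate commutatorElement

universe u

section Tw

variable {G : Type u} [Group G] [Fintype G]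

/-- The product of a linear character and an irreducible character. -/
noncomputable def twist (l : G →* ℂˣ) (χ : IrrCharacter G) : IrrCharacter G :=
  ⟨fun g => (l g : ℂ) * (χ : G → ℂ) g, by
    apply isIrr_of_norm_one
    · exact isCharacter_mul (IsIrrCharacter.isCharacter' (Cfsg.Agent.Lib.CharAb.isIrrCharacter_of_hom l))
        (IsIrrCharacter.isCharacter' χ.2)
    · have h1 := classInner_irr χ.2 χ.2
      rw [if_pos rfl] at h1
      rw [← h1]
      unfold classInner
      congr 1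
      refine Finset.sum_congr rfl fun g _ => ?_
      have h2 : (l g : ℂ) * conj (l g : ℂ) = 1 := by
        rw [Complex.mul_conj, Complex.normSq_eq_norm_sq]
        have h3 := Cfsg.Agent.Lib.CharCliff.norm_eq_one_of_degree_one
          (IsIrrCharacter.isCharacter' (Cfsg.Agent.Lib.CharAb.isIrrCharacter_of_hom l)) (by simp) g
        rw [h3]
        simp
      rw [map_mul]
      calc (l g : ℂ) * (χ : G → ℂ) g * (conj (l g : ℂ) * conj ((χ : G → ℂ) g))
          = ((l g : ℂ) * conj (l g : ℂ)) * ((χ : G → ℂ) g * conj ((χ : G → ℂ) g)) := by ring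
        _ = _ := by rw [h2, one_mul]⟩

@[simp] theorem twist_apply (l : G →* ℂˣ) (χ : IrrCharacter G) (g : G) :
    (twist l χ : G → ℂ) g = (l g : ℂ) * (χ : G → ℂ) g := rfl

/-- The action of the linear characters on irreducible characters. -/
noncomputable def lin : (G →* ℂˣ) →* Equiv.Perm (IrrCharacter G) :=
  MonoidHom.mk' (fun l =>
    { toFun := twist l
      invFun := twist l⁻¹
      left_inv := fun χ => Subtype.ext (by
        funext g
        simp [twist_apply])
      right_inv := fun χ => Subtype.ext (by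
        funext g
        simp [twist_apply]) })
    (fun a b => by
      ext χ g
      show ((a * b) g : ℂ) * (χ : G → ℂ) g = (a g : ℂ) * ((b g : ℂ) * (χ : G → ℂ) g)
      simp [mul_assoc])

theorem lin_apply (l : G →* ℂˣ) (χ : IrrCharacter G) (g : G) :
    ((lin l χ : IrrCharacter G) : G → ℂ) g = (l g : ℂ) * (χ : G → ℂ) g := rfl

/-- Linear characters trivial on a subgroup. -/
def Lam (K : Subgroup G) : Subgroup (G →* ℂˣ) where
  carrier := {l | ∀ x ∈ K, l x = 1}
  mul_mem' := by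
    intro a b ha hb x hx
    show a x * b x = 1
    rw [ha x hx, hb x hx, one_mul]
  one_mem' := fun x _ => rfl
  inv_mem' := by
    intro a ha x hx
    show (a x)⁻¹ = 1
    rw [ha x hx, inv_one]

end Tw

section Trans

variable {G : Type u} [Group G] [Fintype G] {D N : Type u} [Group D] [Fintype D] [Group N] [Fintype N]

theorem over_trans {f : D → ℂ} (hf : IsCharacter D f) (ι : N →* D) (ψ : IrrCharacter D) (θ : IrrCharacter N)
    (h1 : classInner f (ψ : D → ℂ) ≠ 0) (h2 : classInner (fun x => (ψ : D → ℂ) (ι x)) (θ : N → ℂ) ≠ 0) :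
    classInner (fun x => f (ι x)) (θ : N → ℂ) ≠ 0 := by
  classical
  have hexp := classFunction_expand (IsCharacter.isClassFunction' hf)
  choose m hm using fun β' : IrrCharacter D => exists_nat_classInner hf (IsIrrCharacter.isCharacter' β'.2)
  choose n hn using fun β' : IrrCharacter D =>
    exists_nat_classInner (isCharacter_comp ι (IsIrrCharacter.isCharacter' β'.2)) (IsIrrCharacter.isCharacter' θ.2)
  have h3 : classInner (fun x => f (ι x)) (θ : N → ℂ) = ((∑ β', m β' * n β' : ℕ) : ℂ) := by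
    have h4 : (fun c => f (ι c)) = ∑ β' : IrrCharacter D, (m β' : ℂ) • (fun c => (β' : D → ℂ) (ι c)) := by
      funext c
      conv_lhs => rw [hexp]
      simp [hm]
    rw [h4, classInner_sum_left]
    push_cast
    refine Finset.sum_congr rfl fun β' _ => ?_
    rw [classInner_smul_left, hn]
  rw [h3]
  have h5 : m ψ ≠ 0 := by
    intro h
    apply h1
    rw [hm, h]
    simp
  have h6 : n ψ ≠ 0 := by
    intro h
    apply h2
    rw [hn, h]
    simp
  have h7 : 0 < ∑ β', m β' * n β' :=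
    Finset.sum_pos' (fun _ _ => Nat.zero_le _) ⟨ψ, Finset.mem_univ _, Nat.mul_pos (Nat.pos_of_ne_zero h5) (Nat.pos_of_ne_zero h6)⟩
  exact_mod_cast h7.ne'

variable (K : Subgroup G) [hK : K.Normal] [Fintype K]

theorem inner_res_ne_zero (χ₁ χ₂ : IrrCharacter G) (ψ : IrrCharacter K)
    (h₁ : classInner (fun n : K => (χ₁ : G → ℂ) n) (ψ : K → ℂ) ≠ 0)
    (h₂ : classInner (fun n : K => (χ₂ : G → ℂ) n) (ψ : K → ℂ) ≠ 0) :
    classInner (fun n : K => (χ₁ : G → ℂ) n) (fun n : K => (χ₂ : G → ℂ) n) ≠ 0 := by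
  classical
  have hc₁ := isCharacter_restrict K (IsIrrCharacter.isCharacter' χ₁.2)
  have hc₂ := isCharacter_restrict K (IsIrrCharacter.isCharacter' χ₂.2)
  rw [inner_parseval (IsCharacter.isClassFunction' hc₁)]
  choose m hm using fun β' : IrrCharacter K => exists_nat_classInner hc₁ (IsIrrCharacter.isCharacter' β'.2)
  choose n hn using fun β' : IrrCharacter K => exists_nat_classInner hc₂ (IsIrrCharacter.isCharacter' β'.2)
  simp only [hm, hn, Complex.conj_natCast]
  have h5 : m ψ ≠ 0 := by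
    intro h
    apply h₁
    rw [hm, h]
    simp
  have h6 : n ψ ≠ 0 := by
    intro h
    apply h₂
    rw [hn, h]
    simp
  have h7 : 0 < ∑ β', m β' * n β' :=
    Finset.sum_pos' (fun _ _ => Nat.zero_le _) ⟨ψ, Finset.mem_univ _, Nat.mul_pos (Nat.pos_of_ne_zero h5) (Nat.pos_of_ne_zero h6)⟩
  exact_mod_cast h7.ne'

theorem over_transitive (hab : commutator G ≤ K) (χ₁ χ₂ : IrrCharacter G) (ψ : IrrCharacter K)
    (h₁ : classInner (fun n : K => (χ₁ : G → ℂ) n) (ψ : K → ℂ) ≠ 0)
    (h₂ : classInner (fun n : K => (χ₂ : G → ℂ) n) (ψ : K → ℂ) ≠ 0) :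
    ∃ l ∈ Lam K, twist l χ₁ = χ₂ := by
  classical
  have hχ₁ := IsCharacter.isClassFunction' (IsIrrCharacter.isCharacter' χ₁.2)
  have hχ₂ := IsCharacter.isClassFunction' (IsIrrCharacter.isCharacter' χ₂.2)
  have h3 := inner_res_ne_zero K χ₁ χ₂ ψ h₁ h₂
  let ρ : G → ℂ := indFun K (fun _ => 1)
  have hρc : IsClassFunction G ρ := indFun_isClassFunction K _
  have h4 : classInner (fun g => ρ g * (χ₁ : G → ℂ) g) (χ₂ : G → ℂ) ≠ 0 := by
    have h5 : (fun g => ρ g * (χ₁ : G → ℂ) g) = indFun K (fun n : K => (1 : ℂ) * (χ₁ : G → ℂ) n) := by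
      funext g
      exact (Cfsg.Agent.Lib.CharGen.indFun_mul_restrict K (fun _ => 1) hχ₁ g).symm
    rw [h5, frobenius_reciprocity K _ hχ₂]
    simpa using h3
  have hexp := classFunction_expand hρc
  have h6 : ∃ ξ : IrrCharacter G, classInner ρ (ξ : G → ℂ) ≠ 0 ∧
      classInner (fun g => (ξ : G → ℂ) g * (χ₁ : G → ℂ) g) (χ₂ : G → ℂ) ≠ 0 := by
    by_contra hcon
    push_neg at hcon
    apply h4
    have h7 : (fun g => ρ g * (χ₁ : G → ℂ) g) =
        ∑ ξ : IrrCharacter G, classInner ρ (ξ : G → ℂ) • (fun g => (ξ : G → ℂ) g * (χ₁ : G → ℂ) g) := by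
      funext g
      conv_lhs => rw [hexp]
      simp [Finset.sum_mul, mul_assoc]
    rw [h7, classInner_sum_left]
    refine Finset.sum_eq_zero fun ξ _ => ?_
    rw [classInner_smul_left]
    by_cases h8 : classInner ρ (ξ : G → ℂ) = 0
    · rw [h8, zero_mul]
    · rw [hcon ξ h8, mul_zero]
  obtain ⟨ξ, hξ1, hξ2⟩ := h6
  have hξc := IsCharacter.isClassFunction' (IsIrrCharacter.isCharacter' ξ.2)
  have hin : classInner (fun n : K => (ξ : G → ℂ) n) (fun _ => (1 : ℂ)) ≠ 0 := by
    have h7 := frobenius_reciprocity K (fun _ => (1 : ℂ)) hξc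
    intro h8
    apply hξ1
    show classInner (indFun K (fun _ => (1 : ℂ))) _ = 0
    rw [h7, ← classInner_conj, h8, map_zero]
  have hclif := Cfsg.Agent.Lib.CharNormal.clifford K hK ξ.2 (Cfsg.Agent.Lib.CharIso.isIrr_one) hin
  have hset : {ψ : K → ℂ | ∃ g : G, ψ = fun n : K =>
      (fun _ : K => (1 : ℂ)) ⟨g * n * g⁻¹, hK.conj_mem n n.2 g⟩} = {fun _ => (1 : ℂ)} := by
    ext ψ
    constructor
    · rintro ⟨g, rfl⟩
      rfl
    · rintro rfl
      exact ⟨1, rfl⟩
  rw [hset, finsum_mem_singleton] at hclif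
  have hker : ∀ n ∈ K, (ξ : G → ℂ) n = (ξ : G → ℂ) 1 := by
    intro n hn
    have h3 := congrFun hclif ⟨n, hn⟩
    have h4 := congrFun hclif 1
    simp only [Pi.smul_apply, smul_eq_mul, mul_one] at h3 h4
    rw [show ((1 : K) : G) = 1 from rfl] at h4
    exact h3.trans h4.symm
  obtain ⟨ξ₀, hξ₀, hξ₀'⟩ := Cfsg.Agent.Lib.CharInflate.exists_quotient_irr K ξ.2 hker
  letI : Fintype (G ⧸ K) := Fintype.ofFinite _
  have hcomm : ∀ a b : G ⧸ K, a * b = b * a := by
    intro a b
    obtain ⟨a, rfl⟩ := QuotientGroup.mk_surjective a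
    obtain ⟨b, rfl⟩ := QuotientGroup.mk_surjective b
    rw [← QuotientGroup.mk_mul, ← QuotientGroup.mk_mul, QuotientGroup.eq]
    apply hab
    have : (a * b)⁻¹ * (b * a) = ⁅b⁻¹, a⁻¹⁆ := by
      simp [commutatorElement_def, mul_assoc]
    rw [this]
    exact Subgroup.commutator_mem_commutator (Subgroup.mem_top _) (Subgroup.mem_top _)
  have hdeg := (Cfsg.Agent.Lib.CharAb.commutative_iff_deg_one (G := G ⧸ K)).1 hcomm ⟨ξ₀, hξ₀⟩
  have h1' : ξ₀ 1 = 1 := by
    have := Cfsg.Agent.Lib.CharAb.apply_one_eq_deg (⟨ξ₀, hξ₀⟩ : IrrCharacter (G ⧸ K))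
    rw [hdeg] at this
    simpa using this
  let l₀ : G ⧸ K →* ℂˣ := Cfsg.Agent.Lib.CharAb.homOfDegreeOne (IsIrrCharacter.isCharacter' hξ₀) h1'
  let l : G →* ℂˣ := l₀.comp (QuotientGroup.mk' K)
  have hl : ∀ g, (l g : ℂ) = (ξ : G → ℂ) g := by
    intro g
    rw [← hξ₀']
    exact Cfsg.Agent.Lib.CharAb.homOfDegreeOne_apply (IsIrrCharacter.isCharacter' hξ₀) h1' (g : G ⧸ K)
  refine ⟨l, ?_, ?_⟩
  · intro x hx
    show l₀ (QuotientGroup.mk x) = 1
    rw [(QuotientGroup.eq_one_iff x).2 hx, map_one]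
  · have h8 : (twist l χ₁ : G → ℂ) = fun g => (ξ : G → ℂ) g * (χ₁ : G → ℂ) g := by
      funext g
      rw [twist_apply, hl]
    rw [← h8, classInner_irr (twist l χ₁).2 χ₂.2] at hξ2
    by_contra hne
    rw [if_neg (fun h => hne (Subtype.ext h))] at hξ2
    exact hξ2 rfl

end Trans

section AbStep

variable {G : Type u} [Group G] [Fintype G]

theorem inv_over_abelian (K : Subgroup G) [hK : K.Normal] [Fintype K] (A : Subgroup (MulAut G))
    (hAK : ∀ a ∈ A, ∀ x ∈ K, a x ∈ K) (hab : commutator G ≤ K) (hcop : K.index.Coprime (Nat.card A))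
    (ψ : IrrCharacter K) (hψ : InvI A K.subtype (ψ : K → ℂ)) :
    ∃ χ : IrrCharacter G, InvA A (χ : G → ℂ) ∧ classInner (fun n : K => (χ : G → ℂ) n) (ψ : K → ℂ) ≠ 0 := by
  classical
  obtain ⟨χ₀, hχ₀⟩ := BlockPair.exists_irr_over K.subtype K.subtype_injective ψ
  have hχ₀' : classInner (fun n : K => (χ₀ : G → ℂ) n) (ψ : K → ℂ) ≠ 0 := hχ₀
  let φA : A →* Equiv.Perm (IrrCharacter G) := permIrr.comp A.subtype
  let φL : Lam K →* Equiv.Perm (IrrCharacter G) := lin.comp (Lam K).subtype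
  have hAK' : ∀ a ∈ A, ∀ l ∈ Lam K, l.comp (a⁻¹ : MulAut G).toMonoidHom ∈ Lam K := by
    intro a ha l hl x hx
    exact hl _ (hAK _ (A.inv_mem ha) x hx)
  have hnorm : ∀ s ∈ φA.range, ∀ g ∈ φL.range, s * g * s⁻¹ ∈ φL.range := by
    rintro _ ⟨a, rfl⟩ _ ⟨l, rfl⟩
    refine ⟨⟨l.1.comp (a.1⁻¹ : MulAut G).toMonoidHom, hAK' a.1 a.2 l.1 l.2⟩, ?_⟩
    ext χ g
    show ((l.1 (a.1⁻¹ g) : ℂˣ) : ℂ) * (χ : G → ℂ) g = (((φA a * φL l * (φA a)⁻¹) χ : IrrCharacter G) : G → ℂ) g
    rw [Equiv.Perm.mul_apply, Equiv.Perm.mul_apply]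
    show _ = ((φA a (φL l ((φA a)⁻¹ χ)) : IrrCharacter G) : G → ℂ) g
    have h1 : (φA a)⁻¹ = permIrr (a.1⁻¹) := by
      rw [← map_inv]
      rfl
    rw [h1]
    show _ = ((permIrr a.1 (lin l.1 (permIrr a.1⁻¹ χ)) : IrrCharacter G) : G → ℂ) g
    rw [permIrr_apply, lin_apply, permIrr_apply]
    simp
  have hexp : ∀ x ∈ φL.range, x ^ K.index = 1 := by
    rintro _ ⟨l, rfl⟩
    rw [← map_pow]
    have h1 : l ^ K.index = 1 := by
      apply Subtype.ext
      ext g
      have h2 := l.2 (g ^ K.index) (Subgroup.pow_index_mem K g)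
      rw [map_pow] at h2
      show (((l.1 g) ^ K.index : ℂˣ) : ℂ) = 1
      rw [h2]
      simp
    rw [h1, map_one]
  have hcop' : (Nat.card φL.range).Coprime (Nat.card φA.range) := by
    have hcardA : Nat.card φA.range ∣ Nat.card A := by
      rw [← Subgroup.index_ker]
      exact φA.ker.index_dvd_card
    by_contra hno
    obtain ⟨q, hq, hq1, hq2⟩ := Nat.Prime.not_coprime_iff_dvd.1 hno
    haveI : Fact q.Prime := ⟨hq⟩
    obtain ⟨x, hx⟩ := exists_prime_orderOf_dvd_card' q hq1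
    have h3 : (x : Equiv.Perm (IrrCharacter G)) ^ K.index = 1 := hexp x.1 x.2
    have h4 : orderOf (x : Equiv.Perm (IrrCharacter G)) = q := by
      rw [Subgroup.orderOf_coe, hx]
    have h5 : q ∣ K.index := h4 ▸ orderOf_dvd_of_pow_eq_one h3
    exact hq.one_lt.ne' (Nat.dvd_one.1 (hcop ▸ Nat.dvd_gcd h5 (hq2.trans hcardA)))
  have hs' : Group.IsSolvable φL.range ∨ Group.IsSolvable φA.range := by
    left
    apply isSolvable_of_comm
    rintro ⟨_, l, rfl⟩ ⟨_, l', rfl⟩
    apply Subtype.ext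
    show φL l * φL l' = φL l' * φL l
    rw [← map_mul, ← map_mul, mul_comm]
  have hover : ∀ a : A, classInner (fun n : K => ((permIrr a.1 χ₀ : IrrCharacter G) : G → ℂ) n) (ψ : K → ℂ) ≠ 0 := by
    intro a
    let τ : A →* MulAut K := liftAut K.subtype K.subtype_injective A.subtype (fun t x => by
      refine ⟨⟨t.1 x, hAK t.1 t.2 x x.2⟩, rfl⟩)
    have hτ : ∀ (x : K), ((τ a x : K) : G) = a.1 x := fun x =>
      liftAut_spec K.subtype K.subtype_injective A.subtype (fun t x => by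
        refine ⟨⟨t.1 x, hAK t.1 t.2 x x.2⟩, rfl⟩) a x
    have h1 := Cfsg.Agent.Lib.CharCliff.classInner_comp_mulEquiv (τ a)
      (fun n : K => ((permIrr a.1 χ₀ : IrrCharacter G) : G → ℂ) n) (ψ : K → ℂ)
    rw [← h1]
    have h2 : (fun x : K => ((permIrr a.1 χ₀ : IrrCharacter G) : G → ℂ) (τ a x : K)) = fun n : K => (χ₀ : G → ℂ) n := by
      funext x
      rw [permIrr_apply, hτ]
      simp
    have h3 : (fun x : K => (ψ : K → ℂ) (τ a x)) = (ψ : K → ℂ) := by
      funext x
      exact hψ a.1 a.2 x _ (hτ x)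
    rw [h2, h3]
    exact hχ₀'
  have hstep : ∀ s ∈ φA.range, ∃ g ∈ φL.range, s • χ₀ = g • χ₀ := by
    rintro _ ⟨a, rfl⟩
    obtain ⟨l, hl, hl2⟩ := over_transitive K hab χ₀ (permIrr a.1 χ₀) ψ hχ₀' (hover a)
    exact ⟨φL ⟨l, hl⟩, ⟨_, rfl⟩, hl2.symm⟩
  obtain ⟨g, ⟨l, rfl⟩, hfixed⟩ := glauberman_amb (X := IrrCharacter G) φL.range φA.range hnorm hcop' hs' χ₀ hstep
  refine ⟨φL l • χ₀, ?_, ?_⟩
  · intro a ha g
    have h1 := hfixed (φA ⟨a, ha⟩⁻¹) ⟨_, rfl⟩
    have h3 := congrArg (fun θ : IrrCharacter G => (θ : G → ℂ) g) h1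
    have h5 : ((φA ⟨a, ha⟩⁻¹ • (φL l • χ₀) : IrrCharacter G) : G → ℂ) g = ((φL l • χ₀ : IrrCharacter G) : G → ℂ) g := h3
    have h4 : ((φA ⟨a, ha⟩⁻¹ • (φL l • χ₀) : IrrCharacter G) : G → ℂ) g =
        ((φL l • χ₀ : IrrCharacter G) : G → ℂ) (a g) := by
      show ((permIrr a⁻¹ (φL l • χ₀) : IrrCharacter G) : G → ℂ) g = _
      rw [permIrr_apply, inv_inv]
    rw [h4] at h5
    exact h5
  · have h1 : (fun n : K => ((φL l • χ₀ : IrrCharacter G) : G → ℂ) n) = fun n : K => (χ₀ : G → ℂ) n := by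
      funext n
      show ((lin l.1 χ₀ : IrrCharacter G) : G → ℂ) n = _
      rw [lin_apply, l.2 n n.2]
      simp
    rw [h1]
    exact hχ₀'

end AbStep

section Rec

theorem inv_over : ∀ (n : ℕ) (G N : Type u) [Group G] [Fintype G] [Group N] [Fintype N] (ι : N →* G)
    (hι : Function.Injective ι) (N' : Subgroup G) [hN' : N'.Normal] (hr : ι.range = N') (A : Subgroup (MulAut G)),
    N'.index = n → (∀ a ∈ A, ∀ x, a (ι x) ∈ ι.range) → (N'.index).Coprime (Nat.card A) → Group.IsSolvable (G ⧸ N') →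
    ∀ θ : IrrCharacter N, InvI A ι (θ : N → ℂ) →
    ∃ χ : IrrCharacter G, InvA A (χ : G → ℂ) ∧ classInner (fun x => (χ : G → ℂ) (ι x)) (θ : N → ℂ) ≠ 0 := by
  intro n
  induction n using Nat.strong_induction_on with
  | _ n IH =>
  intro G N _ _ _ _ ι hι N' hN' hr A hn hAN hcop hs θ hθ
  classical
  by_cases htop : N' = ⊤
  · have hsurj : Function.Surjective ι := by
      intro g
      have : g ∈ ι.range := by
        rw [hr, htop]
        exact Subgroup.mem_top g
      exact this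
    let σ : N ≃* G := MulEquiv.ofBijective ι ⟨hι, hsurj⟩
    have hσ : ∀ x, σ x = ι x := fun x => rfl
    refine ⟨BlockPair.irrComp σ.symm θ, ?_, ?_⟩
    · intro a ha g
      show (θ : N → ℂ) (σ.symm (a g)) = (θ : N → ℂ) (σ.symm g)
      apply hθ a ha
      rw [← hσ, ← hσ]
      simp
    · have h1 : (fun x => (BlockPair.irrComp σ.symm θ : G → ℂ) (ι x)) = (θ : N → ℂ) := by
        funext x
        rw [BlockPair.irrComp_apply, ← hσ]
        simp
      rw [h1, classInner_irr θ.2 θ.2, if_pos rfl]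
      exact one_ne_zero
  · let K : Subgroup G := N' ⊔ commutator G
    haveI hKn : K.Normal := inferInstance
    letI : Fintype K := Fintype.ofFinite _
    have hN'K : N' ≤ K := le_sup_left
    have hcK : commutator G ≤ K := le_sup_right
    have hKtop : K ≠ ⊤ := by
      intro h
      haveI : Nontrivial (G ⧸ N') := by
        apply QuotientGroup.nontrivial_iff.2
        exact htop
      have h1 := IsSolvable.commutator_lt_top_of_nontrivial (G ⧸ N')
      have h2 : commutator (G ⧸ N') = ⊤ := by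
        have h3 : (commutator G).map (QuotientGroup.mk' N') = commutator (G ⧸ N') := by
          rw [commutator_def, commutator_def, Subgroup.map_commutator,
            Subgroup.map_top_of_surjective _ (QuotientGroup.mk'_surjective N')]
        rw [← h3]
        have h4 : K.map (QuotientGroup.mk' N') = ⊤ := by
          rw [h]
          exact Subgroup.map_top_of_surjective _ (QuotientGroup.mk'_surjective N')
        have h5 : K.map (QuotientGroup.mk' N') = (commutator G).map (QuotientGroup.mk' N') := by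
          show (N' ⊔ commutator G).map _ = _
          rw [Subgroup.map_sup, QuotientGroup.map_mk'_self, bot_sup_eq]
        rw [← h5, h4]
      exact h1.ne h2
    have hmemN : ∀ x, ι x ∈ N' := fun x => hr ▸ ⟨x, rfl⟩
    have hAK : ∀ a ∈ A, ∀ x ∈ K, a x ∈ K := by
      intro a ha
      have h1 : K ≤ K.comap a.toMonoidHom := by
        apply sup_le
        · intro x hx
          rw [← hr] at hx
          obtain ⟨y, rfl⟩ := hx
          have h2 := hAN a ha y
          rw [hr] at h2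
          exact hN'K h2
        · rw [commutator_def, Subgroup.commutator_le]
          intro g _ g' _
          show a ⁅g, g'⁆ ∈ K
          rw [map_commutatorElement]
          exact hcK (Subgroup.commutator_mem_commutator (Subgroup.mem_top _) (Subgroup.mem_top _))
      exact fun x hx => h1 hx
    let ι₁ : N →* K := ι.codRestrict K (fun x => hN'K (hmemN x))
    have hι₁ : ∀ x, ((ι₁ x : K) : G) = ι x := fun x => rfl
    let N₁ : Subgroup K := N'.subgroupOf K
    haveI hN₁ : N₁.Normal := inferInstance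
    have hr₁ : ι₁.range = N₁ := by
      ext x
      constructor
      · rintro ⟨y, rfl⟩
        exact hmemN y
      · intro hx
        have h1 : (x : G) ∈ ι.range := by
          rw [hr]
          exact hx
        obtain ⟨y, hy⟩ := h1
        exact ⟨y, Subtype.ext hy⟩
    let resK : A →* MulAut K := liftAut K.subtype K.subtype_injective A.subtype (fun t x =>
      ⟨⟨t.1 x, hAK t.1 t.2 x x.2⟩, rfl⟩)
    have hres : ∀ (a : A) (x : K), ((resK a x : K) : G) = a.1 x := fun a x =>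
      liftAut_spec K.subtype K.subtype_injective A.subtype (fun t x => ⟨⟨t.1 x, hAK t.1 t.2 x x.2⟩, rfl⟩) a x
    have hidx : N₁.index * K.index = N'.index := Subgroup.relIndex_mul_index hN'K
    have hidx0 : N'.index ≠ 0 := Subgroup.index_ne_zero_of_finite
    have hK1 : K.index ≠ 1 := fun h => hKtop (Subgroup.index_eq_one.1 h)
    have hlt : N₁.index < n := by
      rw [← hn, ← hidx]
      have h1 : 0 < N₁.index := Nat.pos_of_ne_zero (fun h => hidx0 (by rw [← hidx, h, zero_mul]))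
      have h2 : 0 < K.index := Nat.pos_of_ne_zero (fun h => hidx0 (by rw [← hidx, h, mul_zero]))
      have h3 : 2 ≤ K.index := by omega
      nlinarith
    have hcardA : Nat.card resK.range ∣ Nat.card A := by
      rw [← Subgroup.index_ker]
      exact resK.ker.index_dvd_card
    have hcop₁ : N₁.index.Coprime (Nat.card resK.range) :=
      Nat.Coprime.coprime_dvd_left ⟨K.index, hidx.symm⟩ (Nat.Coprime.coprime_dvd_right hcardA hcop)
    have hs₁ : Group.IsSolvable (K ⧸ N₁) := by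
      let f : K ⧸ N₁ →* G ⧸ N' := QuotientGroup.map N₁ N' K.subtype (fun x hx => hx)
      have hf : Function.Injective f := by
        rw [injective_iff_map_eq_one]
        intro q hq
        obtain ⟨x, rfl⟩ := QuotientGroup.mk_surjective q
        have h1 : ((x : G) : G ⧸ N') = 1 := hq
        rw [QuotientGroup.eq_one_iff] at h1
        exact (QuotientGroup.eq_one_iff x).2 h1
      exact solvable_of_solvable_injective hf
    have hAN₁ : ∀ a ∈ resK.range, ∀ x, a (ι₁ x) ∈ ι₁.range := by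
      rintro _ ⟨a, rfl⟩ x
      obtain ⟨y, hy⟩ := hAN a.1 a.2 x
      refine ⟨y, Subtype.ext ?_⟩
      rw [hres, hι₁, hy]
      rfl
    have hθ₁ : InvI resK.range ι₁ (θ : N → ℂ) := by
      rintro _ ⟨a, rfl⟩ x x' hxx
      apply hθ a.1 a.2
      have h1 := congrArg Subtype.val hxx
      rw [hres] at h1
      exact h1
    obtain ⟨ψ, hψ, hψ2⟩ := IH _ hlt K N ι₁ (fun a b hab => hι (congrArg Subtype.val hab)) N₁ hr₁ resK.range rfl hAN₁ hcop₁ hs₁ θ hθ₁
    have hψ' : InvI A K.subtype (ψ : K → ℂ) := by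
      intro a ha x x' hxx
      have h1 : x' = resK ⟨a, ha⟩ x := Subtype.ext (by rw [hres]; exact hxx)
      rw [h1]
      exact hψ _ ⟨_, rfl⟩ x
    obtain ⟨χ, hχ, hχ2⟩ := inv_over_abelian K A hAK hcK
      (Nat.Coprime.coprime_dvd_left ⟨N₁.index, by rw [← hidx, mul_comm]⟩ hcop) ψ hψ'
    refine ⟨χ, hχ, ?_⟩
    exact over_trans (isCharacter_restrict K (IsIrrCharacter.isCharacter' χ.2)) ι₁ ψ θ hχ2 hψ2

end Rec

section Conj

variable {Γ : Type u} [Group Γ]

theorem inv_over_conj [Fintype Γ] (G S N : Subgroup Γ) [Fintype G] [Fintype N]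
    (hnorm : ∀ s ∈ S, ∀ g ∈ G, s * g * s⁻¹ ∈ G) (hNG : N ≤ G) [hNn : (N.subgroupOf G).Normal]
    (hNS : ∀ s ∈ S, ∀ n ∈ N, s * n * s⁻¹ ∈ N) (hcop : (N.relIndex G).Coprime (Nat.card S))
    (hsolv : Group.IsSolvable (G ⧸ N.subgroupOf G)) (θ : IrrCharacter N)
    (hinv : ∀ s ∈ S, ∀ g g' : N, (g' : Γ) = s * g * s⁻¹ → (θ : N → ℂ) g' = (θ : N → ℂ) g) :
    ∃ χ : IrrCharacter G, classInner (fun n : N => (χ : G → ℂ) ⟨n, hNG n.2⟩) (θ : N → ℂ) ≠ 0 ∧
      ∀ s ∈ S, ∀ g g' : G, (g' : Γ) = s * g * s⁻¹ → (χ : G → ℂ) g' = (χ : G → ℂ) g := by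
  classical
  let φ := conjHomOf G S hnorm
  have hcard : Nat.card φ.range ∣ Nat.card S := by
    rw [← Subgroup.index_ker]
    exact φ.ker.index_dvd_card
  obtain ⟨χ, h1, h2⟩ := inv_over _ G N (Subgroup.inclusion hNG) (Subgroup.inclusion_injective hNG) (N.subgroupOf G)
    (range_inclusion' G N hNG) φ.range rfl (by
      rintro _ ⟨s, rfl⟩ x
      exact ⟨⟨_, hNS s s.2 x x.2⟩, rfl⟩)
    (Nat.Coprime.coprime_dvd_right hcard hcop) hsolv θ (by
      rintro _ ⟨s, rfl⟩ n n' hnn
      exact hinv s s.2 n n' (congrArg Subtype.val hnn))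
  exact ⟨χ, h2, (invA_conj_iff G S hnorm _).1 h1⟩

end Conj

end Cfsg.Agent.Lib.GlaubM
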