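import Cfsg.Agent.Lib.GolayPerm

/-! Data: spanning tree of the dodecads under three generators of `Cfsg.M24` (generated by a script). -/

set_option autoImplicit false

namespace Cfsg.Agent.Lib.GolayDodecadData

/-- Spanning tree of the dodecads. -/
def dodecadCert : List (ℕ × ℕ) :=
  [(0,0),(1,1),(0,1),(1,2),(2,3),(0,3),(0,3),(1,4),(2,5),(0,5),(2,6),(0,6),(2,7),(0,7),(1,8),(2,9),(0,9),(1,10),(2,11),(0,11),(2,12),(0,12),(2,13),(0,13),(1,14),(2,15),(0,15),(2,16),(0,16),(1,17),(2,18),(0,18),(2,19),(0,19),(1,20),(2,21),(0,21),(2,22),(0,22),(2,23),(0,23),(1,24),(2,25),(0,25),(2,26),(0,26),(2,27),(0,27),(1,28),(2,29),(0,29),(2,30),(0,30),(1,31),(2,32),(0,32),(2,33),(0,33),(1,34),(2,35),(2,35),(0,35),(2,36),(0,36),(1,37),(2,38),(0,38),(2,39),(0,39),(1,40),(2,41),(0,41),(2,42),(0,42),(2,43),(0,43),(1,44),(0,44),(0,44),(1,45),(2,46),(0,46),(2,47),(0,47),(2,48),(0,48),(1,49),(2,50),(0,50),(2,51),(0,51),(1,52),(2,53),(0,53),(2,54),(0,54),(1,55),(2,5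6),(0,56),(2,57),(0,57),(2,58),(0,58),(1,59),(0,59),(2,60),(0,60),(1,61),(2,62),(0,62),(2,63),(0,63),(1,64),(2,65),(2,65),(0,65),(2,66),(0,66),(1,67),(2,68),(0,68),(2,69),(0,69),(1,70),(2,71),(0,71),(2,72),(0,72),(2,73),(0,73),(2,74),(0,74),(2,75),(0,75),(1,76),(0,76),(2,77),(0,77),(2,78),(0,78),(2,79),(0,79),(1,80),(2,81),(0,81),(2,82),(0,82),(1,83),(2,84),(0,84),(2,85),(0,85),(2,86),(0,86),(1,87),(2,88),(0,88),(0,88),(1,89),(2,90),(0,90),(2,91),(0,91),(2,92),(0,92),(1,93),(2,94),(0,94),(2,95),(0,95),(1,96),(2,97),(0,97),(2,98),(0,98),(1,99),(2,100),(0,100),(0,100),(1,101),(2,102),(0,102),(1,103),(2,104),(0,104),(2,105),(2,105),(0,105),(1,106),(2,107),(0,107),(2,108),(0,108),(1,109),(2,110),(2,110),(0,110),(1,111),(2,112),(2,112),(0,112),(2,113),(0,113),(1,114),(2,115),(2,115),(0,115),(1,116),(2,117),(0,117),(0,117),(2,118),(0,118),(1,119),(0,118),(1,119),(0,119),(2,120),(0,120),(2,121),(0,121),(1,122),(2,123),(0,123),(2,124),(0,124),(1,12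5),(2,126),(0,126),(2,127),(0,127),(1,128),(2,129),(0,128),(1,129),(2,130),(0,130),(2,131),(0,131),(1,132),(2,133),(0,133),(2,134),(0,134),(2,135),(0,135),(1,136),(2,137),(0,137),(2,138),(0,138),(1,139),(2,139),(0,139),(2,140),(0,140),(2,141),(0,141),(1,142),(2,143),(0,143),(2,144),(0,144),(1,145),(2,146),(0,146),(2,147),(0,147),(2,148),(0,148),(1,149),(2,150),(0,150),(2,151),(0,151),(1,152),(2,153),(0,153),(2,154),(0,154),(2,155),(2,155),(0,155),(2,156),(0,156),(1,157),(2,158),(0,158),(0,158),(0,158),(2,159),(0,159),(1,160),(2,161),(0,161),(0,161),(1,162),(2,163),(0,163),(0,163),(1,164),(2,165),(0,165),(2,166),(1,166),(2,167),(0,167),(2,168),(0,168),(1,169),(2,170),(0,170),(2,171),(0,171),(1,172),(2,173),(0,173),(2,174),(0,174),(2,175),(0,175),(1,176),(2,177),(0,177),(2,178),(0,178),(1,179),(0,179),(2,180),(0,180),(0,180),(1,181),(2,182),(0,182),(2,183),(0,183),(1,184),(2,185),(0,185),(2,186),(0,186),(1,187),(2,188),(0,188),(2,189),(0,189)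,(2,190),(0,190),(1,191),(2,192),(0,192),(1,193),(2,194),(2,194),(0,194),(2,195),(1,195),(2,196),(0,196),(2,197),(0,197),(1,198),(2,199),(0,199),(2,200),(0,200),(1,201),(2,202),(2,202),(0,202),(2,203),(0,203),(2,204),(0,204),(2,205),(0,205),(1,206),(2,207),(2,207),(0,207),(2,208),(0,208),(2,209),(2,209),(0,209),(1,210),(2,211),(0,211),(2,212),(0,212),(0,212),(1,213),(0,213),(1,214),(0,214),(2,215),(0,215),(2,216),(0,216),(1,217),(2,218),(0,218),(2,219),(0,219),(2,220),(0,220),(1,221),(0,221),(2,222),(0,222),(2,223),(0,223),(1,224),(2,225),(2,225),(0,225),(2,226),(0,226),(1,227),(2,228),(0,228),(2,229),(0,229),(1,230),(2,231),(2,231),(0,231),(2,232),(0,232),(2,233),(0,233),(1,234),(0,234),(2,235),(0,235),(2,236),(0,236),(2,237),(0,237),(2,238),(0,238),(2,239),(0,239),(1,240),(2,241),(0,241),(2,242),(0,242),(2,243),(0,243),(0,243),(1,244),(2,245),(0,245),(2,246),(0,246),(2,247),(0,247),(1,248),(2,249),(0,249),(1,250),(2,251),(0,251),(2,252),(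0,252),(1,253),(2,254),(0,254),(0,254),(1,255),(2,256),(0,256),(0,256),(1,257),(2,258),(0,258),(2,259),(0,259),(1,260),(2,261),(0,261),(2,262),(0,262),(1,263),(2,264),(0,263),(2,264),(0,264),(1,265),(2,266),(0,266),(2,267),(0,267),(1,268),(2,269),(0,269),(2,270),(0,270),(2,271),(0,271),(1,272),(2,273),(0,273),(0,273),(1,274),(2,275),(0,275),(2,276),(0,276),(2,277),(0,277),(1,278),(2,279),(0,279),(2,280),(2,280),(0,280),(2,281),(0,281),(2,282),(0,282),(1,283),(2,284),(2,284),(2,284),(0,284),(2,285),(0,285),(2,286),(0,286),(1,287),(2,288),(0,288),(2,289),(0,289),(1,290),(2,291),(0,291),(2,292),(0,292),(2,293),(1,293),(0,293),(0,293),(1,294),(2,295),(0,294),(2,295),(0,295),(1,296),(2,297),(0,297),(2,298),(0,298),(1,299),(2,300),(2,300),(0,300),(1,301),(2,302),(0,302),(2,303),(2,303),(0,303),(1,304),(0,304),(2,305),(1,305),(0,305),(2,306),(2,306),(0,306),(1,307),(2,308),(0,308),(2,309),(0,309),(1,310),(2,311),(0,311),(2,312),(0,312),(1,313),(2,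314),(0,314),(0,314),(2,315),(1,315),(2,316),(0,316),(2,316),(0,316),(2,317),(0,317),(2,318),(0,318),(1,319),(2,320),(0,320),(2,321),(0,321),(1,322),(2,323),(0,323),(2,324),(0,324),(2,325),(0,325),(1,326),(2,327),(2,326),(0,326),(2,327),(2,327),(0,327),(1,328),(2,329),(0,329),(1,330),(2,331),(0,331),(1,332),(2,333),(0,333),(2,334),(0,334),(1,335),(2,336),(2,336),(0,336),(2,337),(0,337),(1,338),(0,338),(1,339),(2,340),(0,340),(2,341),(0,341),(2,342),(0,342),(2,343),(0,343),(1,344),(2,345),(2,345),(0,345),(1,345),(2,346),(2,346),(0,346),(2,347),(2,347),(0,347),(1,348),(2,349),(0,349),(2,350),(0,350),(1,351),(2,352),(0,352),(2,353),(0,353),(2,354),(0,354),(1,355),(2,356),(2,356),(0,356),(1,357),(2,358),(0,358),(2,359),(0,359),(2,360),(0,360),(1,361),(2,362),(2,362),(1,362),(2,363),(0,363),(2,364),(0,364),(1,365),(2,366),(0,366),(2,367),(0,367),(2,368),(0,368),(1,369),(2,370),(0,370),(0,370),(1,371),(0,371),(2,371),(0,371),(0,371),(1,372),(2,37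3),(0,373),(2,374),(2,374),(0,374),(1,374),(2,375),(0,375),(2,376),(0,376),(1,377),(2,378),(0,378),(2,379),(0,379),(2,380),(0,380),(2,381),(0,381),(2,382),(0,382),(1,383),(2,384),(2,384),(0,384),(2,385),(0,385),(1,386),(2,387),(0,387),(2,388),(0,388),(1,389),(2,390),(0,390),(0,390),(1,391),(0,391),(2,392),(0,392),(2,393),(0,393),(1,394),(2,395),(2,395),(2,395),(0,395),(2,396),(0,396),(0,396),(2,397),(2,397),(0,397),(0,397),(1,398),(2,399),(0,399),(2,400),(2,400),(0,400),(2,401),(0,401),(2,402),(0,402),(1,403),(2,404),(0,404),(2,405),(0,405),(1,406),(2,407),(0,407),(2,408),(0,408),(2,409),(2,409),(0,409),(1,410),(2,411),(0,411),(2,412),(0,412),(1,413),(2,413),(0,413),(1,414),(2,415),(0,415),(2,416),(0,416),(2,417),(0,417),(2,417),(2,417),(0,417),(1,418),(2,419),(0,419),(2,420),(0,420),(1,421),(2,422),(0,422),(0,422),(1,422),(0,422),(2,423),(0,423),(2,424),(0,424),(1,425),(2,426),(0,425),(1,426),(2,427),(2,427),(0,426),(1,427),(2,428),(2,427)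,(2,427),(0,427),(1,428),(2,429),(0,429),(2,430),(0,430),(1,431),(0,431),(2,432),(0,432),(2,433),(0,433),(1,434),(2,435),(2,435),(0,435),(1,436),(2,437),(0,437),(2,438),(0,438),(1,439),(2,440),(1,439),(2,440),(0,440),(2,441),(0,441),(2,442),(0,442),(2,443),(0,443),(1,444),(2,444),(0,444),(2,445),(0,445),(2,446),(0,446),(1,447),(2,448),(0,448),(2,449),(0,449),(1,450),(2,451),(2,451),(0,451),(2,452),(0,452),(1,453),(2,453),(1,453),(2,454),(0,454),(2,455),(0,454),(2,455),(1,455),(2,456),(0,455),(1,456),(2,457),(0,456),(1,457),(0,457),(0,457),(1,458),(2,459),(0,459),(2,460),(1,460),(2,461),(0,461),(2,462),(0,462),(1,463),(2,464),(0,464),(2,465),(0,465),(1,466),(0,466),(2,467),(0,467),(1,468),(2,469),(0,469),(2,470),(0,470),(1,471),(0,471),(2,472),(0,472),(1,472),(2,473),(0,473),(2,474),(0,474),(1,475),(2,476),(0,476),(2,477),(0,477),(1,478),(2,479),(0,479),(1,480),(2,481),(2,481),(2,481),(1,481),(2,482),(0,482),(0,482),(2,483),(0,483),(2,484),(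0,484),(2,485),(2,485),(0,485),(2,486),(0,486),(1,487),(2,488),(2,488),(0,488),(2,489),(0,489),(2,490),(2,490),(0,490),(1,491),(2,492),(2,492),(0,492),(1,492),(0,492),(1,493),(0,493),(2,494),(0,494),(0,494),(1,495),(2,496),(0,496),(1,497),(2,498),(2,498),(2,498),(0,498),(1,499),(2,500),(2,500),(1,500),(0,500),(2,501),(0,501),(2,502),(0,502),(1,503),(0,503),(2,504),(0,504),(1,505),(2,506),(0,506),(2,507),(2,507),(0,507),(1,508),(2,509),(2,509),(0,509),(1,510),(2,511),(0,511),(2,512),(2,512),(1,512),(2,513),(0,513),(0,513),(1,514),(0,514),(2,515),(0,515),(2,516),(0,516),(1,517),(2,518),(0,518),(2,519),(0,519),(1,520),(2,521),(0,521),(2,522),(2,522),(0,522),(2,523),(0,523),(2,524),(0,524),(1,525),(2,526),(1,526),(2,527),(0,527),(0,526),(1,527),(2,528),(2,528),(0,528),(1,529),(0,529),(2,530),(1,530),(2,531),(0,531),(2,532),(0,532),(2,533),(2,533),(0,533),(2,534),(0,534),(2,535),(0,534),(0,534),(1,535),(2,536),(1,535),(2,536),(2,536),(0,536),(2,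537),(0,537),(0,537),(2,538),(0,538),(0,537),(1,538),(2,539),(0,539),(2,540),(0,540),(2,541),(0,541),(2,542),(0,542),(2,543),(0,543),(1,544),(2,545),(0,545),(0,545),(1,546),(2,547),(0,547),(2,548),(0,547),(2,548),(0,548),(2,549),(0,549),(1,550),(2,551),(0,551),(0,550),(1,551),(0,551),(1,552),(2,553),(0,553),(2,554),(0,554),(2,555),(0,555),(1,556),(2,557),(2,557),(1,557),(2,558),(2,558),(1,557),(2,558),(0,558),(0,558),(2,559),(0,559),(2,560),(0,560),(0,560),(2,561),(1,561),(2,562),(2,562),(0,562),(2,563),(0,563),(1,564),(2,565),(0,565),(2,566),(0,566),(0,566),(1,567),(2,568),(0,568),(0,568),(1,569),(2,570),(0,570),(0,570),(1,570),(2,571),(0,571),(2,572),(0,572),(2,573),(2,573),(2,573),(0,573),(2,574),(1,574),(2,575),(0,575),(2,576),(0,576),(1,577),(2,578),(0,578),(2,579),(0,579),(0,579),(1,580),(2,581),(0,581),(2,582),(0,582),(1,583),(2,584),(0,584),(2,584),(0,584),(1,585),(2,586),(1,586),(2,587),(2,587),(0,587),(2,588),(0,588),(2,589),(0,58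9),(1,590),(2,591),(0,591),(2,591),(0,591),(0,591),(1,592),(2,593),(1,592),(2,593),(2,593),(0,592),(1,593),(2,594),(0,594),(2,595),(1,595),(0,595),(2,596),(2,596),(1,596),(2,597),(0,597),(2,598),(1,598),(0,598),(2,599),(0,599),(0,599),(2,600),(0,600),(2,601),(2,601),(1,601),(2,602),(0,602),(2,603),(0,603),(2,604),(0,604),(1,605),(2,606),(0,606),(2,607),(0,607),(2,608),(1,608),(2,609),(2,609),(2,609),(0,609),(1,610),(2,611),(2,611),(2,611),(0,611),(2,612),(0,612),(1,612),(2,612),(0,612),(2,612),(0,612),(1,613),(0,613),(0,613),(1,614),(2,615),(0,615),(0,615),(1,616),(0,616),(2,617),(0,616),(2,617),(0,617),(2,618),(1,618),(0,618),(0,618),(1,619),(2,620),(1,619),(2,620),(0,620),(2,621),(2,621),(0,621),(2,621),(0,619),(2,620),(0,620),(2,621),(2,621),(0,621),(2,622),(0,622),(1,623),(2,624),(2,624),(0,624),(0,624),(0,623),(1,624),(2,625),(0,625),(2,626),(0,626),(0,626),(1,627),(2,628),(0,628),(2,629),(1,629),(2,630),(0,630),(0,630),(2,631),(0,631)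,(2,632),(0,632),(2,633),(0,632),(2,633),(2,633),(0,633),(1,633),(0,632),(2,633),(2,633),(2,633),(2,633),(2,633),(0,633),(2,634),(0,634),(2,634),(2,634),(0,634),(1,634),(2,635),(2,635),(0,635),(0,635),(1,636),(0,636),(2,637),(1,637),(2,638),(0,637),(1,638),(2,638),(0,638),(2,639),(0,639),(1,640),(1,640),(2,641),(1,640),(0,640),(1,640),(2,641),(1,641),(2,642),(0,642),(2,643),(0,643),(1,643),(2,644),(2,644),(0,644),(1,644),(2,644),(2,644),(2,644),(2,644),(1,644),(0,644),(2,645),(2,644),(0,644),(2,645),(0,645),(0,645),(2,646),(1,646),(2,647),(2,647),(0,647),(2,648),(0,648),(0,648),(1,649),(2,650),(2,650),(0,650),(2,651),(0,651),(1,651),(2,652),(0,652),(2,653),(1,653),(2,654),(2,654),(2,654),(0,654),(2,655),(0,655),(1,655),(2,654),(0,654),(2,655),(2,655),(2,654),(2,654),(0,654),(1,655),(2,653),(0,653),(2,654),(2,654),(2,654),(0,654),(1,655),(2,656),(0,656),(2,657),(0,657),(1,658),(0,658),(2,659),(0,659),(0,658),(2,659),(0,659),(1,660),(2,661),(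2,661),(2,661),(2,661),(0,661),(2,662),(0,662),(1,662),(2,663),(2,663),(1,663),(0,662),(1,663),(2,663),(0,663),(2,663),(0,663),(1,663),(2,664),(2,664),(0,664),(2,665),(0,665),(1,666),(0,666),(2,667),(1,667),(2,668),(0,668),(2,669),(0,669),(2,670),(0,670),(1,671),(2,672),(2,672),(0,672),(2,673),(0,673),(1,674),(1,673),(0,672),(2,673),(0,673),(1,674),(2,675),(2,675),(2,675),(0,675),(1,676),(2,677),(2,676),(0,675),(1,676),(2,677),(0,676),(2,677),(0,676),(2,677),(0,677),(2,678),(0,678),(0,678),(2,679),(2,679),(2,679),(0,678),(1,679),(1,679),(2,680),(0,680),(0,680),(1,681),(2,682),(0,682),(2,683),(0,683),(1,684),(2,684),(0,684),(2,685),(2,684),(1,684),(2,685),(0,685),(2,686),(0,686),(2,687),(0,687),(0,686),(2,687),(2,687),(0,687),(0,687),(0,687),(1,688),(2,689),(0,689),(2,690),(0,690),(2,689),(0,689),(1,690),(2,691),(0,691),(1,691),(2,692),(0,691),(1,692),(2,693),(0,693),(2,694),(0,694),(1,695),(2,696),(0,695),(2,696),(0,696),(2,697),(0,697),(2,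698),(0,698),(2,699),(0,699),(2,700),(2,700),(0,700),(0,700),(1,701),(2,702),(0,702),(2,703),(0,703),(2,703),(2,703),(0,703),(2,704),(2,704),(0,704),(0,704),(2,705),(1,705),(0,705),(0,705),(1,706),(0,705),(2,706),(0,706),(2,707),(0,707),(1,707),(2,708),(2,708),(0,708),(1,709),(2,710),(0,710),(2,711),(2,711),(0,711),(1,712),(0,712),(2,713),(1,713),(2,713),(2,713),(2,713),(1,713),(2,714),(0,714),(2,715),(0,715),(1,716),(0,716),(0,716),(0,716),(2,717),(0,717),(2,718),(0,718),(1,719),(2,720),(0,720),(0,720),(1,721),(2,722),(0,721),(2,722),(2,722),(0,722),(2,723),(2,723),(0,723),(2,724),(0,724),(1,725),(2,726),(0,726),(2,726),(0,726),(1,727),(2,728),(2,728),(1,727),(2,728),(2,728),(2,727),(0,727),(2,728),(2,728),(0,728),(2,729),(0,729),(2,730),(0,730),(1,730),(0,729),(2,730),(1,729),(2,730),(0,730),(2,731),(1,731),(2,732),(0,732),(0,732),(2,733),(0,733),(2,734),(0,734),(0,734),(1,735),(0,733),(0,733),(1,734),(2,735),(2,735),(0,735),(1,735),(2,73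5),(0,735),(0,735),(2,736),(0,736),(2,737),(0,737),(2,738),(2,738),(1,738),(0,737),(0,737),(1,738),(2,738),(2,738),(2,738),(0,738),(2,739),(2,739),(0,738),(1,739),(2,740),(2,740),(0,740),(2,741),(0,741),(1,742),(2,743),(0,743),(2,744),(0,744),(2,743),(0,743),(1,744),(2,744),(0,744),(2,745),(0,745),(2,745),(2,745),(1,745),(2,746),(0,746),(2,747),(1,747),(2,748),(0,748),(0,748),(0,747),(2,748),(0,748),(2,749),(0,748),(2,749),(1,748),(2,747),(1,746),(2,747),(0,747),(1,748),(2,747),(0,747),(2,748),(2,748),(0,748),(2,749),(2,749),(0,749),(2,750),(0,750),(1,751),(2,752),(0,752),(2,752),(0,752),(2,753),(0,751),(2,752),(2,752),(0,752),(2,753),(0,751),(1,752),(2,753),(0,753),(0,753),(1,754),(2,755),(0,755),(0,755),(2,756),(0,755),(0,755),(1,755),(2,755),(0,755),(2,756),(0,756),(1,756),(2,757),(1,755),(0,755),(2,756),(0,756),(2,757),(0,757),(1,756),(0,755),(0,755),(1,756),(0,755),(1,756),(2,757),(0,756),(2,756),(0,755),(1,756),(2,757),(0,757),(2,758)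,(0,758),(1,759),(2,760),(2,760),(2,760),(0,760),(1,761),(2,762),(2,762),(0,762),(0,761),(2,762),(1,762),(2,763),(0,763),(2,764),(0,764),(1,765),(0,765),(2,766),(0,766),(2,765),(0,765),(0,765),(1,766),(0,765),(0,765),(2,766),(0,766),(1,765),(2,766),(2,766),(0,764),(2,764),(0,763),(2,764),(0,763),(1,764),(2,765),(0,765),(2,766),(0,766),(1,767),(2,768),(2,768),(2,768),(1,768),(2,769),(0,769),(2,769),(2,769),(2,768),(2,768),(0,768),(0,767),(2,767),(1,767),(2,768),(0,768),(2,769),(0,769),(2,770),(0,770),(0,770),(1,771),(2,772),(0,772),(0,772),(0,771),(1,772),(2,773),(2,773),(1,773),(2,774),(2,774),(0,774),(1,775),(2,776),(0,776),(2,777),(0,776),(0,776),(1,777),(0,777),(0,777),(2,778),(0,778),(2,779),(0,779),(0,779),(2,780),(0,780),(0,779),(0,778),(0,777),(1,778),(2,779),(0,776),(2,777),(0,776),(1,777),(2,778),(0,778),(2,779),(0,779),(1,780),(2,780),(0,778),(2,779),(0,778),(2,779),(0,779),(2,780),(0,780),(0,780),(2,780),(1,780),(2,781),(0,781),(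2,781),(0,781),(1,782),(2,783),(0,781),(1,782),(0,782),(2,782),(0,782),(0,781),(2,781),(0,781),(2,782),(2,782),(2,782),(1,780),(2,781),(2,780),(0,780),(2,781),(0,781),(0,781),(1,782),(2,783),(1,781),(2,782),(0,782),(2,783),(0,781),(2,782),(0,782),(1,782),(0,781),(1,780),(2,781),(0,780),(0,779),(1,780),(0,780),(2,781),(0,780),(2,781),(0,780),(1,781),(0,780),(0,780),(1,781),(0,781),(2,782),(0,781),(0,781),(2,780),(2,780),(1,778),(0,777),(0,776),(2,777),(0,777),(2,778),(0,778),(2,779),(0,779),(2,780),(2,780),(0,780),(1,780),(2,781),(0,780),(1,778),(0,778),(1,779),(2,779),(2,778),(0,777),(0,777),(2,777),(2,777),(1,777),(2,777),(0,776),(1,777),(0,777),(2,778),(0,778),(2,778),(0,778),(0,778),(2,779),(2,777),(1,776),(2,777),(2,776),(1,776),(0,776),(0,776),(0,775),(0,775),(1,776),(2,777),(2,777),(0,777),(0,777),(2,778),(1,778),(0,776),(1,777),(2,778),(2,778),(0,777),(2,776),(2,776),(2,776),(0,776),(1,777),(2,777),(0,777),(2,778),(0,778),(2,779),(1,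778),(2,778),(1,778),(0,778),(1,777),(2,778),(1,777),(1,776),(2,777),(1,777),(2,777),(0,777),(0,775),(0,774),(0,774),(2,774),(0,774),(2,775),(0,774),(2,774),(0,774),(2,772),(1,771),(2,772),(0,772),(2,773),(2,773),(1,773),(0,773),(2,774),(0,774),(2,775),(2,774),(0,773),(1,773),(0,773),(2,774),(0,773),(2,774),(0,773),(1,771),(2,772),(0,771),(0,771),(1,772),(0,771),(1,772),(2,772),(0,770),(0,769),(2,770),(0,770),(0,770),(1,771),(0,771),(1,772),(0,771),(2,771),(1,771),(2,772),(0,772),(0,770),(0,770),(1,771),(2,768),(0,768),(0,768),(2,768),(2,768),(0,768),(2,768),(0,768),(0,768),(0,768),(1,769),(0,769),(2,770),(0,767),(1,768),(0,767),(2,768),(1,765),(2,766),(0,766),(2,766),(1,766),(0,765),(0,765),(0,765),(1,763),(0,762),(0,762),(1,761),(2,754),(0,754),(2,755),(2,755),(0,753),(2,752),(2,751),(1,750),(2,749),(0,748),(1,748),(0,747),(1,747),(2,747),(0,747),(2,748),(0,748),(2,749),(0,749),(1,750),(0,750),(0,749),(2,749),(2,749),(0,749),(2,749),(2,74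9),(0,749),(0,749),(0,749),(1,750),(0,750),(2,751),(0,751),(0,746),(2,747),(0,746),(2,745),(2,745),(2,744),(0,744),(0,744),(1,745),(2,746),(0,746),(2,747),(2,746),(0,746),(0,746),(1,745),(2,746),(0,746),(2,747),(0,747),(2,745),(0,745),(2,746),(2,745),(2,743),(1,742),(2,742),(1,739),(0,739),(0,735),(2,736),(2,736),(0,735),(2,735),(0,735),(0,734),(2,735),(2,735),(2,735),(0,733),(1,731),(0,731),(2,732),(0,731),(0,730),(2,731),(1,731),(2,732),(1,730),(2,731),(2,731),(0,731),(1,732),(2,732),(0,732),(2,733),(0,732),(0,732),(1,733),(0,731),(2,732),(1,729),(0,728),(2,726),(1,726),(1,726),(0,724),(0,723),(2,723),(0,722),(2,723),(2,723),(2,723),(0,723),(2,724),(0,724),(1,725),(2,725),(0,724),(1,723),(2,723),(0,722),(2,723),(0,721),(0,721),(2,722),(2,721),(0,721),(0,721),(2,722),(2,721),(0,720),(1,721),(0,719),(2,720),(0,718),(0,718),(0,718),(2,719),(0,719),(2,715),(0,715),(2,716),(2,715),(2,715),(2,714),(0,714),(1,715),(2,716),(2,716),(0,714),(0,713)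,(1,714),(2,714),(0,714),(1,715),(2,716),(2,716),(2,716),(0,714),(1,713),(2,714),(1,713),(0,713),(2,713),(0,710),(0,710),(0,710),(0,709),(1,710),(2,710),(2,704),(0,704),(2,704),(2,703),(0,703),(2,704),(2,703),(0,703),(0,703),(2,704),(0,703),(0,702),(2,702),(2,702),(0,701),(2,702),(0,701),(2,702),(2,702),(0,690),(2,690),(2,690),(2,690),(0,690),(2,691),(2,691),(1,691),(0,691),(2,691),(0,691),(0,691),(0,690),(0,689),(2,690),(2,688),(2,688),(0,685),(2,686),(0,686),(0,681),(0,681),(0,680),(2,680),(0,680),(0,675),(1,674),(2,672),(1,671),(2,672),(1,670),(2,670),(0,670),(0,670),(1,670),(1,668),(2,668),(2,665),(2,665),(1,663),(2,661),(2,661),(2,661),(0,661),(2,662),(0,662),(0,661),(2,662),(2,662),(2,662),(0,662),(2,655),(2,654),(0,650),(2,649),(0,649),(0,648),(0,648),(0,646),(1,647),(2,646),(2,646),(0,646),(1,647),(0,645),(2,646),(0,644),(1,643),(2,642),(0,642),(2,641),(0,639),(2,639),(0,638),(2,637),(2,637),(0,637),(2,635),(2,635),(0,631),(2,628),(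2,627),(2,627),(0,626),(0,625),(2,625),(1,623),(2,623),(2,623),(2,621),(1,621),(2,621),(0,621),(0,617),(2,617),(1,616),(2,614),(2,614),(1,614),(0,614),(1,614),(0,614),(0,611),(2,611),(2,611),(2,609),(1,604),(0,604),(0,604),(0,604),(2,602),(0,601),(0,601),(1,602),(2,601),(2,601),(1,598),(2,599),(0,599),(2,600),(2,596),(2,595),(2,594),(0,594),(2,592),(0,592),(0,590),(0,590),(0,590),(0,583),(0,583),(0,583),(2,582),(2,581),(1,581),(0,577),(2,575),(2,575),(2,574),(0,571),(2,568),(0,565),(0,565),(1,565),(0,565),(2,565),(1,563),(2,562),(2,562),(0,559),(2,557),(0,554),(2,553),(0,553),(2,552),(1,549),(2,549),(0,548),(0,548),(0,546),(0,544),(2,543),(0,542),(2,543),(2,543),(2,543),(0,543),(0,540),(2,541),(2,540),(2,533),(0,533),(2,534),(0,533),(1,534),(0,531),(0,531),(1,522),(2,522),(0,521),(0,521),(2,522),(0,519),(1,517),(2,516),(0,510),(0,505),(0,504),(0,502),(1,501),(0,499),(2,498),(2,498),(1,493),(2,490),(1,490),(0,488),(2,488),(2,481),(0,474),(0,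474),(0,470),(2,471),(1,468),(0,468),(1,469),(0,469),(1,469),(0,464),(1,465),(0,465),(2,464),(1,464),(2,464),(1,462),(0,459),(0,459),(1,460),(2,461),(0,461),(0,457),(2,456),(0,440),(2,440),(1,440),(1,440),(0,439),(0,435),(2,432),(0,431),(0,412),(2,398),(0,398),(2,391),(1,389),(0,385),(0,377),(2,373),(0,362),(0,357),(2,358),(0,355),(2,342),(2,339),(0,320),(0,317),(0,306),(2,296),(0,295),(2,291),(2,285),(2,285),(0,276),(0,262),(2,263),(0,263),(2,264),(0,264),(0,258),(0,255),(2,255),(2,255),(2,247),(2,247),(2,246),(0,240),(0,235),(0,228),(0,225),(2,220),(0,206),(2,194),(2,187),(0,178),(2,177),(0,151),(0,151),(0,150),(0,125),(0,116),(1,92),(0,92),(0,4)]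

end Cfsg.Agent.Lib.GolayDodecadData
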