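import Mathlib
import Cfsg.Prelude.Def_Sporadic_a
import Cfsg.Prelude.Def_SporadicCombinatorics
import Cfsg.Prelude.Def_KGroupFacts
import Cfsg.Prelude.Def_Spor_Mathieu
import Cfsg.Agent.Lib.GolayFix

/-!
# Automorphisms of `M24` and `M23` are inner

* `exists_intertwiner`: an automorphism of a permutation group preserving the point stabilizers
  is induced by a permutation.
* `fixes_point_M24`, `fixes_point_M23`: subgroups of index `24` in `M24`, of index `23` in `M23`
  fix a point.
* `out_M24`, `out_M23`.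
-/

set_option autoImplicit false
set_option linter.style.haveILetI false
set_option linter.constructorNameAsVariable false

open scoped Pointwise

namespace Cfsg.Agent.Lib.GolayAut

open Cfsg Cfsg.Agent.Lib.GolayCode Cfsg.Agent.Lib.GolayFacts Cfsg.Agent.Lib.GolayPerm
  Cfsg.Agent.Lib.GolayChain Cfsg.Agent.Lib.GolayTrans Cfsg.Agent.Lib.GolayDecomp
  Cfsg.Agent.Lib.GolayOctad Cfsg.Agent.Lib.GolayFix

/-! ### The intertwiner -/

theorem card_stab_subgroup {X : Type*} (G : Subgroup (Equiv.Perm X)) (x : X) :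
    Nat.card (MulAction.stabilizer G x) = Nat.card ↥(G ⊓ MulAction.stabilizer (Equiv.Perm X) x) := by
  refine Nat.card_congr ⟨fun g => ⟨g.1.1, g.1.2, g.2⟩, fun g => ⟨⟨g.1, g.2.1⟩, g.2.2⟩, ?_, ?_⟩
  · intro g; rfl
  · intro g; rfl

theorem exists_intertwiner {X : Type*} [Finite X] (G : Subgroup (Equiv.Perm X)) (Ω : Set X)
    (hΩ : ∀ g ∈ G, ∀ x ∈ Ω, g x ∈ Ω) (hout : ∀ g ∈ G, ∀ x, x ∉ Ω → g x = x)
    (c : ℕ) (hc : ∀ x ∈ Ω, Nat.card ↥(G ⊓ MulAction.stabilizer (Equiv.Perm X) x) = c)
    (hind : ∀ K : Subgroup (Equiv.Perm X), K ≤ G → Nat.card K = c → ∃ y ∈ Ω, ∀ k ∈ K, k y = y)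
    (hsep : ∀ y ∈ Ω, ∀ z ∈ Ω, (∀ g ∈ G, g y = y → g z = z) → y = z)
    (α : G ≃* G) :
    ∃ π : Equiv.Perm X, (∀ x, x ∉ Ω → π x = x) ∧
      ∀ g : G, ((α g : G) : Equiv.Perm X) = π * (g : Equiv.Perm X) * π⁻¹ := by
  classical
  haveI : Finite (Equiv.Perm X) := inferInstance
  -- the images of the stabilizers
  let φ : G →* Equiv.Perm X := G.subtype.comp α.toMonoidHom
  have hφ : Function.Injective φ := by
    intro a b hab
    exact α.injective (Subtype.ext hab)
  let K : X → Subgroup (Equiv.Perm X) := fun x => (MulAction.stabilizer G x).map φ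
  have hKle : ∀ x, K x ≤ G := by
    rintro x _ ⟨g, _, rfl⟩
    exact (α g).2
  have hKc : ∀ x ∈ Ω, Nat.card (K x) = c := by
    intro x hx
    rw [Subgroup.card_map_of_injective hφ, card_stab_subgroup, hc x hx]
  have hy : ∀ x : Ω, ∃ y ∈ Ω, ∀ k ∈ K x, k y = y := fun x => hind (K x) (hKle x) (hKc x x.2)
  choose f hfΩ hf using hy
  -- the stabilizers correspond
  have hspec : ∀ (x : Ω) (g : G), (g : Equiv.Perm X) x = x ↔ ((α g : G) : Equiv.Perm X) (f x) = f x := by
    intro x g
    constructor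
    · intro h
      exact hf x _ ⟨g, h, rfl⟩
    · intro h
      have hle : K x ≤ G ⊓ MulAction.stabilizer (Equiv.Perm X) (f x) := by
        intro k hk
        refine ⟨hKle x hk, ?_⟩
        exact hf x k hk
      have heq := Subgroup.eq_of_le_of_card_ge hle (by rw [hKc x x.2, hc _ (hfΩ x)])
      have hmem : ((α g : G) : Equiv.Perm X) ∈ K x := by
        rw [heq]
        exact ⟨(α g).2, h⟩
      obtain ⟨g', hg', hge⟩ := hmem
      have : g' = g := hφ hge
      subst this
      exact hg'
  have hinj : Function.Injective (fun x : Ω => (⟨f x, hfΩ x⟩ : Ω)) := by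
    intro a b hab
    have hab' : f a = f b := congrArg Subtype.val hab
    apply Subtype.ext
    refine hsep a a.2 b b.2 ?_
    intro g hg hga
    have h1 := (hspec a ⟨g, hg⟩).mp hga
    rw [hab'] at h1
    exact (hspec b ⟨g, hg⟩).mpr h1
  haveI : Finite Ω := inferInstance
  let e : Ω ≃ Ω := Equiv.ofBijective _ (Finite.injective_iff_bijective.mp hinj)
  have hinter : ∀ (g : G) (x : Ω), f ⟨g.1 x, hΩ g.1 g.2 x x.2⟩ = ((α g : G) : Equiv.Perm X) (f x) := by
    intro g x
    refine hsep _ (hfΩ _) _ (hΩ _ (α g).2 _ (hfΩ x)) ?_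
    intro h hh hfix
    obtain ⟨k, hk⟩ := α.surjective ⟨h, hh⟩
    have hke : ((α k : G) : Equiv.Perm X) = h := by rw [hk]
    rw [← hke] at hfix ⊢
    have h1 := (hspec ⟨g.1 x, hΩ g.1 g.2 x x.2⟩ k).mpr hfix
    have h2 : ((g⁻¹ * k * g : G) : Equiv.Perm X) x = x := by
      simp only [Subgroup.coe_mul, Subgroup.coe_inv, Equiv.Perm.mul_apply]
      rw [show (k : Equiv.Perm X) (g.1 x) = g.1 x from h1]
      simp
    have h3 := (hspec x _).mp h2
    simp only [map_mul, map_inv, Subgroup.coe_mul, Subgroup.coe_inv, Equiv.Perm.mul_apply] at h3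
    have h4 := congrArg ((α g : G) : Equiv.Perm X) h3
    simpa using h4
  refine ⟨Equiv.Perm.ofSubtype e, fun x hx => Equiv.Perm.ofSubtype_apply_of_not_mem e hx, ?_⟩
  intro g
  ext1 p
  simp only [Equiv.Perm.mul_apply]
  by_cases hp : p ∈ Ω
  · obtain ⟨x, hx⟩ := e.surjective ⟨p, hp⟩
    have hp' : p = f x := by
      have := congrArg Subtype.val hx
      simpa [e] using this.symm
    have h1 : (Equiv.Perm.ofSubtype e)⁻¹ p = x := by
      rw [Equiv.Perm.inv_eq_iff_eq, Equiv.Perm.ofSubtype_apply_of_mem e x.2]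
      simp [e, hp']
    rw [h1, Equiv.Perm.ofSubtype_apply_of_mem e (hΩ g.1 g.2 x x.2)]
    have h2 := hinter g x
    simp only [e, Equiv.ofBijective_apply]
    rw [hp', ← h2]
  · have h1 : (Equiv.Perm.ofSubtype e)⁻¹ p = p := by
      rw [Equiv.Perm.inv_eq_iff_eq, Equiv.Perm.ofSubtype_apply_of_not_mem e hp]
    rw [h1, hout g.1 g.2 p hp, Equiv.Perm.ofSubtype_apply_of_not_mem e hp]
    exact hout _ (α g).2 p hp

/-- Trivial outer automorphism group. -/
theorem card_out_eq_one {G : Type*} [Group G]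
    (h : ∀ α : MulAut G, ∃ a : G, ∀ g, α g = a * g * a⁻¹) : Nat.card (Cfsg.Out G) = 1 := by
  change (Cfsg.Inn G).index = 1
  rw [Subgroup.index_eq_one, eq_top_iff]
  intro α _
  obtain ⟨a, ha⟩ := h α
  refine ⟨a, ?_⟩
  ext g
  rw [MulAut.conj_apply, ha]

/-! ### An elementary group-theoretic lemma -/

theorem exists_commuting_involution {K : Type*} [Group K] [Finite K] (hc : Nat.card K = 40) (g : K)
    (ho : orderOf g = 5) : ∃ t : K, t ≠ 1 ∧ t * t = 1 ∧ t * g = g * t := by
  haveI : Fact (Nat.Prime 5) := ⟨by norm_num⟩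
  haveI : Fact (Nat.Prime 2) := ⟨by norm_num⟩
  obtain ⟨P⟩ : Nonempty (Sylow 5 K) := inferInstance
  have hdvd : 5 ^ 1 ∣ Nat.card P := P.pow_dvd_card_of_pow_dvd_card (by rw [hc]; norm_num)
  have hP40 : Nat.card P ∣ 40 := by
    rw [← hc]
    exact Subgroup.card_subgroup_dvd_card _
  have hPc : Nat.card P = 5 := by
    obtain ⟨n, hn⟩ := (IsPGroup.iff_card.mp P.2)
    have h1 : n ≤ 1 := by
      by_contra hn2
      have : 25 ∣ 40 := by
        have h2 : 5 ^ 2 ∣ 5 ^ n := pow_dvd_pow 5 (by omega)
        rw [← hn] at h2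
        exact h2.trans hP40
      omega
    interval_cases n
    · rw [hn] at hdvd; omega
    · simpa using hn
  have hidx : (P : Subgroup K).index = 8 := by
    have := (P : Subgroup K).card_mul_index
    rw [hPc, hc] at this
    omega
  have hn1 : Nat.card (Sylow 5 K) ∣ 8 := by
    have := Sylow.card_dvd_index P
    rwa [hidx] at this
  have hn2 := card_sylow_modEq_one 5 K
  have hn3 : Nat.card (Sylow 5 K) = 1 := by
    have hle : Nat.card (Sylow 5 K) ≤ 8 := Nat.le_of_dvd (by norm_num) hn1
    unfold Nat.ModEq at hn2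
    have : Nat.card (Sylow 5 K) ≠ 0 := by
      intro h0; rw [h0] at hn1; omega
    interval_cases h : Nat.card (Sylow 5 K) <;> omega
  have hsub : Subsingleton (Sylow 5 K) := (Nat.card_eq_one_iff_unique.mp hn3).1
  have hPn : (P : Subgroup K).Normal := Sylow.normal_of_subsingleton P
  have hz : IsPGroup 5 (Subgroup.zpowers g) := by
    refine IsPGroup.of_card (n := 1) ?_
    rw [Nat.card_zpowers, ho, pow_one]
  obtain ⟨Q, hQ⟩ := hz.exists_le_sylow
  have hQP : Q = P := Subsingleton.elim _ _
  rw [hQP] at hQ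
  have hzP : Subgroup.zpowers g = (P : Subgroup K) :=
    Subgroup.eq_of_le_of_card_ge hQ (by rw [hPc, Nat.card_zpowers, ho])
  haveI hN : (Subgroup.zpowers g).Normal := by rw [hzP]; exact hPn
  let φ : K →* MulAut (Subgroup.zpowers g) := MulAut.conjNormal
  have h1 : Nat.card φ.range ∣ 4 := by
    have h2 : Nat.card (MulAut (Subgroup.zpowers g)) = 4 := by
      rw [IsCyclic.card_mulAut, Nat.card_zpowers, ho]
      decide
    rw [← h2]
    exact Subgroup.card_subgroup_dvd_card _
  have h2 : Nat.card φ.ker * Nat.card φ.range = 40 := by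
    have := φ.ker.card_mul_index
    rwa [Subgroup.index_ker, hc] at this
  have h3 : 2 ∣ Nat.card φ.ker := by
    have hle : Nat.card φ.range ≤ 4 := Nat.le_of_dvd (by norm_num) h1
    have hpos : Nat.card φ.range ≠ 0 := by
      intro h0; rw [h0] at h2; omega
    interval_cases h : Nat.card φ.range <;> omega
  obtain ⟨t, ht⟩ := exists_prime_orderOf_dvd_card' 2 h3
  have ht' : orderOf (t : K) = 2 := by rw [Subgroup.orderOf_coe]; exact ht
  refine ⟨t, ?_, ?_, ?_⟩
  · intro he
    rw [he, orderOf_one] at ht'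
    omega
  · have := pow_orderOf_eq_one (t : K)
    rw [ht', pow_two] at this
    exact this
  · have h4 : φ t = 1 := t.2
    have h5 := congrArg (fun a : MulAut (Subgroup.zpowers g) => ((a ⟨g, Subgroup.mem_zpowers g⟩ : Subgroup.zpowers g) : K)) h4
    simp only [φ, MulAut.conjNormal_apply, MulAut.one_apply] at h5
    rw [← mul_inv_eq_iff_eq_mul]
    exact h5

/-! ### Index `24` in `M24` -/

theorem fixes_point_M24 (H : Subgroup (Equiv.Perm GolayPt)) (hH : H ≤ M24)
    (hc : Nat.card H = 10200960) : ∃ y, ∀ h ∈ H, h y = y := by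
  classical
  haveI : Fact (Nat.Prime 23) := ⟨by norm_num⟩
  haveI : Fact (Nat.Prime 11) := ⟨by norm_num⟩
  haveI : Fact (Nat.Prime 7) := ⟨by norm_num⟩
  haveI : Fact (Nat.Prime 5) := ⟨by norm_num⟩
  obtain ⟨g23, hg23, ho23⟩ := cauchy H 23 (by rw [hc]; norm_num)
  have hf23 := card_fix23 (hH hg23) ho23
  obtain ⟨x0, hx0⟩ := Finset.card_eq_one.mp hf23
  have h0 := orbitF_modEq hg23 ho23 x0
  have hi0 : orbitF H x0 ∩ fixF g23 = {x0} := by
    rw [hx0, Finset.inter_singleton_of_mem (self_mem_orbitF _ _)]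
  rw [hi0, Finset.card_singleton] at h0
  have hle0 : (orbitF H x0).card ≤ 24 := by
    rw [← card_univ_pt]; exact Finset.card_le_univ _
  by_cases hone : (orbitF H x0).card = 1
  · refine ⟨x0, fun h hh => ?_⟩
    have h1 := Finset.card_eq_one.mp hone
    obtain ⟨a, ha⟩ := h1
    have h2 : x0 ∈ orbitF H x0 := self_mem_orbitF _ _
    have h3 : h x0 ∈ orbitF H x0 := (orbitF_inv hh _ _).mp h2
    rw [ha, Finset.mem_singleton] at h2 h3
    rw [h3, h2]
  exfalso
  have h24 : (orbitF H x0).card = 24 := by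
    unfold Nat.ModEq at h0
    omega
  -- step 1
  set H1 := H ⊓ MulAction.stabilizer (Equiv.Perm GolayPt) x0 with hH1
  have hc1 : Nat.card H1 = 425040 := by
    have : Nat.card H = _ * Nat.card H1 := card_orbitF H x0
    rw [hc, h24] at this
    omega
  have hfix0 : g23 x0 = x0 := mem_fixF.mp (by rw [hx0]; simp)
  have hg231 : g23 ∈ H1 := ⟨hg23, hfix0⟩
  have hH1x0 : ∀ g ∈ H1, g x0 = x0 := fun g hg => hg.2
  obtain ⟨x1, hx1⟩ : ∃ x1 : GolayPt, x1 ≠ x0 := exists_ne x0
  have h1 := orbitF_modEq hg231 ho23 x1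
  have hi1 : orbitF H1 x1 ∩ fixF g23 = ∅ := by
    rw [hx0, Finset.inter_singleton_of_notMem (not_mem_orbitF hH1x0 hx1)]
  rw [hi1, Finset.card_empty] at h1
  have hle1 : (orbitF H1 x1).card ≤ 23 := by
    have hsub : orbitF H1 x1 ⊆ Finset.univ.erase x0 := by
      intro y hy
      refine Finset.mem_erase.mpr ⟨?_, Finset.mem_univ _⟩
      rintro rfl
      exact not_mem_orbitF hH1x0 hx1 hy
    have := Finset.card_le_card hsub
    rwa [Finset.card_erase_of_mem (Finset.mem_univ _), card_univ_pt] at this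
  have hpos1 : 0 < (orbitF H1 x1).card := Finset.card_pos.mpr ⟨_, self_mem_orbitF _ _⟩
  have h23 : (orbitF H1 x1).card = 23 := by
    unfold Nat.ModEq at h1
    omega
  set H2 := H1 ⊓ MulAction.stabilizer (Equiv.Perm GolayPt) x1 with hH2
  have hc2 : Nat.card H2 = 18480 := by
    have : Nat.card H1 = _ * Nat.card H2 := card_orbitF H1 x1
    rw [hc1, h23] at this
    omega
  have hH2M : ∀ g ∈ H2, g ∈ M24 := fun g hg => hH hg.1.1
  have hH2x0 : ∀ g ∈ H2, g x0 = x0 := fun g hg => hg.1.2
  have hH2x1 : ∀ g ∈ H2, g x1 = x1 := fun g hg => hg.2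
  -- step 2
  obtain ⟨g11, hg11, ho11⟩ := cauchy H2 11 (by rw [hc2]; norm_num)
  obtain ⟨g7, hg7, ho7⟩ := cauchy H2 7 (by rw [hc2]; norm_num)
  have hf11 : fixF g11 = {x0, x1} := by
    symm
    apply Finset.eq_of_subset_of_card_le
    · intro p hp
      simp only [Finset.mem_insert, Finset.mem_singleton] at hp
      rcases hp with rfl | rfl
      · exact mem_fixF.mpr (hH2x0 _ hg11)
      · exact mem_fixF.mpr (hH2x1 _ hg11)
    · rw [card_fix11 (hH2M _ hg11) ho11, Finset.card_pair (Ne.symm hx1)]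
  have hf7c := card_fix7 (hH2M _ hg7) ho7
  obtain ⟨x2, hx2m, hx2⟩ : ∃ x2 ∈ fixF g7, x2 ∉ ({x0, x1} : Finset GolayPt) := by
    apply Finset.exists_mem_notMem_of_card_lt_card
    rw [hf7c, Finset.card_pair (Ne.symm hx1)]
    norm_num
  have hx20 : x2 ≠ x0 := fun he => hx2 (by simp [he])
  have hx21 : x2 ≠ x1 := fun he => hx2 (by simp [he])
  have hf7 : fixF g7 = {x0, x1, x2} := by
    symm
    apply Finset.eq_of_subset_of_card_le
    · intro p hp
      simp only [Finset.mem_insert, Finset.mem_singleton] at hp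
      rcases hp with rfl | rfl | rfl
      · exact mem_fixF.mpr (hH2x0 _ hg7)
      · exact mem_fixF.mpr (hH2x1 _ hg7)
      · exact hx2m
    · rw [hf7c, Finset.card_eq_three.mpr ⟨x0, x1, x2, Ne.symm hx1, Ne.symm hx20, Ne.symm hx21, rfl⟩]
  have hn20 := not_mem_orbitF hH2x0 hx20
  have hn21 := not_mem_orbitF hH2x1 hx21
  have h2a := orbitF_modEq hg11 ho11 x2
  have hi2a : orbitF H2 x2 ∩ fixF g11 = ∅ := by
    rw [hf11]
    ext p
    simp only [Finset.mem_inter, Finset.mem_insert, Finset.mem_singleton, Finset.notMem_empty, iff_false]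
    rintro ⟨hp, rfl | rfl⟩
    · exact hn20 hp
    · exact hn21 hp
  rw [hi2a, Finset.card_empty] at h2a
  have h2b := orbitF_modEq hg7 ho7 x2
  have hi2b : orbitF H2 x2 ∩ fixF g7 = {x2} := by
    rw [hf7]
    ext p
    simp only [Finset.mem_inter, Finset.mem_insert, Finset.mem_singleton]
    constructor
    · rintro ⟨hp, rfl | rfl | rfl⟩
      · exact absurd hp hn20
      · exact absurd hp hn21
      · rfl
    · rintro rfl
      exact ⟨self_mem_orbitF _ _, by simp⟩
  rw [hi2b, Finset.card_singleton] at h2b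
  have hle2 : (orbitF H2 x2).card ≤ 22 := by
    have hsub : orbitF H2 x2 ⊆ (Finset.univ.erase x0).erase x1 := by
      intro y hy
      refine Finset.mem_erase.mpr ⟨?_, Finset.mem_erase.mpr ⟨?_, Finset.mem_univ _⟩⟩
      · rintro rfl; exact hn21 hy
      · rintro rfl; exact hn20 hy
    have := Finset.card_le_card hsub
    rwa [Finset.card_erase_of_mem (Finset.mem_erase.mpr ⟨hx1, Finset.mem_univ _⟩),
      Finset.card_erase_of_mem (Finset.mem_univ _), card_univ_pt] at this
  have h22 : (orbitF H2 x2).card = 22 := by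
    unfold Nat.ModEq at h2a h2b
    omega
  set H3 := H2 ⊓ MulAction.stabilizer (Equiv.Perm GolayPt) x2 with hH3
  have hc3 : Nat.card H3 = 840 := by
    have : Nat.card H2 = _ * Nat.card H3 := card_orbitF H2 x2
    rw [hc2, h22] at this
    omega
  have hH3M : ∀ g ∈ H3, g ∈ M24 := fun g hg => hH2M g hg.1
  have hH3x0 : ∀ g ∈ H3, g x0 = x0 := fun g hg => hH2x0 g hg.1
  have hH3x1 : ∀ g ∈ H3, g x1 = x1 := fun g hg => hH2x1 g hg.1
  have hH3x2 : ∀ g ∈ H3, g x2 = x2 := fun g hg => hg.2
  -- step 3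
  obtain ⟨g5, hg5, ho5⟩ := cauchy H3 5 (by rw [hc3]; norm_num)
  obtain ⟨g7', hg7', ho7'⟩ := cauchy H3 7 (by rw [hc3]; norm_num)
  have hcard3 : ({x0, x1, x2} : Finset GolayPt).card = 3 :=
    Finset.card_eq_three.mpr ⟨x0, x1, x2, Ne.symm hx1, Ne.symm hx20, Ne.symm hx21, rfl⟩
  have hf7' : fixF g7' = {x0, x1, x2} := by
    symm
    apply Finset.eq_of_subset_of_card_le
    · intro p hp
      simp only [Finset.mem_insert, Finset.mem_singleton] at hp
      rcases hp with rfl | rfl | rfl
      · exact mem_fixF.mpr (hH3x0 _ hg7')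
      · exact mem_fixF.mpr (hH3x1 _ hg7')
      · exact mem_fixF.mpr (hH3x2 _ hg7')
    · rw [card_fix7 (hH3M _ hg7') ho7', hcard3]
  have hf5c := card_fix5 (hH3M _ hg5) ho5
  obtain ⟨x3, hx3m, hx3⟩ : ∃ x3 ∈ fixF g5, x3 ∉ ({x0, x1, x2} : Finset GolayPt) := by
    apply Finset.exists_mem_notMem_of_card_lt_card
    rw [hf5c, hcard3]
    norm_num
  have hx30 : x3 ≠ x0 := fun he => hx3 (by simp [he])
  have hx31 : x3 ≠ x1 := fun he => hx3 (by simp [he])
  have hx32 : x3 ≠ x2 := fun he => hx3 (by simp [he])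
  have hf5 : fixF g5 = insert x3 {x0, x1, x2} := by
    symm
    apply Finset.eq_of_subset_of_card_le
    · intro p hp
      simp only [Finset.mem_insert, Finset.mem_singleton] at hp
      rcases hp with rfl | rfl | rfl | rfl
      · exact hx3m
      · exact mem_fixF.mpr (hH3x0 _ hg5)
      · exact mem_fixF.mpr (hH3x1 _ hg5)
      · exact mem_fixF.mpr (hH3x2 _ hg5)
    · rw [hf5c, Finset.card_insert_of_notMem hx3, hcard3]
  have hn30 := not_mem_orbitF hH3x0 hx30
  have hn31 := not_mem_orbitF hH3x1 hx31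
  have hn32 := not_mem_orbitF hH3x2 hx32
  have h3a := orbitF_modEq hg7' ho7' x3
  have hi3a : orbitF H3 x3 ∩ fixF g7' = ∅ := by
    rw [hf7']
    ext p
    simp only [Finset.mem_inter, Finset.mem_insert, Finset.mem_singleton, Finset.notMem_empty, iff_false]
    rintro ⟨hp, rfl | rfl | rfl⟩
    · exact hn30 hp
    · exact hn31 hp
    · exact hn32 hp
  rw [hi3a, Finset.card_empty] at h3a
  have h3b := orbitF_modEq hg5 ho5 x3
  have hi3b : orbitF H3 x3 ∩ fixF g5 = {x3} := by
    rw [hf5]
    ext p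
    simp only [Finset.mem_inter, Finset.mem_insert, Finset.mem_singleton]
    constructor
    · rintro ⟨hp, rfl | rfl | rfl | rfl⟩
      · rfl
      · exact absurd hp hn30
      · exact absurd hp hn31
      · exact absurd hp hn32
    · rintro rfl
      exact ⟨self_mem_orbitF _ _, by simp⟩
  rw [hi3b, Finset.card_singleton] at h3b
  have hle3 : (orbitF H3 x3).card ≤ 21 := by
    have hsub : orbitF H3 x3 ⊆ ((Finset.univ.erase x0).erase x1).erase x2 := by
      intro y hy
      refine Finset.mem_erase.mpr ⟨?_, Finset.mem_erase.mpr ⟨?_, Finset.mem_erase.mpr ⟨?_, Finset.mem_univ _⟩⟩⟩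
      · rintro rfl; exact hn32 hy
      · rintro rfl; exact hn31 hy
      · rintro rfl; exact hn30 hy
    have := Finset.card_le_card hsub
    rwa [Finset.card_erase_of_mem (Finset.mem_erase.mpr ⟨hx21, Finset.mem_erase.mpr ⟨hx20, Finset.mem_univ _⟩⟩),
      Finset.card_erase_of_mem (Finset.mem_erase.mpr ⟨hx1, Finset.mem_univ _⟩),
      Finset.card_erase_of_mem (Finset.mem_univ _), card_univ_pt] at this
  have h21 : (orbitF H3 x3).card = 21 := by
    unfold Nat.ModEq at h3a h3b
    omega
  set H4 := H3 ⊓ MulAction.stabilizer (Equiv.Perm GolayPt) x3 with hH4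
  have hc4 : Nat.card H4 = 40 := by
    have : Nat.card H3 = _ * Nat.card H4 := card_orbitF H3 x3
    rw [hc3, h21] at this
    omega
  have hg54 : g5 ∈ H4 := ⟨hg5, mem_fixF.mp hx3m⟩
  haveI : Finite H4 := inferInstance
  obtain ⟨t, ht1, ht2, ht3⟩ := exists_commuting_involution hc4 ⟨g5, hg54⟩
    (by rw [← Subgroup.orderOf_coe]; exact ho5)
  -- the involution
  have htne : (t : Equiv.Perm GolayPt) ≠ 1 := fun he => ht1 (Subtype.ext he)
  have ht2' : (t : Equiv.Perm GolayPt) * t = 1 := congrArg Subtype.val ht2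
  have ht3' : (t : Equiv.Perm GolayPt) * g5 = g5 * t := congrArg Subtype.val ht3
  have htH3 : (t : Equiv.Perm GolayPt) ∈ H3 := t.2.1
  have htM := hH3M _ htH3
  have hsub4 : fixF g5 ⊆ fixF (t : Equiv.Perm GolayPt) := by
    rw [hf5]
    intro p hp
    simp only [Finset.mem_insert, Finset.mem_singleton] at hp
    rcases hp with rfl | rfl | rfl | rfl
    · exact mem_fixF.mpr t.2.2
    · exact mem_fixF.mpr (hH3x0 _ htH3)
    · exact mem_fixF.mpr (hH3x1 _ htH3)
    · exact mem_fixF.mpr (hH3x2 _ htH3)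
  have hfixt : (fixF (t : Equiv.Perm GolayPt)).card = 8 :=
    card_fixF_invol htM htne ht2' (by
      have := Finset.card_le_card hsub4
      omega)
  -- the fixed points of the involution, under `g5`
  have hinv : ∀ x, x ∈ fixF (t : Equiv.Perm GolayPt) ↔ g5 x ∈ fixF (t : Equiv.Perm GolayPt) := by
    intro x
    simp only [mem_fixF]
    have hcomm : ∀ y, (t : Equiv.Perm GolayPt) (g5 y) = g5 ((t : Equiv.Perm GolayPt) y) := fun y => by
      have := congrFun (congrArg (fun f : Equiv.Perm GolayPt => (f : GolayPt → GolayPt)) ht3') y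
      simpa using this
    rw [hcomm]
    exact ⟨fun h => by rw [h], fun h => g5.injective h⟩
  have hmod := fixF_modEq ho5 _ hinv
  rw [hfixt, Finset.inter_eq_right.mpr hsub4, hf5c] at hmod
  revert hmod
  decide

/-! ### Octads under a permutation normalizing enough -/

theorem smul_octad_of_normalizes {π : Equiv.Perm GolayPt} {O O' A : Finset GolayPt} (hO : O ∈ octads)
    (hO' : O' ∈ octads) (hA : A ⊆ O) (hc : 5 ≤ A.card) (hAO' : ∀ a ∈ A, π a ∈ O')
    (hn : ∀ t ∈ fixS O', π⁻¹ * t * π ∈ M24) : π • O = O' := by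
  classical
  have hsub : π • O ⊆ O' := by
    intro z hz
    by_contra hzO
    -- the action on `z` is free
    have hmaps : ∀ t ∈ fixS O', t z ∈ π • O := by
      intro t ht
      have hW := hn t ht
      have hfix : ∀ a ∈ A, (π⁻¹ * t * π) a = a := by
        intro a ha
        simp only [Equiv.Perm.mul_apply]
        rw [(mem_fixS.mp ht).2 _ (hAO' a ha)]
        simp
      have h1 := smul_octad_eq hW hO hA hc hfix
      obtain ⟨o, ho, rfl⟩ := Finset.mem_smul_finset.mp hz
      rw [Finset.mem_smul_finset]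
      refine ⟨(π⁻¹ * t * π) o, ?_, by simp⟩
      rw [← h1]
      exact Finset.mem_smul_finset.mpr ⟨o, ho, rfl⟩
    have hinj : Function.Injective (fun t : fixS O' => (⟨t.1 z, hmaps t.1 t.2⟩ : ↥(π • O))) := by
      rintro ⟨t, ht⟩ ⟨t', ht'⟩ he
      have he' : t z = t' z := congrArg Subtype.val he
      have hm : t'⁻¹ * t ∈ fixS O' := mul_mem (inv_mem ht') ht
      have hone : t'⁻¹ * t = 1 := by
        apply eq_one_of_nine (mem_fixS.mp hm).1
        have hs : insert z O' ⊆ fixF (t'⁻¹ * t) := by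
          intro p hp
          rw [Finset.mem_insert] at hp
          rw [mem_fixF]
          rcases hp with rfl | hp
          · simp [he']
          · exact (mem_fixS.mp hm).2 p hp
        have h1 := Finset.card_le_card hs
        rw [Finset.card_insert_of_notMem hzO, hO'.2] at h1
        exact h1
      apply Subtype.ext
      exact (inv_mul_eq_one.mp hone).symm
    have h1 := Nat.card_le_card_of_injective _ hinj
    rw [(fixS_octad hO').1, Nat.card_eq_fintype_card, Fintype.card_coe, Finset.card_smul_finset, hO.2] at h1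
    omega
  apply Finset.eq_of_subset_of_card_le hsub
  rw [Finset.card_smul_finset, hO.2, hO'.2]

/-! ### `Out(M24)` -/

theorem exists_octad_through {s : Finset GolayPt} (hs : s.card = 5) : ∃ O ∈ octads, s ⊆ O := by
  obtain ⟨O, ⟨h1, h2⟩, _⟩ := isSteiner.2 s hs
  exact ⟨O, h1, h2⟩

theorem out_M24 : Nat.card (Cfsg.Out ↥M24) = 1 := by
  classical
  apply card_out_eq_one
  intro α
  obtain ⟨π, _, hπ⟩ := exists_intertwiner M24 Set.univ (fun _ _ _ _ => Set.mem_univ _)
    (fun _ _ x hx => absurd (Set.mem_univ x) hx) 10200960 (fun x _ => card_stab_one x)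
    (fun K hK hc => by
      obtain ⟨y, hy⟩ := fixes_point_M24 K hK hc
      exact ⟨y, Set.mem_univ _, hy⟩)
    (fun y _ z _ h => by
      by_contra hne
      obtain ⟨w, hw⟩ : ∃ w : GolayPt, w ∉ ({y, z} : Finset GolayPt) := by
        by_contra hall
        simp only [not_exists, not_not] at hall
        have h1 : (Finset.univ : Finset GolayPt) ⊆ {y, z} := fun p _ => hall p
        have h2 := Finset.card_le_card h1
        rw [card_univ_pt] at h2
        have h3 := Finset.card_le_two (a := y) (b := z)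
        omega
      have hwy : y ≠ w := fun he => hw (by simp [← he])
      obtain ⟨g, hg, h1, h2⟩ := exists_map_pair hne hwy
      have h3 := h g hg h1
      rw [h2] at h3
      exact hw (by simp [h3]))
    α
  have hn : ∀ t ∈ M24, π⁻¹ * t * π ∈ M24 := by
    intro t ht
    have h1 := hπ (α.symm ⟨t, ht⟩)
    simp only [MulEquiv.apply_symm_apply] at h1
    generalize α.symm ⟨t, ht⟩ = s at h1
    have h2 : π⁻¹ * t * π = (s : Equiv.Perm GolayPt) := by
      calc π⁻¹ * t * π = π⁻¹ * (π * s * π⁻¹) * π := by rw [← h1]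
        _ = s := by group
    rw [h2]
    exact s.2
  have hoct : ∀ O ∈ octads, π • O ∈ octads := by
    intro O hO
    obtain ⟨A, hA, hAc⟩ := Finset.exists_subset_card_eq (s := O) (n := 5) (by rw [hO.2]; norm_num)
    obtain ⟨O', hO', hAO'⟩ := exists_octad_through (s := π • A) (by rw [Finset.card_smul_finset, hAc])
    have := smul_octad_of_normalizes hO hO' hA hAc.ge
      (fun a ha => hAO' (Finset.mem_smul_finset.mpr ⟨a, ha, rfl⟩))
      (fun t ht => hn t (mem_fixS.mp ht).1)
    rwa [this]
  have hπM : π ∈ M24 := mem_M24_of_octads hoct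
  refine ⟨⟨π, hπM⟩, fun g => ?_⟩
  apply Subtype.ext
  simpa using hπ g

/-! ### Index `23` in `M23` -/

theorem fixes_point_M23 (H : Subgroup (Equiv.Perm GolayPt)) (hH : H ≤ Cfsg.Spor.M23)
    (hc : Nat.card H = 443520) : ∃ y, y ≠ none ∧ ∀ h ∈ H, h y = y := by
  classical
  haveI : Fact (Nat.Prime 11) := ⟨by norm_num⟩
  haveI : Fact (Nat.Prime 7) := ⟨by norm_num⟩
  have hHM : ∀ g ∈ H, g ∈ M24 := fun g hg => (hH hg).1
  have hHn : ∀ g ∈ H, g none = none := fun g hg => (hH hg).2
  obtain ⟨g11, hg11, ho11⟩ := cauchy H 11 (by rw [hc]; norm_num)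
  obtain ⟨g7, hg7, ho7⟩ := cauchy H 7 (by rw [hc]; norm_num)
  have hf11c := card_fix11 (hHM _ hg11) ho11
  have hnone11 : (none : GolayPt) ∈ fixF g11 := mem_fixF.mpr (hHn _ hg11)
  obtain ⟨z, hzm, hz⟩ : ∃ z ∈ fixF g11, z ≠ none := by
    apply Finset.exists_mem_ne (by omega)
  have hf11 : fixF g11 = {none, z} := by
    symm
    apply Finset.eq_of_subset_of_card_le
    · intro p hp
      simp only [Finset.mem_insert, Finset.mem_singleton] at hp
      rcases hp with rfl | rfl
      · exact hnone11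
      · exact hzm
    · rw [hf11c, Finset.card_pair (Ne.symm hz)]
  have hn := not_mem_orbitF hHn hz
  have h1 := orbitF_modEq hg11 ho11 z
  have hi1 : orbitF H z ∩ fixF g11 = {z} := by
    rw [hf11]
    ext p
    simp only [Finset.mem_inter, Finset.mem_insert, Finset.mem_singleton]
    constructor
    · rintro ⟨hp, rfl | rfl⟩
      · exact absurd hp hn
      · rfl
    · rintro rfl
      exact ⟨self_mem_orbitF _ _, by simp⟩
  rw [hi1, Finset.card_singleton] at h1
  have hle : (orbitF H z).card ≤ 23 := by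
    have hsub : orbitF H z ⊆ Finset.univ.erase none := by
      intro y hy
      refine Finset.mem_erase.mpr ⟨?_, Finset.mem_univ _⟩
      rintro rfl
      exact hn hy
    have := Finset.card_le_card hsub
    rwa [Finset.card_erase_of_mem (Finset.mem_univ _), card_univ_pt] at this
  have h2 := orbitF_modEq hg7 ho7 z
  have hle7 : (orbitF H z ∩ fixF g7).card ≤ 2 := by
    have hsub : orbitF H z ∩ fixF g7 ⊆ (fixF g7).erase none := by
      intro y hy
      obtain ⟨hy1, hy2⟩ := Finset.mem_inter.mp hy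
      refine Finset.mem_erase.mpr ⟨?_, hy2⟩
      rintro rfl
      exact hn hy1
    have := Finset.card_le_card hsub
    rw [Finset.card_erase_of_mem (mem_fixF.mpr (hHn _ hg7)), card_fix7 (hHM _ hg7) ho7] at this
    exact this
  have hdvd : (orbitF H z).card ∣ 443520 := by
    rw [← hc, card_orbitF H z]
    exact dvd_mul_right _ _
  have hone : (orbitF H z).card = 1 := by
    unfold Nat.ModEq at h1 h2
    have h3 : (orbitF H z).card ≠ 12 := by
      intro he
      rw [he] at h2
      omega
    have h4 : (orbitF H z).card ≠ 23 := by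
      intro he
      rw [he] at hdvd
      omega
    omega
  refine ⟨z, hz, fun h hh => ?_⟩
  obtain ⟨a, ha⟩ := Finset.card_eq_one.mp hone
  have h5 : z ∈ orbitF H z := self_mem_orbitF _ _
  have h6 : h z ∈ orbitF H z := (orbitF_inv hh _ _).mp h5
  rw [ha, Finset.mem_singleton] at h5 h6
  rw [h6, h5]

/-! ### Octads through the extra point span the code -/

/-- For each generator of the code, octads through the extra point summing to it. -/
def noneCert : List (List ℕ) := [
  [8414120, 8439632, 8464984, 9045270, 10881097, 11055264],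
  [8414120, 9045270],
  [8439632, 9701932],
  [8464984, 11055264],
  [8414120, 8439632, 8464984, 9045270, 9701932, 10881097, 11055264, 12717187],
  [8414120, 10881097],
  [8414120, 10881097, 11055264, 12717187],
  [8439632, 9045270, 12717187, 13721920],
  [8439632, 8464984, 9045270, 9701932, 10881097, 11055264, 12717187, 14682450],
  [8414120, 8439632, 9701932, 9835530, 10881097, 12717187],
  [8439632, 8464984, 9045270, 11055264, 11282452, 12717187],
  [8414120, 8439632, 8464984, 9045270, 9701932, 9835530, 12717187, 13721920],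
  [11055264, 11282452, 13721920, 14682450],
  [8439632, 8464984, 9045270, 14682450],
  [9045270, 9701932, 9835530, 10881097, 11055264, 13721920],
  [8439632, 9701932, 10881097, 11282452, 13721920, 14682450],
  [8414120, 9045270, 10881097, 12717187, 13721920, 14682450],
  [9045270, 9835530, 12717187, 14682450],
  [8414120, 8439632, 9045270, 9835530, 10881097, 11055264, 11282452, 12717187],
  [8414120, 9835530, 11282452, 12717187],
  [8414120, 8464984, 9701932, 9835530, 10881097, 11055264, 11282452, 13721920],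
  [8414120, 8439632, 9835530, 11055264, 11282452, 12717187, 13721920, 14682450],
  [10881097, 11055264, 11282452, 14682450],
  [8414120, 8464984, 9701932, 11055264, 12717187]]

/-- The check of the certificate. -/
def noneChk (l : List ℕ) (m : ℕ) : Bool :=
  l.all (fun a => isOctad a && a.testBit 23) && l.foldl (· ^^^ ·) 0 == m

theorem noneChk_all : allBelow (fun t => noneChk (noneCert.getD t []) (qrMask t)) 23 = true := by
  decide +kernel

theorem noneChk_one : noneChk (noneCert.getD 23 []) oneMask = true := by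
  decide +kernel

theorem mapWord_foldl {g : Equiv.Perm GolayPt} (h : ∀ a, isOctad a = true → a.testBit 23 = true → mapWord g (dec a) ∈ golayCode)
    (l : List ℕ) (hl : l.all (fun a => isOctad a && a.testBit 23) = true) (acc : ℕ)
    (hacc : mapWord g (dec acc) ∈ golayCode) : mapWord g (dec (l.foldl (· ^^^ ·) acc)) ∈ golayCode := by
  induction l generalizing acc with
  | nil => exact hacc
  | cons a l ih =>
    simp only [List.all_cons, Bool.and_eq_true] at hl
    obtain ⟨⟨h1, h2⟩, h3⟩ := hl
    rw [List.foldl_cons]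
    apply ih h3
    rw [dec_xor, mapWord_add]
    exact add_mem hacc (h a h1 h2)

theorem mem_M24_of_octads_none {g : Equiv.Perm GolayPt}
    (h : ∀ o ∈ octads, (none : GolayPt) ∈ o → g • o ∈ octads) : g ∈ M24 := by
  have hoct : ∀ a, isOctad a = true → a.testBit 23 = true → mapWord g (dec a) ∈ golayCode := by
    intro a ha ha23
    have hmem : (none : GolayPt) ∈ supFin a := mem_supFin.mpr ha23
    have h1 := h _ (supFin_mem_octads ha) hmem
    obtain ⟨w, hw, hwe⟩ := h1.1
    have : mapWord g (dec a) = w := by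
      apply support_inj
      rw [support_mapWord, support_dec, hwe]
    rw [this]
    exact hw
  have hzero : mapWord g (dec 0) ∈ golayCode := by
    have : mapWord g (dec 0) = 0 := by
      funext p
      simp [mapWord, dec]
    rw [this]
    exact zero_mem _
  apply mem_M24_of_forall
  intro w hw
  apply mapWord_mem_of_gens _ _ hw
  · intro t
    rw [← dec_qrMask]
    have h1 := allBelow_spec noneChk_all t.val t.val_lt
    simp only [noneChk, Bool.and_eq_true, beq_iff_eq] at h1
    rw [← h1.2]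
    exact mapWord_foldl hoct _ h1.1 0 hzero
  · rw [← dec_oneMask]
    have h1 := noneChk_one
    simp only [noneChk, Bool.and_eq_true, beq_iff_eq] at h1
    rw [← h1.2]
    exact mapWord_foldl hoct _ h1.1 0 hzero

/-! ### `Out(M23)` -/

theorem out_M23 : Nat.card (Cfsg.Out ↥Cfsg.Spor.M23) = 1 := by
  classical
  apply card_out_eq_one
  intro α
  have hM23M : ∀ g ∈ Cfsg.Spor.M23, g ∈ M24 := fun g hg => hg.1
  have hM23n : ∀ g ∈ Cfsg.Spor.M23, g none = none := fun g hg => hg.2
  obtain ⟨π, hπn, hπ⟩ := exists_intertwiner Cfsg.Spor.M23 {x | x ≠ none}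
    (fun g hg x hx he => hx (g.injective (by rw [he, hM23n g hg])))
    (fun g hg x hx => by
      have : x = none := by simpa using hx
      rw [this]; exact hM23n g hg)
    443520 (fun x hx => card_stab_two (Ne.symm hx))
    (fun K hK hc => by
      obtain ⟨y, hy1, hy2⟩ := fixes_point_M23 K hK hc
      exact ⟨y, hy1, hy2⟩)
    (fun y hy z hz h => by
      by_contra hne
      obtain ⟨w, hw⟩ : ∃ w : GolayPt, w ∉ ({none, y, z} : Finset GolayPt) := by
        by_contra hall
        simp only [not_exists, not_not] at hall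
        have h1 : (Finset.univ : Finset GolayPt) ⊆ {none, y, z} := fun p _ => hall p
        have h2 := Finset.card_le_card h1
        rw [card_univ_pt] at h2
        have h3 := Finset.card_le_three (a := (none : GolayPt)) (b := y) (c := z)
        omega
      simp only [Finset.mem_insert, Finset.mem_singleton, not_or] at hw
      obtain ⟨hw1, hw2, hw3⟩ := hw
      obtain ⟨g, hg, h1, h2, h3⟩ := exists_map_triple (p := none) (q := y) (r := z) (p' := none) (q' := y) (r' := w)
        (Ne.symm hy) (Ne.symm hz) hne (Ne.symm hy) (Ne.symm hw1) (Ne.symm hw2)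
      have hg' : g ∈ Cfsg.Spor.M23 := ⟨hg, h1⟩
      have h4 := h g hg' h2
      rw [h3] at h4
      exact hw3 h4)
    α
  have hπnone : π none = none := hπn none (by simp)
  have hn : ∀ t ∈ Cfsg.Spor.M23, π⁻¹ * t * π ∈ Cfsg.Spor.M23 := by
    intro t ht
    have h1 := hπ (α.symm ⟨t, ht⟩)
    simp only [MulEquiv.apply_symm_apply] at h1
    generalize α.symm ⟨t, ht⟩ = s at h1
    have h2 : π⁻¹ * t * π = (s : Equiv.Perm GolayPt) := by
      calc π⁻¹ * t * π = π⁻¹ * (π * s * π⁻¹) * π := by rw [← h1]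
        _ = s := by group
    rw [h2]
    exact s.2
  have hoct : ∀ O ∈ octads, (none : GolayPt) ∈ O → π • O ∈ octads := by
    intro O hO hnO
    obtain ⟨A0, hA0, hA0c⟩ := Finset.exists_subset_card_eq (s := O.erase none) (n := 4) (by
      rw [Finset.card_erase_of_mem hnO, hO.2]; norm_num)
    have hnA0 : (none : GolayPt) ∉ A0 := fun h => (Finset.mem_erase.mp (hA0 h)).1 rfl
    have hA : insert none A0 ⊆ O := by
      intro p hp
      rw [Finset.mem_insert] at hp
      rcases hp with rfl | hp
      · exact hnO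
      · exact (Finset.mem_erase.mp (hA0 hp)).2
    have hAc : (insert none A0).card = 5 := by
      rw [Finset.card_insert_of_notMem hnA0, hA0c]
    obtain ⟨O', hO', hAO'⟩ := exists_octad_through (s := π • insert none A0) (by rw [Finset.card_smul_finset, hAc])
    have hnO' : (none : GolayPt) ∈ O' := by
      apply hAO'
      rw [Finset.mem_smul_finset]
      exact ⟨none, Finset.mem_insert_self _ _, hπnone⟩
    have := smul_octad_of_normalizes hO hO' hA hAc.ge
      (fun a ha => hAO' (Finset.mem_smul_finset.mpr ⟨a, ha, rfl⟩))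
      (fun t ht => by
        obtain ⟨ht1, ht2⟩ := mem_fixS.mp ht
        exact (hn t ⟨ht1, ht2 none hnO'⟩).1)
    rwa [this]
  have hπM : π ∈ Cfsg.Spor.M23 := ⟨mem_M24_of_octads_none hoct, hπnone⟩
  refine ⟨⟨π, hπM⟩, fun g => ?_⟩
  apply Subtype.ext
  simpa using hπ g

end Cfsg.Agent.Lib.GolayAut
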