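import Mathlib
import Cfsg.Prelude.Def_Sporadic_a
import Cfsg.Prelude.Def_SporadicCombinatorics
import Cfsg.Prelude.Def_KGroupFacts
import Cfsg.Prelude.Def_Spor_Mathieu
import Cfsg.Agent.Lib.GolayAut

/-!
# The outer automorphism group of `M22`

* `fixes_point_M22`: subgroups of index `22` in `M22` fix one of the `22` points.
* `card_out_eq_two`: criterion for order two.
* `out_M22`, `M22_relIndex`, `M22_not_inner`.
-/

set_option autoImplicit false
set_option linter.style.haveILetI false
set_option linter.constructorNameAsVariable false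

open scoped Pointwise

namespace Cfsg.Agent.Lib.GolayAut22

open Cfsg Cfsg.Agent.Lib.GolayCode Cfsg.Agent.Lib.GolayFacts Cfsg.Agent.Lib.GolayPerm
  Cfsg.Agent.Lib.GolayChain Cfsg.Agent.Lib.GolayTrans Cfsg.Agent.Lib.GolayDecomp
  Cfsg.Agent.Lib.GolayOctad Cfsg.Agent.Lib.GolayFix Cfsg.Agent.Lib.GolayAut

/-- The outer automorphism group has order two. -/
theorem card_out_eq_two {G : Type*} [Group G] (β : MulAut G) (hβ : β ∉ Cfsg.Inn G)
    (h : ∀ α : MulAut G, α ∈ Cfsg.Inn G ∨ α * β ∈ Cfsg.Inn G) : Nat.card (Cfsg.Out G) = 2 := by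
  change (Cfsg.Inn G).index = 2
  rw [Subgroup.index_eq_two_iff]
  refine ⟨β, fun b => ?_⟩
  by_cases hb : b ∈ Cfsg.Inn G
  · refine Or.inr ⟨hb, fun hc => hβ ?_⟩
    have : β = b⁻¹ * (b * β) := by group
    rw [this]
    exact mul_mem (inv_mem hb) hc
  · rcases h b with h1 | h1
    · exact absurd h1 hb
    · exact Or.inl ⟨h1, hb⟩

/-- The automorphism of a subgroup induced by a normalizing element. -/
def conjAut {X : Type*} (G : Subgroup (Equiv.Perm X)) (k : Equiv.Perm X) (h1 : ∀ x ∈ G, k * x * k⁻¹ ∈ G)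
    (h2 : ∀ x ∈ G, k⁻¹ * x * k ∈ G) : MulAut G where
  toFun x := ⟨k * x.1 * k⁻¹, h1 x.1 x.2⟩
  invFun x := ⟨k⁻¹ * x.1 * k, h2 x.1 x.2⟩
  left_inv x := by
    apply Subtype.ext
    simp only
    group
  right_inv x := by
    apply Subtype.ext
    simp only
    group
  map_mul' x y := by
    apply Subtype.ext
    simp only [Subgroup.coe_mul]
    group

theorem conjAut_apply {X : Type*} (G : Subgroup (Equiv.Perm X)) (k : Equiv.Perm X)
    (h1 : ∀ x ∈ G, k * x * k⁻¹ ∈ G) (h2 : ∀ x ∈ G, k⁻¹ * x * k ∈ G) (x : G) :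
    ((conjAut G k h1 h2 x : G) : Equiv.Perm X) = k * x.1 * k⁻¹ := rfl

/-! ### The group -/

theorem G2_eq : G 2 = Cfsg.Spor.M22 := by
  ext g
  rw [mem_G]
  constructor
  · rintro ⟨h1, h2⟩
    exact ⟨⟨h1, h2 0 (by norm_num)⟩, h2 1 (by norm_num)⟩
  · rintro ⟨⟨h1, h2⟩, h3⟩
    refine ⟨h1, fun j hj => ?_⟩
    interval_cases j
    · exact h2
    · exact h3

theorem mem_M22 {g : Equiv.Perm GolayPt} :
    g ∈ Cfsg.Spor.M22 ↔ g ∈ M24 ∧ g none = none ∧ g (some 0) = some 0 := by
  constructor
  · rintro ⟨⟨h1, h2⟩, h3⟩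
    exact ⟨h1, h2, h3⟩
  · rintro ⟨h1, h2, h3⟩
    exact ⟨⟨h1, h2⟩, h3⟩

theorem none_ne : (none : GolayPt) ≠ some 0 := by simp

/-- The `22` points. -/
def Om : Finset GolayPt := (Finset.univ.erase none).erase (some 0)

theorem mem_Om {p : GolayPt} : p ∈ Om ↔ p ≠ none ∧ p ≠ some 0 := by
  simp [Om, and_comm]

theorem card_Om : Om.card = 22 := by decide

theorem exists_map_quad {a b c d a' b' c' d' : GolayPt} (h1 : a ≠ b) (h2 : a ≠ c) (h3 : a ≠ d) (h4 : b ≠ c)
    (h5 : b ≠ d) (h6 : c ≠ d) (h1' : a' ≠ b') (h2' : a' ≠ c') (h3' : a' ≠ d') (h4' : b' ≠ c')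
    (h5' : b' ≠ d') (h6' : c' ≠ d') :
    ∃ g ∈ M24, g a = a' ∧ g b = b' ∧ g c = c' ∧ g d = d' := by
  obtain ⟨g, hg, h⟩ := exists_map_tuple 4 (by norm_num)
    (fun i => if i = 0 then a else if i = 1 then b else if i = 2 then c else d)
    (fun i => if i = 0 then a' else if i = 1 then b' else if i = 2 then c' else d')
    (fun x hx y hy hxy => by
      interval_cases x <;> interval_cases y <;> simp_all [Ne.symm])
    (fun x hx y hy hxy => by
      interval_cases x <;> interval_cases y <;> simp_all [Ne.symm])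
  exact ⟨g, hg, by simpa using h 0 (by norm_num), by simpa using h 1 (by norm_num),
    by simpa using h 2 (by norm_num), by simpa using h 3 (by norm_num)⟩

/-- Order of a point stabilizer. -/
theorem card_stab_M22 {x : GolayPt} (hx : x ∈ Om) :
    Nat.card ↥(Cfsg.Spor.M22 ⊓ MulAction.stabilizer (Equiv.Perm GolayPt) x) = 20160 := by
  classical
  have hx' := mem_Om.mp hx
  have h := card_eq_mul Cfsg.Spor.M22 x Om
    (fun y hy => by
      have hy' := mem_Om.mp hy
      obtain ⟨g, hg, h1, h2, h3⟩ := exists_map_triple (p := none) (q := some 0) (r := x)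
        (p' := none) (q' := some 0) (r' := y) none_ne (Ne.symm hx'.1) (Ne.symm hx'.2)
        none_ne (Ne.symm hy'.1) (Ne.symm hy'.2)
      exact ⟨g, mem_M22.mpr ⟨hg, h1, h2⟩, h3⟩)
    (fun g hg => by
      obtain ⟨h1, h2, h3⟩ := mem_M22.mp hg
      refine mem_Om.mpr ⟨fun he => hx'.1 (g.injective (by rw [he, h2])), fun he => hx'.2 (g.injective (by rw [he, h3]))⟩)
  rw [← G2_eq, card_G2, card_Om, G2_eq] at h
  omega

/-! ### Index `22` -/

theorem fixes_point_M22 (H : Subgroup (Equiv.Perm GolayPt)) (hH : H ≤ Cfsg.Spor.M22)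
    (hc : Nat.card H = 20160) : ∃ y ∈ Om, ∀ h ∈ H, h y = y := by
  classical
  haveI : Fact (Nat.Prime 7) := ⟨by norm_num⟩
  haveI : Fact (Nat.Prime 5) := ⟨by norm_num⟩
  have hHM : ∀ g ∈ H, g ∈ M24 := fun g hg => (mem_M22.mp (hH hg)).1
  have hHa : ∀ g ∈ H, g none = none := fun g hg => (mem_M22.mp (hH hg)).2.1
  have hHb : ∀ g ∈ H, g (some 0) = some 0 := fun g hg => (mem_M22.mp (hH hg)).2.2
  obtain ⟨g7, hg7, ho7⟩ := cauchy H 7 (by rw [hc]; norm_num)
  obtain ⟨g5, hg5, ho5⟩ := cauchy H 5 (by rw [hc]; norm_num)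
  have hf7c := card_fix7 (hHM _ hg7) ho7
  have hcard2 : ({none, some 0} : Finset GolayPt).card = 2 := Finset.card_pair none_ne
  obtain ⟨c, hcm, hc'⟩ : ∃ c ∈ fixF g7, c ∉ ({none, some 0} : Finset GolayPt) := by
    apply Finset.exists_mem_notMem_of_card_lt_card
    rw [hf7c, hcard2]
    norm_num
  have hca : c ≠ none := fun he => hc' (by simp [he])
  have hcb : c ≠ some 0 := fun he => hc' (by simp [he])
  have hf7 : fixF g7 = {none, some 0, c} := by
    symm
    apply Finset.eq_of_subset_of_card_le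
    · intro p hp
      simp only [Finset.mem_insert, Finset.mem_singleton] at hp
      rcases hp with rfl | rfl | rfl
      · exact mem_fixF.mpr (hHa _ hg7)
      · exact mem_fixF.mpr (hHb _ hg7)
      · exact hcm
    · rw [hf7c, Finset.card_eq_three.mpr ⟨none, some 0, c, none_ne, Ne.symm hca, Ne.symm hcb, rfl⟩]
  have hna := not_mem_orbitF hHa hca
  have hnb := not_mem_orbitF hHb hcb
  have hsubOm : orbitF H c ⊆ Om := by
    intro y hy
    refine mem_Om.mpr ⟨?_, ?_⟩
    · rintro rfl; exact hna hy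
    · rintro rfl; exact hnb hy
  have h1 := orbitF_modEq hg7 ho7 c
  have hi1 : orbitF H c ∩ fixF g7 = {c} := by
    rw [hf7]
    ext p
    simp only [Finset.mem_inter, Finset.mem_insert, Finset.mem_singleton]
    constructor
    · rintro ⟨hp, rfl | rfl | rfl⟩
      · exact absurd hp hna
      · exact absurd hp hnb
      · rfl
    · rintro rfl
      exact ⟨self_mem_orbitF _ _, by simp⟩
  rw [hi1, Finset.card_singleton] at h1
  have h2 := orbitF_modEq hg5 ho5 c
  have hle5 : (orbitF H c ∩ fixF g5).card ≤ 2 := by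
    have hsub : orbitF H c ∩ fixF g5 ⊆ ((fixF g5).erase none).erase (some 0) := by
      intro y hy
      obtain ⟨hy1, hy2⟩ := Finset.mem_inter.mp hy
      have hy3 := mem_Om.mp (hsubOm hy1)
      exact Finset.mem_erase.mpr ⟨hy3.2, Finset.mem_erase.mpr ⟨hy3.1, hy2⟩⟩
    have := Finset.card_le_card hsub
    rw [Finset.card_erase_of_mem (Finset.mem_erase.mpr ⟨Ne.symm none_ne, mem_fixF.mpr (hHb _ hg5)⟩),
      Finset.card_erase_of_mem (mem_fixF.mpr (hHa _ hg5)), card_fix5 (hHM _ hg5) ho5] at this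
    exact this
  have hle : (orbitF H c).card ≤ 22 := by
    have := Finset.card_le_card hsubOm
    rwa [card_Om] at this
  have hdvd : (orbitF H c).card ∣ 20160 := by
    rw [← hc, card_orbitF H c]
    exact dvd_mul_right _ _
  have hne22 : (orbitF H c).card ≠ 22 := by
    intro he
    rw [he] at hdvd
    omega
  have hne15 : (orbitF H c).card ≠ 15 := by
    intro he
    -- the complement has `7` points and the action on it is faithful
    set C := Om \ orbitF H c with hC
    have hCc : C.card = 7 := by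
      rw [hC, Finset.card_sdiff_of_subset hsubOm, card_Om, he]
    have hinv : ∀ h ∈ H, ∀ x, x ∈ C ↔ h x ∈ C := by
      intro h hh x
      simp only [hC, Finset.mem_sdiff, mem_Om]
      have h1 := orbitF_inv hh c x
      have h2 : h x ≠ none ↔ x ≠ none := by
        constructor
        · rintro h3 rfl; exact h3 (hHa h hh)
        · intro h3 h4; exact h3 (h.injective (by rw [h4, hHa h hh]))
      have h3 : h x ≠ some 0 ↔ x ≠ some 0 := by
        constructor
        · rintro h3 rfl; exact h3 (hHb h hh)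
        · intro h3 h4; exact h3 (h.injective (by rw [h4, hHb h hh]))
      rw [h2, h3, ← h1]
    let φ : H → Equiv.Perm {x // x ∈ C} := fun h => (h : Equiv.Perm GolayPt).subtypePerm (fun x => (hinv h.1 h.2 x).symm)
    have hφ : Function.Injective φ := by
      intro a b hab
      have hone : (b⁻¹ * a : Equiv.Perm GolayPt) = 1 := by
        apply eq_one_of_nine (mul_mem (inv_mem (hHM _ b.2)) (hHM _ a.2))
        have hs : insert none (insert (some 0) C) ⊆ fixF ((b : Equiv.Perm GolayPt)⁻¹ * a) := by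
          intro p hp
          simp only [Finset.mem_insert] at hp
          rw [mem_fixF, Equiv.Perm.mul_apply, Equiv.Perm.inv_eq_iff_eq]
          rcases hp with rfl | rfl | hp
          · rw [hHa _ a.2, hHa _ b.2]
          · rw [hHb _ a.2, hHb _ b.2]
          · have := congrArg (fun f : Equiv.Perm {x // x ∈ C} => (f ⟨p, hp⟩ : GolayPt)) hab
            simpa [φ] using this
        have h1 := Finset.card_le_card hs
        have ha : (none : GolayPt) ∉ insert (some 0) C := by
          simp [hC, mem_Om]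
        have hb : (some 0 : GolayPt) ∉ C := by
          simp [hC, mem_Om]
        rw [Finset.card_insert_of_notMem ha, Finset.card_insert_of_notMem hb, hCc] at h1
        exact h1
      apply Subtype.ext
      exact (inv_mul_eq_one.mp hone).symm
    have h5 := Nat.card_le_card_of_injective φ hφ
    rw [hc, Nat.card_eq_fintype_card, Fintype.card_perm, Fintype.card_coe, hCc] at h5
    revert h5
    decide
  have hone : (orbitF H c).card = 1 := by
    unfold Nat.ModEq at h1 h2
    have h8 : (orbitF H c).card ≠ 8 := by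
      intro he
      rw [he] at h2
      omega
    have hpos : 0 < (orbitF H c).card := Finset.card_pos.mpr ⟨_, self_mem_orbitF _ _⟩
    omega
  refine ⟨c, mem_Om.mpr ⟨hca, hcb⟩, fun h hh => ?_⟩
  obtain ⟨a, ha⟩ := Finset.card_eq_one.mp hone
  have h5 : c ∈ orbitF H c := self_mem_orbitF _ _
  have h6 : h c ∈ orbitF H c := (orbitF_inv hh _ _).mp h5
  rw [ha, Finset.mem_singleton] at h5 h6
  rw [h6, h5]

theorem sep_M22 {y z : GolayPt} (hy : y ∈ Om) (hz : z ∈ Om)
    (h : ∀ g ∈ Cfsg.Spor.M22, g y = y → g z = z) : y = z := by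
  classical
  by_contra hne
  have hy' := mem_Om.mp hy
  have hz' := mem_Om.mp hz
  obtain ⟨w, hw⟩ : ∃ w : GolayPt, w ∉ ({none, some 0, y, z} : Finset GolayPt) := by
    by_contra hall
    simp only [not_exists, not_not] at hall
    have h1 : (Finset.univ : Finset GolayPt) ⊆ {none, some 0, y, z} := fun p _ => hall p
    have h2 := Finset.card_le_card h1
    rw [card_univ_pt] at h2
    have h3 := Finset.card_le_four (a := (none : GolayPt)) (b := some 0) (c := y) (d := z)
    omega
  simp only [Finset.mem_insert, Finset.mem_singleton, not_or] at hw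
  obtain ⟨hw1, hw2, hw3, hw4⟩ := hw
  obtain ⟨g, hg, h1, h2, h3, h4⟩ := exists_map_quad (a := none) (b := some 0) (c := y) (d := z)
    (a' := none) (b' := some 0) (c' := y) (d' := w) none_ne (Ne.symm hy'.1) (Ne.symm hz'.1)
    (Ne.symm hy'.2) (Ne.symm hz'.2) hne none_ne (Ne.symm hy'.1) (Ne.symm hw1) (Ne.symm hy'.2)
    (Ne.symm hw2) (Ne.symm hw3)
  have h5 := h g (mem_M22.mpr ⟨hg, h1, h2⟩) h3
  rw [h4] at h5
  exact hw4 h5

/-! ### Automorphisms of the `77` octads through the two points -/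

/-- The permutations preserving the octads through the two points. -/
def PresOct (g : Equiv.Perm GolayPt) : Prop :=
  ∀ o ∈ octads, (none : GolayPt) ∈ o → some 0 ∈ o → g • o ∈ octads

/-- A propagation step, inside the octads through the two points. -/
def fixStepN (F : ℕ) (s : ℕ × ℕ) : ℕ :=
  let R := (s.1 &&& s.2) ^^^ ((s.1 &&& s.2) &&& F)
  if isOctad s.1 && isOctad s.2 && decide (5 ≤ hw 24 (s.1 &&& F)) && decide (5 ≤ hw 24 (s.2 &&& F)) &&
      (hw 24 R == 1) && s.1.testBit 23 && s.1.testBit 0 && s.2.testBit 23 && s.2.testBit 0 then F ||| R else F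

theorem octad_fixed_of_stepN {g : Equiv.Perm GolayPt} (hg : PresOct g) {F m : ℕ}
    (hF : ∀ p ∈ supFin F, g p = p) (hm : isOctad m = true) (h5 : 5 ≤ hw 24 (m &&& F))
    (h23 : m.testBit 23 = true) (h0 : m.testBit 0 = true) :
    g • supFin m = supFin m := by
  classical
  by_contra hne
  have hm' := supFin_mem_octads hm
  have h1 := card_inter_octads_le (hg _ hm' (mem_supFin.mpr h23) (mem_supFin.mpr h0)) hm' hne
  have h2 : supFin (m &&& F) ⊆ g • supFin m ∩ supFin m := by
    intro p hp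
    obtain ⟨hp1, hp2⟩ := mem_supFin_and.mp hp
    refine Finset.mem_inter.mpr ⟨?_, hp1⟩
    rw [Finset.mem_smul_finset]
    exact ⟨p, hp1, hF p hp2⟩
  have h3 := Finset.card_le_card h2
  rw [card_supFin] at h3
  omega

theorem fixStepN_sound {g : Equiv.Perm GolayPt} (hg : PresOct g) {F : ℕ} (s : ℕ × ℕ)
    (hF : ∀ p ∈ supFin F, g p = p) : ∀ p ∈ supFin (fixStepN F s), g p = p := by
  classical
  unfold fixStepN
  dsimp only
  split_ifs with h
  · simp only [Bool.and_eq_true, decide_eq_true_eq, beq_iff_eq] at h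
    obtain ⟨⟨⟨⟨⟨⟨⟨⟨h1, h2⟩, h3⟩, h4⟩, h5⟩, h6⟩, h7⟩, h8⟩, h9⟩ := h
    set R := (s.1 &&& s.2) ^^^ ((s.1 &&& s.2) &&& F) with hR
    have hmemR : ∀ q, q ∈ supFin R ↔ (q ∈ supFin s.1 ∧ q ∈ supFin s.2) ∧ q ∉ supFin F := by
      intro q
      simp only [hR, mem_supFin, Nat.testBit_xor, Nat.testBit_and]
      cases s.1.testBit (ptIdx q) <;> cases s.2.testBit (ptIdx q) <;>
        cases F.testBit (ptIdx q) <;> simp
    have hs1 := octad_fixed_of_stepN hg hF h1 h3 h6 h7
    have hs2 := octad_fixed_of_stepN hg hF h2 h4 h8 h9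
    rw [← card_supFin, Finset.card_eq_one] at h5
    obtain ⟨y, hy⟩ := h5
    intro p hp
    rw [mem_supFin, Nat.testBit_or, Bool.or_eq_true, ← mem_supFin, ← mem_supFin] at hp
    rcases hp with hp | hp
    · exact hF p hp
    · have hpy : p = y := by
        rw [hy] at hp
        simpa using hp
      have hyR : y ∈ supFin R := by rw [hy]; simp
      obtain ⟨⟨hy1, hy2⟩, hyF⟩ := (hmemR y).mp hyR
      have hgy1 : g y ∈ supFin s.1 := by
        rw [← hs1, Finset.mem_smul_finset]; exact ⟨y, hy1, rfl⟩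
      have hgy2 : g y ∈ supFin s.2 := by
        rw [← hs2, Finset.mem_smul_finset]; exact ⟨y, hy2, rfl⟩
      rw [hpy]
      by_cases hgyF : g y ∈ supFin F
      · have h6 := hF _ hgyF
        exact g.injective h6
      · have : g y ∈ supFin R := (hmemR _).mpr ⟨⟨hgy1, hgy2⟩, hgyF⟩
        rw [hy] at this
        simpa using this
  · exact hF

theorem fixStepsN_sound {g : Equiv.Perm GolayPt} (hg : PresOct g) {F : ℕ} (l : List (ℕ × ℕ))
    (hF : ∀ p ∈ supFin F, g p = p) : ∀ p ∈ supFin (l.foldl fixStepN F), g p = p := by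
  induction l generalizing F with
  | nil => exact hF
  | cons s l ih => exact ih (fixStepN_sound hg s hF)

/-- Propagation steps. -/
def stepsN : List (ℕ × ℕ) :=
  [(9963547, 9830549), (9963547, 8546577), (9963547, 9112069), (9506893, 11731203), (9506893, 8663097),
   (9506893, 8593633), (13124355, 14716939), (13124355, 11731203), (13124355, 8499969), (12747077, 14716939),
   (14716939, 11731203), (8688833, 8663097), (8688833, 8619033), (8688833, 8593633), (8663097, 8593633)]

theorem stepsN_full : stepsN.foldl fixStepN (octad0 ||| 16) = 16777215 := by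
  decide +kernel

/-- An automorphism of the octads through the two points fixing `octad0` and the point `4` is trivial. -/
theorem eq_one_of_presOct {g : Equiv.Perm GolayPt} (hg : PresOct g)
    (h : ∀ p ∈ supFin (octad0 ||| 16), g p = p) : g = 1 := by
  have h3 := fixStepsN_sound hg stepsN h
  rw [stepsN_full] at h3
  ext1 p
  apply h3
  rw [mem_supFin]
  have hp := ptIdx_lt p
  revert p
  decide +kernel

/-- The element exchanging the two points. -/
def rho0 : List ℕ := [23, 1, 2, 3, 4, 5, 10, 15, 8, 21, 6, 11, 18, 13, 17, 7, 22, 14, 12, 20, 19, 9, 16, 0]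

theorem rho0_aut : isAut rho0 = true := by decide +kernel

theorem rho0_mem : toPerm rho0 ∈ M24 := toPerm_mem_M24 rho0_aut

theorem rho0_invol : toPerm rho0 * toPerm rho0 = 1 := by
  have hv := isAut_valid rho0_aut
  have hr := isAut_inRange rho0_aut
  ext1 p
  apply ptIdx_injective
  rw [Equiv.Perm.mul_apply, ptIdx_toPerm hv hr, ptIdx_toPerm hv hr]
  have hp := ptIdx_lt p
  have : ∀ i < 24, img rho0 (img rho0 i) = i := by decide +kernel
  rw [this _ hp]
  rfl

theorem rho0_apply {i : ℕ} (hi : i < 24) : toPerm rho0 (idxPt i) = idxPt (img rho0 i) :=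
  toPerm_idxPt (isAut_valid rho0_aut) hi

theorem rho0_none : toPerm rho0 none = some 0 := by
  have := rho0_apply (i := 23) (by norm_num)
  exact this

theorem rho0_some : toPerm rho0 (some 0) = none := by
  have := rho0_apply (i := 0) (by norm_num)
  exact this

/-- The transposition of the two points. -/
def tau : Equiv.Perm GolayPt := Equiv.swap none (some 0)

/-- The element fixing the two points. -/
noncomputable def rho : Equiv.Perm GolayPt := toPerm rho0 * tau

theorem rho_idx {i : ℕ} (hi : i < 24) (h1 : i ≠ 23) (h2 : i ≠ 0) : rho (idxPt i) = idxPt (img rho0 i) := by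
  rw [rho, Equiv.Perm.mul_apply, tau, Equiv.swap_apply_of_ne_of_ne, rho0_apply hi]
  · intro he
    have := congrArg ptIdx he
    rw [ptIdx_idxPt hi] at this
    exact h1 this
  · intro he
    have := congrArg ptIdx he
    rw [ptIdx_idxPt hi] at this
    exact h2 this

theorem rho_none : rho none = none := by
  rw [rho, Equiv.Perm.mul_apply, tau, Equiv.swap_apply_left, rho0_some]

theorem rho_some : rho (some 0) = some 0 := by
  rw [rho, Equiv.Perm.mul_apply, tau, Equiv.swap_apply_right, rho0_none]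

theorem tau_smul_of_mem {o : Finset GolayPt} (h1 : (none : GolayPt) ∈ o) (h2 : some 0 ∈ o) : tau • o = o := by
  ext p
  rw [Finset.mem_smul_finset]
  constructor
  · rintro ⟨q, hq, rfl⟩
    by_cases ha : q = none
    · subst ha; simpa [tau] using h2
    by_cases hb : q = some 0
    · subst hb; simpa [tau] using h1
    rw [tau, Equiv.Perm.smul_def, Equiv.swap_apply_of_ne_of_ne ha hb]
    exact hq
  · intro hp
    by_cases ha : p = none
    · subst ha; exact ⟨some 0, h2, by simp [tau]⟩
    by_cases hb : p = some 0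
    · subst hb; exact ⟨none, h1, by simp [tau]⟩
    exact ⟨p, hp, by rw [tau, Equiv.Perm.smul_def, Equiv.swap_apply_of_ne_of_ne ha hb]⟩

theorem presOct_rho : PresOct rho := by
  intro o ho h1 h2
  rw [rho, mul_smul, tau_smul_of_mem h1 h2]
  exact smul_mem_octads rho0_mem ho

theorem presOct_mul {a b : Equiv.Perm GolayPt} (ha : a ∈ M24) (hb : PresOct b) : PresOct (a * b) := by
  intro o ho h1 h2
  rw [mul_smul]
  exact smul_mem_octads ha (hb o ho h1 h2)

theorem presOct_rho_mul {b : Equiv.Perm GolayPt} (hb : PresOct b) (h1 : b none = none) (h2 : b (some 0) = some 0) :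
    PresOct (rho * b) := by
  intro o ho ha hb'
  rw [mul_smul]
  refine presOct_rho _ (hb o ho ha hb') ?_ ?_
  · exact Finset.mem_smul_finset.mpr ⟨none, ha, h1⟩
  · exact Finset.mem_smul_finset.mpr ⟨some 0, hb', h2⟩

theorem idxPt_bs0 : idxPt (bs 0) = none := rfl
theorem idxPt_bs1 : idxPt (bs 1) = some 0 := rfl

/-- Lowering one level. -/
theorem lower_small {j : ℕ} (hj : j < 5) {π : Equiv.Perm GolayPt}
    (h : ∀ i < j, π (idxPt (bs i)) = idxPt (bs i)) :
    ∃ g ∈ G j, ∀ i < j + 1, (g⁻¹ * π) (idxPt (bs i)) = idxPt (bs i) := by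
  have hy : ∀ i < j, π (idxPt (bs j)) ≠ idxPt (bs i) := by
    intro i hi he
    rw [← h i hi] at he
    have h1 := congrArg ptIdx (π.injective he)
    rw [ptIdx_idxPt (bs_lt j (by omega)), ptIdx_idxPt (bs_lt i (by omega))] at h1
    have := bs_injective j (by omega) i (by omega) h1
    omega
  obtain ⟨g, hg, hge⟩ := orbit_sup (i := j) (by omega) (mem_delta_of_ne hj hy)
  refine ⟨g, hg, fun i hi => ?_⟩
  simp only [Equiv.Perm.mul_apply]
  rw [Equiv.Perm.inv_eq_iff_eq]
  by_cases hij : i = j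
  · subst hij
    exact hge.symm
  · rw [h i (by omega)]
    exact ((mem_G.mp hg).2 i (by omega)).symm

theorem fix5_mask : ∀ p : GolayPt, p ∈ supFin 8388623 → ∃ j < 5, p = idxPt (bs j) := by
  decide +kernel

theorem presOct_octad0 {σ : Equiv.Perm GolayPt} (hσ : PresOct σ)
    (h : ∀ i < 5, σ (idxPt (bs i)) = idxPt (bs i)) : σ • supFin octad0 = supFin octad0 := by
  refine octad_fixed_of_stepN hσ (F := 8388623) ?_ (by decide +kernel) (by decide +kernel)
    (by decide +kernel) (by decide +kernel)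
  intro p hp
  obtain ⟨j, hj, rfl⟩ := fix5_mask p hp
  exact h j hj

theorem smul_mem_of_mem {σ : Equiv.Perm GolayPt} {s : Finset GolayPt} (h : σ • s = s) {p : GolayPt}
    (hp : p ∈ s) : σ p ∈ s := by
  rw [← h]
  exact Finset.mem_smul_finset.mpr ⟨p, hp, rfl⟩

theorem not_smul_mem_of_not_mem {σ : Equiv.Perm GolayPt} {s : Finset GolayPt} (h : σ • s = s) {p : GolayPt}
    (hp : p ∉ s) : σ p ∉ s := by
  rw [← h]
  intro hc
  obtain ⟨q, hq, he⟩ := Finset.mem_smul_finset.mp hc
  have : q = p := σ.injective he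
  exact hp (this ▸ hq)

/-- Rigidity at the bottom. -/
theorem rigid {σ : Equiv.Perm GolayPt} (hσ : PresOct σ) (h : ∀ i < 7, σ (idxPt (bs i)) = idxPt (bs i))
    (h14 : σ (idxPt 14) = idxPt 14) : σ = 1 := by
  have hoc := presOct_octad0 hσ (fun i hi => h i (by omega))
  have h17 : σ (idxPt 17) = idxPt 17 := by
    have h1 := smul_mem_of_mem hoc (p := idxPt 17) (by decide +kernel)
    have hchk : ∀ q : GolayPt, q ∈ supFin octad0 → q = idxPt 23 ∨ q = idxPt 0 ∨ q = idxPt 1 ∨ q = idxPt 2 ∨
        q = idxPt 3 ∨ q = idxPt 5 ∨ q = idxPt 14 ∨ q = idxPt 17 := by decide +kernel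
    have hf : ∀ {a b : ℕ}, b < 24 → a < 24 → a ≠ b → σ (idxPt a) = idxPt a → σ (idxPt b) ≠ idxPt a := by
      intro a b hb ha hab h2 h3
      rw [← h2] at h3
      have := congrArg ptIdx (σ.injective h3)
      rw [ptIdx_idxPt hb, ptIdx_idxPt ha] at this
      omega
    rcases hchk _ h1 with h2 | h2 | h2 | h2 | h2 | h2 | h2 | h2
    · exact absurd h2 (hf (by norm_num) (by norm_num) (by norm_num) (h 0 (by norm_num)))
    · exact absurd h2 (hf (by norm_num) (by norm_num) (by norm_num) (h 1 (by norm_num)))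
    · exact absurd h2 (hf (by norm_num) (by norm_num) (by norm_num) (h 2 (by norm_num)))
    · exact absurd h2 (hf (by norm_num) (by norm_num) (by norm_num) (h 3 (by norm_num)))
    · exact absurd h2 (hf (by norm_num) (by norm_num) (by norm_num) (h 4 (by norm_num)))
    · exact absurd h2 (hf (by norm_num) (by norm_num) (by norm_num) (h 6 (by norm_num)))
    · exact absurd h2 (hf (by norm_num) (by norm_num) (by norm_num) h14)
    · exact h2
  apply eq_one_of_presOct hσ
  have hchk : ∀ q : GolayPt, q ∈ supFin (octad0 ||| 16) → q = idxPt 23 ∨ q = idxPt 0 ∨ q = idxPt 1 ∨ q = idxPt 2 ∨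
      q = idxPt 3 ∨ q = idxPt 4 ∨ q = idxPt 5 ∨ q = idxPt 14 ∨ q = idxPt 17 := by decide +kernel
  intro p hp
  rcases hchk p hp with rfl | rfl | rfl | rfl | rfl | rfl | rfl | rfl | rfl
  · exact h 0 (by norm_num)
  · exact h 1 (by norm_num)
  · exact h 2 (by norm_num)
  · exact h 3 (by norm_num)
  · exact h 4 (by norm_num)
  · exact h 5 (by norm_num)
  · exact h 6 (by norm_num)
  · exact h14
  · exact h17

theorem rho_mul_self : rho * rho = 1 := by
  have h0 : toPerm rho0 * tau * (toPerm rho0)⁻¹ = tau := by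
    rw [tau, ← Equiv.swap_apply_apply, rho0_none, rho0_some, Equiv.swap_comm]
  have h1 : toPerm rho0 * tau = tau * toPerm rho0 := by
    calc toPerm rho0 * tau = (toPerm rho0 * tau * (toPerm rho0)⁻¹) * toPerm rho0 := by group
      _ = tau * toPerm rho0 := by rw [h0]
  have h2 : tau * tau = 1 := Equiv.swap_mul_self _ _
  calc rho * rho = toPerm rho0 * tau * (toPerm rho0 * tau) := rfl
    _ = toPerm rho0 * (tau * toPerm rho0) * tau := by group
    _ = toPerm rho0 * (toPerm rho0 * tau) * tau := by rw [← h1]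
    _ = (toPerm rho0 * toPerm rho0) * (tau * tau) := by group
    _ = 1 := by rw [rho0_invol, h2, one_mul]

theorem rho_mul_rho0 : rho * toPerm rho0 = tau := by
  have h0 : toPerm rho0 * tau * (toPerm rho0)⁻¹ = tau := by
    rw [tau, ← Equiv.swap_apply_apply, rho0_none, rho0_some, Equiv.swap_comm]
  have h1 : toPerm rho0 * tau = tau * toPerm rho0 := by
    calc toPerm rho0 * tau = (toPerm rho0 * tau * (toPerm rho0)⁻¹) * toPerm rho0 := by group
      _ = tau * toPerm rho0 := by rw [h0]
  calc rho * toPerm rho0 = toPerm rho0 * tau * toPerm rho0 := rfl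
    _ = tau * toPerm rho0 * toPerm rho0 := by rw [h1]
    _ = tau * (toPerm rho0 * toPerm rho0) := by group
    _ = tau := by rw [rho0_invol, mul_one]

theorem rho_fix : ∀ i < 7, rho (idxPt (bs i)) = idxPt (bs i) := by
  intro i hi
  have hb := bs_lt i hi
  by_cases h0 : i = 0
  · subst h0; exact rho_none
  by_cases h1 : i = 1
  · subst h1; exact rho_some
  have hne : bs i ≠ 23 ∧ bs i ≠ 0 ∧ img rho0 (bs i) = bs i := by
    interval_cases i <;> first | omega | decide +kernel
  rw [rho_idx hb hne.1 hne.2.1, hne.2.2]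

theorem rho_14 : rho (idxPt 14) = idxPt 17 := rho_idx (by norm_num) (by norm_num) (by norm_num)

theorem rho_17 : rho (idxPt 17) = idxPt 14 := rho_idx (by norm_num) (by norm_num) (by norm_num)

/-- The normal form. -/
theorem normal_form {π : Equiv.Perm GolayPt} (hπ : PresOct π) (h1 : π none = none) (h2 : π (some 0) = some 0) :
    ∃ g ∈ G 2, π = g ∨ π = g * rho := by
  have hf2 : ∀ i < 2, π (idxPt (bs i)) = idxPt (bs i) := by
    intro i hi
    interval_cases i
    · exact h1
    · exact h2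
  obtain ⟨g2, hg2, h3⟩ := lower_small (j := 2) (by norm_num) hf2
  obtain ⟨g3, hg3, h4⟩ := lower_small (j := 3) (by norm_num) h3
  obtain ⟨g4, hg4, h5⟩ := lower_small (j := 4) (by norm_num) h4
  have hM : ∀ {j g}, g ∈ G j → g ∈ M24 := fun hg => (mem_G.mp hg).1
  set π3 := g4⁻¹ * (g3⁻¹ * (g2⁻¹ * π)) with hπ3
  have hP3 : PresOct π3 := presOct_mul (inv_mem (hM hg4)) (presOct_mul (inv_mem (hM hg3))
    (presOct_mul (inv_mem (hM hg2)) hπ))
  have hoc3 := presOct_octad0 hP3 h5
  have hy5 : π3 (idxPt (bs 5)) ∈ supFin (deltaMask 5) := by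
    have hn : idxPt (bs 5) ∉ supFin octad0 := by decide +kernel
    have hchk : ∀ q : GolayPt, q ∉ supFin octad0 → q ∈ supFin (deltaMask 5) := by decide +kernel
    exact hchk _ (not_smul_mem_of_not_mem hoc3 hn)
  obtain ⟨g5, hg5, hg5e⟩ := orbit_sup (i := 5) (by norm_num) hy5
  set π4 := g5⁻¹ * π3 with hπ4
  have hP4 : PresOct π4 := presOct_mul (inv_mem (hM hg5)) hP3
  have h6 : ∀ i < 6, π4 (idxPt (bs i)) = idxPt (bs i) := by
    intro i hi
    simp only [hπ4, Equiv.Perm.mul_apply]
    rw [Equiv.Perm.inv_eq_iff_eq]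
    by_cases hi5 : i = 5
    · subst hi5
      exact hg5e.symm
    · rw [h5 i (by omega)]
      exact ((mem_G.mp hg5).2 i (by omega)).symm
  have hoc4 := presOct_octad0 hP4 (fun i hi => h6 i (by omega))
  have hy6 : π4 (idxPt (bs 6)) ∈ supFin (deltaMask 6) := by
    have hin : idxPt (bs 6) ∈ supFin octad0 := by decide +kernel
    have h7 := smul_mem_of_mem hoc4 hin
    have hne : ∀ j < 5, π4 (idxPt (bs 6)) ≠ idxPt (bs j) := by
      intro j hj he
      rw [← h6 j (by omega)] at he
      have h8 := congrArg ptIdx (π4.injective he)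
      rw [ptIdx_idxPt (bs_lt 6 (by omega)), ptIdx_idxPt (bs_lt j (by omega))] at h8
      have := bs_injective 6 (by omega) j (by omega) h8
      omega
    have hchk : ∀ q : GolayPt, q ∈ supFin octad0 → (∀ j < 5, q ≠ idxPt (bs j)) → q ∈ supFin (deltaMask 6) := by
      decide +kernel
    exact hchk _ h7 hne
  obtain ⟨g6, hg6, hg6e⟩ := orbit_sup (i := 6) (by norm_num) hy6
  set π5 := g6⁻¹ * π4 with hπ5
  have hP5 : PresOct π5 := presOct_mul (inv_mem (hM hg6)) hP4
  have h7 : ∀ i < 7, π5 (idxPt (bs i)) = idxPt (bs i) := by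
    intro i hi
    simp only [hπ5, Equiv.Perm.mul_apply]
    rw [Equiv.Perm.inv_eq_iff_eq]
    by_cases hi6 : i = 6
    · subst hi6
      exact hg6e.symm
    · rw [h6 i (by omega)]
      exact ((mem_G.mp hg6).2 i (by omega)).symm
  have hoc5 := presOct_octad0 hP5 (fun i hi => h7 i (by omega))
  -- the product
  have hle : ∀ {j g}, 2 ≤ j → j ≤ 7 → g ∈ G j → g ∈ G 2 := by
    intro j g h2j _ hg
    refine mem_G.mpr ⟨(mem_G.mp hg).1, fun i hi => (mem_G.mp hg).2 i (by omega)⟩
  let g := g2 * (g3 * (g4 * (g5 * g6)))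
  have hgG : g ∈ G 2 := mul_mem hg2 (mul_mem (hle (by norm_num) (by norm_num) hg3)
    (mul_mem (hle (by norm_num) (by norm_num) hg4) (mul_mem (hle (by norm_num) (by norm_num) hg5)
      (hle (by norm_num) (by norm_num) hg6))))
  have hπe : π = g * π5 := by
    simp only [g, hπ5, hπ4, hπ3]
    group
  have hcase : π5 (idxPt 14) = idxPt 14 ∨ π5 (idxPt 14) = idxPt 17 := by
    have h8 := smul_mem_of_mem hoc5 (p := idxPt 14) (by decide +kernel)
    have hchk : ∀ q : GolayPt, q ∈ supFin octad0 → q = idxPt 23 ∨ q = idxPt 0 ∨ q = idxPt 1 ∨ q = idxPt 2 ∨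
        q = idxPt 3 ∨ q = idxPt 5 ∨ q = idxPt 14 ∨ q = idxPt 17 := by decide +kernel
    have hf : ∀ {a : ℕ}, a < 24 → a ≠ 14 → π5 (idxPt a) = idxPt a → π5 (idxPt 14) ≠ idxPt a := by
      intro a ha hab h2 h3
      rw [← h2] at h3
      have := congrArg ptIdx (π5.injective h3)
      rw [ptIdx_idxPt (by norm_num), ptIdx_idxPt ha] at this
      omega
    rcases hchk _ h8 with h9 | h9 | h9 | h9 | h9 | h9 | h9 | h9
    · exact absurd h9 (hf (by norm_num) (by norm_num) (h7 0 (by norm_num)))
    · exact absurd h9 (hf (by norm_num) (by norm_num) (h7 1 (by norm_num)))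
    · exact absurd h9 (hf (by norm_num) (by norm_num) (h7 2 (by norm_num)))
    · exact absurd h9 (hf (by norm_num) (by norm_num) (h7 3 (by norm_num)))
    · exact absurd h9 (hf (by norm_num) (by norm_num) (h7 4 (by norm_num)))
    · exact absurd h9 (hf (by norm_num) (by norm_num) (h7 6 (by norm_num)))
    · exact Or.inl h9
    · exact Or.inr h9
  refine ⟨g, hgG, ?_⟩
  rcases hcase with h8 | h8
  · left
    have := rigid hP5 h7 h8
    rw [hπe, this, mul_one]
  · right
    have h9 : rho * π5 = 1 := by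
      apply rigid (presOct_rho_mul hP5 (h7 0 (by norm_num)) (h7 1 (by norm_num)))
      · intro i hi
        rw [Equiv.Perm.mul_apply, h7 i hi, rho_fix i hi]
      · rw [Equiv.Perm.mul_apply, h8, rho_17]
    have h10 : π5 = rho := by
      have : π5 = rho * (rho * π5) := by
        rw [← mul_assoc, rho_mul_self, one_mul]
      rw [this, h9, mul_one]
    rw [hπe, h10]

/-! ### Conclusion -/

/-- An element of `M24` exchanging the two points normalizes `M22`. -/
theorem normalizes_of_swap {g : Equiv.Perm GolayPt} (hg : g ∈ M24) (h1 : g none = some 0) (h2 : g (some 0) = none)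
    {x : Equiv.Perm GolayPt} (hx : x ∈ Cfsg.Spor.M22) : g * x * g⁻¹ ∈ Cfsg.Spor.M22 := by
  obtain ⟨hx1, hx2, hx3⟩ := mem_M22.mp hx
  have h3 : g⁻¹ none = some 0 := by rw [Equiv.Perm.inv_eq_iff_eq]; exact h2.symm
  have h4 : g⁻¹ (some 0) = none := by rw [Equiv.Perm.inv_eq_iff_eq]; exact h1.symm
  refine mem_M22.mpr ⟨mul_mem (mul_mem hg hx1) (inv_mem hg), ?_, ?_⟩
  · simp only [Equiv.Perm.mul_apply]
    rw [h3, hx3, h2]
  · simp only [Equiv.Perm.mul_apply]
    rw [h4, hx2, h1]

theorem inv_swap {g : Equiv.Perm GolayPt} (h1 : g none = some 0) (h2 : g (some 0) = none) :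
    g⁻¹ none = some 0 ∧ g⁻¹ (some 0) = none :=
  ⟨by rw [Equiv.Perm.inv_eq_iff_eq]; exact h2.symm, by rw [Equiv.Perm.inv_eq_iff_eq]; exact h1.symm⟩

/-- Not inner. -/
theorem not_inner_of_swap {g : Equiv.Perm GolayPt} (hg : g ∈ M24) (h1 : g none = some 0) (h2 : g (some 0) = none) :
    ¬ ∃ h ∈ Cfsg.Spor.M22, ∀ x ∈ Cfsg.Spor.M22, g * x * g⁻¹ = h * x * h⁻¹ := by
  classical
  rintro ⟨h, hh, hx⟩
  obtain ⟨hh1, hh2, hh3⟩ := mem_M22.mp hh
  set k := h⁻¹ * g with hk
  have hkM : k ∈ M24 := mul_mem (inv_mem hh1) hg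
  have hcomm : ∀ x ∈ Cfsg.Spor.M22, k * x = x * k := by
    intro x hxm
    have h3 := hx x hxm
    calc k * x = h⁻¹ * (g * x * g⁻¹) * g := by simp only [hk]; group
      _ = h⁻¹ * (h * x * h⁻¹) * g := by rw [h3]
      _ = x * k := by simp only [hk]; group
  have hfix : ∀ y ∈ Om, k y = y := by
    intro y hy
    have hy' := mem_Om.mp hy
    have hky : k y ∈ Om := by
      refine mem_Om.mpr ⟨?_, ?_⟩
      · intro he
        have h3 : g y = h none := by
          simp only [hk, Equiv.Perm.mul_apply] at he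
          rw [Equiv.Perm.inv_eq_iff_eq] at he
          exact he
        rw [hh2, ← h2] at h3
        exact hy'.2 (g.injective h3)
      · intro he
        have h3 : g y = h (some 0) := by
          simp only [hk, Equiv.Perm.mul_apply] at he
          rw [Equiv.Perm.inv_eq_iff_eq] at he
          exact he
        rw [hh3, ← h1] at h3
        exact hy'.1 (g.injective h3)
    refine (sep_M22 hy hky ?_).symm
    intro x hxm hxy
    have h3 := congrFun (congrArg (fun f : Equiv.Perm GolayPt => (f : GolayPt → GolayPt)) (hcomm x hxm)) y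
    simp only [Equiv.Perm.coe_mul, Function.comp] at h3
    rw [hxy] at h3
    exact h3.symm
  have hone : k = 1 := by
    apply eq_one_of_nine hkM
    have hs : Om ⊆ fixF k := fun y hy => mem_fixF.mpr (hfix y hy)
    have := Finset.card_le_card hs
    rw [card_Om] at this
    omega
  have h3 : g = h := by
    have : g = h * k := by simp only [hk]; group
    rw [this, hone, mul_one]
  rw [h3, hh2] at h1
  exact none_ne h1

/-- The automorphism `β`. -/
noncomputable def beta : MulAut Cfsg.Spor.M22 :=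
  conjAut Cfsg.Spor.M22 (toPerm rho0) (fun _ hx => normalizes_of_swap rho0_mem rho0_none rho0_some hx)
    (fun x hx => by
      have h1 : (toPerm rho0)⁻¹ = toPerm rho0 := inv_eq_of_mul_eq_one_left rho0_invol
      rw [h1]
      have := normalizes_of_swap rho0_mem rho0_none rho0_some hx
      rwa [h1] at this)

theorem beta_apply (x : Cfsg.Spor.M22) :
    ((beta x : Cfsg.Spor.M22) : Equiv.Perm GolayPt) = toPerm rho0 * x.1 * (toPerm rho0)⁻¹ := rfl

theorem beta_not_inn : beta ∉ Cfsg.Inn ↥Cfsg.Spor.M22 := by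
  rintro ⟨h, hh⟩
  refine not_inner_of_swap rho0_mem rho0_none rho0_some ⟨h.1, h.2, fun x hx => ?_⟩
  have h1 := congrArg (fun f : MulAut Cfsg.Spor.M22 => ((f ⟨x, hx⟩ : Cfsg.Spor.M22) : Equiv.Perm GolayPt)) hh
  simp only [MulAut.conj_apply, Subgroup.coe_mul, Subgroup.coe_inv] at h1
  rw [beta_apply] at h1
  exact h1.symm

theorem out_M22 : Nat.card (Cfsg.Out ↥Cfsg.Spor.M22) = 2 := by
  classical
  refine card_out_eq_two beta beta_not_inn ?_
  intro α
  have hM : ∀ g ∈ Cfsg.Spor.M22, g ∈ M24 := fun g hg => (mem_M22.mp hg).1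
  obtain ⟨π, hπn, hπ⟩ := exists_intertwiner Cfsg.Spor.M22 (Om : Set GolayPt)
    (fun g hg x hx => by
      have hx' := mem_Om.mp hx
      obtain ⟨h1, h2, h3⟩ := mem_M22.mp hg
      exact mem_Om.mpr ⟨fun he => hx'.1 (g.injective (by rw [he, h2])),
        fun he => hx'.2 (g.injective (by rw [he, h3]))⟩)
    (fun g hg x hx => by
      obtain ⟨h1, h2, h3⟩ := mem_M22.mp hg
      have hx' : x = none ∨ x = some 0 := by
        by_contra hc
        simp only [not_or] at hc
        exact hx (mem_Om.mpr hc)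
      rcases hx' with rfl | rfl
      · exact h2
      · exact h3)
    20160 (fun x hx => card_stab_M22 hx)
    (fun K hK hc => by
      obtain ⟨y, hy1, hy2⟩ := fixes_point_M22 K hK hc
      exact ⟨y, hy1, hy2⟩)
    (fun y hy z hz h => sep_M22 hy hz h)
    α
  have hπa : π none = none := hπn none (by simp [mem_Om])
  have hπb : π (some 0) = some 0 := hπn (some 0) (by simp [mem_Om])
  have hn : ∀ t ∈ Cfsg.Spor.M22, π⁻¹ * t * π ∈ Cfsg.Spor.M22 := by
    intro t ht
    have h1 := hπ (α.symm ⟨t, ht⟩)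
    simp only [MulEquiv.apply_symm_apply] at h1
    generalize α.symm ⟨t, ht⟩ = s at h1
    have h2 : π⁻¹ * t * π = (s : Equiv.Perm GolayPt) := by
      calc π⁻¹ * t * π = π⁻¹ * (π * s * π⁻¹) * π := by rw [← h1]
        _ = s := by group
    rw [h2]
    exact s.2
  have hP : PresOct π := by
    intro O hO hnO hsO
    obtain ⟨A0, hA0, hA0c⟩ := Finset.exists_subset_card_eq (s := (O.erase none).erase (some 0)) (n := 3) (by
      rw [Finset.card_erase_of_mem (Finset.mem_erase.mpr ⟨Ne.symm none_ne, hsO⟩), Finset.card_erase_of_mem hnO, hO.2]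
      norm_num)
    have hnA0 : (none : GolayPt) ∉ insert (some 0) A0 := by
      intro h
      rcases Finset.mem_insert.mp h with h | h
      · exact none_ne h
      · exact (Finset.mem_erase.mp (Finset.mem_erase.mp (hA0 h)).2).1 rfl
    have hsA0 : (some 0 : GolayPt) ∉ A0 := fun h => (Finset.mem_erase.mp (hA0 h)).1 rfl
    have hA : insert none (insert (some 0) A0) ⊆ O := by
      intro p hp
      simp only [Finset.mem_insert] at hp
      rcases hp with rfl | rfl | hp
      · exact hnO
      · exact hsO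
      · exact (Finset.mem_erase.mp (Finset.mem_erase.mp (hA0 hp)).2).2
    have hAc : (insert none (insert (some 0) A0)).card = 5 := by
      rw [Finset.card_insert_of_notMem hnA0, Finset.card_insert_of_notMem hsA0, hA0c]
    obtain ⟨O', hO', hAO'⟩ := exists_octad_through (s := π • insert none (insert (some 0) A0))
      (by rw [Finset.card_smul_finset, hAc])
    have hnO' : (none : GolayPt) ∈ O' := by
      apply hAO'
      rw [Finset.mem_smul_finset]
      exact ⟨none, Finset.mem_insert_self _ _, hπa⟩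
    have hsO' : (some 0 : GolayPt) ∈ O' := by
      apply hAO'
      rw [Finset.mem_smul_finset]
      exact ⟨some 0, by simp, hπb⟩
    have := smul_octad_of_normalizes hO hO' hA hAc.ge
      (fun a ha => hAO' (Finset.mem_smul_finset.mpr ⟨a, ha, rfl⟩))
      (fun t ht => by
        obtain ⟨ht1, ht2⟩ := mem_fixS.mp ht
        exact hM _ (hn t (mem_M22.mpr ⟨ht1, ht2 none hnO', ht2 (some 0) hsO'⟩)))
    rwa [this]
  obtain ⟨g, hg, hcase⟩ := normal_form hP hπa hπb
  rw [G2_eq] at hg
  rcases hcase with rfl | rfl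
  · left
    refine ⟨⟨π, hg⟩, ?_⟩
    ext1 x
    apply Subtype.ext
    rw [hπ x, MulAut.conj_apply]
    rfl
  · right
    refine ⟨⟨g, hg⟩, ?_⟩
    ext1 x
    apply Subtype.ext
    rw [MulAut.mul_apply, hπ (beta x), beta_apply, MulAut.conj_apply]
    simp only [Subgroup.coe_mul, Subgroup.coe_inv]
    have hτ : tau * x.1 = x.1 * tau := by
      obtain ⟨_, h2, h3⟩ := mem_M22.mp x.2
      have h4 : x.1 * tau * x.1⁻¹ = tau := by
        rw [tau, ← Equiv.swap_apply_apply, h2, h3]
      calc tau * x.1 = (x.1 * tau * x.1⁻¹) * x.1 := by rw [h4]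
        _ = x.1 * tau := by group
    have h5 : tau * tau = 1 := Equiv.swap_mul_self _ _
    symm
    calc g * rho * (toPerm rho0 * x.1 * (toPerm rho0)⁻¹) * (g * rho)⁻¹
        = g * (rho * toPerm rho0) * x.1 * (rho * toPerm rho0)⁻¹ * g⁻¹ := by group
      _ = g * (tau * x.1) * tau⁻¹ * g⁻¹ := by rw [rho_mul_rho0]; group
      _ = g * x.1 * (tau * tau⁻¹) * g⁻¹ := by rw [hτ]; group
      _ = g * x.1 * g⁻¹ := by simp

/-- The statement on relative index etc. -/
theorem swap_facts (g : Equiv.Perm GolayPt) (hg : g ∈ M24) (h₁ : g none = some 0) (h₂ : g (some 0) = none) :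
    Cfsg.Spor.M22.relIndex (M24 ⊓ MulAction.stabilizer (Equiv.Perm GolayPt) ({none, some 0} : Finset GolayPt)) = 2 ∧
      (∀ x ∈ Cfsg.Spor.M22, g * x * g⁻¹ ∈ Cfsg.Spor.M22) ∧
      ¬ ∃ h ∈ Cfsg.Spor.M22, ∀ x ∈ Cfsg.Spor.M22, g * x * g⁻¹ = h * x * h⁻¹ := by
  classical
  refine ⟨?_, fun x hx => normalizes_of_swap hg h₁ h₂ hx, not_inner_of_swap hg h₁ h₂⟩
  set P := M24 ⊓ MulAction.stabilizer (Equiv.Perm GolayPt) ({none, some 0} : Finset GolayPt) with hP
  have hgP : g ∈ P := by
    refine ⟨hg, MulAction.mem_stabilizer_iff.mpr ?_⟩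
    ext p
    rw [Finset.mem_smul_finset]
    simp only [Finset.mem_insert, Finset.mem_singleton]
    constructor
    · rintro ⟨q, rfl | rfl, rfl⟩
      · right; exact h₁
      · left; exact h₂
    · rintro (rfl | rfl)
      · exact ⟨some 0, Or.inr rfl, h₂⟩
      · exact ⟨none, Or.inl rfl, h₁⟩
  -- an element of `P` fixes or exchanges the two points
  have hcase : ∀ b ∈ P, (b none = none ∧ b (some 0) = some 0) ∨ (b none = some 0 ∧ b (some 0) = none) := by
    intro b hb
    have h1 := MulAction.mem_stabilizer_iff.mp hb.2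
    have ha : b none ∈ ({none, some 0} : Finset GolayPt) := by
      rw [← h1]
      exact Finset.mem_smul_finset.mpr ⟨none, by simp, rfl⟩
    have hb' : b (some 0) ∈ ({none, some 0} : Finset GolayPt) := by
      rw [← h1]
      exact Finset.mem_smul_finset.mpr ⟨some 0, by simp, rfl⟩
    simp only [Finset.mem_insert, Finset.mem_singleton] at ha hb'
    rcases ha with ha | ha <;> rcases hb' with hb' | hb'
    · exact absurd (b.injective (ha.trans hb'.symm)) none_ne
    · exact Or.inl ⟨ha, hb'⟩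
    · exact Or.inr ⟨ha, hb'⟩
    · exact absurd (b.injective (ha.trans hb'.symm)) none_ne
  rw [Subgroup.relIndex, Subgroup.index_eq_two_iff]
  refine ⟨⟨g, hgP⟩, fun b => ?_⟩
  have hmem : ∀ c : P, c ∈ Cfsg.Spor.M22.subgroupOf P ↔ c.1 none = none ∧ c.1 (some 0) = some 0 := by
    intro c
    rw [Subgroup.mem_subgroupOf, mem_M22]
    exact ⟨fun h => h.2, fun h => ⟨c.2.1, h⟩⟩
  rw [hmem, hmem]
  simp only [Subgroup.coe_mul, Equiv.Perm.mul_apply]
  rw [h₁, h₂]
  rcases hcase b.1 b.2 with ⟨h1, h2⟩ | ⟨h1, h2⟩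
  · right
    refine ⟨⟨h1, h2⟩, ?_⟩
    rw [h1, h2]
    rintro ⟨h3, _⟩
    exact none_ne h3.symm
  · left
    refine ⟨⟨h2, h1⟩, ?_⟩
    rw [h1]
    rintro ⟨h3, _⟩
    exact none_ne h3.symm

end Cfsg.Agent.Lib.GolayAut22
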