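import Mathlib
import Cfsg.Prelude.Def_Sporadic_a
import Cfsg.Prelude.Def_SporadicCombinatorics
import Cfsg.Prelude.Def_KGroupFacts
import Cfsg.Prelude.Def_Spor_Mathieu
import Cfsg.Agent.Lib.GolayAut22
import Cfsg.Agent.Lib.GolayAut12Data

/-!
# The outer automorphism group of `M12`
-/

set_option autoImplicit false
set_option linter.style.haveILetI false
set_option linter.constructorNameAsVariable false

open scoped Pointwise

namespace Cfsg.Agent.Lib.GolayAut12

open Cfsg Cfsg.Agent.Lib.GolayCode Cfsg.Agent.Lib.GolayFacts Cfsg.Agent.Lib.GolayPerm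
  Cfsg.Agent.Lib.GolayChain Cfsg.Agent.Lib.GolayTrans Cfsg.Agent.Lib.GolayDecomp
  Cfsg.Agent.Lib.GolayOrbit Cfsg.Agent.Lib.GolayKit Cfsg.Agent.Lib.GolayM12Data
  Cfsg.Agent.Lib.GolayM12 Cfsg.Agent.Lib.GolaySimple
  Cfsg.Agent.Lib.GolayOctad Cfsg.Agent.Lib.GolayFix Cfsg.Agent.Lib.GolayAut
  Cfsg.Agent.Lib.GolayAut22 Cfsg.Agent.Lib.GolayAut12Data

/-- The group. -/
abbrev GG : Subgroup (Equiv.Perm GolayPt) := stabS (supFin dod0)

/-! ### A cycle of length eight -/

theorem eight_dvd_orderOf {g : Equiv.Perm GolayPt} {j : GolayPt} (h8 : (g ^ 8) j = j) (h4 : (g ^ 4) j ≠ j) :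
    8 ∣ orderOf g := by
  have hp8 : Function.IsPeriodicPt g 8 j := by
    rw [Function.IsPeriodicPt, Function.IsFixedPt, ← Equiv.Perm.iterate_eq_pow] at *
    exact h8
  have hm8 := hp8.minimalPeriod_dvd
  have hm4 : ¬ Function.minimalPeriod g j ∣ 4 := by
    intro hd
    apply h4
    have h1 : Function.IsPeriodicPt g 4 j := by
      obtain ⟨c, hc⟩ := hd
      rw [hc]
      exact (Function.isPeriodicPt_minimalPeriod g j).mul_const c
    rw [Function.IsPeriodicPt, Function.IsFixedPt, ← Equiv.Perm.iterate_eq_pow] at *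
    exact h1
  have hmo : Function.minimalPeriod g j ∣ orderOf g := by
    apply Function.IsPeriodicPt.minimalPeriod_dvd
    rw [Function.IsPeriodicPt, Function.IsFixedPt, Equiv.Perm.iterate_eq_pow, pow_orderOf_eq_one]
    rfl
  have hm : Function.minimalPeriod g j = 8 := by
    have hle := Nat.le_of_dvd (by norm_num) hm8
    interval_cases h : Function.minimalPeriod g j <;> first | rfl | omega
  rwa [hm] at hmo

/-! ### The tuples of the transversals -/

/-- All tuples. -/
def tuples : List (List ℕ × List ℕ × List ℕ × List ℕ) :=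
  (m12Levels.getD 1 []).flatMap fun a => (m12Levels.getD 2 []).flatMap fun b =>
    (m12Levels.getD 3 []).flatMap fun c => (m12Levels.getD 4 []).map fun d => (a, b, c, d)

/-- The image under a tuple. -/
def tupImg (e : List ℕ × List ℕ × List ℕ × List ℕ) (x : ℕ) : ℕ :=
  img e.1 (img e.2.1 (img e.2.2.1 (img e.2.2.2 x)))

/-- The point map of the hint. -/
def wImg (e : List ℕ × List ℕ × List ℕ × List ℕ) (i x : ℕ) : ℕ := iterImg uL i (tupImg e x)

/-- Fourth iterate. -/
def w4 (e : List ℕ × List ℕ × List ℕ × List ℕ) (i x : ℕ) : ℕ := wImg e i (wImg e i (wImg e i (wImg e i x)))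

/-- The check of one tuple. -/
def tupChk (e : List ℕ × List ℕ × List ℕ × List ℕ) (h : ℕ) : Bool :=
  tupImg e 22 == 22 || (w4 e (h / 24) (h % 24) != h % 24 && w4 e (h / 24) (w4 e (h / 24) (h % 24)) == h % 24)

/-- Going through a list with hints. -/
def allWith : List (List ℕ × List ℕ × List ℕ × List ℕ) → List ℕ → Bool
  | [], _ => true
  | _ :: _, [] => false
  | e :: es, h :: hs => tupChk e h && allWith es hs

theorem allWith_tuples : allWith tuples hintsL = true := by
  decide +kernel

theorem exists_hint_aux : ∀ (l : List (List ℕ × List ℕ × List ℕ × List ℕ)) (hs : List ℕ), allWith l hs = true →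
    ∀ e ∈ l, ∃ h, tupChk e h = true := by
  intro l
  induction l with
  | nil => simp
  | cons a l ih =>
    intro hs
    cases hs with
    | nil => simp [allWith]
    | cons h hs =>
      simp only [allWith, Bool.and_eq_true]
      rintro ⟨h1, h2⟩ e he
      rcases List.mem_cons.mp he with rfl | he
      · exact ⟨h, h1⟩
      · exact ih hs h2 e he

theorem exists_hint {e : List ℕ × List ℕ × List ℕ × List ℕ} (he : e ∈ tuples) : ∃ h, tupChk e h = true :=
  exists_hint_aux _ _ allWith_tuples e he

end Cfsg.Agent.Lib.GolayAut12
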