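import Mathlib
import Cfsg.Prelude.Def_Sporadic_a
import Cfsg.Prelude.Def_SporadicCombinatorics
import Cfsg.Prelude.Def_KGroupFacts
import Cfsg.Prelude.Def_Spor_Mathieu
import Cfsg.Agent.Lib.GolayAut12a

/-!
# The outer automorphism group of `M12`
-/

set_option autoImplicit false
set_option linter.style.haveILetI false
set_option linter.constructorNameAsVariable false

open scoped Pointwise

namespace Cfsg.Agent.Lib.GolayAut12

open Cfsg Cfsg.Agent.Lib.GolayCode Cfsg.Agent.Lib.GolayFacts Cfsg.Agent.Lib.GolayPerm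
  Cfsg.Agent.Lib.GolayChain Cfsg.Agent.Lib.GolayTrans Cfsg.Agent.Lib.GolayDecomp
  Cfsg.Agent.Lib.GolayOrbit Cfsg.Agent.Lib.GolayKit Cfsg.Agent.Lib.GolayM12Data
  Cfsg.Agent.Lib.GolayM12 Cfsg.Agent.Lib.GolaySimple
  Cfsg.Agent.Lib.GolayOctad Cfsg.Agent.Lib.GolayFix Cfsg.Agent.Lib.GolayAut
  Cfsg.Agent.Lib.GolayAut22 Cfsg.Agent.Lib.GolayAut12Data

/-! ### The elements fixing `0` -/

theorem base_lt : ∀ i < 5, at0 m12Base i < 24 := by decide +kernel

theorem base_inj : ∀ i < 5, ∀ j < 5, at0 m12Base i = at0 m12Base j → i = j := by decide +kernel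

theorem base_mem : ∀ i < 5, idxPt (at0 m12Base i) ∈ supFin dod0 := by decide +kernel

/-- One step down the chain of `M12`. -/
theorem step {j : ℕ} (hj : j < 5) {g : Equiv.Perm GolayPt} (hg : g ∈ GG)
    (hfix : ∀ i < j, g (idxPt (at0 m12Base i)) = idxPt (at0 m12Base i)) :
    ∃ t ∈ m12Levels.getD j [], isAut t = true ∧ (toPerm t)⁻¹ * g ∈ GG ∧
      ∀ i < j + 1, ((toPerm t)⁻¹ * g) (idxPt (at0 m12Base i)) = idxPt (at0 m12Base i) := by
  have hy : g (idxPt (at0 m12Base j)) ∈ supFin dod0 := stabS_apply_mem hg (base_mem j hj)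
  have hne : ∀ i < j, g (idxPt (at0 m12Base j)) ≠ idxPt (at0 m12Base i) := by
    intro i hi he
    rw [← hfix i hi] at he
    have h1 := congrArg ptIdx (g.injective he)
    rw [ptIdx_idxPt (base_lt j hj), ptIdx_idxPt (base_lt i (by omega))] at h1
    have := base_inj j hj i (by omega) h1
    omega
  obtain ⟨t, ht, hat, hpt, hf, hte⟩ := chain_level_exists m12_chain (j := j) hj hy hne
  have hm : toPerm t ∈ GG := toPerm_mem_stabS hat hpt
  refine ⟨t, ht, hat, mul_mem (inv_mem hm) hg, fun i hi => ?_⟩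
  simp only [Equiv.Perm.mul_apply]
  rw [Equiv.Perm.inv_eq_iff_eq]
  by_cases hij : i = j
  · subst hij
    rw [toPerm_idxPt (isAut_valid hat) (base_lt i hj), hte, idxPt_ptIdx]
  · have hi' : i < j := by omega
    rw [hfix i hi', toPerm_idxPt (isAut_valid hat) (base_lt i (by omega)), hf i hi']

/-- Decomposition of the elements fixing the first base point. -/
theorem exists_tuple_of_fix {g : Equiv.Perm GolayPt} (hg : g ∈ GG) (h0 : g (idxPt 0) = idxPt 0) :
    ∃ e ∈ tuples, Good e.1 ∧ Good e.2.1 ∧ Good e.2.2.1 ∧ Good e.2.2.2 ∧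
      g = toPerm e.1 * toPerm e.2.1 * toPerm e.2.2.1 * toPerm e.2.2.2 := by
  have hf0 : ∀ i < 1, g (idxPt (at0 m12Base i)) = idxPt (at0 m12Base i) := by
    intro i hi
    have : i = 0 := by omega
    subst this
    exact h0
  obtain ⟨a, ha, hata, h1, h2⟩ := step (j := 1) (by norm_num) hg hf0
  obtain ⟨b, hb, hatb, h3, h4⟩ := step (j := 2) (by norm_num) h1 h2
  obtain ⟨c, hc, hatc, h5, h6⟩ := step (j := 3) (by norm_num) h3 h4
  obtain ⟨d, hd, hatd, h7, h8⟩ := step (j := 4) (by norm_num) h5 h6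
  have hone := eq_one_of_fix_m12Base h7 h8
  refine ⟨(a, b, c, d), ?_, good_of_isAut hata, good_of_isAut hatb, good_of_isAut hatc, good_of_isAut hatd, ?_⟩
  · simp only [tuples, List.mem_flatMap, List.mem_map]
    exact ⟨a, ha, b, hb, c, hc, d, hd, rfl⟩
  · simp only
    have h9 : g = toPerm a * (toPerm b * (toPerm c * (toPerm d * ((toPerm d)⁻¹ * ((toPerm c)⁻¹ * ((toPerm b)⁻¹ * ((toPerm a)⁻¹ * g))))))) := by
      group
    rw [h9, hone]
    group

/-! ### The element of order `11` -/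

theorem uL_aut : isAut uL = true := by decide +kernel

theorem uL_m12 : m12P uL = true := by decide +kernel

theorem uL_mem : toPerm uL ∈ GG := toPerm_mem_stabS uL_aut uL_m12

theorem uL_good : Good uL := good_of_isAut uL_aut

theorem uL_fix0 : toPerm uL (idxPt 0) = idxPt 0 := by
  rw [toPerm_idxPt (isAut_valid uL_aut) (by norm_num)]
  rfl

theorem uL_fix22 : toPerm uL (idxPt 22) = idxPt 22 := by
  rw [toPerm_idxPt (isAut_valid uL_aut) (by norm_num)]
  rfl

theorem uL_order : orderOf (toPerm uL) = 11 :=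
  orderOf_toPerm uL_aut (by norm_num) (by decide +kernel)

/-- The key fact about subgroups of order `660`. -/
theorem fixes_22 (K : Subgroup (Equiv.Perm GolayPt)) (hK : K ≤ GG) (h0 : ∀ k ∈ K, k (idxPt 0) = idxPt 0)
    (hu : toPerm uL ∈ K) (hc : Nat.card K = 660) : ∀ k ∈ K, k (idxPt 22) = idxPt 22 := by
  intro x hx
  by_contra hne
  obtain ⟨e, he, ha, hb, hc', hd, hxe⟩ := exists_tuple_of_fix (hK hx) (h0 x hx)
  obtain ⟨h, hh⟩ := exists_hint he
  have hptx : ∀ y < 24, ptIdx (x (idxPt y)) = tupImg e y := by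
    intro y hy
    rw [hxe]
    simp only [Equiv.Perm.mul_apply, tupImg]
    rw [ptIdx_toPerm_good ha, ptIdx_toPerm_good hb, ptIdx_toPerm_good hc', ptIdx_toPerm_good hd, ptIdx_idxPt hy]
  have hrng : ∀ y < 24, tupImg e y < 24 := by
    intro y hy
    rw [← hptx y hy]
    exact ptIdx_lt _
  simp only [tupChk, Bool.or_eq_true, beq_iff_eq, Bool.and_eq_true, bne_iff_ne] at hh
  rcases hh with hh | ⟨hh1, hh2⟩
  · apply hne
    apply ptIdx_injective
    rw [hptx 22 (by norm_num), hh, ptIdx_idxPt (by norm_num)]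
  · set i := h / 24
    set j := h % 24 with hj
    have hj24 : j < 24 := Nat.mod_lt _ (by norm_num)
    set w := toPerm uL ^ i * x with hw
    have hwK : w ∈ K := mul_mem (pow_mem hu _) hx
    have hptw : ∀ y < 24, ptIdx (w (idxPt y)) = wImg e i y := by
      intro y hy
      simp only [hw, Equiv.Perm.mul_apply, wImg]
      rw [← hptx y hy, ← toPerm_pow_idxPt uL_good i (ptIdx_lt _), idxPt_ptIdx]
    have hrw : ∀ y < 24, wImg e i y < 24 := by
      intro y hy
      rw [← hptw y hy]
      exact ptIdx_lt _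
    have hw4 : ∀ y < 24, ptIdx ((w ^ 4) (idxPt y)) = w4 e i y := by
      intro y hy
      have h1 := hrw y hy
      have h2 := hrw _ h1
      have h3 := hrw _ h2
      rw [show w ^ 4 = w * (w * (w * w)) by simp only [pow_succ, pow_zero, one_mul, mul_assoc]]
      simp only [Equiv.Perm.mul_apply, w4]
      rw [← hptw _ h3, ← hptw _ h2, ← hptw _ h1, ← hptw y hy]
      simp only [idxPt_ptIdx]
    have hrw4 : ∀ y < 24, w4 e i y < 24 := by
      intro y hy
      rw [← hw4 y hy]
      exact ptIdx_lt _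
    have h8 : (w ^ 8) (idxPt j) = idxPt j := by
      apply ptIdx_injective
      rw [show w ^ 8 = w ^ 4 * w ^ 4 by rw [← pow_add], Equiv.Perm.mul_apply]
      have h1 := hw4 j hj24
      have h2 : (w ^ 4) (idxPt j) = idxPt (w4 e i j) := by
        apply ptIdx_injective
        rw [h1, ptIdx_idxPt (hrw4 j hj24)]
      rw [h2, hw4 _ (hrw4 j hj24), hh2, ptIdx_idxPt hj24]
    have h4 : (w ^ 4) (idxPt j) ≠ idxPt j := by
      intro he4
      have := congrArg ptIdx he4
      rw [hw4 j hj24, ptIdx_idxPt hj24] at this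
      exact hh1 this
    have hd8 := eight_dvd_orderOf h8 h4
    have hd660 : orderOf w ∣ 660 := by
      rw [← hc]
      have := Subgroup.orderOf_dvd_natCard K hwK
      exact this
    have := hd8.trans hd660
    omega

/-! ### The dodecad and orders -/

theorem card_GG : Nat.card GG = 95040 := by
  rw [← Nat.card_congr (stabEquiv (supFin dod0)).toEquiv]
  exact card_stabilizer_dodecad dod0_mem_dodecads

theorem card_D : (supFin dod0).card = 12 := dod0_mem_dodecads.2

/-- The complement. -/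
def Dc : Finset GolayPt := supFin (16777215 ^^^ dod0)

theorem mem_Dc {p : GolayPt} : p ∈ Dc ↔ p ∉ supFin dod0 := mem_compl_dod0

theorem card_Dc : Dc.card = 12 := by decide +kernel

theorem GG_apply_Dc {g : Equiv.Perm GolayPt} (hg : g ∈ GG) {p : GolayPt} (hp : p ∈ Dc) : g p ∈ Dc :=
  mem_Dc.mpr (stabS_apply_not_mem hg (mem_Dc.mp hp))

/-- The involution exchanging the dodecad and its complement. -/
theorem iota_aut : isAut iotaL = true := by decide +kernel

theorem iota_mem : toPerm iotaL ∈ M24 := toPerm_mem_M24 iota_aut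

theorem iota_invol : toPerm iotaL * toPerm iotaL = 1 := by
  have hv := isAut_valid iota_aut
  have hr := isAut_inRange iota_aut
  ext1 p
  apply ptIdx_injective
  rw [Equiv.Perm.mul_apply, ptIdx_toPerm hv hr, ptIdx_toPerm hv hr]
  have hp := ptIdx_lt p
  have : ∀ i < 24, img iotaL (img iotaL i) = i := by decide +kernel
  rw [this _ hp]
  rfl

theorem iota_inv : (toPerm iotaL)⁻¹ = toPerm iotaL := inv_eq_of_mul_eq_one_left iota_invol

theorem iota_smul_D : toPerm iotaL • supFin dod0 = Dc := by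
  rw [smul_supFin (isAut_valid iota_aut) (isAut_inRange iota_aut)]
  have : permMask iotaL dod0 = 16777215 ^^^ dod0 := by decide +kernel
  rw [this]
  rfl

theorem iota_mem_iff {p : GolayPt} : toPerm iotaL p ∈ supFin dod0 ↔ p ∈ Dc := by
  constructor
  · intro h
    rw [← iota_smul_D, Finset.mem_smul_finset]
    refine ⟨_, h, ?_⟩
    rw [Equiv.Perm.smul_def, ← Equiv.Perm.mul_apply, iota_invol]
    rfl
  · intro h
    rw [← iota_smul_D] at h
    obtain ⟨q, hq, rfl⟩ := Finset.mem_smul_finset.mp h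
    rw [Equiv.Perm.smul_def, ← Equiv.Perm.mul_apply, iota_invol]
    exact hq

theorem iota_normalizes {x : Equiv.Perm GolayPt} (hx : x ∈ GG) : toPerm iotaL * x * (toPerm iotaL)⁻¹ ∈ GG := by
  obtain ⟨h1, h2⟩ := mem_stabS.mp hx
  refine mem_stabS.mpr ⟨mul_mem (mul_mem iota_mem h1) (inv_mem iota_mem), ?_⟩
  rw [iota_inv]
  ext p
  rw [Finset.mem_smul_finset]
  constructor
  · rintro ⟨q, hq, rfl⟩
    rw [Equiv.Perm.smul_def]
    simp only [Equiv.Perm.mul_apply]
    rw [iota_mem_iff]
    apply GG_apply_Dc hx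
    rw [← iota_mem_iff, ← Equiv.Perm.mul_apply, iota_invol]
    exact hq
  · intro hp
    refine ⟨toPerm iotaL (x⁻¹ (toPerm iotaL p)), ?_, ?_⟩
    · rw [iota_mem_iff]
      apply GG_apply_Dc (inv_mem hx)
      rw [← iota_mem_iff, ← Equiv.Perm.mul_apply, iota_invol]
      exact hp
    · rw [Equiv.Perm.smul_def]
      simp only [Equiv.Perm.mul_apply]
      have h2' : ∀ q, toPerm iotaL (toPerm iotaL q) = q := fun q => by
        rw [← Equiv.Perm.mul_apply, iota_invol]; rfl
      have h3 : x (x⁻¹ (toPerm iotaL p)) = toPerm iotaL p := by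
        rw [← Equiv.Perm.mul_apply, mul_inv_cancel]; rfl
      rw [h2' (x⁻¹ _), h3, h2']

/-- Transitivity on the complement. -/
theorem exists_map_Dc {p q : GolayPt} (hp : p ∈ Dc) (hq : q ∈ Dc) : ∃ g ∈ GG, g p = q := by
  obtain ⟨g, hg, h⟩ := exists_tuple_compl 1 (by norm_num) (fun _ => p) (fun _ => q)
    (fun _ _ => mem_Dc.mp hp) (fun _ _ => mem_Dc.mp hq) (fun a ha c hc hac => by omega) (fun a ha c hc hac => by omega)
  exact ⟨g, hg.1, h 0 (by norm_num)⟩

theorem exists_map_D {p q : GolayPt} (hp : p ∈ supFin dod0) (hq : q ∈ supFin dod0) : ∃ g ∈ GG, g p = q :=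
  exists_map_point_dodecad dod0_mem_dodecads hp hq

theorem card_stab_GG (x : GolayPt) : Nat.card ↥(GG ⊓ MulAction.stabilizer (Equiv.Perm GolayPt) x) = 7920 := by
  classical
  by_cases hx : x ∈ supFin dod0
  · have h := card_eq_mul GG x (supFin dod0) (fun y hy => exists_map_D hx hy) (fun g hg => stabS_apply_mem hg hx)
    rw [card_GG, card_D] at h
    omega
  · have hx' : x ∈ Dc := mem_Dc.mpr hx
    have h := card_eq_mul GG x Dc (fun y hy => exists_map_Dc hx' hy) (fun g hg => GG_apply_Dc hg hx')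
    rw [card_GG, card_Dc] at h
    omega

/-! ### Subgroups of order `7920` containing the element of order `11` -/

theorem t1_aut : isAut t1L = true := by decide +kernel
theorem t2_aut : isAut t2L = true := by decide +kernel
theorem t1_m12 : m12P t1L = true := by decide +kernel
theorem t2_m12 : m12P t2L = true := by decide +kernel

theorem t_common {q : GolayPt} (hq : q ∈ Dc) (h1 : toPerm t1L q = q) (h2 : toPerm t2L q = q) : q = idxPt 22 := by
  have hchk : ∀ i < 24, (16777215 ^^^ dod0).testBit i = true → img t1L i = i → img t2L i = i → i = 22 := by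
    decide +kernel
  have h3 := hchk (ptIdx q) (ptIdx_lt q) (mem_supFin.mp hq)
    (by rw [← ptIdx_toPerm (isAut_valid t1_aut) (isAut_inRange t1_aut), h1])
    (by rw [← ptIdx_toPerm (isAut_valid t2_aut) (isAut_inRange t2_aut), h2])
  rw [← idxPt_ptIdx q, h3]

theorem fix_t {t : List ℕ} (ht : isAut t = true) (h1 : img t 0 = 0) (h2 : img t 1 = 1) (h3 : img t 22 = 22) :
    toPerm t (idxPt 0) = idxPt 0 ∧ toPerm t (idxPt 1) = idxPt 1 ∧ toPerm t (idxPt 22) = idxPt 22 := by
  refine ⟨?_, ?_, ?_⟩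
  · rw [toPerm_idxPt (isAut_valid ht) (by norm_num), h1]
  · rw [toPerm_idxPt (isAut_valid ht) (by norm_num), h2]
  · rw [toPerm_idxPt (isAut_valid ht) (by norm_num), h3]

theorem idx0_mem : idxPt 0 ∈ supFin dod0 := idxPt0_mem
theorem idx1_mem : idxPt 1 ∈ supFin dod0 := by decide +kernel
theorem idx22_mem : idxPt 22 ∈ Dc := by decide +kernel
theorem idx01 : idxPt 0 ≠ idxPt 1 := by decide +kernel

/-- Order of the stabilizer of `0` and `22`. -/
theorem card_L : Nat.card ↥(GG ⊓ MulAction.stabilizer (Equiv.Perm GolayPt) (idxPt 0) ⊓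
    MulAction.stabilizer (Equiv.Perm GolayPt) (idxPt 22)) = 660 := by
  have h := card_eq_mul (GG ⊓ MulAction.stabilizer (Equiv.Perm GolayPt) (idxPt 0)) (idxPt 22) Dc
    (fun y hy => by
      obtain ⟨g, hg, h⟩ := exists_tuple_compl 1 (by norm_num) (fun _ => idxPt 22) (fun _ => y)
        (fun _ _ => mem_Dc.mp idx22_mem) (fun _ _ => mem_Dc.mp hy) (fun a ha c hc hac => by omega)
        (fun a ha c hc hac => by omega)
      exact ⟨g, hg, h 0 (by norm_num)⟩)
    (fun g hg => GG_apply_Dc hg.1 idx22_mem)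
  rw [card_stab_GG, card_Dc] at h
  omega

theorem fixes_of_u (H : Subgroup (Equiv.Perm GolayPt)) (hH : H ≤ GG) (hu : toPerm uL ∈ H)
    (hc : Nat.card H = 7920) : (∀ h ∈ H, h (idxPt 0) = idxPt 0) ∨ (∀ h ∈ H, h (idxPt 22) = idxPt 22) := by
  classical
  haveI : Fact (Nat.Prime 11) := ⟨by norm_num⟩
  have hfix : fixF (toPerm uL) = {idxPt 0, idxPt 22} := by
    symm
    apply Finset.eq_of_subset_of_card_le
    · intro p hp
      simp only [Finset.mem_insert, Finset.mem_singleton] at hp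
      rcases hp with rfl | rfl
      · exact mem_fixF.mpr uL_fix0
      · exact mem_fixF.mpr uL_fix22
    · rw [card_fix11 (mem_stabS.mp uL_mem).1 uL_order, Finset.card_pair (by decide +kernel)]
  -- orbits
  have hsub0 : orbitF H (idxPt 0) ⊆ supFin dod0 := by
    intro y hy
    obtain ⟨g, hg, rfl⟩ := mem_orbitF.mp hy
    exact stabS_apply_mem (hH hg) idx0_mem
  have hsub1 : orbitF H (idxPt 22) ⊆ Dc := by
    intro y hy
    obtain ⟨g, hg, rfl⟩ := mem_orbitF.mp hy
    exact GG_apply_Dc (hH hg) idx22_mem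
  have hn22 : idxPt 22 ∉ supFin dod0 := mem_Dc.mp idx22_mem
  have h0 := orbitF_modEq hu uL_order (idxPt 0)
  have hi0 : orbitF H (idxPt 0) ∩ fixF (toPerm uL) = {idxPt 0} := by
    rw [hfix]
    ext p
    simp only [Finset.mem_inter, Finset.mem_insert, Finset.mem_singleton]
    constructor
    · rintro ⟨hp, rfl | rfl⟩
      · rfl
      · exact absurd (hsub0 hp) hn22
    · rintro rfl
      exact ⟨self_mem_orbitF _ _, Or.inl rfl⟩
  rw [hi0, Finset.card_singleton] at h0
  have h1 := orbitF_modEq hu uL_order (idxPt 22)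
  have hi1 : orbitF H (idxPt 22) ∩ fixF (toPerm uL) = {idxPt 22} := by
    rw [hfix]
    ext p
    simp only [Finset.mem_inter, Finset.mem_insert, Finset.mem_singleton]
    constructor
    · rintro ⟨hp, rfl | rfl⟩
      · exact absurd idx0_mem (mem_Dc.mp (hsub1 hp))
      · rfl
    · rintro rfl
      exact ⟨self_mem_orbitF _ _, Or.inr rfl⟩
  rw [hi1, Finset.card_singleton] at h1
  have hle0 := Finset.card_le_card hsub0
  have hle1 := Finset.card_le_card hsub1
  rw [card_D] at hle0
  rw [card_Dc] at hle1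
  have hone_of : ∀ x, (orbitF H x).card = 1 → ∀ h ∈ H, h x = x := by
    intro x hone h hh
    obtain ⟨a, ha⟩ := Finset.card_eq_one.mp hone
    have h5 : x ∈ orbitF H x := self_mem_orbitF _ _
    have h6 : h x ∈ orbitF H x := (orbitF_inv hh _ _).mp h5
    rw [ha, Finset.mem_singleton] at h5 h6
    rw [h6, h5]
  have hpos0 : 0 < (orbitF H (idxPt 0)).card := Finset.card_pos.mpr ⟨_, self_mem_orbitF _ _⟩
  have hpos1 : 0 < (orbitF H (idxPt 22)).card := Finset.card_pos.mpr ⟨_, self_mem_orbitF _ _⟩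
  unfold Nat.ModEq at h0 h1
  by_cases hc0 : (orbitF H (idxPt 0)).card = 1
  · exact Or.inl (hone_of _ hc0)
  by_cases hc1 : (orbitF H (idxPt 22)).card = 1
  · exact Or.inr (hone_of _ hc1)
  exfalso
  have h12 : (orbitF H (idxPt 0)).card = 12 := by omega
  have h12' : (orbitF H (idxPt 22)).card = 12 := by omega
  have hO : orbitF H (idxPt 0) = supFin dod0 :=
    Finset.eq_of_subset_of_card_le hsub0 (by rw [card_D, h12])
  set H1 := H ⊓ MulAction.stabilizer (Equiv.Perm GolayPt) (idxPt 0) with hH1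
  set H2 := H ⊓ MulAction.stabilizer (Equiv.Perm GolayPt) (idxPt 22) with hH2
  have hc1' : Nat.card H1 = 660 := by
    have : Nat.card H = _ * Nat.card H1 := card_orbitF H (idxPt 0)
    rw [hc, h12] at this
    omega
  have hc2' : Nat.card H2 = 660 := by
    have : Nat.card H = _ * Nat.card H2 := card_orbitF H (idxPt 22)
    rw [hc, h12'] at this
    omega
  have hfix1 : ∀ k ∈ H1, k (idxPt 22) = idxPt 22 :=
    fixes_22 H1 (fun k hk => hH hk.1) (fun k hk => hk.2) ⟨hu, uL_fix0⟩ hc1'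
  have hle12 : H1 ≤ H2 := fun k hk => ⟨hk.1, hfix1 k hk⟩
  have heq12 : H1 = H2 := Subgroup.eq_of_le_of_card_ge hle12 (by rw [hc1', hc2'])
  -- `H1` is the whole two-point stabilizer
  have hL : H1 = GG ⊓ MulAction.stabilizer (Equiv.Perm GolayPt) (idxPt 0) ⊓
      MulAction.stabilizer (Equiv.Perm GolayPt) (idxPt 22) := by
    apply Subgroup.eq_of_le_of_card_ge
    · intro k hk
      exact ⟨⟨hH hk.1, hk.2⟩, hfix1 k hk⟩
    · rw [card_L, hc1']
  -- the element moving the base point
  have hmem1 : idxPt 1 ∈ orbitF H (idxPt 0) := by rw [hO]; exact idx1_mem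
  obtain ⟨x, hx, hxe⟩ := mem_orbitF.mp hmem1
  have hfixt : ∀ {t : List ℕ}, isAut t = true → m12P t = true → img t 0 = 0 → img t 1 = 1 → img t 22 = 22 →
      toPerm t (x (idxPt 22)) = x (idxPt 22) := by
    intro t ht hp h0' h1' h22'
    obtain ⟨h3, h4, h5⟩ := fix_t ht h0' h1' h22'
    have htL : toPerm t ∈ H1 := by
      rw [hL]
      exact Subgroup.mem_inf.mpr ⟨Subgroup.mem_inf.mpr ⟨toPerm_mem_stabS ht hp, MulAction.mem_stabilizer_iff.mpr h3⟩,
        MulAction.mem_stabilizer_iff.mpr h5⟩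
    have hw : x⁻¹ * toPerm t * x ∈ H1 := by
      refine Subgroup.mem_inf.mpr ⟨mul_mem (mul_mem (inv_mem hx) (Subgroup.mem_inf.mp htL).1) hx, ?_⟩
      rw [MulAction.mem_stabilizer_iff, Equiv.Perm.smul_def]
      simp only [Equiv.Perm.mul_apply]
      rw [hxe, h4]
      rw [Equiv.Perm.inv_eq_iff_eq, hxe]
    have h6 := hfix1 _ hw
    simp only [Equiv.Perm.mul_apply] at h6
    rw [Equiv.Perm.inv_eq_iff_eq] at h6
    exact h6
  have h1' := hfixt t1_aut t1_m12 (by decide +kernel) (by decide +kernel) (by decide +kernel)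
  have h2' := hfixt t2_aut t2_m12 (by decide +kernel) (by decide +kernel) (by decide +kernel)
  have hq := t_common (GG_apply_Dc (hH hx) idx22_mem) h1' h2'
  have hxH2 : x ∈ H1 := by
    rw [heq12]
    exact ⟨hx, hq⟩
  have h7 : x (idxPt 0) = idxPt 0 := hxH2.2
  rw [h7] at hxe
  exact idx01 hxe

end Cfsg.Agent.Lib.GolayAut12
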