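import Mathlib
import Cfsg.Prelude.Def_Sporadic_a
import Cfsg.Prelude.Def_SporadicCombinatorics
import Cfsg.Prelude.Def_KGroupFacts
import Cfsg.Prelude.Def_Spor_Mathieu
import Cfsg.Agent.Lib.GolayAut12

/-!
# The outer automorphism group of `M12`: conclusion
-/

set_option autoImplicit false
set_option linter.style.haveILetI false
set_option linter.constructorNameAsVariable false

open scoped Pointwise

namespace Cfsg.Agent.Lib.GolayAut12

open Cfsg Cfsg.Agent.Lib.GolayCode Cfsg.Agent.Lib.GolayFacts Cfsg.Agent.Lib.GolayPerm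
  Cfsg.Agent.Lib.GolayChain Cfsg.Agent.Lib.GolayTrans Cfsg.Agent.Lib.GolayDecomp
  Cfsg.Agent.Lib.GolayOrbit Cfsg.Agent.Lib.GolayKit Cfsg.Agent.Lib.GolayM12Data
  Cfsg.Agent.Lib.GolayM12 Cfsg.Agent.Lib.GolaySimple
  Cfsg.Agent.Lib.GolayOctad Cfsg.Agent.Lib.GolayFix Cfsg.Agent.Lib.GolayAut
  Cfsg.Agent.Lib.GolayAut22 Cfsg.Agent.Lib.GolayAut12Data

/-! ### Subgroups of index `12` fix a point -/

theorem factorization_card : (Nat.card GG).factorization 11 = 1 := by
  rw [card_GG, show (95040 : ℕ) = 11 * 8640 by norm_num, Nat.factorization_mul (by norm_num) (by norm_num)]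
  simp [Nat.Prime.factorization_self (by norm_num : Nat.Prime 11),
    Nat.factorization_eq_zero_of_not_dvd (by norm_num : ¬ 11 ∣ 8640)]

/-- Sylow conjugacy for `11`. -/
theorem exists_conj_of_order_11 {x : Equiv.Perm GolayPt} (hx : x ∈ GG) (ho : orderOf x = 11) :
    ∃ k ∈ GG, toPerm uL ∈ Subgroup.zpowers (k * x * k⁻¹) := by
  classical
  haveI : Fact (Nat.Prime 11) := ⟨by norm_num⟩
  let X : GG := ⟨x, hx⟩
  let U : GG := ⟨toPerm uL, uL_mem⟩
  have hX : orderOf X = 11 := by
    rw [← ho]
    exact Subgroup.orderOf_mk x hx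
  have hU : orderOf U = 11 := by
    rw [← uL_order]
    exact Subgroup.orderOf_mk _ uL_mem
  let P1 : Sylow 11 GG := Sylow.ofCard (Subgroup.zpowers X) (by
    rw [Nat.card_zpowers, hX, factorization_card, pow_one])
  let P2 : Sylow 11 GG := Sylow.ofCard (Subgroup.zpowers U) (by
    rw [Nat.card_zpowers, hU, factorization_card, pow_one])
  obtain ⟨g, hg⟩ := MulAction.exists_smul_eq GG P1 P2
  have h1 : U ∈ (P2 : Subgroup GG) := Subgroup.mem_zpowers U
  rw [← hg, Sylow.coe_subgroup_smul, Subgroup.mem_pointwise_smul_iff_inv_smul_mem] at h1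
  have h1' : g⁻¹ * U * g ∈ Subgroup.zpowers X := by
    have h4 : (MulAut.conj g)⁻¹ • U = g⁻¹ * U * g := by
      rw [MulAut.smul_def, MulAut.conj_inv_apply]
    rw [h4] at h1
    exact h1
  obtain ⟨n, hn⟩ := Subgroup.mem_zpowers_iff.mp h1'
  refine ⟨g.1, g.2, Subgroup.mem_zpowers_iff.mpr ⟨n, ?_⟩⟩
  have h2 : U = g * X ^ n * g⁻¹ := by
    rw [hn]
    group
  have h3 := congrArg (Subtype.val) h2
  simp only [Subgroup.coe_mul, Subgroup.coe_inv, Subgroup.coe_zpow] at h3
  rw [conj_zpow]
  exact h3.symm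

/-- Every subgroup of index `12` fixes a point. -/
theorem fixes_point_GG (H : Subgroup (Equiv.Perm GolayPt)) (hH : H ≤ GG) (hc : Nat.card H = 7920) :
    ∃ y, ∀ h ∈ H, h y = y := by
  classical
  haveI : Fact (Nat.Prime 11) := ⟨by norm_num⟩
  obtain ⟨x, hx, ho⟩ := cauchy H 11 (by rw [hc]; norm_num)
  obtain ⟨k, hk, hku⟩ := exists_conj_of_order_11 (hH hx) ho
  let H' : Subgroup (Equiv.Perm GolayPt) := H.map (MulAut.conj k).toMonoidHom
  have hH' : H' ≤ GG := by
    rintro _ ⟨h, hh, rfl⟩
    exact mul_mem (mul_mem hk (hH hh)) (inv_mem hk)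
  have hcH' : Nat.card H' = 7920 := by
    rw [Subgroup.card_map_of_injective (MulAut.conj k).injective, hc]
  have huH' : toPerm uL ∈ H' := by
    have h1 : Subgroup.zpowers (k * x * k⁻¹) ≤ H' := by
      rw [Subgroup.zpowers_le]
      exact ⟨x, hx, rfl⟩
    exact h1 hku
  have hfix : ∀ y, (∀ h ∈ H', h y = y) → ∀ h ∈ H, h (k⁻¹ y) = k⁻¹ y := by
    intro y hy h hh
    have h1 := hy (k * h * k⁻¹) ⟨h, hh, rfl⟩
    simp only [Equiv.Perm.mul_apply] at h1
    rw [Equiv.Perm.eq_inv_iff_eq]
    exact h1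
  rcases fixes_of_u H' hH' huH' hcH' with h | h
  · exact ⟨_, hfix _ h⟩
  · exact ⟨_, hfix _ h⟩

/-! ### Separation -/

theorem exists_other_D {y z : GolayPt} : ∃ w ∈ supFin dod0, w ≠ y ∧ w ≠ z := by
  classical
  have h : (({y, z} : Finset GolayPt)).card < (supFin dod0).card := by
    rw [card_D]
    have := Finset.card_le_two (a := y) (b := z)
    omega
  obtain ⟨w, hw, hw'⟩ := Finset.exists_mem_notMem_of_card_lt_card h
  simp only [Finset.mem_insert, Finset.mem_singleton, not_or] at hw'
  exact ⟨w, hw, hw'.1, hw'.2⟩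

theorem exists_other_Dc {y z : GolayPt} : ∃ w ∈ Dc, w ≠ y ∧ w ≠ z := by
  classical
  have h : (({y, z} : Finset GolayPt)).card < Dc.card := by
    rw [card_Dc]
    have := Finset.card_le_two (a := y) (b := z)
    omega
  obtain ⟨w, hw, hw'⟩ := Finset.exists_mem_notMem_of_card_lt_card h
  simp only [Finset.mem_insert, Finset.mem_singleton, not_or] at hw'
  exact ⟨w, hw, hw'.1, hw'.2⟩

theorem pair_ne {a b : GolayPt} (h : a ≠ b) : ∀ i < 2, ∀ c < 2, i ≠ c →
    (fun n => if n = 0 then a else b) i ≠ (fun n => if n = 0 then a else b) c := by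
  intro i hi c hc hic
  interval_cases i <;> interval_cases c <;> simp_all [Ne.symm]

/-- A point of the dodecad versus a point outside. -/
theorem sep_D_Dc {y z : GolayPt} (hy : y ∈ supFin dod0) (hz : z ∈ Dc) :
    ∃ g ∈ GG, g y = y ∧ g z ≠ z := by
  obtain ⟨w, hw, hw1, hw2⟩ := exists_other_Dc (y := y) (z := z)
  obtain ⟨g, hg, h⟩ := exists_tuple_compl_general dod0_mem_dodecads hy 1 (by norm_num) (fun _ => z) (fun _ => w)
    (fun _ _ => mem_Dc.mp hz) (fun _ _ => mem_Dc.mp hw) (fun a ha c hc hac => by omega) (fun a ha c hc hac => by omega)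
  obtain ⟨h1, h2, h3⟩ := mem_stabSP.mp hg
  refine ⟨g, mem_stabS.mpr ⟨h1, h2⟩, h3, ?_⟩
  rw [h 0 (by norm_num)]
  exact hw2

/-- Separation. -/
theorem sep_GG {y z : GolayPt} (h : ∀ g ∈ GG, g y = y → g z = z) : y = z := by
  classical
  by_contra hne
  have iota2 : ∀ q, toPerm iotaL (toPerm iotaL q) = q := fun q => by
    rw [← Equiv.Perm.mul_apply, iota_invol]; rfl
  by_cases hy : y ∈ supFin dod0
  · by_cases hz : z ∈ supFin dod0
    · obtain ⟨w, hw, hw1, hw2⟩ := exists_other_D (y := y) (z := z)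
      obtain ⟨g, hg, hgx⟩ := exists_tuple_dod0 2 (by norm_num) (fun n => if n = 0 then y else z)
        (fun n => if n = 0 then y else w)
        (fun a ha => by interval_cases a <;> simp_all)
        (fun a ha => by interval_cases a <;> simp_all)
        (pair_ne hne) (pair_ne (Ne.symm hw1))
      have h1 := h g hg (by simpa using hgx 0 (by norm_num))
      have h2 : g z = w := by simpa using hgx 1 (by norm_num)
      exact hw2 (h2.symm.trans h1)
    · obtain ⟨g, hg, h1, h2⟩ := sep_D_Dc hy (mem_Dc.mpr hz)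
      exact h2 (h g hg h1)
  · have hy' : y ∈ Dc := mem_Dc.mpr hy
    by_cases hz : z ∈ supFin dod0
    · -- conjugate by the exchange
      have hy2 : toPerm iotaL y ∈ supFin dod0 := iota_mem_iff.mpr hy'
      have hz2 : toPerm iotaL z ∈ Dc := mem_Dc.mpr (fun hc => mem_Dc.mp (iota_mem_iff.mp hc) hz)
      obtain ⟨g, hg, h1, h2⟩ := sep_D_Dc hy2 hz2
      have hg2 := iota_normalizes hg
      rw [iota_inv] at hg2
      have h3 := h _ hg2 (by
        simp only [Equiv.Perm.mul_apply]
        rw [h1, iota2])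
      simp only [Equiv.Perm.mul_apply] at h3
      apply h2
      have h4 := congrArg (toPerm iotaL) h3
      rwa [iota2] at h4
    · obtain ⟨w, hw, hw1, hw2⟩ := exists_other_Dc (y := y) (z := z)
      obtain ⟨g, hg, hgx⟩ := exists_tuple_compl 2 (by norm_num) (fun n => if n = 0 then y else z)
        (fun n => if n = 0 then y else w)
        (fun a ha => by interval_cases a <;> simp_all)
        (fun a ha => by interval_cases a <;> simp_all [mem_Dc])
        (pair_ne hne) (pair_ne (Ne.symm hw1))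
      have h1 := h g hg.1 (by simpa using hgx 0 (by norm_num))
      have h2 : g z = w := by simpa using hgx 1 (by norm_num)
      exact hw2 (h2.symm.trans h1)

/-! ### The unique involution -/

/-- The first involution. -/
def z0L : List ℕ := [0,1,2,3,12,5,9,10,16,6,7,22,4,18,14,19,8,17,13,15,21,20,11,23]

theorem z0_aut : isAut z0L = true := by decide +kernel

theorem z0_m12 : m12P z0L = true := by decide +kernel

/-- The check of one element of the last transversal. -/
def invChk (t : List ℕ) : Bool :=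
  (List.range 24).all (fun x => img t x == x) || (List.range 24).all (fun x => img t x == img z0L x) ||
    (List.range 24).any (fun x => img t (img t x) != x)

theorem inv_chk : (m12Levels.getD 4 []).all invChk = true := by decide +kernel

theorem ext_img {t : List ℕ} {g : Equiv.Perm GolayPt} (ht : isAut t = true) (h : ∀ x < 24, g (idxPt x) = idxPt (img t x)) :
    g = toPerm t := by
  ext1 p
  have hp := ptIdx_lt p
  rw [← idxPt_ptIdx p, h _ hp, toPerm_idxPt (isAut_valid ht) hp]

/-- Involutions of the stabilizer of the four points `0, 1, 2, 3`. -/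
theorem invol_base {g : Equiv.Perm GolayPt} (hg : g ∈ GG)
    (hf : ∀ i < 4, g (idxPt (at0 m12Base i)) = idxPt (at0 m12Base i)) (h2 : g * g = 1) :
    g = 1 ∨ g = toPerm z0L := by
  obtain ⟨t, ht, hat, h1, h3⟩ := step (j := 4) (by norm_num) hg hf
  have hone := eq_one_of_fix_m12Base h1 h3
  have hgt : g = toPerm t := by
    have : g = toPerm t * ((toPerm t)⁻¹ * g) := by group
    rw [this, hone, mul_one]
  have hc := List.all_eq_true.mp inv_chk t ht
  simp only [invChk, Bool.or_eq_true, List.all_eq_true, List.any_eq_true, List.mem_range, beq_iff_eq, bne_iff_ne] at hc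
  rcases hc with (hc | hc) | ⟨x, hx, hc⟩
  · left
    rw [hgt]
    ext1 p
    have hp := ptIdx_lt p
    rw [← idxPt_ptIdx p, toPerm_idxPt (isAut_valid hat) hp, hc _ hp]
    rfl
  · right
    rw [hgt]
    apply ext_img z0_aut
    intro x hx
    rw [toPerm_idxPt (isAut_valid hat) hx, hc x hx]
  · exfalso
    apply hc
    have h4 := congrArg (fun f : Equiv.Perm GolayPt => f (idxPt x)) h2
    simp only [Equiv.Perm.mul_apply, Equiv.Perm.coe_one, id] at h4
    rw [hgt, toPerm_idxPt (isAut_valid hat) hx] at h4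
    have hx2 : img t x < 24 := by
      have := ptIdx_toPerm (isAut_valid hat) (isAut_inRange hat) (idxPt x)
      rw [ptIdx_idxPt hx] at this
      rw [← this]
      exact ptIdx_lt _
    rw [toPerm_idxPt (isAut_valid hat) hx2] at h4
    have h5 := congrArg ptIdx h4
    have hx3 : img t (img t x) < 24 := by
      have := ptIdx_toPerm (isAut_valid hat) (isAut_inRange hat) (idxPt (img t x))
      rw [ptIdx_idxPt hx2] at this
      rw [← this]
      exact ptIdx_lt _
    rwa [ptIdx_idxPt hx3, ptIdx_idxPt hx] at h5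

/-- Two nonidentity involutions of `G_A` coincide. -/
theorem invol_unique {A : ℕ → GolayPt} (hA : ∀ i < 4, A i ∈ supFin dod0)
    (hinj : ∀ a < 4, ∀ c < 4, a ≠ c → A a ≠ A c) {g h : Equiv.Perm GolayPt} (hg : g ∈ GG) (hh : h ∈ GG)
    (hfg : ∀ i < 4, g (A i) = A i) (hfh : ∀ i < 4, h (A i) = A i) (hg2 : g * g = 1) (hh2 : h * h = 1)
    (hg1 : g ≠ 1) (hh1 : h ≠ 1) : g = h := by
  obtain ⟨k, hk, hkA⟩ := exists_tuple_dod0 4 (by norm_num) A (fun i => idxPt (at0 m12Base i)) hA
    (fun a ha => base_mem a (by omega)) hinj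
    (fun a ha c hc hac he => hac (base_inj a (by omega) c (by omega) (by
      have := congrArg ptIdx he
      rwa [ptIdx_idxPt (base_lt a (by omega)), ptIdx_idxPt (base_lt c (by omega))] at this)))
  have key : ∀ x ∈ GG, (∀ i < 4, x (A i) = A i) → x * x = 1 → x ≠ 1 → k * x * k⁻¹ = toPerm z0L := by
    intro x hx hfx hx2 hx1
    have h1 : k * x * k⁻¹ ∈ GG := mul_mem (mul_mem hk hx) (inv_mem hk)
    have h2 : ∀ i < 4, (k * x * k⁻¹) (idxPt (at0 m12Base i)) = idxPt (at0 m12Base i) := by
      intro i hi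
      simp only [Equiv.Perm.mul_apply]
      rw [← hkA i hi]
      have h5 : k⁻¹ (k (A i)) = A i := by rw [Equiv.Perm.inv_eq_iff_eq]
      rw [h5, hfx i hi]
    have h3 : (k * x * k⁻¹) * (k * x * k⁻¹) = 1 := by
      calc (k * x * k⁻¹) * (k * x * k⁻¹) = k * (x * x) * k⁻¹ := by group
        _ = 1 := by rw [hx2]; group
    rcases invol_base h1 h2 h3 with h4 | h4
    · exfalso
      apply hx1
      have : x = k⁻¹ * (k * x * k⁻¹) * k := by group
      rw [this, h4]
      group
    · exact h4
  have h5 := key g hg hfg hg2 hg1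
  have h6 := key h hh hfh hh2 hh1
  have h7 : k * g * k⁻¹ = k * h * k⁻¹ := h5.trans h6.symm
  have h8 : g = k⁻¹ * (k * g * k⁻¹) * k := by group
  have h9 : h = k⁻¹ * (k * h * k⁻¹) * k := by group
  rw [h8, h7, ← h9]

/-- An element normalizing the group and fixing the four points commutes with the involution. -/
theorem comm_of_fix {σ : Equiv.Perm GolayPt} (hσ : ∀ x ∈ GG, σ * x * σ⁻¹ ∈ GG)
    {A : ℕ → GolayPt} (hA : ∀ i < 4, A i ∈ supFin dod0) (hinj : ∀ a < 4, ∀ c < 4, a ≠ c → A a ≠ A c)
    (hσA : ∀ i < 4, σ (A i) = A i) {g : Equiv.Perm GolayPt} (hg : g ∈ GG)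
    (hfg : ∀ i < 4, g (A i) = A i) (hg2 : g * g = 1) (hg1 : g ≠ 1) : σ * g * σ⁻¹ = g := by
  apply invol_unique hA hinj (hσ g hg) hg _ hfg _ hg2 _ hg1
  · intro i hi
    simp only [Equiv.Perm.mul_apply]
    have : σ⁻¹ (A i) = A i := by
      rw [Equiv.Perm.inv_eq_iff_eq, hσA i hi]
    rw [this, hfg i hi, hσA i hi]
  · calc (σ * g * σ⁻¹) * (σ * g * σ⁻¹) = σ * (g * g) * σ⁻¹ := by group
      _ = 1 := by rw [hg2]; group
  · intro he
    apply hg1
    have : g = σ⁻¹ * (σ * g * σ⁻¹) * σ := by group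
    rw [this, he]
    group

/-! ### Rigidity -/

/-- The `i`-th involution. -/
def zetaAt (i : ℕ) : List ℕ := zetaL.getD i []

/-- The `i`-th quadruple. -/
def quad (i : ℕ) : List ℕ :=
  let q := needL.getD i (0, 0, 0, 0)
  [q.1, q.2.1, q.2.2.1, q.2.2.2]

/-- The hexad. -/
def hexL : List ℕ := [0, 1, 2, 3, 4, 12]

/-- The rest of the dodecad. -/
def restL : List ℕ := [6, 8, 9, 13, 16, 18]

/-- The check of the `i`-th involution. -/
def zetaChk (i : ℕ) : Bool :=
  let z := zetaAt i
  let q := quad i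
  isAut z && m12P z && (List.range 24).all (fun x => img z (img z x) == x) &&
    (List.range 24).any (fun x => img z x != x) && q.all (fun p => hexL.contains p && img z p == p && p < 24 && dod0.testBit p) &&
    q.Nodup

theorem zeta_chk : ∀ i < 15, zetaChk i = true := by decide +kernel

/-- The check of the separating pairs. -/
def sepChk (y y' : ℕ) : Bool :=
  pairsL.any fun e => e.1 == y && e.2.1 == y' && decide (e.2.2.1 < 15) && decide (e.2.2.2 < 15) &&
    img (zetaAt e.2.2.1) y == img (zetaAt e.2.2.2) y && img (zetaAt e.2.2.1) y' != img (zetaAt e.2.2.2) y'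

theorem sep_chk : ∀ y ∈ restL, ∀ y' ∈ restL, y ≠ y' → sepChk y y' = true := by decide +kernel

theorem hex_rest : ∀ y < 24, dod0.testBit y = true → y ∈ hexL ∨ y ∈ restL := by decide +kernel

theorem hex_lt : ∀ y ∈ hexL, y < 24 := by decide

theorem rest_lt : ∀ y ∈ restL, y < 24 := by decide

theorem rest_not_hex : ∀ y ∈ restL, y ∉ hexL := by decide

theorem at0_base : ∀ i < 5, at0 m12Base i = i := by decide

/-- The involution as a permutation. -/
theorem zeta_mem {i : ℕ} (hi : i < 15) : toPerm (zetaAt i) ∈ GG ∧ toPerm (zetaAt i) * toPerm (zetaAt i) = 1 ∧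
    toPerm (zetaAt i) ≠ 1 := by
  have h := zeta_chk i hi
  simp only [zetaChk, Bool.and_eq_true, List.all_eq_true, List.mem_range, beq_iff_eq, List.any_eq_true, bne_iff_ne,
    decide_eq_true_eq] at h
  obtain ⟨⟨⟨⟨⟨h1, h2⟩, h3⟩, ⟨x, hx, h4⟩⟩, -⟩, -⟩ := h
  refine ⟨toPerm_mem_stabS h1 h2, ?_, ?_⟩
  · ext1 p
    have hp := ptIdx_lt p
    have hv := isAut_valid h1
    have hr := isAut_inRange h1
    apply ptIdx_injective
    rw [Equiv.Perm.mul_apply, ptIdx_toPerm hv hr, ptIdx_toPerm hv hr, h3 _ hp]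
    rfl
  · intro he
    apply h4
    have h5 := congrArg (fun f : Equiv.Perm GolayPt => ptIdx (f (idxPt x))) he
    simp only [Equiv.Perm.coe_one, id] at h5
    rw [ptIdx_toPerm (isAut_valid h1) (isAut_inRange h1), ptIdx_idxPt hx] at h5
    exact h5

/-- The rigid core. -/
theorem rigid12 {σ : Equiv.Perm GolayPt} (hσ : ∀ x ∈ GG, σ * x * σ⁻¹ ∈ GG) (hD : σ • supFin dod0 = supFin dod0)
    (hb : ∀ i < 5, σ (idxPt i) = idxPt i) : σ = 1 := by
  classical
  -- the commutation with `z0`
  have hz0 : σ * toPerm z0L * σ⁻¹ = toPerm z0L := by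
    refine comm_of_fix hσ (A := fun i => idxPt (at0 m12Base i)) (fun a ha => base_mem a (by omega))
      (fun a ha c hc hac he => hac (base_inj a (by omega) c (by omega) (by
        have := congrArg ptIdx he
        rwa [ptIdx_idxPt (base_lt a (by omega)), ptIdx_idxPt (base_lt c (by omega))] at this)))
      (fun i hi => by
        rw [at0_base i (by omega)]
        exact hb i (by omega))
      (toPerm_mem_stabS z0_aut z0_m12) (fun i hi => ?_) ?_ ?_
    · rw [toPerm_idxPt (isAut_valid z0_aut) (base_lt i (by omega))]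
      interval_cases i <;> rfl
    · ext1 p
      have hp := ptIdx_lt p
      have hv := isAut_valid z0_aut
      have hr := isAut_inRange z0_aut
      apply ptIdx_injective
      rw [Equiv.Perm.mul_apply, ptIdx_toPerm hv hr, ptIdx_toPerm hv hr]
      have : ∀ x < 24, img z0L (img z0L x) = x := by decide +kernel
      rw [this _ hp]
      rfl
    · intro he
      have h5 := congrArg (fun f : Equiv.Perm GolayPt => ptIdx (f (idxPt 4))) he
      simp only [Equiv.Perm.coe_one, id] at h5
      rw [ptIdx_toPerm (isAut_valid z0_aut) (isAut_inRange z0_aut), ptIdx_idxPt (by norm_num)] at h5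
      revert h5
      decide +kernel
  have h12 : σ (idxPt 12) = idxPt 12 := by
    have h1 : toPerm z0L (idxPt 4) = idxPt 12 := toPerm_idxPt (isAut_valid z0_aut) (by norm_num)
    have h2 : σ (toPerm z0L (idxPt 4)) = toPerm z0L (σ (idxPt 4)) := by
      have h3 : σ * toPerm z0L = toPerm z0L * σ := by
        calc σ * toPerm z0L = (σ * toPerm z0L * σ⁻¹) * σ := by group
          _ = toPerm z0L * σ := by rw [hz0]
      exact congrArg (fun f : Equiv.Perm GolayPt => f (idxPt 4)) h3
    rw [hb 4 (by norm_num), h1] at h2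
    exact h2
  have hhex : ∀ y ∈ hexL, σ (idxPt y) = idxPt y := by
    intro y hy
    simp only [hexL, List.mem_cons, List.not_mem_nil, or_false] at hy
    rcases hy with rfl | rfl | rfl | rfl | rfl | rfl
    · exact hb 0 (by norm_num)
    · exact hb 1 (by norm_num)
    · exact hb 2 (by norm_num)
    · exact hb 3 (by norm_num)
    · exact hb 4 (by norm_num)
    · exact h12
  -- commutation with all the involutions
  have hcomm : ∀ i < 15, σ * toPerm (zetaAt i) = toPerm (zetaAt i) * σ := by
    intro i hi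
    obtain ⟨h1, h2, h3⟩ := zeta_mem hi
    have h := zeta_chk i hi
    simp only [zetaChk, Bool.and_eq_true, List.all_eq_true, decide_eq_true_eq, List.contains_iff_mem,
      beq_iff_eq] at h
    obtain ⟨⟨⟨⟨⟨h4, -⟩, -⟩, -⟩, h5⟩, h6⟩ := h
    have hlen : (quad i).length = 4 := rfl
    have h7 : ∀ a < 4, (quad i).getD a 0 ∈ quad i := by
      intro a ha
      rw [List.getD_eq_getElem _ _ (by omega)]
      exact List.getElem_mem _
    have hmain := comm_of_fix hσ (A := fun a => idxPt ((quad i).getD a 0))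
      (fun a ha => by
        have := h5 _ (h7 a ha)
        exact mem_supFin.mpr (by
          rw [ptIdx_idxPt this.1.2]
          exact this.2))
      (fun a ha c hc hac he => by
        have h8 := h5 _ (h7 a ha)
        have h9 := h5 _ (h7 c hc)
        have h10 := congrArg ptIdx he
        rw [ptIdx_idxPt h8.1.2, ptIdx_idxPt h9.1.2, List.getD_eq_getElem _ _ (by omega),
          List.getD_eq_getElem _ _ (by omega)] at h10
        have := (List.Nodup.getElem_inj_iff h6).mp h10
        exact hac this)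
      (fun a ha => hhex _ (by have := h5 _ (h7 a ha); exact this.1.1.1))
      h1
      (fun a ha => by
        have h8 := h5 _ (h7 a ha)
        rw [toPerm_idxPt (isAut_valid h4) h8.1.2, h8.1.1.2])
      h2 h3
    calc σ * toPerm (zetaAt i) = (σ * toPerm (zetaAt i) * σ⁻¹) * σ := by group
      _ = toPerm (zetaAt i) * σ := by rw [hmain]
  -- the rest of the dodecad
  have hrest : ∀ y ∈ restL, σ (idxPt y) = idxPt y := by
    intro y hy
    have hy24 := rest_lt y hy
    have hyD : idxPt y ∈ supFin dod0 := by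
      rw [mem_supFin, ptIdx_idxPt hy24]
      revert y
      decide +kernel
    have hq : σ (idxPt y) ∈ supFin dod0 := by
      rw [← hD]
      exact Finset.mem_smul_finset.mpr ⟨_, hyD, rfl⟩
    set q := σ (idxPt y) with hqdef
    have hq' : q = idxPt (ptIdx q) := (idxPt_ptIdx q).symm
    rcases hex_rest (ptIdx q) (ptIdx_lt q) (mem_supFin.mp hq) with h1 | h1
    · exfalso
      have h2 := hhex _ h1
      rw [← hq', hqdef] at h2
      have h3 := σ.injective h2
      have h4 := congrArg ptIdx h3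
      rw [← hqdef, ptIdx_idxPt hy24] at h4
      rw [h4] at h1
      exact rest_not_hex y hy h1
    · by_contra hne
      have hyy' : y ≠ ptIdx q := by
        intro he
        apply hne
        rw [hq', ← he]
      have hs := sep_chk y hy _ h1 hyy'
      simp only [sepChk, List.any_eq_true, Bool.and_eq_true, beq_iff_eq, decide_eq_true_eq, bne_iff_ne] at hs
      obtain ⟨e, -, ⟨⟨⟨⟨⟨-, -⟩, hi⟩, hj⟩, h3⟩, h4⟩⟩ := hs
      have hzi := (zeta_chk _ hi)
      have hzj := (zeta_chk _ hj)
      simp only [zetaChk, Bool.and_eq_true] at hzi hzj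
      have hvi := isAut_valid hzi.1.1.1.1.1
      have hvj := isAut_valid hzj.1.1.1.1.1
      apply h4
      have h5 : toPerm (zetaAt e.2.2.1) (idxPt y) = toPerm (zetaAt e.2.2.2) (idxPt y) := by
        rw [toPerm_idxPt hvi hy24, toPerm_idxPt hvj hy24, h3]
      have h6 := congrArg σ h5
      have c1 := congrArg (fun f : Equiv.Perm GolayPt => f (idxPt y)) (hcomm _ hi)
      have c2 := congrArg (fun f : Equiv.Perm GolayPt => f (idxPt y)) (hcomm _ hj)
      simp only [Equiv.Perm.mul_apply] at c1 c2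
      rw [c1, c2, ← hqdef, hq', toPerm_idxPt hvi (ptIdx_lt q), toPerm_idxPt hvj (ptIdx_lt q)] at h6
      have h7 := congrArg ptIdx h6
      rw [ptIdx_idxPt (by
        have := ptIdx_toPerm hvi (isAut_inRange hzi.1.1.1.1.1) (idxPt (ptIdx q))
        rw [ptIdx_idxPt (ptIdx_lt q)] at this
        rw [← this]
        exact ptIdx_lt _), ptIdx_idxPt (by
        have := ptIdx_toPerm hvj (isAut_inRange hzj.1.1.1.1.1) (idxPt (ptIdx q))
        rw [ptIdx_idxPt (ptIdx_lt q)] at this
        rw [← this]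
        exact ptIdx_lt _)] at h7
      exact h7
  have hDfix : ∀ p ∈ supFin dod0, σ p = p := by
    intro p hp
    rw [← idxPt_ptIdx p]
    rcases hex_rest (ptIdx p) (ptIdx_lt p) (mem_supFin.mp hp) with h1 | h1
    · exact hhex _ h1
    · exact hrest _ h1
  have hDfix' : ∀ p ∈ supFin dod0, σ⁻¹ p = p := by
    intro p hp
    rw [Equiv.Perm.inv_eq_iff_eq, hDfix p hp]
  -- centralizes
  have hcentral : ∀ g ∈ GG, σ * g * σ⁻¹ = g := by
    intro g hg
    have h1 : g⁻¹ * (σ * g * σ⁻¹) = 1 := by
      apply eq_one_of_fix_m12Base (mul_mem (inv_mem hg) (hσ g hg))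
      intro i hi
      rw [at0_base i hi]
      have hmem : idxPt i ∈ supFin dod0 := by
        have := base_mem i hi
        rwa [at0_base i hi] at this
      simp only [Equiv.Perm.mul_apply]
      rw [hDfix' _ hmem, hDfix _ (stabS_apply_mem hg hmem)]
      simp
    have h2 : σ * g * σ⁻¹ = g * (g⁻¹ * (σ * g * σ⁻¹)) := by group
    rw [h2, h1, mul_one]
  ext1 p
  symm
  simp only [Equiv.Perm.coe_one, id]
  refine sep_GG (y := p) (z := σ p) ?_ |>.symm.symm
  intro g hg hgp
  have h3 : σ * g = g * σ := by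
    calc σ * g = (σ * g * σ⁻¹) * σ := by group
      _ = g * σ := by rw [hcentral g hg]
  have h4 := congrArg (fun f : Equiv.Perm GolayPt => f p) h3
  simp only [Equiv.Perm.mul_apply] at h4
  rw [hgp] at h4
  exact h4.symm

/-- A normalizing permutation preserving the dodecad lies in the group. -/
theorem mem_GG_of_normalizes {τ : Equiv.Perm GolayPt} (hτ : ∀ x ∈ GG, τ * x * τ⁻¹ ∈ GG)
    (h0 : τ (idxPt 0) ∈ supFin dod0) : τ ∈ GG := by
  classical
  have hsub : τ • supFin dod0 ⊆ supFin dod0 := by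
    intro p hp
    obtain ⟨q, hq, rfl⟩ := Finset.mem_smul_finset.mp hp
    obtain ⟨g, hg, rfl⟩ := exists_map_D idx0_mem hq
    have h1 : τ (g (idxPt 0)) = (τ * g * τ⁻¹) (τ (idxPt 0)) := by simp
    rw [Equiv.Perm.smul_def, h1]
    exact stabS_apply_mem (hτ g hg) h0
  have hD : τ • supFin dod0 = supFin dod0 :=
    Finset.eq_of_subset_of_card_le hsub (by rw [Finset.card_smul_finset])
  obtain ⟨g0, hg0, hg0x⟩ := exists_tuple_dod0 5 (by norm_num) (fun i => τ (idxPt (at0 m12Base i)))
    (fun i => idxPt (at0 m12Base i))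
    (fun a ha => by
      rw [← hD]
      exact Finset.mem_smul_finset.mpr ⟨_, base_mem a ha, rfl⟩)
    (fun a ha => base_mem a ha)
    (fun a ha c hc hac he => hac (base_inj a ha c hc (by
      have := congrArg ptIdx (τ.injective he)
      rwa [ptIdx_idxPt (base_lt a ha), ptIdx_idxPt (base_lt c hc)] at this)))
    (fun a ha c hc hac he => hac (base_inj a ha c hc (by
      have := congrArg ptIdx he
      rwa [ptIdx_idxPt (base_lt a ha), ptIdx_idxPt (base_lt c hc)] at this)))
  have hone : g0 * τ = 1 := by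
    apply rigid12
    · intro x hx
      have h1 : (g0 * τ) * x * (g0 * τ)⁻¹ = g0 * (τ * x * τ⁻¹) * g0⁻¹ := by group
      rw [h1]
      exact mul_mem (mul_mem hg0 (hτ x hx)) (inv_mem hg0)
    · rw [mul_smul, hD]
      exact (mem_stabS.mp hg0).2
    · intro i hi
      have := hg0x i hi
      simp only [at0_base i hi] at this
      rw [Equiv.Perm.mul_apply]
      exact this
  have h2 : τ = g0⁻¹ := eq_inv_of_mul_eq_one_right hone
  rw [h2]
  exact inv_mem hg0

/-! ### Conclusion -/

theorem iota_normalizes' {x : Equiv.Perm GolayPt} (hx : x ∈ GG) : (toPerm iotaL)⁻¹ * x * toPerm iotaL ∈ GG := by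
  have := iota_normalizes hx
  rw [iota_inv] at this ⊢
  exact this

/-- The automorphism `β`. -/
noncomputable def beta12 : MulAut GG :=
  conjAut GG (toPerm iotaL) (fun _ hx => iota_normalizes hx) (fun _ hx => iota_normalizes' hx)

theorem beta12_apply (x : GG) : ((beta12 x : GG) : Equiv.Perm GolayPt) = toPerm iotaL * x.1 * (toPerm iotaL)⁻¹ := rfl

theorem idx0_iota : toPerm iotaL (idxPt 0) ∈ Dc := by
  rw [← iota_smul_D]
  exact Finset.mem_smul_finset.mpr ⟨_, idx0_mem, rfl⟩

theorem beta12_not_inn : beta12 ∉ Cfsg.Inn ↥GG := by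
  rintro ⟨h, hh⟩
  set k := h.1⁻¹ * toPerm iotaL with hk
  have hcomm : ∀ x ∈ GG, k * x = x * k := by
    intro x hx
    have h1 := congrArg (fun f : MulAut GG => ((f ⟨x, hx⟩ : GG) : Equiv.Perm GolayPt)) hh
    simp only [MulAut.conj_apply, Subgroup.coe_mul, Subgroup.coe_inv] at h1
    rw [beta12_apply] at h1
    simp only at h1
    calc k * x = h.1⁻¹ * (toPerm iotaL * x * (toPerm iotaL)⁻¹) * toPerm iotaL := by simp only [hk]; group
      _ = h.1⁻¹ * (h.1 * x * h.1⁻¹) * toPerm iotaL := by rw [h1]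
      _ = x * k := by simp only [hk]; group
  have h2 : idxPt 0 = k (idxPt 0) := by
    apply sep_GG
    intro g hg hgp
    have h4 := congrArg (fun f : Equiv.Perm GolayPt => f (idxPt 0)) (hcomm g hg)
    simp only [Equiv.Perm.mul_apply] at h4
    rw [hgp] at h4
    exact h4.symm
  have h3 : k (idxPt 0) ∈ Dc := by
    simp only [hk, Equiv.Perm.mul_apply]
    exact GG_apply_Dc (inv_mem h.2) idx0_iota
  rw [← h2] at h3
  exact mem_Dc.mp h3 idx0_mem

theorem inn_of_mem {α : MulAut GG} {π : Equiv.Perm GolayPt} (hπ : π ∈ GG)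
    (h : ∀ g : GG, ((α g : GG) : Equiv.Perm GolayPt) = π * g.1 * π⁻¹) : α ∈ Cfsg.Inn ↥GG := by
  refine ⟨⟨π, hπ⟩, ?_⟩
  apply MulEquiv.ext
  intro g
  rw [MulAut.conj_apply]
  exact Subtype.ext (h g).symm

/-- The order of `Out` of the group. -/
theorem out_GG : Nat.card (Cfsg.Out ↥GG) = 2 := by
  classical
  refine card_out_eq_two beta12 beta12_not_inn ?_
  intro α
  obtain ⟨π, -, hπ⟩ := exists_intertwiner GG (Set.univ : Set GolayPt)
    (fun _ _ _ _ => Set.mem_univ _) (fun _ _ x hx => absurd (Set.mem_univ x) hx) 7920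
    (fun x _ => card_stab_GG x)
    (fun K hK hc => by
      obtain ⟨y, hy⟩ := fixes_point_GG K hK hc
      exact ⟨y, Set.mem_univ _, hy⟩)
    (fun y _ z _ h => sep_GG h) α
  have hn : ∀ x ∈ GG, π * x * π⁻¹ ∈ GG := by
    intro x hx
    rw [← hπ ⟨x, hx⟩]
    exact (α ⟨x, hx⟩).2
  by_cases h0 : π (idxPt 0) ∈ supFin dod0
  · left
    exact inn_of_mem (mem_GG_of_normalizes hn h0) hπ
  · right
    have hn2 : ∀ x ∈ GG, (π * toPerm iotaL) * x * (π * toPerm iotaL)⁻¹ ∈ GG := by
      intro x hx
      have h1 : (π * toPerm iotaL) * x * (π * toPerm iotaL)⁻¹ = π * (toPerm iotaL * x * (toPerm iotaL)⁻¹) * π⁻¹ := by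
        group
      rw [h1]
      exact hn _ (iota_normalizes hx)
    have hsub : π • supFin dod0 ⊆ Dc := by
      intro p hp
      obtain ⟨q, hq, rfl⟩ := Finset.mem_smul_finset.mp hp
      obtain ⟨g, hg, rfl⟩ := exists_map_D idx0_mem hq
      have h1 : π (g (idxPt 0)) = (π * g * π⁻¹) (π (idxPt 0)) := by simp
      rw [Equiv.Perm.smul_def, h1]
      exact GG_apply_Dc (hn g hg) (mem_Dc.mpr h0)
    have hD : π • supFin dod0 = Dc :=
      Finset.eq_of_subset_of_card_le hsub (by rw [Finset.card_smul_finset, card_Dc, card_D])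
    have h1 : (π * toPerm iotaL) (idxPt 0) ∈ supFin dod0 := by
      by_contra hc
      have h3 : π (toPerm iotaL (idxPt 0)) ∈ Dc := mem_Dc.mpr hc
      rw [← hD] at h3
      obtain ⟨q, hq, he⟩ := Finset.mem_smul_finset.mp h3
      have h4 : q = toPerm iotaL (idxPt 0) := π.injective he
      rw [h4] at hq
      exact mem_Dc.mp idx0_iota hq
    refine inn_of_mem (mem_GG_of_normalizes hn2 h1) ?_
    intro g
    have h2 : ((α * beta12) g : GG) = α (beta12 g) := rfl
    rw [h2, hπ, beta12_apply]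
    group

theorem squareDodecad_eq : Cfsg.Spor.squareDodecad = supFin dod0 := by
  have h1 := dec_qrMask 0
  have h2 : qrMask (0 : ZMod 23).val = dod0 := by decide +kernel
  rw [h2] at h1
  rw [Cfsg.Spor.squareDodecad, ← h1, support_dec]

theorem M12_eq : Cfsg.Spor.M12 = GG := by
  rw [Cfsg.Spor.M12, squareDodecad_eq]

theorem out_M12 : Nat.card (Cfsg.Out ↥Cfsg.Spor.M12) = 2 := by
  rw [M12_eq]
  exact out_GG

end Cfsg.Agent.Lib.GolayAut12
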