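import Mathlib
import Cfsg.Prelude.Def_Sporadic_a
import Cfsg.Prelude.Def_SporadicCombinatorics
import Cfsg.Prelude.Def_KGroupFacts
import Cfsg.Prelude.Def_Spor_Mathieu
import Cfsg.Agent.Lib.GolayAut12b

/-!
# The two classes of `M11` inside `M12`
-/

set_option autoImplicit false
set_option linter.style.haveILetI false
set_option linter.constructorNameAsVariable false

open scoped Pointwise

namespace Cfsg.Agent.Lib.GolayAut12

open Cfsg Cfsg.Agent.Lib.GolayCode Cfsg.Agent.Lib.GolayFacts Cfsg.Agent.Lib.GolayPerm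
  Cfsg.Agent.Lib.GolayChain Cfsg.Agent.Lib.GolayTrans Cfsg.Agent.Lib.GolayDecomp
  Cfsg.Agent.Lib.GolayOrbit Cfsg.Agent.Lib.GolayKit Cfsg.Agent.Lib.GolayM12Data
  Cfsg.Agent.Lib.GolayM12 Cfsg.Agent.Lib.GolaySimple
  Cfsg.Agent.Lib.GolayOctad Cfsg.Agent.Lib.GolayFix Cfsg.Agent.Lib.GolayAut
  Cfsg.Agent.Lib.GolayAut22 Cfsg.Agent.Lib.GolayAut12Data

theorem none_idx : (none : GolayPt) = idxPt 23 := rfl

theorem none_mem_Dc : (none : GolayPt) ∈ Dc := by decide +kernel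

theorem some0_idx : (some 0 : GolayPt) = idxPt 0 := rfl

/-- The element exchanging. -/
theorem exists_exchange : ∃ g ∈ M24, g • supFin dod0 = Dc ∧ g (idxPt 0) = none ∧
    ∀ x ∈ GG, g * x * g⁻¹ ∈ GG := by
  obtain ⟨k, hk, hke⟩ := exists_map_Dc idx0_iota none_mem_Dc
  refine ⟨k * toPerm iotaL, mul_mem (mem_stabS.mp hk).1 iota_mem, ?_, ?_, ?_⟩
  · rw [mul_smul, iota_smul_D]
    ext p
    rw [Finset.mem_smul_finset]
    constructor
    · rintro ⟨q, hq, rfl⟩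
      exact GG_apply_Dc hk hq
    · intro hp
      exact ⟨k⁻¹ p, GG_apply_Dc (inv_mem hk) hp, by simp⟩
  · rw [Equiv.Perm.mul_apply]
    exact hke
  · intro x hx
    have h1 : (k * toPerm iotaL) * x * (k * toPerm iotaL)⁻¹ = k * (toPerm iotaL * x * (toPerm iotaL)⁻¹) * k⁻¹ := by
      group
    rw [h1]
    exact mul_mem (mul_mem hk (iota_normalizes hx)) (inv_mem hk)

theorem normalizes_inv {g : Equiv.Perm GolayPt} (hg : g ∈ M24) (hD : g • supFin dod0 = Dc)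
    {x : Equiv.Perm GolayPt} (hx : x ∈ GG) : g⁻¹ * x * g ∈ GG := by
  refine mem_stabS.mpr ⟨mul_mem (mul_mem (inv_mem hg) (mem_stabS.mp hx).1) hg, ?_⟩
  ext p
  rw [Finset.mem_smul_finset]
  have hgD : ∀ q, g q ∈ Dc ↔ q ∈ supFin dod0 := by
    intro q
    rw [← hD]
    constructor
    · intro h
      obtain ⟨r, hr, he⟩ := Finset.mem_smul_finset.mp h
      have : r = q := g.injective he
      exact this ▸ hr
    · intro h
      exact Finset.mem_smul_finset.mpr ⟨q, h, rfl⟩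
  constructor
  · rintro ⟨q, hq, rfl⟩
    rw [Equiv.Perm.smul_def]
    simp only [Equiv.Perm.mul_apply]
    rw [← hgD]
    have h1 : g (g⁻¹ (x (g q))) = x (g q) := by
      rw [← Equiv.Perm.mul_apply, mul_inv_cancel]; rfl
    rw [h1]
    exact GG_apply_Dc hx ((hgD q).mpr hq)
  · intro hp
    refine ⟨g⁻¹ (x⁻¹ (g p)), ?_, ?_⟩
    · rw [← hgD]
      have h1 : g (g⁻¹ (x⁻¹ (g p))) = x⁻¹ (g p) := by
        rw [← Equiv.Perm.mul_apply, mul_inv_cancel]; rfl
      rw [h1]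
      exact GG_apply_Dc (inv_mem hx) ((hgD p).mpr hp)
    · rw [Equiv.Perm.smul_def]
      simp only [Equiv.Perm.mul_apply]
      have h1 : g (g⁻¹ (x⁻¹ (g p))) = x⁻¹ (g p) := by
        rw [← Equiv.Perm.mul_apply, mul_inv_cancel]; rfl
      have h2 : x (x⁻¹ (g p)) = g p := by
        rw [← Equiv.Perm.mul_apply, mul_inv_cancel]; rfl
      rw [h1, h2]
      rw [Equiv.Perm.inv_eq_iff_eq]

theorem M11_eq : Cfsg.Spor.M11 = GG ⊓ MulAction.stabilizer (Equiv.Perm GolayPt) (idxPt 0) := by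
  rw [Cfsg.Spor.M11, M12_eq]
  rfl

/-- Conjugation by `g`. -/
theorem conj_smul_eq {g : Equiv.Perm GolayPt} (hg : g ∈ M24) (hD : g • supFin dod0 = Dc)
    (hg0 : g (idxPt 0) = none) (hn : ∀ x ∈ GG, g * x * g⁻¹ ∈ GG) :
    MulAut.conj g • Cfsg.Spor.M11 = Cfsg.Spor.M12 ⊓ MulAction.stabilizer (Equiv.Perm GolayPt) (none : GolayPt) := by
  rw [M11_eq, M12_eq]
  ext y
  rw [Subgroup.mem_pointwise_smul_iff_inv_smul_mem]
  have h1 : (MulAut.conj g)⁻¹ • y = g⁻¹ * y * g := by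
    rw [MulAut.smul_def, MulAut.conj_inv_apply]
  rw [h1]
  simp only [Subgroup.mem_inf, MulAction.mem_stabilizer_iff, Equiv.Perm.smul_def]
  constructor
  · rintro ⟨h2, h3⟩
    have h4 := hn _ h2
    have h5 : g * (g⁻¹ * y * g) * g⁻¹ = y := by group
    rw [h5] at h4
    refine ⟨h4, ?_⟩
    simp only [Equiv.Perm.mul_apply] at h3
    rw [hg0, Equiv.Perm.inv_eq_iff_eq, hg0] at h3
    exact h3
  · rintro ⟨h2, h3⟩
    refine ⟨normalizes_inv hg hD h2, ?_⟩
    simp only [Equiv.Perm.mul_apply]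
    rw [hg0, h3, Equiv.Perm.inv_eq_iff_eq, hg0]

theorem not_conj_M11 : ¬ ∃ k ∈ Cfsg.Spor.M12, MulAut.conj k • Cfsg.Spor.M11 =
    Cfsg.Spor.M12 ⊓ MulAction.stabilizer (Equiv.Perm GolayPt) (none : GolayPt) := by
  rintro ⟨k, hk, he⟩
  rw [M12_eq] at hk
  have hsep : (none : GolayPt) = k (idxPt 0) := by
    apply sep_GG
    intro g hg hgn
    have h1 : g ∈ Cfsg.Spor.M12 ⊓ MulAction.stabilizer (Equiv.Perm GolayPt) (none : GolayPt) := by
      rw [M12_eq]
      exact Subgroup.mem_inf.mpr ⟨hg, MulAction.mem_stabilizer_iff.mpr hgn⟩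
    rw [← he, Subgroup.mem_pointwise_smul_iff_inv_smul_mem, M11_eq] at h1
    have h2 : (MulAut.conj k)⁻¹ • g = k⁻¹ * g * k := by
      rw [MulAut.smul_def, MulAut.conj_inv_apply]
    rw [h2] at h1
    have h3 := MulAction.mem_stabilizer_iff.mp (Subgroup.mem_inf.mp h1).2
    rw [Equiv.Perm.smul_def] at h3
    simp only [Equiv.Perm.mul_apply] at h3
    rw [Equiv.Perm.inv_eq_iff_eq] at h3
    exact h3
  have h1 : k (idxPt 0) ∈ supFin dod0 := stabS_apply_mem hk idx0_mem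
  rw [← hsep] at h1
  exact mem_Dc.mp none_mem_Dc h1

theorem compl_squareDodecad : (Finset.univ : Finset GolayPt) \ Cfsg.Spor.squareDodecad = Dc := by
  rw [squareDodecad_eq]
  ext p
  simp [mem_Dc]

/-- The statement about the two classes. -/
theorem two_classes : Nonempty (↥(Cfsg.Spor.M12 ⊓ MulAction.stabilizer (Equiv.Perm GolayPt) (none : GolayPt)) ≃*
      ↥Cfsg.Spor.M11) ∧
    (¬ ∃ k ∈ Cfsg.Spor.M12, MulAut.conj k • Cfsg.Spor.M11 =
      Cfsg.Spor.M12 ⊓ MulAction.stabilizer (Equiv.Perm GolayPt) (none : GolayPt)) ∧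
    ∃ g ∈ M24, g • Cfsg.Spor.squareDodecad = Finset.univ \ Cfsg.Spor.squareDodecad ∧
      MulAut.conj g • Cfsg.Spor.M11 =
        Cfsg.Spor.M12 ⊓ MulAction.stabilizer (Equiv.Perm GolayPt) (none : GolayPt) := by
  obtain ⟨g, hg, hD, hg0, hn⟩ := exists_exchange
  have hc := conj_smul_eq hg hD hg0 hn
  refine ⟨?_, not_conj_M11, g, hg, ?_, hc⟩
  · rw [← hc]
    exact ⟨(Subgroup.equivSMul (MulAut.conj g) Cfsg.Spor.M11).symm⟩
  · rw [compl_squareDodecad, squareDodecad_eq]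
    exact hD

end Cfsg.Agent.Lib.GolayAut12
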