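import Mathlib
import Cfsg.Prelude.Def_Sporadic_a
import Cfsg.Prelude.Def_SporadicCombinatorics
import Cfsg.Prelude.Def_KGroupFacts
import Cfsg.Prelude.Def_Spor_Mathieu
import Cfsg.Agent.Lib.GolayAut12c

/-!
# The outer automorphism group of `M11` is trivial
-/

set_option autoImplicit false
set_option linter.style.haveILetI false
set_option linter.constructorNameAsVariable false

open scoped Pointwise

namespace Cfsg.Agent.Lib.GolayAut12

open Cfsg Cfsg.Agent.Lib.GolayCode Cfsg.Agent.Lib.GolayFacts Cfsg.Agent.Lib.GolayPerm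
  Cfsg.Agent.Lib.GolayChain Cfsg.Agent.Lib.GolayTrans Cfsg.Agent.Lib.GolayDecomp
  Cfsg.Agent.Lib.GolayOrbit Cfsg.Agent.Lib.GolayKit Cfsg.Agent.Lib.GolayM12Data
  Cfsg.Agent.Lib.GolayM12 Cfsg.Agent.Lib.GolaySimple
  Cfsg.Agent.Lib.GolayOctad Cfsg.Agent.Lib.GolayFix Cfsg.Agent.Lib.GolayAut
  Cfsg.Agent.Lib.GolayAut22 Cfsg.Agent.Lib.GolayAut12Data

/-- An intertwiner on an invariant subset. -/
theorem exists_intertwiner_on {X : Type*} [Finite X] (G : Subgroup (Equiv.Perm X)) (Ω : Set X)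
    (hΩ : ∀ g ∈ G, ∀ x ∈ Ω, g x ∈ Ω)
    (c : ℕ) (hc : ∀ x ∈ Ω, Nat.card ↥(G ⊓ MulAction.stabilizer (Equiv.Perm X) x) = c)
    (hind : ∀ K : Subgroup (Equiv.Perm X), K ≤ G → Nat.card K = c → ∃ y ∈ Ω, ∀ k ∈ K, k y = y)
    (hsep : ∀ y ∈ Ω, ∀ z ∈ Ω, (∀ g ∈ G, g y = y → g z = z) → y = z)
    (α : G ≃* G) :
    ∃ π : Equiv.Perm X, (∀ x ∈ Ω, π x ∈ Ω) ∧ ∀ (g : G), ∀ x ∈ Ω,
      π ((g : Equiv.Perm X) x) = ((α g : G) : Equiv.Perm X) (π x) := by
  classical
  haveI : Finite (Equiv.Perm X) := inferInstance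
  let φ : G →* Equiv.Perm X := G.subtype.comp α.toMonoidHom
  have hφ : Function.Injective φ := by
    intro a b hab
    exact α.injective (Subtype.ext hab)
  let K : X → Subgroup (Equiv.Perm X) := fun x => (MulAction.stabilizer G x).map φ
  have hKle : ∀ x, K x ≤ G := by
    rintro x _ ⟨g, _, rfl⟩
    exact (α g).2
  have hKc : ∀ x ∈ Ω, Nat.card (K x) = c := by
    intro x hx
    rw [Subgroup.card_map_of_injective hφ, card_stab_subgroup, hc x hx]
  have hy : ∀ x : Ω, ∃ y ∈ Ω, ∀ k ∈ K x, k y = y := fun x => hind (K x) (hKle x) (hKc x x.2)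
  choose f hfΩ hf using hy
  have hspec : ∀ (x : Ω) (g : G), (g : Equiv.Perm X) x = x ↔ ((α g : G) : Equiv.Perm X) (f x) = f x := by
    intro x g
    constructor
    · intro h
      exact hf x _ ⟨g, h, rfl⟩
    · intro h
      have hle : K x ≤ G ⊓ MulAction.stabilizer (Equiv.Perm X) (f x) := by
        intro k hk
        refine ⟨hKle x hk, ?_⟩
        exact hf x k hk
      have heq := Subgroup.eq_of_le_of_card_ge hle (by rw [hKc x x.2, hc _ (hfΩ x)])
      have hmem : ((α g : G) : Equiv.Perm X) ∈ K x := by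
        rw [heq]
        exact ⟨(α g).2, h⟩
      obtain ⟨g', hg', hge⟩ := hmem
      have : g' = g := hφ hge
      subst this
      exact hg'
  have hinj : Function.Injective (fun x : Ω => (⟨f x, hfΩ x⟩ : Ω)) := by
    intro a b hab
    have hab' : f a = f b := congrArg Subtype.val hab
    apply Subtype.ext
    refine hsep a a.2 b b.2 ?_
    intro g hg hga
    have h1 := (hspec a ⟨g, hg⟩).mp hga
    rw [hab'] at h1
    exact (hspec b ⟨g, hg⟩).mpr h1
  haveI : Finite Ω := inferInstance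
  let e : Ω ≃ Ω := Equiv.ofBijective _ (Finite.injective_iff_bijective.mp hinj)
  have hinter : ∀ (g : G) (x : Ω), f ⟨g.1 x, hΩ g.1 g.2 x x.2⟩ = ((α g : G) : Equiv.Perm X) (f x) := by
    intro g x
    refine hsep _ (hfΩ _) _ (hΩ _ (α g).2 _ (hfΩ x)) ?_
    intro h hh hfix
    obtain ⟨k, hk⟩ := α.surjective ⟨h, hh⟩
    have hke : ((α k : G) : Equiv.Perm X) = h := by rw [hk]
    rw [← hke] at hfix ⊢
    have h1 := (hspec ⟨g.1 x, hΩ g.1 g.2 x x.2⟩ k).mpr hfix
    have h2 : ((g⁻¹ * k * g : G) : Equiv.Perm X) x = x := by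
      simp only [Subgroup.coe_mul, Subgroup.coe_inv, Equiv.Perm.mul_apply]
      rw [show (k : Equiv.Perm X) (g.1 x) = g.1 x from h1]
      simp
    have h3 := (hspec x _).mp h2
    simp only [map_mul, map_inv, Subgroup.coe_mul, Subgroup.coe_inv, Equiv.Perm.mul_apply] at h3
    have h4 := congrArg ((α g : G) : Equiv.Perm X) h3
    simpa using h4
  refine ⟨Equiv.Perm.ofSubtype e, ?_, ?_⟩
  · intro x hx
    rw [Equiv.Perm.ofSubtype_apply_of_mem e hx]
    exact (e ⟨x, hx⟩).2
  · intro g x hx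
    rw [Equiv.Perm.ofSubtype_apply_of_mem e hx, Equiv.Perm.ofSubtype_apply_of_mem e (hΩ g.1 g.2 x hx)]
    exact hinter g ⟨x, hx⟩

/-! ### The group and the eleven points -/

/-- The stabilizer. -/
abbrev HH : Subgroup (Equiv.Perm GolayPt) := GG ⊓ MulAction.stabilizer (Equiv.Perm GolayPt) (idxPt 0)

theorem mem_HH {g : Equiv.Perm GolayPt} : g ∈ HH ↔ g ∈ GG ∧ g (idxPt 0) = idxPt 0 :=
  Subgroup.mem_inf.trans (and_congr_right fun _ => MulAction.mem_stabilizer_iff)

/-- The eleven points. -/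
def Om11 : Finset GolayPt := (supFin dod0).erase (idxPt 0)

theorem mem_Om11 {p : GolayPt} : p ∈ Om11 ↔ p ≠ idxPt 0 ∧ p ∈ supFin dod0 := Finset.mem_erase

theorem card_Om11 : Om11.card = 11 := by
  rw [Om11, Finset.card_erase_of_mem idx0_mem, card_D]

theorem HH_apply_Om {g : Equiv.Perm GolayPt} (hg : g ∈ HH) {x : GolayPt} (hx : x ∈ Om11) : g x ∈ Om11 := by
  obtain ⟨h1, h2⟩ := mem_HH.mp hg
  obtain ⟨h3, h4⟩ := mem_Om11.mp hx
  refine mem_Om11.mpr ⟨fun he => h3 (g.injective (by rw [he, h2])), stabS_apply_mem h1 h4⟩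

theorem HH_inv {g : Equiv.Perm GolayPt} (hg : g ∈ HH) (x : GolayPt) : x ∈ Om11 ↔ g x ∈ Om11 := by
  refine ⟨HH_apply_Om hg, fun h => ?_⟩
  have := HH_apply_Om (inv_mem hg) h
  simpa using this

/-- A `k`-tuple version of transitivity. -/
theorem exists_tuple_HH (j : ℕ) (hj : j ≤ 4) (x y : ℕ → GolayPt)
    (hxS : ∀ a < j, x a ∈ Om11) (hyS : ∀ a < j, y a ∈ Om11)
    (hx : ∀ a < j, ∀ c < j, a ≠ c → x a ≠ x c) (hy : ∀ a < j, ∀ c < j, a ≠ c → y a ≠ y c) :
    ∃ g ∈ HH, ∀ i < j, g (x i) = y i := by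
  obtain ⟨g, hg, h⟩ := exists_tuple_dod0 (j + 1) (by omega)
    (fun n => if n = 0 then idxPt 0 else x (n - 1)) (fun n => if n = 0 then idxPt 0 else y (n - 1))
    (fun a ha => by
      by_cases h0 : a = 0
      · simp only [h0, if_true]
        exact idx0_mem
      · simp only [h0, if_false]
        exact (mem_Om11.mp (hxS _ (by omega))).2)
    (fun a ha => by
      by_cases h0 : a = 0
      · simp only [h0, if_true]
        exact idx0_mem
      · simp only [h0, if_false]
        exact (mem_Om11.mp (hyS _ (by omega))).2)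
    (fun a ha c hc hac => by
      by_cases h0 : a = 0
      · have hc0 : c ≠ 0 := by omega
        simp only [h0, hc0, if_true, if_false]
        exact fun he => (mem_Om11.mp (hxS _ (by omega))).1 he.symm
      · by_cases hc0 : c = 0
        · simp only [h0, hc0, if_true, if_false]
          exact fun he => (mem_Om11.mp (hxS _ (by omega))).1 he
        · simp only [h0, hc0, if_false]
          exact hx _ (by omega) _ (by omega) (by omega))
    (fun a ha c hc hac => by
      by_cases h0 : a = 0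
      · have hc0 : c ≠ 0 := by omega
        simp only [h0, hc0, if_true, if_false]
        exact fun he => (mem_Om11.mp (hyS _ (by omega))).1 he.symm
      · by_cases hc0 : c = 0
        · simp only [h0, hc0, if_true, if_false]
          exact fun he => (mem_Om11.mp (hyS _ (by omega))).1 he
        · simp only [h0, hc0, if_false]
          exact hy _ (by omega) _ (by omega) (by omega))
  refine ⟨g, mem_HH.mpr ⟨hg, by simpa using h 0 (by omega)⟩, fun i hi => ?_⟩
  simpa using h (i + 1) (by omega)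

/-- Five fixed points in the dodecad force the identity. -/
theorem eq_one_of_fix_five {g : Equiv.Perm GolayPt} (hg : g ∈ GG) {s : Finset GolayPt} (hs : s ⊆ supFin dod0)
    (hc : s.card = 5) (hf : ∀ p ∈ s, g p = p) : g = 1 := by
  classical
  let e : Fin 5 ≃ s := (Finset.equivFinOfCardEq hc).symm
  let x : ℕ → GolayPt := fun n => if h : n < 5 then (e ⟨n, h⟩ : GolayPt) else idxPt 0
  have hxs : ∀ a (ha : a < 5), x a = (e ⟨a, ha⟩ : GolayPt) := fun a ha => by simp [x, ha]
  obtain ⟨k, hk, hkx⟩ := exists_tuple_dod0 5 (by norm_num) x (fun i => idxPt (at0 m12Base i))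
    (fun a ha => by rw [hxs a ha]; exact hs (e _).2)
    (fun a ha => base_mem a ha)
    (fun a ha c hc hac he => by
      rw [hxs a ha, hxs c hc] at he
      have := e.injective (Subtype.ext he)
      exact hac (Fin.mk.inj_iff.mp this))
    (fun a ha c hc hac he => hac (base_inj a ha c hc (by
      have := congrArg ptIdx he
      rwa [ptIdx_idxPt (base_lt a ha), ptIdx_idxPt (base_lt c hc)] at this)))
  have h1 : k * g * k⁻¹ = 1 := by
    apply eq_one_of_fix_m12Base (mul_mem (mul_mem hk hg) (inv_mem hk))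
    intro i hi
    simp only [Equiv.Perm.mul_apply]
    rw [← hkx i hi]
    have h5 : k⁻¹ (k (x i)) = x i := by rw [Equiv.Perm.inv_eq_iff_eq]
    rw [h5, hxs i hi, hf _ (e _).2]
  have h2 : g = k⁻¹ * (k * g * k⁻¹) * k := by group
  rw [h2, h1]
  group

/-- Four fixed points among the eleven force the identity. -/
theorem eq_one_of_fix_four {g : Equiv.Perm GolayPt} (hg : g ∈ HH) {s : Finset GolayPt} (hs : s ⊆ Om11)
    (hc : 4 ≤ s.card) (hf : ∀ p ∈ s, g p = p) : g = 1 := by
  classical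
  obtain ⟨t, ht, htc⟩ := Finset.exists_subset_card_eq hc
  obtain ⟨h1, h2⟩ := mem_HH.mp hg
  have hn : idxPt 0 ∉ t := fun h => (mem_Om11.mp (hs (ht h))).1 rfl
  refine eq_one_of_fix_five h1 (s := insert (idxPt 0) t) ?_ ?_ ?_
  · intro p hp
    rcases Finset.mem_insert.mp hp with rfl | hp
    · exact idx0_mem
    · exact (mem_Om11.mp (hs (ht hp))).2
  · rw [Finset.card_insert_of_notMem hn, htc]
  · intro p hp
    rcases Finset.mem_insert.mp hp with rfl | hp
    · exact h2
    · exact hf p (ht hp)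

theorem card_HH : Nat.card HH = 7920 := card_stab_GG (idxPt 0)

theorem exists_map_Om11 {p q : GolayPt} (hp : p ∈ Om11) (hq : q ∈ Om11) : ∃ g ∈ HH, g p = q := by
  obtain ⟨g, hg, h⟩ := exists_tuple_HH 1 (by norm_num) (fun _ => p) (fun _ => q) (fun _ _ => hp) (fun _ _ => hq)
    (fun a ha c hc hac => by omega) (fun a ha c hc hac => by omega)
  exact ⟨g, hg, h 0 (by norm_num)⟩

theorem card_stab_HH {x : GolayPt} (hx : x ∈ Om11) :
    Nat.card ↥(HH ⊓ MulAction.stabilizer (Equiv.Perm GolayPt) x) = 720 := by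
  classical
  have h := card_eq_mul HH x Om11 (fun y hy => exists_map_Om11 hx hy) (fun g hg => HH_apply_Om hg hx)
  rw [card_HH, card_Om11] at h
  omega

theorem sep_HH {y z : GolayPt} (hy : y ∈ Om11) (hz : z ∈ Om11) (h : ∀ g ∈ HH, g y = y → g z = z) : y = z := by
  classical
  by_contra hne
  obtain ⟨w, hw, hw'⟩ : ∃ w ∈ Om11, w ∉ ({y, z} : Finset GolayPt) := by
    apply Finset.exists_mem_notMem_of_card_lt_card
    have := Finset.card_le_two (a := y) (b := z)
    rw [card_Om11]
    omega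
  simp only [Finset.mem_insert, Finset.mem_singleton, not_or] at hw'
  obtain ⟨g, hg, hgx⟩ := exists_tuple_HH 2 (by norm_num) (fun n => if n = 0 then y else z)
    (fun n => if n = 0 then y else w)
    (fun a ha => by interval_cases a <;> simp_all)
    (fun a ha => by interval_cases a <;> simp_all)
    (pair_ne hne) (pair_ne (Ne.symm hw'.1))
  have h1 := h g hg (by simpa using hgx 0 (by norm_num))
  have h2 : g z = w := by simpa using hgx 1 (by norm_num)
  exact hw'.2 (h2.symm.trans h1)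

/-- Subgroups of order `720` fix one of the eleven points. -/
theorem fixes_point_HH (K : Subgroup (Equiv.Perm GolayPt)) (hK : K ≤ HH) (hc : Nat.card K = 720) :
    ∃ y ∈ Om11, ∀ k ∈ K, k y = y := by
  classical
  haveI : Fact (Nat.Prime 5) := ⟨by norm_num⟩
  obtain ⟨x, hx, ho⟩ := cauchy K 5 (by rw [hc]; norm_num)
  have hxH := hK hx
  have h1 := fixF_modEq ho Om11 (HH_inv hxH)
  rw [card_Om11] at h1
  have hle : (Om11 ∩ fixF x).card ≤ 3 := by
    by_contra hcon
    refine ne_one_of_order ho (eq_one_of_fix_four hxH (s := Om11 ∩ fixF x) Finset.inter_subset_left (by omega) ?_)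
    intro p hp
    exact mem_fixF.mp (Finset.mem_inter.mp hp).2
  have hone : (Om11 ∩ fixF x).card = 1 := by
    unfold Nat.ModEq at h1
    omega
  obtain ⟨c, hcs⟩ := Finset.card_eq_one.mp hone
  have hcm : c ∈ Om11 ∩ fixF x := by rw [hcs]; simp
  have hcO := (Finset.mem_inter.mp hcm).1
  have hsub : orbitF K c ⊆ Om11 := by
    intro y hy
    obtain ⟨g, hg, rfl⟩ := mem_orbitF.mp hy
    exact HH_apply_Om (hK hg) hcO
  have h2 := orbitF_modEq hx ho c
  have hi : orbitF K c ∩ fixF x = {c} := by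
    ext p
    simp only [Finset.mem_inter, Finset.mem_singleton]
    constructor
    · rintro ⟨hp1, hp2⟩
      have : p ∈ Om11 ∩ fixF x := Finset.mem_inter.mpr ⟨hsub hp1, hp2⟩
      rw [hcs] at this
      simpa using this
    · rintro rfl
      exact ⟨self_mem_orbitF _ _, (Finset.mem_inter.mp hcm).2⟩
  rw [hi, Finset.card_singleton] at h2
  have hle2 : (orbitF K c).card ≤ 11 := by
    have := Finset.card_le_card hsub
    rwa [card_Om11] at this
  have hdvd : (orbitF K c).card ∣ 720 := by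
    rw [← hc, card_orbitF K c]
    exact dvd_mul_right _ _
  have hne11 : (orbitF K c).card ≠ 11 := by
    intro he
    rw [he] at hdvd
    omega
  have hne6 : (orbitF K c).card ≠ 6 := by
    intro he
    set C := Om11 \ orbitF K c with hC
    have hCc : C.card = 5 := by
      rw [hC, Finset.card_sdiff_of_subset hsub, card_Om11, he]
    have hinv : ∀ h ∈ K, ∀ y, y ∈ C ↔ h y ∈ C := by
      intro h hh y
      simp only [hC, Finset.mem_sdiff]
      rw [← HH_inv (hK hh), ← orbitF_inv hh]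
    let φ : K → Equiv.Perm {y // y ∈ C} :=
      fun h => (h : Equiv.Perm GolayPt).subtypePerm (fun y => (hinv h.1 h.2 y).symm)
    have hφ : Function.Injective φ := by
      intro a b hab
      have hone : (b.1⁻¹ * a.1 : Equiv.Perm GolayPt) = 1 := by
        refine eq_one_of_fix_four (mul_mem (inv_mem (hK b.2)) (hK a.2)) (s := C) Finset.sdiff_subset (by omega) ?_
        intro p hp
        rw [Equiv.Perm.mul_apply, Equiv.Perm.inv_eq_iff_eq]
        have := congrArg (fun f : Equiv.Perm {y // y ∈ C} => (f ⟨p, hp⟩ : GolayPt)) hab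
        simpa [φ] using this
      apply Subtype.ext
      exact (inv_mul_eq_one.mp hone).symm
    have h5 := Nat.card_le_card_of_injective φ hφ
    rw [hc, Nat.card_eq_fintype_card, Fintype.card_perm, Fintype.card_coe, hCc] at h5
    revert h5
    decide
  have hone' : (orbitF K c).card = 1 := by
    unfold Nat.ModEq at h2
    omega
  refine ⟨c, hcO, fun h hh => ?_⟩
  obtain ⟨a, ha⟩ := Finset.card_eq_one.mp hone'
  have h5 : c ∈ orbitF K c := self_mem_orbitF _ _
  have h6 : h c ∈ orbitF K c := (orbitF_inv hh _ _).mp h5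
  rw [ha, Finset.mem_singleton] at h5 h6
  rw [h6, h5]

/-! ### Rigidity -/

/-- All the points of the quadruples are `0` or in the block. -/
theorem quad10 : ∀ i < 10, ∀ p ∈ quad i, p = 0 ∨ p ∈ [1, 2, 3, 4, 12] := by decide +kernel

/-- The check of the separating pairs, for the first ten. -/
def sepChk10 (y y' : ℕ) : Bool :=
  pairsL.any fun e => e.1 == y && e.2.1 == y' && decide (e.2.2.1 < 10) && decide (e.2.2.2 < 10) &&
    img (zetaAt e.2.2.1) y == img (zetaAt e.2.2.2) y && img (zetaAt e.2.2.1) y' != img (zetaAt e.2.2.2) y'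

theorem sep_chk10 : ∀ y ∈ restL, ∀ y' ∈ restL, y ≠ y' → sepChk10 y y' = true := by decide +kernel

/-- Block or rest. -/
theorem block_rest : ∀ y < 24, y ≠ 0 → dod0.testBit y = true → y ∈ [1, 2, 3, 4, 12] ∨ y ∈ restL := by decide +kernel

theorem idx_mem_Om {y : ℕ} (hy : y < 24) (h0 : y ≠ 0) (h : dod0.testBit y = true) : idxPt y ∈ Om11 := by
  refine mem_Om11.mpr ⟨fun he => h0 ?_, ?_⟩
  · have := congrArg ptIdx he
    rwa [ptIdx_idxPt hy, ptIdx_idxPt (by norm_num)] at this
  · rw [mem_supFin, ptIdx_idxPt hy]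
    exact h

theorem rigid11 {σ : Equiv.Perm GolayPt} (α : MulAut HH) (hσ : ∀ x ∈ Om11, σ x ∈ Om11)
    (hint : ∀ (g : HH), ∀ x ∈ Om11, σ ((g : Equiv.Perm GolayPt) x) = ((α g : HH) : Equiv.Perm GolayPt) (σ x))
    (hb : ∀ i, 1 ≤ i → i < 5 → σ (idxPt i) = idxPt i) : ∀ x ∈ Om11, σ x = x := by
  classical
  -- the main commutation lemma
  have key : ∀ (ζ : Equiv.Perm GolayPt) (hζ : ζ ∈ HH) (A : ℕ → ℕ), (∀ i < 4, A i < 24) →
      (∀ i < 4, dod0.testBit (A i) = true) → (∀ a < 4, ∀ c < 4, a ≠ c → A a ≠ A c) →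
      (∀ i < 4, A i = 0 ∨ (A i ≠ 0 ∧ σ (idxPt (A i)) = idxPt (A i))) →
      (∀ i < 4, ζ (idxPt (A i)) = idxPt (A i)) → ζ * ζ = 1 → ζ ≠ 1 →
      ((α ⟨ζ, hζ⟩ : HH) : Equiv.Perm GolayPt) = ζ := by
    intro ζ hζ A hA hAD hinj hAσ hfix h2 h1
    set ξ : HH := α ⟨ζ, hζ⟩ with hξ
    have hξ2 : ξ.1 * ξ.1 = 1 := by
      have h3 : (⟨ζ, hζ⟩ : HH) * ⟨ζ, hζ⟩ = 1 := Subtype.ext h2
      have h4 : ξ * ξ = 1 := by
        rw [hξ, ← map_mul, h3, map_one]
      exact congrArg Subtype.val h4
    have hξ1 : ξ.1 ≠ 1 := by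
      intro he
      apply h1
      have h3 : ξ = 1 := Subtype.ext he
      have h4 : (⟨ζ, hζ⟩ : HH) = 1 := by
        apply α.injective
        rw [← hξ, h3, map_one]
      exact congrArg Subtype.val h4
    refine invol_unique (A := fun i => idxPt (A i)) (fun i hi => ?_) (fun a ha c hc hac he => ?_)
      (mem_HH.mp ξ.2).1 (mem_HH.mp hζ).1 (fun i hi => ?_) hfix hξ2 h2 hξ1 h1
    · rw [mem_supFin, ptIdx_idxPt (hA i hi)]
      exact hAD i hi
    · have := congrArg ptIdx he
      rw [ptIdx_idxPt (hA a ha), ptIdx_idxPt (hA c hc)] at this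
      exact hinj a ha c hc hac this
    · rcases hAσ i hi with h0 | ⟨h00, h0⟩
      · have h3 := (mem_HH.mp ξ.2).2
        simp only [h0]
        exact h3
      · have hmem : idxPt (A i) ∈ Om11 := idx_mem_Om (hA i hi) h00 (hAD i hi)
        have h3 := hint ⟨ζ, hζ⟩ _ hmem
        simp only [hfix i hi, h0] at h3
        exact h3.symm
  -- `z0`
  have hz0H : toPerm z0L ∈ HH := mem_HH.mpr ⟨toPerm_mem_stabS z0_aut z0_m12,
    toPerm_idxPt (isAut_valid z0_aut) (by norm_num)⟩
  have hz0 : ((α ⟨toPerm z0L, hz0H⟩ : HH) : Equiv.Perm GolayPt) = toPerm z0L := by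
    refine key _ hz0H (fun i => i) (fun i hi => by omega) ?_ ?_ ?_ ?_ ?_ ?_
    · decide +kernel
    · intro a _ c _ hac
      exact hac
    · intro i hi
      by_cases h0 : i = 0
      · exact Or.inl h0
      · exact Or.inr ⟨h0, hb i (by omega) (by omega)⟩
    · intro i hi
      rw [toPerm_idxPt (isAut_valid z0_aut) (by omega)]
      interval_cases i <;> rfl
    · ext1 p
      have hp := ptIdx_lt p
      have hv := isAut_valid z0_aut
      have hr := isAut_inRange z0_aut
      apply ptIdx_injective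
      rw [Equiv.Perm.mul_apply, ptIdx_toPerm hv hr, ptIdx_toPerm hv hr]
      have : ∀ x < 24, img z0L (img z0L x) = x := by decide +kernel
      rw [this _ hp]
      rfl
    · intro he
      have h5 := congrArg (fun f : Equiv.Perm GolayPt => ptIdx (f (idxPt 4))) he
      simp only [Equiv.Perm.coe_one, id] at h5
      rw [ptIdx_toPerm (isAut_valid z0_aut) (isAut_inRange z0_aut), ptIdx_idxPt (by norm_num)] at h5
      revert h5
      decide +kernel
  have h12 : σ (idxPt 12) = idxPt 12 := by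
    have h1 : toPerm z0L (idxPt 4) = idxPt 12 := toPerm_idxPt (isAut_valid z0_aut) (by norm_num)
    have h2 := hint ⟨toPerm z0L, hz0H⟩ (idxPt 4) (idx_mem_Om (by norm_num) (by norm_num) (by decide +kernel))
    rw [hz0, hb 4 (by norm_num) (by norm_num)] at h2
    simp only [h1] at h2
    exact h2
  have hblock : ∀ y ∈ [1, 2, 3, 4, 12], σ (idxPt y) = idxPt y := by
    intro y hy
    simp only [List.mem_cons, List.not_mem_nil, or_false] at hy
    rcases hy with rfl | rfl | rfl | rfl | rfl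
    · exact hb 1 (by norm_num) (by norm_num)
    · exact hb 2 (by norm_num) (by norm_num)
    · exact hb 3 (by norm_num) (by norm_num)
    · exact hb 4 (by norm_num) (by norm_num)
    · exact h12
  have hz0i : ∀ i < 10, img (zetaAt i) 0 = 0 := by decide +kernel
  -- commutation with the ten involutions
  have hcomm : ∀ i < 10, ∀ x ∈ Om11, σ (toPerm (zetaAt i) x) = toPerm (zetaAt i) (σ x) := by
    intro i hi x hx
    obtain ⟨h1, h2, h3⟩ := zeta_mem (i := i) (by omega)
    have h := zeta_chk i (by omega)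
    simp only [zetaChk, Bool.and_eq_true, List.all_eq_true, decide_eq_true_eq, List.contains_iff_mem,
      beq_iff_eq] at h
    obtain ⟨⟨⟨⟨⟨h4, -⟩, -⟩, -⟩, h5⟩, h6⟩ := h
    have hH : toPerm (zetaAt i) ∈ HH := mem_HH.mpr ⟨h1, by
      rw [toPerm_idxPt (isAut_valid h4) (by norm_num), hz0i i hi]⟩
    have hlen : (quad i).length = 4 := rfl
    have h7 : ∀ a < 4, (quad i).getD a 0 ∈ quad i := by
      intro a ha
      rw [List.getD_eq_getElem _ _ (by omega)]
      exact List.getElem_mem _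
    have hmain := key _ hH (fun a => (quad i).getD a 0)
      (fun a ha => (h5 _ (h7 a ha)).1.2)
      (fun a ha => (h5 _ (h7 a ha)).2)
      (fun a ha c hc hac he => by
        rw [List.getD_eq_getElem _ _ (by omega), List.getD_eq_getElem _ _ (by omega)] at he
        exact hac ((List.Nodup.getElem_inj_iff h6).mp he))
      (fun a ha => by
        by_cases h0 : (quad i).getD a 0 = 0
        · exact Or.inl h0
        · refine Or.inr ⟨h0, hblock _ ?_⟩
          rcases quad10 i hi _ (h7 a ha) with h8 | h8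
          · exact absurd h8 h0
          · exact h8)
      (fun a ha => by
        have h8 := h5 _ (h7 a ha)
        rw [toPerm_idxPt (isAut_valid h4) h8.1.2, h8.1.1.2])
      h2 h3
    have h8 := hint ⟨_, hH⟩ x hx
    rw [hmain] at h8
    exact h8
  -- the rest
  have hrest : ∀ y ∈ restL, σ (idxPt y) = idxPt y := by
    intro y hy
    have hy24 := rest_lt y hy
    have hy0 : y ≠ 0 := by
      revert y
      decide +kernel
    have hyb : dod0.testBit y = true := by
      revert y
      decide +kernel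
    have hyO := idx_mem_Om hy24 hy0 hyb
    have hq := hσ _ hyO
    set q := σ (idxPt y) with hqdef
    have hq' : q = idxPt (ptIdx q) := (idxPt_ptIdx q).symm
    have hq0 : ptIdx q ≠ 0 := by
      intro he
      apply (mem_Om11.mp hq).1
      rw [hq', he]
    have hq2 : dod0.testBit (ptIdx q) = true := mem_supFin.mp (mem_Om11.mp hq).2
    rcases block_rest (ptIdx q) (ptIdx_lt q) hq0 hq2 with h1 | h1
    · exfalso
      have h2 := hblock _ h1
      rw [← hq', hqdef] at h2
      have h3 := σ.injective h2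
      have h4 := congrArg ptIdx h3
      rw [← hqdef, ptIdx_idxPt hy24] at h4
      rw [h4] at h1
      have hnb : ∀ y ∈ restL, y ∉ [1, 2, 3, 4, 12] := by decide
      exact hnb y hy h1
    · by_contra hne
      have hyy' : y ≠ ptIdx q := by
        intro he
        apply hne
        rw [hq', ← he]
      have hs := sep_chk10 y hy _ h1 hyy'
      simp only [sepChk10, List.any_eq_true, Bool.and_eq_true, beq_iff_eq, decide_eq_true_eq, bne_iff_ne] at hs
      obtain ⟨e, -, ⟨⟨⟨⟨⟨-, -⟩, hi⟩, hj⟩, h3⟩, h4⟩⟩ := hs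
      have hzi := (zeta_chk _ (show e.2.2.1 < 15 by omega))
      have hzj := (zeta_chk _ (show e.2.2.2 < 15 by omega))
      simp only [zetaChk, Bool.and_eq_true] at hzi hzj
      have hvi := isAut_valid hzi.1.1.1.1.1
      have hvj := isAut_valid hzj.1.1.1.1.1
      apply h4
      have h5 : toPerm (zetaAt e.2.2.1) (idxPt y) = toPerm (zetaAt e.2.2.2) (idxPt y) := by
        rw [toPerm_idxPt hvi hy24, toPerm_idxPt hvj hy24, h3]
      have h6 := congrArg σ h5
      rw [hcomm _ hi _ hyO, hcomm _ hj _ hyO, ← hqdef, hq', toPerm_idxPt hvi (ptIdx_lt q), toPerm_idxPt hvj (ptIdx_lt q)] at h6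
      have h7 := congrArg ptIdx h6
      rw [ptIdx_idxPt (by
        have := ptIdx_toPerm hvi (isAut_inRange hzi.1.1.1.1.1) (idxPt (ptIdx q))
        rw [ptIdx_idxPt (ptIdx_lt q)] at this
        rw [← this]
        exact ptIdx_lt _), ptIdx_idxPt (by
        have := ptIdx_toPerm hvj (isAut_inRange hzj.1.1.1.1.1) (idxPt (ptIdx q))
        rw [ptIdx_idxPt (ptIdx_lt q)] at this
        rw [← this]
        exact ptIdx_lt _)] at h7
      exact h7
  intro x hx
  obtain ⟨h1, h2⟩ := mem_Om11.mp hx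
  have hx0 : ptIdx x ≠ 0 := by
    intro he
    apply h1
    rw [← idxPt_ptIdx x, he]
  rw [← idxPt_ptIdx x]
  rcases block_rest (ptIdx x) (ptIdx_lt x) hx0 (mem_supFin.mp h2) with h3 | h3
  · exact hblock _ h3
  · exact hrest _ h3

/-! ### Conclusion -/

theorem out_HH : Nat.card (Cfsg.Out ↥HH) = 1 := by
  classical
  refine card_out_eq_one ?_
  intro α
  obtain ⟨π, hπΩ, hπ⟩ := exists_intertwiner_on HH (Om11 : Set GolayPt) (fun g hg x hx => HH_apply_Om hg hx) 720
    (fun x hx => card_stab_HH hx)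
    (fun K hK hc => by
      obtain ⟨y, hy1, hy2⟩ := fixes_point_HH K hK hc
      exact ⟨y, hy1, hy2⟩)
    (fun y hy z hz h => sep_HH hy hz h) α
  have hidx : ∀ i < 4, idxPt (i + 1) ∈ Om11 := by
    intro i hi
    refine idx_mem_Om (by omega) (by omega) ?_
    revert i
    decide +kernel
  have hidxinj : ∀ a < 4, ∀ c < 4, a ≠ c → idxPt (a + 1) ≠ idxPt (c + 1) := by
    intro a ha c hc hac he
    have := congrArg ptIdx he
    rw [ptIdx_idxPt (by omega), ptIdx_idxPt (by omega)] at this
    omega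
  obtain ⟨g0, hg0, hg0x⟩ := exists_tuple_HH 4 le_rfl (fun i => π (idxPt (i + 1))) (fun i => idxPt (i + 1))
    (fun a ha => hπΩ _ (hidx a ha)) (fun a ha => hidx a ha)
    (fun a ha c hc hac he => hidxinj a ha c hc hac (π.injective he))
    hidxinj
  let a0 : HH := ⟨g0, hg0⟩
  let α' : MulAut HH := MulAut.conj a0 * α
  have hα' : ∀ g : HH, ((α' g : HH) : Equiv.Perm GolayPt) = g0 * (α g).1 * g0⁻¹ := fun g => rfl
  have hfix := rigid11 (σ := g0 * π) α'
    (fun x hx => by
      rw [Equiv.Perm.mul_apply]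
      exact HH_apply_Om hg0 (hπΩ x hx))
    (fun g x hx => by
      rw [hα']
      simp only [Equiv.Perm.mul_apply]
      rw [hπ g x hx]
      have h1 : g0⁻¹ (g0 (π x)) = π x := by rw [Equiv.Perm.inv_eq_iff_eq]
      rw [h1])
    (fun i h1 h2 => by
      have := hg0x (i - 1) (by omega)
      simp only [Nat.sub_add_cancel h1] at this
      rw [Equiv.Perm.mul_apply]
      exact this)
  refine ⟨a0⁻¹, fun g => ?_⟩
  have hg1 : ∀ x ∈ Om11, g.1 x = (α' g).1 x := by
    intro x hx
    have h1 := hfix x hx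
    have h2 := hfix _ (HH_apply_Om g.2 hx)
    rw [Equiv.Perm.mul_apply] at h1 h2
    have h3 := hπ g x hx
    have h4 := congrArg g0 h3
    rw [h2] at h4
    rw [hα', h4]
    simp only [Equiv.Perm.mul_apply]
    have h5 : g0⁻¹ x = π x := by
      rw [Equiv.Perm.inv_eq_iff_eq, h1]
    rw [h5]
  have hone : g.1⁻¹ * (α' g).1 = 1 := by
    refine eq_one_of_fix_four (mul_mem (inv_mem g.2) (α' g).2) (s := Om11) (Finset.Subset.refl _) (by rw [card_Om11]; norm_num) ?_
    intro p hp
    rw [Equiv.Perm.mul_apply, Equiv.Perm.inv_eq_iff_eq]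
    exact (hg1 p hp).symm
  have h6 : (α' g).1 = g.1 := by
    have : (α' g).1 = g.1 * (g.1⁻¹ * (α' g).1) := by group
    rw [this, hone, mul_one]
  apply Subtype.ext
  have h7 : g0 * (α g).1 * g0⁻¹ = g.1 := by rw [← hα']; exact h6
  simp only [Subgroup.coe_mul, Subgroup.coe_inv, inv_inv]
  show (α g).1 = g0⁻¹ * g.1 * g0
  rw [← h7]
  group

theorem out_M11 : Nat.card (Cfsg.Out ↥Cfsg.Spor.M11) = 1 := by
  rw [M11_eq]
  exact out_HH

end Cfsg.Agent.Lib.GolayAut12
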