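import Cfsg.Agent.Lib.GolayFast

/-! Data: orbits of the octad and dodecad stabilizers on octads and dodecads (generated by a script). -/

set_option autoImplicit false
set_option maxRecDepth 100000

namespace Cfsg.Agent.Lib.GolayOrbData

/-- Generators of the stabilizer of `octad0`. -/
def octGens : List (List ℕ) :=
  [[0,14,2,23,7,3,22,10,18,20,16,21,8,12,1,13,6,5,19,9,15,4,11,17],
   [2,23,1,17,10,3,6,8,12,11,19,20,4,18,14,15,7,0,21,16,22,9,13,5]]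

/-- Orbit certificate. -/
def octRoot8 : ℕ := 8536111

/-- Orbit certificate. -/
def octCert8 : List (ℕ × ℕ) :=
  []

/-- Orbit certificate. -/
def octRoot4 : ℕ := 5279

/-- Orbit certificate. -/
def octCert4 : List (ℕ × ℕ) :=
  [(0,0),(1,1),(0,1),(1,2),(0,2),(1,3),(0,3),(1,4),(0,4),(1,5),(0,5),(1,6),(0,6),(1,7),(0,7),(1,8),(0,8),(1,9),(0,9),(1,10),(0,10),(1,11),(0,11),(1,12),(0,12),(1,13),(0,13),(1,14),(0,14),(1,15),(0,15),(1,16),(0,16),(0,16),(1,17),(0,17),(1,18),(0,18),(1,19),(0,19),(1,20),(0,20),(1,21),(1,21),(1,21),(0,21),(1,22),(0,22),(1,23),(0,23),(1,24),(0,24),(1,25),(0,25),(1,26),(0,26),(1,27),(0,27),(1,28),(0,28),(1,29),(0,29),(0,29),(1,30),(0,30),(1,31),(0,31),(0,31),(1,32),(0,32),(1,33),(1,33),(0,33),(1,34),(0,34),(1,35),(0,35),(1,36),(0,36),(1,37),(0,37),(1,38),(0,38),(1,39),(0,39),(1,40),(0,40),(1,41),(0,41),(1,42),(0,42),(0,42),(0,42),(1,43),(1,43),(0,43),(1,44),(0,44),(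1,45),(0,45),(1,46),(0,46),(0,46),(1,47),(0,47),(1,48),(1,48),(0,48),(1,49),(0,49),(1,50),(0,50),(1,51),(0,51),(1,52),(0,52),(1,53),(0,53),(0,53),(0,53),(1,54),(1,54),(0,54),(1,55),(1,55),(0,55),(1,56),(0,56),(1,56),(1,56),(0,56),(1,57),(0,57),(0,57),(1,58),(0,58),(1,59),(0,59),(1,60),(0,60),(1,61),(0,61),(0,61),(1,62),(1,61),(1,60),(0,60),(0,60),(1,61),(0,60),(1,61),(0,61),(1,62),(0,62),(1,63),(1,63),(1,63),(0,63),(1,64),(0,64),(0,64),(1,65),(0,65),(1,65),(0,65),(1,66),(1,66),(1,65),(1,64),(0,64),(1,64),(0,64),(0,64),(1,65),(1,62),(1,62),(0,62),(0,61),(0,61),(1,62),(0,62),(1,62),(0,62),(1,63),(1,63),(0,62),(1,63),(0,63),(0,63),(1,63),(0,63),(0,63),(1,64),(0,64),(1,65),(0,65),(0,65),(1,66),(0,66),(0,66),(0,66),(1,67),(0,67),(0,67),(0,67),(0,67),(1,68),(0,68),(1,69),(0,68),(1,69),(1,69),(0,69),(1,70),(1,70),(0,70),(1,70),(1,70),(0,70),(1,71),(0,71),(1,71),(0,70),(1,69),(0,69),(1,70),(1,70),(1,70),(0,70),(1,71),(1,71),(0,71),(1,72),(0,71),(0,71),(1,72),(0,72),(0,72),(1,73),(1,73),(0,73),(1,74),(0,74),(0,74),(1,73),(0,72),(1,73),(0,73),(0,72),(0,70),(1,71),(0,71),(0,66),(0,64),(0,64),(1,65),(0,64),(1,64),(0,64),(1,63),(0,62),(1,63),(0,60),(1,59),(1,59),(0,50),(0,49),(1,46),(0,46),(0,45),(1,44),(1,44),(0,42),(1,41),(0,41),(0,40),(1,29),(1,22),(1,3)]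

/-- Orbit certificate. -/
def octRoot2 : ℕ := 15777

/-- Orbit certificate. -/
def octCert2 : List (ℕ × ℕ) :=
  [(0,0),(1,1),(0,1),(1,2),(0,2),(1,3),(0,3),(1,4),(0,4),(1,5),(0,5),(1,6),(0,6),(1,7),(0,7),(1,8),(0,8),(1,9),(0,9),(1,10),(0,10),(1,11),(0,11),(1,12),(0,12),(1,13),(0,13),(1,14),(0,14),(1,15),(0,15),(1,16),(0,16),(1,17),(0,17),(1,18),(0,18),(1,19),(0,19),(1,20),(0,20),(1,21),(0,21),(1,22),(0,22),(1,23),(0,23),(1,24),(0,24),(1,25),(0,25),(1,26),(0,26),(1,27),(0,27),(1,28),(0,28),(1,29),(0,29),(1,30),(0,30),(1,31),(0,31),(1,32),(0,32),(1,33),(1,33),(0,33),(1,34),(0,34),(1,35),(0,35),(0,35),(1,36),(0,36),(1,37),(0,37),(1,38),(0,38),(1,39),(0,39),(1,40),(0,40),(1,41),(0,41),(0,41),(1,42),(0,42),(1,43),(0,43),(1,44),(0,44),(1,45),(0,45),(0,45),(1,46),(0,46),(1,47),(0,47),(1,48),(0,47),(1,48),(0,48),(1,49),(0,49),(1,50),(0,50),(1,51),(0,51),(1,52),(1,52),(0,52),(1,53),(0,53),(1,54)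,(0,54),(0,54),(1,55),(0,55),(1,56),(0,56),(1,57),(0,57),(1,58),(0,58),(1,59),(0,59),(1,60),(0,60),(1,61),(0,61),(1,62),(0,62),(1,63),(0,63),(1,64),(0,64),(1,65),(0,65),(1,66),(0,66),(1,67),(0,67),(1,68),(0,68),(0,68),(1,69),(0,69),(1,70),(1,70),(0,70),(1,71),(0,71),(1,72),(0,72),(1,73),(0,73),(1,74),(0,74),(1,75),(0,75),(1,76),(0,76),(1,77),(0,77),(1,78),(0,77),(1,78),(1,78),(1,78),(0,78),(1,79),(1,78),(0,78),(1,79),(0,79),(1,80),(0,80),(1,80),(0,80),(1,81),(0,81),(1,82),(0,82),(1,83),(0,83),(1,84),(0,84),(1,85),(1,85),(0,85),(1,86),(0,86),(1,87),(0,87),(1,88),(0,88),(1,89),(0,89),(0,89),(1,90),(0,90),(1,91),(0,91),(1,92),(1,92),(0,92),(1,93),(0,93),(1,93),(0,92),(1,92),(1,92),(1,92),(0,92),(1,92),(0,92),(1,93),(0,93),(1,94),(0,94),(1,95),(0,95),(1,96),(0,96),(1,97),(0,97),(1,98),(1,98),(0,98),(0,98),(1,98),(0,98),(0,98),(1,99),(0,99),(1,100),(0,100),(1,101),(0,101),(1,102),(0,102),(0,1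02),(0,102),(1,103),(0,103),(0,103),(1,104),(0,104),(1,105),(0,105),(0,105),(0,105),(1,106),(0,106),(0,106),(0,106),(1,104),(0,104),(1,105),(1,105),(1,105),(0,105),(1,106),(1,105),(0,105),(1,106),(0,106),(0,106),(1,106),(0,106),(1,107),(0,107),(1,108),(0,107),(1,108),(1,108),(1,105),(1,105),(0,105),(0,105),(1,106),(0,106),(1,107),(0,107),(1,108),(0,108),(1,109),(0,109),(0,108),(0,108),(1,109),(0,109),(1,110),(0,108),(0,108),(1,109),(1,109),(0,109),(1,110),(0,108),(1,108),(1,108),(0,107),(0,107),(0,107),(1,108),(1,108),(0,108),(0,108),(1,109),(0,109),(0,109),(1,110),(0,109),(0,109),(1,110),(0,110),(0,110),(0,110),(1,111),(0,110),(0,110),(1,110),(0,110),(1,111),(0,111),(1,111),(0,111),(1,112),(1,112),(1,112),(1,112),(0,112),(0,111),(0,111),(1,112),(0,111),(1,112),(0,112),(1,113),(1,113),(1,113),(0,113),(0,113),(0,113),(0,111),(1,112),(0,112),(1,113),(0,113),(1,114),(0,114),(1,114),(1,114),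(0,113),(1,113),(0,112),(1,112),(1,112),(0,111),(0,111),(0,111),(1,111),(1,111),(1,110),(0,110),(1,111),(0,111),(1,112),(0,112),(1,113),(0,113),(1,114),(0,114),(1,114),(1,114),(1,113),(1,110),(0,109),(0,108),(0,108),(0,108),(0,108),(1,108),(1,108),(0,105),(0,105),(1,106),(0,106),(0,103),(1,102),(0,101),(1,101),(0,100),(0,100),(0,100),(1,101),(1,101),(0,100),(0,100),(1,101),(1,101),(0,101),(1,101),(0,100),(0,100),(1,101),(0,101),(0,100),(1,96),(0,96),(1,97),(0,96),(0,95),(1,92),(1,90),(0,86),(0,86),(0,84),(1,83),(1,82),(0,80),(0,79),(1,79),(1,78),(0,77),(1,77),(0,74),(1,74),(0,74),(1,75),(0,74),(1,72),(0,72),(0,68),(1,69),(0,69),(0,64),(0,57),(0,52),(0,51),(0,48),(0,48),(0,39),(1,32),(0,24)]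

/-- Orbit certificate. -/
def octRoot0 : ℕ := 337856

/-- Orbit certificate. -/
def octCert0 : List (ℕ × ℕ) :=
  [(0,0),(1,1),(0,1),(1,2),(0,2),(1,3),(0,3),(1,4),(0,4),(0,4),(1,5),(0,5),(0,5),(0,5),(0,5),(1,6),(0,6),(0,5),(0,5),(1,6),(0,6),(1,7),(0,7),(1,8),(0,8),(1,7),(0,7),(1,8),(0,1)]

/-- Orbit certificate. -/
def dodRoot12 : ℕ := 340831

/-- Orbit certificate. -/
def dodCert12 : List (ℕ × ℕ) :=
  []

/-- Orbit certificate. -/
def dodRoot8 : ℕ := 28637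

/-- Orbit certificate. -/
def dodCert8 : List (ℕ × ℕ) :=
  [(0,0),(1,1),(0,1),(1,2),(0,2),(1,3),(0,3),(1,4),(0,4),(1,5),(0,5),(1,6),(0,6),(1,7),(0,7),(1,8),(0,8),(1,9),(0,9),(1,10),(0,10),(1,11),(0,11),(1,12),(0,12),(1,13),(0,13),(1,14),(0,14),(0,14),(1,15),(0,15),(1,16),(0,16),(1,17),(0,17),(1,18),(0,18),(1,19),(0,19),(1,20),(0,20),(1,21),(0,21),(1,22),(0,22),(1,23),(0,23),(1,24),(0,24),(1,25),(0,25),(1,26),(1,26),(0,26),(1,27),(1,27),(0,27),(1,28),(0,28),(0,28),(1,29),(0,29),(1,30),(0,30),(1,31),(0,31),(1,32),(0,32),(1,33),(0,33),(1,34),(0,34),(1,35),(0,35),(0,35),(1,36),(0,36),(1,37),(0,37),(1,38),(0,38),(1,39),(0,39),(0,39),(1,40),(0,40),(1,40),(0,40),(1,41),(0,41),(1,42),(0,42),(1,42),(0,42),(1,43),(0,43),(1,44),(1,44),(0,44),(1,45),(0,45),(1,46),(1,46),(1,46),(0,46),(1,47),(0,47),(0,47),(1,48),(0,48),(1,49),(0,49),(1,50),(0,50),(0,50),(1,51),(0,51),(1,52),(0,52),(1,53),(0,53),(1,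54),(0,54),(1,55),(0,55),(0,55),(1,56),(1,56),(0,56),(1,57),(0,57),(1,58),(0,58),(1,59),(0,59),(1,60),(1,60),(0,60),(1,61),(0,61),(1,62),(0,62),(1,62),(0,62),(1,63),(0,63),(1,64),(0,64),(0,64),(1,65),(0,64),(1,65),(1,65),(0,65),(1,65),(0,65),(1,66),(0,66),(1,67),(0,67),(0,67),(0,67),(1,68),(0,68),(1,69),(0,69),(1,70),(0,70),(0,70),(1,71),(0,71),(1,72),(0,72),(1,73),(1,73),(0,73),(1,74),(0,74),(1,75),(0,75),(0,75),(1,75),(0,75),(1,76),(0,76),(1,77),(0,76),(1,77),(0,77),(1,78),(0,78),(1,79),(0,79),(1,79),(0,79),(1,79),(0,79),(1,80),(0,80),(1,81),(0,81),(1,82),(0,82),(1,83),(0,83),(1,84),(0,84),(1,85),(0,85),(1,86),(0,86),(1,87),(0,86),(1,87),(0,85),(1,86),(0,86),(1,87),(0,87),(1,88),(0,88),(1,89),(0,89),(1,90),(0,90),(0,90),(1,90),(0,90),(0,90),(1,91),(0,91),(0,91),(1,92),(0,91),(1,92),(0,92),(0,92),(1,93),(0,93),(1,93),(1,93),(0,93),(0,92),(1,93),(1,93),(1,93),(0,93),(1,94),(0,94),(0,94),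(1,95),(0,95),(1,96),(0,96),(0,96),(1,97),(0,97),(0,97),(0,97),(0,97),(1,98),(0,98),(1,99),(0,99),(1,99),(0,99),(1,100),(0,100),(0,100),(0,100),(1,98),(0,98),(1,99),(0,99),(1,100),(0,100),(1,100),(0,99),(1,100),(0,99),(1,100),(0,100),(0,99),(1,100),(0,100),(1,101),(0,101),(1,101),(0,101),(1,101),(0,101),(1,102),(1,100),(0,100),(1,101),(0,100),(1,99),(0,99),(1,100),(0,100),(1,101),(0,101),(1,102),(1,102),(0,102),(0,101),(1,102),(1,102),(0,102),(1,103),(0,103),(1,104),(0,103),(0,103),(1,104),(0,104),(1,105),(0,104),(0,104),(0,104),(0,104),(1,105),(1,105),(0,105),(1,105),(1,104),(0,104),(0,104),(1,105),(0,105),(1,106),(1,106),(0,106),(1,106),(0,105),(1,105),(1,105),(0,105),(1,106),(0,103),(1,103),(0,103),(1,104),(1,104),(1,104),(1,103),(0,103),(1,101),(0,101),(1,102),(0,102),(0,102),(1,102),(0,102),(1,102),(0,102),(1,103),(1,103),(0,103),(1,104),(1,104),(0,104),(0,104),(1,105),(0,104),(1,10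5),(0,105),(1,106),(0,106),(1,107),(0,107),(0,107),(1,108),(0,107),(1,107),(1,107),(0,106),(1,107),(0,107),(0,107),(0,107),(1,106),(0,106),(0,105),(1,106),(0,106),(0,105),(1,106),(1,106),(0,106),(1,106),(0,106),(1,104),(0,104),(0,103),(1,104),(0,104),(0,102),(1,103),(1,103),(0,102),(1,103),(0,103),(1,103),(0,103),(0,102),(1,102),(0,102),(1,103),(0,103),(0,103),(1,104),(1,104),(1,104),(0,103),(1,103),(0,103),(1,103),(0,103),(1,102),(1,100),(0,97),(1,97),(1,97),(1,96),(1,96),(0,93),(0,92),(0,90),(1,91),(0,91),(1,92),(1,92),(0,91),(1,92),(0,92),(1,93),(1,91),(0,89),(0,89),(0,89),(1,89),(0,86),(0,86),(1,86),(0,85),(1,85),(1,83),(1,81),(0,81),(0,81),(0,79),(1,79),(0,74),(1,75),(0,73),(0,73),(0,71),(1,71),(1,71),(1,67),(0,66),(1,67),(0,67),(0,67),(1,68),(0,68),(1,69),(0,69),(0,68),(1,69),(0,69),(0,65),(1,63),(1,58),(1,58),(1,54),(0,54),(1,55),(0,53),(0,43),(1,44),(1,42),(1,37),(1,35),(1,35),(1,32),(0,32),(0,26),(0,24),(1,25),(0,25),(0,24)]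

/-- Orbit certificate. -/
def dodRoot6 : ℕ := 57274

/-- Orbit certificate. -/
def dodCert6 : List (ℕ × ℕ) :=
  [(0,0),(1,1),(0,1),(1,2),(0,2),(1,3),(0,3),(1,4),(0,4),(1,5),(0,5),(1,6),(0,6),(1,7),(0,7),(1,8),(0,8),(1,9),(0,9),(1,10),(0,10),(1,11),(0,11),(1,12),(0,12),(1,13),(0,13),(1,14),(0,14),(1,15),(0,15),(1,16),(0,16),(1,17),(1,17),(0,17),(1,18),(0,18),(1,19),(0,19),(1,20),(0,20),(0,20),(1,21),(0,21),(1,22),(0,22),(1,23),(0,23),(1,24),(0,24),(1,25),(0,25),(1,26),(0,26),(1,27),(0,27),(1,28),(0,28),(1,29),(1,29),(0,29),(1,30),(0,30),(1,31),(0,31),(1,32),(0,32),(1,33),(0,33),(1,33),(0,33),(1,34),(0,34),(1,35),(0,35),(1,36),(0,36),(1,37),(0,37),(1,38),(0,38),(1,39),(0,39),(1,40),(1,40),(0,40),(1,41),(1,41),(0,41),(1,42),(0,42),(1,43),(0,43),(1,44),(0,44),(1,45),(0,45),(1,46),(0,46),(1,47),(0,47),(1,48),(0,48),(1,49),(0,49),(1,50),(0,50),(1,51),(0,51),(1,52),(1,52),(0,52),(0,52),(1,53)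,(0,53),(1,54),(0,54),(1,55),(0,55),(1,56),(0,56),(1,57),(0,57),(1,58),(0,58),(1,59),(0,59),(0,59),(0,59),(1,60),(0,60),(1,61),(0,61),(1,62),(0,62),(1,63),(0,63),(1,64),(0,64),(1,65),(0,65),(1,66),(0,66),(1,67),(0,67),(1,68),(0,68),(1,69),(0,69),(1,70),(0,70),(1,71),(1,71),(0,71),(1,71),(0,71),(1,71),(0,71),(1,72),(0,72),(1,73),(1,73),(0,73),(0,73),(1,74),(0,74),(1,75),(0,75),(1,76),(0,76),(1,77),(0,77),(1,78),(0,78),(1,79),(0,79),(1,80),(0,80),(1,81),(0,81),(0,81),(1,82),(0,82),(1,83),(1,83),(0,83),(1,84),(0,84),(1,85),(0,85),(1,86),(1,86),(0,86),(0,86),(0,86),(0,86),(1,86),(1,86),(0,85),(1,86),(1,86),(0,86),(1,87),(0,87),(1,88),(0,88),(1,89),(0,89),(1,90),(0,90),(1,91),(0,91),(1,92),(0,92),(1,93),(0,93),(1,94),(0,94),(1,95),(0,95),(1,96),(0,96),(1,97),(0,97),(1,98),(0,98),(0,98),(1,99),(0,99),(1,100),(0,100),(1,101),(0,101),(1,102),(0,101),(1,102),(0,102),(1,103),(0,103),(1,104),(0,104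),(1,105),(0,105),(1,106),(0,106),(1,107),(0,107),(1,108),(0,108),(1,109),(0,109),(1,110),(0,110),(1,111),(1,111),(0,111),(1,112),(0,112),(1,113),(0,113),(1,114),(0,114),(1,115),(0,115),(0,115),(1,116),(0,116),(1,117),(0,117),(1,118),(0,118),(1,119),(0,119),(1,120),(0,120),(1,121),(1,121),(0,121),(1,121),(0,121),(1,122),(1,122),(0,122),(1,122),(1,122),(0,122),(1,123),(0,123),(1,124),(1,124),(0,124),(1,125),(0,125),(1,126),(0,126),(1,127),(0,127),(1,128),(0,128),(1,129),(0,129),(1,130),(0,130),(0,130),(0,130),(1,131),(1,131),(1,131),(0,131),(1,132),(0,132),(1,133),(1,133),(0,133),(1,134),(0,134),(1,135),(0,135),(1,136),(0,136),(1,137),(0,137),(1,138),(1,138),(0,138),(0,138),(1,139),(0,139),(1,140),(0,140),(1,141),(0,141),(1,142),(0,142),(1,143),(0,143),(1,144),(0,144),(1,145),(0,145),(1,146),(1,146),(0,146),(1,147),(0,147),(1,148),(0,147),(1,148),(0,148),(0,148),(1,149),(0,149),(1,150),(0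,150),(1,151),(1,151),(0,151),(1,152),(0,152),(1,153),(0,153),(1,154),(1,154),(0,154),(1,155),(0,155),(1,156),(0,156),(1,157),(1,157),(0,157),(0,157),(1,158),(0,158),(1,159),(1,159),(0,159),(1,160),(0,160),(1,161),(0,161),(0,161),(1,162),(0,162),(1,163),(0,163),(1,164),(0,164),(1,165),(0,165),(1,166),(0,166),(0,166),(1,167),(0,167),(1,168),(0,168),(1,169),(0,169),(1,170),(0,170),(1,171),(0,171),(1,172),(0,172),(1,173),(0,173),(1,174),(0,174),(1,175),(0,175),(1,176),(0,176),(1,177),(0,177),(1,178),(0,178),(1,179),(0,177),(1,178),(0,178),(1,179),(0,179),(1,180),(0,180),(1,181),(0,181),(0,181),(1,182),(0,182),(1,183),(0,183),(0,183),(1,184),(0,184),(1,185),(0,185),(1,186),(0,186),(1,187),(1,187),(1,187),(0,187),(0,187),(1,188),(0,188),(1,189),(0,189),(1,190),(0,190),(1,191),(0,191),(1,192),(0,192),(1,193),(0,193),(1,194),(1,194),(0,194),(1,195),(0,195),(1,196),(1,196),(0,196),(1,197),(0,197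),(1,198),(0,198),(1,199),(0,199),(1,200),(0,200),(1,201),(0,201),(0,201),(1,202),(0,202),(1,203),(0,203),(1,204),(1,204),(1,204),(0,204),(1,205),(0,204),(0,204),(1,205),(0,205),(0,205),(0,205),(1,206),(1,206),(0,206),(1,207),(0,207),(0,207),(1,207),(0,207),(0,207),(1,208),(0,208),(1,209),(0,209),(1,210),(1,210),(0,210),(1,211),(0,211),(1,212),(0,212),(1,213),(0,213),(1,214),(0,214),(1,215),(0,215),(0,215),(1,216),(0,216),(1,217),(0,217),(1,218),(0,218),(1,219),(0,219),(1,219),(0,219),(1,220),(0,220),(1,221),(0,221),(1,222),(0,222),(0,222),(1,223),(0,223),(1,224),(0,224),(1,225),(0,225),(1,226),(0,226),(0,226),(1,227),(1,227),(0,227),(1,228),(0,228),(1,229),(1,229),(0,228),(1,229),(0,229),(1,230),(0,230),(1,231),(1,231),(1,231),(0,231),(0,231),(1,232),(0,232),(1,233),(0,233),(1,234),(0,234),(1,235),(0,235),(0,235),(1,236),(0,236),(1,237),(0,237),(1,238),(0,238),(1,239),(0,239),(1,240),(0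,240),(1,241),(0,241),(1,242),(0,242),(1,243),(0,243),(1,244),(1,244),(0,244),(0,244),(1,245),(0,245),(1,246),(1,246),(0,246),(1,247),(0,247),(1,248),(1,248),(0,248),(1,249),(1,249),(0,249),(1,250),(0,250),(1,251),(0,250),(0,250),(1,251),(0,251),(1,252),(0,252),(1,253),(0,253),(1,254),(0,254),(1,255),(0,255),(1,256),(0,256),(1,256),(0,256),(1,257),(0,257),(0,257),(0,257),(1,258),(0,258),(0,258),(1,259),(1,259),(0,259),(1,260),(0,259),(1,260),(0,260),(1,261),(0,261),(1,262),(0,262),(1,262),(0,262),(0,262),(1,263),(0,263),(1,264),(1,264),(0,264),(1,265),(0,265),(1,266),(0,266),(1,267),(0,267),(1,268),(0,268),(1,269),(0,269),(1,270),(1,270),(0,270),(1,271),(0,271),(1,272),(1,272),(0,272),(1,272),(0,272),(1,273),(0,273),(1,274),(1,274),(0,274),(0,274),(0,273),(0,273),(1,274),(0,274),(0,274),(1,275),(0,275),(1,276),(0,276),(1,277),(0,277),(1,278),(0,278),(1,278),(0,278),(1,279),(0,279),(1,280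),(0,280),(1,281),(0,281),(1,282),(0,282),(1,283),(0,283),(1,284),(0,283),(1,284),(0,284),(0,284),(1,285),(0,285),(0,285),(1,286),(0,286),(0,286),(1,287),(0,287),(0,287),(0,287),(1,288),(0,288),(0,288),(1,288),(0,288),(1,289),(0,289),(1,290),(0,290),(1,291),(0,291),(0,291),(1,292),(0,292),(1,293),(0,293),(1,294),(0,294),(1,294),(0,294),(1,295),(0,295),(1,296),(1,296),(1,296),(0,296),(0,296),(0,296),(1,297),(0,297),(1,298),(0,298),(0,298),(1,299),(0,299),(1,300),(0,300),(1,301),(1,301),(1,301),(0,301),(1,302),(0,302),(1,303),(0,303),(1,304),(1,304),(0,303),(1,304),(0,304),(1,305),(1,304),(0,304),(1,305),(0,305),(0,305),(1,306),(0,306),(1,306),(1,306),(0,306),(1,307),(0,307),(0,307),(1,308),(1,308),(0,308),(1,309),(0,309),(1,310),(0,310),(1,311),(0,310),(1,311),(1,311),(0,311),(1,312),(0,312),(1,313),(0,313),(0,313),(1,314),(0,314),(0,313),(1,313),(0,313),(0,313),(1,314),(0,314),(0,314),(0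,314),(1,314),(0,313),(0,311),(1,312),(0,312),(1,312),(0,311),(1,312),(0,312),(1,313),(0,313),(1,314),(0,314),(1,313),(0,313),(0,313),(1,314),(1,314),(0,314),(0,314),(1,315),(0,315),(1,316),(0,316),(1,317),(0,317),(0,317),(0,317),(1,318),(0,318),(0,318),(1,319),(0,319),(1,320),(0,320),(1,321),(0,321),(1,322),(1,322),(0,322),(1,322),(0,322),(1,322),(0,322),(1,323),(1,323),(0,323),(1,324),(1,324),(1,324),(0,324),(1,324),(0,324),(1,324),(1,324),(0,324),(1,325),(1,325),(1,325),(0,325),(1,325),(1,324),(1,324),(1,324),(1,324),(1,324),(0,324),(0,324),(0,324),(1,325),(0,325),(0,324),(1,325),(0,325),(1,325),(0,325),(0,325),(1,326),(0,325),(1,326),(0,325),(1,326),(0,326),(1,327),(0,327),(0,327),(1,328),(0,328),(1,329),(0,329),(1,329),(0,329),(1,330),(0,330),(1,331),(0,331),(0,329),(1,330),(0,330),(1,330),(0,330),(1,329),(0,329),(1,330),(1,330),(0,329),(1,330),(0,330),(1,331),(1,331),(0,331),(0,331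),(1,331),(0,331),(1,332),(0,332),(0,332),(0,332),(1,332),(0,332),(1,333),(0,333),(1,332),(1,332),(1,332),(0,332),(1,333),(0,333),(1,334),(0,334),(1,334),(0,331),(1,332),(0,332),(0,332),(1,333),(0,333),(0,333),(1,334),(0,334),(0,334),(1,335),(1,335),(0,335),(0,335),(1,336),(0,336),(0,336),(1,336),(0,336),(0,336),(1,337),(0,337),(1,337),(0,336),(0,336),(0,336),(1,335),(0,334),(1,335),(0,335),(1,336),(1,336),(0,336),(1,337),(0,337),(1,338),(0,338),(0,338),(0,338),(1,339),(0,339),(0,339),(1,340),(0,340),(1,341),(0,341),(0,340),(0,340),(1,341),(0,341),(1,342),(1,342),(0,342),(1,341),(0,341),(0,341),(1,342),(0,342),(1,343),(0,343),(1,344),(1,344),(0,344),(1,344),(0,344),(1,345),(0,345),(1,346),(0,346),(1,347),(0,346),(0,343),(0,343),(1,344),(1,344),(1,344),(1,344),(0,344),(1,345),(0,345),(0,345),(0,345),(1,346),(0,346),(0,346),(1,347),(0,347),(1,348),(1,346),(0,345),(0,345),(0,345),(1,346),(1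,346),(0,346),(1,345),(0,345),(0,345),(1,346),(0,346),(1,347),(0,347),(1,348),(0,348),(1,349),(0,349),(1,348),(0,348),(1,349),(0,349),(0,349),(1,349),(0,349),(0,349),(1,350),(0,347),(1,348),(0,348),(1,349),(0,349),(0,349),(1,350),(1,350),(1,350),(0,350),(0,348),(1,349),(1,348),(0,348),(0,348),(1,349),(1,349),(0,347),(0,347),(1,348),(0,348),(1,349),(0,349),(1,350),(0,350),(0,348),(0,348),(1,349),(1,348),(0,348),(1,349),(1,349),(0,349),(1,350),(0,350),(0,350),(1,350),(0,350),(1,351),(0,348),(1,349),(0,349),(1,350),(0,350),(0,350),(1,351),(1,351),(1,351),(0,351),(0,351),(1,352),(0,352),(0,352),(0,352),(1,353),(0,353),(0,353),(1,353),(0,353),(1,354),(0,354),(1,354),(0,354),(0,353),(1,353),(1,353),(0,353),(1,353),(0,353),(1,354),(0,354),(1,354),(0,354),(1,355),(1,354),(1,353),(0,353),(1,354),(0,354),(1,355),(0,355),(0,355),(0,355),(1,356),(0,356),(0,355),(0,355),(0,355),(1,356),(0,356),(1,357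),(1,357),(0,357),(1,358),(0,358),(1,358),(0,358),(1,359),(0,359),(1,358),(0,358),(1,358),(1,358),(0,358),(0,358),(0,358),(0,358),(0,358),(1,358),(0,357),(1,356),(1,356),(0,356),(1,355),(0,354),(1,354),(1,354),(0,354),(1,355),(0,355),(1,355),(0,355),(1,356),(0,356),(1,357),(1,357),(0,357),(1,358),(0,358),(0,357),(1,355),(1,354),(0,354),(1,353),(0,352),(1,353),(0,353),(1,354),(1,354),(1,351),(0,351),(1,352),(0,350),(0,350),(0,350),(1,350),(0,349),(1,350),(1,350),(0,350),(0,350),(0,350),(0,349),(0,348),(1,349),(0,349),(0,349),(1,350),(0,349),(1,349),(0,349),(1,349),(0,349),(0,349),(1,349),(0,349),(1,350),(1,350),(0,348),(1,349),(1,348),(0,347),(1,348),(0,348),(0,348),(0,347),(1,347),(0,346),(1,347),(0,347),(1,347),(0,347),(0,347),(1,348),(0,348),(1,349),(0,349),(1,350),(0,350),(1,351),(0,351),(0,351),(1,349),(0,349),(1,349),(1,349),(0,349),(0,348),(1,349),(0,349),(0,349),(0,349),(0,348),(1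,349),(0,348),(1,348),(0,348),(0,348),(1,345),(0,345),(1,345),(0,345),(1,346),(1,346),(1,346),(0,346),(1,345),(1,344),(0,344),(1,345),(1,345),(0,343),(1,344),(1,344),(0,344),(1,342),(0,342),(0,341),(1,341),(0,341),(0,341),(1,342),(1,340),(1,340),(1,339),(0,339),(1,339),(0,339),(1,339),(1,339),(1,339),(0,339),(1,339),(1,338),(0,338),(1,339),(1,338),(1,338),(0,336),(0,336),(0,336),(1,336),(0,335),(0,335),(0,335),(0,335),(1,336),(0,336),(1,337),(0,336),(0,336),(1,337),(0,335),(0,335),(1,335),(0,334),(1,335),(0,334),(1,335),(0,333),(1,332),(0,331),(0,331),(0,331),(1,331),(1,330),(0,329),(0,329),(1,330),(0,330),(1,330),(0,330),(0,330),(0,330),(0,330),(0,330),(0,330),(0,329),(1,330),(1,330),(1,330),(1,328),(0,328),(1,329),(1,328),(1,328),(1,328),(0,328),(1,327),(1,326),(0,326),(1,327),(0,327),(1,326),(0,325),(1,326),(0,326),(1,327),(0,326),(1,325),(0,325),(0,325),(0,323),(1,323),(0,320),(0,320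),(1,319),(0,319),(1,320),(1,319),(1,319),(0,319),(1,320),(1,318),(0,316),(1,316),(0,315),(1,315),(1,315),(1,315),(0,315),(0,313),(1,314),(1,314),(0,313),(0,312),(1,312),(1,308),(1,308),(1,305),(0,304),(0,302),(1,303),(0,303),(1,304),(0,304),(0,303),(1,304),(0,304),(1,305),(0,303),(0,302),(1,300),(1,300),(0,295),(0,293),(0,293),(1,293),(0,292),(1,292),(0,292),(1,293),(0,293),(1,294),(0,294),(1,295),(1,293),(0,293),(1,289),(1,289),(1,284),(1,284),(0,284),(0,282),(0,282),(0,282),(0,282),(1,283),(0,282),(1,282),(0,282),(1,282),(1,280),(1,279),(0,279),(0,278),(1,279),(0,279),(0,278),(1,278),(0,277),(0,277),(1,278),(0,278),(0,278),(0,278),(1,279),(1,279),(0,279),(1,280),(1,280),(1,280),(0,280),(1,281),(0,280),(1,280),(1,280),(0,278),(1,279),(0,279),(1,280),(0,278),(1,279),(1,278),(0,277),(1,278),(0,278),(1,279),(0,274),(1,274),(0,274),(1,274),(0,274),(1,274),(1,273),(0,268),(1,269),(0,268),(0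,267),(0,263),(1,256),(0,253),(0,252),(0,252),(1,253),(1,249),(1,249),(0,249),(1,249),(1,245),(1,245),(0,243),(0,242),(1,242),(1,242),(1,242),(1,241),(1,241),(1,241),(0,241),(1,242),(0,239),(1,239),(1,239),(0,239),(0,239),(0,239),(0,239),(0,238),(0,238),(0,238),(0,234),(0,233),(0,230),(0,230),(1,230),(0,227),(1,228),(0,228),(1,229),(1,228),(0,225),(0,224),(0,222),(0,222),(1,221),(1,218),(0,216),(0,205),(0,204),(0,204),(0,204),(1,201),(0,200),(0,200),(0,198),(0,196),(1,196),(0,196),(1,191),(1,189),(1,189),(1,187),(1,187),(0,187),(1,187),(1,181),(1,178),(1,161),(0,160),(0,156),(1,152),(1,145),(1,145),(0,145),(1,144),(0,143),(1,142),(0,142),(0,141),(0,140),(0,137),(1,138),(0,137),(0,132),(1,130),(0,129),(0,125),(1,126),(1,120),(0,115),(1,114),(0,114),(0,112),(0,106),(0,106),(0,105),(0,104),(1,86),(1,81),(0,80),(1,66)]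

/-- Orbit certificate. -/
def dodRoot4 : ℕ := 1035448

/-- Orbit certificate. -/
def dodCert4 : List (ℕ × ℕ) :=
  [(0,0),(1,1),(0,1),(1,2),(0,2),(1,3),(0,3),(1,4),(0,4),(1,5),(0,5),(1,6),(0,6),(1,7),(0,7),(1,8),(0,8),(1,9),(0,9),(1,10),(0,10),(1,11),(0,11),(1,12),(0,12),(1,12),(1,12),(0,12),(1,13),(0,13),(1,14),(0,14),(1,15),(0,15),(1,16),(0,16),(1,17),(0,17),(1,18),(0,18),(1,19),(0,19),(1,20),(0,20),(1,21),(0,21),(1,22),(0,22),(1,23),(1,23),(0,23),(1,24),(0,24),(1,25),(0,25),(0,25),(1,26),(0,26),(1,27),(0,27),(1,28),(0,28),(1,29),(0,29),(1,30),(0,30),(1,31),(0,31),(1,32),(0,32),(0,32),(1,33),(0,33),(1,34),(0,34),(1,35),(0,35),(1,36),(0,36),(1,37),(0,37),(1,38),(0,38),(1,39),(0,39),(1,40),(0,40),(1,41),(0,41),(1,42),(0,42),(1,43),(1,43),(1,43),(0,43),(1,44),(0,44),(0,44),(1,45),(0,45),(1,46),(0,46),(1,47),(0,47),(1,48),(0,48),(1,49),(0,49),(1,50),(0,50),(1,51),(0,51),(1,52),(1,52),(0,5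2),(1,53),(0,53),(1,54),(1,54),(0,53),(1,54),(0,54),(1,55),(1,54),(0,54),(1,55),(0,55),(1,56),(0,56),(1,57),(0,57),(1,58),(0,58),(1,59),(0,59),(1,59),(0,59),(1,60),(0,60),(1,61),(0,61),(1,62),(1,62),(0,62),(1,63),(0,63),(0,63),(1,64),(0,64),(1,65),(0,65),(1,66),(0,66),(1,67),(0,67),(1,68),(1,68),(0,68),(1,69),(0,69),(1,70),(0,70),(1,71),(0,71),(1,72),(0,72),(1,73),(0,73),(0,73),(1,74),(0,74),(0,74),(1,75),(1,75),(0,75),(1,76),(0,76),(1,76),(0,76),(1,77),(0,77),(1,78),(0,78),(1,79),(0,79),(1,80),(0,80),(0,80),(1,81),(0,81),(1,82),(0,82),(1,83),(1,83),(0,83),(0,83),(1,84),(1,84),(0,84),(1,85),(0,85),(1,85),(0,85),(1,86),(0,86),(1,87),(0,87),(0,87),(1,88),(0,88),(1,89),(0,89),(1,90),(1,89),(0,89),(1,90),(0,90),(1,91),(1,91),(0,91),(1,92),(0,92),(0,92),(1,93),(0,93),(1,94),(0,94),(1,94),(0,94),(0,94),(1,94),(0,94),(1,94),(0,94),(1,95),(0,95),(0,95),(1,96),(0,96),(1,97),(1,97),(0,97),(0,97),(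0,96),(1,96),(1,96),(1,96),(0,96),(1,97),(1,97),(0,97),(1,98),(1,98),(0,98),(1,98),(0,98),(0,98),(1,99),(0,99),(1,100),(0,100),(1,101),(0,101),(1,102),(1,102),(1,102),(0,102),(1,103),(0,103),(1,104),(1,103),(0,103),(1,104),(0,104),(1,105),(0,105),(1,106),(0,106),(1,107),(1,107),(0,107),(1,108),(1,108),(1,108),(0,108),(1,109),(0,109),(1,109),(0,108),(1,109),(0,109),(1,110),(0,110),(1,111),(0,111),(1,112),(0,112),(0,112),(1,112),(0,112),(1,113),(0,113),(1,112),(1,111),(0,111),(1,112),(1,111),(1,111),(0,111),(0,110),(1,111),(0,109),(0,108),(1,109),(0,109),(1,110),(0,110),(0,110),(0,110),(1,111),(0,111),(1,109),(1,109),(1,109),(1,107),(1,107),(0,107),(1,107),(0,107),(1,108),(1,108),(0,105),(1,106),(0,106),(1,107),(1,104),(0,104),(0,104),(1,104),(0,104),(1,105),(0,105),(0,105),(0,105),(0,105),(1,106),(0,106),(1,107),(1,107),(0,107),(0,107),(1,108),(0,106),(0,106),(0,104),(1,105),(1,103),(0,10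3),(1,104),(0,103),(0,103),(0,103),(1,104),(0,104),(1,105),(0,105),(0,105),(1,105),(1,105),(0,105),(0,105),(1,106),(0,104),(1,105),(0,105),(0,104),(0,103),(0,103),(1,104),(0,104),(1,105),(0,104),(1,104),(0,104),(1,105),(0,104),(1,105),(0,105),(1,106),(0,106),(1,107),(0,106),(1,103),(1,103),(1,103),(0,102),(0,102),(1,103),(0,103),(0,103),(0,102),(1,103),(0,102),(0,102),(0,102),(1,102),(1,102),(0,102),(1,103),(0,103),(1,103),(1,103),(1,102),(0,102),(1,103),(0,101),(0,101),(1,100),(0,99),(0,99),(1,99),(0,95),(1,90),(0,88),(1,87),(0,87),(0,87),(1,88),(1,88),(0,87),(0,83),(1,84),(0,84),(0,82),(1,82),(1,81),(0,78),(0,77),(1,78),(1,78),(1,78),(1,78),(0,77),(0,77),(0,75),(1,74),(1,71),(0,71),(0,70),(1,70),(0,70),(1,71),(1,71),(1,70),(0,70),(0,70),(1,71),(0,71),(1,71),(1,71),(0,71),(0,69),(0,66),(0,62),(0,62),(1,63),(1,60),(1,59),(0,59),(0,59),(1,60),(1,60),(0,59),(1,59),(0,59),(0,51),(1,49),(0,49),(1,50),(1,50),(0,42),(1,41),(1,39),(0,36),(1,31),(1,31),(1,30),(1,30),(1,20),(0,19),(0,19),(1,18),(1,18),(0,17)]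

/-- Orbit certificate. -/
def dodRoot0 : ℕ := 16436384

/-- Orbit certificate. -/
def dodCert0 : List (ℕ × ℕ) :=
  []

/-- Orbit certificate. -/
def dodOctRoot6 : ℕ := 5279

/-- Orbit certificate. -/
def dodOctCert6 : List (ℕ × ℕ) :=
  [(0,0),(1,1),(0,1),(1,2),(0,2),(1,3),(0,3),(1,4),(0,4),(1,5),(1,5),(0,5),(0,5),(1,6),(0,6),(1,7),(1,7),(0,7),(1,8),(1,8),(0,8),(1,9),(0,9),(1,10),(0,10),(1,11),(0,11),(1,12),(0,12),(1,13),(0,13),(1,14),(0,14),(1,15),(0,15),(1,16),(0,16),(0,16),(1,17),(0,17),(1,18),(0,18),(1,19),(0,19),(1,20),(0,20),(1,21),(1,21),(0,21),(1,22),(0,22),(1,23),(0,23),(0,23),(1,23),(0,23),(1,24),(0,24),(1,25),(0,25),(1,26),(0,26),(1,27),(0,27),(0,26),(1,27),(1,27),(0,27),(1,27),(0,27),(1,28),(0,28),(1,29),(1,29),(0,29),(0,29),(1,28),(0,28),(0,28),(1,29),(0,29),(1,29),(0,29),(0,29),(1,29),(1,29),(0,29),(0,29),(1,30),(0,30),(1,31),(1,31),(1,31),(0,31),(1,32),(0,32),(1,33),(0,33),(1,34),(1,34),(0,32),(1,33),(1,33),(1,33),(1,32),(0,32),(1,32),(0,31),(1,29),(1,27),(0,27),(0,25),(0,25),(1,26),(1,25),(1,25),(1,23),(0,23),(1,24),(0,24),(1,25),(0,25),(1,26),(0,26),(1,19),(1,17),(0,14),(0,10),(0,7),(0,7),(0,5)]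

/-- Orbit certificate. -/
def dodOctRoot4 : ℕ := 15777

/-- Orbit certificate. -/
def dodOctCert4 : List (ℕ × ℕ) :=
  [(0,0),(1,1),(0,1),(1,2),(0,2),(1,3),(0,3),(1,4),(0,4),(1,5),(0,5),(1,6),(0,6),(1,7),(0,7),(1,8),(0,8),(1,9),(0,9),(1,10),(0,10),(1,11),(0,11),(1,12),(0,12),(1,13),(0,13),(1,14),(0,14),(1,15),(0,15),(1,16),(0,16),(1,17),(0,17),(1,18),(0,18),(1,19),(0,19),(1,20),(0,20),(1,21),(0,21),(1,21),(0,21),(1,22),(0,22),(1,23),(1,23),(0,23),(1,24),(0,24),(1,25),(0,25),(1,26),(0,26),(1,27),(0,27),(1,28),(0,28),(1,29),(0,29),(1,30),(0,30),(1,31),(0,31),(1,32),(0,32),(1,33),(0,33),(1,34),(0,34),(1,35),(0,35),(1,36),(0,36),(1,37),(0,37),(1,38),(1,38),(0,38),(1,39),(0,39),(1,40),(0,40),(1,41),(0,41),(1,42),(0,42),(1,43),(0,43),(1,44),(0,44),(1,45),(0,45),(1,46),(0,46),(1,47),(1,47),(0,47),(1,48),(0,48),(1,49),(0,49),(1,50),(0,50),(1,51),(0,51),(1,52),(0,52),(1,53),(1,53),(0,53),(0,53),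(1,54),(0,54),(1,55),(0,55),(1,56),(0,56),(1,57),(0,57),(1,58),(0,58),(1,59),(0,59),(1,60),(0,60),(1,61),(0,61),(1,62),(0,62),(1,63),(0,63),(1,64),(0,63),(1,64),(0,64),(0,64),(1,65),(0,65),(1,66),(0,66),(1,67),(0,67),(1,68),(0,68),(1,69),(0,69),(1,70),(0,70),(1,71),(1,71),(0,71),(1,72),(0,72),(0,72),(1,73),(0,73),(1,74),(0,74),(0,74),(0,74),(1,75),(1,75),(0,75),(1,76),(0,76),(0,76),(0,76),(0,76),(1,77),(0,77),(0,76),(1,77),(0,77),(1,78),(0,77),(1,78),(0,78),(1,79),(0,79),(0,79),(1,80),(0,80),(1,81),(0,81),(1,82),(0,82),(1,83),(0,83),(1,84),(0,84),(1,85),(0,85),(0,85),(0,85),(1,86),(1,86),(0,86),(0,86),(1,87),(0,87),(1,88),(0,88),(0,88),(0,88),(1,89),(0,89),(0,89),(1,90),(0,90),(1,91),(0,91),(1,92),(0,91),(1,92),(0,92),(1,93),(0,93),(1,94),(0,94),(1,95),(0,95),(0,95),(1,96),(0,96),(1,97),(0,97),(1,98),(0,98),(1,99),(0,97),(1,98),(0,98),(1,99),(1,99),(0,99),(1,100),(0,100),(1,101),(0,101),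(1,102),(0,102),(1,103),(0,102),(0,102),(1,103),(0,103),(0,103),(0,103),(1,104),(0,104),(0,104),(0,104),(0,103),(1,103),(0,103),(1,104),(0,104),(1,105),(1,105),(1,105),(0,104),(1,105),(0,105),(1,106),(1,106),(0,106),(1,107),(1,106),(0,105),(1,106),(0,106),(1,107),(0,107),(1,108),(0,108),(0,108),(1,108),(0,108),(0,108),(1,109),(0,109),(1,110),(0,110),(1,111),(0,111),(0,110),(0,110),(1,111),(0,111),(1,112),(0,112),(1,113),(0,113),(0,112),(1,113),(0,113),(1,113),(0,113),(1,114),(1,114),(0,113),(1,114),(0,114),(1,115),(0,114),(1,115),(0,115),(1,116),(0,116),(1,116),(1,116),(0,116),(1,117),(1,117),(0,117),(1,118),(0,118),(1,119),(0,118),(1,119),(0,119),(0,119),(1,119),(1,119),(0,119),(0,119),(0,119),(0,119),(1,120),(1,120),(0,120),(0,119),(1,119),(0,119),(1,120),(0,120),(1,121),(0,121),(1,122),(0,122),(0,122),(1,122),(1,121),(0,121),(0,121),(0,121),(0,121),(1,121),(0,121),(1,122),(0,122),(0,1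22),(1,123),(1,123),(0,122),(0,121),(0,121),(0,121),(0,121),(1,122),(0,122),(1,123),(0,122),(0,122),(1,123),(0,123),(1,124),(0,124),(1,125),(1,125),(0,125),(0,125),(0,125),(1,126),(1,126),(0,126),(0,126),(1,127),(0,126),(0,126),(1,127),(1,127),(0,126),(0,126),(1,127),(0,126),(1,127),(0,125),(1,126),(0,126),(1,127),(1,127),(1,127),(0,127),(1,126),(0,126),(1,127),(0,127),(1,128),(0,128),(1,129),(0,129),(1,130),(1,130),(0,130),(1,131),(0,131),(0,130),(0,130),(1,131),(0,131),(1,132),(0,132),(1,133),(0,133),(0,133),(0,132),(1,133),(0,132),(0,130),(1,131),(0,130),(0,130),(0,130),(1,131),(1,131),(0,131),(1,129),(0,128),(1,127),(1,125),(0,125),(0,125),(1,125),(0,122),(1,121),(1,120),(1,118),(0,118),(1,119),(1,117),(0,117),(0,117),(0,117),(0,112),(0,111),(0,111),(0,111),(1,112),(0,109),(0,109),(1,109),(1,109),(1,108),(0,105),(1,106),(0,105),(0,101),(1,101),(1,100),(0,100),(0,99),(0,98),(0,98),(1,98),(0,98),(0,91),(1,92),(1,91),(0,87),(0,85),(0,85),(1,86),(1,81),(0,81),(1,82),(1,79),(0,79),(1,69),(0,68),(0,68),(1,63),(1,60),(1,57),(1,55),(1,54),(1,49),(1,49),(0,49),(1,29),(0,10)]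

/-- Orbit certificate. -/
def dodOctRoot2 : ℕ := 190626

/-- Orbit certificate. -/
def dodOctCert2 : List (ℕ × ℕ) :=
  [(0,0),(1,1),(0,1),(1,2),(0,2),(1,3),(0,3),(1,4),(0,4),(1,5),(0,5),(1,6),(0,6),(1,7),(0,7),(1,8),(0,8),(1,8),(0,8),(1,9),(0,9),(1,10),(0,10),(1,11),(0,11),(1,12),(0,12),(0,12),(1,13),(0,13),(1,14),(1,13),(0,13),(1,14),(0,14),(1,15),(0,15),(1,16),(0,16),(1,17),(1,17),(0,17),(1,18),(0,18),(1,19),(0,19),(1,20),(0,20),(1,21),(1,21),(0,21),(1,22),(0,22),(1,22),(1,22),(0,22),(1,23),(0,23),(1,24),(0,24),(1,25),(0,25),(1,25),(0,25),(1,26),(0,26),(1,27),(0,27),(0,26),(1,26),(0,26),(0,26),(1,27),(0,27),(1,28),(0,28),(1,29),(0,29),(0,29),(1,30),(1,30),(0,30),(0,29),(1,29),(0,29),(0,29),(1,30),(0,30),(1,31),(0,31),(1,32),(0,32),(1,33),(1,32),(1,32),(0,32),(0,32),(1,33),(0,33),(0,33),(0,33),(1,34),(0,34),(1,34),(0,33),(0,31),(1,31),(1,31),(1,29),(0,29),(0,28),(1,29),(0,28),(1,29),(0,29),(0,29),(1,29),(0,29),(1,27),(1,27),(0,26),(1,25),(0,22),(1,21),(1,20),(0,20),(1,21),(1,21),(0,18),(1,19),(0,14)]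

end Cfsg.Agent.Lib.GolayOrbData
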