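import Mathlib
import Cfsg.Prelude.Def_Sporadic_a
import Cfsg.Prelude.Def_SporadicCombinatorics
import Cfsg.Agent.Lib.GolayFamBase
import Cfsg.Agent.Lib.GolayFam_dpSx

/-!
# Orbits: dpSx (certified by generated data)
-/

set_option autoImplicit false
set_option linter.style.haveILetI false
set_option linter.constructorNameAsVariable false
set_option maxRecDepth 100000

open scoped Pointwise

namespace Cfsg.Agent.Lib.GolayFam

open Cfsg Cfsg.Agent.Lib.GolayCode Cfsg.Agent.Lib.GolayFacts Cfsg.Agent.Lib.GolayPerm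
  Cfsg.Agent.Lib.GolayChain Cfsg.Agent.Lib.GolayTrans Cfsg.Agent.Lib.GolayOrbit
  Cfsg.Agent.Lib.GolayKit Cfsg.Agent.Lib.GolayM12 Cfsg.Agent.Lib.GolayFast
  Cfsg.Agent.Lib.GolayFastData Cfsg.Agent.Lib.GolaySets Cfsg.Agent.Lib.GolayMax Cfsg.Agent.Lib.GolayOrbits
  Cfsg.Agent.Lib.GolayFamGens

/-! ### dpSx -/

theorem hd_dpSx_0 : clsHead sextetB (pairL DPL) GolayFam_dpSx.c0 = true := by
  decide +kernel

theorem ck_dpSx_0_0 : chunkChk sameObj gensD (fun _ => true) GolayFam_dpSx.c0 0 250 = true := by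
  decide +kernel

theorem ck_dpSx_0_250 : chunkChk sameObj gensD (fun _ => true) GolayFam_dpSx.c0 250 250 = true := by
  decide +kernel

theorem rows_dpSx_0 : (GolayFam_dpSx.c0.2.2.drop 0).all (rowAll sameObj gensD (fun _ => true) GolayFam_dpSx.c0) = true :=
  chunk_step ck_dpSx_0_0
    (chunk_step ck_dpSx_0_250
    (chunk_end (by decide +kernel)))

theorem hd_dpSx_1 : clsHead sextetB (pairL DPL) GolayFam_dpSx.c1 = true := by
  decide +kernel

theorem ck_dpSx_1_0 : chunkChk sameObj gensD (fun _ => true) GolayFam_dpSx.c1 0 250 = true := by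
  decide +kernel

theorem ck_dpSx_1_250 : chunkChk sameObj gensD (fun _ => true) GolayFam_dpSx.c1 250 250 = true := by
  decide +kernel

theorem rows_dpSx_1 : (GolayFam_dpSx.c1.2.2.drop 0).all (rowAll sameObj gensD (fun _ => true) GolayFam_dpSx.c1) = true :=
  chunk_step ck_dpSx_1_0
    (chunk_step ck_dpSx_1_250
    (chunk_end (by decide +kernel)))

theorem hd_dpSx_2 : clsHead sextetB (pairL DPL) GolayFam_dpSx.c2 = true := by
  decide +kernel

theorem ck_dpSx_2_0 : chunkChk sameObj gensD (fun _ => true) GolayFam_dpSx.c2 0 250 = true := by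
  decide +kernel

theorem ck_dpSx_2_250 : chunkChk sameObj gensD (fun _ => true) GolayFam_dpSx.c2 250 250 = true := by
  decide +kernel

theorem ck_dpSx_2_500 : chunkChk sameObj gensD (fun _ => true) GolayFam_dpSx.c2 500 250 = true := by
  decide +kernel

theorem ck_dpSx_2_750 : chunkChk sameObj gensD (fun _ => true) GolayFam_dpSx.c2 750 250 = true := by
  decide +kernel

theorem rows_dpSx_2 : (GolayFam_dpSx.c2.2.2.drop 0).all (rowAll sameObj gensD (fun _ => true) GolayFam_dpSx.c2) = true :=
  chunk_step ck_dpSx_2_0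
    (chunk_step ck_dpSx_2_250
    (chunk_step ck_dpSx_2_500
    (chunk_step ck_dpSx_2_750
    (chunk_end (by decide +kernel)))))

theorem ok_dpSx : GolayFam_dpSx.cls.all (clsChk sameObj gensD sextetB (fun _ => true) (pairL DPL)) = true := by
  refine List.all_eq_true.mpr fun c hc => ?_
  simp only [GolayFam_dpSx.cls, List.mem_cons, List.not_mem_nil, or_false] at hc
  rcases hc with rfl | rfl | rfl
  · exact clsChk_of hd_dpSx_0 rows_dpSx_0
  · exact clsChk_of hd_dpSx_1 rows_dpSx_1
  · exact clsChk_of hd_dpSx_2 rows_dpSx_2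

theorem sum_dpSx : clsSummary GolayFam_dpSx.cls = [([163,17984,1116164,2494464,4726792,8421648], 396), ([15,5264,622848,3416064,4196928,8536096], 495), ([39,45120,786960,1116288,6292736,8536072], 880)] := by
  decide +kernel

theorem nodup_dpSx : (GolayFam_dpSx.cls.map (·.1)).Nodup := by
  decide +kernel

theorem total_dpSx : (GolayFam_dpSx.cls.map fun c => c.2.2.length).sum = 1771 := by
  decide +kernel

theorem parts_dpSx : Parts (stabZ (objOf DPL)) sextets [(objOf [163,17984,1116164,2494464,4726792,8421648], 396), (objOf [15,5264,622848,3416064,4196928,8536096], 495), (objOf [39,45120,786960,1116288,6292736,8536072], 880)] := by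
  have h := parts_obj DPL_good (H := stabZ (objOf DPL)) (fun _ hh => (mem_stabZ.mp hh).2) (hgens_of_stabChk gensD_ok) sextets_finite (fun _ hh _ hy => smul_mem_sextets (mem_stabZ.mp hh).1 hy) (fun _ h1 h2 => objOf_mem_sextets h1 h2) ok_dpSx nodup_dpSx (by rw [total_dpSx, ncard_sextets])
  rw [sum_dpSx] at h
  exact h

end Cfsg.Agent.Lib.GolayFam
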