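import Mathlib
import Cfsg.Prelude.Def_Sporadic_a
import Cfsg.Prelude.Def_SporadicCombinatorics
import Cfsg.Agent.Lib.GolayFamBase
import Cfsg.Agent.Lib.GolayFam_ocSx

/-!
# Orbits: ocSx (certified by generated data)
-/

set_option autoImplicit false
set_option linter.style.haveILetI false
set_option linter.constructorNameAsVariable false
set_option maxRecDepth 100000

open scoped Pointwise

namespace Cfsg.Agent.Lib.GolayFam

open Cfsg Cfsg.Agent.Lib.GolayCode Cfsg.Agent.Lib.GolayFacts Cfsg.Agent.Lib.GolayPerm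
  Cfsg.Agent.Lib.GolayChain Cfsg.Agent.Lib.GolayTrans Cfsg.Agent.Lib.GolayOrbit
  Cfsg.Agent.Lib.GolayKit Cfsg.Agent.Lib.GolayM12 Cfsg.Agent.Lib.GolayFast
  Cfsg.Agent.Lib.GolayFastData Cfsg.Agent.Lib.GolaySets Cfsg.Agent.Lib.GolayMax Cfsg.Agent.Lib.GolayOrbits
  Cfsg.Agent.Lib.GolayFamGens

/-! ### ocSx -/

theorem hd_ocSx_0 : clsHead sextetB (pairL O0L) GolayFam_ocSx.c0 = true := by
  decide +kernel

theorem ck_ocSx_0_0 : chunkChk sameObj gensO (fun _ => true) GolayFam_ocSx.c0 0 250 = true := by
  decide +kernel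

theorem rows_ocSx_0 : (GolayFam_ocSx.c0.2.2.drop 0).all (rowAll sameObj gensO (fun _ => true) GolayFam_ocSx.c0) = true :=
  chunk_step ck_ocSx_0_0
    (chunk_end (by decide +kernel))

theorem hd_ocSx_1 : clsHead sextetB (pairL O0L) GolayFam_ocSx.c1 = true := by
  decide +kernel

theorem ck_ocSx_1_0 : chunkChk sameObj gensO (fun _ => true) GolayFam_ocSx.c1 0 250 = true := by
  decide +kernel

theorem ck_ocSx_1_250 : chunkChk sameObj gensO (fun _ => true) GolayFam_ocSx.c1 250 250 = true := by
  decide +kernel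

theorem ck_ocSx_1_500 : chunkChk sameObj gensO (fun _ => true) GolayFam_ocSx.c1 500 250 = true := by
  decide +kernel

theorem ck_ocSx_1_750 : chunkChk sameObj gensO (fun _ => true) GolayFam_ocSx.c1 750 250 = true := by
  decide +kernel

theorem rows_ocSx_1 : (GolayFam_ocSx.c1.2.2.drop 0).all (rowAll sameObj gensO (fun _ => true) GolayFam_ocSx.c1) = true :=
  chunk_step ck_ocSx_1_0
    (chunk_step ck_ocSx_1_250
    (chunk_step ck_ocSx_1_500
    (chunk_step ck_ocSx_1_750
    (chunk_end (by decide +kernel)))))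

theorem hd_ocSx_2 : clsHead sextetB (pairL O0L) GolayFam_ocSx.c2 = true := by
  decide +kernel

theorem ck_ocSx_2_0 : chunkChk sameObj gensO (fun _ => true) GolayFam_ocSx.c2 0 250 = true := by
  decide +kernel

theorem ck_ocSx_2_250 : chunkChk sameObj gensO (fun _ => true) GolayFam_ocSx.c2 250 250 = true := by
  decide +kernel

theorem ck_ocSx_2_500 : chunkChk sameObj gensO (fun _ => true) GolayFam_ocSx.c2 500 250 = true := by
  decide +kernel

theorem ck_ocSx_2_750 : chunkChk sameObj gensO (fun _ => true) GolayFam_ocSx.c2 750 250 = true := by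
  decide +kernel

theorem rows_ocSx_2 : (GolayFam_ocSx.c2.2.2.drop 0).all (rowAll sameObj gensO (fun _ => true) GolayFam_ocSx.c2) = true :=
  chunk_step ck_ocSx_2_0
    (chunk_step ck_ocSx_2_250
    (chunk_step ck_ocSx_2_500
    (chunk_step ck_ocSx_2_750
    (chunk_end (by decide +kernel)))))

theorem ok_ocSx : GolayFam_ocSx.cls.all (clsChk sameObj gensO sextetB (fun _ => true) (pairL O0L)) = true := by
  refine List.all_eq_true.mpr fun c hc => ?_
  simp only [GolayFam_ocSx.cls, List.mem_cons, List.not_mem_nil, or_false] at hc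
  rcases hc with rfl | rfl | rfl
  · exact clsChk_of hd_ocSx_0 rows_ocSx_0
  · exact clsChk_of hd_ocSx_1 rows_ocSx_1
  · exact clsChk_of hd_ocSx_2 rows_ocSx_2

theorem sum_ocSx : clsSummary GolayFam_ocSx.cls = [([15,5264,622848,3416064,4196928,8536096], 35), ([83,272512,1065220,2162728,4752384,8524288], 840), ([23,5256,786976,1065280,2263040,12656640], 896)] := by
  decide +kernel

theorem nodup_ocSx : (GolayFam_ocSx.cls.map (·.1)).Nodup := by
  decide +kernel

theorem total_ocSx : (GolayFam_ocSx.cls.map fun c => c.2.2.length).sum = 1771 := by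
  decide +kernel

theorem parts_ocSx : Parts (stabZ (supFin octad0)) sextets [(objOf [15,5264,622848,3416064,4196928,8536096], 35), (objOf [83,272512,1065220,2162728,4752384,8524288], 840), (objOf [23,5256,786976,1065280,2263040,12656640], 896)] := by
  have h := parts_obj O0L_good (H := stabZ (supFin octad0)) (fun _ hh => base_O hh) gensO_ok' sextets_finite (fun _ hh _ hy => smul_mem_sextets (mem_stabZ.mp hh).1 hy) (fun _ h1 h2 => objOf_mem_sextets h1 h2) ok_ocSx nodup_ocSx (by rw [total_ocSx, ncard_sextets])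
  rw [sum_ocSx] at h
  exact h

theorem exists_parts_ocSx {o : Finset GolayPt} (ho : o ∈ octads) :
    ∃ g ∈ M24, g • supFin octad0 = o ∧ Parts (stabZ o) sextets [(g • objOf [15,5264,622848,3416064,4196928,8536096], 35), (g • objOf [83,272512,1065220,2162728,4752384,8524288], 840), (g • objOf [23,5256,786976,1065280,2263040,12656640], 896)] :=
  Parts.smul_octad GolayChain.octad0_mem ho (fun _ hg y => smul_sextets_iff hg y) parts_ocSx

end Cfsg.Agent.Lib.GolayFam
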