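import Mathlib
import Cfsg.Prelude.Def_Sporadic_a
import Cfsg.Prelude.Def_SporadicCombinatorics
import Cfsg.Agent.Lib.GolayFamBase
import Cfsg.Agent.Lib.GolayFam_ocTr

/-!
# Orbits: ocTr (certified by generated data)
-/

set_option autoImplicit false
set_option linter.style.haveILetI false
set_option linter.constructorNameAsVariable false
set_option maxRecDepth 100000

open scoped Pointwise

namespace Cfsg.Agent.Lib.GolayFam

open Cfsg Cfsg.Agent.Lib.GolayCode Cfsg.Agent.Lib.GolayFacts Cfsg.Agent.Lib.GolayPerm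
  Cfsg.Agent.Lib.GolayChain Cfsg.Agent.Lib.GolayTrans Cfsg.Agent.Lib.GolayOrbit
  Cfsg.Agent.Lib.GolayKit Cfsg.Agent.Lib.GolayM12 Cfsg.Agent.Lib.GolayFast
  Cfsg.Agent.Lib.GolayFastData Cfsg.Agent.Lib.GolaySets Cfsg.Agent.Lib.GolayMax Cfsg.Agent.Lib.GolayOrbits
  Cfsg.Agent.Lib.GolayFamGens

/-! ### ocTr -/

theorem hd_ocTr_0 : clsHead trioB (pairL O0L) GolayFam_ocTr.c0 = true := by
  decide +kernel

theorem ck_ocTr_0_0 : chunkChk sameObj gensO (fun _ => true) GolayFam_ocTr.c0 0 250 = true := by
  decide +kernel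

theorem rows_ocTr_0 : (GolayFam_ocTr.c0.2.2.drop 0).all (rowAll sameObj gensO (fun _ => true) GolayFam_ocTr.c0) = true :=
  chunk_step ck_ocTr_0_0
    (chunk_end (by decide +kernel))

theorem hd_ocTr_1 : clsHead trioB (pairL O0L) GolayFam_ocTr.c1 = true := by
  decide +kernel

theorem ck_ocTr_1_0 : chunkChk sameObj gensO (fun _ => true) GolayFam_ocTr.c1 0 250 = true := by
  decide +kernel

theorem ck_ocTr_1_250 : chunkChk sameObj gensO (fun _ => true) GolayFam_ocTr.c1 250 250 = true := by
  decide +kernel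

theorem rows_ocTr_1 : (GolayFam_ocTr.c1.2.2.drop 0).all (rowAll sameObj gensO (fun _ => true) GolayFam_ocTr.c1) = true :=
  chunk_step ck_ocTr_1_0
    (chunk_step ck_ocTr_1_250
    (chunk_end (by decide +kernel)))

theorem hd_ocTr_2 : clsHead trioB (pairL O0L) GolayFam_ocTr.c2 = true := by
  decide +kernel

theorem ck_ocTr_2_0 : chunkChk sameObj gensO (fun _ => true) GolayFam_ocTr.c2 0 250 = true := by
  decide +kernel

theorem ck_ocTr_2_250 : chunkChk sameObj gensO (fun _ => true) GolayFam_ocTr.c2 250 250 = true := by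
  decide +kernel

theorem ck_ocTr_2_500 : chunkChk sameObj gensO (fun _ => true) GolayFam_ocTr.c2 500 250 = true := by
  decide +kernel

theorem ck_ocTr_2_750 : chunkChk sameObj gensO (fun _ => true) GolayFam_ocTr.c2 750 250 = true := by
  decide +kernel

theorem ck_ocTr_2_1000 : chunkChk sameObj gensO (fun _ => true) GolayFam_ocTr.c2 1000 250 = true := by
  decide +kernel

theorem ck_ocTr_2_1250 : chunkChk sameObj gensO (fun _ => true) GolayFam_ocTr.c2 1250 250 = true := by
  decide +kernel

theorem ck_ocTr_2_1500 : chunkChk sameObj gensO (fun _ => true) GolayFam_ocTr.c2 1500 250 = true := by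
  decide +kernel

theorem ck_ocTr_2_1750 : chunkChk sameObj gensO (fun _ => true) GolayFam_ocTr.c2 1750 250 = true := by
  decide +kernel

theorem ck_ocTr_2_2000 : chunkChk sameObj gensO (fun _ => true) GolayFam_ocTr.c2 2000 250 = true := by
  decide +kernel

theorem ck_ocTr_2_2250 : chunkChk sameObj gensO (fun _ => true) GolayFam_ocTr.c2 2250 250 = true := by
  decide +kernel

theorem ck_ocTr_2_2500 : chunkChk sameObj gensO (fun _ => true) GolayFam_ocTr.c2 2500 250 = true := by
  decide +kernel

theorem ck_ocTr_2_2750 : chunkChk sameObj gensO (fun _ => true) GolayFam_ocTr.c2 2750 250 = true := by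
  decide +kernel

theorem ck_ocTr_2_3000 : chunkChk sameObj gensO (fun _ => true) GolayFam_ocTr.c2 3000 250 = true := by
  decide +kernel

theorem ck_ocTr_2_3250 : chunkChk sameObj gensO (fun _ => true) GolayFam_ocTr.c2 3250 250 = true := by
  decide +kernel

theorem rows_ocTr_2 : (GolayFam_ocTr.c2.2.2.drop 0).all (rowAll sameObj gensO (fun _ => true) GolayFam_ocTr.c2) = true :=
  chunk_step ck_ocTr_2_0
    (chunk_step ck_ocTr_2_250
    (chunk_step ck_ocTr_2_500
    (chunk_step ck_ocTr_2_750
    (chunk_step ck_ocTr_2_1000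
    (chunk_step ck_ocTr_2_1250
    (chunk_step ck_ocTr_2_1500
    (chunk_step ck_ocTr_2_1750
    (chunk_step ck_ocTr_2_2000
    (chunk_step ck_ocTr_2_2250
    (chunk_step ck_ocTr_2_2500
    (chunk_step ck_ocTr_2_2750
    (chunk_step ck_ocTr_2_3000
    (chunk_step ck_ocTr_2_3250
    (chunk_end (by decide +kernel)))))))))))))))

theorem ok_ocTr : GolayFam_ocTr.cls.all (clsChk sameObj gensO trioB (fun _ => true) (pairL O0L)) = true := by
  refine List.all_eq_true.mpr fun c hc => ?_
  simp only [GolayFam_ocTr.cls, List.mem_cons, List.not_mem_nil, or_false] at hc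
  rcases hc with rfl | rfl | rfl
  · exact clsChk_of hd_ocTr_0 rows_ocTr_0
  · exact clsChk_of hd_ocTr_1 rows_ocTr_1
  · exact clsChk_of hd_ocTr_2 rows_ocTr_2

theorem sum_ocTr : clsSummary GolayFam_ocTr.cls = [([337856,7903248,8536111], 15), ([5279,4038912,12733024], 420), ([5279,1009728,15762208], 3360)] := by
  decide +kernel

theorem nodup_ocTr : (GolayFam_ocTr.cls.map (·.1)).Nodup := by
  decide +kernel

theorem total_ocTr : (GolayFam_ocTr.cls.map fun c => c.2.2.length).sum = 3795 := by
  decide +kernel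

theorem parts_ocTr : Parts (stabZ (supFin octad0)) trios [(objOf [337856,7903248,8536111], 15), (objOf [5279,4038912,12733024], 420), (objOf [5279,1009728,15762208], 3360)] := by
  have h := parts_obj O0L_good (H := stabZ (supFin octad0)) (fun _ hh => base_O hh) gensO_ok' trios_finite (fun _ hh _ hy => smul_mem_trios (mem_stabZ.mp hh).1 hy) (fun _ h1 h2 => objOf_mem_trios h1 h2) ok_ocTr nodup_ocTr (by rw [total_ocTr, ncard_trios])
  rw [sum_ocTr] at h
  exact h

theorem exists_parts_ocTr {o : Finset GolayPt} (ho : o ∈ octads) :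
    ∃ g ∈ M24, g • supFin octad0 = o ∧ Parts (stabZ o) trios [(g • objOf [337856,7903248,8536111], 15), (g • objOf [5279,4038912,12733024], 420), (g • objOf [5279,1009728,15762208], 3360)] :=
  Parts.smul_octad GolayChain.octad0_mem ho (fun _ hg y => smul_trios_iff hg y) parts_ocTr

end Cfsg.Agent.Lib.GolayFam
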