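import Mathlib
import Cfsg.Prelude.Def_Sporadic_a
import Cfsg.Prelude.Def_SporadicCombinatorics
import Cfsg.Agent.Lib.GolayFamBase
import Cfsg.Agent.Lib.GolayFam_sxSx

/-!
# Orbits: sxSx (certified by generated data)
-/

set_option autoImplicit false
set_option linter.style.haveILetI false
set_option linter.constructorNameAsVariable false
set_option maxRecDepth 100000

open scoped Pointwise

namespace Cfsg.Agent.Lib.GolayFam

open Cfsg Cfsg.Agent.Lib.GolayCode Cfsg.Agent.Lib.GolayFacts Cfsg.Agent.Lib.GolayPerm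
  Cfsg.Agent.Lib.GolayChain Cfsg.Agent.Lib.GolayTrans Cfsg.Agent.Lib.GolayOrbit
  Cfsg.Agent.Lib.GolayKit Cfsg.Agent.Lib.GolayM12 Cfsg.Agent.Lib.GolayFast
  Cfsg.Agent.Lib.GolayFastData Cfsg.Agent.Lib.GolaySets Cfsg.Agent.Lib.GolayMax Cfsg.Agent.Lib.GolayOrbits
  Cfsg.Agent.Lib.GolayFamGens

/-! ### sxSx -/

theorem hd_sxSx_0 : clsHead sextetB (pairL S0L) GolayFam_sxSx.c0 = true := by
  decide +kernel

theorem ck_sxSx_0_0 : chunkChk sameObj gensS (fun _ => true) GolayFam_sxSx.c0 0 250 = true := by
  decide +kernel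

theorem rows_sxSx_0 : (GolayFam_sxSx.c0.2.2.drop 0).all (rowAll sameObj gensS (fun _ => true) GolayFam_sxSx.c0) = true :=
  chunk_step ck_sxSx_0_0
    (chunk_end (by decide +kernel))

theorem hd_sxSx_1 : clsHead sextetB (pairL S0L) GolayFam_sxSx.c1 = true := by
  decide +kernel

theorem ck_sxSx_1_0 : chunkChk sameObj gensS (fun _ => true) GolayFam_sxSx.c1 0 250 = true := by
  decide +kernel

theorem rows_sxSx_1 : (GolayFam_sxSx.c1.2.2.drop 0).all (rowAll sameObj gensS (fun _ => true) GolayFam_sxSx.c1) = true :=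
  chunk_step ck_sxSx_1_0
    (chunk_end (by decide +kernel))

theorem hd_sxSx_2 : clsHead sextetB (pairL S0L) GolayFam_sxSx.c2 = true := by
  decide +kernel

theorem ck_sxSx_2_0 : chunkChk sameObj gensS (fun _ => true) GolayFam_sxSx.c2 0 250 = true := by
  decide +kernel

theorem rows_sxSx_2 : (GolayFam_sxSx.c2.2.2.drop 0).all (rowAll sameObj gensS (fun _ => true) GolayFam_sxSx.c2) = true :=
  chunk_step ck_sxSx_2_0
    (chunk_end (by decide +kernel))

theorem hd_sxSx_3 : clsHead sextetB (pairL S0L) GolayFam_sxSx.c3 = true := by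
  decide +kernel

theorem ck_sxSx_3_0 : chunkChk sameObj gensS (fun _ => true) GolayFam_sxSx.c3 0 250 = true := by
  decide +kernel

theorem ck_sxSx_3_250 : chunkChk sameObj gensS (fun _ => true) GolayFam_sxSx.c3 250 250 = true := by
  decide +kernel

theorem ck_sxSx_3_500 : chunkChk sameObj gensS (fun _ => true) GolayFam_sxSx.c3 500 250 = true := by
  decide +kernel

theorem ck_sxSx_3_750 : chunkChk sameObj gensS (fun _ => true) GolayFam_sxSx.c3 750 250 = true := by
  decide +kernel

theorem ck_sxSx_3_1000 : chunkChk sameObj gensS (fun _ => true) GolayFam_sxSx.c3 1000 250 = true := by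
  decide +kernel

theorem ck_sxSx_3_1250 : chunkChk sameObj gensS (fun _ => true) GolayFam_sxSx.c3 1250 250 = true := by
  decide +kernel

theorem rows_sxSx_3 : (GolayFam_sxSx.c3.2.2.drop 0).all (rowAll sameObj gensS (fun _ => true) GolayFam_sxSx.c3) = true :=
  chunk_step ck_sxSx_3_0
    (chunk_step ck_sxSx_3_250
    (chunk_step ck_sxSx_3_500
    (chunk_step ck_sxSx_3_750
    (chunk_step ck_sxSx_3_1000
    (chunk_step ck_sxSx_3_1250
    (chunk_end (by decide +kernel)))))))

theorem ok_sxSx : GolayFam_sxSx.cls.all (clsChk sameObj gensS sextetB (fun _ => true) (pairL S0L)) = true := by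
  refine List.all_eq_true.mpr fun c hc => ?_
  simp only [GolayFam_sxSx.cls, List.mem_cons, List.not_mem_nil, or_false] at hc
  rcases hc with rfl | rfl | rfl | rfl
  · exact clsChk_of hd_sxSx_0 rows_sxSx_0
  · exact clsChk_of hd_sxSx_1 rows_sxSx_1
  · exact clsChk_of hd_sxSx_2 rows_sxSx_2
  · exact clsChk_of hd_sxSx_3 rows_sxSx_3

theorem sum_sxSx : clsSummary GolayFam_sxSx.cls = [([147496,268544,1082880,2621632,4268048,8388615], 1), ([43,297984,1053440,2162768,4726912,8536068], 90), ([15,5264,622848,3416064,4196928,8536096], 240), ([27,5252,57856,2162784,4587776,9963520], 1440)] := by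
  decide +kernel

theorem nodup_sxSx : (GolayFam_sxSx.cls.map (·.1)).Nodup := by
  decide +kernel

theorem total_sxSx : (GolayFam_sxSx.cls.map fun c => c.2.2.length).sum = 1771 := by
  decide +kernel

theorem parts_sxSx : Parts (stabZ (objOf S0L)) sextets [(objOf [147496,268544,1082880,2621632,4268048,8388615], 1), (objOf [43,297984,1053440,2162768,4726912,8536068], 90), (objOf [15,5264,622848,3416064,4196928,8536096], 240), (objOf [27,5252,57856,2162784,4587776,9963520], 1440)] := by
  have h := parts_obj S0L_good (H := stabZ (objOf S0L)) (fun _ hh => (mem_stabZ.mp hh).2) (hgens_of_stabChk gensS_ok) sextets_finite (fun _ hh _ hy => smul_mem_sextets (mem_stabZ.mp hh).1 hy) (fun _ h1 h2 => objOf_mem_sextets h1 h2) ok_sxSx nodup_sxSx (by rw [total_sxSx, ncard_sextets])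
  rw [sum_sxSx] at h
  exact h

theorem exists_parts_sxSx {S : Finset (Finset GolayPt)} (hS : S ∈ sextets) :
    ∃ g ∈ M24, g • objOf S0L = S ∧ Parts (stabZ S) sextets [(g • objOf [147496,268544,1082880,2621632,4268048,8388615], 1), (g • objOf [43,297984,1053440,2162768,4726912,8536068], 90), (g • objOf [15,5264,622848,3416064,4196928,8536096], 240), (g • objOf [27,5252,57856,2162784,4587776,9963520], 1440)] :=
  Parts.smul_sextet S0_mem hS (fun _ hg y => smul_sextets_iff hg y) parts_sxSx

end Cfsg.Agent.Lib.GolayFam
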