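import Mathlib
import Cfsg.Prelude.Def_Sporadic_a
import Cfsg.Prelude.Def_SporadicCombinatorics
import Cfsg.Agent.Lib.GolayFamBase
import Cfsg.Agent.Lib.GolayFam_sxTr

/-!
# Orbits: sxTr (certified by generated data)
-/

set_option autoImplicit false
set_option linter.style.haveILetI false
set_option linter.constructorNameAsVariable false
set_option maxRecDepth 100000

open scoped Pointwise

namespace Cfsg.Agent.Lib.GolayFam

open Cfsg Cfsg.Agent.Lib.GolayCode Cfsg.Agent.Lib.GolayFacts Cfsg.Agent.Lib.GolayPerm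
  Cfsg.Agent.Lib.GolayChain Cfsg.Agent.Lib.GolayTrans Cfsg.Agent.Lib.GolayOrbit
  Cfsg.Agent.Lib.GolayKit Cfsg.Agent.Lib.GolayM12 Cfsg.Agent.Lib.GolayFast
  Cfsg.Agent.Lib.GolayFastData Cfsg.Agent.Lib.GolaySets Cfsg.Agent.Lib.GolayMax Cfsg.Agent.Lib.GolayOrbits
  Cfsg.Agent.Lib.GolayFamGens

/-! ### sxTr -/

theorem hd_sxTr_0 : clsHead trioB (pairL S0L) GolayFam_sxTr.c0 = true := by
  decide +kernel

theorem ck_sxTr_0_0 : chunkChk sameObj gensS (fun _ => true) GolayFam_sxTr.c0 0 250 = true := by
  decide +kernel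

theorem rows_sxTr_0 : (GolayFam_sxTr.c0.2.2.drop 0).all (rowAll sameObj gensS (fun _ => true) GolayFam_sxTr.c0) = true :=
  chunk_step ck_sxTr_0_0
    (chunk_end (by decide +kernel))

theorem hd_sxTr_1 : clsHead trioB (pairL S0L) GolayFam_sxTr.c1 = true := by
  decide +kernel

theorem ck_sxTr_1_0 : chunkChk sameObj gensS (fun _ => true) GolayFam_sxTr.c1 0 250 = true := by
  decide +kernel

theorem rows_sxTr_1 : (GolayFam_sxTr.c1.2.2.drop 0).all (rowAll sameObj gensS (fun _ => true) GolayFam_sxTr.c1) = true :=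
  chunk_step ck_sxTr_1_0
    (chunk_end (by decide +kernel))

theorem hd_sxTr_2 : clsHead trioB (pairL S0L) GolayFam_sxTr.c2 = true := by
  decide +kernel

theorem ck_sxTr_2_0 : chunkChk sameObj gensS (fun _ => true) GolayFam_sxTr.c2 0 250 = true := by
  decide +kernel

theorem ck_sxTr_2_250 : chunkChk sameObj gensS (fun _ => true) GolayFam_sxTr.c2 250 250 = true := by
  decide +kernel

theorem ck_sxTr_2_500 : chunkChk sameObj gensS (fun _ => true) GolayFam_sxTr.c2 500 250 = true := by
  decide +kernel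

theorem rows_sxTr_2 : (GolayFam_sxTr.c2.2.2.drop 0).all (rowAll sameObj gensS (fun _ => true) GolayFam_sxTr.c2) = true :=
  chunk_step ck_sxTr_2_0
    (chunk_step ck_sxTr_2_250
    (chunk_step ck_sxTr_2_500
    (chunk_end (by decide +kernel))))

theorem hd_sxTr_3 : clsHead trioB (pairL S0L) GolayFam_sxTr.c3 = true := by
  decide +kernel

theorem ck_sxTr_3_0 : chunkChk sameObj gensS (fun _ => true) GolayFam_sxTr.c3 0 250 = true := by
  decide +kernel

theorem ck_sxTr_3_250 : chunkChk sameObj gensS (fun _ => true) GolayFam_sxTr.c3 250 250 = true := by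
  decide +kernel

theorem ck_sxTr_3_500 : chunkChk sameObj gensS (fun _ => true) GolayFam_sxTr.c3 500 250 = true := by
  decide +kernel

theorem ck_sxTr_3_750 : chunkChk sameObj gensS (fun _ => true) GolayFam_sxTr.c3 750 250 = true := by
  decide +kernel

theorem ck_sxTr_3_1000 : chunkChk sameObj gensS (fun _ => true) GolayFam_sxTr.c3 1000 250 = true := by
  decide +kernel

theorem ck_sxTr_3_1250 : chunkChk sameObj gensS (fun _ => true) GolayFam_sxTr.c3 1250 250 = true := by
  decide +kernel

theorem ck_sxTr_3_1500 : chunkChk sameObj gensS (fun _ => true) GolayFam_sxTr.c3 1500 250 = true := by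
  decide +kernel

theorem ck_sxTr_3_1750 : chunkChk sameObj gensS (fun _ => true) GolayFam_sxTr.c3 1750 250 = true := by
  decide +kernel

theorem ck_sxTr_3_2000 : chunkChk sameObj gensS (fun _ => true) GolayFam_sxTr.c3 2000 250 = true := by
  decide +kernel

theorem ck_sxTr_3_2250 : chunkChk sameObj gensS (fun _ => true) GolayFam_sxTr.c3 2250 250 = true := by
  decide +kernel

theorem ck_sxTr_3_2500 : chunkChk sameObj gensS (fun _ => true) GolayFam_sxTr.c3 2500 250 = true := by
  decide +kernel

theorem ck_sxTr_3_2750 : chunkChk sameObj gensS (fun _ => true) GolayFam_sxTr.c3 2750 250 = true := by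
  decide +kernel

theorem rows_sxTr_3 : (GolayFam_sxTr.c3.2.2.drop 0).all (rowAll sameObj gensS (fun _ => true) GolayFam_sxTr.c3) = true :=
  chunk_step ck_sxTr_3_0
    (chunk_step ck_sxTr_3_250
    (chunk_step ck_sxTr_3_500
    (chunk_step ck_sxTr_3_750
    (chunk_step ck_sxTr_3_1000
    (chunk_step ck_sxTr_3_1250
    (chunk_step ck_sxTr_3_1500
    (chunk_step ck_sxTr_3_1750
    (chunk_step ck_sxTr_3_2000
    (chunk_step ck_sxTr_3_2250
    (chunk_step ck_sxTr_3_2500
    (chunk_step ck_sxTr_3_2750
    (chunk_end (by decide +kernel)))))))))))))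

theorem ok_sxTr : GolayFam_sxTr.cls.all (clsChk sameObj gensS trioB (fun _ => true) (pairL S0L)) = true := by
  refine List.all_eq_true.mpr fun c hc => ?_
  simp only [GolayFam_sxTr.cls, List.mem_cons, List.not_mem_nil, or_false] at hc
  rcases hc with rfl | rfl | rfl | rfl
  · exact clsChk_of hd_sxTr_0 rows_sxTr_0
  · exact clsChk_of hd_sxTr_1 rows_sxTr_1
  · exact clsChk_of hd_sxTr_2 rows_sxTr_2
  · exact clsChk_of hd_sxTr_3 rows_sxTr_3

theorem sum_sxTr : clsSummary GolayFam_sxTr.cls = [([416040,3704512,12656663], 15), ([10558,3704512,13062145], 180), ([10558,2019456,14747201], 720), ([5279,1009728,15762208], 2880)] := by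
  decide +kernel

theorem nodup_sxTr : (GolayFam_sxTr.cls.map (·.1)).Nodup := by
  decide +kernel

theorem total_sxTr : (GolayFam_sxTr.cls.map fun c => c.2.2.length).sum = 3795 := by
  decide +kernel

theorem parts_sxTr : Parts (stabZ (objOf S0L)) trios [(objOf [416040,3704512,12656663], 15), (objOf [10558,3704512,13062145], 180), (objOf [10558,2019456,14747201], 720), (objOf [5279,1009728,15762208], 2880)] := by
  have h := parts_obj S0L_good (H := stabZ (objOf S0L)) (fun _ hh => (mem_stabZ.mp hh).2) (hgens_of_stabChk gensS_ok) trios_finite (fun _ hh _ hy => smul_mem_trios (mem_stabZ.mp hh).1 hy) (fun _ h1 h2 => objOf_mem_trios h1 h2) ok_sxTr nodup_sxTr (by rw [total_sxTr, ncard_trios])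
  rw [sum_sxTr] at h
  exact h

theorem exists_parts_sxTr {S : Finset (Finset GolayPt)} (hS : S ∈ sextets) :
    ∃ g ∈ M24, g • objOf S0L = S ∧ Parts (stabZ S) trios [(g • objOf [416040,3704512,12656663], 15), (g • objOf [10558,3704512,13062145], 180), (g • objOf [10558,2019456,14747201], 720), (g • objOf [5279,1009728,15762208], 2880)] :=
  Parts.smul_sextet S0_mem hS (fun _ hg y => smul_trios_iff hg y) parts_sxTr

end Cfsg.Agent.Lib.GolayFam
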