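import Mathlib
import Cfsg.Prelude.Def_Sporadic_a
import Cfsg.Prelude.Def_SporadicCombinatorics
import Cfsg.Agent.Lib.GolayFamBase
import Cfsg.Agent.Lib.GolayFam_trSx

/-!
# Orbits: trSx (certified by generated data)
-/

set_option autoImplicit false
set_option linter.style.haveILetI false
set_option linter.constructorNameAsVariable false
set_option maxRecDepth 100000

open scoped Pointwise

namespace Cfsg.Agent.Lib.GolayFam

open Cfsg Cfsg.Agent.Lib.GolayCode Cfsg.Agent.Lib.GolayFacts Cfsg.Agent.Lib.GolayPerm
  Cfsg.Agent.Lib.GolayChain Cfsg.Agent.Lib.GolayTrans Cfsg.Agent.Lib.GolayOrbit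
  Cfsg.Agent.Lib.GolayKit Cfsg.Agent.Lib.GolayM12 Cfsg.Agent.Lib.GolayFast
  Cfsg.Agent.Lib.GolayFastData Cfsg.Agent.Lib.GolaySets Cfsg.Agent.Lib.GolayMax Cfsg.Agent.Lib.GolayOrbits
  Cfsg.Agent.Lib.GolayFamGens

/-! ### trSx -/

theorem hd_trSx_0 : clsHead sextetB (pairL T0L) GolayFam_trSx.c0 = true := by
  decide +kernel

theorem ck_trSx_0_0 : chunkChk sameObj gensT (fun _ => true) GolayFam_trSx.c0 0 250 = true := by
  decide +kernel

theorem rows_trSx_0 : (GolayFam_trSx.c0.2.2.drop 0).all (rowAll sameObj gensT (fun _ => true) GolayFam_trSx.c0) = true :=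
  chunk_step ck_trSx_0_0
    (chunk_end (by decide +kernel))

theorem hd_trSx_1 : clsHead sextetB (pairL T0L) GolayFam_trSx.c1 = true := by
  decide +kernel

theorem ck_trSx_1_0 : chunkChk sameObj gensT (fun _ => true) GolayFam_trSx.c1 0 250 = true := by
  decide +kernel

theorem rows_trSx_1 : (GolayFam_trSx.c1.2.2.drop 0).all (rowAll sameObj gensT (fun _ => true) GolayFam_trSx.c1) = true :=
  chunk_step ck_trSx_1_0
    (chunk_end (by decide +kernel))

theorem hd_trSx_2 : clsHead sextetB (pairL T0L) GolayFam_trSx.c2 = true := by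
  decide +kernel

theorem ck_trSx_2_0 : chunkChk sameObj gensT (fun _ => true) GolayFam_trSx.c2 0 250 = true := by
  decide +kernel

theorem ck_trSx_2_250 : chunkChk sameObj gensT (fun _ => true) GolayFam_trSx.c2 250 250 = true := by
  decide +kernel

theorem rows_trSx_2 : (GolayFam_trSx.c2.2.2.drop 0).all (rowAll sameObj gensT (fun _ => true) GolayFam_trSx.c2) = true :=
  chunk_step ck_trSx_2_0
    (chunk_step ck_trSx_2_250
    (chunk_end (by decide +kernel)))

theorem hd_trSx_3 : clsHead sextetB (pairL T0L) GolayFam_trSx.c3 = true := by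
  decide +kernel

theorem ck_trSx_3_0 : chunkChk sameObj gensT (fun _ => true) GolayFam_trSx.c3 0 250 = true := by
  decide +kernel

theorem ck_trSx_3_250 : chunkChk sameObj gensT (fun _ => true) GolayFam_trSx.c3 250 250 = true := by
  decide +kernel

theorem ck_trSx_3_500 : chunkChk sameObj gensT (fun _ => true) GolayFam_trSx.c3 500 250 = true := by
  decide +kernel

theorem ck_trSx_3_750 : chunkChk sameObj gensT (fun _ => true) GolayFam_trSx.c3 750 250 = true := by
  decide +kernel

theorem ck_trSx_3_1000 : chunkChk sameObj gensT (fun _ => true) GolayFam_trSx.c3 1000 250 = true := by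
  decide +kernel

theorem ck_trSx_3_1250 : chunkChk sameObj gensT (fun _ => true) GolayFam_trSx.c3 1250 250 = true := by
  decide +kernel

theorem rows_trSx_3 : (GolayFam_trSx.c3.2.2.drop 0).all (rowAll sameObj gensT (fun _ => true) GolayFam_trSx.c3) = true :=
  chunk_step ck_trSx_3_0
    (chunk_step ck_trSx_3_250
    (chunk_step ck_trSx_3_500
    (chunk_step ck_trSx_3_750
    (chunk_step ck_trSx_3_1000
    (chunk_step ck_trSx_3_1250
    (chunk_end (by decide +kernel)))))))

theorem ok_trSx : GolayFam_trSx.cls.all (clsChk sameObj gensT sextetB (fun _ => true) (pairL T0L)) = true := by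
  refine List.all_eq_true.mpr fun c hc => ?_
  simp only [GolayFam_trSx.cls, List.mem_cons, List.not_mem_nil, or_false] at hc
  rcases hc with rfl | rfl | rfl | rfl
  · exact clsChk_of hd_trSx_0 rows_trSx_0
  · exact clsChk_of hd_trSx_1 rows_trSx_1
  · exact clsChk_of hd_trSx_2 rows_trSx_2
  · exact clsChk_of hd_trSx_3 rows_trSx_3

theorem sum_trSx : clsSummary GolayFam_trSx.cls = [([29,5250,346112,663616,5275680,10486528], 7), ([15,5264,622848,3416064,4196928,8536096], 84), ([293,51712,200720,262344,6292482,9969664], 336), ([39,45120,786960,1116288,6292736,8536072], 1344)] := by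
  decide +kernel

theorem nodup_trSx : (GolayFam_trSx.cls.map (·.1)).Nodup := by
  decide +kernel

theorem total_trSx : (GolayFam_trSx.cls.map fun c => c.2.2.length).sum = 1771 := by
  decide +kernel

theorem parts_trSx : Parts (stabZ (objOf T0L)) sextets [(objOf [29,5250,346112,663616,5275680,10486528], 7), (objOf [15,5264,622848,3416064,4196928,8536096], 84), (objOf [293,51712,200720,262344,6292482,9969664], 336), (objOf [39,45120,786960,1116288,6292736,8536072], 1344)] := by
  have h := parts_obj T0L_good (H := stabZ (objOf T0L)) (fun _ hh => (mem_stabZ.mp hh).2) (hgens_of_stabChk gensT_ok) sextets_finite (fun _ hh _ hy => smul_mem_sextets (mem_stabZ.mp hh).1 hy) (fun _ h1 h2 => objOf_mem_sextets h1 h2) ok_trSx nodup_trSx (by rw [total_trSx, ncard_sextets])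
  rw [sum_trSx] at h
  exact h

theorem exists_parts_trSx {T : Finset (Finset GolayPt)} (hT : T ∈ trios) :
    ∃ g ∈ M24, g • objOf T0L = T ∧ Parts (stabZ T) sextets [(g • objOf [29,5250,346112,663616,5275680,10486528], 7), (g • objOf [15,5264,622848,3416064,4196928,8536096], 84), (g • objOf [293,51712,200720,262344,6292482,9969664], 336), (g • objOf [39,45120,786960,1116288,6292736,8536072], 1344)] :=
  Parts.smul_trio T0_mem hT (fun _ hg y => smul_sextets_iff hg y) parts_trSx

end Cfsg.Agent.Lib.GolayFam
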