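import Mathlib
import Cfsg.Prelude.Def_Sporadic_a
import Cfsg.Prelude.Def_SporadicCombinatorics
import Cfsg.Agent.Lib.GolayFamBase
import Cfsg.Agent.Lib.GolayFam_trTr

/-!
# Orbits: trTr (certified by generated data)
-/

set_option autoImplicit false
set_option linter.style.haveILetI false
set_option linter.constructorNameAsVariable false
set_option maxRecDepth 100000

open scoped Pointwise

namespace Cfsg.Agent.Lib.GolayFam

open Cfsg Cfsg.Agent.Lib.GolayCode Cfsg.Agent.Lib.GolayFacts Cfsg.Agent.Lib.GolayPerm
  Cfsg.Agent.Lib.GolayChain Cfsg.Agent.Lib.GolayTrans Cfsg.Agent.Lib.GolayOrbit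
  Cfsg.Agent.Lib.GolayKit Cfsg.Agent.Lib.GolayM12 Cfsg.Agent.Lib.GolayFast
  Cfsg.Agent.Lib.GolayFastData Cfsg.Agent.Lib.GolaySets Cfsg.Agent.Lib.GolayMax Cfsg.Agent.Lib.GolayOrbits
  Cfsg.Agent.Lib.GolayFamGens

/-! ### trTr -/

theorem hd_trTr_0 : clsHead trioB (pairL T0L) GolayFam_trTr.c0 = true := by
  decide +kernel

theorem ck_trTr_0_0 : chunkChk sameObj gensT (fun _ => true) GolayFam_trTr.c0 0 250 = true := by
  decide +kernel

theorem rows_trTr_0 : (GolayFam_trTr.c0.2.2.drop 0).all (rowAll sameObj gensT (fun _ => true) GolayFam_trTr.c0) = true :=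
  chunk_step ck_trTr_0_0
    (chunk_end (by decide +kernel))

theorem hd_trTr_1 : clsHead trioB (pairL T0L) GolayFam_trTr.c1 = true := by
  decide +kernel

theorem ck_trTr_1_0 : chunkChk sameObj gensT (fun _ => true) GolayFam_trTr.c1 0 250 = true := by
  decide +kernel

theorem rows_trTr_1 : (GolayFam_trTr.c1.2.2.drop 0).all (rowAll sameObj gensT (fun _ => true) GolayFam_trTr.c1) = true :=
  chunk_step ck_trTr_1_0
    (chunk_end (by decide +kernel))

theorem hd_trTr_2 : clsHead trioB (pairL T0L) GolayFam_trTr.c2 = true := by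
  decide +kernel

theorem ck_trTr_2_0 : chunkChk sameObj gensT (fun _ => true) GolayFam_trTr.c2 0 250 = true := by
  decide +kernel

theorem rows_trTr_2 : (GolayFam_trTr.c2.2.2.drop 0).all (rowAll sameObj gensT (fun _ => true) GolayFam_trTr.c2) = true :=
  chunk_step ck_trTr_2_0
    (chunk_end (by decide +kernel))

theorem hd_trTr_3 : clsHead trioB (pairL T0L) GolayFam_trTr.c3 = true := by
  decide +kernel

theorem ck_trTr_3_0 : chunkChk sameObj gensT (fun _ => true) GolayFam_trTr.c3 0 250 = true := by
  decide +kernel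

theorem ck_trTr_3_250 : chunkChk sameObj gensT (fun _ => true) GolayFam_trTr.c3 250 250 = true := by
  decide +kernel

theorem ck_trTr_3_500 : chunkChk sameObj gensT (fun _ => true) GolayFam_trTr.c3 500 250 = true := by
  decide +kernel

theorem ck_trTr_3_750 : chunkChk sameObj gensT (fun _ => true) GolayFam_trTr.c3 750 250 = true := by
  decide +kernel

theorem ck_trTr_3_1000 : chunkChk sameObj gensT (fun _ => true) GolayFam_trTr.c3 1000 250 = true := by
  decide +kernel

theorem rows_trTr_3 : (GolayFam_trTr.c3.2.2.drop 0).all (rowAll sameObj gensT (fun _ => true) GolayFam_trTr.c3) = true :=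
  chunk_step ck_trTr_3_0
    (chunk_step ck_trTr_3_250
    (chunk_step ck_trTr_3_500
    (chunk_step ck_trTr_3_750
    (chunk_step ck_trTr_3_1000
    (chunk_end (by decide +kernel))))))

theorem hd_trTr_4 : clsHead trioB (pairL T0L) GolayFam_trTr.c4 = true := by
  decide +kernel

theorem ck_trTr_4_0 : chunkChk sameObj gensT (fun _ => true) GolayFam_trTr.c4 0 250 = true := by
  decide +kernel

theorem ck_trTr_4_250 : chunkChk sameObj gensT (fun _ => true) GolayFam_trTr.c4 250 250 = true := by
  decide +kernel

theorem ck_trTr_4_500 : chunkChk sameObj gensT (fun _ => true) GolayFam_trTr.c4 500 250 = true := by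
  decide +kernel

theorem ck_trTr_4_750 : chunkChk sameObj gensT (fun _ => true) GolayFam_trTr.c4 750 250 = true := by
  decide +kernel

theorem ck_trTr_4_1000 : chunkChk sameObj gensT (fun _ => true) GolayFam_trTr.c4 1000 250 = true := by
  decide +kernel

theorem ck_trTr_4_1250 : chunkChk sameObj gensT (fun _ => true) GolayFam_trTr.c4 1250 250 = true := by
  decide +kernel

theorem ck_trTr_4_1500 : chunkChk sameObj gensT (fun _ => true) GolayFam_trTr.c4 1500 250 = true := by
  decide +kernel

theorem ck_trTr_4_1750 : chunkChk sameObj gensT (fun _ => true) GolayFam_trTr.c4 1750 250 = true := by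
  decide +kernel

theorem ck_trTr_4_2000 : chunkChk sameObj gensT (fun _ => true) GolayFam_trTr.c4 2000 250 = true := by
  decide +kernel

theorem ck_trTr_4_2250 : chunkChk sameObj gensT (fun _ => true) GolayFam_trTr.c4 2250 250 = true := by
  decide +kernel

theorem ck_trTr_4_2500 : chunkChk sameObj gensT (fun _ => true) GolayFam_trTr.c4 2500 250 = true := by
  decide +kernel

theorem rows_trTr_4 : (GolayFam_trTr.c4.2.2.drop 0).all (rowAll sameObj gensT (fun _ => true) GolayFam_trTr.c4) = true :=
  chunk_step ck_trTr_4_0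
    (chunk_step ck_trTr_4_250
    (chunk_step ck_trTr_4_500
    (chunk_step ck_trTr_4_750
    (chunk_step ck_trTr_4_1000
    (chunk_step ck_trTr_4_1250
    (chunk_step ck_trTr_4_1500
    (chunk_step ck_trTr_4_1750
    (chunk_step ck_trTr_4_2000
    (chunk_step ck_trTr_4_2250
    (chunk_step ck_trTr_4_2500
    (chunk_end (by decide +kernel))))))))))))

theorem ok_trTr : GolayFam_trTr.cls.all (clsChk sameObj gensT trioB (fun _ => true) (pairL T0L)) = true := by
  refine List.all_eq_true.mpr fun c hc => ?_
  simp only [GolayFam_trTr.cls, List.mem_cons, List.not_mem_nil, or_false] at hc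
  rcases hc with rfl | rfl | rfl | rfl | rfl
  · exact clsChk_of hd_trTr_0 rows_trTr_0
  · exact clsChk_of hd_trTr_1 rows_trTr_1
  · exact clsChk_of hd_trTr_2 rows_trTr_2
  · exact clsChk_of hd_trTr_3 rows_trTr_3
  · exact clsChk_of hd_trTr_4 rows_trTr_4

theorem sum_trTr : clsSummary GolayFam_trTr.cls = [([5279,1009728,15762208], 1), ([5279,1256224,15515712], 42), ([90318,2135601,14551296], 56), ([10558,1250945,15515712], 1008), ([10558,902657,15864000], 2688)] := by
  decide +kernel

theorem nodup_trTr : (GolayFam_trTr.cls.map (·.1)).Nodup := by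
  decide +kernel

theorem total_trTr : (GolayFam_trTr.cls.map fun c => c.2.2.length).sum = 3795 := by
  decide +kernel

theorem parts_trTr : Parts (stabZ (objOf T0L)) trios [(objOf [5279,1009728,15762208], 1), (objOf [5279,1256224,15515712], 42), (objOf [90318,2135601,14551296], 56), (objOf [10558,1250945,15515712], 1008), (objOf [10558,902657,15864000], 2688)] := by
  have h := parts_obj T0L_good (H := stabZ (objOf T0L)) (fun _ hh => (mem_stabZ.mp hh).2) (hgens_of_stabChk gensT_ok) trios_finite (fun _ hh _ hy => smul_mem_trios (mem_stabZ.mp hh).1 hy) (fun _ h1 h2 => objOf_mem_trios h1 h2) ok_trTr nodup_trTr (by rw [total_trTr, ncard_trios])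
  rw [sum_trTr] at h
  exact h

theorem exists_parts_trTr {T : Finset (Finset GolayPt)} (hT : T ∈ trios) :
    ∃ g ∈ M24, g • objOf T0L = T ∧ Parts (stabZ T) trios [(g • objOf [5279,1009728,15762208], 1), (g • objOf [5279,1256224,15515712], 42), (g • objOf [90318,2135601,14551296], 56), (g • objOf [10558,1250945,15515712], 1008), (g • objOf [10558,902657,15864000], 2688)] :=
  Parts.smul_trio T0_mem hT (fun _ hg y => smul_trios_iff hg y) parts_trTr

end Cfsg.Agent.Lib.GolayFam
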