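import Mathlib
import Cfsg.Prelude.Def_Sporadic_a
import Cfsg.Prelude.Def_SporadicCombinatorics
import Cfsg.Agent.Lib.GolayFamBase
import Cfsg.Agent.Lib.GolayFam_y3Sx

/-!
# Orbits: y3Sx (certified by generated data)
-/

set_option autoImplicit false
set_option linter.style.haveILetI false
set_option linter.constructorNameAsVariable false
set_option maxRecDepth 100000

open scoped Pointwise

namespace Cfsg.Agent.Lib.GolayFam

open Cfsg Cfsg.Agent.Lib.GolayCode Cfsg.Agent.Lib.GolayFacts Cfsg.Agent.Lib.GolayPerm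
  Cfsg.Agent.Lib.GolayChain Cfsg.Agent.Lib.GolayTrans Cfsg.Agent.Lib.GolayOrbit
  Cfsg.Agent.Lib.GolayKit Cfsg.Agent.Lib.GolayM12 Cfsg.Agent.Lib.GolayFast
  Cfsg.Agent.Lib.GolayFastData Cfsg.Agent.Lib.GolaySets Cfsg.Agent.Lib.GolayMax Cfsg.Agent.Lib.GolayOrbits
  Cfsg.Agent.Lib.GolayFamGens

/-- The 3-set, as a list. -/
def Y3L : List ℕ := [7]

theorem Y3L_good : goodL Y3L = true := by decide +kernel

theorem gensY_ok : stabGensOK 7 GolayFam_y3Sx.gensY = true := by decide +kernel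

theorem gensY_ok' : ∀ π ∈ GolayFam_y3Sx.gensY, validPerm π = true ∧ inRange π = true ∧ toPerm π ∈ stabZ (supFin 7) :=
  stabGens_ok gensY_ok

theorem base_Y {h : Equiv.Perm GolayPt} (hh : h ∈ stabZ (supFin 7)) : h • objOf Y3L = objOf Y3L := by
  have h1 : objOf Y3L = {supFin 7} := objOf_single _
  rw [h1, Finset.smul_finset_singleton, (mem_stabZ.mp hh).2]

/-! ### y3Sx -/

theorem hd_y3Sx_0 : clsHead sextetB (pairL Y3L) GolayFam_y3Sx.c0 = true := by
  decide +kernel

theorem ck_y3Sx_0_0 : chunkChk sameObj GolayFam_y3Sx.gensY (fun _ => true) GolayFam_y3Sx.c0 0 250 = true := by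
  decide +kernel

theorem rows_y3Sx_0 : (GolayFam_y3Sx.c0.2.2.drop 0).all (rowAll sameObj GolayFam_y3Sx.gensY (fun _ => true) GolayFam_y3Sx.c0) = true :=
  chunk_step ck_y3Sx_0_0
    (chunk_end (by decide +kernel))

theorem hd_y3Sx_1 : clsHead sextetB (pairL Y3L) GolayFam_y3Sx.c1 = true := by
  decide +kernel

theorem ck_y3Sx_1_0 : chunkChk sameObj GolayFam_y3Sx.gensY (fun _ => true) GolayFam_y3Sx.c1 0 250 = true := by
  decide +kernel

theorem ck_y3Sx_1_250 : chunkChk sameObj GolayFam_y3Sx.gensY (fun _ => true) GolayFam_y3Sx.c1 250 250 = true := by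
  decide +kernel

theorem ck_y3Sx_1_500 : chunkChk sameObj GolayFam_y3Sx.gensY (fun _ => true) GolayFam_y3Sx.c1 500 250 = true := by
  decide +kernel

theorem rows_y3Sx_1 : (GolayFam_y3Sx.c1.2.2.drop 0).all (rowAll sameObj GolayFam_y3Sx.gensY (fun _ => true) GolayFam_y3Sx.c1) = true :=
  chunk_step ck_y3Sx_1_0
    (chunk_step ck_y3Sx_1_250
    (chunk_step ck_y3Sx_1_500
    (chunk_end (by decide +kernel))))

theorem hd_y3Sx_2 : clsHead sextetB (pairL Y3L) GolayFam_y3Sx.c2 = true := by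
  decide +kernel

theorem ck_y3Sx_2_0 : chunkChk sameObj GolayFam_y3Sx.gensY (fun _ => true) GolayFam_y3Sx.c2 0 250 = true := by
  decide +kernel

theorem ck_y3Sx_2_250 : chunkChk sameObj GolayFam_y3Sx.gensY (fun _ => true) GolayFam_y3Sx.c2 250 250 = true := by
  decide +kernel

theorem ck_y3Sx_2_500 : chunkChk sameObj GolayFam_y3Sx.gensY (fun _ => true) GolayFam_y3Sx.c2 500 250 = true := by
  decide +kernel

theorem ck_y3Sx_2_750 : chunkChk sameObj GolayFam_y3Sx.gensY (fun _ => true) GolayFam_y3Sx.c2 750 250 = true := by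
  decide +kernel

theorem ck_y3Sx_2_1000 : chunkChk sameObj GolayFam_y3Sx.gensY (fun _ => true) GolayFam_y3Sx.c2 1000 250 = true := by
  decide +kernel

theorem rows_y3Sx_2 : (GolayFam_y3Sx.c2.2.2.drop 0).all (rowAll sameObj GolayFam_y3Sx.gensY (fun _ => true) GolayFam_y3Sx.c2) = true :=
  chunk_step ck_y3Sx_2_0
    (chunk_step ck_y3Sx_2_250
    (chunk_step ck_y3Sx_2_500
    (chunk_step ck_y3Sx_2_750
    (chunk_step ck_y3Sx_2_1000
    (chunk_end (by decide +kernel))))))

theorem ok_y3Sx : GolayFam_y3Sx.cls.all (clsChk sameObj GolayFam_y3Sx.gensY sextetB (fun _ => true) (pairL Y3L)) = true := by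
  refine List.all_eq_true.mpr fun c hc => ?_
  simp only [GolayFam_y3Sx.cls, List.mem_cons, List.not_mem_nil, or_false] at hc
  rcases hc with rfl | rfl | rfl
  · exact clsChk_of hd_y3Sx_0 rows_y3Sx_0
  · exact clsChk_of hd_y3Sx_1 rows_y3Sx_1
  · exact clsChk_of hd_y3Sx_2 rows_y3Sx_2

theorem sum_y3Sx : clsSummary GolayFam_y3Sx.cls = [([15,5264,622848,3416064,4196928,8536096], 21), ([27,5252,57856,2162784,4587776,9963520], 630), ([57,133760,541952,2162754,5275652,8663040], 1120)] := by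
  decide +kernel

theorem nodup_y3Sx : (GolayFam_y3Sx.cls.map (·.1)).Nodup := by
  decide +kernel

theorem total_y3Sx : (GolayFam_y3Sx.cls.map fun c => c.2.2.length).sum = 1771 := by
  decide +kernel

theorem parts_y3Sx : Parts (stabZ (supFin 7)) sextets [(objOf [15,5264,622848,3416064,4196928,8536096], 21), (objOf [27,5252,57856,2162784,4587776,9963520], 630), (objOf [57,133760,541952,2162754,5275652,8663040], 1120)] := by
  have h := parts_obj Y3L_good (H := stabZ (supFin 7)) (fun _ hh => base_Y hh) gensY_ok' sextets_finite (fun _ hh _ hy => smul_mem_sextets (mem_stabZ.mp hh).1 hy) (fun _ h1 h2 => objOf_mem_sextets h1 h2) ok_y3Sx nodup_y3Sx (by rw [total_y3Sx, ncard_sextets])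
  rw [sum_y3Sx] at h
  exact h

end Cfsg.Agent.Lib.GolayFam
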