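import Mathlib

/-! Data: orbits of stabilizers of flags on octads and dodecads (generated by a script). -/

set_option autoImplicit false
set_option maxRecDepth 100000

namespace Cfsg.Agent.Lib.GolayFlagData

/-- Generators. -/
def gens7 : List (List ℕ) :=
  [[0,17,23,14,10,5,11,19,7,8,6,4,20,12,1,15,21,3,18,9,22,16,13,2],
   [0,3,5,1,7,23,18,22,6,10,19,11,13,12,2,4,16,17,20,21,8,9,15,14]]

/-- Orbit certificate. -/
def f7Root8 : ℕ := 8536111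

/-- Orbit certificate. -/
def f7Cert8 : List (ℕ × ℕ) :=
  []

/-- Orbit certificate. -/
def f7Root4 : ℕ := 5279

/-- Orbit certificate. -/
def f7Cert4 : List (ℕ × ℕ) :=
  [(0,0),(1,1),(0,1),(1,2),(0,2),(1,3),(0,3),(1,4),(0,4),(1,5),(0,5),(1,6),(0,6),(1,7),(1,7),(0,7),(1,8),(1,8),(0,8),(1,9),(0,9),(1,10),(0,10),(1,10),(0,10),(1,10),(1,10),(0,10),(1,11),(0,11),(1,12),(0,12),(1,13),(0,13),(1,13),(1,13),(0,13),(1,14),(0,14),(1,15),(0,15),(1,16),(0,16),(1,17),(0,17),(1,17),(0,17),(0,17),(1,18),(0,18),(1,19),(0,19),(1,20),(0,20),(1,21),(0,21),(1,22),(0,22),(0,22),(1,23),(0,23),(1,24),(0,24),(0,24),(1,25),(0,25),(1,26),(0,26),(1,27),(0,27),(0,27),(1,28),(0,28),(0,28),(1,29),(0,29),(1,30),(0,30),(1,31),(0,31),(0,31),(1,32),(0,31),(1,31),(0,31),(1,32),(0,32),(1,33),(0,33),(1,34),(0,34),(0,33),(1,34),(1,34),(1,33),(0,33),(1,34),(0,34),(1,35),(0,35),(1,36),(0,36),(1,37),(0,37),(0,35),(0,35),(1,36),(0,35),(1,36),(0,35),(0,35),(1,36),(0,35),(0,35),(0,33),(0,33),(1,34),(1,34),(0,34),(1,34),(0,34),(0,33),(1,34),(0,34),(1,35),(0,33),(0,32),(1,33),(0,30),(1,31),(0,26),(1,27),(0,25),(1,25),(1,24),(1,23),(0,21),(1,15),(0,14)]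

/-- Orbit certificate. -/
def f7Root2 : ℕ := 15777

/-- Orbit certificate. -/
def f7Cert2 : List (ℕ × ℕ) :=
  [(0,0),(1,1),(0,1),(1,2),(0,2),(1,3),(0,3),(1,4),(0,4),(1,5),(0,5),(0,5),(1,5),(0,5),(1,6),(0,6),(1,7),(0,7),(1,8),(0,8),(1,9),(0,9),(1,10),(0,10),(1,11),(1,11),(0,11),(1,12),(0,12),(1,13),(1,13),(0,13),(1,14),(1,13),(0,13),(1,14),(0,14),(1,15),(0,15),(1,16),(0,16),(1,17),(0,17),(1,18),(0,18),(1,19),(0,19),(1,20),(0,20),(1,20),(1,20),(1,20),(0,20),(0,20),(1,21),(0,21),(1,22),(1,22),(0,22),(0,21),(0,21),(1,22),(0,22),(1,21),(0,21),(0,20),(1,20),(1,20),(1,20),(1,20),(0,20),(0,19),(1,19),(0,19),(1,20),(0,20),(1,21),(0,20),(1,21),(1,20),(0,19),(1,20),(1,20),(0,20),(1,20),(0,18),(0,18),(0,18),(1,19),(0,18),(0,18),(0,18),(1,19),(0,19),(1,20),(0,20),(0,20),(0,18),(0,18),(1,19),(0,14),(1,11),(1,11),(0,11),(1,12),(0,10),(0,4),(1,5),(1,4),(0,2),(1,3)]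

/-- Generators. -/
def gens8 : List (List ℕ) :=
  [[17,1,23,5,4,2,22,16,20,8,11,12,18,21,14,9,7,0,10,19,15,6,13,3],
   [0,23,17,5,4,1,7,21,18,6,19,16,22,11,2,10,8,3,12,9,20,15,13,14]]

/-- Orbit certificate. -/
def f8Root8 : ℕ := 8536111

/-- Orbit certificate. -/
def f8Cert8 : List (ℕ × ℕ) :=
  []

/-- Orbit certificate. -/
def f8Root4 : ℕ := 18147

/-- Orbit certificate. -/
def f8Cert4 : List (ℕ × ℕ) :=
  [(0,0),(1,1),(0,1),(1,2),(0,2),(1,3),(0,3),(1,4),(0,4),(1,5),(0,5),(1,6),(0,6),(1,7),(1,7),(0,7),(1,8),(0,8),(1,9),(0,9),(1,10),(0,10),(1,11),(0,11),(1,12),(0,12),(1,13),(0,13),(1,14),(0,14),(1,15),(0,15),(1,16),(1,16),(0,16),(1,17),(0,17),(1,18),(0,18),(1,19),(0,19),(1,20),(1,20),(0,20),(1,21),(0,21),(1,22),(0,22),(1,23),(1,23),(0,23),(1,24),(0,24),(1,25),(0,25),(1,26),(1,26),(0,26),(1,27),(0,27),(1,28),(0,28),(0,28),(1,29),(1,29),(0,29),(1,30),(0,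30),(1,31),(1,31),(0,31),(1,32),(0,32),(1,33),(0,33),(1,34),(1,34),(0,34),(1,35),(0,35),(1,36),(0,36),(1,37),(0,37),(1,38),(1,38),(1,38),(0,38),(1,39),(0,39),(0,39),(1,40),(0,40),(1,41),(0,41),(1,42),(0,42),(1,43),(0,43),(0,43),(1,44),(0,44),(1,45),(1,43),(0,43),(1,44),(0,44),(0,44),(1,45),(1,43),(0,43),(1,44),(1,44),(0,44),(1,45),(0,45),(1,46),(1,46),(0,46),(1,47),(0,46),(1,47),(0,47),(1,48),(0,48),(0,48),(1,47),(0,47),(0,47),(0,47),(1,48),(0,48),(1,49),(1,48),(0,48),(1,49),(0,49),(1,50),(1,50),(1,50),(0,50),(1,51),(0,51),(1,52),(0,50),(1,51),(1,51),(0,51),(1,52),(1,52),(0,52),(0,49),(0,49),(0,49),(0,49),(1,48),(0,48),(1,49),(0,49),(1,50),(0,50),(1,51),(0,51),(1,52),(0,52),(1,52),(0,52),(1,52),(0,52),(1,52),(1,52),(1,52),(0,45),(1,45),(1,44),(0,43),(1,42),(0,42),(1,42),(1,42),(0,41),(0,41),(1,41),(0,41),(1,41),(1,41),(0,41),(0,39),(0,38),(0,37),(1,38),(1,38),(0,37),(1,33),(0,33),(1,30),(0,30),(1,31),(0,31),(0,31),(0,30),(0,29),(1,29),(0,29),(0,28),(1,26),(0,12),(0,11),(0,11)]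

/-- Orbit certificate. -/
def f8Root2 : ℕ := 15777

/-- Orbit certificate. -/
def f8Cert2 : List (ℕ × ℕ) :=
  [(0,0),(1,1),(0,1),(1,2),(0,2),(1,3),(0,3),(1,4),(0,4),(1,5),(1,5),(0,5),(1,6),(1,6),(0,6),(1,7),(0,7),(1,8),(0,8),(1,9),(1,9),(0,9),(1,10),(0,10),(1,11),(0,11),(1,12),(1,12),(0,12),(1,13),(0,13),(1,14),(0,14),(1,15),(0,15),(1,16),(0,16),(1,17),(0,17),(1,18),(0,18),(1,19),(0,19),(1,20),(0,20),(1,21),(0,21),(1,22),(0,22),(1,23),(0,23),(1,24),(0,24),(1,25),(0,25),(1,26),(1,26),(1,26),(0,26),(1,27),(0,27),(1,28),(0,28),(1,29),(0,29),(1,30),(0,30),(1,31),(0,31),(1,32),(0,32),(1,33),(1,33),(1,32),(1,32),(0,32),(0,32),(1,33),(0,33),(1,34),(0,34),(1,35),(1,35),(0,35),(1,36),(1,36),(0,36),(1,37),(0,37),(1,38),(0,38),(1,39),(0,39),(1,40),(0,40),(0,40),(0,40),(1,41),(0,41),(1,42),(1,42),(0,42),(1,43),(0,43),(1,44),(0,44),(1,45),(0,45),(1,46),(1,46),(0,46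),(1,47),(1,47),(0,47),(1,48),(0,48),(1,49),(0,49),(1,50),(0,50),(1,51),(0,51),(1,52),(0,52),(1,53),(0,53),(1,54),(1,54),(0,54),(1,54),(0,54),(0,54),(1,55),(0,55),(1,56),(1,56),(0,56),(1,57),(0,57),(1,58),(1,58),(0,57),(1,58),(0,58),(0,58),(0,58),(0,58),(1,59),(0,59),(1,60),(0,60),(1,61),(0,61),(1,61),(0,61),(1,62),(0,62),(1,63),(0,63),(1,64),(1,64),(1,64),(0,64),(1,65),(1,65),(0,65),(0,65),(0,63),(1,63),(1,63),(0,63),(1,63),(0,63),(0,63),(1,64),(1,63),(1,63),(0,63),(1,64),(0,64),(1,65),(0,64),(1,65),(0,65),(0,65),(1,66),(1,66),(0,66),(1,66),(1,66),(1,66),(0,66),(1,67),(1,65),(0,65),(1,66),(0,66),(1,66),(1,66),(1,64),(0,63),(1,64),(0,63),(1,64),(0,64),(0,62),(1,63),(0,62),(1,63),(0,63),(1,64),(0,64),(0,64),(1,65),(0,62),(1,62),(0,62),(1,62),(1,62),(0,61),(0,61),(1,62),(0,62),(1,63),(0,59),(1,60),(0,59),(1,60),(1,60),(0,58),(1,58),(1,57),(0,57),(0,57),(1,56),(0,56),(1,56),(0,56),(1,55),(0,55),(1,55),(0,52),(1,53),(0,53),(1,54),(1,54),(0,53),(1,53),(0,53),(1,53),(0,52),(0,50),(1,51),(1,51),(0,46),(1,47),(0,47),(1,47),(1,47),(0,47),(0,44),(1,45),(0,44),(1,44),(1,44),(0,42),(0,41),(1,41),(1,39),(0,39),(1,39),(1,30),(1,27),(0,19),(1,17),(0,16),(1,15),(0,12),(1,6)]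

/-- Orbit certificate. -/
def f8Root0 : ℕ := 337856

/-- Orbit certificate. -/
def f8Cert0 : List (ℕ × ℕ) :=
  [(0,0),(1,1),(0,1),(1,2),(0,2),(1,3),(0,2),(1,3),(0,3),(1,4),(1,4),(0,4),(0,3),(1,3)]

/-- Generators. -/
def gens4 : List (List ℕ) :=
  [[0,1,2,23,20,5,6,10,4,7,9,21,15,12,14,13,22,3,11,16,8,18,19,17],
   [0,1,23,14,9,3,4,22,6,18,8,21,19,20,17,11,15,5,7,16,12,13,10,2],
   [0,1,2,14,19,3,18,11,4,15,10,22,13,21,5,20,6,17,16,8,9,12,7,23]]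

/-- Orbit certificate. -/
def f4Root8 : ℕ := 8536111

/-- Orbit certificate. -/
def f4Cert8 : List (ℕ × ℕ) :=
  []

/-- Orbit certificate. -/
def f4Root4 : ℕ := 5279

/-- Orbit certificate. -/
def f4Cert4 : List (ℕ × ℕ) :=
  [(0,0),(1,1),(2,2),(0,2),(1,3),(0,3),(1,4),(2,5),(0,5),(1,6),(2,7),(1,7),(2,8),(1,8),(2,9),(0,9),(1,10),(2,11),(0,11),(0,11),(2,12),(0,12),(1,13),(2,14),(0,14),(2,15),(0,15),(1,16),(2,16),(0,16),(1,17),(2,18),(1,16),(2,17),(0,17),(1,18),(2,19),(0,19),(1,19),(0,19),(2,20),(1,19),(2,20),(0,20),(2,17),(1,17),(2,17),(1,17),(0,17),(2,18),(1,18),(0,18),(2,17),(1,16),(2,17),(2,17),(1,15),(1,13),(2,14)]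

/-- Orbit certificate. -/
def f4Root2 : ℕ := 69395

/-- Orbit certificate. -/
def f4Cert2 : List (ℕ × ℕ) :=
  [(0,0),(1,1),(2,2),(0,2),(1,3),(2,4),(0,4),(2,5),(0,5),(1,5),(2,5),(1,5),(2,6),(0,6),(0,1)]

/-- Generators. -/
def gens5a : List (List ℕ) :=
  [[0,1,2,9,17,16,15,7,4,10,13,20,8,3,21,19,5,12,6,18,11,22,23,14],
   [0,1,15,16,4,3,6,18,22,14,12,11,20,7,19,17,5,2,13,9,10,21,23,8]]

/-- Orbit certificate. -/
def f5aRoot0 : ℕ := 15777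

/-- Orbit certificate. -/
def f5aCert0 : List (ℕ × ℕ) :=
  [(0,0),(1,1),(0,1),(1,2),(0,2),(1,3),(0,3),(1,4),(0,4),(1,5),(0,5),(1,6),(0,6),(1,6),(0,6),(1,7),(0,7),(1,8),(0,8),(0,8),(1,9),(0,9),(1,10),(0,10),(1,11),(0,11),(1,12),(0,12),(1,13),(0,13),(0,13),(0,13),(1,14),(0,14),(1,15),(1,15),(0,15),(1,16),(0,16),(1,17),(0,17),(0,17),(1,18),(0,18),(1,19),(0,19),(1,20),(0,20),(0,20),(1,21),(0,21),(1,22),(1,22),(1,22),(0,22),(1,23),(0,23),(0,23),(1,24),(0,24),(0,24),(1,25),(0,25),(0,25),(0,25),(1,26),(0,26),(1,27),(0,27),(1,27),(0,27),(1,28),(1,28),(0,28),(1,28),(0,28),(1,29),(0,29),(1,30),(1,30),(0,30),(0,30),(1,31),(0,31),(0,30),(1,31),(0,31),(1,32),(1,32),(0,32),(1,32),(0,32),(1,33),(1,33),(0,33),(1,34),(0,34),(0,34),(1,35),(1,34),(1,34),(0,34),(1,35),(0,35),(0,35),(0,34),(1,35),(0,35),(0,35),(1,35),(0,35),(1,36),(0,36),(1,37),(0,37),(0,37),(1,38),(0,37),(1,38),(0,38),(0,38),(1,39),(0,39),(1,40),(0,40),(1,41),(0,41),(1,42),(0,40),(1,41),(0,40),(0,40),(0,40),(1,41),(0,41),(0,41),(1,42),(0,42),(1,43),(0,43),(0,43),(1,43),(1,43),(0,43),(0,42),(0,42),(1,43),(0,43),(1,43),(0,43),(1,43),(1,42),(1,42),(1,39),(0,39),(1,40),(1,39),(0,35),(1,36),(0,36),(1,35),(0,33),(0,30),(0,30),(0,24),(1,25),(1,22),(1,22),(0,22),(1,23),(0,16),(0,13),(0,12),(0,11),(1,10)]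

/-- Generators. -/
def gens5b : List (List ℕ) :=
  [[0,1,22,23,17,13,15,10,5,21,7,12,11,8,16,20,18,2,14,6,9,19,3,4],
   [0,1,22,23,17,12,6,11,13,20,10,5,7,8,21,16,4,15,19,2,14,9,18,3]]

/-- The base octad through the first point avoiding the second. -/
def o1 : ℕ := 15777

/-- Orbit certificate. -/
def f5bRoot8 : ℕ := 15777

/-- Orbit certificate. -/
def f5bCert8 : List (ℕ × ℕ) :=
  []

/-- Orbit certificate. -/
def f5bRoot4 : ℕ := 39257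

/-- Orbit certificate. -/
def f5bCert4 : List (ℕ × ℕ) :=
  [(0,0),(1,1),(0,1),(1,2),(0,2),(0,2),(1,3),(0,3),(1,4),(1,4),(0,4),(1,5),(0,5),(1,6),(0,6),(1,7),(0,7),(1,8),(0,8),(0,8),(1,9),(0,9),(1,10),(0,10),(1,11),(1,11),(0,11),(1,12),(1,12),(0,12),(1,13),(0,12),(0,11),(1,12),(0,11),(1,12),(1,12),(1,12),(0,12),(0,12),(1,13),(0,13),(1,14),(0,14),(1,15),(0,15),(1,16),(0,16),(0,16),(1,17),(0,17),(1,18),(0,18),(1,19),(1,19),(0,18),(1,19),(0,19),(1,20),(0,20),(0,20),(1,20),(0,19),(0,19),(1,20),(0,20),(1,20),(0,20),(1,19),(1,19),(0,19),(1,20),(0,18),(0,18),(0,18),(1,19),(0,19),(1,20),(0,18),(1,19),(0,18),(1,19),(1,18),(1,18),(0,16),(0,16),(1,17),(0,17),(1,18),(0,18),(1,18),(0,18),(0,18),(0,18),(0,13),(1,14),(1,13),(0,13),(1,11),(0,8),(0,8),(1,8),(0,3),(0,0)]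

/-- Orbit certificate. -/
def f5bRoot2 : ℕ := 99029

/-- Orbit certificate. -/
def f5bCert2 : List (ℕ × ℕ) :=
  [(0,0),(1,1),(0,1),(1,2),(0,2),(1,3),(0,3),(1,4),(0,4),(1,5),(1,5),(0,5),(1,6),(0,6),(1,7),(0,7),(1,8),(1,8),(0,8),(1,9),(1,9),(0,9),(1,10),(0,10),(0,10),(1,11),(0,11),(0,11),(1,12),(0,12),(1,13),(1,13),(0,13),(0,13),(0,13),(1,14),(1,14),(0,14),(1,15),(0,15),(1,16),(0,15),(1,16),(1,16),(0,16),(1,17),(1,17),(0,17),(1,18),(0,17),(0,16),(1,17),(0,16),(0,16),(1,17),(0,17),(1,17),(0,16),(0,15),(1,15),(0,14),(1,15),(1,15),(0,13),(0,13),(0,13),(0,13),(0,9),(0,3)]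

/-- Generators. -/
def gens9 : List (List ℕ) :=
  [[0,3,16,12,9,7,13,19,2,1,22,11,4,8,5,20,6,15,18,23,10,21,17,14],
   [0,3,9,13,1,23,8,15,12,18,14,19,4,2,20,21,6,17,16,7,5,10,11,22]]

/-- Orbit certificate. -/
def f9Root12 : ℕ := 340831

/-- Orbit certificate. -/
def f9Cert12 : List (ℕ × ℕ) :=
  []

/-- Orbit certificate. -/
def f9Root8 : ℕ := 28637

/-- Orbit certificate. -/
def f9Cert8 : List (ℕ × ℕ) :=
  [(0,0),(1,1),(0,1),(1,2),(0,2),(1,3),(0,3),(1,4),(0,4),(1,5),(0,5),(1,6),(0,6),(1,7),(0,7),(1,8),(0,8),(1,9),(0,9),(1,10),(0,10),(1,11),(0,11),(1,12),(0,12),(1,13),(0,13),(1,14),(0,14),(1,15),(1,15),(0,15),(1,16),(0,16),(1,17),(0,17),(1,18),(0,18),(1,19),(0,19),(1,20),(0,20),(1,21),(0,21),(1,22),(0,22),(0,22),(1,23),(0,23),(0,23),(0,23),(1,24),(0,24),(1,25),(0,25),(1,26),(0,26),(1,27),(0,27),(1,28),(1,27),(0,27),(1,28),(0,28),(1,29),(0,29),(0,29),(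1,30),(0,30),(1,31),(0,31),(1,32),(0,32),(1,33),(0,33),(1,34),(0,34),(1,35),(0,35),(1,36),(0,36),(1,37),(0,37),(1,38),(1,38),(1,38),(0,38),(1,39),(0,39),(1,40),(0,40),(1,41),(0,41),(1,42),(0,42),(0,42),(1,43),(0,43),(0,43),(0,43),(1,44),(0,44),(1,45),(0,45),(1,46),(0,46),(1,47),(0,47),(1,48),(1,48),(0,48),(0,48),(0,48),(1,49),(0,49),(1,50),(0,50),(1,51),(0,51),(1,52),(0,52),(1,53),(1,53),(0,53),(1,54),(0,54),(1,55),(0,55),(1,56),(0,56),(1,57),(0,57),(1,58),(0,58),(0,58),(1,59),(0,59),(0,59),(1,58),(0,58),(1,59),(0,59),(1,60),(0,60),(1,61),(0,61),(0,61),(1,62),(0,62),(1,63),(0,63),(1,64),(0,64),(0,64),(1,65),(0,65),(1,66),(0,66),(1,67),(1,67),(1,67),(0,67),(1,68),(0,67),(1,68),(0,68),(1,69),(1,69),(1,69),(0,69),(0,69),(1,70),(1,70),(1,70),(0,70),(0,69),(1,70),(1,70),(0,70),(1,71),(0,71),(1,72),(0,72),(1,73),(1,73),(0,73),(0,72),(0,72),(0,72),(1,72),(0,72)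,(1,73),(0,73),(0,71),(0,71),(1,72),(0,72),(0,72),(1,73),(0,72),(0,71),(1,71),(1,71),(0,71),(1,72),(0,72),(1,73),(0,73),(0,73),(1,73),(1,73),(0,72),(1,73),(1,73),(0,73),(1,74),(0,74),(1,75),(0,75),(0,75),(0,75),(1,75),(0,75),(1,75),(0,75),(0,74),(0,74),(1,75),(0,75),(1,76),(1,75),(0,75),(1,76),(0,76),(0,76),(0,76),(1,77),(0,77),(0,77),(1,77),(1,76),(0,76),(1,77),(0,77),(1,78),(0,78),(1,79),(0,79),(1,80),(1,80),(0,80),(0,80),(0,78),(1,78),(0,78),(1,79),(0,79),(0,77),(1,73),(0,73),(1,74),(0,74),(1,75),(0,74),(1,75),(0,75),(1,76),(0,76),(1,76),(0,76),(1,76),(1,76),(1,76),(1,75),(0,75),(0,75),(1,73),(0,72),(1,70),(0,69),(0,69),(0,67),(0,67),(1,67),(0,67),(0,67),(0,66),(0,66),(0,66),(1,65),(0,65),(0,65),(1,66),(1,66),(1,66),(1,64),(0,64),(1,65),(1,64),(1,64),(1,64),(0,64),(1,65),(1,64),(0,64),(1,65),(1,65),(0,65),(0,63),(0,63),(0,62),(1,63),(0,63),(0,63),(0,62),(1,63),(1,62),(0,60),(1,61),(1,55),(0,55),(1,54),(1,53),(1,53),(1,49),(0,47),(1,48),(0,45),(0,22)]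

/-- Orbit certificate. -/
def f9Root6 : ℕ := 195645

/-- Orbit certificate. -/
def f9Cert6 : List (ℕ × ℕ) :=
  [(0,0),(1,1),(0,1),(1,2),(0,2),(1,3),(0,3),(1,4),(0,4),(1,5),(0,5),(1,6),(0,6),(1,7),(0,7),(1,8),(0,8),(1,9),(0,9),(1,10),(0,10),(1,11),(0,11),(1,12),(0,12),(1,13),(0,13),(1,14),(0,14),(1,15),(1,15),(0,15),(1,16),(0,16),(1,17),(0,17),(1,18),(0,18),(0,18),(1,19),(0,19),(1,20),(1,20),(0,20),(1,21),(0,21),(1,22),(0,22),(1,23),(0,23),(1,24),(0,24),(1,25),(0,25),(1,26),(0,26),(1,27),(0,27),(0,27),(1,28),(0,28),(1,29),(0,29),(1,30),(0,30),(1,31),(0,31),(1,32),(0,32),(1,33),(0,33),(1,34),(0,34),(0,34),(1,35),(0,35),(1,36),(0,36),(1,37),(0,37),(1,38),(0,38),(1,39),(1,39),(0,39),(1,40),(0,40),(1,41),(0,41),(1,42),(0,42),(1,43),(0,43),(1,44),(0,44),(1,45),(0,45),(1,46),(0,46),(1,47),(0,47),(1,48),(0,48),(1,49),(0,49),(1,50),(0,50),(1,51),(0,51),(1,52),(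0,52),(1,53),(0,53),(1,54),(0,54),(1,55),(0,55),(1,56),(0,56),(1,57),(0,57),(1,58),(0,58),(1,59),(0,59),(1,60),(0,60),(1,61),(0,61),(1,62),(0,62),(1,63),(0,63),(1,64),(0,64),(1,65),(1,65),(0,65),(1,66),(1,66),(0,66),(1,67),(0,67),(1,68),(0,68),(1,69),(0,69),(1,70),(1,70),(0,70),(1,71),(0,71),(0,71),(1,72),(0,72),(1,72),(0,72),(1,73),(0,73),(1,74),(0,74),(1,75),(0,75),(1,76),(0,76),(1,76),(0,76),(1,77),(0,77),(1,78),(0,78),(1,79),(0,79),(1,80),(0,80),(1,81),(0,81),(0,81),(1,82),(1,82),(0,82),(1,83),(1,83),(1,83),(0,83),(1,84),(0,84),(1,85),(1,85),(0,85),(1,86),(1,86),(0,86),(0,86),(1,87),(0,87),(1,88),(0,88),(1,88),(0,88),(1,88),(1,88),(0,88),(1,89),(1,89),(0,89),(1,90),(0,90),(1,91),(1,91),(0,91),(1,92),(0,92),(1,93),(1,93),(1,93),(0,93),(1,94),(0,94),(1,95),(0,94),(1,95),(0,95),(1,96),(0,96),(1,97),(0,97),(1,98),(0,98),(1,98),(0,98),(1,99),(0,99),(1,100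),(0,100),(1,101),(0,101),(1,102),(0,102),(1,103),(0,103),(1,104),(0,104),(1,105),(0,105),(1,106),(1,106),(0,106),(0,106),(1,107),(1,107),(0,107),(1,108),(0,108),(0,108),(1,109),(0,109),(1,110),(0,110),(1,111),(0,111),(1,112),(0,112),(1,113),(0,113),(1,114),(1,114),(1,114),(0,114),(1,115),(1,115),(0,115),(1,116),(1,116),(0,116),(1,117),(0,117),(1,118),(0,118),(1,119),(0,119),(1,120),(1,120),(0,120),(1,121),(0,121),(1,122),(0,122),(1,123),(0,123),(1,124),(0,124),(1,125),(1,125),(1,125),(1,124),(0,124),(1,125),(0,125),(1,126),(0,126),(1,127),(0,127),(1,128),(0,128),(1,129),(0,129),(1,130),(0,130),(1,131),(0,131),(1,132),(0,132),(1,133),(1,133),(1,133),(1,133),(1,133),(0,133),(0,133),(1,134),(1,134),(1,134),(0,134),(0,134),(1,135),(1,134),(1,134),(1,134),(0,134),(1,135),(0,135),(1,136),(0,136),(1,137),(0,137),(1,138),(1,138),(0,138),(1,139),(0,139),(1,140),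(0,140),(1,141),(0,141),(1,142),(0,142),(1,143),(0,143),(1,144),(1,144),(1,144),(1,144),(0,144),(1,145),(0,145),(1,146),(0,146),(1,147),(1,147),(0,147),(1,148),(0,148),(0,148),(1,149),(1,148),(0,148),(1,149),(1,147),(0,147),(0,147),(1,148),(0,148),(1,149),(0,149),(1,150),(0,150),(1,151),(0,151),(1,152),(0,152),(1,153),(0,153),(1,154),(0,154),(1,155),(1,155),(0,155),(1,155),(1,155),(0,155),(0,155),(1,156),(0,156),(1,157),(0,157),(1,158),(1,157),(0,157),(0,157),(1,158),(0,158),(1,159),(0,159),(1,160),(1,160),(0,160),(1,161),(0,161),(1,162),(1,162),(0,162),(0,162),(0,162),(1,163),(0,163),(1,163),(0,163),(0,163),(1,164),(0,164),(0,164),(1,165),(0,164),(1,165),(0,165),(1,166),(0,166),(1,167),(0,167),(0,167),(1,168),(1,168),(0,168),(1,169),(0,169),(1,170),(0,170),(1,171),(0,171),(1,172),(1,171),(1,171),(0,171),(0,171),(1,172),(0,172),(1,173),(0,173),(0,172),(1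,173),(0,173),(1,174),(0,174),(1,175),(0,175),(1,176),(0,176),(1,177),(0,174),(1,175),(0,175),(1,176),(0,176),(1,177),(0,177),(1,178),(0,178),(0,178),(1,179),(1,179),(0,179),(1,180),(0,180),(1,181),(0,181),(1,182),(0,180),(1,181),(0,181),(1,182),(0,182),(1,183),(0,183),(1,182),(0,182),(1,183),(1,183),(0,183),(1,184),(0,184),(1,185),(1,185),(0,185),(0,185),(1,186),(0,186),(1,187),(0,186),(0,186),(1,187),(1,186),(1,186),(0,186),(1,187),(1,187),(1,187),(0,187),(1,188),(0,188),(1,189),(1,189),(0,189),(1,190),(0,190),(0,190),(0,190),(1,191),(1,190),(1,189),(1,189),(0,189),(1,190),(0,190),(1,191),(0,191),(1,192),(1,191),(0,191),(1,190),(1,190),(1,190),(0,189),(0,189),(1,190),(0,190),(1,191),(0,191),(0,189),(1,190),(0,190),(0,189),(1,190),(1,190),(1,190),(0,190),(0,190),(1,191),(0,191),(1,191),(1,191),(0,191),(1,192),(0,192),(1,193),(0,193),(1,194),(0,194),(1,1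93),(0,193),(1,194),(1,193),(0,193),(0,193),(1,194),(0,193),(1,194),(1,194),(1,194),(1,194),(0,194),(1,195),(1,195),(0,195),(1,195),(0,194),(0,194),(0,194),(1,193),(1,193),(0,193),(1,194),(0,194),(1,195),(0,194),(0,193),(1,193),(1,193),(0,193),(1,194),(0,194),(1,195),(0,195),(1,196),(0,196),(1,197),(1,197),(0,197),(1,198),(0,198),(1,199),(0,199),(1,200),(0,197),(0,197),(0,197),(0,197),(0,197),(0,197),(0,197),(0,196),(1,197),(1,197),(0,197),(1,198),(1,198),(1,198),(0,198),(1,198),(0,198),(1,198),(0,193),(1,194),(0,194),(1,195),(0,195),(1,196),(1,196),(1,196),(0,194),(1,195),(1,195),(1,195),(1,195),(0,195),(1,196),(0,196),(0,196),(1,195),(0,195),(1,196),(0,196),(0,196),(1,197),(1,197),(0,196),(1,197),(1,197),(1,197),(0,197),(0,197),(0,197),(1,196),(0,196),(0,196),(1,197),(1,197),(0,197),(0,196),(1,197),(0,196),(1,195),(0,194),(0,194),(1,195),(1,194),(0,194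),(1,195),(1,195),(0,193),(1,194),(0,194),(0,193),(1,192),(0,190),(0,190),(0,189),(0,189),(1,189),(0,189),(0,187),(0,187),(1,188),(0,187),(1,188),(1,186),(0,185),(1,186),(0,186),(1,187),(1,186),(0,186),(0,186),(1,187),(0,187),(1,187),(0,187),(1,188),(0,188),(0,186),(1,179),(1,178),(1,177),(0,177),(1,175),(1,173),(1,173),(1,172),(0,171),(1,172),(1,172),(0,171),(1,172),(0,172),(0,170),(1,169),(1,168),(1,168),(0,166),(0,166),(0,163),(0,162),(1,162),(0,160),(1,160),(1,160),(1,159),(1,158),(0,157),(1,158),(1,158),(1,157),(1,157),(1,156),(0,155),(1,155),(0,151),(1,147),(1,146),(0,146),(1,142),(0,142),(0,141),(1,142),(1,139),(0,138),(0,138),(1,139),(1,135),(1,135),(1,131),(1,130),(0,130),(0,128),(0,128),(1,129),(0,128),(1,128),(0,127),(1,128),(0,125),(1,125),(1,121),(0,115),(1,116),(0,116),(1,114),(0,113),(1,114),(1,103),(1,103),(0,101),(0,101),(1,93),(1,90),(1,90),(0,89),(1,90),(0,87),(1,87),(0,87),(1,79),(0,78),(1,77),(1,77),(1,72),(0,71),(0,65),(0,50),(1,48),(0,41)]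

/-- Orbit certificate. -/
def f9Root4 : ℕ := 1727659

/-- Orbit certificate. -/
def f9Cert4 : List (ℕ × ℕ) :=
  [(0,0),(1,1),(0,1),(1,2),(0,2),(1,3),(0,3),(1,4),(0,4),(1,5),(0,5),(1,6),(0,6),(1,7),(0,7),(1,8),(0,8),(1,9),(0,9),(1,10),(0,10),(1,11),(0,11),(0,11),(1,12),(0,12),(1,13),(0,13),(1,14),(1,14),(0,14),(1,15),(0,15),(1,16),(0,16),(1,17),(0,17),(1,18),(0,18),(1,19),(0,19),(1,20),(0,20),(1,21),(0,21),(1,22),(0,22),(1,23),(0,23),(1,24),(0,24),(1,25),(0,25),(1,26),(0,26),(0,26),(1,27),(0,27),(1,28),(0,27),(1,28),(0,28),(0,28),(1,29),(0,29),(0,29),(1,30),(0,30),(1,31),(0,31),(1,32),(0,32),(0,32),(1,33),(0,33),(1,34),(0,34),(1,35),(0,35),(0,35),(1,36),(1,36),(0,36),(1,37),(1,37),(0,37),(1,38),(0,38),(0,38),(1,39),(0,39),(1,40),(0,40),(0,40),(0,39),(1,40),(0,40),(0,40),(0,40),(1,41),(0,41),(1,42),(0,42),(1,43),(0,43),(0,43),(1,44),(1,44),(0,44),(1,43),(1,43),(1,42),(0,42),(0,42),(1,43),(1,43),(0,42),(0,42),(1,43),(1,42),(1,42),(0,42),(1,43),(0,43),(1,44),(0,44),(1,45),(0,44),(1,45),(0,44),(1,43),(0,41),(1,42),(0,39),(1,38),(0,38),(1,39),(1,38),(0,38),(1,39),(1,38),(0,38),(0,38),(1,39),(0,39),(1,39),(0,39),(1,40),(0,40),(0,39),(1,36),(1,36),(0,36),(0,36),(1,37),(1,34),(1,34),(0,34),(1,33),(0,30),(1,30),(0,24),(1,7),(1,6)]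

end Cfsg.Agent.Lib.GolayFlagData
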