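import Mathlib
import Cfsg.Agent.Lib.SylowIn
import Cfsg.Agent.Lib.FusionSubgroup

/-!
Abstract polycyclic chains of index two, used for explicit Sylow `2`-subgroups.
-/

set_option autoImplicit false

namespace Cfsg.Agent.Lib.GolayFusionChain

open Cfsg.Agent.Lib.FusionSubgroup Cfsg.Agent.Lib.SylowIn
open scoped commutatorElement

variable {Ω : Type*} [Group Ω]

/-- The subgroup generated by a list. -/
def chainG (l : List Ω) : Subgroup Ω := Subgroup.closure {g | g ∈ l}

/-- A polycyclic chain: each element normalizes the subgroup generated by the later ones, has square there, and is not there. -/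
def IsPC : List Ω → Prop
  | [] => True
  | x :: l => x ∈ Subgroup.normalizer ((chainG l : Subgroup Ω) : Set Ω) ∧ x * x ∈ chainG l ∧ x ∉ chainG l ∧ IsPC l

theorem chainG_nil : chainG ([] : List Ω) = ⊥ := by
  simp [chainG]

theorem chainG_le_cons (x : Ω) (l : List Ω) : chainG l ≤ chainG (x :: l) :=
  Subgroup.closure_mono fun g hg => List.mem_cons_of_mem _ hg

theorem mem_chainG_head (x : Ω) (l : List Ω) : x ∈ chainG (x :: l) :=
  Subgroup.subset_closure (List.mem_cons_self)

theorem mem_chainG_of_mem {x : Ω} {l : List Ω} (h : x ∈ l) : x ∈ chainG l :=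
  Subgroup.subset_closure h

theorem chainG_le {l : List Ω} {K : Subgroup Ω} (h : ∀ x ∈ l, x ∈ K) : chainG l ≤ K :=
  (Subgroup.closure_le _).mpr h

/-- Cosets of the later subgroup. -/
theorem mem_cases {x : Ω} {l : List Ω} (hn : x ∈ Subgroup.normalizer ((chainG l : Subgroup Ω) : Set Ω))
    (hs : x * x ∈ chainG l) {g : Ω} (hg : g ∈ chainG (x :: l)) :
    g ∈ chainG l ∨ ∃ h ∈ chainG l, g = x * h := by
  have hc : ∀ a ∈ chainG l, x⁻¹ * a * x ∈ chainG l := by
    intro a ha
    have := (Subgroup.mem_normalizer_iff.mp (inv_mem hn) a).mp ha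
    rwa [inv_inv] at this
  have hc' : ∀ a ∈ chainG l, x * a * x⁻¹ ∈ chainG l := fun a ha =>
    (Subgroup.mem_normalizer_iff.mp hn a).mp ha
  unfold chainG at hg
  induction hg using Subgroup.closure_induction with
  | mem y hy =>
    rcases List.mem_cons.mp hy with rfl | h
    · exact Or.inr ⟨1, one_mem _, by simp⟩
    · exact Or.inl (mem_chainG_of_mem h)
  | one => exact Or.inl (one_mem _)
  | mul a b _ _ ha hb =>
    rcases ha with ha | ⟨h, hh, rfl⟩ <;> rcases hb with hb | ⟨k, hk, rfl⟩
    · exact Or.inl (mul_mem ha hb)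
    · refine Or.inr ⟨(x⁻¹ * a * x) * k, mul_mem (hc a ha) hk, by group⟩
    · exact Or.inr ⟨h * b, mul_mem hh hb, by group⟩
    · refine Or.inl ?_
      have : x * h * (x * k) = (x * x) * (x⁻¹ * h * x) * k := by group
      rw [this]
      exact mul_mem (mul_mem hs (hc h hh)) hk
  | inv a _ ha =>
    rcases ha with ha | ⟨h, hh, rfl⟩
    · exact Or.inl (inv_mem ha)
    · refine Or.inr ⟨(x * x)⁻¹ * (x * h⁻¹ * x⁻¹), mul_mem (inv_mem hs) (hc' _ (inv_mem hh)), by group⟩

/-- The order of a polycyclic chain. -/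
theorem card_chainG [Finite Ω] {l : List Ω} (h : IsPC l) : Nat.card (chainG l) = 2 ^ l.length := by
  induction l with
  | nil => simp [chainG_nil]
  | cons x l ih =>
    obtain ⟨hn, hs, hx, hl⟩ := h
    have hle := chainG_le_cons x l
    have hcard := ih hl
    have hidx : ((chainG l).subgroupOf (chainG (x :: l))).index = 2 := by
      rw [Subgroup.index_eq_two_iff]
      refine ⟨⟨x, mem_chainG_head x l⟩, fun b => ?_⟩
      rcases mem_cases hn hs b.2 with hb | ⟨k, hk, hbk⟩
      · right
        refine ⟨hb, fun h => hx ?_⟩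
        have h1 : (b : Ω) * x ∈ chainG l := h
        have : x = (b : Ω)⁻¹ * (b * x) := by group
        rw [this]
        exact mul_mem (inv_mem hb) h1
      · left
        refine ⟨?_, fun h => hx ?_⟩
        · show (b : Ω) * x ∈ chainG l
          rw [hbk]
          have h2 : x⁻¹ * k * x ∈ chainG l := by
            have := (Subgroup.mem_normalizer_iff.mp (inv_mem hn) k).mp hk
            rwa [inv_inv] at this
          have : x * k * x = (x * x) * (x⁻¹ * k * x) := by group
          rw [this]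
          exact mul_mem hs h2
        · have h1 : (b : Ω) ∈ chainG l := h
          rw [hbk] at h1
          have : x = (x * k) * k⁻¹ := by group
          rw [this]
          exact mul_mem h1 (inv_mem hk)
    have h3 := Subgroup.index_mul_card ((chainG l).subgroupOf (chainG (x :: l)))
    rw [hidx, card_subgroupOf hle, hcard] at h3
    rw [← h3, List.length_cons, pow_succ, mul_comm]

/-- A nontrivial subgroup normalized by a finite `p`-group meets its centre. -/
theorem exists_central_of_normal {p : ℕ} [Fact p.Prime] [Finite Ω] {S₀ T : Subgroup Ω} (hp : IsPGroup p S₀)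
    (hT : T ≠ ⊥) (hTS : T ≤ S₀) (hn : ∀ s ∈ S₀, ∀ t ∈ T, s * t * s⁻¹ ∈ T) :
    ∃ t ∈ T, t ≠ 1 ∧ ∀ s ∈ S₀, s * t = t * s := by
  have : Group.IsNilpotent S₀ := hp.isNilpotent
  obtain ⟨n, hnn⟩ := Group.IsNilpotent.nilpotent S₀
  have key : ∀ k : ℕ, ∀ t ∈ T, t ≠ 1 → ∀ ht : t ∈ S₀, (⟨t, ht⟩ : S₀) ∈ Subgroup.upperCentralSeries S₀ k →
      ∃ t ∈ T, t ≠ 1 ∧ ∀ s ∈ S₀, s * t = t * s := by
    intro k
    induction k with
    | zero =>
      intro t _ ht1 ht h
      exact absurd (by simpa using congrArg Subtype.val ((Subgroup.mem_bot).mp h)) ht1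
    | succ k ih =>
      intro t htT ht1 ht h
      by_cases hc : ∀ s ∈ S₀, s * t = t * s
      · exact ⟨t, htT, ht1, hc⟩
      · simp only [not_forall] at hc
        obtain ⟨s, hs, hst⟩ := hc
        have h2 : ⁅(⟨t, ht⟩ : S₀), (⟨s, hs⟩ : S₀)⁆ ∈ Subgroup.upperCentralSeries S₀ k :=
          Subgroup.mem_upperCentralSeries_succ_iff.mp h ⟨s, hs⟩
        rw [commutatorElement_def] at h2
        have hcT : t * (s * t⁻¹ * s⁻¹) ∈ T := mul_mem htT (hn s hs _ (inv_mem htT))
        have hne : t * (s * t⁻¹ * s⁻¹) ≠ 1 := by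
          intro he
          apply hst
          have : t * s * t⁻¹ * s⁻¹ = 1 := by
            rw [← he]
            group
          have h4 : t * s = s * t := by
            have h5 : t * s * t⁻¹ = s := by
              calc t * s * t⁻¹ = t * s * t⁻¹ * s⁻¹ * s := by group
                _ = s := by rw [this, one_mul]
            calc t * s = t * s * t⁻¹ * t := by group
              _ = s * t := by rw [h5]
          exact h4.symm
        have e : ((⟨t, ht⟩ : S₀) * ⟨s, hs⟩ * (⟨t, ht⟩ : S₀)⁻¹ * (⟨s, hs⟩ : S₀)⁻¹) =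
            ⟨t * (s * t⁻¹ * s⁻¹), hTS hcT⟩ := by
          apply Subtype.ext
          show t * s * t⁻¹ * s⁻¹ = _
          group
        rw [e] at h2
        exact ih _ hcT hne (hTS hcT) h2
  obtain ⟨t, ht1⟩ := Subgroup.ne_bot_iff_exists_ne_one.mp hT
  have ht : (t : Ω) ∈ T := t.2
  replace ht1 : (t : Ω) ≠ 1 := fun e => ht1 (Subtype.ext e)
  exact key n (t : Ω) ht ht1 (hTS ht) (by rw [hnn]; exact Subgroup.mem_top _)

/-- For a subgroup of odd index in `G`: elements normalizing it have an odd power inside. -/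
theorem exists_odd_pow_mem [Finite Ω] {G S₀ : Subgroup Ω} (hle : S₀ ≤ G) (k m : ℕ) (hS : Nat.card S₀ = 2 ^ k)
    (hG : Nat.card G = 2 ^ k * m) (hm : Odd m) {g : Ω} (hg : g ∈ G)
    (hN : g ∈ Subgroup.normalizer ((S₀ : Subgroup Ω) : Set Ω)) : ∃ n : ℕ, Odd n ∧ g ^ n ∈ S₀ := by
  set K : Subgroup Ω := G ⊓ Subgroup.normalizer ((S₀ : Subgroup Ω) : Set Ω) with hK
  have hSK : S₀ ≤ K := le_inf hle Subgroup.le_normalizer
  let H : Subgroup K := S₀.subgroupOf K
  have hHn : H.Normal := by
    constructor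
    intro n hn a
    exact (Subgroup.mem_normalizer_iff.mp a.2.2 _).mp hn
  have h1 : (⟨g, hg, hN⟩ : K) ^ H.index ∈ H := Subgroup.pow_index_mem H _
  refine ⟨H.index, ?_, h1⟩
  have h2 : H.index * Nat.card H = Nat.card K := Subgroup.index_mul_card H
  have h3 : Nat.card H = 2 ^ k := by
    rw [← hS]
    exact card_subgroupOf hSK
  have h4 : Nat.card K ∣ Nat.card G := Subgroup.card_dvd_of_le inf_le_left
  rw [← h2, hG, h3, mul_comm] at h4
  have h5 : H.index ∣ m := Nat.dvd_of_mul_dvd_mul_left (by positivity) h4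
  exact hm.of_dvd_nat h5

end Cfsg.Agent.Lib.GolayFusionChain
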