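import Cfsg.Agent.Lib.GolayDecomp
import Cfsg.Agent.Lib.GolayFusionChain
import Cfsg.Agent.Lib.FusionSimpleCrit

/-!
Kernel-checkable certificates for explicit `2`-subgroups of `Cfsg.M24`: polycyclic chains with a
sifting procedure, orbit tables, refinement of invariant sets under the normalizer, and chains of
conjugates inside a Sylow subgroup.
-/

set_option autoImplicit false
set_option linter.style.haveILetI false
set_option linter.constructorNameAsVariable false

open scoped Pointwise

namespace Cfsg.Agent.Lib.GolayFusionCert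

open Cfsg Cfsg.Agent.Lib.GolayCode Cfsg.Agent.Lib.GolayPerm Cfsg.Agent.Lib.GolayDecomp
  Cfsg.Agent.Lib.GolayFusionChain Cfsg.Agent.Lib.FusionSubgroup

/-- A generator of a polycyclic chain: its image list, the image list of its inverse, a point and a
mask containing the orbit of that point under the later generators. -/
structure PGen where
  x : List ℕ
  y : List ℕ
  c : ℕ
  d : ℕ

/-- Sifting through a polycyclic chain. -/
def sift : List PGen → List ℕ → List ℕ
  | [], π => π
  | g :: l, π => cond (g.d.testBit (img π g.c)) (sift l π) (sift l (compL g.y π))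

/-- The permutations of a chain. -/
noncomputable abbrev perms (l : List PGen) : List (Equiv.Perm GolayPt) := l.map fun g => toPerm g.x

/-- The subgroup of a chain. -/
noncomputable abbrev chainP (l : List PGen) : Subgroup (Equiv.Perm GolayPt) := chainG (perms l)

/-- The check of a polycyclic chain. -/
def pcCheck : List PGen → Bool
  | [] => true
  | g :: l =>
    isAut g.x && isAut g.y && (compL g.x g.y == idL) && (compL g.y g.x == idL) && decide (g.c < 24) &&
    (sift l (compL g.x g.x) == idL) && l.all (fun h => sift l (compL (compL g.x h.x) g.y) == idL) &&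
    g.d.testBit g.c && !(g.d.testBit (img g.y g.c)) && l.all (fun h => permMask h.x g.d == g.d) &&
    pcCheck l

/-- The facts about one generator. -/
structure GenOK (g : PGen) : Prop where
  ax : isAut g.x = true
  ay : isAut g.y = true
  xy : compL g.x g.y = idL
  yx : compL g.y g.x = idL

theorem GenOK.gx {g : PGen} (h : GenOK g) : Good g.x := good_of_isAut h.ax

theorem GenOK.gy {g : PGen} (h : GenOK g) : Good g.y := good_of_isAut h.ay

theorem GenOK.inv_eq {g : PGen} (h : GenOK g) : toPerm g.y = (toPerm g.x)⁻¹ := by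
  have h1 := toPerm_compL h.gx h.gy
  rw [h.xy, toPerm_idL] at h1
  exact eq_inv_of_mul_eq_one_right h1.symm

/-- Unfolding of the check. -/
structure PCStep (g : PGen) (l : List PGen) : Prop where
  ok : GenOK g
  clt : g.c < 24
  sq : sift l (compL g.x g.x) = idL
  cj : ∀ h ∈ l, sift l (compL (compL g.x h.x) g.y) = idL
  dc : g.d.testBit g.c = true
  dy : g.d.testBit (img g.y g.c) = false
  dl : ∀ h ∈ l, permMask h.x g.d = g.d
  rest : pcCheck l = true

theorem pcStep_of_check {g : PGen} {l : List PGen} (h : pcCheck (g :: l) = true) : PCStep g l := by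
  simp only [pcCheck, Bool.and_eq_true, beq_iff_eq, decide_eq_true_eq, List.all_eq_true,
    Bool.not_eq_true'] at h
  obtain ⟨⟨⟨⟨⟨⟨⟨⟨⟨⟨h1, h2⟩, h3⟩, h4⟩, h5⟩, h6⟩, h7⟩, h8⟩, h9⟩, h10⟩, h11⟩ := h
  exact ⟨⟨h1, h2, h3, h4⟩, h5, h6, h7, h8, h9, h10, h11⟩

theorem genOK_of_check {l : List PGen} (h : pcCheck l = true) : ∀ g ∈ l, GenOK g := by
  induction l with
  | nil => simp
  | cons g l ih =>
    have hs := pcStep_of_check h
    intro k hk
    rcases List.mem_cons.mp hk with rfl | hk
    · exact hs.ok
    · exact ih hs.rest k hk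

/-- A sifted list lies in the subgroup of the chain. -/
theorem sift_mem {l : List PGen} (hl : ∀ g ∈ l, GenOK g) {π : List ℕ} (hπ : Good π)
    (h : sift l π = idL) : toPerm π ∈ chainP l := by
  induction l generalizing π with
  | nil =>
    have : π = idL := h
    rw [this, toPerm_idL]
    exact one_mem _
  | cons g l ih =>
    have hg := hl g List.mem_cons_self
    have hl' : ∀ g ∈ l, GenOK g := fun k hk => hl k (List.mem_cons_of_mem _ hk)
    simp only [sift] at h
    have hle : chainP l ≤ chainP (g :: l) := chainG_le_cons _ _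
    cases hb : g.d.testBit (img π g.c) with
    | true =>
      rw [hb] at h
      exact hle (ih hl' hπ h)
    | false =>
      rw [hb] at h
      have h1 := ih hl' (good_compL hg.gy hπ) h
      rw [toPerm_compL hg.gy hπ, hg.inv_eq] at h1
      have h2 : toPerm π = toPerm g.x * ((toPerm g.x)⁻¹ * toPerm π) := by group
      rw [h2]
      exact mul_mem (mem_chainG_head _ _) (hle h1)

/-- Elements of the chain preserve masks preserved by the generators. -/
theorem chain_smul {l : List PGen} (hl : ∀ g ∈ l, GenOK g) {d : ℕ} (hd : ∀ h ∈ l, permMask h.x d = d)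
    {a : Equiv.Perm GolayPt} (ha : a ∈ chainP l) : a • supFin d = supFin d := by
  have hle : chainP l ≤ MulAction.stabilizer (Equiv.Perm GolayPt) (supFin d) := by
    apply chainG_le
    intro x hx
    obtain ⟨g, hg, rfl⟩ := List.mem_map.mp hx
    rw [MulAction.mem_stabilizer_iff]
    have hok := hl g hg
    rw [smul_supFin (isAut_valid hok.ax) (isAut_inRange hok.ax), hd g hg]
  exact hle ha

theorem chain_mem {l : List PGen} (hl : ∀ g ∈ l, GenOK g) {d : ℕ} (hd : ∀ h ∈ l, permMask h.x d = d)
    {a : Equiv.Perm GolayPt} (ha : a ∈ chainP l) {p : GolayPt} (hp : p ∈ supFin d) : a p ∈ supFin d := by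
  have h1 := chain_smul hl hd ha
  rw [← h1]
  exact Finset.smul_mem_smul_finset hp

theorem mem_supFin_idxPt {d i : ℕ} (hi : i < 24) : idxPt i ∈ supFin d ↔ d.testBit i = true := by
  rw [mem_supFin, ptIdx_idxPt hi]

/-- The inverse generator moves the point out of the mask. -/
theorem inv_not_mem {g : PGen} {l : List PGen} (hs : PCStep g l) :
    (toPerm g.x)⁻¹ (idxPt g.c) ∉ supFin g.d := by
  rw [← hs.ok.inv_eq, toPerm_idxPt (isAut_valid hs.ok.ay) hs.clt,
    mem_supFin_idxPt (hs.ok.gy.rng _ hs.clt), hs.dy]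
  simp

theorem head_not_mem {g : PGen} {l : List PGen} (hs : PCStep g l) : toPerm g.x ∉ chainP l := by
  intro h
  have hl := genOK_of_check hs.rest
  exact inv_not_mem hs (chain_mem hl hs.dl (inv_mem h) ((mem_supFin_idxPt hs.clt).mpr hs.dc))

theorem normalizes_of_step {g : PGen} {l : List PGen} (hs : PCStep g l) :
    toPerm g.x ∈ Subgroup.normalizer ((chainP l : Subgroup (Equiv.Perm GolayPt)) : Set (Equiv.Perm GolayPt)) := by
  have hl := genOK_of_check hs.rest
  apply mem_normalizer_of_conj_le
  have hle : chainP l ≤ (chainP l).comap (MulAut.conj (toPerm g.x)).toMonoidHom := by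
    apply chainG_le
    intro x hx
    obtain ⟨h, hh, rfl⟩ := List.mem_map.mp hx
    have hok := hl h hh
    have h1 := sift_mem hl (good_compL (good_compL hs.ok.gx hok.gx) hs.ok.gy) (hs.cj h hh)
    rw [toPerm_compL (good_compL hs.ok.gx hok.gx) hs.ok.gy, toPerm_compL hs.ok.gx hok.gx, hs.ok.inv_eq] at h1
    exact h1
  intro x hx
  exact hle hx

theorem sq_of_step {g : PGen} {l : List PGen} (hs : PCStep g l) : toPerm g.x * toPerm g.x ∈ chainP l := by
  have hl := genOK_of_check hs.rest
  have h1 := sift_mem hl (good_compL hs.ok.gx hs.ok.gx) hs.sq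
  rwa [toPerm_compL hs.ok.gx hs.ok.gx] at h1

theorem isPC_of_check {l : List PGen} (h : pcCheck l = true) : IsPC (perms l) := by
  induction l with
  | nil => trivial
  | cons g l ih =>
    have hs := pcStep_of_check h
    exact ⟨normalizes_of_step hs, sq_of_step hs, head_not_mem hs, ih hs.rest⟩

theorem card_chainP {l : List PGen} (h : pcCheck l = true) : Nat.card (chainP l) = 2 ^ l.length := by
  have := card_chainG (isPC_of_check h)
  simpa using this

/-- An element of the chain fixing the point of the head lies in the tail. -/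
theorem mem_tail_of_fix {g : PGen} {l : List PGen} (hs : PCStep g l) {a : Equiv.Perm GolayPt}
    (ha : a ∈ chainP (g :: l)) (hfix : a (idxPt g.c) = idxPt g.c) : a ∈ chainP l := by
  have hl := genOK_of_check hs.rest
  rcases mem_cases (normalizes_of_step hs) (sq_of_step hs) ha with h | ⟨k, hk, rfl⟩
  · exact h
  · exfalso
    have h1 : k (idxPt g.c) = (toPerm g.x)⁻¹ (idxPt g.c) := by
      rw [Equiv.Perm.eq_inv_iff_eq, ← Equiv.Perm.mul_apply]
      exact hfix
    have h2 := chain_mem hl hs.dl hk ((mem_supFin_idxPt hs.clt).mpr hs.dc)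
    rw [h1] at h2
    exact inv_not_mem hs h2

theorem pcCheck_drop {l : List PGen} (h : pcCheck l = true) (n : ℕ) : pcCheck (l.drop n) = true := by
  induction n generalizing l with
  | zero => simpa using h
  | succ n ih =>
    cases l with
    | nil => simpa using h
    | cons g l => exact ih (pcStep_of_check h).rest

theorem chainP_drop_le (l : List PGen) (n : ℕ) : chainP (l.drop n) ≤ chainP l := by
  apply chainG_le
  intro x hx
  obtain ⟨g, hg, rfl⟩ := List.mem_map.mp hx
  exact mem_chainG_of_mem (List.mem_map.mpr ⟨g, List.mem_of_mem_drop hg, rfl⟩)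

/-- Dropping a level: elements fixing the point common to the first generators lie in the rest. -/
theorem mem_drop_of_fix {l : List PGen} (h : pcCheck l = true) {b : ℕ} (n : ℕ)
    (hc : ∀ g ∈ l.take n, g.c = b) {a : Equiv.Perm GolayPt} (ha : a ∈ chainP l)
    (hfix : a (idxPt b) = idxPt b) : a ∈ chainP (l.drop n) := by
  induction n generalizing l with
  | zero => simpa using ha
  | succ n ih =>
    cases l with
    | nil => simpa using ha
    | cons g l =>
      have hs := pcStep_of_check h
      have h1 : g.c = b := hc g (by simp)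
      rw [List.drop_succ_cons]
      refine ih hs.rest (fun k hk => hc k ?_) ?_
      · rw [List.take_succ_cons]
        exact List.mem_cons_of_mem _ hk
      · exact mem_tail_of_fix hs ha (h1 ▸ hfix)

/-! ### Normal forms and the centre -/

/-- All normal forms of a chain. -/
def nfList : List PGen → List (List ℕ)
  | [] => [idL]
  | g :: l => nfList l ++ (nfList l).map (compL g.x)

theorem mem_nfList {l : List PGen} (h : pcCheck l = true) {a : Equiv.Perm GolayPt} (ha : a ∈ chainP l) :
    ∃ π ∈ nfList l, Good π ∧ a = toPerm π := by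
  induction l generalizing a with
  | nil =>
    have : a = 1 := by
      have h1 : a ∈ chainG ([] : List (Equiv.Perm GolayPt)) := ha
      rw [chainG_nil] at h1
      exact h1
    exact ⟨idL, by simp [nfList], good_idL, by rw [this, toPerm_idL]⟩
  | cons g l ih =>
    have hs := pcStep_of_check h
    rcases mem_cases (normalizes_of_step hs) (sq_of_step hs) ha with h1 | ⟨k, hk, rfl⟩
    · obtain ⟨π, hπ, hg, he⟩ := ih hs.rest h1
      exact ⟨π, by simp [nfList, hπ], hg, he⟩
    · obtain ⟨π, hπ, hg, he⟩ := ih hs.rest hk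
      refine ⟨compL g.x π, ?_, good_compL hs.ok.gx hg, ?_⟩
      · simp only [nfList, List.mem_append, List.mem_map]
        exact Or.inr ⟨π, hπ, rfl⟩
      · rw [toPerm_compL hs.ok.gx hg, he]

/-- Composite lists are determined by their permutations. -/
theorem compL_eq_of_toPerm {a b c d : List ℕ} (ha : Good a) (hb : Good b) (hc : Good c) (hd : Good d)
    (h : toPerm (compL a b) = toPerm (compL c d)) : compL a b = compL c d := by
  have key : ∀ i < 24, img a (img b i) = img c (img d i) := by
    intro i hi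
    have h4 : toPerm (compL a b) (idxPt i) = toPerm (compL c d) (idxPt i) := by rw [h]
    rw [toPerm_apply_good (good_compL ha hb), toPerm_apply_good (good_compL hc hd)] at h4
    simp only [permFun] at h4
    rw [ptIdx_idxPt hi] at h4
    have h5 := congrArg ptIdx h4
    rw [ptIdx_idxPt ((good_compL ha hb).rng i hi), ptIdx_idxPt ((good_compL hc hd).rng i hi),
      img_compL _ _ hi, img_compL _ _ hi] at h5
    exact h5
  unfold compL
  apply List.map_congr_left
  intro i hi
  exact key i (List.mem_range.mp hi)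

/-- Check that the only nontrivial central normal form is `z`. -/
def centerCheck (l : List PGen) (z : List ℕ) : Bool :=
  (nfList l).all fun π => (π == idL) || (π == z) || l.any fun h => compL π h.x != compL h.x π

theorem eq_of_central {l : List PGen} (h : pcCheck l = true) {z : List ℕ} (hz : centerCheck l z = true)
    {a : Equiv.Perm GolayPt} (ha : a ∈ chainP l) (ha1 : a ≠ 1) (hc : ∀ s ∈ chainP l, s * a = a * s) :
    a = toPerm z := by
  obtain ⟨π, hπ, hg, rfl⟩ := mem_nfList h ha
  simp only [centerCheck, List.all_eq_true, Bool.or_eq_true, beq_iff_eq, List.any_eq_true,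
    bne_iff_ne, ne_eq] at hz
  rcases hz π hπ with (h1 | h1) | ⟨k, hk, h1⟩
  · rw [h1, toPerm_idL] at ha1
    exact absurd rfl ha1
  · rw [h1]
  · exfalso
    apply h1
    have hok := genOK_of_check h k hk
    have h2 := hc (toPerm k.x) (mem_chainG_of_mem (List.mem_map.mpr ⟨k, hk, rfl⟩))
    apply compL_eq_of_toPerm hg hok.gx hok.gx hg
    rw [toPerm_compL hg hok.gx, toPerm_compL hok.gx hg, h2]

/-! ### Chains of conjugates -/

/-- One step of a chain of conjugates: a word in the known elements, a conjugating element with its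
inverse, and the resulting element of the Sylow subgroup. -/
structure CStep where
  w : List ℕ
  g : List ℕ
  gi : List ℕ
  r : List ℕ

/-- The product of a word in a list. -/
def prodW (known : List (List ℕ)) : List ℕ → List ℕ
  | [] => idL
  | i :: w => compL (known.getD i idL) (prodW known w)

/-- The check of a chain of conjugates, reaching all generators of the chain. -/
def stepsCheck (P : List ℕ → Bool) (l : List PGen) : List CStep → List (List ℕ) → Bool
  | [], known => l.all fun h => known.contains h.x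
  | s :: ss, known =>
    isAut s.g && isAut s.gi && P s.g && (compL s.g s.gi == idL) && isAut s.r &&
    (compL (compL s.g (prodW known s.w)) s.gi == s.r) && (sift l s.r == idL) &&
    stepsCheck P l ss (known ++ [s.r])

theorem good_prodW {known : List (List ℕ)} (hk : ∀ π ∈ known, Good π) (w : List ℕ) :
    Good (prodW known w) := by
  induction w with
  | nil => exact good_idL
  | cons i w ih =>
    refine good_compL ?_ ih
    by_cases hi : i < known.length
    · rw [List.getD_eq_getElem _ _ hi]
      exact hk _ (List.getElem_mem hi)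
    · rw [List.getD_eq_default _ _ (by omega)]
      exact good_idL

theorem toPerm_prodW_mem {T : Subgroup (Equiv.Perm GolayPt)} {known : List (List ℕ)}
    (hk : ∀ π ∈ known, Good π) (hT : ∀ π ∈ known, toPerm π ∈ T) (w : List ℕ) :
    toPerm (prodW known w) ∈ T := by
  induction w with
  | nil =>
    show toPerm idL ∈ T
    rw [toPerm_idL]
    exact one_mem _
  | cons i w ih =>
    show toPerm (compL _ _) ∈ T
    have hgood : Good (known.getD i idL) := by
      by_cases hi : i < known.length
      · rw [List.getD_eq_getElem _ _ hi]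
        exact hk _ (List.getElem_mem hi)
      · rw [List.getD_eq_default _ _ (by omega)]
        exact good_idL
    rw [toPerm_compL hgood (good_prodW hk w)]
    refine mul_mem ?_ ih
    by_cases hi : i < known.length
    · rw [List.getD_eq_getElem _ _ hi]
      exact hT _ (List.getElem_mem hi)
    · rw [List.getD_eq_default _ _ (by omega), toPerm_idL]
      exact one_mem _

/-- Running a chain of conjugates inside a subgroup closed under such conjugation. -/
theorem stepsCheck_sound {G T : Subgroup (Equiv.Perm GolayPt)} {P : List ℕ → Bool}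
    (hP : ∀ t, isAut t = true → P t = true → toPerm t ∈ G) {l : List PGen}
    (hl : ∀ g ∈ l, GenOK g)
    (hcl : ∀ t ∈ T, ∀ g ∈ G, g * t * g⁻¹ ∈ chainP l → g * t * g⁻¹ ∈ T) (steps : List CStep) :
    ∀ known : List (List ℕ), stepsCheck P l steps known = true → (∀ π ∈ known, Good π) →
      (∀ π ∈ known, toPerm π ∈ T) → chainP l ≤ T := by
  induction steps with
  | nil =>
    intro known h _ hT
    simp only [stepsCheck, List.all_eq_true, List.contains_iff_mem] at h
    apply chainG_le
    intro x hx
    obtain ⟨g, hg, rfl⟩ := List.mem_map.mp hx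
    exact hT _ (h g hg)
  | cons s ss ih =>
    intro known h hk hT
    simp only [stepsCheck, Bool.and_eq_true, beq_iff_eq] at h
    obtain ⟨⟨⟨⟨⟨⟨⟨h1, h2⟩, h3⟩, h4⟩, h5⟩, h6⟩, h7⟩, h8⟩ := h
    have hg := good_of_isAut h1
    have hgi := good_of_isAut h2
    have hr := good_of_isAut h5
    have hgw := good_prodW hk s.w
    have hinv : toPerm s.gi = (toPerm s.g)⁻¹ := by
      have h9 := toPerm_compL hg hgi
      rw [h4, toPerm_idL] at h9
      exact eq_inv_of_mul_eq_one_right h9.symm
    have hreq : toPerm s.r = toPerm s.g * toPerm (prodW known s.w) * (toPerm s.g)⁻¹ := by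
      rw [← h6, toPerm_compL (good_compL hg hgw) hgi, toPerm_compL hg hgw, hinv]
    have hrS : toPerm s.r ∈ chainP l := sift_mem hl hr h7
    have hrT : toPerm s.r ∈ T := by
      rw [hreq] at hrS ⊢
      exact hcl _ (toPerm_prodW_mem hk hT s.w) _ (hP _ h1 h3) hrS
    refine ih _ h8 ?_ ?_
    · intro π hπ
      rcases List.mem_append.mp hπ with h9 | h9
      · exact hk π h9
      · rw [List.mem_singleton.mp h9]
        exact hr
    · intro π hπ
      rcases List.mem_append.mp hπ with h9 | h9
      · exact hT π h9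
      · rw [List.mem_singleton.mp h9]
        exact hrT

/-- The strongly closed part of the certificate. -/
theorem closed_eq {G : Subgroup (Equiv.Perm GolayPt)} {P : List ℕ → Bool}
    (hP : ∀ t, isAut t = true → P t = true → toPerm t ∈ G) {l : List PGen}
    (hpc : pcCheck l = true) (hlG : chainP l ≤ G) {z : List ℕ} (hzg : isAut z = true)
    (hz : centerCheck l z = true) {steps : List CStep}
    (hsteps : stepsCheck P l steps [z] = true) (T : Subgroup (Equiv.Perm GolayPt)) (hT : T ≤ chainP l)
    (hcl : ∀ t ∈ T, ∀ g ∈ G, g * t * g⁻¹ ∈ chainP l → g * t * g⁻¹ ∈ T) : T = ⊥ ∨ T = chainP l := by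
  by_cases hbot : T = ⊥
  · exact Or.inl hbot
  right
  apply le_antisymm hT
  have hl := genOK_of_check hpc
  have h2 : IsPGroup 2 (chainP l) := by
    apply IsPGroup.of_card (n := l.length)
    exact card_chainP hpc
  haveI : Fact (Nat.Prime 2) := ⟨Nat.prime_two⟩
  obtain ⟨t, ht, ht1, hcent⟩ := exists_central_of_normal h2 hbot hT fun s hs t ht =>
    hcl t ht s (hlG hs) (mul_mem (mul_mem hs (hT ht)) (inv_mem hs))
  have hzt : t = toPerm z := eq_of_central hpc hz (hT ht) ht1 hcent
  refine stepsCheck_sound hP hl hcl steps [z] hsteps ?_ ?_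
  · intro π hπ
    rw [List.mem_singleton.mp hπ]
    exact good_of_isAut hzg
  · intro π hπ
    rw [List.mem_singleton.mp hπ, ← hzt]
    exact ht

/-! ### Orbit tables -/

/-- The orbit mask stored for a point. -/
def tp (t : List ℕ) (p : GolayPt) : ℕ := t.getD (ptIdx p) 0

/-- The table consists of the orbits of `A`. -/
structure OrbSem (A : Subgroup (Equiv.Perm GolayPt)) (t : List ℕ) : Prop where
  self : ∀ p, p ∈ supFin (tp t p)
  closed : ∀ p, ∀ a ∈ A, ∀ q ∈ supFin (tp t p), a q ∈ supFin (tp t p)
  reach : ∀ p, ∀ q ∈ supFin (tp t p), ∃ a ∈ A, a p = q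

/-- One pass over the generators. -/
def orbPass (l : List PGen) (m : ℕ) : ℕ := l.foldl (fun acc h => acc ||| permMask h.x acc) m

/-- Iterated passes. -/
def orbIter (l : List PGen) : ℕ → ℕ → ℕ
  | 0, m => m
  | n + 1, m => orbIter l n (orbPass l m)

/-- The check of an orbit table. -/
def tableOK (l : List PGen) (t : List ℕ) : Bool :=
  allBelow (fun y => (t.getD y 0).testBit y && (orbIter l 3 (2 ^ y) == t.getD y 0) &&
    l.all fun h => permMask h.x (t.getD y 0) == t.getD y 0) 24

theorem reach_foldl {l : List PGen} (hl : ∀ g ∈ l, GenOK g) {p : GolayPt} (l' : List PGen)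
    (hl' : ∀ g ∈ l', g ∈ l) (m : ℕ) (hm : ∀ q ∈ supFin m, ∃ a ∈ chainP l, a p = q) :
    ∀ q ∈ supFin (l'.foldl (fun acc h => acc ||| permMask h.x acc) m), ∃ a ∈ chainP l, a p = q := by
  induction l' generalizing m with
  | nil => simpa using hm
  | cons h l' ih =>
    rw [List.foldl_cons]
    refine ih (fun g hg => hl' g (List.mem_cons_of_mem _ hg)) _ ?_
    intro q hq
    rw [mem_supFin, Nat.testBit_or, Bool.or_eq_true, ← mem_supFin, ← mem_supFin] at hq
    rcases hq with hq | hq
    · exact hm q hq
    · have hh := hl' h List.mem_cons_self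
      have hok := hl h hh
      rw [← smul_supFin (isAut_valid hok.ax) (isAut_inRange hok.ax), Finset.mem_smul_finset] at hq
      obtain ⟨r, hr, rfl⟩ := hq
      obtain ⟨a, ha, rfl⟩ := hm r hr
      exact ⟨toPerm h.x * a, mul_mem (mem_chainG_of_mem (List.mem_map.mpr ⟨h, hh, rfl⟩)) ha, rfl⟩

theorem reach_iter {l : List PGen} (hl : ∀ g ∈ l, GenOK g) {p : GolayPt} (n m : ℕ)
    (hm : ∀ q ∈ supFin m, ∃ a ∈ chainP l, a p = q) :
    ∀ q ∈ supFin (orbIter l n m), ∃ a ∈ chainP l, a p = q := by
  induction n generalizing m with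
  | zero => exact hm
  | succ n ih =>
    exact ih _ (reach_foldl hl l (fun _ h => h) m hm)

theorem orbSem_of_tableOK {l : List PGen} (hl : ∀ g ∈ l, GenOK g) {t : List ℕ} (h : tableOK l t = true) :
    OrbSem (chainP l) t := by
  have hy : ∀ p : GolayPt, (t.getD (ptIdx p) 0).testBit (ptIdx p) = true ∧
      orbIter l 3 (2 ^ ptIdx p) = t.getD (ptIdx p) 0 ∧
      ∀ h ∈ l, permMask h.x (t.getD (ptIdx p) 0) = t.getD (ptIdx p) 0 := by
    intro p
    have h1 := allBelow_spec h (ptIdx p) (ptIdx_lt p)
    simp only [Bool.and_eq_true, beq_iff_eq, List.all_eq_true] at h1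
    exact ⟨h1.1.1, h1.1.2, h1.2⟩
  refine ⟨fun p => ?_, fun p a ha q hq => ?_, fun p q hq => ?_⟩
  · exact mem_supFin.mpr (hy p).1
  · exact chain_mem hl (hy p).2.2 ha hq
  · have h2 : q ∈ supFin (orbIter l 3 (2 ^ ptIdx p)) := by
      rw [(hy p).2.1]
      exact hq
    refine reach_iter hl 3 _ ?_ q h2
    intro r hr
    refine ⟨1, one_mem _, ?_⟩
    rw [mem_supFin, Nat.testBit_two_pow] at hr
    have h3 : ptIdx p = ptIdx r := by simpa using hr
    exact ptIdx_injective h3

variable {A : Subgroup (Equiv.Perm GolayPt)} {t : List ℕ}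

theorem OrbSem.eq_of_mem (hO : OrbSem A t) {p q : GolayPt} (hq : q ∈ supFin (tp t p)) :
    supFin (tp t q) = supFin (tp t p) := by
  obtain ⟨a, ha, rfl⟩ := hO.reach p q hq
  ext r
  constructor
  · intro hr
    obtain ⟨b, hb, rfl⟩ := hO.reach _ r hr
    exact hO.closed p _ hb _ hq
  · intro hr
    obtain ⟨b, hb, rfl⟩ := hO.reach _ r hr
    have e : b p = (b * a⁻¹) (a p) := by simp
    rw [e]
    exact hO.closed _ _ (mul_mem hb (inv_mem ha)) _ (hO.self _)

/-- A normalizing element maps orbits to orbits. -/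
theorem OrbSem.map_mem (hO : OrbSem A t) {g : Equiv.Perm GolayPt}
    (hg : g ∈ Subgroup.normalizer ((A : Subgroup (Equiv.Perm GolayPt)) : Set (Equiv.Perm GolayPt)))
    {p q : GolayPt} (hq : q ∈ supFin (tp t p)) : g q ∈ supFin (tp t (g p)) := by
  obtain ⟨a, ha, rfl⟩ := hO.reach p q hq
  have e : g (a p) = (g * a * g⁻¹) (g p) := by simp
  rw [e]
  exact hO.closed _ _ ((Subgroup.mem_normalizer_iff.mp hg a).mp ha) _ (hO.self _)

theorem OrbSem.hw_eq (hO : OrbSem A t) {g : Equiv.Perm GolayPt}
    (hg : g ∈ Subgroup.normalizer ((A : Subgroup (Equiv.Perm GolayPt)) : Set (Equiv.Perm GolayPt)))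
    (p : GolayPt) : hw 24 (tp t (g p)) = hw 24 (tp t p) := by
  rw [← card_supFin, ← card_supFin]
  have h1 : supFin (tp t (g p)) = g • supFin (tp t p) := by
    ext r
    rw [Finset.mem_smul_finset]
    constructor
    · intro hr
      obtain ⟨b, hb, rfl⟩ := hO.reach _ r hr
      refine ⟨(g⁻¹ * b * g) p, hO.closed _ _ ?_ _ (hO.self p), by simp⟩
      have := (Subgroup.mem_normalizer_iff.mp (inv_mem hg) b).mp hb
      rwa [inv_inv] at this
    · rintro ⟨q, hq, rfl⟩
      exact hO.map_mem hg hq
  rw [h1, Finset.card_smul_finset]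

/-- A set invariant under `g`. -/
def Inv (g : Equiv.Perm GolayPt) (Y : ℕ) : Prop := ∀ p ∈ supFin Y, g p ∈ supFin Y

/-- Two orbits permuted by an element with an odd power in `A`: each is preserved. -/
theorem two_orbits (hO : OrbSem A t) {g : Equiv.Perm GolayPt}
    (hg : g ∈ Subgroup.normalizer ((A : Subgroup (Equiv.Perm GolayPt)) : Set (Equiv.Perm GolayPt)))
    {n : ℕ} (hn : Odd n) (hgn : g ^ n ∈ A) {p₀ p₁ : GolayPt} (hp : p₁ ∉ supFin (tp t p₀))
    (h0 : g p₀ ∈ supFin (tp t p₀) ∨ g p₀ ∈ supFin (tp t p₁))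
    (h1 : g p₁ ∈ supFin (tp t p₀) ∨ g p₁ ∈ supFin (tp t p₁)) :
    (∀ q ∈ supFin (tp t p₀), g q ∈ supFin (tp t p₀)) ∧ (∀ q ∈ supFin (tp t p₁), g q ∈ supFin (tp t p₁)) := by
  have hdisj : ∀ q, q ∈ supFin (tp t p₀) → q ∈ supFin (tp t p₁) → False := by
    intro q h2 h3
    apply hp
    have h4 := hO.eq_of_mem h2
    have h5 := hO.eq_of_mem h3
    rw [← h4, h5]
    exact hO.self p₁
  have hmap : ∀ a b : GolayPt, g a ∈ supFin (tp t b) → ∀ q ∈ supFin (tp t a), g q ∈ supFin (tp t b) := by
    intro a b h2 q hq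
    have h3 := hO.map_mem hg hq
    rwa [hO.eq_of_mem h2] at h3
  have hA0 : ∀ a, (g ^ n) a ∈ supFin (tp t a) := fun a => hO.closed a _ hgn _ (hO.self a)
  have hiter : ∀ (a b : GolayPt), (∀ q ∈ supFin (tp t a), g q ∈ supFin (tp t b)) →
      (∀ q ∈ supFin (tp t b), g q ∈ supFin (tp t b)) → ∀ k, (g ^ (k + 1)) a ∈ supFin (tp t b) := by
    intro a b h2 h3 k
    induction k with
    | zero => simpa using h2 a (hO.self a)
    | succ k ih =>
      rw [pow_succ', Equiv.Perm.mul_apply]
      exact h3 _ ih
  obtain ⟨j, hj⟩ := hn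
  rcases h0 with h0 | h0 <;> rcases h1 with h1 | h1
  · exfalso
    have h2 := hiter p₁ p₀ (hmap _ _ h1) (hmap _ _ h0) (2 * j)
    rw [← hj] at h2
    exact hdisj _ h2 (hA0 p₁)
  · exact ⟨hmap _ _ h0, hmap _ _ h1⟩
  · exfalso
    have hsw : ∀ k, (g ^ (2 * k + 1)) p₀ ∈ supFin (tp t p₁) := by
      intro k
      induction k with
      | zero => simpa using h0
      | succ k ih =>
        have e : g ^ (2 * (k + 1) + 1) = g * (g * g ^ (2 * k + 1)) := by
          rw [← mul_assoc, ← pow_two, ← pow_add]
          congr 1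
          ring
        rw [e, Equiv.Perm.mul_apply, Equiv.Perm.mul_apply]
        exact hmap _ _ h0 _ (hmap _ _ h1 _ ih)
    have h2 := hsw j
    rw [← hj] at h2
    exact hdisj _ (hA0 p₀) h2
  · exfalso
    have h2 := hiter p₀ p₁ (hmap _ _ h0) (hmap _ _ h1) (2 * j)
    rw [← hj] at h2
    exact hdisj _ (hA0 p₀) h2

/-! ### Refinement -/

/-- The submask of the bits below `n` satisfying `f`. -/
def filterMask (f : ℕ → Bool) (Y : ℕ) : ℕ → ℕ
  | 0 => 0
  | n + 1 => cond (Y.testBit n && f n) (filterMask f Y n ||| 2 ^ n) (filterMask f Y n)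

theorem testBit_filterMask (f : ℕ → Bool) (Y n i : ℕ) :
    (filterMask f Y n).testBit i = true ↔ i < n ∧ Y.testBit i = true ∧ f i = true := by
  induction n with
  | zero => simp [filterMask]
  | succ n ih =>
    simp only [filterMask]
    cases hb : (Y.testBit n && f n) with
    | true =>
      simp only [Bool.and_eq_true] at hb
      simp only [cond_true, Nat.testBit_or, Bool.or_eq_true, ih, Nat.testBit_two_pow, decide_eq_true_eq]
      constructor
      · rintro (⟨h1, h2, h3⟩ | rfl)
        · exact ⟨by omega, h2, h3⟩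
        · exact ⟨by omega, hb.1, hb.2⟩
      · rintro ⟨h1, h2, h3⟩
        by_cases hi : i = n
        · exact Or.inr hi.symm
        · exact Or.inl ⟨by omega, h2, h3⟩
    | false =>
      simp only [cond_false, ih]
      constructor
      · rintro ⟨h1, h2, h3⟩
        exact ⟨by omega, h2, h3⟩
      · rintro ⟨h1, h2, h3⟩
        refine ⟨?_, h2, h3⟩
        by_contra hi
        have : i = n := by omega
        subst this
        simp [h2, h3] at hb

/-- The lowest bit of a mask, below 24 (or 24). -/
def lowBit (m : ℕ) : ℕ := (List.range 24).foldr (fun i r => cond (m.testBit i) i r) 24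

/-- Splitting a set with all orbits of one size. -/
def splitOne (t : List ℕ) (Ys : ℕ) : List ℕ :=
  cond (Ys == 0) []
    (cond (Ys == t.getD (lowBit Ys) 0) [t.getD (lowBit Ys) 0]
      (cond ((Ys == (t.getD (lowBit Ys) 0 ||| t.getD (lowBit (Ys ^^^ t.getD (lowBit Ys) 0)) 0)) &&
          !((t.getD (lowBit Ys) 0).testBit (lowBit (Ys ^^^ t.getD (lowBit Ys) 0))) &&
          decide (lowBit Ys < 24) && decide (lowBit (Ys ^^^ t.getD (lowBit Ys) 0) < 24))
        [t.getD (lowBit Ys) 0, t.getD (lowBit (Ys ^^^ t.getD (lowBit Ys) 0)) 0] [Ys]))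

/-- Points of `Y` with orbit size `s`. -/
def sizePart (t : List ℕ) (Y s : ℕ) : ℕ := filterMask (fun y => hw 24 (t.getD y 0) == s) Y 24

/-- Refinement of one part. -/
def refinePart (t : List ℕ) (Y : ℕ) : List ℕ :=
  [1, 2, 4, 8, 16].flatMap fun s => splitOne t (sizePart t Y s)

theorem mem_sizePart {Y s : ℕ} {p : GolayPt} :
    p ∈ supFin (sizePart t Y s) ↔ p ∈ supFin Y ∧ hw 24 (tp t p) = s := by
  rw [mem_supFin, sizePart, testBit_filterMask, mem_supFin]
  simp only [beq_iff_eq]
  constructor
  · rintro ⟨-, h2, h3⟩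
    exact ⟨h2, h3⟩
  · rintro ⟨h2, h3⟩
    exact ⟨ptIdx_lt p, h2, h3⟩

theorem splitOne_sound (hO : OrbSem A t) {g : Equiv.Perm GolayPt}
    (hg : g ∈ Subgroup.normalizer ((A : Subgroup (Equiv.Perm GolayPt)) : Set (Equiv.Perm GolayPt)))
    {n : ℕ} (hn : Odd n) (hgn : g ^ n ∈ A) {Ys Z : ℕ} (hY : Inv g Ys) (hZ : Z ∈ splitOne t Ys) :
    Inv g Z := by
  unfold splitOne at hZ
  cases h1 : (Ys == 0) with
  | true =>
    rw [h1] at hZ
    simp at hZ
  | false =>
    rw [h1] at hZ
    simp only [cond_false] at hZ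
    cases h2 : (Ys == t.getD (lowBit Ys) 0) with
    | true =>
      rw [h2] at hZ
      simp only [cond_true, List.mem_singleton] at hZ
      rw [hZ, ← beq_iff_eq.mp h2]
      exact hY
    | false =>
      rw [h2] at hZ
      simp only [cond_false] at hZ
      set y := lowBit Ys with hy
      set y' := lowBit (Ys ^^^ t.getD y 0) with hy'
      cases h3 : ((Ys == (t.getD y 0 ||| t.getD y' 0)) && !((t.getD y 0).testBit y') &&
          decide (y < 24) && decide (y' < 24)) with
      | false =>
        rw [h3] at hZ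
        simp only [cond_false, List.mem_singleton] at hZ
        rw [hZ]
        exact hY
      | true =>
        rw [h3] at hZ
        simp only [Bool.and_eq_true, beq_iff_eq, Bool.not_eq_true', decide_eq_true_eq] at h3
        obtain ⟨⟨⟨h4, h5⟩, h6⟩, h7⟩ := h3
        simp only [cond_true, List.mem_cons, List.not_mem_nil, or_false] at hZ
        have e0 : tp t (idxPt y) = t.getD y 0 := by simp [tp, ptIdx_idxPt h6]
        have e1 : tp t (idxPt y') = t.getD y' 0 := by simp [tp, ptIdx_idxPt h7]
        have hmemY : ∀ q, q ∈ supFin Ys ↔ q ∈ supFin (tp t (idxPt y)) ∨ q ∈ supFin (tp t (idxPt y')) := by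
          intro q
          rw [e0, e1, h4, mem_supFin, mem_supFin, mem_supFin, Nat.testBit_or, Bool.or_eq_true]
        have hself : ∀ a, a ∈ supFin (tp t a) := hO.self
        have hp : idxPt y' ∉ supFin (tp t (idxPt y)) := by
          rw [e0, mem_supFin_idxPt h7, h5]
          simp
        obtain ⟨r1, r2⟩ := two_orbits hO hg hn hgn hp
          ((hmemY _).mp (hY _ ((hmemY _).mpr (Or.inl (hself _)))))
          ((hmemY _).mp (hY _ ((hmemY _).mpr (Or.inr (hself _)))))
        rw [e0] at r1
        rw [e1] at r2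
        rcases hZ with rfl | rfl
        · exact r1
        · exact r2

theorem refinePart_sound (hO : OrbSem A t) {g : Equiv.Perm GolayPt}
    (hg : g ∈ Subgroup.normalizer ((A : Subgroup (Equiv.Perm GolayPt)) : Set (Equiv.Perm GolayPt)))
    {n : ℕ} (hn : Odd n) (hgn : g ^ n ∈ A) {Y Z : ℕ} (hY : Inv g Y) (hZ : Z ∈ refinePart t Y) :
    Inv g Z := by
  simp only [refinePart, List.mem_flatMap] at hZ
  obtain ⟨s, -, hZ⟩ := hZ
  refine splitOne_sound hO hg hn hgn ?_ hZ
  intro p hp
  rw [mem_sizePart] at hp ⊢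
  exact ⟨hY p hp.1, by rw [hO.hw_eq hg, hp.2]⟩

/-! ### Running the tree -/

/-- A level of the tree: the point to fix, how many generators are dropped, the orbit table. -/
structure Level where
  b : ℕ
  len : ℕ
  t : List ℕ

/-- Fixing a list of points. -/
def Fixes (g : Equiv.Perm GolayPt) (bl : List ℕ) : Prop := ∀ b ∈ bl, g (idxPt b) = idxPt b

/-- The tree check. -/
def treeRun (F : ℕ) (t0 : List ℕ) : List Level → List PGen → List ℕ → Bool
  | [], cur, parts =>
    cur.isEmpty && tableOK [] t0 &&
      allBelow (fun y => !(F.testBit y) || (parts.flatMap (refinePart t0)).contains (2 ^ y)) 24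
  | v :: ls, cur, parts =>
    tableOK cur v.t && decide (v.b < 24) && (parts.flatMap (refinePart v.t)).contains (v.t.getD v.b 0) &&
    (cur.take v.len).all (fun g => g.c == v.b) && (cur.drop v.len).all (fun g => img g.x v.b == v.b) &&
    treeRun F t0 ls (cur.drop v.len) (parts.flatMap (refinePart v.t))

/-- Soundness of the tree: every element of `Γ` lies in `S₀`. -/
theorem treeRun_sound {S₀ Γ : Subgroup (Equiv.Perm GolayPt)} (hSΓ : S₀ ≤ Γ)
    (hΓN : Γ ≤ Subgroup.normalizer ((S₀ : Subgroup (Equiv.Perm GolayPt)) : Set (Equiv.Perm GolayPt)))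
    (hodd : ∀ g ∈ Γ, ∃ n : ℕ, Odd n ∧ g ^ n ∈ S₀) {F : ℕ} {t0 : List ℕ}
    (hfin : ∀ g ∈ Γ, (∀ p ∈ supFin F, g p = p) → g = 1) (levels : List Level) :
    ∀ (cur : List PGen) (bl : List ℕ) (parts : List ℕ), pcCheck cur = true →
      (∀ a ∈ chainP cur, a ∈ S₀ ∧ Fixes a bl) → (∀ a ∈ S₀, Fixes a bl → a ∈ chainP cur) →
      treeRun F t0 levels cur parts = true →
      (∀ Y ∈ parts, ∀ g ∈ Γ, Fixes g bl → Inv g Y) →
      ∀ g ∈ Γ, Fixes g bl → g ∈ chainP cur := by
  have hstage : ∀ (cur : List PGen) (bl : List ℕ) (g : Equiv.Perm GolayPt),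
      (∀ a ∈ chainP cur, a ∈ S₀ ∧ Fixes a bl) → (∀ a ∈ S₀, Fixes a bl → a ∈ chainP cur) →
      g ∈ Γ → Fixes g bl →
      g ∈ Subgroup.normalizer ((chainP cur : Subgroup (Equiv.Perm GolayPt)) : Set (Equiv.Perm GolayPt)) ∧
        ∃ n : ℕ, Odd n ∧ g ^ n ∈ chainP cur := by
    intro cur bl g h1 h2 hg hfix
    have hgfix : ∀ k : ℕ, Fixes (g ^ k) bl := by
      intro k b hb
      induction k with
      | zero => simp
      | succ k ih =>
        rw [pow_succ, Equiv.Perm.mul_apply, hfix b hb, ih]
    constructor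
    · apply mem_normalizer_of_conj_le
      intro x hx
      obtain ⟨hxS, hxF⟩ := h1 x hx
      apply h2
      · exact (Subgroup.mem_normalizer_iff.mp (hΓN hg) x).mp hxS
      · intro b hb
        have e : g⁻¹ (idxPt b) = idxPt b := by
          rw [Equiv.Perm.inv_eq_iff_eq]
          exact (hfix b hb).symm
        simp [Equiv.Perm.mul_apply, e, hxF b hb, hfix b hb]
    · obtain ⟨n, hn, hgn⟩ := hodd g hg
      exact ⟨n, hn, h2 _ hgn (hgfix n)⟩
  induction levels with
  | nil =>
    intro cur bl parts hpc h1 h2 hrun hparts g hg hfix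
    simp only [treeRun, Bool.and_eq_true, List.isEmpty_iff] at hrun
    obtain ⟨⟨hcur, htab⟩, hall⟩ := hrun
    subst hcur
    have hO := orbSem_of_tableOK (by simp) htab
    obtain ⟨hN, n, hn, hgn⟩ := hstage [] bl g h1 h2 hg hfix
    have hg1 : g = 1 := by
      apply hfin g hg
      intro p hp
      have h3 := allBelow_spec hall (ptIdx p) (ptIdx_lt p)
      rw [mem_supFin] at hp
      simp only [hp, Bool.not_true, Bool.false_or, List.contains_iff_mem, List.mem_flatMap] at h3
      obtain ⟨Y, hY, hZ⟩ := h3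
      have h4 := refinePart_sound hO hN hn hgn (hparts Y hY g hg hfix) hZ p (by
        rw [mem_supFin, Nat.testBit_two_pow]
        simp)
      rw [mem_supFin, Nat.testBit_two_pow] at h4
      have h5 : ptIdx p = ptIdx (g p) := by simpa using h4
      exact (ptIdx_injective h5).symm
    rw [hg1]
    exact one_mem _
  | cons v ls ih =>
    intro cur bl parts hpc h1 h2 hrun hparts g hg hfix
    simp only [treeRun, Bool.and_eq_true, decide_eq_true_eq, List.contains_iff_mem, List.all_eq_true,
      beq_iff_eq] at hrun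
    obtain ⟨⟨⟨⟨⟨htab, hb⟩, hmem⟩, htake⟩, hdrop⟩, hnext⟩ := hrun
    have hl := genOK_of_check hpc
    have hO := orbSem_of_tableOK hl htab
    have hrefine : ∀ Y ∈ parts.flatMap (refinePart v.t), ∀ g ∈ Γ, Fixes g bl → Inv g Y := by
      intro Z hZ g hg hfix
      obtain ⟨Y, hY, hZY⟩ := List.mem_flatMap.mp hZ
      obtain ⟨hN, n, hn, hgn⟩ := hstage cur bl g h1 h2 hg hfix
      exact refinePart_sound hO hN hn hgn (hparts Y hY g hg hfix) hZY
    -- the next stage
    have hdropfix : ∀ a ∈ chainP (cur.drop v.len), a (idxPt v.b) = idxPt v.b := by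
      have hle : chainP (cur.drop v.len) ≤ MulAction.stabilizer (Equiv.Perm GolayPt) (idxPt v.b) := by
        apply chainG_le
        intro x hx
        obtain ⟨k, hk, rfl⟩ := List.mem_map.mp hx
        rw [MulAction.mem_stabilizer_iff]
        have hok := hl k (List.mem_of_mem_drop hk)
        have h3 := hdrop k hk
        rw [Equiv.Perm.smul_def, toPerm_idxPt (isAut_valid hok.ax) hb, h3]
      exact fun a ha => hle ha
    have hnextpc := pcCheck_drop hpc v.len
    have hle := chainP_drop_le cur v.len
    have hih := ih (cur.drop v.len) (v.b :: bl) _ hnextpc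
      (fun a ha => ⟨(h1 a (hle ha)).1, fun b hb => by
        rcases List.mem_cons.mp hb with rfl | hb
        · exact hdropfix a ha
        · exact (h1 a (hle ha)).2 b hb⟩)
      (fun a ha hf => mem_drop_of_fix hpc v.len htake (h2 a ha fun b hb => hf b (List.mem_cons_of_mem _ hb))
        (hf v.b List.mem_cons_self))
      hnext (fun Y hY g hg hf => hrefine Y hY g hg fun b hb => hf b (List.mem_cons_of_mem _ hb))
    -- correct `g`
    have e0 : tp v.t (idxPt v.b) = v.t.getD v.b 0 := by simp [tp, ptIdx_idxPt hb]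
    have h3 : g (idxPt v.b) ∈ supFin (tp v.t (idxPt v.b)) := by
      rw [e0]
      refine hrefine _ hmem g hg hfix _ ?_
      rw [← e0]
      exact hO.self _
    obtain ⟨a, ha, hae⟩ := hO.reach _ _ h3
    obtain ⟨haS, haF⟩ := h1 a ha
    have h4 : a⁻¹ * g ∈ chainP (cur.drop v.len) := by
      refine hih _ (mul_mem (inv_mem (hSΓ haS)) hg) ?_
      intro b hb
      rcases List.mem_cons.mp hb with rfl | hb
      · rw [Equiv.Perm.mul_apply, ← hae]
        simp
      · have e1 : a⁻¹ (idxPt b) = idxPt b := by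
          rw [Equiv.Perm.inv_eq_iff_eq]
          exact (haF b hb).symm
        rw [Equiv.Perm.mul_apply, hfix b hb, e1]
    have h5 : g = a * (a⁻¹ * g) := by group
    rw [h5]
    exact mul_mem ha (hle h4)

/-- The mask of all points. -/
def allMask : ℕ := 16777215

theorem inv_allMask (g : Equiv.Perm GolayPt) : Inv g allMask := by
  intro p _
  rw [mem_supFin]
  have h := ptIdx_lt (g p)
  revert h
  generalize ptIdx (g p) = k
  intro h
  interval_cases k <;> decide

/-- The normalizer part of the certificate. -/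
theorem normalizer_le {G : Subgroup (Equiv.Perm GolayPt)} {l : List PGen} (hpc : pcCheck l = true)
    (hlG : chainP l ≤ G) (k m : ℕ) (hk : l.length = k) (hG : Nat.card G = 2 ^ k * m) (hm : Odd m)
    {F : ℕ} {t0 : List ℕ} {levels : List Level} (hrun : treeRun F t0 levels l [allMask] = true)
    (hfin : ∀ g ∈ G, (∀ p ∈ supFin F, g p = p) → g = 1) {g : Equiv.Perm GolayPt} (hg : g ∈ G)
    (hN : g ∈ Subgroup.normalizer ((chainP l : Subgroup (Equiv.Perm GolayPt)) : Set (Equiv.Perm GolayPt))) :
    g ∈ chainP l := by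
  refine treeRun_sound (S₀ := chainP l) (Γ := G ⊓ Subgroup.normalizer ((chainP l : Subgroup (Equiv.Perm GolayPt)) : Set (Equiv.Perm GolayPt)))
    (le_inf hlG Subgroup.le_normalizer) inf_le_right ?_ (fun g hg h => hfin g hg.1 h) levels l [] [allMask] hpc
    (fun a ha => ⟨ha, fun b hb => by simp at hb⟩) (fun a ha _ => ha) hrun ?_ g ⟨hg, hN⟩ (fun b hb => by simp at hb)
  · rintro g ⟨hg, hN⟩
    exact exists_odd_pow_mem hlG k m (by rw [card_chainP hpc, hk]) hG hm hg hN
  · intro Y hY g _ _
    rw [List.mem_singleton.mp hY]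
    exact inv_allMask g

/-- The whole certificate: the `2`-fusion system of `G` on any Sylow subgroup is simple. -/
theorem isSimple_of_cert {G : Subgroup (Equiv.Perm GolayPt)} {P : List ℕ → Bool}
    (hP : ∀ t, isAut t = true → P t = true → toPerm t ∈ G) {l : List PGen}
    (hpc : pcCheck l = true) (hlG : chainP l ≤ G) (k m : ℕ) (hk : l.length = k) (hk0 : 0 < k)
    (hG : Nat.card G = 2 ^ k * m) (hm : Odd m) {z : List ℕ} (hzg : isAut z = true)
    (hz : centerCheck l z = true) {steps : List CStep}
    (hsteps : stepsCheck P l steps [z] = true)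
    {F : ℕ} {t0 : List ℕ} {levels : List Level} (hrun : treeRun F t0 levels l [allMask] = true)
    (hfin : ∀ g ∈ G, (∀ p ∈ supFin F, g p = p) → g = 1) (S : Sylow 2 G) :
    (groupFusionSystem (S : Subgroup G)).IsSimple 2 := by
  haveI : Fact (Nat.Prime 2) := ⟨Nat.prime_two⟩
  have hcard : Nat.card (chainP l) = 2 ^ k := by rw [card_chainP hpc, hk]
  have h2 : IsPGroup 2 (chainP l) := IsPGroup.of_card hcard
  have hsyl : Cfsg.Agent.Lib.SylowIn.IsSylowIn 2 (chainP l) G := by
    refine Cfsg.Agent.Lib.SylowIn.isSylowIn_of_card hlG h2 fun T hT hTp => ?_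
    obtain ⟨a, ha⟩ := IsPGroup.iff_card.mp hTp
    have h3 : Nat.card T ∣ Nat.card G := Subgroup.card_dvd_of_le hT
    rw [ha, hG] at h3
    have hcop : Nat.Coprime (2 ^ a) m := Nat.Coprime.pow_left a (Nat.coprime_two_left.mpr hm)
    have h4 : 2 ^ a ∣ 2 ^ k := hcop.dvd_of_dvd_mul_right h3
    rw [ha, hcard]
    exact Nat.le_of_dvd (by positivity) h4
  obtain ⟨R, hR⟩ := hsyl
  have hmemR : ∀ x : G, x ∈ (R : Subgroup G) ↔ (x : Equiv.Perm GolayPt) ∈ chainP l := by
    intro x
    rw [hR]
    rfl
  refine Cfsg.Agent.Lib.FusionSimpleCrit.isSimple_of_selfNormalizing R ?_ ?_ ?_ S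
  · intro hbot
    have h3 : Nat.card (R : Subgroup G) = 2 ^ k := by
      rw [hR, Cfsg.Agent.Lib.SylowIn.card_subgroupOf hlG, hcard]
    rw [hbot, Subgroup.card_bot] at h3
    have : 1 < 2 ^ k := Nat.one_lt_two_pow (by omega)
    omega
  · intro T hT hcl
    have hT' : T.map G.subtype ≤ chainP l := by
      rintro _ ⟨x, hx, rfl⟩
      exact (hmemR x).mp (hT hx)
    have hcl' : ∀ t ∈ T.map G.subtype, ∀ g ∈ G, g * t * g⁻¹ ∈ chainP l → g * t * g⁻¹ ∈ T.map G.subtype := by
      rintro _ ⟨t, ht, rfl⟩ g hg h3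
      have h4 := hcl t ht ⟨g, hg⟩ ((hmemR _).mpr h3)
      exact ⟨_, h4, rfl⟩
    rcases closed_eq hP hpc hlG hzg hz hsteps _ hT' hcl' with h3 | h3
    · left
      exact (Subgroup.map_eq_bot_iff_of_injective _ (Subgroup.subtype_injective _)).mp h3
    · right
      apply le_antisymm hT
      intro x hx
      have h4 := (hmemR x).mp hx
      rw [← h3] at h4
      obtain ⟨y, hy, e⟩ := h4
      have : y = x := Subtype.ext e
      exact this ▸ hy
  · intro g hg
    rw [hmemR]
    refine normalizer_le hpc hlG k m hk hG hm hrun hfin g.2 ?_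
    apply mem_normalizer_of_conj_le
    intro x hx
    have h3 := (Subgroup.mem_normalizer_iff.mp hg ⟨x, hlG hx⟩).mp ((hmemR _).mpr hx)
    exact (hmemR _).mp h3

end Cfsg.Agent.Lib.GolayFusionCert
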