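import Mathlib

/-! Data: generating pairs of the Mathieu group on 23 points (generated by a script). -/

set_option autoImplicit false
set_option maxRecDepth 100000

namespace Cfsg.Agent.Lib.GolayGenM23Data

/-- Instructions from the two standard generators to the chain transversals. -/
def slpAB : List (ℕ × ℕ) :=
  [(1,1),(2,0),(3,0),(4,0),(5,0),(6,0),(7,0),(8,0),(9,0),(10,0),(11,0),(12,0),(13,0),(14,0),(15,0),(16,0),(17,0),(18,0),(19,0),(20,0),(21,0),(21,22),(22,21),(24,1),(24,2),(26,2),(27,2),(28,2),(29,2),(30,2),(30,1),(31,31),(32,0),(11,8),(4,4),(0,0),(1,0),(0,3),(6,0),(0,17),(1,40),(2,9),(42,0),(42,9),(1,1),(0,0),(0,2),(0,46),(1,46),(2,26),(50,2),(4,3),(5,52),(6,21),(7,13),(16,0),(17,9),(10,10),(11,1),(12,1),(13,1),(14,1),(23,0),(29,64),(33,33),(34,0),(0,2),(35,0),(5,5),(0,0),(0,2),(0,49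),(1,49),(2,25),(3,74),(4,43),(29,1),(6,23),(78,2),(40,3),(33,4),(10,34),(43,0),(44,12),(13,13),(14,1),(47,0),(23,88),(68,0),(12,12),(0,0),(14,0),(0,3),(6,6),(0,1),(0,72),(1,47),(26,1),(3,98),(4,46),(5,25),(30,2),(7,26),(8,56),(9,47),(10,23),(67,2),(60,3),(37,4),(14,5),(15,2),(64,1),(17,41),(18,29),(19,29),(44,2),(21,3),(78,3),(23,4),(48,4),(81,4),(50,4),(51,2),(52,2),(29,85),(86,0),(31,31),(39,102),(76,76),(0,0),(1,0),(0,3),(76,76),(0,0),(1,0),(0,3),(31,31),(32,0),(0,2),(15,15),(16,0),(0,2),(0,94),(1,96),(2,87),(98,1),(4,75),(5,63),(6,63),(54,1),(55,1),(80,0),(10,113),(58,11),(12,29),(60,2),(117,2),(62,3),(16,32),(64,4),(65,4),(19,5),(20,5),(164,142),(162,84),(0,54),(0,81),(0,12),(0,41),(144,136),(0,88),(0,20),(0,14),(145,93),(0,62),(0,57),(0,15),(154,74),(0,117),(0,30),(0,20),(0,54),(156,149)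,(0,75),(0,36),(0,32),(0,91),(139,108),(0,106),(0,69),(0,34),(0,64),(120,150),(0,84),(0,46),(0,34),(0,101),(123,122),(0,87),(0,115),(0,58),(104,201),(0,94),(0,52),(0,41),(0,110),(156,105),(0,62),(0,93),(0,49),(0,115),(171,110),(0,61),(0,118),(162,181),(0,71),(0,98),(0,60),(0,91),(123,142),(0,108),(0,105),(0,66),(0,96),(173,171),(0,79),(0,109),(0,73),(0,101),(131,154),(0,126),(0,117),(0,73),(0,138),(212,177),(0,115),(0,110),(213,118),(0,76),(0,112),(191,164),(0,158),(0,125),(0,117),(171,143),(0,184),(0,130),(0,121),(105,195),(0,138),(0,179),(0,109),(219,141),(0,134),(0,96),(0,128),(179,173),(0,108),(0,103),(227,147),(0,176),(0,98),(181,158),(0,148),(0,110),(0,138),(167,158),(0,149),(0,110),(0,174),(215,156),(0,146),(0,177),(172,168),(0,156),(0,112),(0,181),(202,172),(0,160),(0,116),(0,185),(225,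159),(0,121),(0,156),(204,173),(0,162),(0,132),(245,230),(0,172),(0,131),(0,163),(250,186),(0,140),(0,151),(215,186),(0,176),(0,169),(243,188),(0,213),(0,260),(0,205),(198,254),(0,154),(0,146),(226,222),(0,188),(0,180),(0,212),(308,186),(0,167),(0,215),(258,228),(0,241),(0,171),(214,168),(0,230),(0,160),(0,190),(216,172),(0,235),(0,194),(245,274),(0,165),(211,252),(0,170),(266,208),(0,170),(0,200),(182,166),(218,210),(0,172),(0,204),(249,212),(0,175),(0,239),(288,216),(0,173),(227,190),(0,178),(0,244),(258,220),(0,302),(0,215),(198,258),(0,181),(239,228),(0,190),(242,222),(0,221),(291,233),(0,224),(0,256),(291,268),(0,194),(297,269),(0,196),(0,229),(297,239),(0,216),(0,264),(252,289),(0,198),(0,235),(225,268),(257,222),(0,270),(262,247),(0,204),(224,214),(222,210),(218,210),(0,244),(259,218),(223,248),(0,247),(260,250),(291,251),(257,217),(260,253),(0,284),(232,217),(297,220),(0,255),(260,229),(0,289),(268,227),(0,291),(268,226),(0,261),(267,226),(319,265),(0,296),(243,231),(242,236),(0,267),(279,269),(0,301),(283,272),(0,303),(245,304),(275,273),(239,274),(245,275),(277,308),(244,309),(366,278),(248,311),(246,280),(266,313),(250,282),(254,315)]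

/-- A certificate: three primes, a pair and a straight-line program from the pair to the standard generators. -/
structure TCert where
  p : ℕ
  q : ℕ
  r : ℕ
  x : List ℕ
  y : List ℕ
  prog : List (ℕ × ℕ)

/-- All certificates. -/
def allCerts : List TCert :=
  [⟨2,5,11,
    [17,2,1,3,21,5,10,8,7,13,6,15,12,9,14,11,18,0,16,19,20,4,22,23],
    [4,12,20,19,14,16,5,1,8,7,9,0,10,11,13,3,18,17,22,2,15,21,6,23],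
    [(1,0),(1,1),(2,0),(4,0),(4,0),(5,6),(6,5),(6,6),(0,0),(0,0),(2,0),(0,4),(0,13),(1,11),(15,0),(3,3),(4,0),(16,10),(3,3),(0,0),(1,0),(0,16),(0,10),(11,1),(2,2),(13,1),(27,20),(1,1),(0,0),(1,0),(0,3),(0,19),(1,15),(2,2),(3,0),(36,17),(23,23),(24,0),(1,1),(1,0),(0,4),(9,9),(0,0),(1,0),(0,3),(0,46),(6,45),(14,14),(0,0),(0,2),(16,0),(0,35),(1,7),(8,0),(53,36),(52,0),(31,31),(0,0),(0,2),(5,5),(0,0),(0,2),(0,16),(1,29),(2,13),(3,3),(15,0),(12,49),(5,5),(0,0),(0,0),(2,0),(0,4),(15,0),(39,0),(0,76),(54,0),(2,26),(3,16),(4,13),(5,0),(79,45),(42,0),(31,31),(0,0),(0,2),(22,22),(0,0),(0,2),(8,8),(0,0),(0,2),(0,70),(1,28),(2,16),(3,3),(2,2),(0,8),(0,75),(1,7),(8,0),(19,33),(30,0),(45,0),(59,0),(38,0),(0,14),(15,1),(2,12),(0,8),(33,11),(0,32),(0,5),(0,3),(21,61),(0,20),(0,8)]⟩,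
   ⟨2,5,23,
    [13,4,2,3,1,10,18,11,12,9,5,7,8,0,14,15,16,20,6,21,17,19,22,23],
    [11,20,13,1,9,6,4,7,0,21,3,16,10,19,2,8,15,17,18,22,12,5,14,23],
    [(0,1),(2,1),(2,2),(3,2),(4,1),(5,1),(6,1),(7,1),(5,6),(1,0),(0,0),(1,0),(2,0),(11,13),(9,0),(5,0),(6,0),(7,0),(3,0),(9,0),(11,6),(1,1),(0,0),(0,2),(11,0),(0,10),(16,0),(2,1),(18,1),(19,0),(5,19),(6,6),(2,2),(0,0),(1,0),(0,14),(5,5),(0,0),(1,0),(0,3),(8,0),(0,26),(1,0),(2,18),(3,12),(20,1),(5,0),(6,0),(23,0),(8,8),(50,29),(8,8),(9,0),(1,1),(1,0),(0,34),(17,0),(8,8),(9,0),(0,2),(0,61),(62,0),(2,51),(3,32),(23,1),(14,44),(59,0),(52,0),(4,4),(5,0),(0,2),(27,24),(0,1),(0,41),(49,0),(50,0),(35,3),(17,4),(18,1),(17,63),(0,15),(0,36),(0,3),(0,33),(56,73),(0,9),(0,8),(0,46)]⟩,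
   ⟨2,7,7,
    [0,1,9,12,5,4,14,8,7,2,20,16,3,13,6,15,11,17,18,19,10,22,21,23],
    [2,10,16,15,17,19,0,8,1,12,9,11,21,20,6,4,5,13,3,14,18,7,22,23],
    [(1,0),(1,1),(2,1),(4,1),(4,2),(5,2),(6,1),(1,3),(3,0),(0,7),(11,1),(2,2),(3,1),(14,1),(5,1),(6,1),(7,1),(18,0),(9,0),(10,0),(10,10),(0,0),(12,0),(1,1),(1,0),(0,17),(10,10),(0,0),(12,0),(0,3),(0,30),(1,29),(23,1),(34,1),(4,25),(26,0),(37,6),(7,7),(32,35),(5,5),(0,0),(1,0),(0,3),(23,23),(29,0),(0,2),(9,9),(0,0),(1,0),(0,3),(0,39),(1,39),(2,53),(3,0),(4,16),(5,5),(6,0),(57,49),(27,27),(0,0),(1,0),(1,1),(1,0),(0,5),(12,12),(0,0),(1,0),(0,3),(0,69),(1,19),(2,13),(21,0),(14,64),(71,66),(0,1),(24,24),(0,0),(0,0),(2,0),(0,4),(25,25),(0,0),(0,2),(11,11),(0,0),(0,2),(0,77),(1,1),(84,80),(26,0),(78,78),(0,82),(0,2),(24,24),(0,0),(1,0),(0,3),(64,61),(0,44),(0,2),(0,14),(14,48),(0,32),(0,15)]⟩,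
   ⟨2,7,11,
    [3,6,9,0,4,5,1,20,8,2,10,22,18,13,19,17,16,15,12,14,7,21,11,23],
    [3,1,11,22,15,14,5,7,10,20,4,21,16,9,18,19,8,13,2,12,0,6,17,23],
    [(1,0),(0,2),(3,0),(2,2),(3,0),(4,0),(5,0),(6,0),(8,8),(8,0),(10,9),(10,1),(2,0),(10,10),(0,0),(0,0),(2,0),(0,4),(0,19),(1,17),(21,1),(3,20),(21,0),(12,11),(4,4),(0,1),(18,0),(0,25),(1,9),(2,1),(3,7),(4,4),(5,0),(33,20),(4,4),(0,0),(6,0),(1,1),(1,0),(0,5),(9,9),(0,0),(0,0),(2,0),(0,4),(18,0),(0,28),(1,43),(2,21),(22,0),(4,17),(24,0),(40,18),(24,24),(25,0),(1,1),(1,0),(0,4),(10,10),(0,0),(0,0),(2,0),(0,4),(11,11),(0,0),(1,0),(0,3),(0,65),(1,21),(2,42),(3,38),(4,22),(5,1),(27,1),(28,7),(8,0),(30,0),(24,53),(79,0),(5,5),(0,1),(0,0),(48,4),(62,62),(63,0),(1,1),(1,0),(0,4),(41,41),(42,0),(1,1),(1,0),(0,4),(43,43),(0,0),(0,2),(50,0),(0,30),(1,16),(75,21),(32,32),(0,0),(0,0),(2,0),(0,4),(36,36),(37,0),(0,2),(35,35),(0,0),(0,2),(34,0),(31,0),(0,112),(17,0),(2,17),(3,3),(96,3),(0,68),(0,73),(0,21),(0,4),(7,52),(0,7)]⟩,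
   ⟨2,7,23,
    [19,15,3,2,4,21,6,9,16,7,10,12,11,13,20,1,8,17,18,0,14,5,22,23],
    [13,11,17,21,6,15,3,5,8,9,12,14,4,20,22,18,1,16,0,10,7,19,2,23],
    [(0,1),(1,1),(2,0),(4,0),(4,1),(5,0),(6,0),(8,7),(1,0),(0,8),(10,2),(3,7),(7,0),(0,11),(5,0),(2,6),(3,3),(8,1),(5,1),(6,1),(7,1),(17,9),(7,7),(0,0),(1,0),(1,1),(1,0),(0,5),(8,8),(0,0),(0,2),(0,22),(1,1),(22,21),(35,0),(0,26),(1,5),(6,2),(7,1),(8,0),(40,18),(24,20),(0,1),(3,3),(0,0),(0,2),(0,13),(1,0),(2,2),(37,8),(2,2),(0,8),(0,16),(1,18),(2,16),(3,1),(4,10),(5,8),(6,1),(7,1),(8,8),(11,27),(9,9),(0,0),(1,0),(0,3),(10,10),(11,0),(0,2),(9,9),(0,0),(0,2),(0,59),(1,37),(2,41),(3,29),(4,19),(25,1),(26,1),(33,1),(46,18),(82,0),(9,9),(0,0),(1,0),(0,3),(47,47),(0,0),(0,2),(9,9),(0,0),(0,2),(0,60),(1,34),(22,0),(3,23),(24,4),(87,23),(0,43),(0,20),(0,4),(0,40),(9,27),(0,8),(0,7)]⟩,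
   ⟨2,11,11,
    [6,4,2,16,1,21,0,11,8,9,19,7,12,18,14,22,3,17,13,10,20,5,15,23],
    [20,4,12,21,18,1,17,13,9,0,10,3,7,11,5,8,6,2,15,16,22,19,14,23],
    [(0,0),(2,0),(2,1),(4,3),(0,3),(2,2),(0,5),(0,2),(0,6),(8,2),(0,6),(11,7),(8,7),(4,4),(5,0),(1,1),(1,0),(0,4),(0,19),(20,0),(2,12),(16,8),(0,23),(1,15),(2,2),(3,0),(4,0),(15,14),(5,5),(0,0),(1,0),(1,1),(1,0),(0,5),(10,10),(0,0),(1,0),(0,3),(11,0),(0,40),(32,0),(2,30),(3,21),(4,17),(22,0),(6,6),(46,24),(34,0),(15,0),(7,7),(0,0),(1,0),(0,3),(8,8),(0,0),(1,0),(0,3),(0,35),(19,0),(2,20),(3,3),(4,15),(5,2),(24,1),(7,0),(17,37),(56,0),(24,24),(0,0),(0,0),(2,0),(0,4),(13,13),(0,0),(0,2),(14,0),(0,51),(1,0),(2,39),(40,0),(23,0),(34,15),(62,62),(63,0),(0,2),(33,0),(8,8),(0,0),(0,2),(8,8),(0,0),(0,2),(0,29),(1,17),(18,2),(3,3),(20,1),(21,1),(5,5),(0,0),(0,35),(7,0),(0,4),(62,59),(0,25),(0,2),(0,4),(86,63),(0,51),(0,12)]⟩,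
   ⟨2,11,23,
    [13,1,7,3,14,21,10,2,8,9,6,11,16,0,4,15,12,17,19,18,22,5,20,23],
    [0,20,6,14,13,10,8,11,18,2,3,1,5,15,17,16,21,19,22,7,12,9,4,23],
    [(0,1),(1,0),(3,0),(3,0),(4,0),(6,0),(6,1),(7,1),(8,1),(10,0),(10,10),(9,0),(2,4),(6,6),(0,0),(1,0),(1,1),(1,0),(0,5),(0,20),(1,20),(21,2),(3,3),(4,0),(5,0),(17,12),(6,6),(0,0),(1,0),(1,1),(1,0),(0,5),(10,10),(11,0),(0,2),(0,36),(36,0),(2,35),(3,38),(26,28),(2,2),(0,0),(1,0),(1,1),(1,0),(0,5),(7,7),(8,0),(1,1),(1,0),(0,4),(0,50),(1,41),(2,18),(19,3),(20,1),(45,44),(5,5),(0,0),(1,0),(1,1),(1,0),(0,5),(39,38),(0,1),(10,0),(0,67),(68,0),(2,17),(3,14),(4,14),(5,5),(46,32),(5,5),(0,1),(22,22),(0,0),(1,0),(0,3),(9,9),(0,0),(1,0),(0,3),(17,0),(1,1),(19,1),(3,1),(16,16),(0,0),(1,0),(0,25),(5,5),(6,0),(0,2),(0,0),(58,74),(0,12),(0,2),(0,32),(76,30),(0,13),(0,29)]⟩,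
   ⟨2,23,23,
    [0,17,10,22,4,11,6,14,8,12,2,5,9,15,7,13,16,1,18,19,21,20,3,23],
    [8,20,13,10,3,7,14,22,1,0,5,9,18,11,17,2,12,15,4,16,19,6,21,23],
    [(0,0),(2,0),(2,1),(3,1),(4,1),(5,1),(6,1),(8,1),(8,1),(9,0),(10,0),(11,12),(8,0),(11,0),(9,3),(4,4),(0,0),(2,0),(0,4),(0,20),(21,1),(2,1),(3,0),(24,0),(5,0),(6,0),(24,12),(10,10),(28,0),(0,2),(4,4),(0,0),(1,0),(0,3),(0,34),(35,0),(2,1),(37,0),(4,18),(5,5),(27,13),(3,3),(0,0),(1,0),(1,1),(1,0),(0,5),(8,8),(0,0),(0,0),(2,0),(0,4),(18,0),(0,54),(55,0),(2,34),(55,42),(43,16),(49,42),(0,1),(41,41),(0,0),(1,0),(0,3),(24,0),(0,31),(1,0),(14,2),(3,3),(4,1),(17,1),(18,1),(7,2),(8,2),(21,1),(34,17),(68,68),(0,0),(70,0),(0,3),(17,0),(41,0),(10,10),(0,1),(0,50),(32,0),(2,33),(34,3),(4,1),(36,1),(32,33),(55,55),(56,0),(1,1),(1,0),(0,4),(41,41),(0,1),(12,12),(0,0),(0,2),(26,0),(13,0),(0,19),(51,0),(2,2),(105,107),(0,40),(0,34),(0,4),(54,76),(0,42),(0,22),(0,7)]⟩,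
   ⟨3,3,11,
    [0,8,2,9,7,3,15,17,12,5,13,11,1,16,21,19,10,4,18,6,20,22,14,23],
    [2,1,14,3,9,5,21,8,16,22,10,19,18,11,0,6,7,17,20,13,12,15,4,23],
    [(1,1),(1,1),(3,0),(3,0),(5,0),(5,0),(6,0),(8,7),(8,9),(7,1),(0,11),(12,1),(2,2),(14,2),(15,2),(7,7),(7,8),(7,1),(17,0),(12,12),(0,0),(0,0),(2,0),(0,4),(9,0),(0,23),(16,0),(2,28),(3,0),(4,4),(5,0),(18,14),(32,0),(23,0),(4,0),(0,33),(1,11),(2,7),(13,1),(14,1),(5,0),(16,0),(7,7),(8,0),(36,25),(28,0),(32,32),(0,0),(0,2),(7,7),(8,0),(0,2),(17,0),(1,10),(2,1),(3,11),(21,0),(12,39),(35,0),(46,0),(29,0),(4,4),(0,1),(0,20),(0,0),(1,0),(0,5),(0,68),(1,43),(2,0),(3,16),(4,8),(56,54),(37,37),(0,0),(39,0),(0,3),(9,9),(0,0),(0,2),(10,10),(0,0),(0,2),(11,0),(0,85),(60,0),(2,23),(3,3),(61,59),(0,20),(0,19),(0,4),(6,53),(0,38),(0,22),(0,7)]⟩,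
   ⟨3,3,23,
    [14,19,2,3,22,11,0,4,16,9,21,20,1,13,6,10,17,8,18,12,5,15,7,23],
    [8,1,12,11,4,0,10,7,5,19,20,22,17,14,18,15,16,2,13,21,6,9,3,23],
    [(1,1),(1,2),(3,2),(3,3),(4,2),(6,2),(7,2),(7,1),(8,1),(10,0),(10,1),(12,1),(10,7),(12,0),(0,11),(16,0),(2,2),(4,18),(4,0),(1,1),(6,1),(3,2),(4,1),(9,0),(10,0),(16,20),(20,0),(7,0),(0,10),(1,0),(2,16),(3,0),(18,0),(20,7),(28,0),(13,13),(14,0),(0,2),(5,5),(0,0),(0,2),(0,24),(1,1),(2,0),(3,0),(19,11),(12,42),(39,0),(18,18),(0,0),(0,2),(19,0),(0,34),(1,0),(2,2),(3,12),(10,9),(45,45),(0,0),(0,2),(6,6),(0,0),(0,2),(7,7),(0,1),(0,66),(1,65),(15,1),(3,49),(4,40),(5,15),(6,6),(61,15),(5,5),(6,0),(0,2),(6,6),(7,0),(1,1),(1,0),(0,4),(53,0),(11,11),(0,0),(0,2),(0,57),(1,21),(2,15),(41,31),(22,22),(23,0),(0,2),(71,67),(0,1),(52,52),(53,0),(0,2),(52,0),(13,0),(0,58),(1,1),(85,83),(0,88),(0,60),(0,16),(0,4),(37,20),(0,7),(0,21),(0,10)]⟩,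
   ⟨3,5,5,
    [21,18,0,3,8,11,15,16,9,4,10,19,12,13,6,14,22,17,20,5,1,2,7,23],
    [2,1,15,20,17,10,14,8,19,3,18,11,5,16,9,4,7,0,22,13,6,21,12,23],
    [(1,1),(2,1),(0,1),(1,0),(5,0),(6,0),(4,0),(5,0),(6,6),(9,10),(10,10),(11,0),(4,4),(5,0),(1,1),(1,0),(0,4),(0,15),(16,1),(17,0),(18,0),(10,20),(6,0),(2,2),(3,0),(1,1),(1,0),(0,4),(0,29),(27,0),(13,1),(29,1),(4,15),(31,0),(6,0),(7,7),(8,0),(9,0),(37,28),(4,4),(5,0),(1,1),(1,0),(0,4),(6,0),(0,27),(1,18),(2,11),(20,0),(4,4),(5,0),(39,41),(51,0),(20,20),(0,0),(0,0),(2,0),(0,4),(21,0),(0,57),(1,12),(2,0),(3,17),(4,12),(5,0),(5,5),(0,0),(0,0),(2,0),(0,30),(21,21),(0,0),(0,2),(8,0),(0,65),(53,23),(45,45),(0,0),(47,0),(1,1),(1,0),(0,5),(7,7),(0,0),(0,0),(2,0),(0,4),(25,25),(26,0),(0,2),(27,0),(0,44),(1,44),(2,19),(84,55),(94,0),(50,50),(0,0),(0,2),(7,7),(0,0),(0,2),(51,0),(29,0),(0,45),(31,0),(2,32),(75,87),(0,47),(0,50),(0,3),(109,18),(0,6),(0,19)]⟩,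
   ⟨3,5,7,
    [11,21,22,9,17,7,1,8,5,14,0,10,12,13,3,2,16,19,18,4,20,6,15,23],
    [8,6,0,14,11,5,16,18,13,17,22,3,10,20,21,15,7,12,1,19,2,4,9,23],
    [(1,1),(1,2),(3,2),(3,3),(4,2),(3,0),(1,1),(0,0),(1,0),(1,1),(1,0),(0,5),(0,13),(13,0),(2,2),(3,0),(4,0),(5,0),(6,0),(18,13),(17,16),(17,0),(5,0),(0,24),(1,24),(26,1),(3,14),(4,12),(16,1),(6,0),(7,7),(8,0),(9,0),(27,34),(20,20),(0,0),(1,0),(0,3),(20,0),(0,15),(1,25),(2,13),(30,1),(4,1),(5,13),(22,0),(12,47),(22,22),(0,0),(1,0),(0,3),(8,8),(0,0),(0,0),(2,0),(0,4),(10,10),(0,0),(0,2),(0,59),(1,48),(2,22),(3,31),(40,1),(5,5),(44,45),(22,22),(0,0),(1,0),(0,3),(31,0),(0,48),(1,1),(14,0),(27,69),(15,15),(0,0),(1,0),(1,1),(1,0),(0,5),(51,51),(0,1),(11,11),(0,0),(0,2),(81,82),(47,47),(48,0),(1,1),(1,0),(0,4),(64,64),(0,0),(0,2),(62,0),(23,0),(0,26),(1,25),(13,1),(41,3),(4,36),(36,27),(23,0),(85,0),(41,41),(0,0),(0,2),(34,34),(0,0),(0,2),(46,0),(0,13),(1,1),(88,98),(0,43),(0,16),(0,16),(0,6),(58,56),(0,7),(0,19),(0,8)]⟩,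
   ⟨3,5,11,
    [5,15,19,16,1,8,21,7,0,10,18,3,6,2,14,4,11,17,9,13,20,12,22,23],
    [9,13,19,3,4,12,8,21,14,18,5,11,20,7,2,22,10,1,15,6,16,17,0,23],
    [(1,1),(1,2),(3,2),(3,2),(4,0),(0,5),(6,0),(0,8),(1,8),(2,1),(10,1),(4,7),(13,1),(6,6),(7,0),(8,0),(9,0),(10,0),(11,0),(20,16),(0,13),(0,20),(21,0),(4,0),(0,25),(18,0),(27,0),(3,20),(21,0),(5,14),(6,0),(7,7),(8,0),(9,0),(10,0),(8,8),(0,0),(1,0),(0,25),(8,8),(9,0),(1,1),(1,0),(0,4),(0,42),(1,31),(22,0),(3,23),(24,4),(5,1),(28,50),(39,39),(0,0),(1,0),(0,3),(26,26),(0,0),(1,0),(0,3),(10,10),(11,0),(0,2),(0,54),(1,56),(40,0),(3,1),(4,33),(60,16),(23,23),(0,0),(1,0),(1,1),(1,0),(0,5),(16,0),(40,0),(0,52),(53,0),(2,16),(17,3),(4,4),(75,13),(24,0),(16,16),(0,0),(1,0),(0,3),(6,6),(0,1),(0,27),(14,0),(2,11),(79,91),(30,30),(0,0),(1,0),(1,1),(1,0),(0,5),(33,33),(0,0),(0,2),(52,52),(0,0),(1,0),(0,3),(15,15),(16,0),(0,2),(99,44),(0,32),(0,19),(0,23),(66,69),(0,35),(0,6)]⟩,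
   ⟨3,5,23,
    [8,9,7,20,4,6,12,10,14,19,2,13,5,17,0,15,16,11,3,1,18,21,22,23],
    [15,1,3,9,2,8,12,21,14,16,5,10,7,18,11,13,4,17,19,0,20,22,6,23],
    [(1,1),(1,1),(2,0),(4,0),(5,4),(5,6),(0,1),(4,0),(3,7),(6,0),(0,11),(12,0),(4,2),(3,0),(5,13),(0,4),(8,7),(2,9),(3,3),(12,19),(16,0),(13,0),(0,22),(1,15),(4,24),(8,8),(9,0),(0,2),(14,0),(0,18),(1,8),(9,0),(3,1),(4,1),(5,1),(34,35),(6,6),(7,0),(0,13),(25,0),(5,5),(0,0),(0,2),(0,12),(1,1),(2,0),(10,21),(24,24),(0,0),(1,0),(0,3),(32,32),(33,0),(0,2),(9,0),(0,45),(1,13),(14,0),(3,12),(4,1),(17,1),(6,0),(60,37),(25,0),(8,8),(0,0),(0,2),(33,33),(0,1),(7,7),(0,0),(0,2),(0,41),(1,15),(2,19),(3,3),(4,1),(22,0),(78,31),(63,63),(0,0),(0,0),(2,0),(0,4),(60,60),(0,1),(18,0),(13,13),(0,1),(0,44),(18,0),(2,19),(67,29),(10,0),(86,0),(22,22),(0,0),(1,0),(0,3),(8,8),(9,0),(0,2),(24,0),(0,0),(92,86),(0,83),(0,46),(0,31),(0,4),(101,65),(0,50),(0,19),(0,8)]⟩,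
   ⟨3,7,7,
    [14,19,10,2,16,5,6,17,8,7,3,18,12,11,21,15,22,9,13,20,1,0,4,23],
    [3,10,20,5,17,7,16,9,6,4,14,11,15,18,21,2,1,0,22,19,13,8,12,23],
    [(1,1),(2,1),(2,2),(3,2),(4,2),(5,2),(6,2),(8,2),(8,9),(8,0),(9,0),(0,12),(12,0),(13,0),(3,3),(9,6),(2,2),(0,0),(1,0),(1,1),(1,0),(0,5),(0,11),(1,1),(13,1),(14,0),(19,10),(1,1),(0,0),(1,0),(0,3),(0,7),(1,1),(31,6),(0,7),(27,27),(28,0),(0,2),(6,6),(7,0),(0,2),(0,29),(1,31),(2,12),(3,3),(14,1),(15,0),(38,37),(0,13),(50,0),(35,35),(0,1),(5,5),(0,0),(0,2),(0,44),(1,23),(8,47),(16,16),(0,0),(1,0),(0,3),(19,19),(0,0),(1,0),(0,3),(21,21),(0,1),(0,57),(1,47),(48,1),(3,40),(4,39),(5,5),(64,39),(2,2),(3,0),(0,25),(4,0),(0,67),(1,49),(2,37),(3,3),(8,48),(83,0),(14,14),(0,0),(0,2),(16,16),(0,0),(1,0),(0,3),(0,37),(1,25),(2,15),(3,0),(80,38),(17,17),(0,0),(1,0),(1,1),(0,0),(2,0),(0,6),(17,0),(23,23),(0,0),(0,2),(15,15),(0,0),(0,2),(15,0),(0,56),(1,34),(22,0),(3,3),(108,46),(0,60),(0,24),(0,36),(0,8),(8,40),(0,48),(0,8),(0,8)]⟩,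
   ⟨3,7,11,
    [10,14,2,19,4,9,12,6,8,17,18,16,7,13,21,15,20,5,0,22,11,1,3,23],
    [22,3,1,4,8,5,12,0,11,6,17,13,18,2,10,16,7,9,14,15,19,21,20,23],
    [(1,1),(2,1),(2,2),(3,2),(5,2),(6,2),(7,2),(8,1),(6,5),(6,6),(7,0),(0,2),(0,13),(1,13),(2,1),(3,13),(4,4),(5,0),(13,14),(7,11),(1,8),(9,0),(10,0),(11,0),(5,1),(13,0),(11,11),(0,0),(1,0),(1,1),(1,0),(0,24),(8,8),(0,0),(1,0),(0,3),(36,29),(6,0),(19,19),(0,0),(1,0),(0,3),(0,30),(1,22),(25,1),(3,9),(10,4),(5,5),(6,0),(7,0),(43,41),(35,35),(0,0),(1,0),(1,1),(0,0),(2,0),(0,6),(14,14),(0,0),(1,0),(0,3),(14,12),(0,1),(0,28),(1,23),(2,2),(58,16),(67,0),(43,43),(0,0),(45,0),(0,3),(7,7),(0,0),(0,2),(12,0),(0,60),(41,27),(65,65),(66,0),(1,1),(1,0),(0,4),(39,39),(0,0),(1,0),(0,3),(23,23),(24,0),(0,2),(14,0),(88,24),(15,15),(16,0),(0,26),(49,49),(0,0),(0,2),(32,0),(0,58),(1,24),(25,2),(52,10),(94,104),(0,1),(45,0),(17,0),(44,0),(7,0),(0,64),(1,8),(92,69),(0,2),(0,22),(0,15),(98,15),(0,50),(0,6)]⟩,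
   ⟨3,7,23,
    [18,17,2,4,13,0,9,1,19,11,14,6,12,3,20,15,16,7,5,22,10,21,8,23],
    [9,0,8,1,10,22,13,16,21,7,11,2,4,5,14,6,18,19,3,15,20,12,17,23],
    [(1,1),(1,2),(3,2),(3,3),(4,3),(5,3),(6,3),(8,2),(4,5),(1,1),(0,0),(1,0),(0,3),(0,0),(1,0),(9,12),(17,0),(2,0),(0,5),(6,0),(7,0),(3,1),(4,1),(5,5),(6,0),(22,22),(19,19),(20,0),(1,1),(1,0),(0,4),(8,8),(9,0),(0,2),(9,0),(0,36),(1,36),(38,1),(3,1),(4,26),(22,0),(6,23),(24,0),(25,0),(9,0),(43,42),(7,7),(0,0),(9,0),(1,1),(1,0),(0,5),(30,30),(0,34),(0,2),(10,10),(11,0),(0,2),(0,45),(1,34),(2,0),(3,26),(4,0),(28,0),(29,0),(56,39),(28,28),(0,0),(1,0),(0,3),(11,11),(0,0),(0,0),(2,0),(0,4),(14,14),(0,0),(1,0),(0,3),(14,0),(0,62),(23,0),(24,0),(0,0),(1,0),(0,10),(51,0),(0,73),(1,70),(2,47),(10,3),(11,0),(86,4),(0,4),(0,3),(54,5),(0,33),(0,5)]⟩,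
   ⟨3,11,11,
    [1,12,3,7,4,5,9,2,21,17,10,22,0,8,11,20,16,6,15,19,18,13,14,23],
    [15,22,2,4,20,10,9,3,11,8,0,1,5,18,7,6,13,21,19,14,17,16,12,23],
    [(1,1),(1,2),(3,2),(3,3),(4,3),(6,3),(6,1),(7,1),(5,7),(4,4),(0,0),(6,0),(0,3),(0,10),(1,1),(15,11),(2,2),(0,0),(0,2),(0,6),(7,0),(2,1),(9,1),(7,16),(20,20),(0,0),(0,0),(2,0),(0,4),(6,6),(0,1),(0,31),(1,1),(24,26),(33,0),(13,0),(5,0),(1,1),(7,1),(3,2),(33,33),(42,17),(10,10),(0,0),(0,2),(15,0),(8,0),(16,0),(0,35),(1,13),(14,0),(3,12),(11,45),(47,47),(0,0),(49,0),(0,3),(42,0),(6,6),(7,0),(0,2),(0,21),(1,31),(2,30),(22,30),(57,57),(0,0),(59,0),(0,3),(20,20),(0,0),(1,0),(0,3),(11,11),(0,0),(0,2),(12,0),(0,58),(1,41),(2,48),(3,47),(4,4),(48,17),(84,0),(6,6),(0,0),(1,0),(0,3),(9,9),(0,0),(1,0),(0,3),(12,12),(0,0),(0,2),(0,32),(48,1),(2,0),(21,0),(100,21),(0,4),(0,2),(82,51),(0,22),(0,6),(0,23)]⟩,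
   ⟨3,11,23,
    [8,10,14,3,6,22,16,7,19,11,20,13,12,9,21,5,4,17,18,0,1,2,15,23],
    [0,11,6,17,22,21,9,20,2,15,16,10,4,19,3,14,12,18,5,7,1,8,13,23],
    [(1,1),(1,2),(2,1),(3,3),(4,0),(5,0),(6,0),(8,7),(0,4),(10,6),(7,7),(8,0),(1,1),(1,0),(0,4),(9,0),(0,17),(1,15),(19,1),(3,19),(4,16),(5,16),(22,0),(7,7),(24,14),(2,2),(0,0),(0,0),(2,0),(0,14),(0,29),(32,0),(2,13),(3,13),(4,18),(5,5),(6,12),(7,2),(28,29),(30,0),(7,7),(8,0),(1,1),(1,0),(0,4),(23,23),(24,0),(1,1),(1,0),(0,4),(13,13),(0,0),(1,0),(0,3),(0,55),(25,0),(2,40),(27,0),(4,4),(34,20),(26,26),(0,0),(0,0),(2,0),(0,57),(7,7),(8,0),(0,2),(9,0),(0,69),(1,0),(2,17),(3,13),(4,1),(20,0),(72,35),(37,0),(21,21),(22,0),(1,1),(1,0),(0,4),(18,0),(16,0),(25,0),(0,0),(9,26),(69,69),(0,0),(1,0),(0,3),(21,21),(22,0),(0,2),(58,0),(20,20),(0,0),(0,2),(12,0),(0,40),(1,31),(16,0),(3,3),(71,32),(0,66),(0,32),(0,4),(0,4),(87,72),(0,9),(0,25)]⟩,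
   ⟨3,23,23,
    [19,1,11,14,16,21,6,9,4,22,5,20,3,13,12,15,8,17,0,18,2,10,7,23],
    [22,18,9,17,11,1,12,3,14,5,16,20,10,0,2,13,15,21,7,8,19,6,4,23],
    [(1,1),(2,1),(2,2),(4,1),(4,0),(3,4),(2,2),(0,0),(0,0),(2,0),(0,4),(0,10),(1,1),(2,0),(8,13),(12,12),(0,0),(1,0),(1,1),(0,0),(2,0),(0,6),(0,23),(1,22),(2,13),(3,3),(4,13),(5,0),(23,28),(6,6),(0,0),(8,0),(1,1),(1,0),(0,5),(9,9),(0,0),(0,0),(2,0),(0,4),(0,26),(1,1),(2,0),(14,43),(34,0),(17,17),(0,0),(1,0),(0,3),(6,0),(0,51),(1,40),(30,0),(3,13),(4,12),(5,1),(6,6),(5,5),(6,0),(0,14),(4,4),(0,1),(12,0),(1,1),(60,20),(53,53),(0,0),(0,0),(2,0),(0,4),(29,29),(0,0),(0,2),(23,0),(1,1),(13,1),(26,1),(74,33),(54,54),(0,0),(0,0),(2,0),(0,4),(6,6),(0,0),(1,0),(0,3),(0,25),(1,25),(89,24),(39,39),(0,0),(1,0),(0,3),(69,69),(0,0),(71,0),(0,3),(22,22),(0,0),(0,2),(13,13),(14,0),(0,2),(47,0),(0,83),(1,64),(2,43),(64,30),(40,0),(83,83),(0,0),(1,0),(0,3),(59,59),(0,1),(27,27),(0,0),(0,2),(0,57),(70,0),(2,71),(3,65),(18,1),(19,0),(101,72),(0,19),(0,19),(0,3),(23,75),(0,9),(0,8)]⟩,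
   ⟨5,5,5,
    [9,22,17,0,4,20,21,2,6,12,10,11,14,16,3,19,7,13,5,18,15,1,8,23],
    [22,18,15,2,10,13,14,6,4,7,5,0,9,8,12,17,16,20,11,19,3,21,1,23],
    [(1,1),(2,0),(2,3),(4,3),(4,4),(2,1),(5,0),(0,8),(1,8),(5,8),(8,0),(0,3),(5,1),(2,2),(3,1),(4,1),(6,15),(5,5),(0,0),(1,0),(0,3),(6,6),(0,0),(0,0),(2,0),(0,4),(0,19),(1,0),(2,2),(3,0),(4,0),(25,31),(23,23),(0,0),(1,0),(0,3),(11,0),(0,37),(1,31),(2,12),(29,1),(4,15),(16,5),(6,0),(12,44),(7,7),(8,0),(1,1),(1,0),(0,4),(10,10),(0,0),(0,2),(10,10),(11,0),(0,2),(0,55),(1,50),(2,16),(3,3),(59,60),(4,4),(0,0),(6,0),(1,1),(1,0),(0,5),(9,9),(10,0),(0,2),(26,26),(0,0),(1,0),(0,3),(0,74),(1,64),(2,39),(3,3),(22,0),(77,34),(78,0),(40,40),(0,0),(0,2),(29,0),(6,6),(0,0),(0,2),(0,85),(1,15),(16,0),(30,46),(3,3),(0,0),(1,0),(0,3),(20,20),(0,0),(0,0),(2,0),(0,4),(42,42),(43,0),(0,2),(44,0),(0,68),(1,18),(102,62),(33,33),(0,0),(1,0),(1,1),(1,0),(0,5),(98,0),(84,0),(29,0),(10,0),(0,58),(45,0),(2,15),(33,0),(117,46),(0,46),(0,33),(0,3),(98,20),(0,7),(0,21)]⟩,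
   ⟨5,5,7,
    [11,1,5,16,15,4,3,12,10,9,21,14,8,2,18,13,22,17,20,6,0,7,19,23],
    [20,7,15,11,0,1,2,14,12,17,10,9,4,19,21,13,16,18,3,6,8,5,22,23],
    [(1,1),(2,0),(3,0),(4,3),(0,5),(1,4),(7,0),(3,4),(4,4),(5,0),(6,0),(7,0),(12,13),(0,9),(9,9),(10,0),(1,1),(1,0),(0,4),(0,18),(1,16),(17,0),(18,0),(4,0),(5,0),(5,5),(0,0),(1,0),(0,20),(4,4),(5,0),(0,2),(0,27),(29,0),(2,30),(16,0),(4,0),(5,18),(19,6),(7,7),(21,1),(22,0),(28,42),(9,9),(0,0),(1,0),(0,3),(24,24),(0,0),(0,2),(8,8),(0,0),(1,0),(0,3),(0,16),(1,1),(13,56),(29,0),(21,21),(0,0),(0,2),(21,21),(0,1),(0,64),(60,0),(2,44),(3,47),(4,0),(14,5),(15,0),(7,1),(70,71),(70,15),(66,66),(0,0),(1,0),(0,3),(65,0),(10,10),(11,0),(0,2),(25,0),(0,63),(1,29),(12,27),(79,79),(0,0),(1,0),(1,1),(1,0),(0,5),(25,25),(26,0),(0,2),(11,11),(0,1),(12,12),(0,0),(0,2),(0,95),(1,91),(2,47),(3,20),(21,4),(22,1),(6,1),(7,0),(107,22),(106,0),(8,8),(0,0),(1,0),(0,3),(58,58),(0,0),(1,0),(0,3),(46,46),(47,0),(0,2),(13,0),(0,112),(1,20),(58,23),(0,69),(0,2),(0,21),(0,6),(6,96),(0,59),(0,48)]⟩,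
   ⟨5,5,11,
    [22,13,17,4,15,6,2,7,1,20,0,8,12,16,10,9,11,18,5,19,3,14,21,23],
    [0,1,2,16,15,4,12,8,5,21,19,14,3,10,13,7,20,22,17,11,6,18,9,23],
    [(1,1),(2,0),(2,3),(3,2),(5,1),(6,1),(6,2),(7,2),(9,0),(9,9),(10,0),(7,5),(3,3),(0,0),(5,0),(1,1),(1,0),(0,5),(0,19),(20,0),(20,2),(3,3),(22,1),(5,2),(6,2),(25,2),(26,2),(9,2),(8,8),(0,0),(0,23),(9,3),(0,1),(0,0),(34,0),(2,0),(3,0),(35,31),(8,0),(13,13),(14,0),(1,1),(1,0),(0,4),(7,7),(0,0),(0,2),(36,0),(0,49),(1,48),(51,1),(3,17),(4,52),(53,0),(6,1),(7,1),(56,0),(51,45),(54,54),(0,0),(1,0),(1,1),(0,0),(2,0),(0,6),(38,0),(30,30),(0,0),(0,2),(12,12),(0,0),(0,2),(0,72),(1,25),(62,67),(25,25),(0,0),(0,0),(2,0),(0,4),(48,0),(29,29),(0,0),(0,2),(29,29),(0,0),(0,2),(0,77),(1,15),(2,41),(3,16),(4,4),(41,69),(0,60),(0,6),(0,4),(0,4),(79,45),(0,9),(0,9)]⟩,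
   ⟨5,5,23,
    [21,1,19,0,10,7,16,9,8,11,17,18,3,20,6,12,13,2,5,4,14,15,22,23],
    [19,3,6,11,7,8,5,0,17,4,10,22,16,13,14,12,20,2,1,9,21,15,18,23],
    [(1,1),(2,1),(2,2),(4,0),(4,5),(5,0),(5,0),(0,0),(3,2),(5,5),(0,0),(0,0),(2,0),(0,4),(7,0),(0,16),(1,16),(17,1),(3,11),(4,11),(13,1),(14,1),(7,1),(8,8),(9,0),(24,16),(8,8),(0,0),(0,0),(2,0),(0,4),(8,8),(0,13),(0,2),(19,0),(0,36),(29,0),(2,1),(3,18),(4,24),(25,0),(39,38),(5,5),(0,0),(7,0),(0,3),(7,7),(8,0),(0,2),(24,0),(0,50),(51,0),(2,37),(18,0),(39,0),(40,0),(6,21),(22,7),(23,1),(9,2),(25,1),(26,0),(12,0),(54,64),(26,26),(0,0),(1,0),(0,3),(12,12),(0,0),(0,2),(8,8),(0,0),(0,2),(0,17),(1,17),(2,16),(3,1),(14,79),(62,62),(0,0),(64,0),(1,1),(1,0),(0,5),(63,63),(0,0),(65,0),(0,3),(48,48),(0,0),(0,2),(15,15),(0,0),(0,2),(0,37),(1,22),(2,2),(2,2),(0,21),(2,0),(0,60),(50,82),(0,1),(0,8),(0,8),(84,66),(0,32),(0,11)]⟩,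
   ⟨5,7,7,
    [13,15,0,11,9,7,4,6,1,5,10,19,17,12,3,22,8,2,18,20,14,21,16,23],
    [9,10,2,14,22,21,1,0,16,3,17,18,4,13,19,6,11,5,12,20,7,15,8,23],
    [(1,1),(2,0),(3,0),(4,3),(4,4),(5,4),(6,2),(7,2),(8,2),(9,2),(10,11),(11,0),(9,0),(0,13),(1,5),(2,2),(14,12),(11,11),(0,0),(0,0),(2,0),(0,4),(0,22),(1,10),(11,2),(3,3),(11,11),(12,0),(0,18),(4,4),(0,1),(0,31),(1,19),(2,9),(21,1),(4,2),(5,5),(33,20),(6,6),(0,0),(1,0),(0,3),(16,0),(0,43),(1,28),(14,2),(3,0),(37,9),(4,4),(0,0),(6,0),(0,3),(17,17),(0,0),(0,2),(8,0),(0,25),(1,0),(2,2),(58,11),(39,0),(16,16),(0,0),(1,0),(0,3),(0,28),(1,10),(11,2),(12,1),(4,0),(62,65),(48,48),(0,0),(0,0),(2,0),(0,4),(46,0),(20,20),(21,0),(0,2),(10,0),(0,68),(39,0),(2,24),(3,3),(68,25),(0,38),(16,0),(52,52),(0,1),(32,32),(0,0),(0,2),(25,25),(26,0),(0,2),(11,0),(0,41),(60,50),(77,0),(34,34),(0,1),(18,18),(0,0),(0,2),(0,0),(92,23),(0,41),(0,10),(0,4),(0,13),(77,46),(0,6)]⟩,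
   ⟨5,7,11,
    [9,7,16,22,19,8,20,2,18,5,10,3,1,14,4,15,12,17,0,21,11,13,6,23],
    [11,3,19,5,15,17,6,8,1,22,7,4,20,12,13,9,16,10,0,14,21,2,18,23],
    [(1,1),(2,0),(3,0),(3,4),(5,4),(5,5),(6,5),(7,3),(9,2),(10,0),(10,0),(7,6),(4,4),(0,0),(1,0),(0,3),(0,0),(12,16),(11,11),(0,0),(0,0),(2,0),(0,4),(6,0),(0,25),(1,0),(2,10),(3,10),(4,0),(13,0),(6,6),(7,0),(14,31),(30,0),(4,4),(0,1),(12,0),(0,38),(1,21),(15,0),(3,0),(4,17),(5,11),(19,1),(18,18),(0,0),(1,0),(0,36),(7,7),(0,0),(1,0),(0,3),(20,0),(0,54),(1,38),(2,38),(32,1),(33,1),(42,0),(22,6),(49,60),(58,0),(3,3),(0,0),(0,2),(22,22),(0,0),(1,0),(0,3),(0,27),(1,33),(2,2),(71,72),(71,12),(36,36),(0,0),(38,0),(0,3),(51,51),(0,0),(0,2),(37,37),(0,0),(1,0),(0,3),(25,25),(0,0),(0,2),(0,89),(73,0),(2,66),(67,0),(4,55),(5,0),(6,22),(22,34),(42,42),(0,0),(1,0),(0,3),(6,0),(0,46),(12,0),(0,11),(0,16),(0,4),(49,36),(0,36),(0,13),(0,8)]⟩,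
   ⟨5,7,23,
    [10,3,17,21,11,22,0,15,20,9,7,1,12,5,8,6,13,14,18,16,2,4,19,23],
    [20,4,21,10,5,9,8,14,0,3,22,15,6,12,11,16,2,17,13,19,18,7,1,23],
    [(1,1),(2,0),(2,3),(4,3),(4,4),(5,4),(6,3),(8,3),(8,3),(10,3),(10,1),(8,7),(4,4),(0,0),(0,0),(2,0),(0,4),(0,18),(1,15),(2,2),(1,1),(0,0),(1,0),(1,1),(0,0),(2,0),(0,16),(0,10),(11,1),(2,2),(13,1),(4,1),(5,0),(23,32),(29,23),(0,1),(16,0),(0,33),(1,11),(2,2),(3,0),(4,0),(5,0),(6,0),(32,44),(7,7),(0,0),(9,0),(0,3),(18,18),(0,0),(0,2),(8,0),(0,35),(1,17),(2,15),(19,0),(20,0),(5,0),(6,6),(7,0),(16,61),(55,55),(0,0),(1,0),(1,1),(0,0),(2,0),(0,6),(39,36),(0,1),(12,12),(0,16),(0,2),(13,0),(0,58),(1,36),(40,0),(41,0),(4,26),(5,20),(28,1),(29,1),(30,1),(30,30),(0,0),(32,0),(0,79),(60,60),(0,1),(11,11),(0,0),(1,0),(0,3),(10,10),(0,1),(0,96),(1,17),(23,2),(97,37),(3,3),(0,0),(0,0),(2,0),(0,4),(50,50),(0,0),(1,0),(0,3),(26,26),(0,1),(0,58),(16,0),(105,51),(114,0),(11,0),(40,40),(0,0),(0,2),(11,0),(39,39),(0,1),(47,0),(116,84),(0,47),(0,27),(0,3),(99,72),(0,15),(0,30),(0,7)]⟩,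
   ⟨5,11,11,
    [5,20,13,3,18,15,6,10,4,0,8,11,22,17,16,19,21,1,7,9,2,12,14,23],
    [17,7,22,4,5,16,20,6,0,19,2,10,1,18,8,13,15,9,11,12,14,21,3,23],
    [(1,1),(1,2),(3,2),(3,3),(4,3),(6,3),(7,3),(4,3),(4,4),(0,0),(0,0),(2,0),(0,4),(0,14),(1,14),(2,2),(3,0),(4,0),(5,0),(6,0),(7,0),(8,0),(9,0),(16,18),(9,9),(10,0),(1,1),(1,0),(0,4),(6,0),(0,31),(1,18),(19,0),(3,0),(4,4),(5,0),(37,31),(33,27),(0,1),(6,6),(0,0),(8,0),(0,3),(0,44),(1,28),(2,13),(3,10),(47,10),(4,4),(0,0),(6,0),(0,3),(6,6),(7,0),(0,2),(20,0),(0,26),(1,14),(2,0),(22,51),(54,54),(0,0),(1,0),(1,1),(1,0),(0,5),(32,32),(33,0),(0,2),(12,12),(13,0),(0,2),(0,59),(43,0),(2,44),(67,15),(45,45),(0,0),(0,0),(2,0),(0,4),(36,36),(0,0),(0,0),(2,0),(0,4),(30,30),(0,1),(16,0),(0,73),(1,1),(86,15),(78,78),(0,0),(1,0),(1,1),(1,0),(0,5),(24,24),(0,0),(0,0),(2,0),(0,4),(32,0),(45,45),(0,1),(0,31),(1,35),(105,92),(0,62),(0,51),(0,20),(22,5),(0,54),(0,6)]⟩,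
   ⟨5,11,23,
    [15,21,11,1,16,7,10,8,6,14,5,9,12,17,18,3,13,20,2,19,4,0,22,23],
    [4,16,2,22,6,1,18,10,20,19,3,15,8,21,13,7,14,0,11,12,5,9,17,23],
    [(1,1),(2,0),(3,0),(3,4),(5,4),(5,4),(7,1),(3,2),(9,0),(0,9),(1,1),(2,0),(3,0),(4,0),(5,0),(6,0),(7,0),(8,0),(9,0),(14,18),(14,14),(0,0),(0,0),(2,0),(0,4),(6,0),(0,27),(27,0),(2,2),(3,0),(4,0),(11,30),(4,4),(5,0),(1,1),(1,0),(0,4),(18,0),(0,39),(1,30),(2,29),(32,0),(4,13),(35,43),(43,0),(3,3),(0,0),(0,2),(5,5),(0,0),(1,0),(0,3),(0,48),(1,44),(2,28),(3,3),(12,56),(54,0),(4,4),(0,0),(0,2),(6,6),(0,0),(1,0),(0,3),(0,27),(1,11),(15,2),(3,12),(4,1),(18,1),(18,18),(0,0),(20,0),(1,1),(1,0),(0,69),(30,0),(11,11),(0,0),(1,0),(0,3),(12,0),(0,43),(1,30),(2,56),(3,34),(85,30),(78,78),(79,0),(1,1),(1,0),(0,4),(8,8),(0,0),(0,2),(65,0),(26,0),(0,58),(1,16),(17,2),(3,1),(95,45),(64,64),(0,0),(0,0),(2,0),(0,4),(67,67),(68,0),(0,2),(45,45),(0,0),(1,0),(0,3),(47,0),(14,0),(0,16),(116,19),(0,64),(0,51),(0,19),(38,36),(0,36),(0,6),(0,8)]⟩,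
   ⟨5,23,23,
    [0,2,16,7,4,8,19,9,21,12,6,18,15,1,10,3,22,14,5,17,20,11,13,23],
    [8,10,4,16,7,21,20,12,9,17,19,14,15,3,5,1,11,13,6,0,2,22,18,23],
    [(1,1),(2,1),(2,2),(4,1),(4,1),(6,1),(7,0),(4,5),(2,2),(0,0),(0,2),(0,11),(1,10),(13,1),(3,0),(4,16),(17,5),(6,6),(19,1),(8,2),(7,7),(0,0),(1,0),(0,18),(4,4),(0,0),(0,2),(0,27),(1,26),(30,1),(31,1),(29,24),(28,28),(0,0),(1,0),(1,1),(0,0),(2,0),(0,6),(38,0),(0,13),(14,0),(2,2),(35,11),(0,17),(18,1),(2,2),(20,2),(21,1),(5,1),(49,6),(46,48),(37,37),(41,0),(1,1),(1,0),(0,4),(41,41),(0,0),(0,0),(2,0),(0,4),(20,20),(0,0),(1,0),(0,3),(23,0),(0,27),(1,25),(29,0),(3,3),(64,20),(42,42),(0,0),(0,0),(2,0),(0,4),(59,59),(0,67),(0,2),(30,30),(31,0),(0,2),(13,0),(13,0),(13,41),(10,0),(8,0),(39,39),(0,0),(1,0),(0,3),(52,0),(0,66),(1,23),(64,77),(0,50),(0,29),(0,3),(80,5),(0,31),(0,6),(0,17)]⟩,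
   ⟨7,7,7,
    [15,5,16,7,12,9,8,14,1,2,0,13,3,4,11,18,6,10,20,19,21,17,22,23],
    [2,21,13,0,18,12,22,3,14,9,20,15,1,11,10,7,4,17,8,5,16,6,19,23],
    [(1,1),(1,2),(3,2),(3,3),(4,3),(6,3),(6,3),(7,1),(9,1),(10,5),(3,3),(4,0),(1,1),(1,0),(0,4),(0,16),(1,1),(2,0),(3,0),(14,9),(5,0),(0,19),(1,3),(2,0),(21,22),(17,17),(18,0),(0,2),(4,4),(0,0),(1,0),(0,3),(0,17),(1,0),(2,16),(3,14),(4,0),(16,0),(6,1),(38,29),(24,24),(0,0),(1,0),(0,3),(9,9),(0,0),(0,2),(8,8),(0,0),(1,0),(0,3),(0,30),(1,20),(2,1),(34,52),(46,46),(47,0),(0,2),(24,24),(0,0),(1,0),(0,3),(24,24),(0,0),(1,0),(0,3),(0,51),(1,0),(2,17),(18,0),(4,0),(69,31),(29,0),(12,0),(37,37),(0,0),(0,2),(8,6),(0,1),(0,80),(81,0),(2,15),(31,0),(4,1),(5,5),(45,30),(64,64),(0,0),(1,0),(0,3),(23,23),(24,0),(0,2),(39,39),(0,0),(0,2),(13,13),(14,0),(0,2),(0,97),(1,34),(2,16),(92,16),(3,3),(4,0),(0,2),(88,0),(23,11),(0,1),(0,42),(29,42),(0,59),(0,28),(0,11),(4,61),(0,14),(0,31)]⟩,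
   ⟨7,7,11,
    [5,19,1,2,16,15,20,17,8,6,13,3,21,0,22,14,12,11,18,7,4,9,10,23],
    [4,2,17,3,9,12,6,16,18,19,1,0,20,15,11,10,5,22,7,21,8,14,13,23],
    [(1,1),(2,0),(3,0),(4,0),(5,0),(5,6),(7,6),(7,7),(8,7),(9,3),(11,1),(11,2),(6,5),(3,3),(0,0),(1,0),(0,3),(0,0),(1,0),(2,0),(3,0),(10,20),(1,0),(0,17),(1,5),(12,25),(2,2),(0,0),(1,0),(0,3),(5,5),(0,0),(7,0),(0,3),(0,28),(1,18),(2,18),(14,1),(21,1),(5,1),(6,0),(18,7),(8,8),(9,1),(10,1),(11,1),(12,1),(21,47),(13,13),(14,0),(1,1),(1,0),(0,4),(12,12),(0,0),(1,0),(0,3),(10,0),(0,41),(36,0),(2,26),(3,19),(28,1),(40,1),(6,41),(42,7),(8,1),(44,1),(10,1),(68,69),(68,22),(11,11),(0,0),(0,0),(2,0),(0,4),(12,12),(0,0),(1,0),(0,3),(11,0),(0,63),(1,59),(2,25),(61,1),(4,4),(16,38),(82,0),(49,49),(0,0),(0,2),(28,28),(29,0),(0,2),(10,10),(0,1),(0,79),(1,63),(17,2),(3,13),(92,52),(97,0),(66,66),(67,0),(1,1),(1,0),(0,4),(9,9),(0,0),(1,0),(0,3),(11,0),(0,13),(101,31),(0,68),(0,47),(0,16),(20,54),(0,33),(0,6),(0,8)]⟩,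
   ⟨7,7,23,
    [20,9,13,8,3,18,7,2,11,12,6,19,15,0,1,5,17,4,14,16,10,21,22,23],
    [20,12,1,7,22,0,18,10,8,2,5,6,15,16,14,4,11,13,19,17,21,3,9,23],
    [(1,1),(2,0),(3,0),(4,0),(5,0),(0,5),(0,7),(1,5),(9,0),(3,3),(4,0),(5,0),(13,12),(13,14),(0,1),(2,14),(7,7),(0,0),(9,0),(1,1),(1,0),(0,5),(0,21),(24,0),(2,18),(19,3),(4,4),(5,2),(22,2),(13,28),(27,0),(4,4),(0,0),(0,0),(2,0),(0,4),(0,35),(1,8),(2,2),(3,0),(4,0),(26,41),(18,18),(19,0),(1,1),(1,0),(0,4),(9,9),(0,0),(1,0),(0,3),(12,0),(0,53),(1,17),(2,13),(3,3),(14,56),(4,4),(5,0),(0,2),(10,0),(6,6),(7,0),(0,2),(8,0),(0,28),(1,44),(2,13),(32,0),(4,17),(18,0),(70,71),(13,0),(47,47),(48,0),(0,2),(13,0),(0,25),(76,21),(13,13),(0,0),(1,0),(1,1),(1,0),(0,5),(73,0),(17,17),(18,0),(0,2),(18,18),(19,0),(0,2),(0,85),(71,0),(2,54),(3,18),(4,18),(45,1),(6,33),(5,71),(0,5),(0,3),(0,37),(0,11),(37,64),(0,8),(0,7)]⟩,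
   ⟨7,11,11,
    [20,9,18,3,16,5,7,14,4,21,12,8,13,15,11,0,6,2,1,10,19,22,17,23],
    [18,19,13,5,17,9,11,4,14,20,7,12,8,0,16,3,15,22,10,2,6,21,1,23],
    [(1,1),(2,0),(3,0),(4,0),(5,0),(5,6),(7,6),(7,7),(9,1),(1,1),(0,0),(0,0),(2,0),(0,11),(0,0),(9,8),(11,0),(0,18),(1,4),(5,2),(3,3),(4,6),(8,1),(9,1),(10,1),(11,1),(12,1),(10,1),(21,27),(21,18),(0,1),(3,0),(0,17),(16,0),(2,2),(3,0),(4,0),(8,36),(20,20),(21,0),(1,1),(1,0),(0,4),(9,9),(10,0),(1,1),(1,0),(0,4),(0,42),(1,17),(2,2),(3,14),(36,52),(26,0),(4,4),(0,1),(0,37),(1,37),(2,26),(6,59),(11,11),(0,0),(13,0),(1,1),(1,0),(0,5),(8,8),(0,0),(1,0),(0,3),(18,0),(0,53),(1,16),(1,1),(0,0),(1,0),(0,67),(20,20),(21,0),(0,2),(21,21),(0,0),(1,0),(0,3),(28,0),(83,25),(72,0),(3,0),(0,89),(1,18),(2,5),(82,31),(3,3),(0,0),(0,0),(2,0),(0,4),(70,0),(47,0),(0,26),(1,9),(94,87),(0,54),(0,3),(0,3),(90,73),(0,16),(0,8)]⟩,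
   ⟨7,11,23,
    [1,17,12,13,7,5,11,19,20,0,6,3,10,2,8,9,15,22,18,21,4,14,16,23],
    [7,19,20,8,18,21,11,10,16,5,1,15,0,13,4,17,6,14,22,2,9,12,3,23],
    [(1,1),(2,0),(2,3),(3,3),(4,3),(5,2),(7,1),(7,1),(9,8),(7,0),(3,3),(0,0),(5,0),(0,3),(0,15),(1,0),(2,2),(3,0),(4,0),(5,0),(6,0),(17,12),(14,14),(0,0),(1,0),(1,1),(1,0),(0,5),(0,29),(1,15),(24,20),(2,2),(0,0),(1,0),(0,3),(14,0),(0,36),(38,0),(2,24),(3,11),(12,1),(27,1),(6,0),(7,7),(8,0),(9,0),(37,36),(10,10),(0,0),(12,0),(0,3),(8,8),(0,0),(0,0),(2,0),(0,4),(0,42),(1,27),(22,1),(23,3),(4,4),(25,1),(6,2),(27,2),(28,1),(9,1),(63,56),(29,29),(30,0),(0,2),(11,11),(0,0),(13,0),(0,3),(9,0),(39,0),(0,76),(1,21),(42,0),(3,43),(44,0),(5,0),(6,6),(61,36),(7,7),(8,0),(1,1),(1,0),(0,4),(48,48),(0,0),(0,2),(30,30),(0,0),(0,2),(13,0),(0,52),(21,0),(2,22),(23,3),(4,17),(100,17),(86,86),(87,0),(1,1),(1,0),(0,4),(87,0),(47,47),(0,53),(0,2),(13,13),(14,0),(0,2),(13,0),(0,15),(1,1),(118,59),(0,39),(0,73),(0,4),(0,4),(82,56),(0,77),(0,25)]⟩,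
   ⟨7,23,23,
    [9,4,15,0,5,11,7,12,19,6,10,16,21,13,22,8,17,18,1,20,14,3,2,23],
    [20,16,15,2,17,8,7,0,21,3,13,10,14,9,4,1,6,11,12,22,5,19,18,23],
    [(1,1),(2,0),(3,0),(4,0),(4,5),(6,5),(6,6),(8,1),(8,1),(10,0),(10,1),(6,12),(9,0),(0,14),(1,1),(7,3),(12,0),(0,11),(5,1),(2,2),(7,0),(4,0),(23,10),(9,9),(0,0),(1,0),(1,1),(0,0),(2,0),(0,6),(8,8),(0,0),(0,2),(0,16),(1,0),(2,2),(3,0),(4,0),(38,15),(33,33),(0,0),(1,0),(1,1),(0,0),(2,0),(0,6),(11,11),(0,0),(1,0),(0,3),(17,0),(0,38),(1,37),(36,1),(3,21),(4,0),(5,5),(34,47),(47,47),(48,0),(1,1),(0,0),(2,0),(0,5),(11,11),(0,0),(0,0),(2,0),(0,4),(32,0),(0,53),(1,38),(39,0),(22,0),(4,23),(5,18),(25,1),(26,1),(27,0),(69,21),(73,69),(0,20),(0,2),(29,29),(30,0),(0,2),(48,0),(8,8),(9,0),(0,2),(0,13),(1,0),(2,22),(23,3),(4,1),(5,1),(57,38),(78,78),(0,0),(1,0),(0,3),(45,45),(0,0),(0,2),(12,12),(0,1),(10,0),(0,90),(1,57),(2,33),(3,15),(93,3),(0,40),(0,4),(0,3),(0,8),(45,42),(0,7),(0,28)]⟩,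
   ⟨11,11,11,
    [17,4,13,19,14,12,6,10,7,2,15,3,21,11,20,5,8,16,1,18,9,22,0,23],
    [21,0,4,5,12,19,3,9,20,1,10,6,15,7,17,18,11,22,13,8,14,2,16,23],
    [(1,1),(2,0),(3,0),(4,0),(5,0),(6,0),(7,0),(6,7),(0,7),(1,0),(2,7),(3,1),(13,1),(5,5),(6,0),(7,0),(17,16),(17,18),(18,18),(19,18),(7,7),(0,0),(1,0),(1,1),(1,0),(0,5),(18,0),(0,19),(20,0),(2,1),(22,0),(4,15),(5,5),(34,14),(23,23),(0,0),(1,0),(1,1),(0,0),(2,0),(0,6),(9,9),(10,0),(0,2),(17,0),(0,14),(1,19),(2,0),(3,0),(22,0),(5,0),(31,17),(40,40),(0,0),(42,0),(0,3),(10,10),(0,0),(1,0),(0,3),(9,9),(0,0),(0,2),(0,64),(56,0),(38,1),(3,58),(40,0),(5,35),(52,51),(63,0),(42,42),(0,0),(1,0),(0,3),(31,0),(0,77),(1,69),(2,11),(3,52),(4,35),(36,5),(6,1),(82,49),(18,18),(19,0),(1,1),(1,0),(0,4),(21,21),(0,0),(1,0),(0,3),(45,45),(46,0),(0,2),(13,13),(0,1),(0,89),(1,19),(2,24),(49,83),(3,3),(0,0),(0,2),(77,77),(78,0),(0,2),(8,8),(9,0),(0,2),(10,10),(0,0),(0,2),(0,36),(31,13),(39,39),(0,0),(41,0),(1,1),(1,0),(0,5),(43,43),(44,0),(1,1),(1,0),(0,4),(94,0),(46,46),(0,0),(0,2),(0,49),(1,18),(35,2),(3,1),(70,121),(0,67),(0,74),(0,4),(24,92),(0,8),(0,6)]⟩,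
   ⟨11,11,23,
    [18,22,14,15,0,6,13,1,20,8,2,9,7,12,19,5,16,21,10,11,4,3,17,23],
    [13,15,7,12,8,5,14,18,6,2,3,9,1,17,19,11,20,21,22,16,0,4,10,23],
    [(1,1),(2,0),(2,3),(4,3),(4,4),(5,4),(7,1),(7,0),(8,0),(10,0),(10,5),(1,1),(5,0),(1,1),(1,0),(0,4),(0,0),(1,0),(2,0),(14,18),(16,16),(0,0),(1,0),(1,1),(0,0),(2,0),(0,6),(0,24),(12,1),(2,2),(14,1),(4,2),(16,1),(17,1),(33,31),(20,0),(5,5),(6,0),(1,1),(1,0),(0,4),(22,0),(0,26),(27,0),(28,0),(3,1),(4,27),(5,0),(6,6),(38,46),(24,0),(17,17),(0,0),(0,0),(2,0),(0,4),(8,8),(9,0),(0,2),(0,60),(61,0),(2,31),(3,45),(4,21),(5,0),(6,0),(64,63),(61,61),(62,0),(1,1),(1,0),(0,4),(39,39),(40,0),(0,2),(30,30),(31,0),(0,2),(12,12),(0,0),(0,2),(0,22),(1,1),(63,33),(56,56),(0,0),(58,0),(1,1),(1,0),(0,5),(50,0),(48,45),(0,1),(11,11),(0,1),(0,14),(15,0),(36,66),(0,80),(0,50),(0,17),(39,38),(0,53),(0,6)]⟩,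
   ⟨11,23,23,
    [10,15,21,22,0,4,1,17,16,9,18,14,20,8,7,3,19,2,12,5,13,6,11,23],
    [13,7,0,5,9,6,2,15,1,21,18,14,20,10,17,22,19,16,12,3,8,11,4,23],
    [(1,1),(2,0),(3,0),(4,0),(5,0),(6,0),(7,0),(8,0),(9,0),(4,9),(0,11),(1,0),(2,0),(14,13),(14,15),(15,15),(16,15),(10,0),(0,8),(9,1),(10,1),(3,2),(4,2),(5,2),(14,1),(26,9),(18,0),(0,0),(1,0),(12,3),(17,17),(0,0),(1,0),(0,3),(9,9),(10,0),(0,2),(0,27),(11,1),(2,10),(26,25),(35,0),(18,18),(19,0),(0,2),(8,8),(0,0),(1,0),(0,3),(0,50),(32,0),(2,23),(3,3),(4,0),(5,0),(54,29),(5,5),(0,0),(7,0),(0,3),(22,22),(23,0),(0,2),(23,23),(0,0),(1,0),(0,3),(18,0),(0,29),(32,0),(40,55),(60,60),(0,0),(1,0),(1,1),(1,0),(0,5),(25,25),(0,0),(1,0),(0,3),(0,82),(83,0),(2,64),(3,57),(4,36),(5,5),(38,1),(7,1),(74,33),(81,0),(55,0),(22,22),(23,0),(0,2),(40,0),(0,59),(1,29),(42,27),(90,0),(78,78),(79,0),(1,1),(1,0),(0,4),(20,20),(0,0),(1,0),(0,3),(20,0),(0,100),(1,1),(29,28),(0,76),(0,16),(0,3),(5,19),(0,29),(0,20)]⟩,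
   ⟨23,23,23,
    [22,16,10,13,8,7,5,17,9,11,19,6,0,18,12,4,15,3,21,20,14,2,1,23],
    [3,19,17,7,20,8,5,10,16,14,4,6,22,2,0,9,15,12,1,13,18,11,21,23],
    [(1,1),(2,0),(3,0),(4,0),(5,0),(6,0),(7,0),(8,0),(9,0),(10,0),(11,0),(12,0),(13,0),(14,0),(15,0),(16,0),(17,0),(18,0),(19,0),(20,0),(11,20),(0,22),(23,0),(2,0),(3,3),(4,0),(5,0),(6,0),(7,0),(8,0),(9,0),(10,0),(11,0),(34,33),(34,35),(11,11),(12,0),(1,1),(0,0),(2,0),(0,38),(11,0),(0,43),(22,0),(2,2),(3,0),(11,12),(27,0),(17,0),(0,50),(1,7),(2,28),(3,27),(4,8),(20,53),(11,11),(0,0),(13,0),(1,1),(1,0),(0,5),(29,0),(8,8),(0,0),(1,0),(0,3),(0,41),(1,13),(2,2),(14,68),(20,20),(0,0),(1,0),(1,1),(0,0),(2,0),(0,6),(44,0),(10,10),(11,0),(0,2),(0,60),(1,40),(2,38),(35,1),(4,16),(5,0),(40,87),(36,36),(0,0),(1,0),(0,3),(25,25),(26,0),(1,1),(1,0),(0,4),(13,13),(0,1),(12,0),(0,19),(1,0),(2,2),(15,103),(53,53),(0,0),(1,0),(1,1),(1,0),(0,5),(25,25),(0,0),(0,2),(0,68),(1,33),(114,115),(7,0),(64,64),(0,0),(0,2),(6,6),(0,0),(0,2),(8,0),(21,0),(0,12),(13,0),(126,45),(0,82),(0,27),(0,30),(0,6),(50,47),(0,18),(0,7)]⟩]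

end Cfsg.Agent.Lib.GolayGenM23Data
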