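import Mathlib
import Cfsg.Prelude.Def_Sporadic_a
import Cfsg.Prelude.Def_SporadicCombinatorics
import Cfsg.Agent.Lib.GolayClass

/-!
# The centralizer of a fix-point-octad involution of `M24` and of a transvection of `SL₅(2)`
-/

set_option autoImplicit false
set_option maxHeartbeats 1000000
set_option maxRecDepth 100000
set_option synthInstance.maxSize 100000
set_option synthInstance.maxHeartbeats 0
set_option linter.style.haveILetI false
set_option linter.constructorNameAsVariable false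

namespace Cfsg.Agent.Lib.GolayInvC

open Cfsg Cfsg.Agent.Lib.GolayCode Cfsg.Agent.Lib.GolayFacts Cfsg.Agent.Lib.GolayPerm
  Cfsg.Agent.Lib.GolayChain Cfsg.Agent.Lib.GolayTrans Cfsg.Agent.Lib.GolayDecomp
  Cfsg.Agent.Lib.GolayOrbit Cfsg.Agent.Lib.GolayFix Cfsg.Agent.Lib.GolayEnum
  Cfsg.Agent.Lib.GolayClass

def zC : ℕ := 0x5a8a683233191b2bd9283d2ae78820
def TX : ℕ := 0x1d09664232595b3799283a9d5b8820799ca94e2cbd5b01d1283d885588202b173a2a2620db6ac9283c2ef70820acaf035a3473daa2b1283cd6320820956c47de23999ab615283b954808206154e1ae2f851b795528392c69882033e6baba25b49a4a0d283de0c50820a0e1729235531ae33d283ae72b0820b5e437562434da552d283bd90a082052d8f2162ea41b5b5d2838e53308209b8c5bbe2b959a3811283d68a608208129558e37629af9b928394d69082024072552362ada674d283b1f7a882074decb1a2aaddb4241283c86b288205a8a683233191b2bd9283d2ae78820bdab49ca307b9ac5a928398a418820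
def TY : ℕ := 0xbdaa6848f31912c5a9a28d0ae7a0015d8b49c9101900cba83111aae79d2dba8a69c930790ec5da216d2ae181025aab4848137910cbd84d098ae1a4f15aaa69c8301b84cbd909050a47b627ba8b4849b31ba2c5d8e049aa4784485d8a6848537b82cba807452a41c5a9bdab49ca307b9ac5a928398a418820
def TK : ℕ := 0xa0eaa2492ebc02c33ce0158b35c50d80eea249aead00c9bc413d9662a229a8e8a2484e85d0c2bdb14d8cb98027b8e0a248eea562c5bd286da653040200000000000000000000000000000000000000000000000000000000000000000000000000000000000000000079ab72484e5400c1d2214acb3b1da80000000000000000000000000000007cef5248ee5502c1c10069566b0931796902492e55e2c1d40814ccbb34e10000000000000000000000000000007ae14249ae5550c1dc3139a65b2440000000000000000000000000000000000000000000000000000000000000819572490eabc2c9d1208aec32b4e2a4d5524a2ebbc0c341a1416c35a447000000000000000000000000000000000000000000000000000000000000b95502482ea3d0c5d45104ec331da9aad542480e83e2c2dce809ac39892d000000000000000000000000000000000000000000000000000000000000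a99f72492e829ac2d10712c7698411a15f02484eba8ec3542d4cc765a220000000000000000000000000000000000000000000000000000000000000bcdf5249aea292c5c222394763002882df4248eeaa84c9dc09698762c50100000000000000000000000000000000000000000000000000000000000051a1724a2e7d4ecb504d42e6518029000000000000000000000000000000516f02480e7d1acb55270cd661c50254e952490e7dc4cb40e9894cb1840d00000000000000000000000000000052eb42482e7c12cb5da2018b31a227000000000000000000000000000000000000000000000000000000000000000000000000000000000000000000a5a0f2490ebd5ac3280788e6558921adaef2482e850ec2aa2d00d669a44885a8f24a2eadd2c9a82240ccb29da0bdaaf2480ea404c5a90908cb3334f10000000000000000000000000000000000000000000000000000000000000000000000000000000000000000000000000000000000000000000000000000000000000000000000000000000000000000000000000000000000000000000000000000000000000000000000000000000000000000000000000000000000000000000000000000000000000000000000000000000000000000000000000000000000000000000000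00000000000000000000000000a12ea1c80fac1ac33a294597329c41812aa1c82fbd12c9b90d8d8a6588e0b928a1c90f8544c5b827058c59a5b1a920a1ca2fa5cec2b8020da6b335280000000000000000000000000000000000000000000000000000000000000000000000000000000000000000000000000000000000000000000000000000000000000000000000000000000000000000000000000000000000000000000000000000000000000000000000000000000000000000000000000000000000000000000000000000000000000000000000000000000000007915734834ac10c1b8e26aed32c520000000000000000000000000000000000000000000000000000000000000791559c810bd22c1b847496c65a1a1000000000000000000000000000000791502c915a5c2c1b9a93cecb30051791545ca378540c1b92d11ac5984e8000000000000000000000000000000812b73481453c4c9b9a83aca3b2621000000000000000000000000000000a12f59c83053cec3393111563b3500000000000000000000000000000000b92902ca3553d2c5b8e16ccc3b0808000000000000000000000000000000a92145c91753dac2b84049a63b1c31000000000000000000000000000000511f7349b48552cb38110ac659890700000000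0000000000000000000000000000000000000000000000000000511f02c8f5bd04cb3a2044c665a42d000000000000000000000000000000511f59c930a5dacb38280146b31e22511f45c857ac0ecb3901898732b409000000000000000000000000000000a9217348f47aa2c2b82902e761a04d000000000000000000000000000000a12f02c9b57a80c339028cd7618527000000000000000000000000000000b92959c8507a90c5b80d094d61c4e9000000000000000000000000000000812b45c9377a82c9ba27418b6181a2000000000000000000000000000000000000000000000000000000000000000000000000000000000000000000a12efb48ea8542c3384848d659822da920fb49aabd10c2b92110e665c407b928fb492aac22c5b9a038cd32a022812afb484aa5c0c9b8f168cab3050900000000000000000000000000000000000000000000000000000000000000000000000000000000000000000000000000000000000000000000000000000000000000000000000000000000000000000000000000000000000000000000000000000000000000000000000000000000000000000000000000000000000000000000000000000000000000000000000000000000000000000000000000000000000000000071af51c90f54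12c250ed01573b442200000000000000000000000000000074eb71ca2f551ac240490aca6b200772e901c80f554ec25d2244cc5b062d000000000000000000000000000000716141c82f55c4c255a789a6bb010900000000000000000000000000000070d55349b4bc04c23e28096d359c0900000000000000000000000000000000000000000000000000000000000070d579c930ad0ec23d1102ec62882d00000000000000000000000000000070d505c857a55ac23c208cec53250770d542c8f585d2c23c0141acb9b62200000000000000000000000000000000000000000000000000000000000000000000000000000000000000000000000000000000000000000000000000000000000000000000000000000000000000000000000000000000000000000000000000000000000000000000000000000000000000000000000000000000000000000000000000000074eaa348f4bbd0c24122058a35b43171aea9c850abe2c251a70d9632a40800000000000000000000000000000000000000000000000000000000000072e8a2c9b583c2c25c498d8c399d007160a5c937a3c0c254ed45a6330a21000000000000000000000000000000000000000000000000000000000000759f034834bd62c228496cc65580e80000000000000000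00000000000000000000000000000000000000000000759f72c9158500c229223ac669c5a1000000000000000000000000000000759f55ca37a402c229a71147332120759f49c810add0c228ed4986b2845100000000000000000000000000000000000000000000000000000000000071af0b492a7d50c250013cd65189b100000000000000000000000000000071617b484a7d02c256286ae661a4e072e95b48ea7c00c25d11494d31b44100000000000000000000000000000074eb4b49aa7de2c24020118ab19d280000000000000000000000000000007160f34814ba92c2551138e76585a271aef2ca358284c2502068d769a0e900000000000000000000000000000000000000000000000000000000000072e8f9c830aa9ac25e2810cd62812774eaf5c917a28ec2400148cb63444d000000000000000000000000000000000000000000000000000000000000000000000000000000000000000000000000000000000000000000000000000000000000000000000000000000000000000000000000000000000000000000000000000000000000000000000000000000000000000000000000000000000000000000000000000000000000000000000000000000000000000000000000000000000000000000819551c84fbb9ac9d009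396c458628a4d571c8efab92c3402d12ec428111000000000000000000000000000000000000000000000000000000000000aad501c9afa384c2dd074cec434420b95541c92f838ec5d62269ac49a00100000000000000000000000000000080ef5349345390c9bc2289564b00ed000000000000000000000000000000a0eb79c9b053a2c33c0742ca4b0449000000000000000000000000000000a8e905c8f75380c2be2d0ccc4b2122000000000000000000000000000000b8e142c8555382c5bd0901a64b45a70000000000000000000000000000007ceea34a34ab84c1c0084d964285a779aaa9c910bb8ec1d0316d8a4581220000000000000000000000000000000000000000000000000000000000007968a5c837839ac1d5003d8c49c4497ae0a2c815a392c1de2115a64320ed000000000000000000000000000000000000000000000000000000000000000000000000000000000000000000000000000000000000000000000000000000000000000000000000000000000000000000000000000000000000000000000000000000000000000000000000000000000000000000000000000000000000000000000000000000000000000000000000000000000000000000000000000000000000000000a99f0b4a2abb82c2d0e804c6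45b449a15f7b480a8390c355a18ac6499d2200000000000000000000000000000000000000000000000000000000000082df5b482aa3a2c9dd2041464309a7bcdf4b490aab80c5c051098642a4ed000000000000000000000000000000adaf0349147b92c2a9b114d6419c01000000000000000000000000000000a5a172c8357b84c328e04ae641b62800000000000000000000000000000085a955c8177b8ec9a841694c41a511000000000000000000000000000000bdab49ca307b9ac5a928398a418820000000000000000000000000000000516ef3485483a2cb54e940d649b42051a0f2c935bb80cb51a208e6459d1100000000000000000000000000000000000000000000000000000000000054e8f5c9b7ab82cb412700cc428a2852eaf9c8f0a390cb5c4d88ca432401000000000000000000000000000000000000000000000000000000000000000000000000000000000000000000000000000000000000000000000000000000000000000000000000000000000000000000000000000000000000000000000000000000000000000000000000000000000000000000000000000000000000000000000000000000000000000000000000000000000000000000000000000000000000000000b99d51c80f8282c5d051414969b5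27a2dd01c90faaa2c35da104c96288e9000000000000000000000000000000000000000000000000000000000000acdd71c82fa280c2c0e88ac96325a2815d41ca2fba90c9d5200989659c4d00000000000000000000000000000050dd53483485c0cb3d276948b9a05100000000000000000000000000000000000000000000000000000000000050dd05ca37ad10cb3ce914c86281a100000000000000000000000000000050dd79c810a542cb3da24ac85344e850dd42c915bc22cb3c4d39893585200000000000000000000000000000007d9d0349b4adcec1a9000cc8b2a6220000000000000000000000000000000000000000000000000000000000007d9d55c8578512c1a8088948699c2d0000000000000000000000000000007d9d72c8f5a41ac1a83142c93308097d9d49c930bd44c1aa21018855b507000000000000000000000000000000000000000000000000000000000000b99d0b48eaabdac5d2224cc8328500a2dd5b492a83c4c35c2d394839c408000000000000000000000000000000000000000000000000000000000000815d7b49aaa3cec9d40912c8332031acdd4b484abbd2c2c107698835822100000000000000000000000000000000000000000000000000000000000000000000000000000000000000000000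0000000000000000000000000000000000000000000000000000000000000000000000000000000000000000000000000000000000000000000000000000000000000000000000000000000000000000000000000000000000acdca348147dc2c2c22d3d88b18909b99ca9c8307d40c5d1091588519e2da2dca2ca357c10c35c076d8931a422815ca5c9177d22c9d4224d8861b407000000000000000000000000000000000000000000000000000000000000000000000000000000000000000000000000000000000000000000000000815cf348f455dac9d44100c8bb4528b99cf2c9b5540ec5d12888c93b0041a2dcf9c8505552c35ce008c85b21b1acdcf5c9375504c2c1b140c86b04e000000000000000000000000000000000000000000000000000000000000000000000000000000000000000000000000000000000000000000000000000000000000000000000000000000000000000000000000000000000000000000000000000000000000000000000000000000000000000000000000000000000000000000000000000000000000000000000000000000000000000000000000000000000000000000000000000000000000000000000000000000000000000000000000000000051a151c8ef75e2cb51011166b225a0000000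00000000000000000000000052eb01c92f7502cb5c116cca621c4854e971c84f7550cb42203acc523521000000000000000000000000000000516f41c9af7400cb542849973208f1000000000000000000000000000000b8e1534a34728ec5bda04967620901000000000000000000000000000000a0eb05c8377292c33c483ccb623411000000000000000000000000000000a8e979c9107284c2bd216acd621e2000000000000000000000000000000080ef42c815729ac9bcf1119762242800000000000000000000000000000000000000000000000000000000000079ab0b480a75c4c1d12d8ccab220270000000000000000000000000000007ae15b490a751ac1dce2096662022979697b4a2a7412c1d44702cd32050d0000000000000000000000000000007cef4b482a754ec1c1a94196524402000000000000000000000000000000bdab03485473c0c5a82744ca32452d000000000000000000000000000000a5a155c9b773d0c32a2901663204e200000000000000000000000000000085a972c93573e2c9a90d0acc320047000000000000000000000000000000adaf49c8f073c2c2a80289963221a9000000000000000000000000000000bcdea34934755ac5c0e18d86522040a99ea9c9b075d2c2d0404586b244e1a15ea5c8f7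7404c355310d873201a882dea2c855750ec9dda80586620531000000000000000000000000000000000000000000000000000000000000000000000000000000000000000000000000000000000000000000000000000000000000000000000000000000000000000000000000000000000000000000000000000000000000000000000000000000000000000000000000000000000000000000000000000000000000000000000000000000000000000000000000000000000000000000000000000000000000000000000000b954f349147402c5d40d10ed3226278194f2c83575d0c9d22748ecb2080da4d4f5c8177562c3410268ec521c29aad4f9ca307500c2dc2938ec623502000000000000000000000000000000000000000000000000000000000000000000000000000000000000000000000000000000000000000000000000000000000000000000000000000000000000000000000000000000000000000000000000000000000000000000000000000000000000000000000000000000000000000000000000000000000000000000000000000000000000000000000000000000000000000000000000000000000000000000000000000000000000000000000000000000000000000000000000000000000000a5a0e1c84fadc2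c329313926b2a00dbdaae1c9af8522c5a8e1490a69810285a8e1c8efbd40c9a9a8110c55c429adaee1c92fa410c2a8406917330627000000000000000000000000000000000000000000000000000000000000000000000000000000000000000000000000000000000000000000000000a0eaeb4a2a85dac33d02010ab9a4e1b8e0eb482aad04c5bc0d4126629d31a8e8eb480abc0ec2bc29890d3589a880eeeb490aa552c9be2709165334400000000000000000000000000000000000000000000000000000000000007ae0e34934aa80c1dc47892762b42879aae5c8f78290c1d1a9090b698a200000000000000000000000000000000000000000000000000000000000007968e9c9b0ba82c1d4e2410d65a4117ceee2c855a2a2c1c12d0117631d0100000000000000000000000000000000000000000000000000000000000052eae3491483cecb5e20110a3985a951a0e5c817abd2cb5028692632c44700000000000000000000000000000000000000000000000000000000000054e8e2c835bbdacb4011490c35a0e2516ee9ca30a3c4cb5501391633012d00000000000000000000000000000000000000000000000000000000000082dee34a345542c9dd0d49065b1c02a99ee5c8375422c2d00239073b250da15ee9c91055c0c356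296906bb0827bcdee2c8155510c5c02711066b3629000000000000000000000000000000000000000000000000000000000000000000000000000000000000000000000000000000000000000000000000aad4e348547c1ac2dd21412d3180f18194e5c9b77d44c9d0f1012c51a121a4d4e2c9357dcec34048092cb1c5a0b954e9c8f07d12c5d5a0892c6184480000000000000000000000000000000000000000000000000000000000000000000000000000000000000000000000000000000000000000000000000000000000000000000000000000000000000000000000000000000000000000000000000000000000000000000000000000000000000000000000000000000000000000000000000000000000000000000000000000000000000000000000000000000000000000000000000000000000000000000000000000000000000000000000000000000000000000000000000000000000000000000000000000000000000000000000000000000000000000000000000000000000000000000000000000000000000000000000000000000000000000000000000000000000000000000000000000000000000000000000000000000000000000000000000000000000000000000000000000000000000000000000000000000000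0000000000000000000000000000000000000000000000000000000000000000000000000000000000000000000000000000000000000000000000000000000000000000000000000000000000000000000000000000000000000000000000000000000000000000000000000000000000000000000000000000000000000000000000000000000000000000000000000000000000000000000000000000000000000000000000000000000000000000000000000000000000000000000000000000000000000000000000000000000000000000000000000000000000000000000000000000000000000000000000000000000000000000000000000000000000000000000000000000000000000000000000000000000000000000000000000000000000000000000000000000000000000000000000000000000000000000000000000000000000000000000000000000000000000000000000000000000000000000000000000000000000000000000000000000000000000000000000000000000000000000000000000000000000000000000000000000000000000000000000000000000000000000000000000000000000000000000000000000000000000000000000000000000000000000000000000000000000000000000000000000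0000000000000000000000000000000000000000000000000000000000000000000000000000000000000000000000000000000000000000000000000000000000000000000000000000000000000000000000000000000000000000000000000000000000000000000000000000000000000000000000000000000000000000000000000000000000000000000000000000000000000000000000000000000000000000000000000000000000000000000000000000000000000000000000000000000000000000000000000000000000000000000000000000000000000000000000000000000000000000000000000000000000000000000000000000000000000000000000000000000000000000000000000000000000000000000000000000000000000000000000000000000000000000000000000000000000000000000000000000000000000000000000000000000000000000000000000000000000000000000000000000000000000000000000000000000000000000000000000000000000000000000000000000000000000000000000000000000000000000000000000000000000000000000000000000000000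
def tgL : List ℕ := [0x74decb1a2aaddb4241283c86b28820,0x5d8a6848537b82cba807452a41c5a9,0x85a955c8177b8ec9a841694c41a511,0xb8e142c8555382c5bd0901a64b45a7,0x74eb4b49aa7de2c24020118ab19d28]
def tg (i : ℕ) : ℕ := tgL.getD i 0
def W1 : List (List ℕ) := [[],[0],[1],[2],[4,1],[2,1],[3,2],[4,2],[3,4,2],[0,2,1],[2,3,2],[3,2,1],[3,4,2,1],[2,3,2,1],[0,2,3,2],[0,2,3,2,1]]
def W2 : List (List ℕ) := [[],[3],[4,0],[4,3,4],[4,1,4],[4,2,4],[4,2,0],[0,2,0]]
def W3 : List (List ℕ) := [[],[3,0,1,4],[4,3,1,0],[4,3,2,4,3],[3,4,2,3,4],[3,4,3,2,0],[3,4,2,1,0]]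
def W4 : List (List ℕ) := [[],[3,1,4,2,3,2,1,4,3,1],[1,4,3,1,4,1],[4,2,3,2,1,4],[2,4,3,2,1,4,3,0,2],[1,4,3,2,4,3,1,0,2,3,4],[3,4,2,4,0,2,3,1,0],[4,3,4,2,1,4,0,2,1],[3,4,2,1,4,3,0,1,0],[3,0,1,4,0,2,3,4,3],[3,4,3,2,4,3,0,1,0],[2,4,3,4,3,1,4,2,0,1,0],[2,3,4,1,4,3,4,0,2,1],[4,2,4,3,0,2,4,0,1,0],[4,2,1,4,0,2,3,1,4],[2,3,1,0,2,3,4,2,1],[2,3,4,0,2,3,1,4,2],[4,3,4,3,0,2,3,0],[1,4,2,3,1,4,0,2,4,1],[2,4,3,0,1,4,3,2,1],[2,1,4,3,2,3,0,2,1],[3,4,1,4,0,2,3,0],[4,3,2,3,0,1,4,2,3,4,1],[3,0,2,4,3,4,3,0]]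

def tb (T i : ℕ) : ℕ := Nat.mod (Nat.shiftRight T (Nat.mul 120 i)) 1329227995784915872903807060280344576

def pk3 (a b c : ZMod 2) : ℕ := a.val + 2 * b.val + 4 * c.val
def pk4 (a b c d : ZMod 2) : ℕ := a.val + 2 * b.val + 4 * c.val + 8 * d.val
def pk9N (n0 n1 n2 n3 n4 n5 n6 n7 n8 : ℕ) : ℕ :=
  n0 + 2 * n1 + 4 * n2 + 8 * n3 + 16 * n4 + 32 * n5 + 64 * n6 + 128 * n7 + 256 * n8
def pk9 (x0 x1 x2 x3 x4 x5 x6 x7 x8 : ZMod 2) : ℕ :=
  x0.val + 2 * x1.val + 4 * x2.val + 8 * x3.val + 16 * x4.val + 32 * x5.val + 64 * x6.val + 128 * x7.val + 256 * x8.val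

theorem zOkB : isAutN zC = true := by decide +kernel
theorem zOk : Ok zC := isAutN_ok zOkB
theorem zz : compN zC zC = idN := by decide +kernel
theorem z23 : imgN zC 23 = 11 := by decide +kernel
theorem z0 : imgN zC 0 = 0 := by decide +kernel
theorem z1 : imgN zC 1 = 1 := by decide +kernel

theorem okX : ∀ a b c d : ZMod 2, isAutN (tb TX (pk4 a b c d)) = true := by decide +kernel
theorem okY : ∀ a b c : ZMod 2, isAutN (tb TY (pk3 a b c)) = true := by decide +kernel
theorem okK : ∀ (x0 x1 x2 x3 x4 x5 x6 x7 x8 : ZMod 2), tb TK (pk9 x0 x1 x2 x3 x4 x5 x6 x7 x8) ≠ 0 → isAutN (tb TK (pk9 x0 x1 x2 x3 x4 x5 x6 x7 x8)) = true := by decide +kernel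
theorem cmX : ∀ a b c d : ZMod 2, commN (tb TX (pk4 a b c d)) zC zC = true := by decide +kernel
theorem cmY : ∀ a b c : ZMod 2, commN (tb TY (pk3 a b c)) zC zC = true := by decide +kernel
theorem cmK : ∀ (x0 x1 x2 x3 x4 x5 x6 x7 x8 : ZMod 2), tb TK (pk9 x0 x1 x2 x3 x4 x5 x6 x7 x8) ≠ 0 → commN (tb TK (pk9 x0 x1 x2 x3 x4 x5 x6 x7 x8)) zC zC = true := by decide +kernel

theorem lawXX : ∀ a b c d a' b' c' d' : ZMod 2,
    compN (tb TX (pk4 a b c d)) (tb TX (pk4 a' b' c' d')) = tb TX (pk4 (a + a') (b + b') (c + c') (d + d')) := by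
  decide +kernel
theorem lawYY : ∀ a b c a' b' c' : ZMod 2,
    compN (tb TY (pk3 a b c)) (tb TY (pk3 a' b' c')) = tb TY (pk3 (a + a') (b + b') (c + c')) := by
  decide +kernel
theorem lawXY : ∀ a b c d u v w : ZMod 2,
    compN (tb TX (pk4 a b c d)) (tb TY (pk3 u v w)) =
      compN (tb TY (pk3 u v w)) (tb TX (pk4 (a + b * u + c * v + d * w) b c d)) := by
  decide +kernel
theorem lawKY : ∀ (x0 x1 x2 x3 x4 x5 x6 x7 x8 : ZMod 2), tb TK (pk9 x0 x1 x2 x3 x4 x5 x6 x7 x8) ≠ 0 → ∀ u v w : ZMod 2,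
    compN (tb TK (pk9 x0 x1 x2 x3 x4 x5 x6 x7 x8)) (tb TY (pk3 u v w)) =
      compN (tb TY (pk3 (x0 * u + x1 * v + x2 * w) (x3 * u + x4 * v + x5 * w) (x6 * u + x7 * v + x8 * w))) (tb TK (pk9 x0 x1 x2 x3 x4 x5 x6 x7 x8)) := by
  decide +kernel
theorem lawXK : ∀ (x0 x1 x2 x3 x4 x5 x6 x7 x8 : ZMod 2), tb TK (pk9 x0 x1 x2 x3 x4 x5 x6 x7 x8) ≠ 0 → ∀ a b c d : ZMod 2,
    compN (tb TX (pk4 a b c d)) (tb TK (pk9 x0 x1 x2 x3 x4 x5 x6 x7 x8)) =
      compN (tb TK (pk9 x0 x1 x2 x3 x4 x5 x6 x7 x8)) (tb TX (pk4 a (b * x0 + c * x3 + d * x6) (b * x1 + c * x4 + d * x7) (b * x2 + c * x5 + d * x8))) := by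
  decide +kernel

def bit (i k : ℕ) : ℕ := Nat.mod (Nat.shiftRight i k) 2
def m1 (i j k0 k1 k2 c0 c1 c2 : ℕ) : ℕ := (bit i k0 * bit j c0 + bit i k1 * bit j c1 + bit i k2 * bit j c2) % 2
def mulK (i j : ℕ) : ℕ :=
  pk9N (m1 i j 0 1 2 0 3 6) (m1 i j 0 1 2 1 4 7) (m1 i j 0 1 2 2 5 8) (m1 i j 3 4 5 0 3 6) (m1 i j 3 4 5 1 4 7)
    (m1 i j 3 4 5 2 5 8) (m1 i j 6 7 8 0 3 6) (m1 i j 6 7 8 1 4 7) (m1 i j 6 7 8 2 5 8)

theorem chkV : allBelow (fun i => Nat.beq (tb TK i) 0 || allBelow (fun j => Nat.beq (tb TK j) 0 ||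
    Nat.beq (tb TK (mulK i j)) (compN (tb TK i) (tb TK j))) 512) 512 = true := by decide +kernel

theorem bits9 : ∀ (x0 x1 x2 x3 x4 x5 x6 x7 x8 : ZMod 2), bit (pk9 x0 x1 x2 x3 x4 x5 x6 x7 x8) 0 = x0.val ∧ bit (pk9 x0 x1 x2 x3 x4 x5 x6 x7 x8) 1 = x1.val ∧ bit (pk9 x0 x1 x2 x3 x4 x5 x6 x7 x8) 2 = x2.val ∧
    bit (pk9 x0 x1 x2 x3 x4 x5 x6 x7 x8) 3 = x3.val ∧ bit (pk9 x0 x1 x2 x3 x4 x5 x6 x7 x8) 4 = x4.val ∧ bit (pk9 x0 x1 x2 x3 x4 x5 x6 x7 x8) 5 = x5.val ∧ bit (pk9 x0 x1 x2 x3 x4 x5 x6 x7 x8) 6 = x6.val ∧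
    bit (pk9 x0 x1 x2 x3 x4 x5 x6 x7 x8) 7 = x7.val ∧ bit (pk9 x0 x1 x2 x3 x4 x5 x6 x7 x8) 8 = x8.val := by decide +kernel

theorem pk9_lt : ∀ (x0 x1 x2 x3 x4 x5 x6 x7 x8 : ZMod 2), pk9 x0 x1 x2 x3 x4 x5 x6 x7 x8 < 512 := by decide +kernel

theorem val3 : ∀ a b c d e f : ZMod 2, (a * b + c * d + e * f).val = (a.val * b.val + c.val * d.val + e.val * f.val) % 2 := by
  decide +kernel

theorem mulK_pk9 {x0 x1 x2 x3 x4 x5 x6 x7 x8 : ZMod 2} {y0 y1 y2 y3 y4 y5 y6 y7 y8 : ZMod 2} : mulK (pk9 x0 x1 x2 x3 x4 x5 x6 x7 x8) (pk9 y0 y1 y2 y3 y4 y5 y6 y7 y8) = pk9 (x0*y0 + x1*y3 + x2*y6) (x0*y1 + x1*y4 + x2*y7) (x0*y2 + x1*y5 + x2*y8) (x3*y0 + x4*y3 + x5*y6) (x3*y1 + x4*y4 + x5*y7) (x3*y2 + x4*y5 + x5*y8) (x6*y0 + x7*y3 + x8*y6) (x6*y1 + x7*y4 + x8*y7) (x6*y2 + x7*y5 + x8*y8) := by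
  obtain ⟨h0, h1, h2, h3, h4, h5, h6, h7, h8⟩ := bits9 x0 x1 x2 x3 x4 x5 x6 x7 x8
  obtain ⟨k0, k1, k2, k3, k4, k5, k6, k7, k8⟩ := bits9 y0 y1 y2 y3 y4 y5 y6 y7 y8
  simp only [mulK, m1, h0, h1, h2, h3, h4, h5, h6, h7, h8, k0, k1, k2, k3, k4, k5, k6, k7, k8]
  simp only [pk9N, pk9, val3]

theorem lawKK {x0 x1 x2 x3 x4 x5 x6 x7 x8 : ZMod 2} {y0 y1 y2 y3 y4 y5 y6 y7 y8 : ZMod 2} (hx : tb TK (pk9 x0 x1 x2 x3 x4 x5 x6 x7 x8) ≠ 0) (hy : tb TK (pk9 y0 y1 y2 y3 y4 y5 y6 y7 y8) ≠ 0) :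
    compN (tb TK (pk9 x0 x1 x2 x3 x4 x5 x6 x7 x8)) (tb TK (pk9 y0 y1 y2 y3 y4 y5 y6 y7 y8)) = tb TK (pk9 (x0*y0 + x1*y3 + x2*y6) (x0*y1 + x1*y4 + x2*y7) (x0*y2 + x1*y5 + x2*y8) (x3*y0 + x4*y3 + x5*y6) (x3*y1 + x4*y4 + x5*y7) (x3*y2 + x4*y5 + x5*y8) (x6*y0 + x7*y3 + x8*y6) (x6*y1 + x7*y4 + x8*y7) (x6*y2 + x7*y5 + x8*y8)) := by
  have h1 := allBelow_spec chkV _ (pk9_lt x0 x1 x2 x3 x4 x5 x6 x7 x8)
  simp only [Bool.or_eq_true] at h1
  rcases h1 with h1 | h1
  · exact absurd (Nat.eq_of_beq_eq_true h1) hx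
  have h2 := allBelow_spec h1 _ (pk9_lt y0 y1 y2 y3 y4 y5 y6 y7 y8)
  simp only [Bool.or_eq_true] at h2
  rcases h2 with h2 | h2
  · exact absurd (Nat.eq_of_beq_eq_true h2) hy
  rw [mulK_pk9] at h2
  exact (Nat.eq_of_beq_eq_true h2).symm

noncomputable def pX (a b c d : ZMod 2) : Equiv.Perm GolayPt := pN (tb TX (pk4 a b c d))
noncomputable def pY (a b c : ZMod 2) : Equiv.Perm GolayPt := pN (tb TY (pk3 a b c))
noncomputable def pK (x0 x1 x2 x3 x4 x5 x6 x7 x8 : ZMod 2) : Equiv.Perm GolayPt := pN (tb TK (pk9 x0 x1 x2 x3 x4 x5 x6 x7 x8))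

theorem oX (a b c d : ZMod 2) : Ok (tb TX (pk4 a b c d)) := isAutN_ok (okX a b c d)
theorem oY (a b c : ZMod 2) : Ok (tb TY (pk3 a b c)) := isAutN_ok (okY a b c)
theorem oK {x0 x1 x2 x3 x4 x5 x6 x7 x8 : ZMod 2} (h : tb TK (pk9 x0 x1 x2 x3 x4 x5 x6 x7 x8) ≠ 0) : Ok (tb TK (pk9 x0 x1 x2 x3 x4 x5 x6 x7 x8)) := isAutN_ok (okK x0 x1 x2 x3 x4 x5 x6 x7 x8 h)

theorem pX_mul (a b c d a' b' c' d' : ZMod 2) :
    pX a b c d * pX a' b' c' d' = pX (a + a') (b + b') (c + c') (d + d') := by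
  unfold pX
  rw [← pN_comp (oX _ _ _ _) (oX _ _ _ _), lawXX]

theorem pY_mul (a b c a' b' c' : ZMod 2) :
    pY a b c * pY a' b' c' = pY (a + a') (b + b') (c + c') := by
  unfold pY
  rw [← pN_comp (oY _ _ _) (oY _ _ _), lawYY]

theorem pXY (a b c d u v w : ZMod 2) :
    pX a b c d * pY u v w = pY u v w * pX (a + b * u + c * v + d * w) b c d := by
  unfold pX pY
  rw [← pN_comp (oX _ _ _ _) (oY _ _ _), ← pN_comp (oY _ _ _) (oX _ _ _ _), lawXY]

theorem pKY {x0 x1 x2 x3 x4 x5 x6 x7 x8 : ZMod 2} (h : tb TK (pk9 x0 x1 x2 x3 x4 x5 x6 x7 x8) ≠ 0) (u v w : ZMod 2) :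
    pK x0 x1 x2 x3 x4 x5 x6 x7 x8 * pY u v w = pY (x0 * u + x1 * v + x2 * w) (x3 * u + x4 * v + x5 * w) (x6 * u + x7 * v + x8 * w) * pK x0 x1 x2 x3 x4 x5 x6 x7 x8 := by
  unfold pK pY
  rw [← pN_comp (oK h) (oY _ _ _), ← pN_comp (oY _ _ _) (oK h), lawKY x0 x1 x2 x3 x4 x5 x6 x7 x8 h]

theorem pXK {x0 x1 x2 x3 x4 x5 x6 x7 x8 : ZMod 2} (h : tb TK (pk9 x0 x1 x2 x3 x4 x5 x6 x7 x8) ≠ 0) (a b c d : ZMod 2) :
    pX a b c d * pK x0 x1 x2 x3 x4 x5 x6 x7 x8 = pK x0 x1 x2 x3 x4 x5 x6 x7 x8 * pX a (b * x0 + c * x3 + d * x6) (b * x1 + c * x4 + d * x7) (b * x2 + c * x5 + d * x8) := by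
  unfold pK pX
  rw [← pN_comp (oX _ _ _ _) (oK h), ← pN_comp (oK h) (oX _ _ _ _), lawXK x0 x1 x2 x3 x4 x5 x6 x7 x8 h]

theorem pKK {x0 x1 x2 x3 x4 x5 x6 x7 x8 : ZMod 2} {y0 y1 y2 y3 y4 y5 y6 y7 y8 : ZMod 2} (hx : tb TK (pk9 x0 x1 x2 x3 x4 x5 x6 x7 x8) ≠ 0) (hy : tb TK (pk9 y0 y1 y2 y3 y4 y5 y6 y7 y8) ≠ 0) :
    pK x0 x1 x2 x3 x4 x5 x6 x7 x8 * pK y0 y1 y2 y3 y4 y5 y6 y7 y8 = pK (x0*y0 + x1*y3 + x2*y6) (x0*y1 + x1*y4 + x2*y7) (x0*y2 + x1*y5 + x2*y8) (x3*y0 + x4*y3 + x5*y6) (x3*y1 + x4*y4 + x5*y7) (x3*y2 + x4*y5 + x5*y8) (x6*y0 + x7*y3 + x8*y6) (x6*y1 + x7*y4 + x8*y7) (x6*y2 + x7*y5 + x8*y8) := by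
  unfold pK
  rw [← pN_comp (oK hx) (oK hy), lawKK hx hy]

theorem assoc_core {G : Type*} [Monoid G] (P K X P' K' X' YA Xp Xq : G) (e1 : X * P' = P' * Xp)
    (e2 : K * P' = YA * K) (e3 : Xp * K' = K' * Xq) :
    (P * K * X) * (P' * K' * X') = (P * YA) * (K * K') * (Xq * X') := by
  calc (P * K * X) * (P' * K' * X') = P * (K * ((X * P') * (K' * X'))) := by simp only [mul_assoc]
    _ = P * (K * ((P' * Xp) * (K' * X'))) := by rw [e1]
    _ = P * ((K * P') * ((Xp * K') * X')) := by simp only [mul_assoc]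
    _ = P * ((YA * K) * ((K' * Xq) * X')) := by rw [e2, e3]
    _ = (P * YA) * (K * K') * (Xq * X') := by simp only [mul_assoc]

theorem core_mul (a b c d u v w : ZMod 2) (x0 x1 x2 x3 x4 x5 x6 x7 x8 : ZMod 2) (a' b' c' d' u' v' w' : ZMod 2) (y0 y1 y2 y3 y4 y5 y6 y7 y8 : ZMod 2)
    (hx : tb TK (pk9 x0 x1 x2 x3 x4 x5 x6 x7 x8) ≠ 0) (hy : tb TK (pk9 y0 y1 y2 y3 y4 y5 y6 y7 y8) ≠ 0) :
    (pY u v w * pK x0 x1 x2 x3 x4 x5 x6 x7 x8 * pX a b c d) * (pY u' v' w' * pK y0 y1 y2 y3 y4 y5 y6 y7 y8 * pX a' b' c' d') =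
      pY (u + (x0 * u' + x1 * v' + x2 * w')) (v + (x3 * u' + x4 * v' + x5 * w')) (w + (x6 * u' + x7 * v' + x8 * w')) *
        pK (x0*y0 + x1*y3 + x2*y6) (x0*y1 + x1*y4 + x2*y7) (x0*y2 + x1*y5 + x2*y8) (x3*y0 + x4*y3 + x5*y6) (x3*y1 + x4*y4 + x5*y7) (x3*y2 + x4*y5 + x5*y8) (x6*y0 + x7*y3 + x8*y6) (x6*y1 + x7*y4 + x8*y7) (x6*y2 + x7*y5 + x8*y8) *
        pX ((a + b * u' + c * v' + d * w') + a') ((b * y0 + c * y3 + d * y6) + b') ((b * y1 + c * y4 + d * y7) + c')
          ((b * y2 + c * y5 + d * y8) + d') := by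
  have e1 := pXY a b c d u' v' w'
  have e2 := pKY hx u' v' w'
  have e3 := pXK hy (a + b * u' + c * v' + d * w') b c d
  rw [assoc_core _ _ _ _ _ _ _ _ _ e1 e2 e3, pY_mul, pKK hx hy, pX_mul]

/-- The shape of a centralizer element. -/
structure Str (m : Matrix (Fin 5) (Fin 5) (ZMod 2)) : Prop where
  h00 : m 0 0 = 1
  h10 : m 1 0 = 0
  h20 : m 2 0 = 0
  h30 : m 3 0 = 0
  h40 : m 4 0 = 0
  h11 : m 1 1 = 1
  h12 : m 1 2 = 0
  h13 : m 1 3 = 0
  h14 : m 1 4 = 0

noncomputable def Fm (m : Matrix (Fin 5) (Fin 5) (ZMod 2)) : Equiv.Perm GolayPt :=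
  pY (m 2 1) (m 3 1) (m 4 1) * pK (m 2 2) (m 2 3) (m 2 4) (m 3 2) (m 3 3) (m 3 4) (m 4 2) (m 4 3) (m 4 4) * pX (m 0 1) (m 0 2) (m 0 3) (m 0 4)

/-- The block of `m` lies in the table. -/
abbrev Kk (m : Matrix (Fin 5) (Fin 5) (ZMod 2)) : Prop := tb TK (pk9 (m 2 2) (m 2 3) (m 2 4) (m 3 2) (m 3 3) (m 3 4) (m 4 2) (m 4 3) (m 4 4)) ≠ 0

theorem Fm_mul {m n : Matrix (Fin 5) (Fin 5) (ZMod 2)} (hm : Str m) (hn : Str n) (km : Kk m) (kn : Kk n) :
    Fm (m * n) = Fm m * Fm n := by
  have e01 : (m * n) 0 1 = (m 0 1 + m 0 2 * n 2 1 + m 0 3 * n 3 1 + m 0 4 * n 4 1) + n 0 1 := by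
    rw [Matrix.mul_apply, Fin.sum_univ_five, hm.h00, hn.h11]; ring
  have e02 : (m * n) 0 2 = (m 0 2 * n 2 2 + m 0 3 * n 3 2 + m 0 4 * n 4 2) + n 0 2 := by
    rw [Matrix.mul_apply, Fin.sum_univ_five, hm.h00, hn.h12]; ring
  have e03 : (m * n) 0 3 = (m 0 2 * n 2 3 + m 0 3 * n 3 3 + m 0 4 * n 4 3) + n 0 3 := by
    rw [Matrix.mul_apply, Fin.sum_univ_five, hm.h00, hn.h13]; ring
  have e04 : (m * n) 0 4 = (m 0 2 * n 2 4 + m 0 3 * n 3 4 + m 0 4 * n 4 4) + n 0 4 := by
    rw [Matrix.mul_apply, Fin.sum_univ_five, hm.h00, hn.h14]; ring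
  have e21 : (m * n) 2 1 = m 2 1 + (m 2 2 * n 2 1 + m 2 3 * n 3 1 + m 2 4 * n 4 1) := by
    rw [Matrix.mul_apply, Fin.sum_univ_five, hm.h20, hn.h11]; ring
  have e22 : (m * n) 2 2 = m 2 2 * n 2 2 + m 2 3 * n 3 2 + m 2 4 * n 4 2 := by
    rw [Matrix.mul_apply, Fin.sum_univ_five, hm.h20, hn.h12]; ring
  have e23 : (m * n) 2 3 = m 2 2 * n 2 3 + m 2 3 * n 3 3 + m 2 4 * n 4 3 := by
    rw [Matrix.mul_apply, Fin.sum_univ_five, hm.h20, hn.h13]; ring
  have e24 : (m * n) 2 4 = m 2 2 * n 2 4 + m 2 3 * n 3 4 + m 2 4 * n 4 4 := by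
    rw [Matrix.mul_apply, Fin.sum_univ_five, hm.h20, hn.h14]; ring
  have e31 : (m * n) 3 1 = m 3 1 + (m 3 2 * n 2 1 + m 3 3 * n 3 1 + m 3 4 * n 4 1) := by
    rw [Matrix.mul_apply, Fin.sum_univ_five, hm.h30, hn.h11]; ring
  have e32 : (m * n) 3 2 = m 3 2 * n 2 2 + m 3 3 * n 3 2 + m 3 4 * n 4 2 := by
    rw [Matrix.mul_apply, Fin.sum_univ_five, hm.h30, hn.h12]; ring
  have e33 : (m * n) 3 3 = m 3 2 * n 2 3 + m 3 3 * n 3 3 + m 3 4 * n 4 3 := by
    rw [Matrix.mul_apply, Fin.sum_univ_five, hm.h30, hn.h13]; ring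
  have e34 : (m * n) 3 4 = m 3 2 * n 2 4 + m 3 3 * n 3 4 + m 3 4 * n 4 4 := by
    rw [Matrix.mul_apply, Fin.sum_univ_five, hm.h30, hn.h14]; ring
  have e41 : (m * n) 4 1 = m 4 1 + (m 4 2 * n 2 1 + m 4 3 * n 3 1 + m 4 4 * n 4 1) := by
    rw [Matrix.mul_apply, Fin.sum_univ_five, hm.h40, hn.h11]; ring
  have e42 : (m * n) 4 2 = m 4 2 * n 2 2 + m 4 3 * n 3 2 + m 4 4 * n 4 2 := by
    rw [Matrix.mul_apply, Fin.sum_univ_five, hm.h40, hn.h12]; ring
  have e43 : (m * n) 4 3 = m 4 2 * n 2 3 + m 4 3 * n 3 3 + m 4 4 * n 4 3 := by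
    rw [Matrix.mul_apply, Fin.sum_univ_five, hm.h40, hn.h13]; ring
  have e44 : (m * n) 4 4 = m 4 2 * n 2 4 + m 4 3 * n 3 4 + m 4 4 * n 4 4 := by
    rw [Matrix.mul_apply, Fin.sum_univ_five, hm.h40, hn.h14]; ring
  unfold Fm
  rw [e21, e31, e41, e22, e23, e24, e32, e33, e34, e42, e43, e44, e01, e02, e03, e04]
  exact (core_mul _ _ _ _ _ _ _ _ _ _ _ _ _ _ _ _ _ _ _ _ _ _ _ _ _ _ _ _ _ _ _ _ km kn).symm

def det3 (x0 x1 x2 x3 x4 x5 x6 x7 x8 : ZMod 2) : ZMod 2 := x0 * x4 * x8 - x0 * x5 * x7 - x1 * x3 * x8 + x1 * x5 * x6 + x2 * x3 * x7 - x2 * x4 * x6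

theorem det3_mul (x0 x1 x2 x3 x4 x5 x6 x7 x8 : ZMod 2) (y0 y1 y2 y3 y4 y5 y6 y7 y8 : ZMod 2) : det3 (x0*y0 + x1*y3 + x2*y6) (x0*y1 + x1*y4 + x2*y7) (x0*y2 + x1*y5 + x2*y8) (x3*y0 + x4*y3 + x5*y6) (x3*y1 + x4*y4 + x5*y7) (x3*y2 + x4*y5 + x5*y8) (x6*y0 + x7*y3 + x8*y6) (x6*y1 + x7*y4 + x8*y7) (x6*y2 + x7*y5 + x8*y8) = det3 x0 x1 x2 x3 x4 x5 x6 x7 x8 * det3 y0 y1 y2 y3 y4 y5 y6 y7 y8 := by
  unfold det3
  ring

theorem kok_of_det : ∀ (x0 x1 x2 x3 x4 x5 x6 x7 x8 : ZMod 2), det3 x0 x1 x2 x3 x4 x5 x6 x7 x8 ≠ 0 → tb TK (pk9 x0 x1 x2 x3 x4 x5 x6 x7 x8) ≠ 0 := by decide +kernel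

theorem kk_of_inv {m n : Matrix (Fin 5) (Fin 5) (ZMod 2)} (hm : Str m) (hn : Str n) (h : m * n = 1) : Kk m := by
  have e22 : m 2 2 * n 2 2 + m 2 3 * n 3 2 + m 2 4 * n 4 2 = 1 := by
    have h1 : (m * n) 2 2 = 1 := by rw [h]; decide +kernel
    rw [Matrix.mul_apply, Fin.sum_univ_five, hm.h20, hn.h12] at h1
    rw [← h1]; ring
  have e23 : m 2 2 * n 2 3 + m 2 3 * n 3 3 + m 2 4 * n 4 3 = 0 := by
    have h1 : (m * n) 2 3 = 0 := by rw [h]; decide +kernel
    rw [Matrix.mul_apply, Fin.sum_univ_five, hm.h20, hn.h13] at h1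
    rw [← h1]; ring
  have e24 : m 2 2 * n 2 4 + m 2 3 * n 3 4 + m 2 4 * n 4 4 = 0 := by
    have h1 : (m * n) 2 4 = 0 := by rw [h]; decide +kernel
    rw [Matrix.mul_apply, Fin.sum_univ_five, hm.h20, hn.h14] at h1
    rw [← h1]; ring
  have e32 : m 3 2 * n 2 2 + m 3 3 * n 3 2 + m 3 4 * n 4 2 = 0 := by
    have h1 : (m * n) 3 2 = 0 := by rw [h]; decide +kernel
    rw [Matrix.mul_apply, Fin.sum_univ_five, hm.h30, hn.h12] at h1
    rw [← h1]; ring
  have e33 : m 3 2 * n 2 3 + m 3 3 * n 3 3 + m 3 4 * n 4 3 = 1 := by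
    have h1 : (m * n) 3 3 = 1 := by rw [h]; decide +kernel
    rw [Matrix.mul_apply, Fin.sum_univ_five, hm.h30, hn.h13] at h1
    rw [← h1]; ring
  have e34 : m 3 2 * n 2 4 + m 3 3 * n 3 4 + m 3 4 * n 4 4 = 0 := by
    have h1 : (m * n) 3 4 = 0 := by rw [h]; decide +kernel
    rw [Matrix.mul_apply, Fin.sum_univ_five, hm.h30, hn.h14] at h1
    rw [← h1]; ring
  have e42 : m 4 2 * n 2 2 + m 4 3 * n 3 2 + m 4 4 * n 4 2 = 0 := by
    have h1 : (m * n) 4 2 = 0 := by rw [h]; decide +kernel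
    rw [Matrix.mul_apply, Fin.sum_univ_five, hm.h40, hn.h12] at h1
    rw [← h1]; ring
  have e43 : m 4 2 * n 2 3 + m 4 3 * n 3 3 + m 4 4 * n 4 3 = 0 := by
    have h1 : (m * n) 4 3 = 0 := by rw [h]; decide +kernel
    rw [Matrix.mul_apply, Fin.sum_univ_five, hm.h40, hn.h13] at h1
    rw [← h1]; ring
  have e44 : m 4 2 * n 2 4 + m 4 3 * n 3 4 + m 4 4 * n 4 4 = 1 := by
    have h1 : (m * n) 4 4 = 1 := by rw [h]; decide +kernel
    rw [Matrix.mul_apply, Fin.sum_univ_five, hm.h40, hn.h14] at h1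
    rw [← h1]; ring
  have h1 := det3_mul (x0 := m 2 2) (x1 := m 2 3) (x2 := m 2 4) (x3 := m 3 2) (x4 := m 3 3) (x5 := m 3 4) (x6 := m 4 2) (x7 := m 4 3) (x8 := m 4 4) (y0 := n 2 2) (y1 := n 2 3) (y2 := n 2 4) (y3 := n 3 2) (y4 := n 3 3) (y5 := n 3 4) (y6 := n 4 2) (y7 := n 4 3) (y8 := n 4 4)
  rw [e22, e23, e24, e32, e33, e34, e42, e43, e44] at h1
  have h2 : det3 1 0 0 0 1 0 0 0 1 = 1 := by decide +kernel
  rw [h2] at h1
  apply kok_of_det
  intro h0
  rw [h0, zero_mul] at h1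
  exact one_ne_zero h1

theorem str_of_comm {m : Matrix (Fin 5) (Fin 5) (ZMod 2)} (hdet : m.det = 1)
    (h : m * Matrix.transvection 0 1 1 = Matrix.transvection 0 1 1 * m) : Str m := by
  have hE : (Matrix.transvection 0 1 1 : Matrix (Fin 5) (Fin 5) (ZMod 2)) =
      !![1, 1, 0, 0, 0; 0, 1, 0, 0, 0; 0, 0, 1, 0, 0; 0, 0, 0, 1, 0; 0, 0, 0, 0, 1] := by decide +kernel
  rw [hE] at h
  have key : ∀ i j : Fin 5, (m * (!![1, 1, 0, 0, 0; 0, 1, 0, 0, 0; 0, 0, 1, 0, 0; 0, 0, 0, 1, 0; 0, 0, 0, 0, 1] : Matrix (Fin 5) (Fin 5) (ZMod 2))) i j =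
      ((!![1, 1, 0, 0, 0; 0, 1, 0, 0, 0; 0, 0, 1, 0, 0; 0, 0, 0, 1, 0; 0, 0, 0, 0, 1] : Matrix (Fin 5) (Fin 5) (ZMod 2)) * m) i j := fun i j => by rw [h]
  have h10 : m 1 0 = 0 := by simpa [Matrix.mul_apply, Fin.sum_univ_five] using key 1 1
  have h20 : m 2 0 = 0 := by simpa [Matrix.mul_apply, Fin.sum_univ_five] using key 2 1
  have h30 : m 3 0 = 0 := by simpa [Matrix.mul_apply, Fin.sum_univ_five] using key 3 1
  have h40 : m 4 0 = 0 := by simpa [Matrix.mul_apply, Fin.sum_univ_five] using key 4 1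
  have h12 : m 1 2 = 0 := by simpa [Matrix.mul_apply, Fin.sum_univ_five] using (key 0 2).symm
  have h13 : m 1 3 = 0 := by simpa [Matrix.mul_apply, Fin.sum_univ_five] using (key 0 3).symm
  have h14 : m 1 4 = 0 := by simpa [Matrix.mul_apply, Fin.sum_univ_five] using (key 0 4).symm
  have h01 : m 0 0 = m 1 1 := by
    have := key 0 1
    simp [Matrix.mul_apply, Fin.sum_univ_five] at this
    linear_combination this
  have h00 : m 0 0 = 1 := by
    have h0 : m 0 0 ≠ 0 := by
      intro h0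
      have : m.det = 0 := by
        apply Matrix.det_eq_zero_of_column_eq_zero 0
        intro i
        fin_cases i
        · exact h0
        · exact h10
        · exact h20
        · exact h30
        · exact h40
      rw [hdet] at this
      exact one_ne_zero this
    have hh : ∀ x : ZMod 2, x ≠ 0 → x = 1 := by decide +kernel
    exact hh _ h0
  exact ⟨h00, h10, h20, h30, h40, h01 ▸ h00, h12, h13, h14⟩

/-- The code of a permutation. -/
def code (m : Matrix (Fin 5) (Fin 5) (ZMod 2)) : ℕ :=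
  compN (compN (tb TY (pk3 (m 2 1) (m 3 1) (m 4 1))) (tb TK (pk9 (m 2 2) (m 2 3) (m 2 4) (m 3 2) (m 3 3) (m 3 4) (m 4 2) (m 4 3) (m 4 4)))) (tb TX (pk4 (m 0 1) (m 0 2) (m 0 3) (m 0 4)))

theorem okC {m : Matrix (Fin 5) (Fin 5) (ZMod 2)} (k : Kk m) : Ok (code m) :=
  ((oY _ _ _).comp (oK k)).comp (oX _ _ _ _)

theorem Fm_eq {m : Matrix (Fin 5) (Fin 5) (ZMod 2)} (k : Kk m) : Fm m = pN (code m) := by
  unfold Fm code pY pK pX
  rw [pN_comp ((oY _ _ _).comp (oK k)) (oX _ _ _ _), pN_comp (oY _ _ _) (oK k)]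

theorem Fm_mem {m : Matrix (Fin 5) (Fin 5) (ZMod 2)} (k : Kk m) : Fm m ∈ M24 := by
  unfold Fm pY pK pX
  exact mul_mem (mul_mem (isAutN_mem (okY _ _ _)) (isAutN_mem (okK _ _ _ _ _ _ _ _ _ k))) (isAutN_mem (okX _ _ _ _))

theorem Fm_comm {m : Matrix (Fin 5) (Fin 5) (ZMod 2)} (k : Kk m) : Commute (Fm m) (pN zC) := by
  unfold Fm pY pK pX
  have h1 : Commute (pN (tb TY (pk3 (m 2 1) (m 3 1) (m 4 1)))) (pN zC) := comm_of_commN (oY _ _ _) zOk zOk (cmY _ _ _)
  have h2 : Commute (pN (tb TK (pk9 (m 2 2) (m 2 3) (m 2 4) (m 3 2) (m 3 3) (m 3 4) (m 4 2) (m 4 3) (m 4 4)))) (pN zC) := comm_of_commN (oK k) zOk zOk (cmK _ _ _ _ _ _ _ _ _ k)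
  have h3 : Commute (pN (tb TX (pk4 (m 0 1) (m 0 2) (m 0 3) (m 0 4)))) (pN zC) := comm_of_commN (oX _ _ _ _) zOk zOk (cmX _ _ _ _)
  exact (h1.mul_left h2).mul_left h3

theorem chkInj : ∀ (x0 x1 x2 x3 x4 x5 x6 x7 x8 : ZMod 2), tb TK (pk9 x0 x1 x2 x3 x4 x5 x6 x7 x8) ≠ 0 → ∀ a b c d u v w : ZMod 2,
    compN (compN (tb TY (pk3 u v w)) (tb TK (pk9 x0 x1 x2 x3 x4 x5 x6 x7 x8))) (tb TX (pk4 a b c d)) = idN →
      (a = 0 ∧ b = 0 ∧ c = 0 ∧ d = 0 ∧ u = 0 ∧ v = 0 ∧ w = 0 ∧ x0 = 1 ∧ x1 = 0 ∧ x2 = 0 ∧ x3 = 0 ∧ x4 = 1 ∧ x5 = 0 ∧ x6 = 0 ∧ x7 = 0 ∧ x8 = 1) := by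
  decide +kernel

theorem eq_one_of_Fm {m : Matrix (Fin 5) (Fin 5) (ZMod 2)} (hm : Str m) (k : Kk m) (h : Fm m = 1) : m = 1 := by
  rw [Fm_eq k, ← pN_idN] at h
  have h1 := pN_inj (okC k) ok_idN (compN_lt _ _) idN_lt h
  obtain ⟨a1, a2, a3, a4, b2, b3, b4, x0, x1, x2, x3, x4, x5, x6, x7, x8⟩ := chkInj _ _ _ _ _ _ _ _ _ k _ _ _ _ _ _ _ h1
  ext i j
  fin_cases i <;> fin_cases j <;>
    simp [hm.h00, hm.h10, hm.h20, hm.h30, hm.h40, hm.h11, hm.h12, hm.h13, hm.h14, a1, a2, a3, a4, b2, b3, b4, x0, x1, x2, x3, x4, x5, x6, x7, x8]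

section Main

variable {s : Matrix.SpecialLinearGroup (Fin 5) (ZMod 2)}

theorem str_C (hs : (s : Matrix (Fin 5) (Fin 5) (ZMod 2)) = Matrix.transvection 0 1 1)
    (g : ↥(Subgroup.centralizer ({s} : Set (Matrix.SpecialLinearGroup (Fin 5) (ZMod 2))))) : Str g.1.1 := by
  have h1 := Subgroup.mem_centralizer_iff.mp g.2 s (Set.mem_singleton s)
  have h2 : g.1.1 * (s : Matrix (Fin 5) (Fin 5) (ZMod 2)) = (s : Matrix (Fin 5) (Fin 5) (ZMod 2)) * g.1.1 :=
    (congrArg Subtype.val h1).symm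
  rw [hs] at h2
  exact str_of_comm g.1.2 h2

theorem kk_C (hs : (s : Matrix (Fin 5) (Fin 5) (ZMod 2)) = Matrix.transvection 0 1 1)
    (g : ↥(Subgroup.centralizer ({s} : Set (Matrix.SpecialLinearGroup (Fin 5) (ZMod 2))))) : Kk g.1.1 := by
  have h1 : (g * g⁻¹).1.1 = 1 := by
    rw [mul_inv_cancel]
    rfl
  exact kk_of_inv (str_C hs g) (str_C hs g⁻¹) h1

theorem Fm_C_mul (hs : (s : Matrix (Fin 5) (Fin 5) (ZMod 2)) = Matrix.transvection 0 1 1)
    (g h : ↥(Subgroup.centralizer ({s} : Set (Matrix.SpecialLinearGroup (Fin 5) (ZMod 2))))) :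
    Fm (g * h).1.1 = Fm g.1.1 * Fm h.1.1 :=
  Fm_mul (str_C hs g) (str_C hs h) (kk_C hs g) (kk_C hs h)

/-- Values of `Fm` on the centralizer. -/
def inR (s : Matrix.SpecialLinearGroup (Fin 5) (ZMod 2)) (p : Equiv.Perm GolayPt) : Prop :=
  ∃ g : ↥(Subgroup.centralizer ({s} : Set (Matrix.SpecialLinearGroup (Fin 5) (ZMod 2)))), Fm g.1.1 = p

theorem inR_mul (hs : (s : Matrix (Fin 5) (Fin 5) (ZMod 2)) = Matrix.transvection 0 1 1)
    {p q : Equiv.Perm GolayPt} (hp : inR s p) (hq : inR s q) : inR s (p * q) := by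
  obtain ⟨g, rfl⟩ := hp
  obtain ⟨h, rfl⟩ := hq
  exact ⟨g * h, Fm_C_mul hs g h⟩

theorem inR_comm (hs : (s : Matrix (Fin 5) (Fin 5) (ZMod 2)) = Matrix.transvection 0 1 1)
    {p : Equiv.Perm GolayPt} (hp : inR s p) : Commute p (pN zC) := by
  obtain ⟨g, rfl⟩ := hp
  exact Fm_comm (kk_C hs g)

theorem inR_mem (hs : (s : Matrix (Fin 5) (Fin 5) (ZMod 2)) = Matrix.transvection 0 1 1)
    {p : Equiv.Perm GolayPt} (hp : inR s p) : p ∈ M24 := by
  obtain ⟨g, rfl⟩ := hp
  exact Fm_mem (kk_C hs g)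

theorem code_one : code 1 = idN ∧ tb TK (pk9 ((1 : Matrix (Fin 5) (Fin 5) (ZMod 2)) 2 2) ((1 : Matrix (Fin 5) (Fin 5) (ZMod 2)) 2 3) ((1 : Matrix (Fin 5) (Fin 5) (ZMod 2)) 2 4) ((1 : Matrix (Fin 5) (Fin 5) (ZMod 2)) 3 2) ((1 : Matrix (Fin 5) (Fin 5) (ZMod 2)) 3 3) ((1 : Matrix (Fin 5) (Fin 5) (ZMod 2)) 3 4) ((1 : Matrix (Fin 5) (Fin 5) (ZMod 2)) 4 2) ((1 : Matrix (Fin 5) (Fin 5) (ZMod 2)) 4 3) ((1 : Matrix (Fin 5) (Fin 5) (ZMod 2)) 4 4)) ≠ 0 := by
  decide +kernel

theorem inR_one : inR s 1 := by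
  refine ⟨1, ?_⟩
  show Fm 1 = 1
  rw [Fm_eq code_one.2, code_one.1, pN_idN]

/-- A transvection as a matrix. -/
def tM (i j : Fin 5) : Matrix (Fin 5) (Fin 5) (ZMod 2) := Matrix.transvection i j 1

theorem inR_t (hs : (s : Matrix (Fin 5) (Fin 5) (ZMod 2)) = Matrix.transvection 0 1 1) (i j : Fin 5) (hij : i ≠ j)
    (hc : tM i j * tM 0 1 = tM 0 1 * tM i j) (hk : Kk (tM i j)) : inR s (pN (code (tM i j))) := by
  let t : Matrix.SpecialLinearGroup (Fin 5) (ZMod 2) := ⟨tM i j, Matrix.det_transvection_of_ne i j hij 1⟩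
  have hmem : t ∈ Subgroup.centralizer ({s} : Set (Matrix.SpecialLinearGroup (Fin 5) (ZMod 2))) := by
    rw [Subgroup.mem_centralizer_iff]
    intro y hy
    rw [Set.mem_singleton_iff] at hy
    subst hy
    apply Subtype.ext
    show (y : Matrix (Fin 5) (Fin 5) (ZMod 2)) * tM i j = tM i j * (y : Matrix (Fin 5) (Fin 5) (ZMod 2))
    rw [hs]
    exact hc.symm
  exact ⟨⟨t, hmem⟩, Fm_eq hk⟩

theorem cT0 : (0 : Fin 5) ≠ 2 ∧ tM 0 2 * tM 0 1 = tM 0 1 * tM 0 2 ∧ tb TK (pk9 (tM 0 2 2 2) (tM 0 2 2 3) (tM 0 2 2 4) (tM 0 2 3 2) (tM 0 2 3 3) (tM 0 2 3 4) (tM 0 2 4 2) (tM 0 2 4 3) (tM 0 2 4 4)) ≠ 0 ∧ code (tM 0 2) = tg 0 := by decide +kernel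
theorem cT1 : (2 : Fin 5) ≠ 1 ∧ tM 2 1 * tM 0 1 = tM 0 1 * tM 2 1 ∧ tb TK (pk9 (tM 2 1 2 2) (tM 2 1 2 3) (tM 2 1 2 4) (tM 2 1 3 2) (tM 2 1 3 3) (tM 2 1 3 4) (tM 2 1 4 2) (tM 2 1 4 3) (tM 2 1 4 4)) ≠ 0 ∧ code (tM 2 1) = tg 1 := by decide +kernel
theorem cT2 : (2 : Fin 5) ≠ 3 ∧ tM 2 3 * tM 0 1 = tM 0 1 * tM 2 3 ∧ tb TK (pk9 (tM 2 3 2 2) (tM 2 3 2 3) (tM 2 3 2 4) (tM 2 3 3 2) (tM 2 3 3 3) (tM 2 3 3 4) (tM 2 3 4 2) (tM 2 3 4 3) (tM 2 3 4 4)) ≠ 0 ∧ code (tM 2 3) = tg 2 := by decide +kernel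
theorem cT3 : (3 : Fin 5) ≠ 4 ∧ tM 3 4 * tM 0 1 = tM 0 1 * tM 3 4 ∧ tb TK (pk9 (tM 3 4 2 2) (tM 3 4 2 3) (tM 3 4 2 4) (tM 3 4 3 2) (tM 3 4 3 3) (tM 3 4 3 4) (tM 3 4 4 2) (tM 3 4 4 3) (tM 3 4 4 4)) ≠ 0 ∧ code (tM 3 4) = tg 3 := by decide +kernel
theorem cT4 : (4 : Fin 5) ≠ 2 ∧ tM 4 2 * tM 0 1 = tM 0 1 * tM 4 2 ∧ tb TK (pk9 (tM 4 2 2 2) (tM 4 2 2 3) (tM 4 2 2 4) (tM 4 2 3 2) (tM 4 2 3 3) (tM 4 2 3 4) (tM 4 2 4 2) (tM 4 2 4 3) (tM 4 2 4 4)) ≠ 0 ∧ code (tM 4 2) = tg 4 := by decide +kernel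

theorem tg_ok : ∀ k < 5, isAutN (tg k) = true := by decide +kernel

theorem inR_tg (hs : (s : Matrix (Fin 5) (Fin 5) (ZMod 2)) = Matrix.transvection 0 1 1) {k : ℕ} (hk : k < 5) :
    inR s (pN (tg k)) := by
  interval_cases k
  · obtain ⟨a, b, c, d⟩ := cT0
    rw [← d]; exact inR_t hs _ _ a b c
  · obtain ⟨a, b, c, d⟩ := cT1
    rw [← d]; exact inR_t hs _ _ a b c
  · obtain ⟨a, b, c, d⟩ := cT2
    rw [← d]; exact inR_t hs _ _ a b c
  · obtain ⟨a, b, c, d⟩ := cT3
    rw [← d]; exact inR_t hs _ _ a b c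
  · obtain ⟨a, b, c, d⟩ := cT4
    rw [← d]; exact inR_t hs _ _ a b c

/-- The value of a word. -/
def wordN : List ℕ → ℕ
  | [] => idN
  | i :: w => compN (tg i) (wordN w)

theorem word_ok : ∀ w : List ℕ, (∀ i ∈ w, i < 5) → Ok (wordN w)
  | [], _ => ok_idN
  | i :: w, h => (isAutN_ok (tg_ok i (h i (by simp)))).comp (word_ok w fun j hj => h j (by simp [hj]))

theorem inR_word (hs : (s : Matrix (Fin 5) (Fin 5) (ZMod 2)) = Matrix.transvection 0 1 1) :
    ∀ w : List ℕ, (∀ i ∈ w, i < 5) → inR s (pN (wordN w))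
  | [], _ => by
    show inR s (pN idN)
    rw [pN_idN]
    exact inR_one
  | i :: w, h => by
    have h1 : i < 5 := h i (by simp)
    have h2 : ∀ j ∈ w, j < 5 := fun j hj => h j (by simp [hj])
    show inR s (pN (compN (tg i) (wordN w)))
    rw [pN_comp (isAutN_ok (tg_ok i h1)) (word_ok w h2)]
    exact inR_mul hs (inR_tg hs h1) (inR_word hs w h2)

def V3 : List (ℕ × ℕ) := [(0, 23), (1, 0), (2, 1)]

theorem wok : (W1 ++ W2 ++ W3 ++ W4).all (fun w => w.all fun i => Nat.blt i 5) = true := by decide +kernel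

theorem wok' {w : List ℕ} (hw : w ∈ W1 ++ W2 ++ W3 ++ W4) : ∀ i ∈ w, i < 5 := by
  intro i hi
  have h1 := List.all_eq_true.mp wok w hw
  have h2 := List.all_eq_true.mp h1 i hi
  exact Nat.le_of_ble_eq_true h2

theorem chk1 : allBelow (fun y => Nat.beq (imgN zC y) y || W1.any (fun w => Nat.beq (imgN (wordN w) 23) y)) 24 = true := by
  decide +kernel
theorem chk2 : allBelow (fun y => !(Nat.beq (imgN zC y) y) || W2.any (fun w => Nat.beq (imgN (wordN w) 0) y && Nat.beq (imgN (wordN w) 23) 23)) 24 = true := by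
  decide +kernel
theorem chk3 : allBelow (fun y => !(Nat.beq (imgN zC y) y) || Nat.beq y 0 ||
    W3.any (fun w => Nat.beq (imgN (wordN w) 1) y && (Nat.beq (imgN (wordN w) 23) 23 && Nat.beq (imgN (wordN w) 0) 0))) 24 = true := by
  decide +kernel
theorem chk4 : (enumL (keepV V3)).all (fun e => !(commN e zC zC) || W4.any (fun w => Nat.beq (wordN w) e)) = true := by
  decide +kernel

theorem fix_iff' {c : Equiv.Perm GolayPt} (hcz : Commute c (pN zC)) {i : ℕ} (hi : i < 24) :
    imgN zC (ptIdx (c (idxPt i))) = ptIdx (c (idxPt i)) ↔ imgN zC i = i := by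
  have hq : ptIdx (idxPt i) = i := ptIdx_idxPt hi
  have h1 : imgN zC (ptIdx (c (idxPt i))) = ptIdx (pN zC (c (idxPt i))) := (ptIdx_pN zOk _).symm
  have h2 : imgN zC i = ptIdx (pN zC (idxPt i)) := by rw [ptIdx_pN zOk, hq]
  have h3 : pN zC (c (idxPt i)) = c (pN zC (idxPt i)) := by
    have := congrArg (fun f : Equiv.Perm GolayPt => f (idxPt i)) hcz.eq
    simpa [Equiv.Perm.mul_apply] using this.symm
  rw [h1, h2, h3]
  constructor
  · intro h
    have h4 := ptIdx_injective h
    rw [c.injective h4, hq]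
  · intro h
    have h4 : pN zC (idxPt i) = idxPt i := by
      apply ptIdx_injective
      rw [h, hq]
    rw [h4]

theorem next_fix {c h : Equiv.Perm GolayPt} {p : GolayPt} (e : h p = c p) : (h⁻¹ * c) p = p := by
  rw [Equiv.Perm.mul_apply, Equiv.Perm.inv_eq_iff_eq, e]

theorem next_keep {c h : Equiv.Perm GolayPt} {p : GolayPt} (h1 : c p = p) (h2 : h p = p) : (h⁻¹ * c) p = p := by
  rw [Equiv.Perm.mul_apply, h1, Equiv.Perm.inv_eq_iff_eq, h2]

theorem idx_ptIdx_of {c : Equiv.Perm GolayPt} {w : List ℕ} (hw : ∀ i ∈ w, i < 5) {i : ℕ} (hi : i < 24)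
    (h : imgN (wordN w) i = ptIdx (c (idxPt i))) : pN (wordN w) (idxPt i) = c (idxPt i) := by
  rw [pN_idxPt (word_ok w hw) hi, h, idxPt_ptIdx]

theorem fix_of_img {w : List ℕ} (hw : ∀ i ∈ w, i < 5) {i : ℕ} (hi : i < 24) (h : imgN (wordN w) i = i) :
    pN (wordN w) (idxPt i) = idxPt i := by
  rw [pN_idxPt (word_ok w hw) hi, h]

theorem lvl4 (hs : (s : Matrix (Fin 5) (Fin 5) (ZMod 2)) = Matrix.transvection 0 1 1) {c : Equiv.Perm GolayPt}
    (hc : c ∈ M24) (hcz : Commute c (pN zC)) (h23 : c (idxPt 23) = idxPt 23) (h0 : c (idxPt 0) = idxPt 0)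
    (h1 : c (idxPt 1) = idxPt 1) : inR s c := by
  have b0 : bs 0 = 23 := by decide +kernel
  have b1 : bs 1 = 0 := by decide +kernel
  have b2 : bs 2 = 1 := by decide +kernel
  obtain ⟨e, he, rfl⟩ := exists_in_enum (V := V3) hc (by
    intro jv hjv
    simp only [V3, List.mem_cons, List.not_mem_nil, or_false] at hjv
    rcases hjv with rfl | rfl | rfl
    · refine ⟨by norm_num, by norm_num, ?_⟩
      show c (idxPt (bs 0)) = idxPt 23
      rw [b0]; exact h23
    · refine ⟨by norm_num, by norm_num, ?_⟩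
      show c (idxPt (bs 1)) = idxPt 0
      rw [b1]; exact h0
    · refine ⟨by norm_num, by norm_num, ?_⟩
      show c (idxPt (bs 2)) = idxPt 1
      rw [b2]; exact h1)
  obtain ⟨hok, -⟩ := enum_sound he
  have h2 := List.all_eq_true.mp chk4 e he
  have h3 : commN e zC zC = true := commN_of_comm hok zOk zOk hcz.eq
  rw [h3] at h2
  simp only [Bool.not_true, Bool.false_or] at h2
  obtain ⟨w, hw, hwe⟩ := List.any_eq_true.mp h2
  rw [← Nat.eq_of_beq_eq_true hwe]
  exact inR_word hs w (wok' (by simp [hw]))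

theorem lvl3 (hs : (s : Matrix (Fin 5) (Fin 5) (ZMod 2)) = Matrix.transvection 0 1 1) {c : Equiv.Perm GolayPt}
    (hc : c ∈ M24) (hcz : Commute c (pN zC)) (h23 : c (idxPt 23) = idxPt 23) (h0 : c (idxPt 0) = idxPt 0) : inR s c := by
  have h1a := allBelow_spec chk3 _ (ptIdx_lt (c (idxPt 1)))
  simp only [Bool.or_eq_true, Bool.not_eq_true'] at h1a
  rcases h1a with (h1a | h1a) | h1a
  · exfalso
    have h2 := (fix_iff' hcz (by norm_num : 1 < 24)).mpr z1
    rw [h2] at h1a
    simp at h1a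
  · exfalso
    have h2 : ptIdx (c (idxPt 1)) = ptIdx (c (idxPt 0)) := by
      rw [h0, ptIdx_idxPt (by norm_num : 0 < 24)]
      exact Nat.eq_of_beq_eq_true h1a
    have h3 := c.injective (ptIdx_injective h2)
    have h4 := congrArg ptIdx h3
    rw [ptIdx_idxPt (by norm_num : 1 < 24), ptIdx_idxPt (by norm_num : 0 < 24)] at h4
    omega
  obtain ⟨w, hw, hwe⟩ := List.any_eq_true.mp h1a
  simp only [Bool.and_eq_true] at hwe
  obtain ⟨e1, e2, e3⟩ := hwe
  have hwo : ∀ i ∈ w, i < 5 := wok' (by simp [hw])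
  have he1 := idx_ptIdx_of hwo (by norm_num : 1 < 24) (Nat.eq_of_beq_eq_true e1)
  have he2 := fix_of_img hwo (by norm_num : 23 < 24) (Nat.eq_of_beq_eq_true e2)
  have he3 := fix_of_img hwo (by norm_num : 0 < 24) (Nat.eq_of_beq_eq_true e3)
  have hR := inR_word hs w hwo
  have h5 := lvl4 hs (mul_mem (inv_mem (inR_mem hs hR)) hc) (((inR_comm hs hR).inv_left).mul_left hcz)
    (next_keep h23 he2) (next_keep h0 he3) (next_fix he1)
  have h6 := inR_mul hs hR h5
  rwa [mul_inv_cancel_left] at h6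

theorem lvl2 (hs : (s : Matrix (Fin 5) (Fin 5) (ZMod 2)) = Matrix.transvection 0 1 1) {c : Equiv.Perm GolayPt}
    (hc : c ∈ M24) (hcz : Commute c (pN zC)) (h23 : c (idxPt 23) = idxPt 23) : inR s c := by
  have h1a := allBelow_spec chk2 _ (ptIdx_lt (c (idxPt 0)))
  simp only [Bool.or_eq_true, Bool.not_eq_true'] at h1a
  rcases h1a with h1a | h1a
  · exfalso
    have h2 := (fix_iff' hcz (by norm_num : 0 < 24)).mpr z0
    rw [h2] at h1a
    simp at h1a
  obtain ⟨w, hw, hwe⟩ := List.any_eq_true.mp h1a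
  simp only [Bool.and_eq_true] at hwe
  obtain ⟨e1, e2⟩ := hwe
  have hwo : ∀ i ∈ w, i < 5 := wok' (by simp [hw])
  have he1 := idx_ptIdx_of hwo (by norm_num : 0 < 24) (Nat.eq_of_beq_eq_true e1)
  have he2 := fix_of_img hwo (by norm_num : 23 < 24) (Nat.eq_of_beq_eq_true e2)
  have hR := inR_word hs w hwo
  have h5 := lvl3 hs (mul_mem (inv_mem (inR_mem hs hR)) hc) (((inR_comm hs hR).inv_left).mul_left hcz)
    (next_keep h23 he2) (next_fix he1)
  have h6 := inR_mul hs hR h5
  rwa [mul_inv_cancel_left] at h6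

theorem lvl1 (hs : (s : Matrix (Fin 5) (Fin 5) (ZMod 2)) = Matrix.transvection 0 1 1) {c : Equiv.Perm GolayPt}
    (hc : c ∈ M24) (hcz : Commute c (pN zC)) : inR s c := by
  have h1a := allBelow_spec chk1 _ (ptIdx_lt (c (idxPt 23)))
  simp only [Bool.or_eq_true] at h1a
  rcases h1a with h1a | h1a
  · exfalso
    have := (fix_iff' hcz (by norm_num : 23 < 24)).mp (Nat.eq_of_beq_eq_true h1a)
    rw [z23] at this
    omega
  obtain ⟨w, hw, hwe⟩ := List.any_eq_true.mp h1a
  have hwo : ∀ i ∈ w, i < 5 := wok' (by simp [hw])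
  have he1 := idx_ptIdx_of hwo (by norm_num : 23 < 24) (Nat.eq_of_beq_eq_true hwe)
  have hR := inR_word hs w hwo
  have h5 := lvl2 hs (mul_mem (inv_mem (inR_mem hs hR)) hc) (((inR_comm hs hR).inv_left).mul_left hcz)
    (next_fix he1)
  have h6 := inR_mul hs hR h5
  rwa [mul_inv_cancel_left] at h6

/-- The involution. -/
noncomputable def zM : ↥M24 := ⟨pN zC, isAutN_mem zOkB⟩

theorem order_zM : orderOf zM = 2 := by
  apply orderOf_eq_prime
  · apply Subtype.ext
    show pN zC ^ 2 = 1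
    rw [pow_two, ← pN_comp zOk zOk, zz, pN_idN]
  · intro h
    have h1 : pN zC = 1 := congrArg Subtype.val h
    have h2 := pN_idxPt zOk (by norm_num : 23 < 24)
    rw [h1, z23] at h2
    have h3 := congrArg ptIdx h2
    simp only [Equiv.Perm.one_apply] at h3
    rw [ptIdx_idxPt (by norm_num : 23 < 24), ptIdx_idxPt (by norm_num : 11 < 24)] at h3
    omega

theorem main (s : Matrix.SpecialLinearGroup (Fin 5) (ZMod 2))
    (hs : (s : Matrix (Fin 5) (Fin 5) (ZMod 2)) = Matrix.transvection 0 1 1) :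
    ∃ z : ↥M24, orderOf z = 2 ∧ Nonempty (↥(Subgroup.centralizer ({z} : Set ↥M24)) ≃*
      ↥(Subgroup.centralizer ({s} : Set (Matrix.SpecialLinearGroup (Fin 5) (ZMod 2))))) := by
  refine ⟨zM, order_zM, ?_⟩
  have memC : ∀ g : ↥(Subgroup.centralizer ({s} : Set (Matrix.SpecialLinearGroup (Fin 5) (ZMod 2)))),
      (⟨Fm g.1.1, Fm_mem (kk_C hs g)⟩ : ↥M24) ∈ Subgroup.centralizer ({zM} : Set ↥M24) := by
    intro g
    rw [Subgroup.mem_centralizer_iff]
    intro y hy
    rw [Set.mem_singleton_iff] at hy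
    subst hy
    apply Subtype.ext
    exact (Fm_comm (kk_C hs g)).eq.symm
  let φ : ↥(Subgroup.centralizer ({s} : Set (Matrix.SpecialLinearGroup (Fin 5) (ZMod 2)))) →*
      ↥(Subgroup.centralizer ({zM} : Set ↥M24)) :=
    MonoidHom.mk' (fun g => ⟨⟨Fm g.1.1, Fm_mem (kk_C hs g)⟩, memC g⟩)
      (fun g h => Subtype.ext (Subtype.ext (Fm_C_mul hs g h)))
  have hinj : Function.Injective φ := by
    rw [injective_iff_map_eq_one]
    intro g hg
    have h1 : Fm g.1.1 = 1 := congrArg (fun x : ↥(Subgroup.centralizer ({zM} : Set ↥M24)) => (x.1.1 : Equiv.Perm GolayPt)) hg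
    have h2 := eq_one_of_Fm (str_C hs g) (kk_C hs g) h1
    exact Subtype.ext (Subtype.ext h2)
  have hsurj : Function.Surjective φ := by
    intro c
    have h1 := Subgroup.mem_centralizer_iff.mp c.2 zM (Set.mem_singleton zM)
    have h2 : Commute (c.1.1 : Equiv.Perm GolayPt) (pN zC) := (congrArg Subtype.val h1).symm
    obtain ⟨g, hg⟩ := lvl1 hs c.1.2 h2
    exact ⟨g, Subtype.ext (Subtype.ext hg)⟩
  exact ⟨(MulEquiv.ofBijective φ ⟨hinj, hsurj⟩).symm⟩

end Main

end Cfsg.Agent.Lib.GolayInvC
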