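import Cfsg.Agent.Lib.GolayFusionCert
import Cfsg.Agent.Lib.GolaySimple
import Cfsg.Prelude.Def_Spor_Mathieu

/-!
The small Mathieu groups as the subgroups of `Cfsg.M24` used in the Golay library; their orders;
elements fixing many points.
-/

set_option autoImplicit false
set_option linter.style.haveILetI false
set_option linter.constructorNameAsVariable false

open scoped Pointwise

namespace Cfsg.Agent.Lib.GolayMathieuFus

open Cfsg Cfsg.Agent.Lib.GolayCode Cfsg.Agent.Lib.GolayFacts Cfsg.Agent.Lib.GolayPerm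
  Cfsg.Agent.Lib.GolayChain Cfsg.Agent.Lib.GolayOrbit Cfsg.Agent.Lib.GolayM12
  Cfsg.Agent.Lib.GolaySimple Cfsg.Agent.Lib.GolayFusionCert Cfsg.Agent.Lib.GolayFusionChain
  Cfsg.Agent.Lib.GolayDecomp

theorem qrMask_zero : qrMask (0 : ZMod 23).val = dod0 := by decide +kernel

theorem squareDodecad_eq : Spor.squareDodecad = supFin dod0 := by
  unfold Spor.squareDodecad
  rw [← dec_qrMask, support_dec, qrMask_zero]

theorem M12_eq : Spor.M12 = stabS (supFin dod0) := by
  unfold Spor.M12
  rw [squareDodecad_eq]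

theorem idxPt_zero : idxPt 0 = (some 0 : GolayPt) := by decide

theorem M11_eq : Spor.M11 = stabSP (supFin dod0) (idxPt 0) := by
  unfold Spor.M11
  rw [M12_eq, idxPt_zero]

theorem idxPt_23 : idxPt (bs 0) = (none : GolayPt) := by decide

theorem idxPt_bs1 : idxPt (bs 1) = (some 0 : GolayPt) := by decide

theorem M23_eq : Spor.M23 = G 1 := by
  show _ = G 0 ⊓ MulAction.stabilizer (Equiv.Perm GolayPt) (idxPt (bs 0))
  rw [idxPt_23]
  rfl

theorem M22_eq : Spor.M22 = G 2 := by
  show _ = G 1 ⊓ MulAction.stabilizer (Equiv.Perm GolayPt) (idxPt (bs 1))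
  rw [idxPt_bs1, ← M23_eq]
  rfl

theorem card_M12 : Nat.card Spor.M12 = 95040 := by
  rw [M12_eq, ← Nat.card_congr (stabEquiv (supFin dod0)).toEquiv]
  exact card_stabilizer_dodecad dod0_mem_dodecads

theorem card_M11 : Nat.card Spor.M11 = 7920 := by
  rw [M11_eq]
  exact card_stabSP

theorem card_M23 : Nat.card Spor.M23 = 10200960 := by
  rw [M23_eq]
  exact card_G1

theorem card_M22 : Nat.card Spor.M22 = 443520 := by
  rw [M22_eq]
  exact card_G2

theorem M23_le : Spor.M23 ≤ M24 := inf_le_left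

theorem M22_le : Spor.M22 ≤ M24 := fun _ h => h.1.1

theorem M12_le : Spor.M12 ≤ M24 := inf_le_left

theorem M11_le : Spor.M11 ≤ M24 := fun _ h => h.1.1

theorem mem_allMask (p : GolayPt) : p ∈ supFin allMask := by
  revert p
  decide +kernel

/-- Fixing all points. -/
theorem eq_one_of_fix_all {g : Equiv.Perm GolayPt} (h : ∀ p ∈ supFin allMask, g p = p) : g = 1 :=
  Equiv.ext fun p => h p (mem_allMask p)

/-- An element of `M24` fixing the image of the base under an automorphism is trivial. -/
theorem eq_one_of_witness {F : ℕ} {a : List ℕ} (ha : isAut a = true)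
    (hw : allBelow (fun j => F.testBit (img a (bs j))) 7 = true) {g : Equiv.Perm GolayPt} (hg : g ∈ M24)
    (h : ∀ p ∈ supFin F, g p = p) : g = 1 := by
  have hA := toPerm_mem_M24 ha
  have hga := good_of_isAut ha
  have h1 : (toPerm a)⁻¹ * g * toPerm a ∈ G 7 := by
    rw [mem_G]
    refine ⟨mul_mem (mul_mem (inv_mem hA) hg) hA, fun j hj => ?_⟩
    have hb := bs_lt j hj
    have h2 : toPerm a (idxPt (bs j)) = idxPt (img a (bs j)) := toPerm_idxPt (isAut_valid ha) hb
    have h3 : idxPt (img a (bs j)) ∈ supFin F :=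
      (mem_supFin_idxPt (hga.rng _ hb)).mpr (allBelow_spec hw j hj)
    simp only [Equiv.Perm.mul_apply]
    rw [h2, h _ h3, ← h2]
    simp
  have h2 := eq_one_of_fix_base h1
  have h3 : g = toPerm a * ((toPerm a)⁻¹ * g * toPerm a) * (toPerm a)⁻¹ := by group
  rw [h3, h2]
  simp

/-- The generators of a chain lie in `G`. -/
theorem chainP_le {G : Subgroup (Equiv.Perm GolayPt)} {P : List ℕ → Bool}
    (hP : ∀ t, isAut t = true → P t = true → toPerm t ∈ G) {l : List PGen} (hpc : pcCheck l = true)
    (hall : l.all (fun g => P g.x) = true) : chainP l ≤ G := by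
  apply chainG_le
  intro x hx
  obtain ⟨g, hg, rfl⟩ := List.mem_map.mp hx
  exact hP _ (genOK_of_check hpc g hg).ax (List.all_eq_true.mp hall g hg)

end Cfsg.Agent.Lib.GolayMathieuFus
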