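import Cfsg.Agent.Lib.GolayInvolData
import Cfsg.Agent.Lib.GolayMathieuFus
import Cfsg.Agent.Lib.GolayFix
import Cfsg.Agent.Lib.SylowIn

/-!
The involutions of `Cfsg.M24`: every involution is conjugate to one of two given involutions.
-/

set_option autoImplicit false
set_option linter.style.haveILetI false
set_option linter.constructorNameAsVariable false

open scoped Pointwise

namespace Cfsg.Agent.Lib.GolayInvol

open Cfsg Cfsg.Agent.Lib.GolayCode Cfsg.Agent.Lib.GolayFacts Cfsg.Agent.Lib.GolayPerm
  Cfsg.Agent.Lib.GolayChain Cfsg.Agent.Lib.GolayDecomp Cfsg.Agent.Lib.GolayFusionChain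
  Cfsg.Agent.Lib.GolayFusionCert Cfsg.Agent.Lib.GolayFusM24 Cfsg.Agent.Lib.GolayInvolData
  Cfsg.Agent.Lib.GolayFix Cfsg.Agent.Lib.GolayMathieuFus

/-- The lists of involutions. -/
def isInvL (π : List ℕ) : Bool := !(π == idL) && (compL π π == idL)

/-- The involutions of the chain. -/
def invols : List (List ℕ) := (nfList sch).filter isInvL

/-- The representative of an involution. -/
def repOf (π : List ℕ) : List ℕ := if fixCount π == 0 then rep0 else rep8

/-- The certificate check. -/
def certChk : List (List ℕ) → List (List ℕ) → Bool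
  | [], [] => true
  | π :: l, c :: r =>
    isAut c && (compL c π == compL (repOf π) c) && (fixCount π == 0 || fixCount π == 8) && certChk l r
  | _, _ => false

theorem certChk_ok : certChk invols cs = true := by
  decide +kernel

theorem exists_of_certChk {l r : List (List ℕ)} (h : certChk l r = true) {π : List ℕ} (hπ : π ∈ l) :
    ∃ c, isAut c = true ∧ compL c π = compL (repOf π) c ∧ (fixCount π = 0 ∨ fixCount π = 8) := by
  induction l generalizing r with
  | nil => simp at hπ
  | cons a l ih =>
    cases r with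
    | nil => simp [certChk] at h
    | cons c r =>
      simp only [certChk, Bool.and_eq_true, beq_iff_eq, Bool.or_eq_true] at h
      rcases List.mem_cons.mp hπ with rfl | h1
      · exact ⟨c, h.1.1.1, h.1.1.2, h.1.2⟩
      · exact ih h.2 h1

theorem rep0_isAut : isAut rep0 = true := by decide +kernel
theorem rep8_isAut : isAut rep8 = true := by decide +kernel

theorem pc_sch : pcCheck sch = true := by decide +kernel

theorem sch_len : sch.length = 10 := by decide +kernel

theorem chain_le : chainP sch ≤ M24 := by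
  apply chainG_le
  intro x hx
  obtain ⟨g, hg, rfl⟩ := List.mem_map.mp hx
  exact toPerm_mem_M24 (genOK_of_check pc_sch g hg).ax

theorem card_chain : Nat.card (chainP sch) = 2 ^ 10 := by
  rw [card_chainP pc_sch, sch_len]

/-- Every element of `2`-power order of `M24` has a conjugate in the chain. -/
theorem exists_conj_chain {g : Equiv.Perm GolayPt} (hg : g ∈ M24) (n : ℕ) (h2 : g ^ (2 ^ n) = 1) :
    ∃ k ∈ M24, k * g * k⁻¹ ∈ chainP sch := by
  haveI : Fact (Nat.Prime 2) := ⟨Nat.prime_two⟩
  have hcard : Nat.card (chainP sch) = 2 ^ 10 := card_chain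
  have hp : IsPGroup 2 (chainP sch) := IsPGroup.of_card hcard
  have hsyl : Cfsg.Agent.Lib.SylowIn.IsSylowIn 2 (chainP sch) M24 := by
    refine Cfsg.Agent.Lib.SylowIn.isSylowIn_of_card chain_le hp fun T hT hTp => ?_
    obtain ⟨a, ha⟩ := IsPGroup.iff_card.mp hTp
    have h3 : Nat.card T ∣ Nat.card M24 := Subgroup.card_dvd_of_le hT
    rw [ha, card_M24] at h3
    have h5 : (244823040 : ℕ) = 2 ^ 10 * 239085 := by norm_num
    rw [h5] at h3
    have hcop : Nat.Coprime (2 ^ a) 239085 := Nat.Coprime.pow_left a (by norm_num)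
    have h4 : 2 ^ a ∣ 2 ^ 10 := hcop.dvd_of_dvd_mul_right h3
    rw [ha, hcard]
    exact Nat.le_of_dvd (by positivity) h4
  obtain ⟨R, hR⟩ := hsyl
  have hmemR : ∀ x : M24, x ∈ (R : Subgroup M24) ↔ (x : Equiv.Perm GolayPt) ∈ chainP sch := by
    intro x
    rw [hR]
    rfl
  let g' : M24 := ⟨g, hg⟩
  have hT : IsPGroup 2 (Subgroup.zpowers g') := by
    rw [IsPGroup.iff_orderOf]
    rintro ⟨x, hx⟩
    obtain ⟨i, rfl⟩ := Subgroup.mem_zpowers_iff.mp hx
    have : (g' ^ i) ^ (2 ^ n) = 1 := by
      rw [← zpow_natCast, ← zpow_mul, mul_comm, zpow_mul, zpow_natCast]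
      have h1 : g' ^ (2 ^ n) = 1 := Subtype.ext (by simpa using h2)
      rw [h1, one_zpow]
    obtain ⟨j, _, hj⟩ := (Nat.dvd_prime_pow Nat.prime_two).mp (orderOf_dvd_of_pow_eq_one this)
    refine ⟨j, ?_⟩
    rw [← hj]
    exact Subgroup.orderOf_mk _ _
  obtain ⟨k, hk⟩ := Cfsg.Agent.Lib.SylowIn.exists_conj_mem_sylow R hT
  have h3 := hk g' (Subgroup.mem_zpowers g')
  exact ⟨k, k.2, (hmemR _).mp h3⟩

/-- Classification of the involutions of `M24`. -/
theorem invol_classify {g : Equiv.Perm GolayPt} (hg : g ∈ M24) (h2 : orderOf g = 2) :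
    ((fixF g).card = 0 ∧ ∃ k ∈ M24, k * g * k⁻¹ = toPerm rep0) ∨
      ((fixF g).card = 8 ∧ ∃ k ∈ M24, k * g * k⁻¹ = toPerm rep8) := by
  have h21 : g ^ (2 ^ 1) = 1 := by
    rw [pow_one, ← h2]
    exact pow_orderOf_eq_one g
  have hne : g ≠ 1 := by
    rintro rfl
    simp at h2
  obtain ⟨k, hk, hmem⟩ := exists_conj_chain hg 1 h21
  obtain ⟨π, hπ, hgood, he⟩ := mem_nfList pc_sch hmem
  have hconj : (k * g * k⁻¹) * (k * g * k⁻¹) = 1 := by
    have h22 : g * g = 1 := by
      rw [← pow_two]
      simpa using h21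
    have : (k * g * k⁻¹) * (k * g * k⁻¹) = k * (g * g) * k⁻¹ := by group
    rw [this, h22]
    group
  have hne' : k * g * k⁻¹ ≠ 1 := by
    intro he'
    apply hne
    have : g = k⁻¹ * (k * g * k⁻¹) * k := by group
    rw [this, he']
    group
  have h3 : isInvL π = true := by
    simp only [isInvL, Bool.and_eq_true, beq_iff_eq, Bool.not_eq_eq_eq_not, Bool.not_true,
      beq_eq_false_iff_ne, ne_eq]
    constructor
    · rintro rfl
      apply hne'
      rw [he, toPerm_idL]
    · have h4 : compL π π = compL idL idL := by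
        apply compL_eq_of_toPerm hgood hgood good_idL good_idL
        rw [toPerm_compL hgood hgood, toPerm_compL good_idL good_idL, ← he, hconj, toPerm_idL]
        simp
      rw [h4]
      decide +kernel
  have hπ' : π ∈ invols := List.mem_filter.mpr ⟨hπ, h3⟩
  obtain ⟨c, hc, hcomp, hfix⟩ := exists_of_certChk certChk_ok hπ'
  have hcg := good_of_isAut hc
  have hcm := toPerm_mem_M24 hc
  have hcard : (fixF g).card = fixCount π := by
    rw [← card_fixF_toPerm hgood, ← he, card_fixF_conj]
  have hrep : ∀ r : List ℕ, Good r → compL c π = compL r c →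
      (toPerm c * k) * g * (toPerm c * k)⁻¹ = toPerm r := by
    intro r hr h5
    have h6 : toPerm c * toPerm π = toPerm r * toPerm c := by
      rw [← toPerm_compL hcg hgood, ← toPerm_compL hr hcg, h5]
    have : (toPerm c * k) * g * (toPerm c * k)⁻¹ = toPerm c * (k * g * k⁻¹) * (toPerm c)⁻¹ := by
      group
    rw [this, he, h6]
    group
  rcases hfix with h0 | h8
  · left
    refine ⟨hcard.trans h0, toPerm c * k, mul_mem hcm hk, hrep _ (good_of_isAut rep0_isAut) ?_⟩
    rw [hcomp]
    simp [repOf, h0]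
  · right
    refine ⟨hcard.trans h8, toPerm c * k, mul_mem hcm hk, hrep _ (good_of_isAut rep8_isAut) ?_⟩
    rw [hcomp]
    simp [repOf, h8]

/-- The mask of fixed points of `rep8`. -/
def rep8Mask : ℕ := Nat.ofBits (n := 24) fun i => decide (img rep8 i = i)

theorem fixF_rep8 : fixF (toPerm rep8) = supFin rep8Mask := by
  have hg := good_of_isAut rep8_isAut
  ext p
  rw [mem_fixF, mem_supFin]
  have h1 := ptIdx_lt p
  have h2 : toPerm rep8 p = p ↔ img rep8 (ptIdx p) = ptIdx p := by
    constructor
    · intro h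
      rw [← ptIdx_toPerm_good hg, h]
    · intro h
      apply ptIdx_injective
      rw [ptIdx_toPerm_good hg, h]
  rw [h2]
  unfold rep8Mask
  rw [Nat.testBit_ofBits_lt _ _ h1]
  simp

theorem t8Mask_octad : isOctad rep8Mask = true := by decide +kernel

/-- The fixed points of an involution with a fixed point form an octad. -/
theorem fixF_mem_octads {g : Equiv.Perm GolayPt} (hg : g ∈ M24) (h2 : orderOf g = 2)
    (h8 : (fixF g).card = 8) : fixF g ∈ octads := by
  rcases invol_classify hg h2 with ⟨h0, -⟩ | ⟨-, k, hk, he⟩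
  · omega
  · have h3 : k • fixF g = supFin rep8Mask := by
      rw [← fixF_conj, he, fixF_rep8]
    have h4 : fixF g = k⁻¹ • supFin rep8Mask := by
      rw [← h3, inv_smul_smul]
    rw [h4]
    exact smul_mem_octads (inv_mem hk) (supFin_mem_octads t8Mask_octad)

theorem orderOf_rep0 : orderOf (toPerm rep0) = 2 := by
  have hg := good_of_isAut rep0_isAut
  apply orderOf_eq_prime
  · rw [pow_two, ← toPerm_compL hg hg]
    rw [show compL rep0 rep0 = idL by decide +kernel, toPerm_idL]
  · intro h
    have h1 := card_fixF_toPerm hg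
    rw [h] at h1
    have h2 : (fixF (1 : Equiv.Perm GolayPt)).card = 24 := by decide +kernel
    rw [h2, show fixCount rep0 = 0 by decide +kernel] at h1
    omega

theorem orderOf_rep8 : orderOf (toPerm rep8) = 2 := by
  have hg := good_of_isAut rep8_isAut
  apply orderOf_eq_prime
  · rw [pow_two, ← toPerm_compL hg hg]
    rw [show compL rep8 rep8 = idL by decide +kernel, toPerm_idL]
  · intro h
    have h1 := card_fixF_toPerm hg
    rw [h] at h1
    have h2 : (fixF (1 : Equiv.Perm GolayPt)).card = 24 := by decide +kernel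
    rw [h2, show fixCount rep8 = 8 by decide +kernel] at h1
    omega

theorem card_fix_rep0 : (fixF (toPerm rep0)).card = 0 := by
  rw [card_fixF_toPerm (good_of_isAut rep0_isAut)]
  decide +kernel

theorem card_fix_rep8 : (fixF (toPerm rep8)).card = 8 := by
  rw [card_fixF_toPerm (good_of_isAut rep8_isAut)]
  decide +kernel

end Cfsg.Agent.Lib.GolayInvol
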