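import Cfsg.Agent.Lib.GolayFix
import Cfsg.Agent.Lib.SylowIn

/-!
Elements of order three of `Cfsg.M24`: a Sylow `3`-subgroup given as an explicit list, and the number of
fixed points of elements of order three.
-/

set_option autoImplicit false
set_option linter.style.haveILetI false
set_option linter.constructorNameAsVariable false

open scoped Pointwise

namespace Cfsg.Agent.Lib.GolayOrder3

open Cfsg Cfsg.Agent.Lib.GolayCode Cfsg.Agent.Lib.GolayFacts Cfsg.Agent.Lib.GolayPerm
  Cfsg.Agent.Lib.GolayChain Cfsg.Agent.Lib.GolayDecomp Cfsg.Agent.Lib.GolayTrans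
  Cfsg.Agent.Lib.GolayFix

/-! ### Subgroups given by a list of their elements -/

/-- The check of a closed list. -/
def closedChk (L : List (List ℕ)) : Bool :=
  L.all isAut && L.contains idL && L.all (fun a => L.all fun b => L.contains (compL a b)) &&
    L.all (fun a => L.any fun b => compL a b == idL)

/-- The subgroup of a closed list. -/
def listG (L : List (List ℕ)) (h : closedChk L = true) : Subgroup (Equiv.Perm GolayPt) := by
  have h1 : L.all isAut = true := by
    simp only [closedChk, Bool.and_eq_true] at h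
    exact h.1.1.1
  have h2 : idL ∈ L := by
    simp only [closedChk, Bool.and_eq_true, List.contains_iff_mem] at h
    exact h.1.1.2
  have h3 : ∀ a ∈ L, ∀ b ∈ L, compL a b ∈ L := by
    simp only [closedChk, Bool.and_eq_true, List.all_eq_true, List.contains_iff_mem] at h
    exact h.1.2
  have h4 : ∀ a ∈ L, ∃ b ∈ L, compL a b = idL := by
    simp only [closedChk, Bool.and_eq_true, List.all_eq_true, List.any_eq_true, beq_iff_eq] at h
    exact h.2
  have hg : ∀ a ∈ L, Good a := fun a ha => good_of_isAut (List.all_eq_true.mp h1 a ha)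
  exact
    { carrier := {g | ∃ π ∈ L, toPerm π = g}
      one_mem' := ⟨idL, h2, toPerm_idL⟩
      mul_mem' := by
        rintro _ _ ⟨a, ha, rfl⟩ ⟨b, hb, rfl⟩
        exact ⟨compL a b, h3 a ha b hb, toPerm_compL (hg a ha) (hg b hb)⟩
      inv_mem' := by
        rintro _ ⟨a, ha, rfl⟩
        obtain ⟨b, hb, he⟩ := h4 a ha
        refine ⟨b, hb, ?_⟩
        apply eq_inv_of_mul_eq_one_right
        rw [← toPerm_compL (hg a ha) (hg b hb), he, toPerm_idL] }

theorem mem_listG {L : List (List ℕ)} {h : closedChk L = true} {g : Equiv.Perm GolayPt} :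
    g ∈ listG L h ↔ ∃ π ∈ L, toPerm π = g := Iff.rfl

theorem isAut_of_mem_closed {L : List (List ℕ)} (h : closedChk L = true) {a : List ℕ} (ha : a ∈ L) :
    isAut a = true := by
  simp only [closedChk, Bool.and_eq_true] at h
  exact List.all_eq_true.mp h.1.1.1 a ha

theorem eq_of_toPerm_eq {a b : List ℕ} (ha : isAut a = true) (hb : isAut b = true)
    (h : toPerm a = toPerm b) : a = b := by
  have hla := length_of_valid (isAut_valid ha)
  have hlb := length_of_valid (isAut_valid hb)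
  have key : ∀ i < 24, img a i = img b i := by
    intro i hi
    have h1 : toPerm a (idxPt i) = toPerm b (idxPt i) := by rw [h]
    have h2 := congrArg ptIdx h1
    rw [ptIdx_toPerm_good (good_of_isAut ha), ptIdx_toPerm_good (good_of_isAut hb), ptIdx_idxPt hi] at h2
    exact h2
  apply List.ext_getElem (by rw [hla, hlb])
  intro i h1 h2
  have hi : i < 24 := by omega
  have h3 := key i hi
  simpa [img, List.getD_eq_getElem?_getD, h1, h2] using h3

theorem card_listG {L : List (List ℕ)} (h : closedChk L = true) (hn : L.Nodup) :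
    Nat.card (listG L h) = L.length := by
  classical
  have hset : ((listG L h : Subgroup (Equiv.Perm GolayPt)) : Set (Equiv.Perm GolayPt)) =
      ((L.map toPerm).toFinset : Set (Equiv.Perm GolayPt)) := by
    ext g
    simp only [SetLike.mem_coe, mem_listG, List.coe_toFinset, List.mem_map, Set.mem_setOf_eq]
  have hnd : (L.map toPerm).Nodup := by
    refine List.Nodup.map_on ?_ hn
    intro a ha b hb he
    exact eq_of_toPerm_eq (isAut_of_mem_closed h ha) (isAut_of_mem_closed h hb) he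
  have h1 : Nat.card (listG L h) = Nat.card ((listG L h : Subgroup (Equiv.Perm GolayPt)) : Set (Equiv.Perm GolayPt)) := rfl
  rw [h1, hset, Nat.card_eq_card_toFinset]
  simp only [Finset.toFinset_coe]
  rw [List.toFinset_card_of_nodup hnd, List.length_map]

/-! ### A Sylow `3`-subgroup -/

/-- The elements of a Sylow `3`-subgroup of `M24`. -/
def syl3 : List (List ℕ) :=
  [[0,1,2,3,4,5,6,7,8,9,10,11,12,13,14,15,16,17,18,19,20,21,22,23],
   [0,1,16,21,15,5,19,7,8,22,13,11,10,12,3,23,20,6,9,17,2,14,18,4],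
   [0,1,20,14,23,5,17,7,8,18,12,11,13,10,21,4,2,19,22,6,16,3,9,15],
   [5,1,9,16,4,8,19,7,0,14,12,11,13,10,2,15,22,6,21,17,18,20,3,23],
   [5,1,18,2,23,8,6,7,0,21,13,11,10,12,20,4,9,17,3,19,22,16,14,15],
   [5,1,22,20,15,8,17,7,0,3,10,11,12,13,16,23,18,19,14,6,9,2,21,4],
   [6,7,14,16,4,19,13,11,17,2,5,1,8,0,9,15,22,12,18,10,20,21,3,23],
   [6,7,20,9,23,19,12,11,17,18,8,1,0,5,21,4,14,10,3,13,22,16,2,15],
   [6,7,22,21,15,19,10,11,17,3,0,1,5,8,16,23,20,13,2,12,14,9,18,4],
   [8,1,3,18,15,0,6,7,5,16,12,11,13,10,22,23,21,17,2,19,14,9,20,4],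
   [8,1,14,22,4,0,17,7,5,2,13,11,10,12,9,15,3,19,20,6,21,18,16,23],
   [8,1,21,9,23,0,19,7,5,20,10,11,12,13,18,4,14,6,16,17,3,22,2,15],
   [10,11,14,3,4,12,5,1,13,2,17,7,6,19,9,15,16,0,21,8,18,20,22,23],
   [10,11,16,20,15,12,8,1,13,22,19,7,17,6,3,23,18,5,2,0,14,9,21,4],
   [10,11,18,9,23,12,0,1,13,21,6,7,19,17,20,4,14,8,22,5,16,3,2,15],
   [12,11,2,16,4,13,8,1,10,9,6,7,19,17,14,15,22,5,20,0,21,18,3,23],
   [12,11,21,14,23,13,5,1,10,20,19,7,17,6,18,4,2,0,3,8,22,16,9,15],
   [12,11,22,18,15,13,0,1,10,3,17,7,6,19,16,23,21,8,9,5,2,14,20,4],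
   [13,11,3,21,15,10,5,1,12,16,6,7,19,17,22,23,20,0,14,8,9,2,18,4],
   [13,11,9,22,4,10,0,1,12,14,19,7,17,6,2,15,3,8,18,5,20,21,16,23],
   [13,11,20,2,23,10,8,1,12,18,17,7,6,19,21,4,9,5,16,0,3,22,14,15],
   [17,7,9,3,4,6,12,11,19,14,0,1,5,8,2,15,16,10,20,13,21,18,22,23],
   [17,7,16,18,15,6,13,11,19,22,8,1,0,5,3,23,21,12,14,10,9,2,20,4],
   [17,7,21,2,23,6,10,11,19,20,5,1,8,0,18,4,9,13,22,12,16,3,14,15],
   [19,7,2,22,4,17,10,11,6,9,8,1,0,5,14,15,3,13,21,12,18,20,16,23],
   [19,7,3,20,15,17,12,11,6,16,5,1,8,0,22,23,18,10,9,13,2,14,21,4],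
   [19,7,18,14,23,17,13,11,6,21,0,1,5,8,20,4,2,12,16,10,3,22,9,15]]

theorem syl3_closed : closedChk syl3 = true := by decide +kernel

theorem syl3_nodup : syl3.Nodup := by decide +kernel

theorem syl3_len : syl3.length = 27 := by decide +kernel

theorem card_P3 : Nat.card (listG syl3 syl3_closed) = 3 ^ 3 := by
  rw [card_listG syl3_closed syl3_nodup, syl3_len]
  norm_num

theorem P3_le : listG syl3 syl3_closed ≤ M24 := by
  rintro _ ⟨π, hπ, rfl⟩
  exact toPerm_mem_M24 (isAut_of_mem_closed syl3_closed hπ)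

/-- Every element of order three of `M24` has a conjugate in the list. -/
theorem exists_conj_syl3 {g : Equiv.Perm GolayPt} (hg : g ∈ M24) (h3 : g ^ 3 = 1) :
    ∃ k ∈ M24, ∃ π ∈ syl3, k * g * k⁻¹ = toPerm π := by
  haveI : Fact (Nat.Prime 3) := ⟨Nat.prime_three⟩
  have hcard := card_P3
  have hp : IsPGroup 3 (listG syl3 syl3_closed) := IsPGroup.of_card hcard
  have hsyl : Cfsg.Agent.Lib.SylowIn.IsSylowIn 3 (listG syl3 syl3_closed) M24 := by
    refine Cfsg.Agent.Lib.SylowIn.isSylowIn_of_card P3_le hp fun T hT hTp => ?_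
    obtain ⟨a, ha⟩ := IsPGroup.iff_card.mp hTp
    have h3' : Nat.card T ∣ Nat.card M24 := Subgroup.card_dvd_of_le hT
    rw [ha, card_M24] at h3'
    have h5 : (244823040 : ℕ) = 3 ^ 3 * 9067520 := by norm_num
    rw [h5] at h3'
    have hcop : Nat.Coprime (3 ^ a) 9067520 := Nat.Coprime.pow_left a (by norm_num)
    have h4 : 3 ^ a ∣ 3 ^ 3 := hcop.dvd_of_dvd_mul_right h3'
    rw [ha, hcard]
    exact Nat.le_of_dvd (by positivity) h4
  obtain ⟨R, hR⟩ := hsyl
  have hmemR : ∀ x : M24, x ∈ (R : Subgroup M24) ↔ (x : Equiv.Perm GolayPt) ∈ listG syl3 syl3_closed := by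
    intro x
    rw [hR]
    rfl
  let g' : M24 := ⟨g, hg⟩
  have hT : IsPGroup 3 (Subgroup.zpowers g') := by
    rw [IsPGroup.iff_orderOf]
    rintro ⟨x, hx⟩
    obtain ⟨i, rfl⟩ := Subgroup.mem_zpowers_iff.mp hx
    have : (g' ^ i) ^ (3 ^ 1) = 1 := by
      rw [← zpow_natCast, ← zpow_mul, mul_comm, zpow_mul, zpow_natCast]
      have h1 : g' ^ (3 ^ 1) = 1 := Subtype.ext (by simpa using h3)
      rw [h1, one_zpow]
    obtain ⟨j, _, hj⟩ := (Nat.dvd_prime_pow Nat.prime_three).mp (orderOf_dvd_of_pow_eq_one this)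
    refine ⟨j, ?_⟩
    rw [← hj]
    exact Subgroup.orderOf_mk _ _
  obtain ⟨k, hk⟩ := Cfsg.Agent.Lib.SylowIn.exists_conj_mem_sylow R hT
  have h3 := hk g' (Subgroup.mem_zpowers g')
  obtain ⟨π, hπ, he⟩ := (hmemR _).mp h3
  exact ⟨k, k.2, π, hπ, he.symm⟩

theorem syl3_fix : syl3.all (fun π => π == idL || fixCount π == 0 || fixCount π == 6) = true := by
  decide +kernel

/-- An element of order three has no or exactly six fixed points. -/
theorem card_fix3_cases {g : Equiv.Perm GolayPt} (hm : g ∈ M24) (hg : orderOf g = 3) :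
    (fixF g).card = 0 ∨ (fixF g).card = 6 := by
  have h33 : g ^ 3 = 1 := by rw [← hg]; exact pow_orderOf_eq_one g
  obtain ⟨k, hk, π, hπ, he⟩ := exists_conj_syl3 hm h33
  have hgood := good_of_isAut (isAut_of_mem_closed syl3_closed hπ)
  have hc := List.all_eq_true.mp syl3_fix π hπ
  simp only [Bool.or_eq_true, beq_iff_eq] at hc
  haveI : Fact (Nat.Prime 3) := ⟨Nat.prime_three⟩
  have hne := ne_one_of_order hg
  have hcard : (fixF g).card = fixCount π := by
    rw [← card_fixF_toPerm hgood, ← he, card_fixF_conj]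
  rcases hc with (hc | hc) | hc
  · exfalso
    apply hne
    have h1 : k * g * k⁻¹ = 1 := by rw [he, hc, toPerm_idL]
    have : g = k⁻¹ * (k * g * k⁻¹) * k := by group
    rw [this, h1]
    group
  · left
    rw [hcard, hc]
  · right
    rw [hcard, hc]

/-- An element of order three with a fixed point has exactly six fixed points. -/
theorem card_fix3 {g : Equiv.Perm GolayPt} (hm : g ∈ M24) (hg : orderOf g = 3) {x : GolayPt}
    (hx : g x = x) : (fixF g).card = 6 := by
  have h0 : 0 < (fixF g).card := Finset.card_pos.mpr ⟨x, mem_fixF.mpr hx⟩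
  rcases card_fix3_cases hm hg with h | h
  · omega
  · exact h

end Cfsg.Agent.Lib.GolayOrder3
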