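import Cfsg.Agent.Lib.GolaySimple

/-! Data: a straight-line program from the three generators to the chain transversals (generated by a script). -/

set_option autoImplicit false

namespace Cfsg.Agent.Lib.GolaySLPData

/-- Instructions: offsets of the two factors from the top of the stack. -/
def slpM24 : List (ℕ × ℕ) :=
  [(2,1),(3,3),(0,0),(1,0),(1,1),(0,0),(2,0),(8,0),(10,7),(1,2),(11,9),(3,12),(12,11),(13,13),(0,0),(7,0),(18,7),(7,10),(19,9),(9,20),(20,11),(11,6),(22,11),(11,8),(26,11),(9,18),(26,13),(11,12),(29,11),(11,30),(32,11),(33,10),(10,25),(33,10),(10,19),(37,10),(10,29),(39,10),(10,31),(41,10),(10,33),(43,10),(11,35),(44,12),(13,45),(45,14),(15,31),(47,11),(11,33),(50,11),(11,51),(14,15),(52,23),(23,0),(56,16),(33,0),(56,29),(47,0),(58,59),(61,42),(32,0),(61,17),(25,0),(65,23),(29,0),(65,25),(23,0),(4,4),(0,0),(6,0),(5,5),(0,0),(1,0),(1,1),(0,0),(2,0),(22,13),(23,23),(0,0),(9,0),(24,17),(25,25),(0,0),(13,0),(26,21),(27,27),(0,0),(17,0),(27,25),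(28,28),(29,0),(1,1),(1,0),(23,0),(29,31),(25,19),(29,33),(30,30),(0,0),(1,0),(1,1),(0,0),(2,0),(33,0),(50,39),(29,26),(48,41),(31,20),(108,43),(33,94),(34,34),(44,46),(36,9),(59,36),(34,35),(59,38),(36,33),(56,40),(38,25),(56,42),(40,50),(63,40),(38,35),(56,42),(40,21),(69,28),(22,43),(66,30),(24,35),(75,20),(9,0),(77,63),(15,0),(75,15),(64,0),(70,38),(67,0),(81,56),(27,0),(78,19),(17,0),(141,64),(66,0),(87,36),(64,0),(14,14),(0,0),(0,0),(2,0),(16,16),(17,0),(1,1),(1,0),(16,16),(17,0),(1,1),(1,0),(18,18),(19,0),(18,18),(0,0),(18,18),(0,0),(0,0),(2,0),(20,20),(0,0),(1,0),(19,19),(34,38),(35,35),(22,0),(35,41),(24,16),(35,43),(26,16),(35,45),(28,16),(35,47),(30,14),(41,47),(28,22),(41,49),(30,22),(27,27),(44,48),(29,25),(52,48),(29,17),(52,48),(29,33),(52,50),(31,33),(56,50),(29,37),(62,9),(37,0),(66,9),(41,0),(62,9),(24,0),(58,18),(45,0),(58,30),(22,0),(60,17),(53,0),(68,32),(36,0),(74,64),(45,0),(14,14),(13,13),(14,0),(13,13),(14,0),(13,13),(0,0),(1,0),(14,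14),(15,0),(14,14),(0,0),(1,0),(15,15),(14,14),(0,0),(26,30),(16,12),(26,32),(18,11),(26,34),(20,11),(22,36),(37,35),(21,23),(35,37),(23,21),(33,39),(25,18),(31,41),(27,16),(35,41),(27,19),(47,39),(24,33),(45,41),(26,31),(49,39),(13,0),(45,5),(24,0),(41,11),(37,0),(43,24),(11,0),(57,28),(45,0),(49,57),(43,0),(53,55),(42,0),(51,59),(13,13),(0,0),(13,13),(0,0),(13,13),(14,0),(11,11),(12,0),(11,11),(9,9),(0,0),(22,24),(10,8),(20,26),(21,21),(13,0),(17,29),(18,18),(0,0),(17,0),(20,33),(19,10),(35,33),(19,21),(27,35),(21,16),(27,37),(23,8),(28,39),(25,18),(35,39),(25,23),(35,41),(27,24),(35,43),(29,16),(43,41),(29,22),(45,41),(30,24),(53,13),(25,0),(45,21),(21,0),(44,5),(45,8),(30,0),(45,44),(48,34),(49,32),(22,0),(52,34),(65,29),(40,0),(57,25),(11,11),(1,1),(13,15),(16,2),(8,17),(5,18),(19,4),(8,18),(9,9),(8,0),(11,20),(21,2),(13,11),(24,2),(14,21),(16,23),(26,16),(27,28),(28,7),(29,14),(33,14),(21,10),(29,11),(34,17),(24,23),(25,33),(26,37),(28,22),(39,20),(29,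91),(331,203),(0,115),(0,75),(0,29),(325,155),(0,59),(0,31),(0,28),(318,217),(0,118),(0,70),(0,36),(339,223),(0,154),(0,108),(0,53),(0,37),(333,234),(0,163),(0,62),(0,51),(323,274),(0,176),(0,124),(0,78),(0,46),(324,269),(0,232),(0,179),(0,87),(0,56),(0,52),(332,203),(0,142),(0,94),(0,57),(0,67),(366,290),(0,255),(0,159),(0,98),(0,81),(359,295),(0,208),(0,158),(0,105),(0,67),(353,290),(0,202),(0,177),(0,98),(0,70),(0,83),(378,333),(0,223),(0,158),(0,154),(0,81),(0,89),(378,310),(0,222),(0,208),(0,130),(0,97),(0,85),(373,316),(0,231),(0,180),(0,162),(0,98),(0,91),(385,351),(0,287),(0,131),(0,104),(0,106),(399,254),(0,180),(0,130),(0,116),(0,111),(393,259),(0,185),(0,135),(0,121),(0,116),(390,366),(0,262),(0,227),(0,141),(0,119),(0,112),(372,259),(0,211),(0,182),(0,129),(320,290),(0,240),(0,156),(0,136),(326,315),(0,215),(0,192),(0,127),(345,269),(0,252),(0,174),(0,141),(0,129),(348,274),(0,253),(0,171),(0,150),(347,288),(0,215),(0,165),(0,145),(0,148),(401,33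3),(0,162),(371,289),(0,258),(0,186),(0,145),(352,278),(0,274),(0,190),(0,157),(0,149),(400,300),(0,275),(0,202),(0,159),(0,164),(370,343),(0,276),(0,226),(0,163),(0,159),(392,350),(0,253),(0,214),(0,183),(0,174),(366,304),(0,250),(0,192),(0,181),(415,342),(0,260),(0,206),(0,192),(0,183),(385,364),(0,265),(0,226),(0,180),(0,178),(401,323),(0,302),(0,256),(0,204),(0,183),(393,368),(0,273),(0,233),(0,195),(0,198),(431,385),(0,283),(0,241),(0,211),(0,203),(450,378),(0,288),(0,239),(0,219),(0,198),(463,343),(0,284),(0,226),(0,224),(441,391),(0,294),(0,210),(405,350),(0,337),(0,245),(0,214),(356,307),(0,263),(0,221),(0,213),(395,342),(0,254),(0,232),(413,303),(0,265),(0,241),(404,313),(0,248),(0,220),(0,223),(378,317),(0,256),(0,242),(0,237),(369,325),(0,266),(0,228),(0,231),(414,325),(0,258),(0,243),(0,245),(422,335),(0,278),(0,247),(0,239),(413,366),(0,310),(0,243),(0,243),(383,368),(0,284),(0,244),(0,247),(438,334),(0,326),(0,321),(0,251),(396,382),(0,290),(0,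260),(0,265),(413,336),(0,290),(0,274),(396,339),(0,285),(0,280),(450,382),(0,336),(0,273),(0,275),(416,350),(0,336),(0,281),(0,269),(405,377),(0,323),(0,289),(400,304),(0,287),(0,285),(424,394),(0,312),(0,281),(0,279),(474,364),(0,333),(0,288),(0,283),(417,379),(0,328),(0,284),(417,318),(0,310),(0,299),(376,342),(0,296),(0,292),(411,306),(0,304),(390,320),(0,304),(0,297),(414,365),(0,304),(426,341),(0,299),(382,366),(0,303),(403,345),(0,376),(434,373),(0,316),(0,318),(406,344),(0,316),(403,354),(0,315),(395,350),(0,319),(0,315),(406,357),(0,320),(411,357),(0,327),(0,330),(441,360),(0,393),(0,323),(412,361),(0,330),(448,363),(0,332),(0,338),(436,372),(0,352),(455,370),(0,337),(0,343),(418,359),(0,340),(0,336),(414,354),(385,347),(378,359),(383,356),(0,341),(383,340),(0,353),(411,353),(0,355),(419,355),(0,347),(383,419),(0,349),(377,354),(0,361),(377,369),(390,354),(0,354),(388,359),(0,356),(426,361),(0,368),(409,372),(0,360),(390,366),(0,362),(438,364),(0,374),(429,381),(0,366),(372,367),(371,368)]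

end Cfsg.Agent.Lib.GolaySLPData
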