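import Mathlib
import Cfsg.Prelude.Def_Sporadic_a
import Cfsg.Prelude.Def_SporadicCombinatorics
import Cfsg.Agent.Lib.GolayDod3
import Cfsg.Agent.Lib.GolayEnumF

/-!
# A Sylow 2-subgroup of the group of the code is self-normalizing
-/

set_option autoImplicit false
set_option maxHeartbeats 1000000
set_option linter.style.haveILetI false
set_option linter.constructorNameAsVariable false

open scoped Pointwise

namespace Cfsg.Agent.Lib.GolaySyl

open Cfsg Cfsg.Agent.Lib Cfsg.Agent.Lib.GolayCode Cfsg.Agent.Lib.GolayFacts Cfsg.Agent.Lib.GolayPerm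
  Cfsg.Agent.Lib.GolayChain Cfsg.Agent.Lib.GolayTrans Cfsg.Agent.Lib.GolayDecomp
  Cfsg.Agent.Lib.GolayOrbit Cfsg.Agent.Lib.GolayFix Cfsg.Agent.Lib.GolayEnum
  Cfsg.Agent.Lib.GolayKit Cfsg.Agent.Lib.GolayM12 Cfsg.Agent.Lib.GolayObjs Cfsg.Agent.Lib.GolayDod3
  Cfsg.Agent.Lib.GolayFam Cfsg.Agent.Lib.GolaySets Cfsg.Agent.Lib.GolayFast Cfsg.Agent.Lib.GolayFastData
  Cfsg.Agent.Lib.GolayEnumF

/-- The two tetrads. -/
def F1 : List ℕ := [147496,8388615]

/-- The four duads. -/
def F2 : List ℕ := [6,40,147456,8388609]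

/-- The octad. -/
def O0 : ℕ := 8536111

/-- The central involution. -/
def zN : ℕ := 0xbc0ea332364b892451ebaccad18820

/-- Some elements. -/
def XL : List ℕ := [0x7518444eea801e6ab6c792c4908cb1,0xbb5467c8a4a8e0c44ceba25d688440,0x2de6a12283ba4d84eb64a8ac18457]

/-- The conditions on the pairs of known points. -/
def plB : List (List (ℕ × ℕ × Bool)) := [[(23,23,false)],[(23,0,false)],[(23,1,true)],[(1,2,false)],[(3,3,false)],[],[(3,5,false),(14,17,false),(3,14,true)]]

/-- The family. -/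
def fam (b : Bool) : List ℕ := bif b then F1 else F2

/-- The test before composing. -/
def preB (pl : List (List (ℕ × ℕ × Bool))) (i u t : ℕ) : Bool :=
  (pl.getD i []).all fun r => (fam r.2.2).any fun m => m.testBit (c1 u t r.1) && m.testBit (c1 u t r.2.1)

/-- Validity of the conditions. -/
def plOK (pl : List (List (ℕ × ℕ × Bool))) : Bool :=
  allBelow (fun i => (pl.getD i []).all fun r => knows i r.1 && knows i r.2.1 && Nat.blt r.1 24 && Nat.blt r.2.1 24 &&
    (fam r.2.2).any fun m => m.testBit r.1 && m.testBit r.2.1) 7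

theorem plB_ok : plOK plB = true := by decide +kernel

/-- The condition on elements. -/
def PP (g : Equiv.Perm GolayPt) : Prop := g • objOf F1 = objOf F1 ∧ g • objOf F2 = objOf F2

theorem blk_of_fixed {W : List ℕ} {g : Equiv.Perm GolayPt} (hg : g • objOf W = objOf W) {p q m : ℕ} (hm : m ∈ W)
    (hp : m.testBit p = true) (hq : m.testBit q = true) (hp24 : p < 24) (hq24 : q < 24) :
    ∃ m' ∈ W, g (idxPt p) ∈ supFin m' ∧ g (idxPt q) ∈ supFin m' := by
  classical
  have h1 : g • supFin m ∈ objOf W := by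
    rw [← hg]
    exact Finset.smul_mem_smul_finset (mem_objOf.mpr ⟨m, hm, rfl⟩)
  obtain ⟨m', hm', he⟩ := mem_objOf.mp h1
  refine ⟨m', hm', ?_, ?_⟩
  · rw [he]
    exact Finset.mem_smul_finset.mpr ⟨idxPt p, mem_supFin.mpr (by rw [ptIdx_idxPt hp24]; exact hp), rfl⟩
  · rw [he]
    exact Finset.mem_smul_finset.mpr ⟨idxPt q, mem_supFin.mpr (by rw [ptIdx_idxPt hq24]; exact hq), rfl⟩

theorem preB_sound {pl : List (List (ℕ × ℕ × Bool))} {g : Equiv.Perm GolayPt} {i u t : ℕ} (hpl : plOK pl = true)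
    (hP : PP g) (hi : i < 7) (hv : Ok (compN u t)) (h : (pN (compN u t))⁻¹ * g ∈ G (i + 1)) :
    preB pl i u t = true := by
  rw [preB, List.all_eq_true]
  intro r hr
  have h0 := List.all_eq_true.mp (allBelow_spec hpl i hi) r hr
  simp only [Bool.and_eq_true] at h0
  obtain ⟨⟨⟨⟨h1, h2⟩, h3⟩, h4⟩, h5⟩ := h0
  have h3' : r.1 < 24 := by simpa using Nat.blt_eq.mp h3
  have h4' : r.2.1 < 24 := by simpa using Nat.blt_eq.mp h4
  obtain ⟨m, hm, hb⟩ := List.any_eq_true.mp h5
  simp only [Bool.and_eq_true] at hb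
  have hW : g • objOf (fam r.2.2) = objOf (fam r.2.2) := by
    cases r.2.2 with
    | true => exact hP.1
    | false => exact hP.2
  obtain ⟨m', hm', h6, h7⟩ := blk_of_fixed hW hm hb.1 hb.2 h3' h4'
  have h8 := apply_of_knows hi hv h3' h1 h
  have h9 := apply_of_knows hi hv h4' h2 h
  have h10 : c1 u t r.1 < 24 := by
    have := hv.rng h3'
    rwa [imgN_compN u t h3'] at this
  have h11 : c1 u t r.2.1 < 24 := by
    have := hv.rng h4'
    rwa [imgN_compN u t h4'] at this
  rw [h8, mem_supFin, ptIdx_idxPt h10] at h6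
  rw [h9, mem_supFin, ptIdx_idxPt h11] at h7
  apply List.any_eq_true.mpr
  refine ⟨m', hm', ?_⟩
  simp only [h6, h7, Bool.and_self]

/-- The membership test. -/
def inP (e : ℕ) : Bool := chkL e F1 && chkL e F2

/-- The elements. -/
def LP : List ℕ := (enumF (preB plB)).filter inP

/-- The commuting tests. -/
def chkP (L : List ℕ) : Bool :=
  Nat.beq L.length 1024 && distinctL L && L.all (fun c => Nat.blt c (32 ^ 24)) &&
    L.all (fun e => commN e zN zN) &&
    L.all (fun e => !(XL.all fun s => commN e s s) || Nat.beq e zN || Nat.beq e idN) &&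
    XL.all (fun s => L.contains s) && L.contains zN

theorem chkP_ok : forceL LP chkP = true := by decide +kernel

attribute [local irreducible] LP in
/-- The properties of the list. -/
theorem LP_props : LP.length = 1024 ∧ LP.Nodup ∧ (∀ c ∈ LP, c < 32 ^ 24) ∧ (∀ e ∈ LP, commN e zN zN = true) ∧
    (∀ e ∈ LP, (∀ s ∈ XL, commN e s s = true) → e = zN ∨ e = idN) ∧ (∀ s ∈ XL, s ∈ LP) ∧ zN ∈ LP := by
  have h := chkP_ok
  rw [forceL_eq] at h
  simp only [chkP, Bool.and_eq_true, List.all_eq_true] at h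
  obtain ⟨⟨⟨⟨⟨⟨h1, h2⟩, h3⟩, h4⟩, h5⟩, h6⟩, h7⟩ := h
  refine ⟨Nat.eq_of_beq_eq_true h1, nodup_of_distinctL h2, ?_, h4, ?_, ?_, List.contains_iff_mem.mp h7⟩
  · intro c hc
    simpa using Nat.blt_eq.mp (h3 c hc)
  · intro e he hs
    have h8 := h5 e he
    have h9 : (XL.all fun s => commN e s s) = true := List.all_eq_true.mpr hs
    simp only [h9, Bool.not_true, Bool.false_or, Bool.or_eq_true] at h8
    rcases h8 with h8 | h8
    · exact Or.inl (Nat.eq_of_beq_eq_true h8)
    · exact Or.inr (Nat.eq_of_beq_eq_true h8)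
  · intro s hs
    exact List.contains_iff_mem.mp (h6 s hs)

theorem F1_good : goodL F1 = true := by decide +kernel

theorem F2_good : goodL F2 = true := by decide +kernel

theorem LP_sound {e : ℕ} (he : e ∈ LP) : Ok e ∧ pN e ∈ M24 ∧ PP (pN e) := by
  obtain ⟨h1, h2⟩ := List.mem_filter.mp he
  obtain ⟨h3, h4⟩ := enumF_sound h1
  simp only [inP, Bool.and_eq_true] at h2
  exact ⟨h3, h4, (fixed_objOf_iff h3 F1_good).mpr h2.1, (fixed_objOf_iff h3 F2_good).mpr h2.2⟩

theorem LP_complete {g : Equiv.Perm GolayPt} (hg : g ∈ M24) (hP : PP g) : ∃ e ∈ LP, g = pN e := by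
  obtain ⟨e, he, rfl⟩ := enumF_complete (pre := preB plB) hg (fun i u t hi hu ht h =>
    preB_sound plB_ok hP hi (hu.comp (isAutN_ok (ok_of_mem_levN hi ht))) h)
  obtain ⟨h3, h4⟩ := enumF_sound he
  refine ⟨e, List.mem_filter.mpr ⟨he, ?_⟩, rfl⟩
  simp only [inP, Bool.and_eq_true]
  exact ⟨(fixed_objOf_iff h3 F1_good).mp hP.1, (fixed_objOf_iff h3 F2_good).mp hP.2⟩

/-- The overlap test. -/
def overlap (a : ℕ) : Bool :=
  XL.any fun s => (fun c => !(Nat.beq c a) && !(Nat.beq (c &&& a) 0)) (permMask (dL s) a)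

theorem ov1 : (kSub 24 4).all (fun a => !Nat.beq (a &&& O0) a || F1.contains a || overlap a) = true := by decide +kernel

theorem ov2 : (kSub 24 2).all (fun a => !Nat.beq (a &&& O0) a || F2.contains a || overlap a) = true := by decide +kernel

theorem F1_props : F1.all (fun m => Nat.beq (hwF m) 4 && Nat.beq (m &&& O0) m &&
    F1.all (fun n => Nat.beq m n || Nat.beq (m &&& n) 0)) = true := by decide +kernel

theorem F2_props : F2.all (fun m => Nat.beq (hwF m) 2 && Nat.beq (m &&& O0) m &&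
    F2.all (fun n => Nat.beq m n || Nat.beq (m &&& n) 0)) = true := by decide +kernel

theorem fixz : allBelow (fun k => decide (O0.testBit k = Nat.beq (imgN zN k) k)) 24 = true := by decide +kernel

theorem zN_ne : zN ≠ idN := by decide +kernel

theorem supFin_zero : supFin 0 = ∅ := by
  ext p
  simp [mem_supFin]

/-- The family lemma. -/
theorem fam_lemma {W : List ℕ} {k : ℕ} {g : Equiv.Perm GolayPt}
    (hchk : (kSub 24 k).all (fun a => !Nat.beq (a &&& O0) a || W.contains a || overlap a) = true)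
    (hprops : W.all (fun m => Nat.beq (hwF m) k && Nat.beq (m &&& O0) m &&
      W.all (fun n => Nat.beq m n || Nat.beq (m &&& n) 0)) = true)
    (hP : ∀ s ∈ XL, (g⁻¹ * pN s * g) • objOf W = objOf W)
    (hX : ∀ s ∈ XL, Ok s)
    (hO : ∀ p ∈ supFin O0, g p ∈ supFin O0) : g • objOf W = objOf W := by
  classical
  apply Finset.eq_of_subset_of_card_le
  · intro t ht
    obtain ⟨t0, ht0, rfl⟩ := Finset.mem_smul_finset.mp ht
    obtain ⟨m, hm, rfl⟩ := mem_objOf.mp ht0
    have hm1 := List.all_eq_true.mp hprops m hm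
    simp only [Bool.and_eq_true] at hm1
    obtain ⟨⟨hm2, hm3⟩, hm4⟩ := hm1
    have hm5 : hw 24 m = k := by
      rw [← hwF_eq]
      exact Nat.eq_of_beq_eq_true hm2
    have hm6 : m &&& O0 = m := Nat.eq_of_beq_eq_true hm3
    obtain ⟨a, ha⟩ : ∃ a, a = maskOf (g • supFin m) := ⟨_, rfl⟩
    have ha1 : supFin a = g • supFin m := by rw [ha, supFin_maskOf]
    have ha2 : a < 2 ^ 24 := by rw [ha]; exact maskOf_lt _
    have ha3 : a ∈ kSub 24 k := by
      refine mem_kSub.mpr ⟨ha2, ?_⟩
      rw [ha, hw_maskOf, Finset.card_smul_finset, card_supFin, hm5]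
    have hsub : supFin m ⊆ supFin O0 := by
      rw [← hm6, ← supFin_inter]
      exact Finset.inter_subset_right
    have ha4 : a &&& O0 = a := by
      apply supFin_injOn (Nat.and_lt_two_pow _ (by decide +kernel)) ha2
      rw [← supFin_inter, ha1]
      apply Finset.inter_eq_left.mpr
      intro x hx
      obtain ⟨y, hy, rfl⟩ := Finset.mem_smul_finset.mp hx
      exact hO y (hsub hy)
    have h1 := List.all_eq_true.mp hchk a ha3
    have h2 : Nat.beq (a &&& O0) a = true := by
      rw [ha4]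
      exact Nat.beq_refl a
    simp only [h2, Bool.not_true, Bool.false_or, Bool.or_eq_true] at h1
    rw [show g • supFin m = supFin a from ha1.symm]
    rcases h1 with h1 | h1
    · exact mem_objOf.mpr ⟨a, List.contains_iff_mem.mp h1, rfl⟩
    · exfalso
      obtain ⟨s, hs, h3⟩ := List.any_eq_true.mp h1
      simp only [Bool.and_eq_true, Bool.not_eq_true'] at h3
      obtain ⟨h4, h5⟩ := h3
      have hOs := hX s hs
      have h6 : pN s • supFin a = supFin (permMask (dL s) a) := pN_smul_supFin hOs a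
      have h7 : (g⁻¹ * pN s * g) • supFin m ∈ objOf W := by
        rw [← hP s hs]
        exact Finset.smul_mem_smul_finset (mem_objOf.mpr ⟨m, hm, rfl⟩)
      obtain ⟨n, hn, h8⟩ := mem_objOf.mp h7
      have h9 : supFin (permMask (dL s) a) = g • supFin n := by
        rw [← h6, ha1, h8, mul_smul, mul_smul, smul_inv_smul]
      have h10 := List.all_eq_true.mp hm4 n hn
      simp only [Bool.or_eq_true] at h10
      rcases h10 with h10 | h10
      · obtain rfl : m = n := Nat.eq_of_beq_eq_true h10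
        rw [← ha1] at h9
        have := supFin_injOn (permMask_dL_lt hOs a) ha2 h9
        rw [this] at h4
        simp [Nat.beq_refl] at h4
      · have h11 : supFin (permMask (dL s) a &&& a) = supFin 0 := by
          rw [← supFin_inter, h9, ha1, smul_inter_smul, supFin_inter, Nat.and_comm, Nat.eq_of_beq_eq_true h10,
            supFin_zero]
          simp
        have h12 := supFin_injOn (Nat.and_lt_two_pow _ ha2) (by norm_num) h11
        rw [h12] at h5
        simp at h5
  · rw [Finset.card_smul_finset]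

theorem key {g : Equiv.Perm GolayPt} (hg : g ∈ M24)
    (hN : ∀ x ∈ M24, PP x → PP (g⁻¹ * x * g)) (hN' : ∀ x ∈ M24, PP x → PP (g * x * g⁻¹)) : PP g := by
  classical
  obtain ⟨hlen, hnd, hlt, hz, hcen, hXL, hzL⟩ := LP_props
  obtain ⟨hzO, hzm, hzP⟩ := LP_sound hzL
  have hXO : ∀ s ∈ XL, Ok s := fun s hs => (LP_sound (hXL s hs)).1
  have hXm : ∀ s ∈ XL, pN s ∈ M24 := fun s hs => (LP_sound (hXL s hs)).2.1
  have hXP : ∀ s ∈ XL, PP (pN s) := fun s hs => (LP_sound (hXL s hs)).2.2
  have hconj : ∀ s ∈ XL, PP (g⁻¹ * pN s * g) := fun s hs => hN _ (hXm s hs) (hXP s hs)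
  -- the conjugate of the central involution
  obtain ⟨e, he, hee⟩ := LP_complete (g := g * pN zN * g⁻¹) (mul_mem (mul_mem hg hzm) (inv_mem hg)) (hN' _ hzm hzP)
  obtain ⟨heO, hem, heP⟩ := LP_sound he
  have hcomm : ∀ s ∈ XL, commN e s s = true := by
    intro s hs
    apply commN_of_comm heO (hXO s hs) (hXO s hs)
    obtain ⟨w, hw, hwe⟩ := LP_complete (g := g⁻¹ * pN s * g) (mul_mem (mul_mem (inv_mem hg) (hXm s hs)) hg) (hconj s hs)
    obtain ⟨hwO, hwm, hwP⟩ := LP_sound hw
    have h1 := comm_of_commN hwO hzO hzO (hz w hw)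
    rw [← hwe] at h1
    rw [← hee]
    have h2 : pN s = g * (g⁻¹ * pN s * g) * g⁻¹ := by group
    calc g * pN zN * g⁻¹ * pN s = g * (pN zN * (g⁻¹ * pN s * g)) * g⁻¹ := by group
      _ = g * ((g⁻¹ * pN s * g) * pN zN) * g⁻¹ := by rw [h1]
      _ = pN s * (g * pN zN * g⁻¹) := by group
  have hzz : g * pN zN * g⁻¹ = pN zN := by
    rcases hcen e he hcomm with rfl | rfl
    · exact hee
    · exfalso
      rw [pN_idN] at hee
      have h3 : pN zN = 1 := by
        have h4 : g * pN zN = g := by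
          calc g * pN zN = (g * pN zN * g⁻¹) * g := by group
            _ = g := by rw [hee, one_mul]
        simpa using h4
      have h5 := pN_inj hzO ok_idN (hlt _ hzL) (by decide +kernel) (h3.trans pN_idN.symm)
      exact zN_ne h5
  -- the octad
  have hfix : ∀ p : GolayPt, p ∈ supFin O0 ↔ pN zN p = p := by
    intro p
    have h1 := allBelow_spec fixz (ptIdx p) (ptIdx_lt p)
    have h2 : O0.testBit (ptIdx p) = Nat.beq (imgN zN (ptIdx p)) (ptIdx p) := of_decide_eq_true h1
    rw [mem_supFin, h2]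
    constructor
    · intro h3
      apply ptIdx_injective
      rw [ptIdx_pN hzO]
      exact Nat.eq_of_beq_eq_true h3
    · intro h3
      have h4 := congrArg ptIdx h3
      rw [ptIdx_pN hzO] at h4
      rw [h4]
      exact Nat.beq_refl _
  have hO : ∀ p ∈ supFin O0, g p ∈ supFin O0 := by
    intro p hp
    rw [hfix] at hp ⊢
    have h1 : (g * pN zN * g⁻¹) (g p) = g p := by
      simp [Equiv.Perm.mul_apply, hp]
    rwa [hzz] at h1
  exact ⟨fam_lemma ov1 F1_props (fun s hs => (hconj s hs).1) hXO hO, fam_lemma ov2 F2_props (fun s hs => (hconj s hs).2) hXO hO⟩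

/-- The Sylow subgroup. -/
def P0 : Subgroup ↥M24 := MulAction.stabilizer M24 (objOf F1) ⊓ MulAction.stabilizer M24 (objOf F2)

theorem mem_P0 {g : ↥M24} : g ∈ P0 ↔ PP g.1 := Iff.rfl

theorem card_P0 : Nat.card ↥P0 = 1024 := by
  obtain ⟨hlen, hnd, hlt, -, -, -, -⟩ := LP_props
  have h1 := card_of_list (P := PP) (L := LP) (fun e he => LP_sound he) (fun g hg hP => LP_complete hg hP) hnd hlt
  rw [hlen] at h1
  rw [← h1]
  exact Nat.card_congr ⟨fun g => ⟨(g : ↥M24).1, (g : ↥M24).2, g.2⟩, fun g => ⟨⟨g.1, g.2.1⟩, g.2.2⟩, fun _ => rfl, fun _ => rfl⟩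

theorem fact2 : (Nat.card ↥M24).factorization 2 = 10 := by
  rw [card_M24, show (244823040 : ℕ) = 2 ^ 10 * 239085 by norm_num, Nat.factorization_mul (by norm_num) (by norm_num),
    Nat.factorization_pow, Nat.Prime.factorization Nat.prime_two]
  have h : (Nat.factorization 239085) 2 = 0 := Nat.factorization_eq_zero_of_not_dvd (by norm_num)
  simp [Finsupp.add_apply, h]

/-- The Sylow subgroup, as such. -/
noncomputable def P0S : Sylow 2 ↥M24 := Sylow.ofCard P0 (by rw [card_P0, fact2]; rfl)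

theorem coe_P0S : (P0S : Subgroup ↥M24) = P0 := Sylow.coe_ofCard _ _

theorem self_norm {g : ↥M24} (hg : g • P0S = P0S) : g ∈ P0 := by
  have hconj : ∀ h : ↥M24, h • P0S = P0S → ∀ x ∈ P0, h⁻¹ * x * h ∈ P0 := by
    intro h hh x hx
    have h1 : x ∈ ((h • P0S : Sylow 2 ↥M24) : Subgroup ↥M24) := by
      rw [hh, coe_P0S]
      exact hx
    rw [Sylow.coe_subgroup_smul, Subgroup.mem_pointwise_smul_iff_inv_smul_mem, coe_P0S] at h1
    simpa [MulAut.smul_def] using h1
  refine mem_P0.mpr (key g.2 ?_ ?_)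
  · intro x hx hP
    exact hconj g hg ⟨x, hx⟩ (mem_P0.mpr hP)
  · intro x hx hP
    have h1 := hconj g⁻¹ (inv_smul_eq_iff.mpr hg.symm) ⟨x, hx⟩ (mem_P0.mpr hP)
    rw [inv_inv] at h1
    exact h1

/-- The statement. -/
theorem main2882 (S : Sylow 2 ↥M24) : Subgroup.normalizer ((S : Subgroup ↥M24) : Set ↥M24) = (S : Subgroup ↥M24) := by
  obtain ⟨h, rfl⟩ := MulAction.exists_smul_eq ↥M24 P0S S
  apply le_antisymm
  · intro x hx
    have h1 : x • (h • P0S) = h • P0S := Sylow.smul_eq_iff_mem_normalizer.mpr hx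
    have h2 : (h⁻¹ * x * h) • P0S = P0S := by
      rw [mul_smul, mul_smul, h1, inv_smul_smul]
    have h3 := self_norm h2
    rw [Sylow.coe_subgroup_smul, Subgroup.mem_pointwise_smul_iff_inv_smul_mem, coe_P0S]
    simpa [MulAut.smul_def] using h3
  · exact Subgroup.le_normalizer

end Cfsg.Agent.Lib.GolaySyl
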