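import Mathlib

/-! Small general group facts. -/

namespace Cfsg.Agent.Lib.GrpMisc

open scoped commutatorElement

variable {G : Type*} [Group G]

theorem comm_central {x y a b : G} (h1 : ∀ c : G, x * c = c * x) (h2 : ∀ c : G, y * c = c * y) :
    ⁅x * a, y * b⁆ = ⁅a, b⁆ := by
  rw [commutatorElement_def, commutatorElement_def, h2 b, h1 a]
  calc a * x * (b * y) * (a * x)⁻¹ * (b * y)⁻¹
      = a * (x * (b * y)) * (a * x)⁻¹ * (b * y)⁻¹ := by group
    _ = a * ((b * y) * x) * (a * x)⁻¹ * (b * y)⁻¹ := by rw [h1]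
    _ = a * b * (y * a⁻¹) * y⁻¹ * b⁻¹ := by group
    _ = a * b * (a⁻¹ * y) * y⁻¹ * b⁻¹ := by rw [h2]
    _ = a * b * a⁻¹ * b⁻¹ := by group

/-- A perfect group does not split over a nontrivial centre. -/
theorem no_complement_center (hperf : commutator G = ⊤) (hZ : Subgroup.center G ≠ ⊥) :
    ¬ ∃ K : Subgroup G, Subgroup.IsComplement' (Subgroup.center G) K := by
  rintro ⟨K, hK⟩
  have hle : commutator G ≤ K := by
    rw [commutator_def, Subgroup.commutator_le]
    intro g _ h _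
    obtain ⟨⟨z₁, k₁⟩, rfl⟩ := (Subgroup.isComplement'_def.1 hK).surjective g
    obtain ⟨⟨z₂, k₂⟩, rfl⟩ := (Subgroup.isComplement'_def.1 hK).surjective h
    have h1 : ∀ a : G, (z₁ : G) * a = a * z₁ := fun a => (Subgroup.mem_center_iff.1 z₁.2 a).symm
    have h2 : ∀ a : G, (z₂ : G) * a = a * z₂ := fun a => (Subgroup.mem_center_iff.1 z₂.2 a).symm
    show ⁅(z₁ : G) * k₁, (z₂ : G) * k₂⁆ ∈ K
    rw [comm_central h1 h2]
    exact mul_mem (mul_mem (mul_mem k₁.2 k₂.2) (inv_mem k₁.2)) (inv_mem k₂.2)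
  rw [hperf, top_le_iff] at hle
  apply hZ
  have := hK.disjoint
  rw [hle, disjoint_top] at this
  exact this

end Cfsg.Agent.Lib.GrpMisc
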