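import Mathlib
import Cfsg.Agent.Lib.Focal
import Cfsg.Agent.Lib.HallSolv
import Cfsg.Agent.Lib.SylowCount
import Cfsg.Prelude.Def_Transfer

/-!
# Control of fusion by the normalizer of a central weakly closed subgroup (Grün)
-/

set_option autoImplicit false
set_option linter.style.haveILetI false
set_option linter.unusedSectionVars false
set_option linter.unusedVariables false

namespace Cfsg.Agent.Lib.GrunFusion

open Cfsg
open scoped Pointwise commutatorElement

universe u

variable {G : Type u} [Group G] [Finite G] {p : ℕ} [hp : Fact p.Prime]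

/-- The conjugate of a subgroup. -/
abbrev cj (g : G) (D : Subgroup G) : Subgroup G := D.map (MulAut.conj g).toMonoidHom

theorem mem_cj {g x : G} {D : Subgroup G} : x ∈ cj g D ↔ g⁻¹ * x * g ∈ D := by
  constructor
  · rintro ⟨y, hy, rfl⟩
    have : g⁻¹ * ((MulAut.conj g).toMonoidHom y) * g = y := by
      simp [MulAut.conj_apply]
      group
    rwa [this]
  · intro h
    refine ⟨_, h, ?_⟩
    simp [MulAut.conj_apply]
    group

theorem conj_mem_cj {g x : G} {D : Subgroup G} (h : x ∈ D) : g * x * g⁻¹ ∈ cj g D := ⟨x, h, rfl⟩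

theorem cj_mul (g h : G) (D : Subgroup G) : cj (g * h) D = cj g (cj h D) := by
  ext x
  rw [mem_cj, mem_cj, mem_cj]
  have : h⁻¹ * (g⁻¹ * x * g) * h = (g * h)⁻¹ * x * (g * h) := by group
  rw [this]

theorem card_cj (g : G) (D : Subgroup G) : Nat.card (cj g D) = Nat.card D :=
  Subgroup.card_map_of_injective (MulAut.conj g).injective

/-- Conjugating into a Sylow subgroup. -/
theorem exists_conj_le_sylow {W : Subgroup G} (hW : IsPGroup p W) (P : Sylow p G) : ∃ k : G, cj k W ≤ P := by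
  obtain ⟨R, hR⟩ := hW.exists_le_sylow
  obtain ⟨k, hk⟩ := MulAction.exists_smul_eq G R P
  refine ⟨k, ?_⟩
  rintro _ ⟨w, hw, rfl⟩
  rw [← hk]
  have h1 := Cfsg.Agent.Lib.SylowCount.mem_smul_sylow k ((MulAut.conj k).toMonoidHom w) R
  refine h1.2 ?_
  have : k⁻¹ * ((MulAut.conj k).toMonoidHom w) * k = w := by
    simp [MulAut.conj_apply]
    group
  rw [this]
  exact hR hw

/-- Two commuting `p`-subgroups generate a `p`-group. -/
theorem isPGroup_sup_of_commute {A B : Subgroup G} (hA : IsPGroup p A) (hB : IsPGroup p B)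
    (h : ∀ a ∈ A, ∀ b ∈ B, a * b = b * a) : IsPGroup p (A ⊔ B : Subgroup G) := by
  classical
  have hperm : (A : Set G) * (B : Set G) = (B : Set G) * (A : Set G) := by
    ext x
    constructor
    · rintro ⟨a, ha, b, hb, rfl⟩
      exact ⟨b, hb, a, ha, (h a ha b hb).symm⟩
    · rintro ⟨b, hb, a, ha, rfl⟩
      exact ⟨a, ha, b, hb, h a ha b hb⟩
  have h1 := Cfsg.Agent.Lib.HallSolv.card_sup_dvd A B hperm
  obtain ⟨i, hi⟩ := IsPGroup.iff_card.1 hA
  obtain ⟨j, hj⟩ := IsPGroup.iff_card.1 hB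
  rw [hi, hj, ← pow_add] at h1
  obtain ⟨m, -, hm⟩ := (Nat.dvd_prime_pow hp.out).1 h1
  exact IsPGroup.of_card hm

/-- The centralizer condition: every `p`-subgroup of `C(F)` can be conjugated in `C(F)` into `P`. -/
def FullyCent (P : Sylow p G) (F : Subgroup G) : Prop :=
  ∀ W : Subgroup G, W ≤ Subgroup.centralizer (F : Set G) → IsPGroup p W →
    ∃ c ∈ Subgroup.centralizer (F : Set G), cj c W ≤ P

/-- Every `p`-subgroup of `P` has a fully centralized conjugate in `P`. -/
theorem exists_fullyCent (P : Sylow p G) (E : Subgroup G) (hE : E ≤ P) :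
    ∃ h : G, cj h E ≤ P ∧ FullyCent P (cj h E) := by
  classical
  let α := {h : G // cj h E ≤ (P : Subgroup G)}
  haveI : Nonempty α := ⟨⟨1, by
    intro x hx
    rw [mem_cj] at hx
    simpa using hE hx⟩⟩
  obtain ⟨⟨h, hh⟩, hmax⟩ := Finite.exists_max (fun a : α =>
    Nat.card ((P : Subgroup G) ⊓ Subgroup.centralizer ((cj a.1 E : Subgroup G) : Set G) : Subgroup G))
  refine ⟨h, hh, ?_⟩
  set F := cj h E with hF
  set C := Subgroup.centralizer ((F : Subgroup G) : Set G) with hC
  have hFp : IsPGroup p F := (P.isPGroup').to_le hh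
  -- a Sylow subgroup of `C` containing `P ⊓ C`
  have hTp : IsPGroup p (((P : Subgroup G) ⊓ C).subgroupOf C) := by
    have h1 : IsPGroup p ((P : Subgroup G) ⊓ C : Subgroup G) := (P.isPGroup').to_le inf_le_left
    exact h1.of_injective ((Subgroup.subgroupOfEquivOfLe inf_le_right).toMonoidHom) (MulEquiv.injective _)
  obtain ⟨S₀, hS₀⟩ := hTp.exists_le_sylow
  let S : Subgroup G := (S₀ : Subgroup C).map C.subtype
  have hSC : S ≤ C := by
    rintro _ ⟨x, -, rfl⟩
    exact x.2
  have hcardS : Nat.card S = Nat.card S₀ := Subgroup.card_map_of_injective C.subtype_injective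
  have hSp : IsPGroup p S := by
    have := S₀.isPGroup'
    exact this.map C.subtype
  have hTS : (P : Subgroup G) ⊓ C ≤ S := by
    intro x hx
    exact ⟨⟨x, hx.2⟩, hS₀ (Subgroup.mem_subgroupOf.2 hx), rfl⟩
  have hcomm : ∀ a ∈ F, ∀ b ∈ S, a * b = b * a := by
    intro a ha b hb
    exact (Subgroup.mem_centralizer_iff.1 (hSC hb) a ha)
  have hsup := isPGroup_sup_of_commute hFp hSp hcomm
  obtain ⟨k, hk⟩ := exists_conj_le_sylow hsup P
  have hFk : cj k F ≤ P := fun x hx => hk (by
    rw [mem_cj] at hx ⊢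
    exact (le_sup_left : F ≤ F ⊔ S) hx)
  have hSk : cj k S ≤ P := fun x hx => hk (by
    rw [mem_cj] at hx ⊢
    exact (le_sup_right : S ≤ F ⊔ S) hx)
  have hSkC : cj k S ≤ Subgroup.centralizer ((cj k F : Subgroup G) : Set G) := by
    intro x hx
    rw [Subgroup.mem_centralizer_iff]
    intro y hy
    rw [mem_cj] at hx
    have hy' : k⁻¹ * y * k ∈ F := mem_cj.1 hy
    have h1 := hcomm _ hy' _ hx
    have h2 : y * x = k * ((k⁻¹ * y * k) * (k⁻¹ * x * k)) * k⁻¹ := by group
    have h3 : x * y = k * ((k⁻¹ * x * k) * (k⁻¹ * y * k)) * k⁻¹ := by group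
    rw [h2, h3, h1]
  have hle : Nat.card S ≤ Nat.card ((P : Subgroup G) ⊓ C : Subgroup G) := by
    have h1 := hmax ⟨k * h, by rw [cj_mul]; exact hFk⟩
    simp only at h1
    rw [cj_mul] at h1
    have h2 : Nat.card S = Nat.card (cj k S) := (card_cj k S).symm
    rw [h2]
    refine le_trans (Subgroup.card_le_of_le (le_inf hSk hSkC)) h1
  have hTS' : (P : Subgroup G) ⊓ C = S := Subgroup.eq_of_le_of_card_ge hTS hle
  -- conclusion
  intro W hWC hWp
  have hW₀p : IsPGroup p (W.subgroupOf C) :=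
    hWp.of_injective ((Subgroup.subgroupOfEquivOfLe hWC).toMonoidHom) (MulEquiv.injective _)
  obtain ⟨S₁, hS₁⟩ := hW₀p.exists_le_sylow
  obtain ⟨c, hc⟩ := MulAction.exists_smul_eq C S₁ S₀
  refine ⟨c, c.2, ?_⟩
  rintro _ ⟨w, hw, rfl⟩
  have hwC : w ∈ C := hWC hw
  have h1 : (⟨w, hwC⟩ : C) ∈ (S₁ : Subgroup C) := hS₁ (by simpa [Subgroup.mem_subgroupOf] using hw)
  have h2 : c * (⟨w, hwC⟩ : C) * c⁻¹ ∈ (S₀ : Subgroup C) := by
    rw [← hc]
    refine (Cfsg.Agent.Lib.SylowCount.mem_smul_sylow c _ S₁).2 ?_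
    have : c⁻¹ * (c * (⟨w, hwC⟩ : C) * c⁻¹) * c = ⟨w, hwC⟩ := by group
    rw [this]
    exact h1
  have h3 : (c : G) * w * (c : G)⁻¹ ∈ S := ⟨_, h2, rfl⟩
  rw [← hTS'] at h3
  exact h3.1

/-- **Control of fusion.** -/
theorem control_fusion (P : Sylow p G) (Z : Subgroup G) (hZ : Z ≤ Subgroup.centralizer (P : Set G))
    (hW : IsWeaklyClosed Z P) (D : Subgroup G) (hD : D ≤ P) (g : G) (hg : cj g D ≤ P) :
    ∃ m ∈ Subgroup.normalizer (Z : Set G), ∀ u ∈ D, m * u * m⁻¹ = g * u * g⁻¹ := by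
  classical
  have hZp : IsPGroup p Z := (P.isPGroup').to_le hW.1
  -- realize by the normalizer
  have real : ∀ (E : Subgroup G) (h : G), E ≤ P → FullyCent P (cj h E) →
      ∃ m ∈ Subgroup.normalizer (Z : Set G), ∀ u ∈ E, m * u * m⁻¹ = h * u * h⁻¹ := by
    intro E h hE hF
    have h1 : cj h Z ≤ Subgroup.centralizer ((cj h E : Subgroup G) : Set G) := by
      intro x hx
      rw [Subgroup.mem_centralizer_iff]
      intro y hy
      rw [mem_cj] at hx
      have hy' := mem_cj.1 hy
      have h2 := Subgroup.mem_centralizer_iff.1 (hZ hx) _ (hE hy')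
      have h3 : y * x = h * ((h⁻¹ * y * h) * (h⁻¹ * x * h)) * h⁻¹ := by group
      have h4 : x * y = h * ((h⁻¹ * x * h) * (h⁻¹ * y * h)) * h⁻¹ := by group
      rw [h3, h4, h2]
    have h2 : IsPGroup p (cj h Z) := hZp.map _
    obtain ⟨c, hc, hcZ⟩ := hF _ h1 h2
    have hZeq : cj (c * h) Z = Z := by
      have h5 : cj (c * h) Z ≤ P := by
        rw [cj_mul]
        exact hcZ
      exact hW.2 (c * h) h5
    refine ⟨c * h, ?_, ?_⟩
    · rw [Subgroup.mem_normalizer_iff]
      intro z
      constructor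
      · intro hz
        have h3 : (c * h) * z * (c * h)⁻¹ ∈ cj (c * h) Z := conj_mem_cj hz
        rw [hZeq] at h3
        exact h3
      · intro hz
        have h3 : (c * h) * z * (c * h)⁻¹ ∈ cj (c * h) Z := by
          rw [hZeq]
          exact hz
        rw [mem_cj] at h3
        have h4 : (c * h)⁻¹ * ((c * h) * z * (c * h)⁻¹) * (c * h) = z := by group
        rwa [h4] at h3
    · intro u hu
      have h3 : h * u * h⁻¹ ∈ cj h E := conj_mem_cj hu
      have h4 := Subgroup.mem_centralizer_iff.1 hc _ h3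
      calc c * h * u * (c * h)⁻¹ = (c * (h * u * h⁻¹)) * c⁻¹ := by group
        _ = ((h * u * h⁻¹) * c) * c⁻¹ := by rw [h4]
        _ = _ := by group
  obtain ⟨h, hh, hfc⟩ := exists_fullyCent P (cj g D) hg
  obtain ⟨m₂, hm₂, hm₂a⟩ := real (cj g D) h hg hfc
  have hfc' : FullyCent P (cj (h * g) D) := by
    rw [cj_mul]
    exact hfc
  obtain ⟨m₁, hm₁, hm₁a⟩ := real D (h * g) hD hfc'
  refine ⟨m₂⁻¹ * m₁, Subgroup.mul_mem _ (Subgroup.inv_mem _ hm₂) hm₁, fun u hu => ?_⟩
  have h1 := hm₁a u hu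
  have h2 := hm₂a _ (conj_mem_cj (g := g) hu)
  calc m₂⁻¹ * m₁ * u * (m₂⁻¹ * m₁)⁻¹ = m₂⁻¹ * (m₁ * u * m₁⁻¹) * m₂ := by group
    _ = m₂⁻¹ * (h * (g * u * g⁻¹) * h⁻¹) * m₂ := by
        rw [h1]
        congr 2
        group
    _ = m₂⁻¹ * (m₂ * (g * u * g⁻¹) * m₂⁻¹) * m₂ := by rw [h2]
    _ = _ := by group

/-- **Grün's theorem**. -/
theorem grun (P : Sylow p G) (Z : Subgroup G) (hZ : Z ≤ Subgroup.centralizer (P : Set G))
    (hW : IsWeaklyClosed Z P) :
    commutator G ⊓ (P : Subgroup G) =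
      ⁅Subgroup.normalizer (Z : Set G), Subgroup.normalizer (Z : Set G)⁆ ⊓ (P : Subgroup G) := by
  classical
  apply le_antisymm
  · have h1 : (P : Subgroup G) ⊓ commutator G ≤
        ⁅Subgroup.normalizer (Z : Set G), Subgroup.normalizer (Z : Set G)⁆ ⊓ (P : Subgroup G) := by
      apply Cfsg.Agent.Lib.Focal.inf_commutator_le_of P
      intro x hx g hg
      have hD : Subgroup.zpowers x ≤ (P : Subgroup G) := by
        rw [Subgroup.zpowers_le]
        exact hx
      have hDg : cj g (Subgroup.zpowers x) ≤ (P : Subgroup G) := by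
        rw [cj, MonoidHom.map_zpowers, Subgroup.zpowers_le]
        exact hg
      obtain ⟨m, hm, hma⟩ := control_fusion P Z hZ hW _ hD g hDg
      have h2 := hma x (Subgroup.mem_zpowers x)
      have hxN : x ∈ Subgroup.normalizer (Z : Set G) := by
        rw [Subgroup.mem_normalizer_iff]
        intro z
        constructor
        · intro hz
          have h3 := Subgroup.mem_centralizer_iff.1 (hZ hz) x hx
          have : x * z * x⁻¹ = z := by
            rw [h3]
            group
          rwa [this]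
        · intro hz
          have hzz : x * z * x⁻¹ ∈ Z := hz
          have h4 := Subgroup.mem_centralizer_iff.1 (hZ hzz) x hx
          have h6 : z = x * z * x⁻¹ := by
            calc z = x⁻¹ * (x * z * x⁻¹ * x) := by group
              _ = x⁻¹ * (x * (x * z * x⁻¹)) := by rw [h4]
              _ = x * z * x⁻¹ := by group
          rw [h6]
          exact hz
      refine ⟨?_, P.mul_mem (P.inv_mem hx) hg⟩
      rw [← h2]
      have h3 : x⁻¹ * (m * x * m⁻¹) = ⁅x⁻¹, m⁆ := by
        rw [commutatorElement_def]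
        group
      rw [h3]
      exact Subgroup.commutator_mem_commutator (Subgroup.inv_mem _ hxN) hm
    rwa [inf_comm] at h1
  · apply inf_le_inf_right
    rw [commutator_def]
    exact Subgroup.commutator_mono le_top le_top

end Cfsg.Agent.Lib.GrunFusion
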