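import Mathlib
import Cfsg.Agent.Lib.SylowCount

/-!
Derangements in transitive groups (helper6): the subgroup generated by derangements.
-/

set_option autoImplicit false

namespace Cfsg.Agent.Lib.H6Derange

open MulAction Pointwise

/-- Average fixed point count over a coset of a subgroup which is transitive. -/
theorem sum_fix_coset {G X : Type*} [Group G] [MulAction G X] [Finite X] [Nonempty X]
    (N : Subgroup G) [Fintype N] (hT : ∀ x y : X, ∃ n ∈ N, n • x = y) (g : G) :
    ∑ n : N, Nat.card (fixedBy X (g * (n : G))) = Nat.card N := by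
  classical
  haveI := Fintype.ofFinite X
  have e : (Σ n : N, fixedBy X (g * (n : G))) ≃ (Σ x : X, {n : N // (g * (n : G)) • x = x}) :=
    { toFun := fun p => ⟨p.2.1, p.1, p.2.2⟩
      invFun := fun p => ⟨p.2.1, p.1, p.2.2⟩
      left_inv := fun p => rfl
      right_inv := fun p => rfl }
  rw [← Nat.card_sigma, Nat.card_congr e, Nat.card_sigma]
  have hc : ∀ x : X, Nat.card {n : N // (g * (n : G)) • x = x} = Nat.card (stabilizer N x) := by
    intro x
    obtain ⟨n₀, hn₀, hn₀x⟩ := hT x (g⁻¹ • x)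
    have e2 : {n : N // (g * (n : G)) • x = x} ≃ stabilizer N x :=
      { toFun := fun n => ⟨(⟨n₀, hn₀⟩ : N)⁻¹ * n.1, by
          rw [mem_stabilizer_iff, mul_smul]
          have h1 : (n.1 : G) • x = g⁻¹ • x := by
            have := n.2
            rw [mul_smul] at this
            exact eq_inv_smul_iff.mpr this
          have h2 : (n.1 • x : X) = (n.1 : G) • x := rfl
          rw [h2, h1, ← hn₀x]
          change (n₀⁻¹ : G) • n₀ • x = x
          simp⟩
        invFun := fun s => ⟨(⟨n₀, hn₀⟩ : N) * s.1, by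
          have h1 : (s.1 : N) • x = x := s.2
          have h2 : ((s.1 : N) : G) • x = x := h1
          rw [Subgroup.coe_mul, mul_smul, mul_smul, h2]
          change g • n₀ • x = x
          rw [hn₀x]; simp⟩
        left_inv := fun n => by
          apply Subtype.ext
          simp
        right_inv := fun s => by
          apply Subtype.ext
          simp }
    exact Nat.card_congr e2
  have ho : ∀ x : X, Nat.card X * Nat.card (stabilizer N x) = Nat.card N := by
    intro x
    have h1 := Cfsg.Agent.Lib.SylowCount.card_orbit_mul_card_stabilizer (H := N) x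
    have h2 : orbit N x = Set.univ := by
      ext y
      simp only [Set.mem_univ, iff_true]
      obtain ⟨n, hn, hny⟩ := hT x y
      exact ⟨⟨n, hn⟩, hny⟩
    rw [h2] at h1
    simpa using h1
  obtain ⟨x₀⟩ := ‹Nonempty X›
  have hc2 : ∀ x : X, Nat.card {n : N // (g * (n : G)) • x = x} = Nat.card (stabilizer N x₀) := by
    intro x
    rw [hc]
    have h1 := ho x
    have h2 := ho x₀
    have hpos : 0 < Nat.card X := Nat.card_pos
    exact Nat.eq_of_mul_eq_mul_left hpos (h1.trans h2.symm)
  simp only [hc2]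
  rw [Finset.sum_const, smul_eq_mul, Finset.card_univ, ← Nat.card_eq_fintype_card]
  exact ho x₀

/-- A transitive group on at least two points contains a derangement. -/
theorem exists_derangement {G X : Type*} [Group G] [Finite G] [MulAction G X] [Finite X]
    (hT : ∀ x y : X, ∃ g : G, g • x = y) (hX : 1 < Nat.card X) : ∃ g : G, ∀ x : X, g • x ≠ x := by
  classical
  by_contra hcon
  push Not at hcon
  haveI := Fintype.ofFinite G
  haveI := Fintype.ofFinite X
  haveI : Nonempty X := (Nat.card_pos_iff.mp (by omega)).1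
  have h := sum_fix_coset (⊤ : Subgroup G) (X := X) (fun x y => by
    obtain ⟨g, hg⟩ := hT x y
    exact ⟨g, Subgroup.mem_top g, hg⟩) 1
  have hone : ∀ n : (⊤ : Subgroup G), 1 ≤ Nat.card (fixedBy X ((1 : G) * (n : G))) := by
    intro n
    obtain ⟨x, hx⟩ := hcon n
    haveI : Nonempty (fixedBy X ((1 : G) * (n : G))) := ⟨⟨x, by simpa using hx⟩⟩
    exact Nat.card_pos
  have hsum : ∑ n : (⊤ : Subgroup G), 1 < ∑ n : (⊤ : Subgroup G), Nat.card (fixedBy X ((1 : G) * (n : G))) := by
    apply Finset.sum_lt_sum (fun n _ => hone n)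
    refine ⟨1, Finset.mem_univ _, ?_⟩
    have : fixedBy X ((1 : G) * ((1 : (⊤ : Subgroup G)) : G)) = Set.univ := by
      ext x; simp
    rw [this]
    simpa using hX
  rw [h] at hsum
  simp [Nat.card_eq_fintype_card] at hsum

/-- The subgroup generated by the derangements. -/
abbrev D (G Ω : Type*) [Group G] [MulAction G Ω] : Subgroup G :=
  Subgroup.closure {g : G | ∀ ω : Ω, g • ω ≠ ω}

variable {G Ω : Type*} [Group G] [MulAction G Ω]

theorem normal_closure_of_conj {G : Type*} [Group G] (S : Set G)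
    (h : ∀ x ∈ S, ∀ g : G, g * x * g⁻¹ ∈ S) : (Subgroup.closure S).Normal := by
  refine ⟨fun n hn g => ?_⟩
  induction hn using Subgroup.closure_induction with
  | mem x hx => exact Subgroup.subset_closure (h x hx g)
  | one => simp
  | mul x y _ _ hx hy =>
    have : g * (x * y) * g⁻¹ = (g * x * g⁻¹) * (g * y * g⁻¹) := by group
    rw [this]
    exact mul_mem hx hy
  | inv x _ hx =>
    have : g * x⁻¹ * g⁻¹ = (g * x * g⁻¹)⁻¹ := by group
    rw [this]
    exact inv_mem hx

instance D_normal : (D G Ω).Normal := by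
  apply normal_closure_of_conj
  intro x hx g ω hω
  apply hx (g⁻¹ • ω)
  have h1 : (g * x * g⁻¹) • ω = ω := hω
  rw [mul_smul, mul_smul] at h1
  exact (eq_inv_smul_iff.mpr h1)

theorem D_transitive [Finite G] [Finite Ω] (hT : ∀ x y : Ω, ∃ g : G, g • x = y) :
    ∀ x y : Ω, ∃ d ∈ D G Ω, d • x = y := by
  classical
  intro x y
  let O : Set Ω := {z | ∃ d ∈ D G Ω, d • x = z}
  have hO : ∀ h : G, ∀ z : Ω, z ∈ h • O ↔ ∃ d ∈ D G Ω, d • (h • x) = z := by
    intro h z
    constructor
    · rintro ⟨w, ⟨d, hd, rfl⟩, rfl⟩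
      refine ⟨h * d * h⁻¹, (D_normal (G := G) (Ω := Ω)).conj_mem d hd h, ?_⟩
      simp [mul_smul]
    · rintro ⟨d, hd, rfl⟩
      refine ⟨h⁻¹ • d • h • x, ⟨h⁻¹ * d * h, ?_, by simp [mul_smul]⟩, by simp⟩
      have := (D_normal (G := G) (Ω := Ω)).conj_mem d hd h⁻¹
      simpa using this
  -- if all translates agree, we are done
  by_cases hall : ∀ g : G, g • O = O
  · obtain ⟨g, hg⟩ := hT x y
    have hxO : x ∈ O := ⟨1, one_mem _, by simp⟩
    have : y ∈ g • O := ⟨x, hxO, hg⟩
    rw [hall g] at this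
    exact this
  exfalso
  push Not at hall
  obtain ⟨g₀, hg₀⟩ := hall
  let Y := {S : Set Ω // ∃ h : G, S = h • O}
  letI : MulAction G Y :=
    { smul := fun g S => ⟨g • S.1, by
        obtain ⟨h, hh⟩ := S.2
        exact ⟨g * h, by rw [hh, mul_smul]⟩⟩
      one_smul := fun S => by
        apply Subtype.ext
        exact one_smul _ _
      mul_smul := fun a b S => by
        apply Subtype.ext
        exact mul_smul _ _ _ }
  have hYsm : ∀ (g : G) (S : Y), (g • S).1 = g • S.1 := fun _ _ => rfl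
  haveI : Finite Y := by
    unfold Y
    infer_instance
  have hYT : ∀ S S' : Y, ∃ g : G, g • S = S' := by
    rintro ⟨S, h, rfl⟩ ⟨S', h', rfl⟩
    refine ⟨h' * h⁻¹, Subtype.ext ?_⟩
    rw [hYsm]
    simp [mul_smul]
  have hYcard : 1 < Nat.card Y := by
    refine Finite.one_lt_card_iff_nontrivial.mpr ⟨⟨⟨O, 1, by simp⟩, ⟨g₀ • O, g₀, rfl⟩, ?_⟩⟩
    intro h
    exact hg₀ (congrArg Subtype.val h).symm
  obtain ⟨g, hg⟩ := exists_derangement hYT hYcard
  have hgD : g ∈ D G Ω := by
    apply Subgroup.subset_closure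
    intro ω hω
    obtain ⟨h, rfl⟩ := hT x ω
    apply hg ⟨h • O, h, rfl⟩
    apply Subtype.ext
    rw [hYsm]
    ext z
    simp only []
    rw [← mul_smul, hO, hO, mul_smul, hω]
  apply hg ⟨O, 1, by simp⟩
  apply Subtype.ext
  rw [hYsm]
  ext z
  simp only []
  constructor
  · rintro ⟨w, ⟨d, hd, rfl⟩, rfl⟩
    exact ⟨g * d, mul_mem hgD hd, by simp [mul_smul]⟩
  · rintro ⟨d, hd, rfl⟩
    exact ⟨g⁻¹ • d • x, ⟨g⁻¹ * d, mul_mem (inv_mem hgD) hd, by simp [mul_smul]⟩, by simp⟩

/-- Elements outside `D` have exactly one fixed point. -/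
theorem card_fixedBy_eq_one [Finite G] [Finite Ω] [Nonempty Ω]
    (hT : ∀ x y : Ω, ∃ g : G, g • x = y) (g : G) (hg : g ∉ D G Ω) :
    Nat.card (fixedBy Ω g) = 1 := by
  classical
  haveI := Fintype.ofFinite (D G Ω)
  have hsum := sum_fix_coset (D G Ω) (D_transitive (G := G) hT) g
  have hone : ∀ n : D G Ω, 1 ≤ Nat.card (fixedBy Ω (g * (n : G))) := by
    intro n
    have hgn : g * (n : G) ∉ D G Ω := fun h => hg (by
      have := mul_mem h (inv_mem n.2)
      simpa using this)
    have : ∃ ω : Ω, (g * (n : G)) • ω = ω := by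
      by_contra hcon
      push Not at hcon
      exact hgn (Subgroup.subset_closure hcon)
    obtain ⟨ω, hω⟩ := this
    haveI : Nonempty (fixedBy Ω (g * (n : G))) := ⟨⟨ω, hω⟩⟩
    exact Nat.card_pos
  by_contra hne
  have h1 : 1 < Nat.card (fixedBy Ω (g * ((1 : D G Ω) : G))) := by
    have := hone 1
    simp only [OneMemClass.coe_one, mul_one] at this ⊢
    omega
  have hlt : ∑ n : D G Ω, 1 < ∑ n : D G Ω, Nat.card (fixedBy Ω (g * (n : G))) :=
    Finset.sum_lt_sum (fun n _ => hone n) ⟨1, Finset.mem_univ _, h1⟩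
  rw [hsum] at hlt
  simp [Nat.card_eq_fintype_card] at hlt

/-- Elements with at least two fixed points lie in `D`. -/
theorem mem_D_of_two_fixed [Finite G] [Finite Ω] [Nonempty Ω]
    (hT : ∀ x y : Ω, ∃ g : G, g • x = y) (g : G) {a b : Ω} (hab : a ≠ b) (ha : g • a = a)
    (hb : g • b = b) : g ∈ D G Ω := by
  by_contra hg
  have h1 := card_fixedBy_eq_one hT g hg
  have h2 : (fixedBy Ω g).ncard = 1 := by
    rw [← Nat.card_coe_set_eq]; exact h1
  rw [Set.ncard_eq_one] at h2
  obtain ⟨c, hc⟩ := h2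
  have ha' : a ∈ fixedBy Ω g := ha
  have hb' : b ∈ fixedBy Ω g := hb
  rw [hc] at ha' hb'
  exact hab (ha'.trans hb'.symm)

end Cfsg.Agent.Lib.H6Derange
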