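import Mathlib
import Cfsg.Agent.Lib.H6Basic
import Cfsg.Agent.Lib.H6Derange

/-!
Class sizes and Sylow subgroups (helper6).
-/

set_option autoImplicit false
set_option linter.all false

namespace Cfsg.Agent.Lib.H6ClassSize

open Subgroup

variable {G : Type*} [Group G]

/-- A nontrivial `p`-subgroup has a nontrivial central element of `p`-power order. -/
theorem exists_central_elem [Finite G] {p : ℕ} [Fact p.Prime] (P : Subgroup G) (hP : IsPGroup p P)
    (hne : P ≠ ⊥) : ∃ x ∈ P, x ≠ 1 ∧ (∀ y ∈ P, x * y = y * x) ∧ ∃ j, orderOf x = p ^ j := by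
  haveI : Nontrivial P := by
    rw [Subgroup.nontrivial_iff_ne_bot]
    exact hne
  haveI : Nontrivial (center P) := IsPGroup.center_nontrivial hP
  obtain ⟨z, hz⟩ := exists_ne (1 : center P)
  refine ⟨(z : P), (z : P).2, ?_, ?_, ?_⟩
  · intro h
    apply hz
    apply Subtype.ext
    apply Subtype.ext
    exact h
  · intro y hy
    have := Subgroup.mem_center_iff.1 z.2 ⟨y, hy⟩
    exact (congrArg Subtype.val this).symm
  · obtain ⟨j, hj⟩ := (IsPGroup.iff_orderOf.1 hP) (z : P)
    refine ⟨j, ?_⟩
    rw [← hj]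
    exact Subgroup.orderOf_coe (z : P)

/-- For commuting elements of coprime orders, `x` is a power of `x * y`. -/
theorem mem_zpowers_mul [Finite G] {x y : G} (hc : Commute x y) (hcop : (orderOf x).Coprime (orderOf y)) :
    x ∈ zpowers (x * y) := by
  let e := Nat.chineseRemainder hcop 1 0
  have h1 : (e : ℕ) ≡ 1 [MOD orderOf x] := e.2.1
  have h2 : (e : ℕ) ≡ 0 [MOD orderOf y] := e.2.2
  refine ⟨(e : ℕ), ?_⟩
  simp only [zpow_natCast]
  rw [hc.mul_pow, (pow_eq_pow_iff_modEq (x := x)).2 h1, (pow_eq_pow_iff_modEq (x := y)).2 h2]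
  simp

/-- The centralizer of a product of commuting elements of coprime orders. -/
theorem centralizer_mul_le [Finite G] {x y : G} (hc : Commute x y)
    (hcop : (orderOf x).Coprime (orderOf y)) :
    centralizer ({x * y} : Set G) ≤ centralizer ({x} : Set G) := by
  intro c hcc
  rw [Subgroup.mem_centralizer_singleton_iff] at hcc ⊢
  obtain ⟨n, hn⟩ := mem_zpowers_mul hc hcop
  simp only at hn
  have h1 : Commute c ((x * y) ^ n) := (show Commute c (x * y) from hcc).zpow_right n
  rw [hn] at h1
  exact h1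

/-- If `p` does not divide the index of `K`, then `K` contains a conjugate of any Sylow subgroup. -/
theorem exists_conj_sylow_le [Finite G] {p : ℕ} [Fact p.Prime] (P : Sylow p G) (K : Subgroup G)
    (hK : ¬ p ∣ K.index) : ∃ g : G, ((g • P : Sylow p G) : Subgroup G) ≤ K := by
  classical
  have hp : p.Prime := Fact.out
  obtain ⟨Q⟩ : Nonempty (Sylow p K) := inferInstance
  have hc : Nat.card ((Q : Subgroup K).map K.subtype) = p ^ (Nat.card G).factorization p := by
    rw [Subgroup.card_map_of_injective K.subtype_injective, Q.card_eq_multiplicity,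
      ← K.card_mul_index, Nat.factorization_mul (Nat.card_pos).ne' Subgroup.index_ne_zero_of_finite,
      Finsupp.add_apply, Nat.factorization_eq_zero_of_not_dvd hK, add_zero]
  let R : Sylow p G := Sylow.ofCard _ hc
  obtain ⟨g, hg⟩ := MulAction.exists_smul_eq G P R
  refine ⟨g, ?_⟩
  rw [hg]
  change (Sylow.ofCard _ hc : Subgroup G) ≤ K
  rw [Sylow.coe_ofCard]
  exact Subgroup.map_subtype_le _

/-- If no class size is divisible by `p`, the Sylow `p`-subgroups are central. -/
theorem sylow_le_center [Finite G] {p : ℕ} [Fact p.Prime] (P : Sylow p G)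
    (h : ∀ x : G, ¬ p ∣ (centralizer ({x} : Set G)).index) : (P : Subgroup G) ≤ center G := by
  classical
  set C := centralizer ((P : Subgroup G) : Set G) with hC
  have htop : C = ⊤ := by
    by_contra hne
    have hX : 1 < Nat.card (G ⧸ C) := by
      have h1 : C.index ≠ 1 := fun h1 => hne (Subgroup.index_eq_one.1 h1)
      have h0 : C.index ≠ 0 := Subgroup.index_ne_zero_of_finite
      change 1 < C.index
      omega
    obtain ⟨d, hd⟩ := Cfsg.Agent.Lib.H6Derange.exists_derangement (G := G) (X := G ⧸ C)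
      (fun x y => by
        obtain ⟨a, rfl⟩ := QuotientGroup.mk_surjective x
        obtain ⟨b, rfl⟩ := QuotientGroup.mk_surjective y
        refine ⟨b * a⁻¹, ?_⟩
        rw [MulAction.Quotient.smul_coe]
        simp) hX
    obtain ⟨g, hg⟩ := exists_conj_sylow_le P (centralizer ({d} : Set G)) (h d)
    apply hd (g : G ⧸ C)
    rw [MulAction.Quotient.smul_coe, QuotientGroup.eq]
    simp only [smul_eq_mul]
    rw [hC, Subgroup.mem_centralizer_iff]
    intro y hy
    have h2 := hg (by
      rw [Sylow.coe_subgroup_smul]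
      exact Subgroup.smul_mem_pointwise_smul y (MulAut.conj g) _ hy)
    rw [Subgroup.mem_centralizer_singleton_iff] at h2
    simp only [MulAut.smul_def, MulAut.conj_apply] at h2
    have h3 : (g * y * g⁻¹) * d = d * (g * y * g⁻¹) := h2
    have h4 : (g * y * g⁻¹) * d⁻¹ = d⁻¹ * (g * y * g⁻¹) := (show Commute _ _ from h3).inv_right
    calc y * ((d * g)⁻¹ * g) = g⁻¹ * ((g * y * g⁻¹) * d⁻¹) * g := by group
      _ = g⁻¹ * (d⁻¹ * (g * y * g⁻¹)) * g := by rw [h4]
      _ = ((d * g)⁻¹ * g) * y := by group
  intro y hy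
  rw [Subgroup.mem_center_iff]
  intro z
  have : z ∈ C := by rw [htop]; trivial
  exact (Subgroup.mem_centralizer_iff.1 this) y hy |> fun h => h.symm ▸ rfl

end Cfsg.Agent.Lib.H6ClassSize
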