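import Mathlib
import Cfsg.Agent.Lib.FitCore
import Cfsg.Agent.Lib.CoprimeAB
import Cfsg.Agent.Lib.PResidual
import Cfsg.Agent.Lib.H2Basic
import Cfsg.Prelude.Def_OddOrderLocal

/-!
# The subgroup `M_F` and type-`P` data
-/

set_option autoImplicit false
set_option linter.all false

namespace Cfsg.Agent.Lib.TypeP

open Cfsg

theorem card_compl {G : Type*} [Group G] [Finite G] {A B M : Subgroup G} (h : Cfsg.IsComplIn A B M) :
    Nat.card A * Nat.card B = Nat.card M := by
  obtain ⟨hA, hB, hd, hm⟩ := h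
  have h1 : Nat.card A * Nat.card B = Nat.card (↥A × ↥B) := Nat.card_prod _ _ |>.symm
  rw [h1]
  refine Nat.card_congr (Equiv.ofBijective (fun p : ↥A × ↥B => (⟨p.1 * p.2, M.mul_mem (hA p.1.2) (hB p.2.2)⟩ : M)) ⟨?_, ?_⟩)
  · rintro ⟨a, b⟩ ⟨a', b'⟩ e
    have e1 : (a : G) * b = a' * b' := congrArg Subtype.val e
    have e2 : (a' : G)⁻¹ * a = b' * (b : G)⁻¹ := by
      calc (a' : G)⁻¹ * a = (a' : G)⁻¹ * (a * b) * (b : G)⁻¹ := by group
        _ = (a' : G)⁻¹ * (a' * b') * (b : G)⁻¹ := by rw [e1]
        _ = b' * (b : G)⁻¹ := by group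
    have e3 : (a' : G)⁻¹ * a ∈ A ⊓ B := ⟨A.mul_mem (A.inv_mem a'.2) a.2, by rw [e2]; exact B.mul_mem b'.2 (B.inv_mem b.2)⟩
    rw [hd, Subgroup.mem_bot] at e3
    have e4 : (a : G) = a' := by
      have := inv_mul_eq_one.1 e3
      exact this.symm
    have e5 : (b : G) = b' := by
      rw [e4] at e1
      exact mul_left_cancel e1
    exact Prod.ext (Subtype.ext e4) (Subtype.ext e5)
  · rintro ⟨m, hm'⟩
    obtain ⟨a, ha, b, hb, e⟩ := hm m hm'
    exact ⟨(⟨a, ha⟩, ⟨b, hb⟩), Subtype.ext e.symm⟩

theorem relIndex_mul_card {G : Type*} [Group G] [Finite G] {B M : Subgroup G} (h : B ≤ M) :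
    Nat.card B * B.relIndex M = Nat.card M := by
  have h2 : Nat.card (B.subgroupOf M) * (B.subgroupOf M).index = Nat.card M := Subgroup.card_mul_index _
  have h3 : Nat.card (B.subgroupOf M) = Nat.card B :=
    Nat.card_congr (Subgroup.subgroupOfEquivOfLe h).toEquiv
  rw [h3] at h2
  exact h2

theorem relIndex_eq {G : Type*} [Group G] [Finite G] {A B M : Subgroup G} (h : Cfsg.IsComplIn A B M) :
    B.relIndex M = Nat.card A := by
  have h1 := card_compl h
  have h2 := relIndex_mul_card h.2.1
  have hpos : 0 < Nat.card B := Nat.card_pos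
  apply Nat.eq_of_mul_eq_mul_left hpos
  rw [h2, ← h1, mul_comm]

section hall

variable {M : Type*} [Group M] [Finite M]

theorem coprime_sup (A B : Subgroup M) (hA : A.Normal) (hcA : (Nat.card A).Coprime A.index)
    (hcB : (Nat.card B).Coprime B.index) : (Nat.card ↥(A ⊔ B)).Coprime (A ⊔ B).index := by
  apply Nat.coprime_of_dvd
  intro p hp h1 h2
  by_cases hpA : p ∣ Nat.card A
  · have h3 : (A ⊔ B).index ∣ A.index := Subgroup.index_dvd_of_le le_sup_left
    exact Nat.Prime.not_coprime_iff_dvd.2 ⟨p, hp, hpA, h2.trans h3⟩ hcA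
  · by_cases hpB : p ∣ Nat.card B
    · have h3 : (A ⊔ B).index ∣ B.index := Subgroup.index_dvd_of_le le_sup_right
      exact Nat.Prime.not_coprime_iff_dvd.2 ⟨p, hp, hpB, h2.trans h3⟩ hcB
    · exact Cfsg.Agent.Lib.FitCore.not_dvd_card_sup p hp A B hA hpA hpB h1

theorem fittingHall_coprime : (Nat.card (fittingHall M)).Coprime (fittingHall M).index := by
  apply Cfsg.Agent.Lib.FitCore.sSup_induction (fun N : Subgroup M => (Nat.card N).Coprime N.index)
  · simp
  · intro A B hA _ hcA hcB
    exact coprime_sup A B hA hcA hcB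
  · intro N hN
    exact ⟨hN.1, hN.2.2⟩

theorem fittingHall_le_fitting : fittingHall M ≤ fittingSubgroup M := by
  apply sSup_le
  intro N hN
  exact Cfsg.Agent.Lib.FitCore.le_fitting N hN.1 hN.2.1

theorem fittingHall_nilpotent : Group.IsNilpotent (fittingHall M) := by
  haveI : Group.IsNilpotent (fittingSubgroup M) := Cfsg.Agent.Lib.FitCore.fitting_isNilpotent
  exact nilpotent_of_mulEquiv (Subgroup.subgroupOfEquivOfLe (fittingHall_le_fitting (M := M)))

theorem le_fittingHall (N : Subgroup M) (hN : N.Normal) (hn : Group.IsNilpotent N)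
    (hc : (Nat.card N).Coprime N.index) : N ≤ fittingHall M :=
  le_sSup ⟨hN, hn, hc⟩

end hall

/-- In a finite nilpotent group, elements of coprime orders commute. -/
theorem nilp_comm_coprime {N : Type*} [Group N] [Finite N] [Group.IsNilpotent N] (n : ℕ) :
    ∀ x : N, orderOf x = n → ∀ u : N, (orderOf x).Coprime (orderOf u) → x * u = u * x := by
  induction n using Nat.strong_induction_on with
  | _ n ih =>
    intro x hx u hcop
    by_cases h1 : n = 1
    · subst h1
      rw [orderOf_eq_one_iff] at hx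
      simp [hx]
    obtain ⟨s, hs, hsn⟩ := Nat.exists_prime_and_dvd h1
    haveI : Fact s.Prime := ⟨hs⟩
    obtain ⟨y, z, e, hc, hyc, ⟨k, hzo⟩, hyz, hzz⟩ := Cfsg.Agent.Lib.PResidual.exists_decomp (p := s) x
    have hsu : (orderOf u).Coprime s := by
      rw [hx] at hcop
      exact (hcop.coprime_dvd_left hsn).symm
    have hzS : IsPGroup s (Subgroup.zpowers z) := by
      rw [IsPGroup.iff_card, Nat.card_zpowers]
      exact ⟨k, hzo⟩
    obtain ⟨S, hS⟩ := hzS.exists_le_sylow
    have hzu : z * u = u * z :=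
      Cfsg.Agent.Lib.CoprimeAB.nilp_comm s S (hS (Subgroup.mem_zpowers z)) hsu
    have hyn : orderOf y ∣ n := by
      rw [← hx]
      exact orderOf_dvd_of_mem_zpowers hyz
    have hnpos : 0 < n := by
      rw [← hx]
      exact orderOf_pos x
    have hlt : orderOf y < n := by
      apply lt_of_le_of_ne (Nat.le_of_dvd hnpos hyn)
      intro e'
      rw [e'] at hyc
      exact hs.one_lt.ne' (Nat.eq_one_of_dvd_coprimes hyc hsn dvd_rfl)
    have hyu : y * u = u * y := by
      apply ih _ hlt y rfl u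
      rw [hx] at hcop
      exact hcop.coprime_dvd_left hyn
    rw [e]
    calc y * z * u = y * (z * u) := by group
      _ = y * (u * z) := by rw [hzu]
      _ = (y * u) * z := by group
      _ = (u * y) * z := by rw [hyu]
      _ = u * (y * z) := by group

section sub

variable {G : Type*} [Group G] [Finite G] (M : Subgroup G)

theorem fittingHallOf_le : fittingHallOf M ≤ M := by
  rintro _ ⟨x, -, rfl⟩
  exact x.2

theorem card_fittingHallOf : Nat.card (fittingHallOf M) = Nat.card (fittingHall M) :=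
  Nat.card_congr (Subgroup.equivMapOfInjective _ _ M.subtype_injective).toEquiv.symm

theorem fittingHallOf_subgroupOf : (fittingHallOf M).subgroupOf M = fittingHall M :=
  Subgroup.comap_map_eq_self_of_injective M.subtype_injective _

theorem fittingHallOf_coprime : (Nat.card (fittingHallOf M)).Coprime ((fittingHallOf M).relIndex M) := by
  rw [Subgroup.relIndex, fittingHallOf_subgroupOf, card_fittingHallOf]
  exact fittingHall_coprime

theorem fittingOf_nilpotent : Group.IsNilpotent (fittingOf M) := by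
  haveI : Group.IsNilpotent (fittingSubgroup M) := Cfsg.Agent.Lib.FitCore.fitting_isNilpotent
  exact nilpotent_of_mulEquiv (Subgroup.equivMapOfInjective (fittingSubgroup M) M.subtype M.subtype_injective)

/-- A subgroup of `M` normal in `M`, nilpotent and Hall lies in `M_F`. -/
theorem le_fittingHallOf (N : Subgroup G) (hNM : N ≤ M) (hN : M ≤ Subgroup.normalizer (N : Set G))
    (hn : Group.IsNilpotent N) (hc : (Nat.card N).Coprime (N.relIndex M)) : N ≤ fittingHallOf M := by
  intro x hx
  have h1 : N.subgroupOf M ≤ fittingHall M := by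
    apply le_fittingHall
    · exact (Subgroup.normal_subgroupOf_iff_le_normalizer hNM).2 hN
    · exact nilpotent_of_mulEquiv (Subgroup.subgroupOfEquivOfLe hNM).symm
    · rw [show Nat.card (N.subgroupOf M) = Nat.card N from Nat.card_congr (Subgroup.subgroupOfEquivOfLe hNM).toEquiv]
      exact hc
  exact ⟨⟨x, hNM hx⟩, h1 (by simpa [Subgroup.mem_subgroupOf] using hx), rfl⟩

theorem comm_of_mem_fittingOf {a b : G} (ha : a ∈ fittingOf M) (hb : b ∈ fittingOf M)
    (hc : (orderOf a).Coprime (orderOf b)) : a * b = b * a := by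
  haveI := fittingOf_nilpotent M
  have h1 := nilp_comm_coprime (N := fittingOf M) _ ⟨a, ha⟩ rfl ⟨b, hb⟩ (by
    simpa [Subgroup.orderOf_mk] using hc)
  exact congrArg Subtype.val h1

end sub

section typeP

variable {G : Type*} [Group G] [Finite G] {M W₁ U W₂ : Subgroup G}

theorem relIndex_H (hP : IsTypePWith M W₁ U W₂) :
    (fittingHallOf M).relIndex M = Nat.card U * Nat.card W₁ := by
  have h1 := card_compl hP.U_compl
  have h2 := card_compl hP.W₁_compl
  have h3 := relIndex_mul_card (fittingHallOf_le M)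
  have hpos : 0 < Nat.card (fittingHallOf M) := Nat.card_pos
  apply Nat.eq_of_mul_eq_mul_left hpos
  rw [h3, ← h2, ← h1, mul_assoc]

theorem coprime_H_U (hP : IsTypePWith M W₁ U W₂) : (Nat.card (fittingHallOf M)).Coprime (Nat.card U) := by
  have h := fittingHallOf_coprime M
  rw [relIndex_H hP] at h
  exact h.coprime_dvd_right (dvd_mul_right _ _)

theorem coprime_W_M' (hP : IsTypePWith M W₁ U W₂) : (Nat.card W₁).Coprime (Nat.card ↥⁅M, M⁆) := by
  have := hP.W₁_hall
  rwa [relIndex_eq hP.W₁_compl] at this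

theorem H_le_F (hP : IsTypePWith M W₁ U W₂) : fittingHallOf M ≤ fittingOf M := by
  rw [← hP.fitting_eq]
  exact le_sup_left

theorem comm_H_U_F (hP : IsTypePWith M W₁ U W₂) {u h : G} (hu : u ∈ U) (huF : u ∈ fittingOf M)
    (hh : h ∈ fittingHallOf M) : h * u = u * h := by
  apply comm_of_mem_fittingOf M (H_le_F hP hh) huF
  have h1 : orderOf h ∣ Nat.card (fittingHallOf M) := Subgroup.orderOf_dvd_natCard _ hh
  have h2 : orderOf u ∣ Nat.card U := Subgroup.orderOf_dvd_natCard _ hu
  exact Nat.Coprime.coprime_dvd_left h1 ((coprime_H_U hP).coprime_dvd_right h2)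

theorem fitting_eq_sup (hP : IsTypePWith M W₁ U W₂) :
    fittingOf M = fittingHallOf M ⊔ (U ⊓ Subgroup.centralizer (fittingHallOf M : Set G)) := by
  apply le_antisymm
  · intro f hf
    obtain ⟨h, hh, u, hu, e⟩ := hP.U_compl.2.2.2 f (hP.fitting_le hf)
    have huF : u ∈ fittingOf M := by
      have : u = h⁻¹ * f := by rw [e]; group
      rw [this]
      exact Subgroup.mul_mem _ (Subgroup.inv_mem _ (H_le_F hP hh)) hf
    have huC : u ∈ Subgroup.centralizer (fittingHallOf M : Set G) := by
      refine Subgroup.mem_centralizer_iff.2 ?_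
      intro h' hh'
      exact comm_H_U_F hP hu huF hh'
    rw [e]
    exact Subgroup.mul_mem _ ((le_sup_left : fittingHallOf M ≤ _) hh) ((le_sup_right : _ ≤ fittingHallOf M ⊔ _) ⟨hu, huC⟩)
  · apply sup_le (H_le_F hP)
    rw [← hP.fitting_eq]
    intro x hx
    exact (le_sup_right : _ ≤ fittingHallOf M ⊔ _) ⟨hP.W₁_compl.1 (hP.U_compl.2.1 hx.1), hx.2⟩

theorem derived_U_centralizes (hP : IsTypePWith M W₁ U W₂) :
    ⁅U, U⁆ ≤ Subgroup.centralizer (fittingHallOf M : Set G) := by
  intro y hy
  have hyU : y ∈ U := (Subgroup.commutator_le.2 (fun a ha b hb => by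
    rw [commutatorElement_def]
    exact U.mul_mem (U.mul_mem (U.mul_mem ha hb) (U.inv_mem ha)) (U.inv_mem hb))) hy
  have hyF : y ∈ fittingOf M := by
    rw [← hP.fitting_eq]
    apply hP.derived_two_le
    exact Subgroup.commutator_mono hP.U_compl.2.1 hP.U_compl.2.1 hy
  refine Subgroup.mem_centralizer_iff.2 ?_
  intro h' hh'
  exact comm_H_U_F hP hyU hyF hh'

theorem U_not_centralizes (hP : IsTypePWith M W₁ U W₂) (hU : U ≠ ⊥) :
    ¬ U ≤ Subgroup.centralizer (fittingHallOf M : Set G) := by
  intro hc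
  apply hU
  have hUM' := hP.U_compl.2.1
  have hUM : U ≤ M := hUM'.trans hP.W₁_compl.1
  have hnorm : M ≤ Subgroup.normalizer (U : Set G) := by
    intro m hm
    obtain ⟨c, hc', w, hw, e⟩ := hP.W₁_compl.2.2.2 m hm
    obtain ⟨h, hh, u, hu, e'⟩ := hP.U_compl.2.2.2 c hc'
    have h1 : h ∈ Subgroup.normalizer (U : Set G) := by
      apply Cfsg.Agent.Lib.H2Basic.mem_normalizer_of_forall_comm
      intro b hb
      exact Subgroup.mem_centralizer_iff.1 (hc hb) h hh
    have h2 : u ∈ Subgroup.normalizer (U : Set G) := Subgroup.le_normalizer hu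
    rw [e, e']
    exact Subgroup.mul_mem _ (Subgroup.mul_mem _ h1 h2) (hP.U_normal hw)
  have hcop : (Nat.card U).Coprime (U.relIndex M) := by
    have h1 := relIndex_mul_card hUM
    have h2 := card_compl hP.U_compl
    have h3 := card_compl hP.W₁_compl
    have h4 : U.relIndex M = Nat.card (fittingHallOf M) * Nat.card W₁ := by
      have hpos : 0 < Nat.card U := Nat.card_pos
      apply Nat.eq_of_mul_eq_mul_left hpos
      rw [h1, ← h3, ← h2]
      ring
    rw [h4]
    apply Nat.Coprime.mul_right (coprime_H_U hP).symm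
    exact ((coprime_W_M' hP).coprime_dvd_right (Subgroup.card_dvd_of_le hUM')).symm
  have hle := le_fittingHallOf M U hUM hnorm hP.U_nilpotent hcop
  apply le_bot_iff.1
  intro x hx
  rw [← hP.U_compl.2.2.1]
  exact ⟨hle hx, hx⟩

end typeP

end Cfsg.Agent.Lib.TypeP
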