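import Mathlib
import Cfsg.Agent.Lib.H6PiPart
import Cfsg.Agent.Lib.TypeP

/-!
# Groups with a nilpotent minimal cover
-/

set_option autoImplicit false
set_option linter.unusedSectionVars false
set_option linter.style.haveILetI false

namespace Cfsg.Agent.Lib.H6Cover

open Subgroup Cfsg.Agent.Lib.H6PiPart

variable {G : Type*} [Group G] [Finite G]

/-- A minimal cover all of whose members are nilpotent. -/
structure MinCov (𝓐 : Finset (Subgroup G)) : Prop where
  proper : ∀ A ∈ 𝓐, A ≠ ⊤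
  cover : ∀ g : G, ∃ A ∈ 𝓐, g ∈ A
  min : ∀ 𝓑 : Finset (Subgroup G), (∀ A ∈ 𝓑, A ≠ ⊤) ∧ (∀ g : G, ∃ A ∈ 𝓑, g ∈ A) → 𝓐.card ≤ 𝓑.card
  nilp : ∀ A ∈ 𝓐, Group.IsNilpotent ↥A

variable {𝓐 : Finset (Subgroup G)}

theorem unique_le (h : MinCov 𝓐) {D : Subgroup G} (hD : D ≠ ⊤) {A B : Subgroup G}
    (hA : A ∈ 𝓐) (hB : B ∈ 𝓐) (hAD : A ≤ D) (hBD : B ≤ D) : A = B := by
  classical
  let 𝓒 : Finset (Subgroup G) := insert D (𝓐.filter fun X => ¬ X ≤ D)
  have h1 := h.min 𝓒 ⟨by
      intro X hX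
      rcases Finset.mem_insert.1 hX with rfl | hX
      · exact hD
      · exact h.proper X (Finset.mem_filter.1 hX).1, by
      intro g
      obtain ⟨X, hX, hgX⟩ := h.cover g
      by_cases hXD : X ≤ D
      · exact ⟨D, Finset.mem_insert_self _ _, hXD hgX⟩
      · exact ⟨X, Finset.mem_insert_of_mem (Finset.mem_filter.2 ⟨hX, hXD⟩), hgX⟩⟩
  have hcard : 𝓒.card ≤ (𝓐.filter fun X => ¬ X ≤ D).card + 1 := Finset.card_insert_le _ _
  have hsplit := Finset.card_filter_add_card_filter_not (s := 𝓐) (fun X => X ≤ D)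
  have h2 : (𝓐.filter fun X => X ≤ D).card ≤ 1 := by omega
  exact Finset.card_le_one.1 h2 A (Finset.mem_filter.2 ⟨hA, hAD⟩) B (Finset.mem_filter.2 ⟨hB, hBD⟩)

section p
variable {p : ℕ} [hp : Fact p.Prime]

theorem piE_of_isPGroup {X : Type*} [Group X] [Finite X] {x : X} (hx : IsPGroup p (zpowers x)) :
    x ∈ PiE ({p} : Set ℕ) X := by
  intro q hq hd
  obtain ⟨k, hk⟩ := IsPGroup.iff_card.1 hx
  rw [Nat.card_zpowers] at hk
  rw [hk] at hd
  exact Set.mem_singleton_iff.2 ((Nat.prime_dvd_prime_iff_eq hq hp.out).1 (hq.dvd_of_dvd_pow hd))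

theorem isPGroup_of_piE {X : Type*} [Group X] [Finite X] {x : X} (hx : x ∈ PiE ({p} : Set ℕ) X) :
    IsPGroup p (zpowers x) := by
  have h0 : orderOf x ≠ 0 := (orderOf_pos x).ne'
  have h1 := Nat.eq_prime_pow_of_unique_prime_dvd (p := p) h0
    (fun {q} hq hd => Set.mem_singleton_iff.1 (hx q hq hd))
  exact IsPGroup.of_card (n := (orderOf x).primeFactorsList.length) (by
    rw [Nat.card_zpowers]; exact h1)

/-- A member of the cover containing a `p`-element centralizes it, when the Sylow `p`-subgroups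
are abelian. -/
theorem le_centralizer (h : MinCov 𝓐) (hcomm : ∀ Q : Sylow p G, ∀ x ∈ (Q : Subgroup G), ∀ y ∈ (Q : Subgroup G), x * y = y * x)
    {B : Subgroup G} (hB : B ∈ 𝓐) {x : G} (hxB : x ∈ B) (hx : IsPGroup p (zpowers x)) :
    B ≤ centralizer {x} := by
  haveI : Group.IsNilpotent ↥B := h.nilp B hB
  intro b hb
  rw [mem_centralizer_singleton_iff]
  let x' : B := ⟨x, hxB⟩
  let b' : B := ⟨b, hb⟩
  have hx'p : IsPGroup p (zpowers x') := by
    apply IsPGroup.of_card (n := (orderOf x).primeFactorsList.length)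
    rw [Nat.card_zpowers, Subgroup.orderOf_mk]
    exact Nat.eq_prime_pow_of_unique_prime_dvd (orderOf_pos x).ne'
      (fun {q} hq hd => Set.mem_singleton_iff.1 (piE_of_isPGroup (p := p) hx q hq hd))
  obtain ⟨g, -, t, -, hbgt, hg, ht⟩ := exists_decomp ({p} : Set ℕ) b'
  have hxt : x' * t = t * x' :=
    Cfsg.Agent.Lib.TypeP.nilp_comm_coprime (orderOf x') x' rfl t
      (coprime_of_parts (piE_of_isPGroup (p := p) hx'p) ht)
  -- `x'` and `g` lie in the normal Sylow subgroup of `B`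
  obtain ⟨S⟩ : Nonempty (Sylow p B) := inferInstance
  haveI hSn : (S : Subgroup B).Normal :=
    Sylow.normal_of_normalizerCondition normalizerCondition_of_isNilpotent S
  have hmemS : ∀ c : B, IsPGroup p (zpowers c) → c ∈ (S : Subgroup B) := by
    intro c hc
    have h1 : zpowers c ⊓ normalizer ((S : Subgroup B) : Set B) = zpowers c ⊓ (S : Subgroup B) :=
      hc.inf_normalizer_sylow S
    have h2 : c ∈ zpowers c ⊓ normalizer ((S : Subgroup B) : Set B) :=
      ⟨mem_zpowers c, by rw [normalizer_eq_top_iff.2 hSn]; trivial⟩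
    rw [h1] at h2
    exact h2.2
  have hxS := hmemS x' hx'p
  have hgS := hmemS g (isPGroup_of_piE hg)
  have hSp : IsPGroup p ((S : Subgroup B).map B.subtype) :=
    S.isPGroup'.map B.subtype
  obtain ⟨Q, hQ⟩ := hSp.exists_le_sylow
  have hxQ : x ∈ (Q : Subgroup G) := hQ ⟨x', hxS, rfl⟩
  have hgQ : (g : G) ∈ (Q : Subgroup G) := hQ ⟨g, hgS, rfl⟩
  have hxg : x * (g : G) = g * x := hcomm Q _ hxQ _ hgQ
  have h3 : b = g * t := congrArg Subtype.val hbgt
  have h4 : x * (t : G) = t * x := congrArg Subtype.val hxt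
  rw [h3, mul_assoc, ← h4, ← mul_assoc, ← hxg, mul_assoc]

theorem unique_member (hZ : center G = ⊥) (h : MinCov 𝓐)
    (hcomm : ∀ Q : Sylow p G, ∀ x ∈ (Q : Subgroup G), ∀ y ∈ (Q : Subgroup G), x * y = y * x)
    {A B : Subgroup G} (hA : A ∈ 𝓐) (hB : B ∈ 𝓐) {x : G} (hx1 : x ≠ 1)
    (hx : IsPGroup p (zpowers x)) (hxA : x ∈ A) (hxB : x ∈ B) : A = B := by
  apply unique_le h (D := centralizer {x}) _ hA hB (le_centralizer h hcomm hA hxA hx)
    (le_centralizer h hcomm hB hxB hx)
  intro htop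
  have h1 : x ∈ center G := by
    rw [mem_center_iff]
    intro g
    have h2 : g ∈ centralizer {x} := by rw [htop]; trivial
    exact mem_centralizer_singleton_iff.1 h2
  rw [hZ, mem_bot] at h1
  exact hx1 h1

theorem isPGroup_zpowers_of_mem {Q : Subgroup G} (hQ : IsPGroup p Q) {x : G} (hx : x ∈ Q) :
    IsPGroup p (zpowers x) := by
  apply hQ.to_le (zpowers_le.2 hx)

/-- Every Sylow subgroup that is cyclic or not of exponent `p` lies in a member of the cover. -/
theorem exists_member (hZ : center G = ⊥) (h : MinCov 𝓐)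
    (hcomm : ∀ Q : Sylow p G, ∀ x ∈ (Q : Subgroup G), ∀ y ∈ (Q : Subgroup G), x * y = y * x)
    (Q : Sylow p G) (hne : (Q : Subgroup G) ≠ ⊥)
    (hH : (∃ x, (Q : Subgroup G) ≤ zpowers x) ∨ ∃ x ∈ (Q : Subgroup G), x ^ p ≠ 1) :
    ∃ A ∈ 𝓐, (Q : Subgroup G) ≤ A := by
  have hQp := Q.isPGroup'
  rcases hH with ⟨x, hx⟩ | ⟨x, hxQ, hxp⟩
  · obtain ⟨A, hA, hxA⟩ := h.cover x
    exact ⟨A, hA, hx.trans (zpowers_le.2 hxA)⟩
  · obtain ⟨A, hA, hxpA⟩ := h.cover (x ^ p)
    have hxpQ : x ^ p ∈ (Q : Subgroup G) := pow_mem hxQ p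
    have hp0 := isPGroup_zpowers_of_mem hQp hxpQ
    -- elements of order `p`
    have hv : ∀ v ∈ (Q : Subgroup G), v ^ p = 1 → v ∈ A := by
      intro v hvQ hvp
      obtain ⟨B, hB, hxvB⟩ := h.cover (x * v)
      have hc : x * v = v * x := hcomm Q _ hxQ _ hvQ
      have h1 : (x * v) ^ p = x ^ p := by
        rw [(show Commute x v from hc).mul_pow, hvp, mul_one]
      have hBA : B = A := by
        apply unique_member hZ h hcomm hB hA hxp hp0
        · rw [← h1]; exact pow_mem hxvB p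
        · exact hxpA
      obtain ⟨A', hA', hxA'⟩ := h.cover x
      have hA'A : A' = A := by
        apply unique_member hZ h hcomm hA' hA hxp hp0
        · exact pow_mem hxA' p
        · exact hxpA
      rw [hA'A] at hxA'
      rw [hBA] at hxvB
      exact (Subgroup.mul_mem_cancel_left A hxA').1 hxvB
    refine ⟨A, hA, ?_⟩
    intro y hy
    by_cases hy1 : y = 1
    · rw [hy1]; exact one_mem A
    -- a power of `y` has order `p`
    have hyp := isPGroup_zpowers_of_mem hQp hy
    obtain ⟨k, hk⟩ := IsPGroup.iff_card.1 hyp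
    rw [Nat.card_zpowers] at hk
    have hk0 : k ≠ 0 := by
      rintro rfl
      rw [pow_zero, orderOf_eq_one_iff] at hk
      exact hy1 hk
    obtain ⟨j, rfl⟩ : ∃ j, k = j + 1 := ⟨k - 1, by omega⟩
    let w := y ^ p ^ j
    have hw1 : w ≠ 1 := by
      intro hw
      have h2 := orderOf_dvd_of_pow_eq_one hw
      rw [hk] at h2
      have h3 := (Nat.pow_dvd_pow_iff_le_right hp.out.one_lt).1 h2
      omega
    have hwp : w ^ p = 1 := by
      change (y ^ p ^ j) ^ p = 1
      rw [← pow_mul, ← pow_succ, ← hk, pow_orderOf_eq_one]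
    have hwQ : w ∈ (Q : Subgroup G) := pow_mem hy _
    have hwA : w ∈ A := hv w hwQ hwp
    obtain ⟨B, hB, hyB⟩ := h.cover y
    have hBA : B = A := by
      apply unique_member hZ h hcomm hB hA hw1 (isPGroup_zpowers_of_mem hQp hwQ)
      · exact pow_mem hyB _
      · exact hwA
    rwa [hBA] at hyB

/-- A member containing a Sylow subgroup is its centralizer. -/
theorem centralizer_eq (hZ : center G = ⊥) (h : MinCov 𝓐)
    (hcomm : ∀ Q : Sylow p G, ∀ x ∈ (Q : Subgroup G), ∀ y ∈ (Q : Subgroup G), x * y = y * x)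
    (Q : Sylow p G) (hne : (Q : Subgroup G) ≠ ⊥) {A : Subgroup G} (hA : A ∈ 𝓐)
    (hQA : (Q : Subgroup G) ≤ A) : centralizer ((Q : Subgroup G) : Set G) = A := by
  have hQp := Q.isPGroup'
  apply le_antisymm
  · intro g hg
    obtain ⟨x, hxQ, hx1⟩ := (Subgroup.ne_bot_iff_exists_ne_one.1 hne : ∃ x : (Q : Subgroup G), x ≠ 1) |>.imp
      (fun x hx => hx) |> fun ⟨x, hx⟩ => (⟨x.1, x.2, fun h => hx (Subtype.ext h)⟩ :
        ∃ x : G, x ∈ (Q : Subgroup G) ∧ x ≠ 1)
    obtain ⟨u, hu, t, ht, hgut, hu', ht'⟩ := exists_decomp ({p} : Set ℕ) g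
    -- the `p`-part lies in `Q`
    have hcg : ∀ c ∈ zpowers g, c ∈ centralizer ((Q : Subgroup G) : Set G) := by
      intro c hc
      exact (zpowers_le.2 hg) hc
    have huQ : u ∈ (Q : Subgroup G) := by
      have h1 : zpowers u ⊓ normalizer ((Q : Subgroup G) : Set G) = zpowers u ⊓ (Q : Subgroup G) :=
        (isPGroup_of_piE (p := p) hu').inf_normalizer_sylow Q
      have h2 : u ∈ zpowers u ⊓ normalizer ((Q : Subgroup G) : Set G) :=
        ⟨mem_zpowers u, centralizer_le_normalizer _ (hcg u hu)⟩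
      rw [h1] at h2
      exact h2.2
    have hxt : Commute x t := by
      have := (mem_centralizer_iff.1 (hcg t ht)) x hxQ
      exact this
    have hxp : IsPGroup p (zpowers x) := isPGroup_zpowers_of_mem hQp hxQ
    have hco : Nat.Coprime (orderOf x) (orderOf t) :=
      coprime_of_parts (piE_of_isPGroup (p := p) hxp) ht'
    obtain ⟨B, hB, hxtB⟩ := h.cover (x * t)
    have h1 : x ∈ B := (zpowers_le.2 hxtB) (mem_zpowers_of_coprime hxt hco)
    have h2 : B = A := unique_member hZ h hcomm hB hA hx1 hxp h1 (hQA hxQ)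
    have h3 : t ∈ A := by
      rw [h2] at hxtB h1
      exact (Subgroup.mul_mem_cancel_left A h1).1 hxtB
    rw [hgut]
    exact A.mul_mem (hQA huQ) h3
  · intro a ha
    rw [mem_centralizer_iff]
    intro y hy
    have h1 := le_centralizer h hcomm hA (hQA hy) (isPGroup_zpowers_of_mem hQp hy) ha
    exact (mem_centralizer_singleton_iff.1 h1).symm

theorem sylow_eq_of_le_centralizer (P Q : Sylow p G)
    (hle : (Q : Subgroup G) ≤ centralizer ((P : Subgroup G) : Set G)) : Q = P := by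
  have h1 : (Q : Subgroup G) ⊓ normalizer ((P : Subgroup G) : Set G) = (Q : Subgroup G) ⊓ (P : Subgroup G) :=
    Q.isPGroup'.inf_normalizer_sylow P
  have h2 : (Q : Subgroup G) ≤ (P : Subgroup G) := by
    intro y hy
    have h3 : y ∈ (Q : Subgroup G) ⊓ normalizer ((P : Subgroup G) : Set G) :=
      ⟨hy, centralizer_le_normalizer _ (hle hy)⟩
    rw [h1] at h3
    exact h3.2
  have h4 := Q.is_maximal' P.isPGroup' h2
  exact Sylow.ext h4.symm

theorem mem_smul_sylow (P : Sylow p G) (g x : G) :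
    x ∈ ((g • P : Sylow p G) : Subgroup G) ↔ g⁻¹ * x * g ∈ (P : Subgroup G) := by
  rw [Sylow.coe_subgroup_smul, Subgroup.mem_pointwise_smul_iff_inv_smul_mem]
  simp [MulAut.smul_def, MulAut.conj_apply]

/-- The conclusions, all together. -/
theorem conclusions (hZ : center G = ⊥) (h : MinCov 𝓐) (P : Sylow p G)
    (hab : IsMulCommutative (P : Subgroup G)) (hnn : ¬ (P : Subgroup G).Normal)
    (hH : (∃ x, (P : Subgroup G) ≤ zpowers x) ∨ ∃ x ∈ (P : Subgroup G), x ^ p ≠ 1) :
    centralizer ((P : Subgroup G) : Set G) ∈ 𝓐 ∧ (P : Subgroup G) ≤ centralizer ((P : Subgroup G) : Set G) ∧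
      IsCoatom (normalizer ((P : Subgroup G) : Set G)) ∧
      (∀ g : G, g ∉ normalizer ((P : Subgroup G) : Set G) →
        ¬ p ∣ Nat.card ↥(normalizer ((P : Subgroup G) : Set G) ⊓
          (normalizer ((P : Subgroup G) : Set G)).map (MulAut.conj g).toMonoidHom)) ∧
      (∀ M : Subgroup G, IsCoatom M → centralizer ((P : Subgroup G) : Set G) ≤ M →
        M = normalizer ((P : Subgroup G) : Set G)) := by
  classical
  have hne : (P : Subgroup G) ≠ ⊥ := by
    intro hb
    apply hnn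
    rw [hb]
    infer_instance
  have hcommP : ∀ x ∈ (P : Subgroup G), ∀ y ∈ (P : Subgroup G), x * y = y * x := by
    intro x hx y hy
    exact congrArg Subtype.val (hab.is_comm.comm (⟨x, hx⟩ : (P : Subgroup G)) ⟨y, hy⟩)
  have hcomm : ∀ Q : Sylow p G, ∀ x ∈ (Q : Subgroup G), ∀ y ∈ (Q : Subgroup G), x * y = y * x := by
    intro Q x hx y hy
    obtain ⟨g, rfl⟩ := MulAction.exists_smul_eq G P Q
    rw [mem_smul_sylow] at hx hy
    have h1 := hcommP _ hx _ hy
    have h2 : g⁻¹ * (x * y) * g = g⁻¹ * (y * x) * g := by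
      calc g⁻¹ * (x * y) * g = (g⁻¹ * x * g) * (g⁻¹ * y * g) := by group
        _ = (g⁻¹ * y * g) * (g⁻¹ * x * g) := h1
        _ = _ := by group
    exact mul_left_cancel (mul_right_cancel h2)
  obtain ⟨⟨x0, hx0P⟩, hx01⟩ := Subgroup.ne_bot_iff_exists_ne_one.1 hne
  have hx01' : x0 ≠ 1 := fun h => hx01 (Subtype.ext h)
  have hQne : ∀ Q : Sylow p G, (Q : Subgroup G) ≠ ⊥ := by
    intro Q hQ
    obtain ⟨g, rfl⟩ := MulAction.exists_smul_eq G P Q
    have h1 : g * x0 * g⁻¹ ∈ ((g • P : Sylow p G) : Subgroup G) := by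
      rw [mem_smul_sylow]
      simpa [mul_assoc] using hx0P
    rw [hQ, mem_bot] at h1
    apply hx01'
    have h2 : g⁻¹ * (g * x0 * g⁻¹) * g = 1 := by rw [h1]; group
    simpa [mul_assoc] using h2
  have hQH : ∀ Q : Sylow p G, (∃ x, (Q : Subgroup G) ≤ zpowers x) ∨ ∃ x ∈ (Q : Subgroup G), x ^ p ≠ 1 := by
    intro Q
    obtain ⟨g, rfl⟩ := MulAction.exists_smul_eq G P Q
    rcases hH with ⟨x, hx⟩ | ⟨x, hxP, hxp⟩
    · left
      refine ⟨g * x * g⁻¹, ?_⟩
      intro y hy
      rw [mem_smul_sylow] at hy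
      obtain ⟨k, hk⟩ := Subgroup.mem_zpowers_iff.1 (hx hy)
      refine Subgroup.mem_zpowers_iff.2 ⟨k, ?_⟩
      rw [conj_zpow, hk]
      group
    · right
      refine ⟨g * x * g⁻¹, ?_, ?_⟩
      · rw [mem_smul_sylow]
        simpa [mul_assoc] using hxP
      · rw [conj_pow]
        intro h1
        apply hxp
        have h2 : g⁻¹ * (g * x ^ p * g⁻¹) * g = 1 := by rw [h1]; group
        simpa [mul_assoc] using h2
  have hQA : ∀ Q : Sylow p G, centralizer ((Q : Subgroup G) : Set G) ∈ 𝓐 ∧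
      (Q : Subgroup G) ≤ centralizer ((Q : Subgroup G) : Set G) := by
    intro Q
    obtain ⟨A, hA, hQA⟩ := exists_member hZ h hcomm Q (hQne Q) (hQH Q)
    have h1 := centralizer_eq hZ h hcomm Q (hQne Q) hA hQA
    rw [h1]
    exact ⟨hA, hQA⟩
  have hN : normalizer ((P : Subgroup G) : Set G) ≠ ⊤ := by
    intro h1
    exact hnn (normalizer_eq_top_iff.1 h1)
  have hMN : ∀ M : Subgroup G, IsCoatom M → centralizer ((P : Subgroup G) : Set G) ≤ M →
      M ≤ normalizer ((P : Subgroup G) : Set G) := by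
    intro M hM hCM g hg
    let Q : Sylow p G := g • P
    have h1 : centralizer ((Q : Subgroup G) : Set G) ≤ M := by
      intro y hy
      have h2 : g⁻¹ * y * g ∈ centralizer ((P : Subgroup G) : Set G) := by
        rw [mem_centralizer_iff]
        intro w hw
        have h3 : g * w * g⁻¹ ∈ (Q : Subgroup G) := by
          rw [mem_smul_sylow]
          have h30 : g⁻¹ * (g * w * g⁻¹) * g = w := by group
          rw [h30]
          exact hw
        have h4 := (mem_centralizer_iff.1 hy) _ h3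
        calc w * (g⁻¹ * y * g) = g⁻¹ * ((g * w * g⁻¹) * y) * g := by group
          _ = g⁻¹ * (y * (g * w * g⁻¹)) * g := by rw [h4]
          _ = _ := by group
      have h5 := hCM h2
      have h6 : y = g * (g⁻¹ * y * g) * g⁻¹ := by group
      rw [h6]
      exact M.mul_mem (M.mul_mem hg h5) (M.inv_mem hg)
    have h7 := unique_le h hM.1 (hQA Q).1 (hQA P).1 h1 hCM
    have h8 : (Q : Subgroup G) ≤ centralizer ((P : Subgroup G) : Set G) := by
      rw [← h7]; exact (hQA Q).2
    have h9 : Q = P := sylow_eq_of_le_centralizer P Q h8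
    exact Sylow.smul_eq_iff_mem_normalizer.1 h9
  have hMeq : ∀ M : Subgroup G, IsCoatom M → centralizer ((P : Subgroup G) : Set G) ≤ M →
      M = normalizer ((P : Subgroup G) : Set G) := by
    intro M hM hCM
    rcases eq_or_lt_of_le (hMN M hM hCM) with h1 | h1
    · exact h1
    · exact absurd (hM.2 _ h1) hN
  obtain ⟨M, hM, hCM⟩ := (eq_top_or_exists_le_coatom (centralizer ((P : Subgroup G) : Set G))).resolve_left
    (h.proper _ (hQA P).1)
  refine ⟨(hQA P).1, (hQA P).2, ?_, ?_, hMeq⟩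
  · rw [← hMeq M hM hCM]; exact hM
  · intro g hg hd
    obtain ⟨y, hy⟩ := exists_prime_orderOf_dvd_card' p hd
    have hy1 : orderOf (y : G) = p := by rw [Subgroup.orderOf_coe]; exact hy
    have hpN : ∀ z ∈ normalizer ((P : Subgroup G) : Set G), orderOf z = p → z ∈ (P : Subgroup G) := by
      intro z hz hzo
      have h1 : IsPGroup p (zpowers z) := IsPGroup.of_card (n := 1) (by
        rw [Nat.card_zpowers, hzo, pow_one])
      have h2 : zpowers z ⊓ normalizer ((P : Subgroup G) : Set G) = zpowers z ⊓ (P : Subgroup G) :=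
        h1.inf_normalizer_sylow P
      have h3 : z ∈ zpowers z ⊓ normalizer ((P : Subgroup G) : Set G) := ⟨mem_zpowers z, hz⟩
      rw [h2] at h3
      exact h3.2
    obtain ⟨n, hn, hny⟩ := y.2.2
    have hny' : g * n * g⁻¹ = (y : G) := hny
    have hnord : orderOf n = p := by
      rw [← hy1, ← hny']
      exact (MulEquiv.orderOf_eq (MulAut.conj g) n).symm
    have hyP : (y : G) ∈ (P : Subgroup G) := hpN _ y.2.1 hy1
    have hnP : n ∈ (P : Subgroup G) := hpN n hn hnord
    let Q : Sylow p G := g • P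
    have hyQ : (y : G) ∈ (Q : Subgroup G) := by
      rw [mem_smul_sylow, ← hny']
      simpa [mul_assoc] using hnP
    have hy1' : (y : G) ≠ 1 := by
      intro h1
      rw [h1, orderOf_one] at hy1
      exact hp.out.one_lt.ne hy1
    have heq := unique_member hZ h hcomm (hQA Q).1 (hQA P).1 hy1'
      (IsPGroup.of_card (n := 1) (by rw [Nat.card_zpowers, hy1, pow_one]))
      ((hQA Q).2 hyQ) ((hQA P).2 hyP)
    have h8 : (Q : Subgroup G) ≤ centralizer ((P : Subgroup G) : Set G) := by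
      rw [← heq]; exact (hQA Q).2
    have h9 : Q = P := sylow_eq_of_le_centralizer P Q h8
    exact hg (Sylow.smul_eq_iff_mem_normalizer.1 h9)

end p

end Cfsg.Agent.Lib.H6Cover
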