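import Mathlib
import Cfsg.Agent.Lib.SylowCount

/-!
Small facts on `p`-groups: commutator subgroups from generators, commutator maps for groups of class
two, normal subgroups of order `p`.
-/

set_option autoImplicit false
set_option linter.all false

namespace Cfsg.Agent.Lib.H7PGroup

open Subgroup
open scoped commutatorElement

variable {G : Type*} [Group G]

/-- If a generating set commutes modulo a normal subgroup, the derived subgroup lies in it. -/
theorem commutator_le_of_closure (S : Set G) (hS : closure S = ⊤) (L : Subgroup G) [L.Normal]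
    (h : ∀ a ∈ S, ∀ b ∈ S, ⁅a, b⁆ ∈ L) : commutator G ≤ L := by
  let φ := QuotientGroup.mk' L
  have hcomm : ∀ a b : G, ⁅a, b⁆ ∈ L ↔ φ a * φ b = φ b * φ a := by
    intro a b
    rw [← QuotientGroup.eq_one_iff]
    change φ ⁅a, b⁆ = 1 ↔ _
    rw [map_commutatorElement, commutatorElement_eq_one_iff_mul_comm]
  have h1 : ∀ a ∈ S, ∀ g : G, φ a * φ g = φ g * φ a := by
    intro a ha g
    have hT : closure S ≤ (centralizer ({φ a} : Set (G ⧸ L))).comap φ := by
      rw [closure_le]
      intro b hb
      show φ b ∈ centralizer ({φ a} : Set (G ⧸ L))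
      rw [mem_centralizer_singleton_iff]
      exact ((hcomm a b).mp (h a ha b hb)).symm
    rw [hS, top_le_iff] at hT
    have h2 : g ∈ (centralizer ({φ a} : Set (G ⧸ L))).comap φ := by
      rw [hT]
      trivial
    have h3 : φ g ∈ centralizer ({φ a} : Set (G ⧸ L)) := h2
    rw [mem_centralizer_singleton_iff] at h3
    exact h3.symm
  have h2 : ∀ g g' : G, φ g * φ g' = φ g' * φ g := by
    intro g g'
    have hT : closure S ≤ (centralizer ({φ g'} : Set (G ⧸ L))).comap φ := by
      rw [closure_le]
      intro b hb
      show φ b ∈ centralizer ({φ g'} : Set (G ⧸ L))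
      rw [mem_centralizer_singleton_iff]
      exact h1 b hb g'
    rw [hS, top_le_iff] at hT
    have h2 : g ∈ (centralizer ({φ g'} : Set (G ⧸ L))).comap φ := by
      rw [hT]
      trivial
    have h3 : φ g ∈ centralizer ({φ g'} : Set (G ⧸ L)) := h2
    rw [mem_centralizer_singleton_iff] at h3
    exact h3
  rw [_root_.commutator_def, Subgroup.commutator_le]
  intro a _ b _
  exact (hcomm a b).mpr (h2 a b)

/-- A finite group with a central subgroup `B` of index at most a prime is abelian, in subgroup form. -/
theorem comm_of_card_le [Finite G] {p : ℕ} (hp : p.Prime) {n : ℕ} (C B : Subgroup G) (hCcard : Nat.card C = p ^ n)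
    (hBC : B ≤ C) (hB : ∀ b ∈ B, ∀ c ∈ C, b * c = c * b) (hcard : Nat.card C ≤ p * Nat.card B) :
    ∀ u ∈ C, ∀ v ∈ C, u * v = v * u := by
  classical
  let B' : Subgroup C := B.subgroupOf C
  have hB'c : ∀ x : C, x ∈ B' → x ∈ center C := by
    intro x hx
    rw [mem_center_iff]
    intro y
    apply Subtype.ext
    exact (hB x.1 hx y.1 y.2).symm
  haveI hB'n : B'.Normal := by
    constructor
    intro x hx g
    have := hB'c x hx
    rw [mem_center_iff] at this
    have h1 : g * x * g⁻¹ = x := by
      rw [this g, mul_inv_cancel_right]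
    rw [h1]
    exact hx
  have hcardB' : Nat.card B' = Nat.card B := by
    have : B' = B.subgroupOf C := rfl
    rw [this, Cfsg.Agent.Lib.SylowCount.card_subgroupOf_eq, inf_eq_left.mpr hBC]
  have hq : Nat.card (C ⧸ B') * Nat.card B = p ^ n := by
    rw [← hCcard, ← hcardB', mul_comm]
    exact B'.card_mul_index
  have hBpos : 0 < Nat.card B := Nat.card_pos
  have hle : Nat.card (C ⧸ B') ≤ p := by
    have h1 : Nat.card (C ⧸ B') * Nat.card B ≤ p * Nat.card B := by
      rw [hq, ← hCcard]
      exact hcard
    exact Nat.le_of_mul_le_mul_right h1 hBpos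
  have hdvd : Nat.card (C ⧸ B') ∣ p ^ n := ⟨_, hq.symm⟩
  haveI hcyc : IsCyclic (C ⧸ B') := by
    obtain ⟨k, _, hk⟩ := (Nat.dvd_prime_pow hp).mp hdvd
    rcases Nat.eq_zero_or_pos k with h0 | h0
    · rw [h0, pow_zero] at hk
      haveI := (Nat.card_eq_one_iff_unique.mp hk).1
      exact isCyclic_of_subsingleton
    · have hk1 : k = 1 := by
        by_contra hne
        have h2 : 2 ≤ k := by omega
        have h3 : p ^ 2 ≤ p ^ k := Nat.pow_le_pow_right hp.pos h2
        have h4 : p ^ 2 = p * p := sq p
        have h5 : p * p ≤ p := by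
          calc p * p = p ^ 2 := h4.symm
            _ ≤ p ^ k := h3
            _ = Nat.card (C ⧸ B') := hk.symm
            _ ≤ p := hle
        nlinarith [hp.two_le]
      rw [hk1, pow_one] at hk
      haveI : Fact p.Prime := ⟨hp⟩
      exact isCyclic_of_prime_card hk
  intro u hu v hv
  have h1 := commutative_of_cyclic_center_quotient (QuotientGroup.mk' B') (by
    rw [QuotientGroup.ker_mk']
    exact hB'c) (⟨u, hu⟩ : C) ⟨v, hv⟩
  exact congrArg Subtype.val h1

/-- For central commutators, commutation with `g` is a homomorphism, so that the centralizer of `g`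
has index at most `|G'|`, also inside a subgroup. -/
theorem card_le_card_inf_centralizer_mul [Finite G] (hc : commutator G ≤ center G) (A : Subgroup G) (g : G) :
    Nat.card A ≤ Nat.card (A ⊓ centralizer ({g} : Set G) : Subgroup G) * Nat.card (commutator G) := by
  classical
  have hmem : ∀ a b : G, ⁅a, b⁆ ∈ commutator G := fun a b =>
    Subgroup.commutator_mem_commutator (mem_top a) (mem_top b)
  have hcen : ∀ a b : G, ⁅a, b⁆ ∈ center G := fun a b => hc (hmem a b)
  let f : A → commutator G := fun a => ⟨⁅(a : G), g⁆, hmem _ _⟩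
  let S := A ⊓ centralizer ({g} : Set G)
  -- fibres of `f` have size at most `|S|`
  have hfib : ∀ y : commutator G, Nat.card {a : A // f a = y} ≤ Nat.card S := by
    intro y
    by_cases hy : ∃ a : A, f a = y
    · obtain ⟨a, ha⟩ := hy
      have hinj : Function.Injective (fun b : {b : A // f b = y} => (⟨(a : G)⁻¹ * b.1, by
            have hb := b.2
            refine ⟨A.mul_mem (A.inv_mem a.2) b.1.2, ?_⟩
            show (a : G)⁻¹ * b.1 ∈ centralizer ({g} : Set G)
            rw [mem_centralizer_singleton_iff]
            have h1 : ⁅(b.1 : G), g⁆ = ⁅(a : G), g⁆ := by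
              have h2 : f b.1 = f a := hb.trans ha.symm
              exact congrArg Subtype.val h2
            rw [commutatorElement_def, commutatorElement_def] at h1
            have h3 : (b.1 : G) * g * (b.1 : G)⁻¹ = (a : G) * g * (a : G)⁻¹ := mul_right_cancel h1
            calc (a : G)⁻¹ * b.1 * g = (a : G)⁻¹ * ((b.1 : G) * g * (b.1 : G)⁻¹) * b.1 := by group
              _ = (a : G)⁻¹ * ((a : G) * g * (a : G)⁻¹) * b.1 := by rw [h3]
              _ = g * ((a : G)⁻¹ * b.1) := by group⟩ : S)) := by
        intro b c hbc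
        have h1 : (a : G)⁻¹ * b.1 = (a : G)⁻¹ * c.1 := congrArg Subtype.val hbc
        have h2 : (b.1 : G) = c.1 := mul_left_cancel h1
        exact Subtype.ext (Subtype.ext h2)
      exact Nat.card_le_card_of_injective _ hinj
    · haveI : IsEmpty {a : A // f a = y} := ⟨fun a => hy ⟨a.1, a.2⟩⟩
      rw [Nat.card_of_isEmpty]
      exact Nat.zero_le _
  haveI := Fintype.ofFinite (commutator G)
  haveI := Fintype.ofFinite A
  rw [← Nat.card_congr (Equiv.sigmaFiberEquiv f), Nat.card_sigma]
  have h2 : ∑ y : commutator G, Nat.card {a : A // f a = y} ≤ ∑ y : commutator G, Nat.card S :=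
    Finset.sum_le_sum (fun y _ => hfib y)
  calc ∑ y : commutator G, Nat.card {a : A // f a = y} ≤ ∑ y : commutator G, Nat.card S := h2
    _ = Nat.card S * Nat.card (commutator G) := by
      rw [Finset.sum_const, Finset.card_univ, smul_eq_mul, mul_comm, Nat.card_eq_fintype_card (α := commutator G)]

/-- A normal subgroup of order `p` of a finite `p`-group is central. -/
theorem normal_le_center_of_card_prime [Finite G] {p : ℕ} [hp : Fact p.Prime] (hG : IsPGroup p G) (N : Subgroup G)
    [hN : N.Normal] (hc : Nat.card N = p) : N ≤ center G := by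
  have h1 := Cfsg.Agent.Lib.SylowCount.normalizer_le_centralizer_of_coprime N hc (by
    rw [Subgroup.normalizer_eq_top, Subgroup.card_top]
    obtain ⟨k, hk⟩ := IsPGroup.iff_card.mp hG
    rw [hk]
    apply Nat.Coprime.pow_left
    have h2 : Nat.Coprime p (p - 1) := by
      rw [Nat.coprime_self_sub_right hp.out.pos]
      exact Nat.coprime_one_right p
    exact h2)
  rw [Subgroup.normalizer_eq_top, top_le_iff] at h1
  intro n hn
  rw [mem_center_iff]
  intro g
  have h2 : g ∈ centralizer (N : Set G) := by
    rw [h1]
    trivial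
  exact (Subgroup.mem_centralizer_iff.mp h2 n hn).symm

end Cfsg.Agent.Lib.H7PGroup
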