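import Mathlib
import Cfsg.Agent.S0127
import Cfsg.Agent.Lib.NormalE
import Cfsg.Agent.Lib.UniqueSub
import Cfsg.Agent.Lib.SchurZ

/-!
A noncyclic `p`-group, `p` odd, has a normal elementary abelian subgroup of order `p²` (helper6).
-/

set_option autoImplicit false

namespace Cfsg.Agent.Lib.H6OddNormal

open Cfsg.Agent.Lib.NormalE Cfsg.Agent.Lib.UniqueSub

/-- lifting the exponent: `k ^ p ≡ 1 (mod p ^ m)` forces `k ≡ 1 (mod p ^ (m - 1))`. -/
theorem lte_arith {p : ℕ} (hpp : p.Prime) (hp : p ≠ 2) (k m : ℕ) (hm0 : m ≠ 0) (hk0 : k ≠ 0)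
    (hkp : k ^ p ≡ 1 [MOD p ^ m]) : p ∣ k - 1 ∧ p ^ (m - 1) ∣ k - 1 := by
  haveI : Fact p.Prime := ⟨hpp⟩
  have hkmod : k ≡ 1 [MOD p] := by
    have h1 : k ^ p ≡ 1 [MOD p] := hkp.of_dvd (dvd_pow_self p hm0)
    have h2 : k ^ p ≡ k [MOD p] := by
      have : ((k ^ p : ℕ) : ZMod p) = k := by
        push_cast
        exact ZMod.pow_card _
      exact (ZMod.natCast_eq_natCast_iff _ _ _).mp this
    exact h2.symm.trans h1
  have hodd : Odd p := hpp.odd_of_ne_two hp
  have hpk1 : p ∣ k - 1 := (Nat.modEq_iff_dvd' (by omega)).mp hkmod.symm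
  refine ⟨hpk1, ?_⟩
  by_cases hk1 : k = 1
  · subst hk1
    exact dvd_zero _
  have hk2 : 1 < k := by omega
  have hpk : p ∣ k - 1 := hpk1
  have hnpk : ¬ p ∣ k := by
    intro h
    have := (Nat.dvd_sub h hpk)
    have e : k - (k - 1) = 1 := by omega
    rw [e] at this
    exact hpp.one_lt.ne' (Nat.dvd_one.mp this)
  have hlte := padicValNat.pow_sub_pow hodd hk2 (by simpa using hpk) hnpk (n := p) hpp.ne_zero
  rw [one_pow, padicValNat_self] at hlte
  have hd : p ^ m ∣ k ^ p - 1 := (Nat.modEq_iff_dvd' (Nat.one_le_pow _ _ (by omega))).mp hkp.symm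
  have hne0 : k ^ p - 1 ≠ 0 := by
    have : 1 < k ^ p := Nat.one_lt_pow hpp.ne_zero hk2
    omega
  have h3 : m ≤ padicValNat p (k ^ p - 1) := (padicValNat_dvd_iff_le hne0).mp hd
  exact (padicValNat_dvd_iff_le (by omega)).mpr (by omega)

variable {P : Type*} [Group P] [Finite P] {p : ℕ} [Fact p.Prime]

theorem exists_normal_elem_odd (hp2 : p ≠ 2) (hP : IsPGroup p P) (hnc : ¬ IsCyclic P) :
    ∃ U : Subgroup P, U.Normal ∧ (∀ a ∈ U, ∀ b ∈ U, a * b = b * a) ∧ (∀ a ∈ U, a ^ p = 1) ∧ Nat.card U = p ^ 2 := by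
  classical
  have hpp : p.Prime := Fact.out
  obtain ⟨M, hMn, hMc, hMself⟩ := exists_self_centralizing hP
  haveI := hMn
  by_cases hMcyc : IsCyclic M
  swap
  · -- `M` is not cyclic
    have h1 : p ^ 2 ≤ Nat.card (omegaOf M hMc p) := by
      by_contra hlt
      exact hMcyc (isCyclic_of_omega_small hP hMc (by omega))
    haveI := omegaOf_normal (p := p) (M := M) hMc
    obtain ⟨K, hKle, hKn, hKc⟩ := exists_normal_le hP (omegaOf M hMc p) h1
    refine ⟨K, hKn, ?_, ?_, hKc⟩
    · intro a ha b hb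
      exact hMc a (mem_omegaOf.mp (hKle ha)).1 b (mem_omegaOf.mp (hKle hb)).1
    · intro a ha
      exact (mem_omegaOf.mp (hKle ha)).2
  -- `M` is cyclic
  obtain ⟨a₀, ha₀⟩ := IsCyclic.exists_generator (α := M)
  let a : P := a₀
  have hMa : M = Subgroup.zpowers a := by
    apply le_antisymm
    · intro c hc
      obtain ⟨k, hk⟩ := ha₀ ⟨c, hc⟩
      exact ⟨k, by simpa using congrArg Subtype.val hk⟩
    · exact Subgroup.zpowers_le.mpr a₀.2
  have haM : a ∈ M := a₀.2
  have hcent : ∀ x, x * a = a * x → x ∈ M := by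
    intro x hx
    apply hMself
    intro b hb
    rw [hMa] at hb
    obtain ⟨i, rfl⟩ := Subgroup.mem_zpowers_iff.mp hb
    exact (show Commute x a from hx).zpow_right i
  have ha1 : a ≠ 1 := by
    intro e
    apply hnc
    have h1 : ∀ x : P, x = 1 := by
      intro x
      have := hcent x (by rw [e, one_mul, mul_one])
      rw [hMa, e] at this
      simpa using this
    haveI : Subsingleton P := ⟨fun x y => by rw [h1 x, h1 y]⟩
    exact isCyclic_of_subsingleton
  obtain ⟨m, hm⟩ := IsPGroup.iff_orderOf.mp hP a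
  have hm0 : m ≠ 0 := by
    rintro rfl
    rw [pow_zero] at hm
    exact ha1 (orderOf_eq_one_iff.mp hm)
  let w : P := a ^ (p ^ (m - 1))
  have hmm : p ^ m = p ^ (m - 1) * p := by
    rw [← pow_succ]
    congr 1
    omega
  have hwo : orderOf w = p := by
    have h0 : p ^ (m - 1) ≠ 0 := (pow_pos hpp.pos _).ne'
    have hd : p ^ (m - 1) ∣ orderOf a := by rw [hm, hmm]; exact dvd_mul_right _ _
    change orderOf (a ^ (p ^ (m - 1))) = p
    rw [orderOf_pow_of_dvd h0 hd, hm, hmm]
    exact Nat.mul_div_cancel_left _ (pow_pos hpp.pos _)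
  have hwp : w ^ p = 1 := orderOf_dvd_iff_pow_eq_one.mp (dvd_of_eq hwo)
  -- elements of `M` with trivial `p`-th power lie in `⟨w⟩`
  have hMw : ∀ y ∈ M, y ^ p = 1 → y ∈ Subgroup.zpowers w := by
    intro y hy hyp
    rw [hMa] at hy
    obtain ⟨i, hi⟩ := (mem_powers_iff_mem_zpowers).mpr hy
    change a ^ i = y at hi
    subst hi
    rw [← pow_mul] at hyp
    have h1 := orderOf_dvd_of_pow_eq_one hyp
    rw [hm, hmm] at h1
    have h2 : p ^ (m - 1) ∣ i := Nat.dvd_of_mul_dvd_mul_right hpp.pos h1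
    obtain ⟨c, rfl⟩ := h2
    refine ⟨(c : ℤ), ?_⟩
    change w ^ (c : ℤ) = _
    rw [zpow_natCast, pow_mul]
  have hzw : ∀ y, orderOf y = p → y ∈ Subgroup.zpowers w → Subgroup.zpowers y = Subgroup.zpowers w := by
    intro y hy hyw
    apply Subgroup.eq_of_le_of_card_ge
    · rw [Subgroup.zpowers_le]; exact hyw
    · rw [Nat.card_zpowers, Nat.card_zpowers, hy, hwo]
  -- an element of order `p` outside `M`
  have hu : ∃ u : P, orderOf u = p ∧ u ∉ M := by
    by_contra hno
    push_neg at hno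
    have hU : UniqueP p P := by
      intro x y hx hy
      have hxM := hno x hx
      have hyM := hno y hy
      have hxw := hMw x hxM (orderOf_dvd_iff_pow_eq_one.mp (dvd_of_eq hx))
      have hyw := hMw y hyM (orderOf_dvd_iff_pow_eq_one.mp (dvd_of_eq hy))
      rw [hzw x hx hxw]
      exact hyw
    rcases cyclic_or_quaternion hP hU with h | ⟨h, _⟩
    · exact hnc h
    · exact hp2 h
  obtain ⟨u, huo, huM⟩ := hu
  have hup : u ^ p = 1 := orderOf_dvd_iff_pow_eq_one.mp (dvd_of_eq huo)
  -- the action of an element of exponent `p`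
  have hact : ∀ x : P, x ^ p = 1 → (x * a * x⁻¹ * a⁻¹ ∈ Subgroup.zpowers w) ∧ x * w = w * x := by
    intro x hx
    have hnorm : x * a * x⁻¹ ∈ Subgroup.zpowers a := by
      rw [← hMa]
      exact hMn.conj_mem a haM x
    obtain ⟨k, hk⟩ := (mem_powers_iff_mem_zpowers).mpr hnorm
    have hk' : x * a * x⁻¹ = a ^ k := hk.symm
    have hk0 : k ≠ 0 := by
      rintro rfl
      rw [pow_zero] at hk'
      apply ha1
      have : a = x⁻¹ * (x * a * x⁻¹) * x := by group
      rw [this, hk']; group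
    have hkp : k ^ p ≡ 1 [MOD p ^ m] := by
      have h1 := Cfsg.Agent.S0016.conj_pow_iter x a k hk' p
      rw [hx] at h1
      have h3 : a ^ (k ^ p) = a ^ 1 := by
        rw [← h1]; simp
      rw [pow_eq_pow_iff_modEq, hm] at h3
      exact h3
    obtain ⟨h1, h2⟩ := lte_arith hpp hp2 k m hm0 hk0 hkp
    obtain ⟨t, ht⟩ := h2
    obtain ⟨t', ht'⟩ := h1
    have hk1 : 1 ≤ k := Nat.one_le_iff_ne_zero.mpr hk0
    constructor
    · refine ⟨(t : ℤ), ?_⟩
      change w ^ (t : ℤ) = _
      rw [zpow_natCast, hk']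
      have : k = 1 + p ^ (m - 1) * t := by omega
      rw [this, pow_add, pow_one, pow_mul]
      change w ^ t = a * w ^ t * a⁻¹
      have hc : Commute a (w ^ t) := ((Commute.refl a).pow_right _).pow_right t
      rw [hc.eq]
      group
    · have h4 : x * w * x⁻¹ = w := by
        change x * a ^ (p ^ (m - 1)) * x⁻¹ = _
        rw [← conj_pow, hk', ← pow_mul, mul_comm k]
        rw [pow_mul]
        change w ^ k = w
        have : k = 1 + p * t' := by omega
        rw [this, pow_add, pow_one, pow_mul, hwp, one_pow, mul_one]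
      calc x * w = x * w * x⁻¹ * x := by group
        _ = w * x := by rw [h4]
  -- the commutator of `u` with `a`
  let c : P := u * a * u⁻¹ * a⁻¹
  obtain ⟨hcw, huw⟩ := hact u hup
  have hc1 : c ≠ 1 := by
    intro h
    apply huM
    apply hcent
    have : u * a * u⁻¹ * a⁻¹ = 1 := h
    calc u * a = (u * a * u⁻¹ * a⁻¹) * a * u := by group
      _ = a * u := by rw [this, one_mul]
  have hco : orderOf c = p := by
    have h3 : orderOf c ∣ orderOf w := orderOf_dvd_of_mem_zpowers hcw
    rw [hwo] at h3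
    rcases (Nat.dvd_prime hpp).mp h3 with h4 | h4
    · exact absurd (orderOf_eq_one_iff.mp h4) hc1
    · exact h4
  have hcgen : Subgroup.zpowers c = Subgroup.zpowers w := hzw c hco hcw
  -- commutation of powers of `w`
  have hwa : Commute w a := (Commute.refl a).pow_left _
  have hca : ∀ y ∈ Subgroup.zpowers w, Commute y a := by
    intro y hy
    obtain ⟨i, rfl⟩ := Subgroup.mem_zpowers_iff.mp hy
    exact hwa.zpow_left i
  have hcu : ∀ y ∈ Subgroup.zpowers w, Commute y u := by
    intro y hy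
    obtain ⟨i, rfl⟩ := Subgroup.mem_zpowers_iff.mp hy
    exact (show Commute w u from huw.symm).zpow_left i
  -- powers of `u`
  have hpowu : ∀ j : ℕ, u ^ j * a * (u ^ j)⁻¹ = c ^ j * a := by
    intro j
    have hca' : Commute c a := hca c hcw
    have hcu' : Commute c u := hcu c hcw
    have hua : u * a * u⁻¹ = c * a := by
      change u * a * u⁻¹ = u * a * u⁻¹ * a⁻¹ * a
      group
    induction j with
    | zero => simp
    | succ j ih =>
      calc u ^ (j + 1) * a * (u ^ (j + 1))⁻¹ = u * (u ^ j * a * (u ^ j)⁻¹) * u⁻¹ := by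
            rw [pow_succ']; group
        _ = u * (c ^ j * a) * u⁻¹ := by rw [ih]
        _ = c ^ j * (u * a * u⁻¹) := by
            have : Commute u (c ^ j) := (hcu'.pow_left j).symm
            rw [← mul_assoc u, this.eq]; group
        _ = c ^ j * (c * a) := by rw [hua]
        _ = c ^ (j + 1) * a := by
            rw [pow_succ]
            exact (mul_assoc _ _ _).symm
  -- the group `B`
  let B : Subgroup P := M ⊔ Subgroup.zpowers u
  have hMB : M ≤ B := le_sup_left
  have huB : u ∈ B := (le_sup_right : Subgroup.zpowers u ≤ B) (Subgroup.mem_zpowers u)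
  -- every element of exponent `p` lies in `B`
  have hxB : ∀ x : P, x ^ p = 1 → x ∈ B := by
    intro x hx
    obtain ⟨hxc, -⟩ := hact x hx
    rw [← hcgen] at hxc
    obtain ⟨j, hj⟩ := (mem_powers_iff_mem_zpowers).mpr hxc
    change c ^ j = _ at hj
    have hxa : x * a * x⁻¹ = c ^ j * a := by
      rw [hj]; group
    have h2 : (u ^ j)⁻¹ * x ∈ M := by
      apply hcent
      have h3 := hpowu j
      have h4 : u ^ j * a * (u ^ j)⁻¹ = x * a * x⁻¹ := by rw [h3, hxa]
      have h5 : ((u ^ j)⁻¹ * x) * a * ((u ^ j)⁻¹ * x)⁻¹ = a := by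
        calc ((u ^ j)⁻¹ * x) * a * ((u ^ j)⁻¹ * x)⁻¹ = (u ^ j)⁻¹ * (x * a * x⁻¹) * u ^ j := by group
          _ = (u ^ j)⁻¹ * (u ^ j * a * (u ^ j)⁻¹) * u ^ j := by rw [h4]
          _ = a := by group
      calc ((u ^ j)⁻¹ * x) * a = ((u ^ j)⁻¹ * x) * a * ((u ^ j)⁻¹ * x)⁻¹ * ((u ^ j)⁻¹ * x) := by group
        _ = a * ((u ^ j)⁻¹ * x) := by rw [h5]
    have h6 : x = u ^ j * ((u ^ j)⁻¹ * x) := by group
    rw [h6]
    exact B.mul_mem (B.pow_mem huB j) (hMB h2)
  -- card of `B` and the cyclic subgroup of index `p`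
  have hdisj : M ⊓ Subgroup.zpowers u = ⊥ := by
    rw [eq_bot_iff]
    intro y hy
    by_contra hy1
    apply huM
    have h1 : Subgroup.zpowers y ≤ Subgroup.zpowers u := by
      rw [Subgroup.zpowers_le]; exact hy.2
    have hyo : orderOf y = p := by
      have h3 : orderOf y ∣ orderOf u := orderOf_dvd_of_mem_zpowers hy.2
      rw [huo] at h3
      rcases (Nat.dvd_prime hpp).mp h3 with h4 | h4
      · exact absurd (orderOf_eq_one_iff.mp h4) hy1
      · exact h4
    have h5 : Subgroup.zpowers y = Subgroup.zpowers u := by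
      apply Subgroup.eq_of_le_of_card_ge h1
      rw [Nat.card_zpowers, Nat.card_zpowers, huo, hyo]
    have h6 : u ∈ Subgroup.zpowers y := by rw [h5]; exact Subgroup.mem_zpowers u
    have h7 : Subgroup.zpowers y ≤ M := by
      rw [Subgroup.zpowers_le]; exact hy.1
    exact h7 h6
  have hBcard : Nat.card B = Nat.card M * p := by
    have h3 := Cfsg.Agent.Lib.SchurZ.card_sup_of_disjoint M (Subgroup.zpowers u) hdisj
    rw [Nat.card_zpowers, huo] at h3
    exact h3
  have hBp : IsPGroup p B := hP.to_subgroup B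
  let C : Subgroup B := M.subgroupOf B
  have hCcyc : IsCyclic C := by
    have e : C ≃* M := Subgroup.subgroupOfEquivOfLe hMB
    exact isCyclic_of_surjective e.symm e.symm.surjective
  have hCi : C.index = p := by
    have h1 := C.card_mul_index
    have h2 : Nat.card C = Nat.card M := Nat.card_congr (Subgroup.subgroupOfEquivOfLe hMB).toEquiv
    rw [h2, hBcard] at h1
    exact Nat.eq_of_mul_eq_mul_left Nat.card_pos h1
  have hBnc : ¬ IsCyclic B := by
    intro hcyc
    apply huM
    apply hcent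
    letI := IsCyclic.commGroup (α := B)
    have h1 := mul_comm (⟨u, huB⟩ : B) (⟨a, hMB haM⟩ : B)
    simpa using congrArg Subtype.val h1
  obtain ⟨hE, hEc⟩ := Cfsg.Agent.S0127.result hp2 hBp hBnc C hCcyc hCi
  let E : Subgroup B := Subgroup.closure {x : B | x ^ p = 1}
  let W : Subgroup P := E.map B.subtype
  have hWexp : ∀ y ∈ W, y ^ p = 1 := by
    rintro y ⟨y', hy', rfl⟩
    have := hE.2 y' hy'
    simpa using congrArg Subtype.val this
  have hWmem : ∀ x : P, x ^ p = 1 → x ∈ W := by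
    intro x hx
    refine ⟨⟨x, hxB x hx⟩, ?_, rfl⟩
    apply Subgroup.subset_closure
    exact Subtype.ext hx
  refine ⟨W, ?_, ?_, hWexp, ?_⟩
  · constructor
    intro y hy g
    apply hWmem
    rw [conj_pow, hWexp y hy]
    simp
  · rintro y ⟨y', hy', rfl⟩ z ⟨z', hz', rfl⟩
    have := hE.1.is_comm.comm ⟨y', hy'⟩ ⟨z', hz'⟩
    have h2 := congrArg (fun t : E => ((t : B) : P)) this
    simpa using h2
  · rw [← hEc]
    exact Subgroup.card_map_of_injective B.subtype_injective

end Cfsg.Agent.Lib.H6OddNormal
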