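import Mathlib
import Cfsg.Agent.S0095
import Cfsg.Agent.S0127
import Cfsg.Agent.S3918
import Cfsg.Agent.Lib.NormalE
import Cfsg.Agent.Lib.FitCore
import Cfsg.Agent.Lib.H6PGroup
import Cfsg.Agent.Lib.SchurZ2

/-!
Finite `p`-groups with an extraspecial subgroup of index `p` (helper6).
-/

set_option autoImplicit false

namespace Cfsg.Agent.Lib.H6ExtraIdx

open Cfsg.Agent.Lib.NormalE

variable {S : Type*} [Group S] [Finite S] {p : ℕ} [Fact p.Prime]

/-- Basic facts: normality and the central subgroup `⟨z⟩ = Z(Q)`. -/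
theorem basics (hS : IsPGroup p S) (Q : Subgroup S) (hQ : Cfsg.IsExtraspecial p ↥Q) (hQi : Q.index = p) :
    Q.Normal ∧ ∃ z : S, orderOf z = p ∧ z ∈ Subgroup.center S ∧ z ∈ Q ∧
      (Subgroup.center ↥Q).map Q.subtype = Subgroup.zpowers z ∧
      (∀ x ∈ Q, (∀ y ∈ Q, x * y = y * x) → x ∈ Subgroup.zpowers z) ∧
      (∀ x ∈ Q, x ^ p ∈ Subgroup.zpowers z) ∧
      (∀ x ∈ Q, ∀ y ∈ Q, x * y * x⁻¹ * y⁻¹ ∈ Subgroup.zpowers z) := by
  classical
  have hpp : p.Prime := Fact.out
  obtain ⟨⟨hQp, hfr, hco⟩, hcen⟩ := hQ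
  have hQn : Q.Normal := by
    obtain ⟨n, hn⟩ := IsPGroup.iff_card.mp hS
    have hn0 : n ≠ 0 := by
      rintro rfl
      rw [pow_zero] at hn
      have h1 : Q.index ∣ Nat.card S := Subgroup.index_dvd_card Q
      rw [hn, hQi] at h1
      exact hpp.one_lt.ne' (Nat.dvd_one.mp h1)
    have hmf : (Nat.card S).minFac = p := by rw [hn]; exact hpp.pow_minFac hn0
    exact Subgroup.normal_of_index_eq_minFac_card (by rw [hQi, hmf])
  refine ⟨hQn, ?_⟩
  haveI := hQn
  let Z₀ : Subgroup S := (Subgroup.center ↥Q).map Q.subtype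
  have hZn : Z₀.Normal := Cfsg.Agent.Lib.FitCore.map_subtype_normal_of_char Q _
  have hZc : Nat.card Z₀ = p := by
    rw [← hcen]
    exact Subgroup.card_map_of_injective Q.subtype_injective
  haveI := hZn
  have hZ0 : Z₀ ≠ ⊥ := by
    intro h
    rw [h, Subgroup.card_bot] at hZc
    exact hpp.one_lt.ne hZc
  obtain ⟨z, hzZ, hzo, hzc⟩ := exists_order_p_central hS Z₀ hZ0
  have hZz : Z₀ = Subgroup.zpowers z := by
    symm
    apply Subgroup.eq_of_le_of_card_ge
    · rw [Subgroup.zpowers_le]; exact hzZ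
    · rw [hZc, Nat.card_zpowers, hzo]
  have hzQ : z ∈ Q := by
    obtain ⟨z', _, hz'⟩ := hzZ
    rw [← hz']
    exact z'.2
  refine ⟨z, hzo, hzc, hzQ, hZz, ?_, ?_, ?_⟩
  · intro x hx hc
    rw [← hZz]
    refine ⟨⟨x, hx⟩, ?_, rfl⟩
    refine Subgroup.mem_center_iff.mpr ?_
    intro y
    apply Subtype.ext
    exact (hc y.1 y.2).symm
  · intro x hx
    rw [← hZz]
    have h1 := Cfsg.Agent.Lib.H6PGroup.pow_mem_frattini hQp (⟨x, hx⟩ : ↥Q)
    rw [hfr] at h1
    exact ⟨_, h1, rfl⟩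
  · intro x hx y hy
    rw [← hZz]
    have h1 := Cfsg.Agent.Lib.H6PGroup.comm_mem_frattini hQp (⟨x, hx⟩ : ↥Q) ⟨y, hy⟩
    rw [hfr] at h1
    exact ⟨_, h1, rfl⟩

/-- A `p`-group of order at least `p⁴` has an abelian subgroup of order `p³`. -/
theorem exists_abelian_cube (hS : IsPGroup p S) (n : ℕ) (hn : Nat.card S = p ^ n) (hn4 : 4 ≤ n) :
    ∃ A : Subgroup S, (∀ a ∈ A, ∀ b ∈ A, a * b = b * a) ∧ Nat.card A = p ^ 3 := by
  classical
  have hpp : p.Prime := Fact.out
  obtain ⟨M, hMn, hMc, hMself⟩ := exists_self_centralizing hS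
  haveI := hMn
  obtain ⟨a, ha⟩ := IsPGroup.iff_card.mp (hS.to_subgroup M)
  have ha3 : 3 ≤ a := by
    by_contra hlt
    have hcub : Nat.card S ≤ p ^ 3 := by
      have hcases : a = 2 ∨ a ≤ 1 := by omega
      rcases hcases with rfl | ha1
      · exact Cfsg.Agent.S3918.card_le_cube hS M hMn hMc ha hMself
      · have hcen : ∀ x : S, x ∈ M := by
          intro x
          apply hMself
          intro u hu
          by_cases hM0 : M = ⊥
          · rw [hM0] at hu
            have : u = 1 := hu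
            rw [this, one_mul, mul_one]
          obtain ⟨z, hzM, hzo, hzc⟩ := exists_order_p_central hS M hM0
          have h1 : Subgroup.zpowers z = M := by
            apply Subgroup.eq_of_le_of_card_ge
            · rw [Subgroup.zpowers_le]; exact hzM
            · rw [ha, Nat.card_zpowers, hzo]
              calc p ^ a ≤ p ^ 1 := Nat.pow_le_pow_right hpp.pos ha1
                _ = p := pow_one p
          rw [← h1] at hu
          obtain ⟨i, rfl⟩ := Subgroup.mem_zpowers_iff.mp hu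
          exact ((show Commute x z from Subgroup.mem_center_iff.mp hzc x).zpow_right i).eq
        have hMt : M = ⊤ := (Subgroup.eq_top_iff' M).mpr hcen
        rw [hMt, Subgroup.card_top] at ha
        rw [ha]
        exact Nat.pow_le_pow_right hpp.pos (by omega)
    rw [hn] at hcub
    have := (Nat.pow_le_pow_iff_right hpp.one_lt).mp hcub
    omega
  have hdvd3 : p ^ 3 ∣ Nat.card M := by
    rw [ha]
    exact pow_dvd_pow p ha3
  obtain ⟨A₀, hA₀⟩ := Sylow.exists_subgroup_card_pow_prime p hdvd3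
  refine ⟨A₀.map M.subtype, ?_, ?_⟩
  · rintro u ⟨u2, hu2, rfl⟩ v ⟨v2, hv2, rfl⟩
    exact hMc u2.1 u2.2 v2.1 v2.2
  · rw [Subgroup.card_map_of_injective M.subtype_injective, hA₀]

end Cfsg.Agent.Lib.H6ExtraIdx
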