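import Mathlib
import Cfsg.Agent.Lib.ZJOmega

/-! Thompson's normal `p`-complement theorem: `N(J(P))` and `C(Z(P))`. -/

set_option autoImplicit false
set_option linter.all false

universe u

namespace Cfsg.Agent.Lib.ZJThompson

open scoped commutatorElement Pointwise
open Cfsg Cfsg.Agent.Lib.SylowIn Cfsg.Agent.Lib.ConjFamily Cfsg.Agent.Lib.FamilyFusion
  Cfsg.Agent.Lib.KInfChief Cfsg.Agent.Lib.SecFunctor Cfsg.Agent.Lib.SecTransfer
  Cfsg.Agent.Lib.StrongFusion Cfsg.Agent.Lib.FusionApps Cfsg.Agent.Lib.PNilp Cfsg.Agent.Lib.PNilpB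
  Cfsg.Agent.Lib.NpcFunctor Cfsg.Agent.Lib.ZJ Cfsg.Agent.Lib.ZJGood Cfsg.Agent.Lib.ZJControl
  Cfsg.Agent.Lib.ZJQuot Cfsg.Agent.Lib.ZJApps Cfsg.Agent.Lib.StableCoatom
  Cfsg.Agent.Lib.ZJOmega Cfsg.Agent.Lib.ZJNpc Cfsg.Agent.Lib.ZJReplace

variable {p : ℕ} [hp : Fact p.Prime]

/-- `Z(E)`. -/
abbrev ZZ {X : Type*} [Group X] (E : Subgroup X) : Subgroup X := E ⊓ Subgroup.centralizer (E : Set X)

/-- The hypothesis. -/
def Hy (p : ℕ) {X : Type*} [Group X] (E : Subgroup X) : Prop :=
  HasNormalPComplement p ↥(Subgroup.normalizer (JJ p E : Set X)) ∧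
    HasNormalPComplement p ↥(Subgroup.centralizer (ZZ E : Set X))

section basic

variable {X : Type*} [Group X]

theorem normalizer_le_JJ [Finite X] (E : Subgroup X) :
    Subgroup.normalizer (E : Set X) ≤ Subgroup.normalizer (JJ p E : Set X) := by
  intro g hg
  apply JJ_normalizer
  intro A hA
  rintro _ ⟨a, ha, rfl⟩
  exact (Subgroup.mem_normalizer_iff.1 hg a).1 (hA.1 ha)

theorem centralizer_le_normalizer (V : Subgroup X) :
    Subgroup.centralizer (V : Set X) ≤ Subgroup.normalizer (V : Set X) := by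
  intro c hc
  rw [Subgroup.mem_normalizer_iff]
  intro v
  have h1 : ∀ w ∈ V, c * w * c⁻¹ = w := by
    intro w hw
    rw [← Subgroup.mem_centralizer_iff.1 hc w hw]
    group
  constructor
  · intro hv
    rw [h1 v hv]
    exact hv
  · intro hv
    have h2 := h1 _ hv
    have h3 : c * v * c⁻¹ * c * v⁻¹ * c⁻¹ = 1 := by group
    have h4 : c * (c * v * c⁻¹) * c⁻¹ = c * v * c⁻¹ := h2
    have h5 : c * v * c⁻¹ = v := by
      have := mul_left_cancel (a := c) (b := c * v * c⁻¹ * c⁻¹) (c := v * c⁻¹) (by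
        calc c * (c * v * c⁻¹ * c⁻¹) = c * (c * v * c⁻¹) * c⁻¹ := by group
          _ = c * v * c⁻¹ := h4
          _ = c * (v * c⁻¹) := by group)
      exact mul_right_cancel this
    rw [h5] at hv
    exact hv

end basic

section step

variable {Y : Type u} [Group Y] [Finite Y]

theorem JJ_ne_bot (hp2 : p ≠ 2) {E : Subgroup Y} (hE : IsPGroup p E) (hne : E ≠ ⊥) : JJ p E ≠ ⊥ := by
  have h1 := (goodE (p := p) hp2).ne Y E hE hne
  intro h0
  apply h1
  show omegaOne p (centerThompsonOf p E) = ⊥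
  rw [eq_bot_iff, centerThompsonOf_eq]
  refine (omegaOne_le p _).trans ?_
  rw [h0]
  exact inf_le_left

theorem ZZ_ne_bot {E : Subgroup Y} (hE : IsPGroup p E) (hne : E ≠ ⊥) : ZZ E ≠ ⊥ := by
  haveI hnt : Nontrivial ↥E := (Subgroup.nontrivial_iff_ne_bot E).2 hne
  haveI := hE.center_nontrivial
  obtain ⟨z, hz⟩ := exists_ne (1 : Subgroup.center ↥E)
  intro h0
  have h2 : (((z : ↥E) : Y)) ∈ ZZ E := by
    refine ⟨(z : ↥E).2, ?_⟩
    show _ ∈ Subgroup.centralizer _
    rw [Subgroup.mem_centralizer_iff]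
    intro e he
    have := (Subgroup.mem_center_iff.1 z.2) ⟨e, he⟩
    exact congrArg Subtype.val this
  rw [h0, Subgroup.mem_bot] at h2
  apply hz
  apply Subtype.ext
  apply Subtype.ext
  exact h2

/-- Restriction to a subgroup. -/
theorem sub_hy (H : Subgroup Y)
    (IH : ∀ T : Sylow p ↥H, Hy p (T : Subgroup ↥H) → HasNormalPComplement p ↥H)
    {E : Subgroup Y} (hE : IsSylowIn p E H) (hEH : E ≤ H)
    (h : Hy p E) : HasNormalPComplement p ↥H := by
  obtain ⟨R, hR⟩ := hE
  have hRm : (R : Subgroup ↥H).map H.subtype = E := by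
    rw [hR]
    exact Subgroup.map_subgroupOf_eq_of_le hEH
  have hinj : ∀ a ∈ (R : Subgroup ↥H), ∀ b ∈ (R : Subgroup ↥H), H.subtype a = H.subtype b → a = b :=
    fun a _ b _ hab => H.subtype_injective hab
  refine IH R ⟨?_, ?_⟩
  · have e : (JJ p (R : Subgroup ↥H)).map H.subtype = JJ p E := by
      rw [← JJ_map _ hinj, hRm]
    have hle : (Subgroup.normalizer (JJ p (R : Subgroup ↥H) : Set ↥H)).map H.subtype ≤
        Subgroup.normalizer (JJ p E : Set Y) := by
      rw [← e]
      exact Subgroup.le_normalizer_map _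
    have h2 := npc_le hle h.1
    have hinj2 : Function.Injective (H.subtype.subgroupMap (Subgroup.normalizer (JJ p (R : Subgroup ↥H) : Set ↥H))) :=
      fun a b hab => Subtype.ext (Subtype.ext (by simpa using Subtype.ext_iff.1 hab))
    exact npc_of_injective _ hinj2 h2
  · have e : (ZZ (R : Subgroup ↥H)).map H.subtype = ZZ E := by
      have := center_map (J := (R : Subgroup ↥H)) H.subtype hinj
      rw [hRm] at this
      exact this
    have hle : (Subgroup.centralizer (ZZ (R : Subgroup ↥H) : Set ↥H)).map H.subtype ≤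
        Subgroup.centralizer (ZZ E : Set Y) := by
      rw [← e]
      rintro _ ⟨c, hc, rfl⟩
      rw [Subgroup.mem_centralizer_iff]
      rintro _ ⟨z, hz, rfl⟩
      exact congrArg Subtype.val (Subgroup.mem_centralizer_iff.1 hc z hz)
    have h2 := npc_le hle h.2
    have hinj2 : Function.Injective (H.subtype.subgroupMap (Subgroup.centralizer (ZZ (R : Subgroup ↥H) : Set ↥H))) :=
      fun a b hab => Subtype.ext (Subtype.ext (by simpa using Subtype.ext_iff.1 hab))
    exact npc_of_injective _ hinj2 h2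

/-- The first step: a nontrivial `p`-core. -/
theorem step_coreT (hp2 : p ≠ 2) (T : Sylow p Y) (hT : Hy p (T : Subgroup Y))
    (IHsub : ∀ H : Subgroup Y, H ≠ ⊤ → ∀ E : Subgroup Y, E ≤ H → IsSylowIn p E H → Hy p E →
      HasNormalPComplement p H)
    (hnot : ¬ HasNormalPComplement p Y) : pCore p Y ≠ ⊥ := by
  have key : ∀ (n : ℕ) (P : Subgroup Y), P ≤ T → P ≠ ⊥ →
      IsSylowIn p ((T : Subgroup Y) ⊓ Subgroup.normalizer (P : Set Y)) (Subgroup.normalizer (P : Set Y)) →
      ¬ HasNormalPComplement p ↥(Subgroup.normalizer (P : Set Y)) →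
      Nat.card (T : Subgroup Y) - Nat.card ((T : Subgroup Y) ⊓ Subgroup.normalizer (P : Set Y) : Subgroup Y) = n →
      pCore p Y ≠ ⊥ := by
    intro n
    induction n using Nat.strong_induction_on with
    | _ n IH =>
    intro P hPT hPne hPS hPnpc hn
    have hPp : IsPGroup p P := T.isPGroup'.to_le hPT
    by_cases htop : Subgroup.normalizer (P : Set Y) = ⊤
    · intro hbot
      have hPn : P.Normal := Subgroup.normalizer_eq_top_iff.1 htop
      have h1 : P ≤ pCore p Y := Cfsg.Agent.Lib.PCore.le_pCore hPn hPp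
      rw [hbot] at h1
      exact hPne (le_bot_iff.1 h1)
    set E : Subgroup Y := (T : Subgroup Y) ⊓ Subgroup.normalizer (P : Set Y) with hE
    have hEp : IsPGroup p E := T.isPGroup'.to_le inf_le_left
    have hET : E ≤ T := inf_le_left
    have hPE : P ≤ E := le_inf hPT Subgroup.le_normalizer
    have hEne : E ≠ ⊥ := fun h => hPne (le_bot_iff.1 (h ▸ hPE))
    have h1 : ¬ Hy p E := fun h => hPnpc (IHsub _ htop E inf_le_right hPS h)
    have hEneT : E ≠ (T : Subgroup Y) := by
      intro h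
      apply h1
      rw [h]
      exact hT
    -- the next subgroup
    obtain ⟨P', hP'E, hP'ne, hP'n, hP'npc⟩ : ∃ P' : Subgroup Y, P' ≤ E ∧ P' ≠ ⊥ ∧
        Subgroup.normalizer (E : Set Y) ≤ Subgroup.normalizer (P' : Set Y) ∧
        ¬ HasNormalPComplement p ↥(Subgroup.normalizer (P' : Set Y)) := by
      by_cases h2 : HasNormalPComplement p ↥(Subgroup.normalizer (JJ p E : Set Y))
      · have h3 : ¬ HasNormalPComplement p ↥(Subgroup.centralizer (ZZ E : Set Y)) := fun h => h1 ⟨h2, h⟩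
        refine ⟨ZZ E, inf_le_left, ZZ_ne_bot hEp hEne, normalizer_center_le E, fun h => h3 ?_⟩
        exact npc_le (centralizer_le_normalizer _) h
      · exact ⟨JJ p E, JJ_le E, JJ_ne_bot hp2 hEp hEne, normalizer_le_JJ E, h2⟩
    obtain ⟨x, hxT, hx⟩ := exists_conj_tame T P' (hP'E.trans hET)
    have hnpc' : ¬ HasNormalPComplement p ↥(Subgroup.normalizer ((cj x P' : Subgroup Y) : Set Y)) := by
      intro h
      rw [normalizer_cj] at h
      exact hP'npc (npc_cj x _ h)
    have hne' : cj x P' ≠ ⊥ := cj_ne_bot hP'ne x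
    -- larger normalizer
    obtain ⟨hle1, hnle⟩ := Cfsg.Agent.Lib.TameInter.lt_inf_normalizer T.isPGroup' hET hEneT
    have hlt : Nat.card E < Nat.card ((T : Subgroup Y) ⊓ Subgroup.normalizer (E : Set Y) : Subgroup Y) :=
      Cfsg.Agent.Lib.TameInter.card_lt_of_le_of_not_le hle1 hnle
    have hge : Nat.card ((T : Subgroup Y) ⊓ Subgroup.normalizer (E : Set Y) : Subgroup Y) ≤
        Nat.card ((T : Subgroup Y) ⊓ Subgroup.normalizer ((cj x P' : Subgroup Y) : Set Y) : Subgroup Y) := by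
      have h3 : cj x ((T : Subgroup Y) ⊓ Subgroup.normalizer (E : Set Y)) ≤
          Subgroup.normalizer ((cj x P' : Subgroup Y) : Set Y) := by
        rw [normalizer_cj]
        exact cj_mono _ (inf_le_right.trans hP'n)
      have h4 := hx.card_le inf_le_right h3
        ((T.isPGroup'.to_le inf_le_left).map _)
      rwa [card_cj] at h4
    have hTle : Nat.card ((T : Subgroup Y) ⊓ Subgroup.normalizer ((cj x P' : Subgroup Y) : Set Y) : Subgroup Y) ≤ Nat.card (T : Subgroup Y) :=
      Subgroup.card_le_of_le inf_le_left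
    refine IH _ ?_ (cj x P') hxT hne' hx hnpc' rfl
    rw [← hn]
    omega
  intro hbot
  apply hnot
  rw [Cfsg.Agent.Lib.PNilp.frobenius]
  intro Q hQp hQne
  by_contra hQnpc
  obtain ⟨y, hy⟩ := exists_conj_le_sylow T hQp
  have hy' : cj y Q ≤ T := hy
  obtain ⟨x, hxT, hx⟩ := exists_conj_tame T (cj y Q) hy'
  refine key _ _ hxT ?_ hx ?_ rfl hbot
  · intro h
    apply hQne
    rw [cj_cj] at h
    have h2 : Q.map (MulAut.conj (x * y)).toMonoidHom = ⊥ := h
    exact (Subgroup.map_eq_bot_iff_of_injective _ (MulAut.conj _).injective).1 h2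
  · intro h
    rw [cj_cj, normalizer_cj] at h
    exact hQnpc (npc_cj _ _ h)

/-- Centralizers and coprime quotients. -/
theorem centralizer_map_le_of_coprime (L : Subgroup Y) [hLn : L.Normal] (hL : ¬ p ∣ Nat.card L)
    (V : Subgroup Y) (hV : IsPGroup p V) :
    Subgroup.centralizer ((V.map (QuotientGroup.mk' L) : Subgroup (Y ⧸ L)) : Set (Y ⧸ L)) ≤
      (Subgroup.centralizer (V : Set Y)).map (QuotientGroup.mk' L) := by
  intro y hy
  obtain ⟨n, hn, rfl⟩ := normalizer_map_le_of_coprime L hL V hV (centralizer_le_normalizer _ hy)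
  refine ⟨n, ?_, rfl⟩
  show n ∈ Subgroup.centralizer (V : Set Y)
  rw [Subgroup.mem_centralizer_iff]
  intro v hv
  have h1 := Subgroup.mem_centralizer_iff.1 hy _ (Subgroup.mem_map_of_mem _ hv)
  have h2 : n * v * n⁻¹ * v⁻¹ ∈ L := by
    have h3 : QuotientGroup.mk' L (n * v * n⁻¹ * v⁻¹) = 1 := by
      simp only [map_mul, map_inv]
      rw [← h1]
      group
    exact (QuotientGroup.eq_one_iff _).1 h3
  have h4 : n * v * n⁻¹ * v⁻¹ ∈ V :=
    V.mul_mem ((Subgroup.mem_normalizer_iff.1 hn v).1 hv) (V.inv_mem hv)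
  have h5 := eq_one_of_mem hL hV h2 h4
  have h6 : n * v * n⁻¹ = v := mul_inv_eq_one.1 h5
  calc v * n = (n * v * n⁻¹) * n := by rw [h6]
    _ = n * v := by group

/-- The quotient by `O_{p'}`. -/
theorem step_coprimeT (T : Sylow p Y) (hT : Hy p (T : Subgroup Y))
    (IHquot : ∀ (N : Subgroup Y) [N.Normal], N ≠ ⊥ → ∀ T' : Sylow p (Y ⧸ N),
      Hy p (T' : Subgroup (Y ⧸ N)) → HasNormalPComplement p (Y ⧸ N))
    (hnot : ¬ HasNormalPComplement p Y) : pPrimeCore p Y = ⊥ := by
  by_contra hL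
  haveI := Cfsg.Agent.Lib.FitCore.pPrimeCore_normal (G := Y) p
  set L : Subgroup Y := pPrimeCore p Y with hLd
  have hLp : ¬ p ∣ Nat.card L := Cfsg.Agent.Lib.FitCore.not_dvd_card_pPrimeCore p Fact.out
  apply hnot
  apply npc_of_quot_coprime L hLp
  have hsurj : Function.Surjective (QuotientGroup.mk' L) := QuotientGroup.mk'_surjective L
  have hinj : ∀ a ∈ (T : Subgroup Y), ∀ b ∈ (T : Subgroup Y),
      QuotientGroup.mk' L a = QuotientGroup.mk' L b → a = b := mk_inj hLp T.isPGroup'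
  have hc : ((T.mapSurjective hsurj : Sylow p (Y ⧸ L)) : Subgroup (Y ⧸ L)) = (T : Subgroup Y).map (QuotientGroup.mk' L) := rfl
  refine IHquot L hL (T.mapSurjective hsurj) ⟨?_, ?_⟩
  · rw [hc, JJ_map _ hinj]
    exact npc_le (normalizer_map_le_of_coprime L hLp _ (T.isPGroup'.to_le (JJ_le _))) (npc_map _ _ hT.1)
  · rw [hc]
    have e : ZZ ((T : Subgroup Y).map (QuotientGroup.mk' L)) = (ZZ (T : Subgroup Y)).map (QuotientGroup.mk' L) :=
      (center_map (J := (T : Subgroup Y)) (QuotientGroup.mk' L) hinj).symm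
    rw [e]
    exact npc_le (centralizer_map_le_of_coprime L hLp _ (T.isPGroup'.to_le inf_le_left)) (npc_map _ _ hT.2)

/-- The quotient by `O_p`. -/
theorem step_quotT (hp2 : p ≠ 2) (T : Sylow p Y) (hT : Hy p (T : Subgroup Y))
    (hIH : ∀ H : Subgroup Y, H ≠ ⊤ → (T : Subgroup Y) ≤ H → HasNormalPComplement p H)
    (IHquot : ∀ (N : Subgroup Y) [N.Normal], N ≠ ⊥ → ∀ T' : Sylow p (Y ⧸ N),
      Hy p (T' : Subgroup (Y ⧸ N)) → HasNormalPComplement p (Y ⧸ N))
    (hQ : pCore p Y ≠ ⊥) (hnot : ¬ HasNormalPComplement p Y) :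
    HasNormalPComplement p (Y ⧸ pCore p Y) := by
  classical
  set Q : Subgroup Y := pCore p Y with hQd
  haveI hQn : Q.Normal := Cfsg.Agent.Lib.PCore.pCore_normal p Y
  have hQp : IsPGroup p Q := Cfsg.Agent.Lib.PCore.isPGroup_pCore p Y
  have hQT : Q ≤ (T : Subgroup Y) := Cfsg.Agent.Lib.PCore.pCore_le_sylow T
  have hsurj : Function.Surjective (QuotientGroup.mk' Q) := QuotientGroup.mk'_surjective Q
  set π := QuotientGroup.mk' Q with hπ
  have hkerπ : π.ker = Q := QuotientGroup.ker_mk' Q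
  have hTQ : ¬ (T : Subgroup Y) ≤ Q := by
    intro h
    apply hnot
    have h1 : (T : Subgroup Y) = Q := le_antisymm h hQT
    have h2 : Subgroup.normalizer ((T : Subgroup Y) : Set Y) = ⊤ := by
      rw [h1]
      exact Subgroup.normalizer_eq_top _
    have h3 := normalizer_le_JJ (p := p) (T : Subgroup Y)
    rw [h2, top_le_iff] at h3
    have h4 := hT.1
    rw [h3] at h4
    exact npc_top_iff.1 h4
  have hSbp : IsPGroup p ((T : Subgroup Y).map π) := T.isPGroup'.map π
  have hSbne : (T : Subgroup Y).map π ≠ ⊥ := by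
    intro h0
    apply hTQ
    rw [← hkerπ]
    intro s hs
    have : π s ∈ (T : Subgroup Y).map π := ⟨s, hs, rfl⟩
    rw [h0] at this
    exact this
  -- generic: a nontrivial `p`-subgroup of the quotient normalized by the image of `T`
  have hgen : ∀ V : Subgroup (Y ⧸ Q), IsPGroup p V → V ≠ ⊥ →
      (T : Subgroup Y).map π ≤ Subgroup.normalizer (V : Set (Y ⧸ Q)) →
      HasNormalPComplement p ↥(Subgroup.normalizer (V : Set (Y ⧸ Q))) := by
    intro V hVp hVne hTV
    set LW : Subgroup Y := (Subgroup.normalizer (V : Set (Y ⧸ Q))).comap π with hLW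
    have hmap : LW.map π = Subgroup.normalizer (V : Set (Y ⧸ Q)) :=
      Subgroup.map_comap_eq_self_of_surjective hsurj _
    have hLWtop : LW ≠ ⊤ := by
      intro htop
      have h1 : Subgroup.normalizer (V : Set (Y ⧸ Q)) = ⊤ := by
        rw [← hmap, htop, Subgroup.map_top_of_surjective _ hsurj]
      have hVn : V.Normal := (Subgroup.normalizer_eq_top_iff).1 h1
      have : V ≤ pCore p (Y ⧸ Q) := Cfsg.Agent.Lib.PCore.le_pCore hVn hVp
      rw [pCore_quotient_eq_bot] at this
      exact hVne (le_bot_iff.1 this)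
    have hSLW : (T : Subgroup Y) ≤ LW := fun s hs => hTV ⟨s, hs, rfl⟩
    have h2 := npc_map π LW (hIH LW hLWtop hSLW)
    rw [hmap] at h2
    exact h2
  refine IHquot Q hQ (T.mapSurjective hsurj) ⟨?_, ?_⟩
  · have hc : ((T.mapSurjective hsurj : Sylow p (Y ⧸ Q)) : Subgroup (Y ⧸ Q)) = (T : Subgroup Y).map π := rfl
    rw [hc]
    refine hgen _ (hSbp.to_le (JJ_le _)) (JJ_ne_bot hp2 hSbp hSbne) ?_
    exact (Subgroup.le_normalizer).trans (normalizer_le_JJ _)
  · have hc : ((T.mapSurjective hsurj : Sylow p (Y ⧸ Q)) : Subgroup (Y ⧸ Q)) = (T : Subgroup Y).map π := rfl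
    rw [hc]
    have h1 := hgen (ZZ ((T : Subgroup Y).map π)) (hSbp.to_le inf_le_left) (ZZ_ne_bot hSbp hSbne)
      ((Subgroup.le_normalizer).trans (normalizer_center_le _))
    exact npc_le (centralizer_le_normalizer _) h1

/-- The final factorization. -/
theorem final_fac (hp2 : p ≠ 2) (T : Sylow p Y) (hT : Hy p (T : Subgroup Y))
    (hc : Subgroup.centralizer (pCore p Y : Set Y) ≤ pCore p Y)
    (hst : ∀ B : Subgroup Y, B.Normal → IsPGroup p B → StabOn p B)
    (hca : IsCoatom (T : Subgroup Y)) : HasNormalPComplement p Y := by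
  classical
  have hTJ : (T : Subgroup Y) ≤ Subgroup.normalizer (JJ p (T : Subgroup Y) : Set Y) :=
    (Subgroup.le_normalizer).trans (normalizer_le_JJ _)
  by_cases hN : Subgroup.normalizer (JJ p (T : Subgroup Y) : Set Y) = ⊤
  · have h4 := hT.1
    rw [hN] at h4
    exact npc_top_iff.1 h4
  have hNT : Subgroup.normalizer (JJ p (T : Subgroup Y) : Set Y) = T := by
    by_contra hne
    exact hN (hca.2 _ (lt_of_le_of_ne hTJ (Ne.symm hne)))
  have hsc : IsStronglyClosed (T : Subgroup Y) (T : Subgroup Y) := ⟨le_rfl, fun _ _ _ h => h⟩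
  have hZn : (ZZ (T : Subgroup Y)).Normal := by
    refine zj_normal_p hp2 T hsc hc hst _ inf_le_left ?_ ?_ ?_
    · intro y hy z hz
      exact Subgroup.mem_centralizer_iff.1 hz.2 y hy.1
    · intro y hy A hA a ha
      exact (Subgroup.mem_centralizer_iff.1 hy.2 a (hA.1 ha)).symm
    · rw [hNT]
      exact (Subgroup.le_normalizer).trans (normalizer_center_le _)
  have hcomm : ∀ b ∈ ZZ (T : Subgroup Y), ∀ c ∈ ZZ (T : Subgroup Y), ⁅b, c⁆ = 1 := by
    intro b hb c hc
    rw [commutatorElement_eq_one_iff_mul_comm]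
    exact Subgroup.mem_centralizer_iff.1 hc.2 b hb.1
  have hfac := main_B_p hp2 T hsc hZn (E := ZZ (T : Subgroup Y))
    (le_antisymm Subgroup.le_normalClosure (Subgroup.normalClosure_le_normal le_rfl))
    inf_le_left inf_le_left
    (fun z hz A hA a ha => (Subgroup.mem_centralizer_iff.1 hz.2 a (hA.1 ha)).symm)
    (fun b hb c hc d _ => by rw [hcomm b hb c hc]; group)
    (fun b hb c hc A hA a _ => by rw [hcomm b hb c hc]; group)
    (hst _ (omegaOne_normal p hZn) ((T.isPGroup'.to_le inf_le_left).to_le (omegaOne_le p _)))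
  haveI hCn : (Subgroup.centralizer (ZZ (T : Subgroup Y) : Set Y)).Normal := Subgroup.normal_centralizer
  refine npc_of_normal_pquot _ (fun g => ?_) hT.2
  obtain ⟨c, hc', n, hn, rfl⟩ := hfac g
  rw [hNT] at hn
  obtain ⟨k, hk⟩ := T.isPGroup' ⟨n, hn⟩
  have hk' : n ^ p ^ k = 1 := by
    have := congrArg Subtype.val hk
    simpa using this
  refine ⟨k, ?_⟩
  rw [← QuotientGroup.eq_one_iff, QuotientGroup.mk_pow, QuotientGroup.mk_mul,
    (QuotientGroup.eq_one_iff c).2 hc', one_mul, ← QuotientGroup.mk_pow, hk']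
  rfl

/-- The inductive step. -/
theorem npc_stepT (hp2 : p ≠ 2) (T : Sylow p Y) (hT : Hy p (T : Subgroup Y))
    (IHsub : ∀ H : Subgroup Y, H ≠ ⊤ → ∀ E : Subgroup Y, E ≤ H → IsSylowIn p E H → Hy p E →
      HasNormalPComplement p H)
    (IHquot : ∀ (N : Subgroup Y) [N.Normal], N ≠ ⊥ → ∀ T' : Sylow p (Y ⧸ N),
      Hy p (T' : Subgroup (Y ⧸ N)) → HasNormalPComplement p (Y ⧸ N)) :
    HasNormalPComplement p Y := by
  by_contra hnot
  have hIH : ∀ H : Subgroup Y, H ≠ ⊤ → (T : Subgroup Y) ≤ H → HasNormalPComplement p H := fun H hH hTH =>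
    IHsub H hH T hTH (SylowIn.IsSylowIn.mono (Cfsg.Agent.Lib.WeakCl.isSylowIn_top T) hTH le_top) hT
  have hQ := step_coreT hp2 T hT IHsub hnot
  have hL := step_coprimeT T hT IHquot hnot
  have hq := step_quotT hp2 T hT hIH IHquot hQ hnot
  have hc := step_constrained' T hIH hL hq hnot
  have hca := step_coatom' T hIH hc hnot
  have hst := stable_of_hasP hp2 (hasP_of_coatom hq T hca)
  exact hnot (final_fac hp2 T hT hc (fun B hBn hB => stabOn_of_normalizerStable hst hBn hB) hca)

end step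

/-- Thompson's normal `p`-complement theorem. -/
theorem npc_thompson (hp2 : p ≠ 2) (n : ℕ) :
    ∀ (X : Type u) [Group X] [Finite X], Nat.card X = n → ∀ T : Sylow p X,
      Hy p (T : Subgroup X) → HasNormalPComplement p X := by
  induction n using Nat.strong_induction_on with
  | _ n IH =>
    intro X _ _ hn T hT
    refine npc_stepT hp2 T hT ?_ ?_
    · intro H hH E hEH hE hN
      have hlt : Nat.card H < n := by
        rw [← hn]
        refine lt_of_le_of_ne (Subgroup.card_le_card_group H) ?_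
        intro hc
        exact hH (Subgroup.eq_top_of_card_eq H hc)
      exact sub_hy H (fun T' hT' => IH _ hlt H rfl T' hT') hE hEH hN
    · intro N _ hN T' hT'
      have hlt : Nat.card (X ⧸ N) < n := by
        rw [← hn, Subgroup.card_eq_card_quotient_mul_card_subgroup N]
        have h1 : 1 < Nat.card N := by
          rw [Finite.one_lt_card_iff_nontrivial]
          exact (Subgroup.nontrivial_iff_ne_bot N).2 hN
        have h2 : 0 < Nat.card (X ⧸ N) := Nat.card_pos
        nlinarith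
      exact IH _ hlt (X ⧸ N) rfl T' hT'

end Cfsg.Agent.Lib.ZJThompson
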