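import Mathlib
import Cfsg.Agent.Lib.ZJThompson
import Cfsg.Agent.Lib.ThompsonFpf
import Cfsg.Agent.Lib.FitCore

/-! The norm computation behind the Hughes-Kegel-Thompson theorem. -/

set_option autoImplicit false
set_option linter.all false

universe u

namespace Cfsg.Agent.Lib.H6Hughes

open scoped commutatorElement

section norm

variable {A Q : Type*} [CommGroup A] [Group Q] [Finite Q]

/-- The main computation: if all elements of the coset `t₀ K` are of order dividing `p`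
with trivial norm on `A`, then the trace over `K` of `v` is `v ^ |K|`. -/
theorem norm_trick (ρ : Q →* MulAut A) (K : Subgroup Q) [Fintype K] (p : ℕ) (hp : p.Prime) (t₀ : Q)
    (ht : t₀ ∈ Subgroup.normalizer (K : Set Q))
    (h1 : ∀ y ∈ K, (t₀ * y) ^ p = 1)
    (h2 : ∀ y ∈ K, ∀ v : A, ∏ j ∈ Finset.range p, ρ ((t₀ * y) ^ j) v = 1) (v : A) :
    ∏ z : K, ρ (z : Q) v = v ^ Nat.card K := by
  classical
  set τ : A → A := fun v => ∏ z : K, ρ (z : Q) v with hτ
  -- the coset computation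
  have hcoset : ∀ j : ℕ, ∀ y ∈ K, (t₀ ^ j)⁻¹ * (t₀ * y) ^ j ∈ K := by
    intro j
    induction j with
    | zero => intro y _; simpa using K.one_mem
    | succ j ih =>
      intro y hy
      have h3 : (t₀ ^ (j + 1))⁻¹ * (t₀ * y) ^ (j + 1)
          = t₀⁻¹ * ((t₀ ^ j)⁻¹ * (t₀ * y) ^ j) * t₀ * y := by
        rw [pow_succ, pow_succ]
        group
      rw [h3]
      refine K.mul_mem ?_ hy
      have h4 := (Subgroup.mem_normalizer_iff.1 (Subgroup.inv_mem _ ht) _).1 (ih y hy)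
      simpa using h4
  -- injectivity
  have hinj : ∀ j ∈ Finset.Ico 1 p, ∀ y ∈ K, ∀ y' ∈ K, (t₀ * y) ^ j = (t₀ * y') ^ j → y = y' := by
    intro j hj y hy y' hy' he
    have hjp : Nat.Coprime j p := by
      rw [Finset.mem_Ico] at hj
      exact (Nat.coprime_comm.1 ((Nat.Prime.coprime_iff_not_dvd hp).2
        (Nat.not_dvd_of_pos_of_lt (by omega) hj.2)))
    obtain ⟨m, hm⟩ : ∃ m : ℕ, j * m % p = 1 % p := by
      obtain ⟨m, -, hm⟩ := Nat.exists_mul_mod_eq_one_of_coprime hjp hp.one_lt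
      exact ⟨m, by rw [hm, Nat.mod_eq_of_lt hp.one_lt]⟩
    have hpow : ∀ z : Q, z ^ p = 1 → (z ^ j) ^ m = z := by
      intro z hz
      rw [← pow_mul, pow_eq_pow_mod _ hz, hm, ← pow_eq_pow_mod _ hz, pow_one]
    have h5 := hpow _ (h1 y hy)
    have h6 := hpow _ (h1 y' hy')
    rw [he, h6] at h5
    exact (mul_left_cancel h5).symm
  -- reindexing
  have hreidx : ∀ j ∈ Finset.Ico 1 p, ∀ v : A,
      ∏ y : K, ρ ((t₀ * y) ^ j) v = ρ (t₀ ^ j) (τ v) := by
    intro j hj v
    let f : K → K := fun y => ⟨(t₀ ^ j)⁻¹ * (t₀ * y) ^ j, hcoset j y y.2⟩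
    have hf : Function.Injective f := by
      intro y y' he
      have h7 : (t₀ ^ j)⁻¹ * (t₀ * (y : Q)) ^ j = (t₀ ^ j)⁻¹ * (t₀ * (y' : Q)) ^ j :=
        congrArg Subtype.val he
      exact Subtype.ext (hinj j hj y y.2 y' y'.2 (mul_left_cancel h7))
    have hfb : Function.Bijective f := Finite.injective_iff_bijective.1 hf
    rw [hτ]
    show _ = ρ (t₀ ^ j) (∏ z : K, ρ (z : Q) v)
    rw [map_prod]
    rw [← Function.Bijective.prod_comp hfb (fun z : K => ρ (t₀ ^ j) (ρ (z : Q) v))]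
    apply Finset.prod_congr rfl
    intro y _
    show _ = ρ (t₀ ^ j) (ρ ((t₀ ^ j)⁻¹ * (t₀ * y) ^ j) v)
    rw [← MulAut.mul_apply, ← map_mul]
    congr 2
    group
  have hcard : (Finset.univ : Finset K).card = Nat.card K := by
    rw [Nat.card_eq_fintype_card, Finset.card_univ]
  -- the double product
  have hd : (1 : A) = v ^ Nat.card K * ∏ j ∈ Finset.Ico 1 p, ρ (t₀ ^ j) (τ v) := by
    have h8 : ∏ y : K, ∏ j ∈ Finset.range p, ρ ((t₀ * y) ^ j) v = 1 := by
      apply Finset.prod_eq_one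
      intro y _
      exact h2 y y.2 v
    have h9 : ∀ y : K, ∏ j ∈ Finset.range p, ρ ((t₀ * y) ^ j) v
        = v * ∏ j ∈ Finset.Ico 1 p, ρ ((t₀ * y) ^ j) v := by
      intro y
      rw [Finset.range_eq_Ico, Finset.prod_eq_prod_Ico_succ_bot hp.pos]
      simp
    rw [← h8, Finset.prod_congr rfl (fun y _ => h9 y), Finset.prod_mul_distrib,
      Finset.prod_const, hcard, Finset.prod_comm]
    congr 1
    exact Finset.prod_congr rfl fun j hj => hreidx j hj v
  have hc : (1 : A) = τ v * ∏ j ∈ Finset.Ico 1 p, ρ (t₀ ^ j) (τ v) := by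
    have h10 := h2 1 K.one_mem (τ v)
    rw [mul_one, Finset.range_eq_Ico, Finset.prod_eq_prod_Ico_succ_bot hp.pos] at h10
    simpa using h10.symm
  have hfin : τ v = v ^ Nat.card K := by
    have h11 := hd.symm.trans hc
    exact (mul_right_cancel h11).symm
  exact hfin

/-- Coprime form. -/
theorem norm_trivial [Finite A] (ρ : Q →* MulAut A) (K : Subgroup Q) (p : ℕ) (hp : p.Prime) (t₀ : Q)
    (ht : t₀ ∈ Subgroup.normalizer (K : Set Q))
    (h1 : ∀ y ∈ K, (t₀ * y) ^ p = 1)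
    (h2 : ∀ y ∈ K, ∀ v : A, ∏ j ∈ Finset.range p, ρ ((t₀ * y) ^ j) v = 1)
    (hc : Nat.Coprime (Nat.card A) (Nat.card K)) (z : Q) (hz : z ∈ K) (v : A) : ρ z v = v := by
  classical
  haveI : Fintype K := Fintype.ofFinite _
  have h3 := norm_trick ρ K p hp t₀ ht h1 h2 v
  have h4 := norm_trick ρ K p hp t₀ ht h1 h2 (ρ z v)
  have h5 : ∏ w : K, ρ (w : Q) (ρ z v) = ∏ w : K, ρ (w : Q) v := by
    have hb : Function.Bijective (fun w : K => w * (⟨z, hz⟩ : K)) := (Equiv.mulRight (⟨z, hz⟩ : K)).bijective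
    rw [← Function.Bijective.prod_comp hb (fun w : K => ρ (w : Q) v)]
    apply Finset.prod_congr rfl
    intro w _
    show _ = ρ ((w : Q) * z) v
    rw [map_mul, MulAut.mul_apply]
  rw [h5, h3] at h4
  have h6 := (powCoprime hc).injective (a₁ := ρ z v) (a₂ := v) (by
    simp only [powCoprime_apply]
    exact h4.symm)
  exact h6

end norm

/-- The `n`-th power of `v * t`. -/
theorem pow_mul_eq {A Γ : Type*} [CommGroup A] [Group Γ] (ι : A →* Γ) (ρ : Γ →* MulAut A)
    (hρ : ∀ (g : Γ) (a : A), ι (ρ g a) = g * ι a * g⁻¹) (t : Γ) (v : A) (n : ℕ) :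
    (ι v * t) ^ n = ι (∏ j ∈ Finset.range n, ρ (t ^ j) v) * t ^ n := by
  induction n with
  | zero => simp
  | succ n ih =>
    rw [pow_succ, ih, Finset.prod_range_succ, map_mul, hρ, pow_succ t n]
    simp only [mul_assoc, inv_mul_cancel_left]

/-- The descended form. -/
theorem conj_trivial {A Γ Q : Type*} [CommGroup A] [Finite A] [Group Γ] [Group Q] [Finite Q]
    (ι : A →* Γ) (hι : Function.Injective ι) (π : Γ →* Q) (hπ : Function.Surjective π)
    (ρ : Q →* MulAut A) (hρ : ∀ (g : Γ) (a : A), ι (ρ (π g) a) = g * ι a * g⁻¹)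
    (K : Subgroup Q) (p : ℕ) (hp : p.Prime) (t₀ : Γ)
    (ht : π t₀ ∈ Subgroup.normalizer (K : Set Q))
    (h : ∀ y : Γ, π y ∈ K → ∀ v : A, (ι v * (t₀ * y)) ^ p = 1)
    (hc : Nat.Coprime (Nat.card A) (Nat.card K)) (z : Γ) (hz : π z ∈ K) (v : A) :
    z * ι v * z⁻¹ = ι v := by
  classical
  have key := norm_trivial ρ K p hp (π t₀) ht ?_ ?_ hc (π z) hz v
  · rw [← hρ, key]
  · intro y hy
    obtain ⟨y, rfl⟩ := hπ y
    have h1 := h y hy 1
    rw [map_one, one_mul] at h1
    rw [← map_mul, ← map_pow, h1, map_one]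
  · intro y hy v
    obtain ⟨y, rfl⟩ := hπ y
    have h1 := h y hy 1
    rw [map_one, one_mul] at h1
    have h2 := h y hy v
    have h3 := pow_mul_eq ι (ρ.comp π) (fun g a => hρ g a) (t₀ * y) v p
    rw [h2, h1, mul_one] at h3
    have h4 : ∏ j ∈ Finset.range p, ((ρ.comp π) ((t₀ * y) ^ j)) v = 1 := hι (by rw [← h3, map_one])
    rw [← h4]
    apply Finset.prod_congr rfl
    intro j _
    simp [map_mul, map_pow]

/-- The commutative structure on an abelian subgroup. -/
abbrev commOf {Γ : Type*} [Group Γ] (A : Subgroup Γ) (h : ∀ a ∈ A, ∀ b ∈ A, a * b = b * a) : CommGroup A :=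
  { (inferInstance : Group A) with mul_comm := fun a b => Subtype.ext (h a a.2 b b.2) }

section conj

variable {Γ : Type*} [Group Γ] [Finite Γ]

theorem centralize_abelian (A : Subgroup Γ) [A.Normal] (hcomm : ∀ a ∈ A, ∀ b ∈ A, a * b = b * a)
    (K : Subgroup Γ) (p : ℕ) (hp : p.Prime) (t₀ : Γ) (ht : t₀ ∈ Subgroup.normalizer (K : Set Γ))
    (h : ∀ y ∈ K, ∀ v ∈ A, (v * (t₀ * y)) ^ p = 1)
    (hc : Nat.Coprime (Nat.card A) (Nat.card K)) (z : Γ) (hz : z ∈ K) (v : Γ) (hv : v ∈ A) :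
    z * v * z⁻¹ = v := by
  letI := commOf A hcomm
  exact conj_trivial (A := ↥A) (Γ := Γ) (Q := Γ) A.subtype A.subtype_injective (MonoidHom.id Γ)
    Function.surjective_id MulAut.conjNormal (fun g a => by simp) K p hp t₀ ht
    (fun y hy v => h y hy v v.2) hc z hz ⟨v, hv⟩

theorem centralize_abelian_quot (W : Subgroup Γ) [W.Normal] (hcomm : ∀ a ∈ W, ∀ b ∈ W, a * b = b * a)
    (K : Subgroup (Γ ⧸ W)) (p : ℕ) (hp : p.Prime) (t₀ : Γ)
    (ht : (t₀ : Γ ⧸ W) ∈ Subgroup.normalizer (K : Set (Γ ⧸ W)))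
    (h : ∀ y : Γ, (y : Γ ⧸ W) ∈ K → ∀ v ∈ W, (v * (t₀ * y)) ^ p = 1)
    (hc : Nat.Coprime (Nat.card W) (Nat.card K)) (z : Γ) (hz : (z : Γ ⧸ W) ∈ K) (v : Γ) (hv : v ∈ W) :
    z * v * z⁻¹ = v := by
  letI := commOf W hcomm
  have hker : W ≤ (MulAut.conjNormal : Γ →* MulAut W).ker := by
    intro w hw
    rw [MonoidHom.mem_ker]
    ext a
    show ((MulAut.conjNormal w a : W) : Γ) = a
    rw [MulAut.conjNormal_apply, hcomm w hw a a.2]
    simp
  exact conj_trivial (A := ↥W) (Γ := Γ) (Q := Γ ⧸ W) W.subtype W.subtype_injective (QuotientGroup.mk' W)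
    (QuotientGroup.mk'_surjective W) (QuotientGroup.lift W MulAut.conjNormal hker)
    (fun g a => by
      show ((QuotientGroup.lift W MulAut.conjNormal hker (g : Γ ⧸ W) a : W) : Γ) = _
      rw [QuotientGroup.lift_mk]
      simp) K p hp t₀ ht
    (fun y hy v => h y hy v v.2) hc z hz ⟨v, hv⟩

end conj

/-! ### The structural part -/

section struct

open Cfsg Cfsg.Agent.Lib.ZJ Cfsg.Agent.Lib.ZJThompson Cfsg.Agent.Lib.PNilp

theorem mem_of_pow_coprime {X : Type*} [Group X] (S : Subgroup X) (u : X) (n : ℕ)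
    (hu : Nat.Coprime n (orderOf u)) (h : u ^ n ∈ S) : u ∈ S := by
  have h1 := Nat.gcd_eq_gcd_ab n (orderOf u)
  rw [hu] at h1
  have h2 : u = (u ^ n) ^ (Nat.gcdA n (orderOf u)) := by
    have h3 : u ^ ((1 : ℕ) : ℤ) = u ^ ((n : ℤ) * Nat.gcdA n (orderOf u) + (orderOf u : ℤ) * Nat.gcdB n (orderOf u)) := by
      rw [h1]
    rw [zpow_add, zpow_mul u (orderOf u : ℤ), zpow_natCast u (orderOf u), pow_orderOf_eq_one, one_zpow, mul_one,
      zpow_mul, zpow_natCast] at h3
    simpa using h3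
  rw [h2]
  exact S.zpow_mem h _

theorem nilpotent_of_injective {A B : Type*} [Group A] [Group B] [Group.IsNilpotent B] (f : A →* B)
    (hf : Function.Injective f) : Group.IsNilpotent A := by
  have h1 : Group.IsNilpotent f.range := Subgroup.isNilpotent _
  exact nilpotent_of_mulEquiv (MonoidHom.ofInjective hf).symm

variable {p : ℕ} [hp : Fact p.Prime]

theorem order_of_conj {X : Type*} [Group X] (g x : X) : orderOf (g * x * g⁻¹) = orderOf x := by
  simpa using (MulAut.conj g).orderOf_eq x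

/-- Elements in the complement are the `p'`-elements. -/
theorem mem_npc_iff {X : Type*} [Group X] [Finite X] (N : Subgroup X)
    (hN : ¬ p ∣ Nat.card N) (hpow : ∀ g : X, ∃ k : ℕ, g ^ p ^ k ∈ N) (u : X) :
    u ∈ N ↔ ¬ p ∣ orderOf u := by
  constructor
  · intro hu hd
    apply hN
    have h1 : orderOf (⟨u, hu⟩ : N) = orderOf u := Subgroup.orderOf_mk u hu
    exact (h1 ▸ hd).trans (orderOf_dvd_natCard _)
  · intro hu
    obtain ⟨k, hk⟩ := hpow u
    refine mem_of_pow_coprime N u (p ^ k) ?_ hk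
    exact Nat.Coprime.pow_left _ ((Nat.Prime.coprime_iff_not_dvd hp.out).2 hu)

/-- The normal complement is normal in any overgroup normalising. -/
theorem npc_map_normal {Γ : Type*} [Group Γ] [Finite Γ] (G : Subgroup Γ) [hG : G.Normal] (N : Subgroup G)
    (hN : ¬ p ∣ Nat.card N) (hpow : ∀ g : G, ∃ k : ℕ, g ^ p ^ k ∈ N) : (N.map G.subtype).Normal := by
  constructor
  rintro _ ⟨u, hu, rfl⟩ γ
  have hm : γ * (u : Γ) * γ⁻¹ ∈ G := hG.conj_mem _ u.2 γ
  refine ⟨⟨_, hm⟩, ?_, rfl⟩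
  rw [SetLike.mem_coe, mem_npc_iff N hN hpow] at hu ⊢
  rw [← Subgroup.orderOf_coe] at hu ⊢
  show ¬ p ∣ orderOf (γ * (u : Γ) * γ⁻¹)
  rw [order_of_conj]
  exact hu

/-- In a finite nilpotent group a `p`-element commutes with a `p'`-element. -/
theorem commute_of_nilpotent {X : Type*} [Group X] [Finite X] [Group.IsNilpotent X] (a b : X)
    (ha : ∃ k : ℕ, a ^ p ^ k = 1) (hb : ¬ p ∣ orderOf b) : Commute a b := by
  obtain ⟨N, hN, hNp, hpow⟩ := Cfsg.Agent.Lib.PNilp.npc_iff.1 (Cfsg.Agent.Lib.ThompsonFpf.npc_of_nilpotent (N := X) p)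
  have hbN : b ∈ N := (mem_npc_iff N hNp hpow b).2 hb
  obtain ⟨k, hk⟩ := ha
  have hz : IsPGroup p (Subgroup.zpowers a) := by
    rintro ⟨_, n, rfl⟩
    refine ⟨k, Subtype.ext ?_⟩
    show (a ^ n) ^ p ^ k = 1
    rw [← zpow_natCast, ← zpow_mul, mul_comm, zpow_mul, zpow_natCast, hk, one_zpow]
  obtain ⟨P, hP⟩ := hz.exists_le_sylow
  have haP : a ∈ (P : Subgroup X) := hP (Subgroup.mem_zpowers a)
  haveI : (P : Subgroup X).Normal := inferInstance
  have hdis : Disjoint (P : Subgroup X) N := by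
    rw [Subgroup.disjoint_def]
    intro x hx1 hx2
    exact Cfsg.Agent.Lib.SecTransfer.eq_one_of_mem_coprime P.isPGroup' hNp hx1 hx2
  exact Subgroup.commute_of_normal_of_disjoint _ _ inferInstance hN hdis a b haP hbN

/-- The hypothesis of the main theorem. -/
structure Hyp (p : ℕ) {Γ : Type*} [Group Γ] (G : Subgroup Γ) : Prop where
  normal : G.Normal
  index : G.index = p
  pow : ∀ x, x ∉ G → x ^ p = 1

section hyp

variable {Γ : Type u} [Group Γ] {G : Subgroup Γ}

theorem Hyp.quot (h : Hyp p G) (W : Subgroup Γ) [hW : W.Normal] (hWG : W ≤ G) :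
    Hyp p (G.map (QuotientGroup.mk' W)) := by
  refine ⟨?_, ?_, ?_⟩
  · haveI := h.normal
    exact Subgroup.Normal.map h.normal _ (QuotientGroup.mk'_surjective W)
  · rw [Subgroup.index_map, QuotientGroup.ker_mk', sup_eq_left.2 hWG,
      MonoidHom.range_eq_top.2 (QuotientGroup.mk'_surjective W), Subgroup.index_top, mul_one]
    exact h.index
  · intro x hx
    induction x using QuotientGroup.induction_on with
    | H x =>
      have h1 : x ∉ G := fun hx1 => hx ⟨x, hx1, rfl⟩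
      rw [← QuotientGroup.mk_pow, h.pow x h1]
      rfl

theorem mem_of_mk_mem (W : Subgroup Γ) [hW : W.Normal] (hWG : W ≤ G) {z : Γ}
    (hz : (z : Γ ⧸ W) ∈ G.map (QuotientGroup.mk' W)) : z ∈ G := by
  obtain ⟨g, hg, he⟩ := hz
  have h1 : g⁻¹ * z ∈ W := QuotientGroup.eq.1 he
  have h2 : g * (g⁻¹ * z) ∈ G := G.mul_mem hg (hWG h1)
  simpa using h2

theorem Hyp.sub [Finite Γ] (h : Hyp p G) (S : Subgroup Γ) (hS : ¬ S ≤ G) : Hyp p (G.subgroupOf S) := by
  haveI hGn := h.normal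
  refine ⟨?_, ?_, ?_⟩
  · exact Subgroup.Normal.subgroupOf h.normal S
  · have hker : ((QuotientGroup.mk' G).comp S.subtype).ker = G.subgroupOf S := by
      ext x
      simp [Subgroup.mem_subgroupOf]
    rw [← hker, Subgroup.index_ker]
    haveI : Fact (Nat.card (Γ ⧸ G)).Prime := ⟨by
      show (G.index).Prime
      rw [h.index]
      exact hp.out⟩
    have hcq : Nat.card (Γ ⧸ G) = p := h.index
    rcases Subgroup.eq_bot_or_eq_top_of_prime_card ((QuotientGroup.mk' G).comp S.subtype).range with h0 | h0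
    · exfalso
      apply hS
      intro x hx
      have h1 : ((QuotientGroup.mk' G).comp S.subtype) ⟨x, hx⟩ ∈ ((QuotientGroup.mk' G).comp S.subtype).range :=
        ⟨_, rfl⟩
      rw [h0, Subgroup.mem_bot] at h1
      exact (QuotientGroup.eq_one_iff x).1 h1
    · rw [h0, Nat.card_congr Subgroup.topEquiv.toEquiv]
      exact hcq
  · intro x hx
    have h1 : (x : Γ) ∉ G := fun h2 => hx (Subgroup.mem_subgroupOf.2 h2)
    exact Subtype.ext (h.pow _ h1)

variable [Finite Γ]

/-- The induction hypothesis. -/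
def IHyp (p : ℕ) (Γ : Type u) [Group Γ] [Finite Γ] : Prop :=
  ∀ (Γ' : Type u) [Group Γ'] [Finite Γ'], Nat.card Γ' < Nat.card Γ →
    ∀ G' : Subgroup Γ', Hyp p G' → Group.IsNilpotent G'

theorem nil_quot (IH : IHyp p Γ) (h : Hyp p G) (W : Subgroup Γ) [hW : W.Normal] (hWG : W ≤ G) (hne : W ≠ ⊥) :
    Group.IsNilpotent (G.map (QuotientGroup.mk' W)) := by
  refine IH _ ?_ _ (h.quot W hWG)
  rw [Subgroup.card_eq_card_quotient_mul_card_subgroup W]
  have h1 : 1 < Nat.card W := (Subgroup.one_lt_card_iff_ne_bot W).2 hne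
  have h2 : 0 < Nat.card (Γ ⧸ W) := Nat.card_pos
  nlinarith

theorem nil_sub (IH : IHyp p Γ) (h : Hyp p G) (S : Subgroup Γ) (hS : ¬ S ≤ G) (hne : S ≠ ⊤) (Y : Subgroup G)
    (hY : Y.map G.subtype ≤ S) : Group.IsNilpotent Y := by
  have h1 : Group.IsNilpotent (G.subgroupOf S) := by
    refine IH _ ?_ _ (h.sub S hS)
    apply lt_of_le_of_ne (Subgroup.card_le_card_group S)
    intro h2
    exact hne (Subgroup.eq_top_of_card_eq S h2)
  let f : Y →* (G.subgroupOf S) :=
    { toFun := fun y => ⟨⟨(y : G), hY ⟨y, y.2, rfl⟩⟩, Subgroup.mem_subgroupOf.2 (y : G).2⟩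
      map_one' := rfl
      map_mul' := fun _ _ => rfl }
  refine nilpotent_of_injective f ?_
  intro a b hab
  have h3 : (((f a : S) : Γ)) = ((f b : S) : Γ) := by rw [hab]
  exact Subtype.ext (Subtype.ext h3)

/-- All Sylow subgroups escape `G`. -/
theorem sylow_escape (h : Hyp p G) (Q : Sylow p Γ) : ¬ (Q : Subgroup Γ) ≤ G := by
  intro hle
  have h1 := Subgroup.relIndex_mul_index hle
  rw [h.index] at h1
  exact Q.not_dvd_index (Dvd.intro_left _ h1)

/-- The case of an abelian normal `p`-subgroup `W`. -/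
theorem npc_of_abelian (h : Hyp p G) (W : Subgroup Γ) [hW : W.Normal] (hWG : W ≤ G)
    (hcomm : ∀ a ∈ W, ∀ b ∈ W, a * b = b * a) (hWp : IsPGroup p W)
    (hnil : Group.IsNilpotent (G.map (QuotientGroup.mk' W))) :
    HasNormalPComplement p G := by
  classical
  haveI hGn := h.normal
  obtain ⟨t, ht⟩ : ∃ t, t ∉ G := by
    by_contra hall
    push Not at hall
    have h1 : G = ⊤ := eq_top_iff.2 fun x _ => hall x
    have h2 := h.index
    rw [h1, Subgroup.index_top] at h2
    exact hp.out.one_lt.ne h2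
  have hqh := h.quot W hWG
  haveI hGq := hqh.normal
  set Gq := G.map (QuotientGroup.mk' W) with hGqdef
  obtain ⟨Nq, hNq, hNqp, hNqpow⟩ :=
    Cfsg.Agent.Lib.PNilp.npc_iff.1 (Cfsg.Agent.Lib.ThompsonFpf.npc_of_nilpotent (N := Gq) p)
  set Kq : Subgroup (Γ ⧸ W) := Nq.map Gq.subtype with hKq
  haveI hKqn : Kq.Normal := npc_map_normal Gq Nq hNqp hNqpow
  have hcKq : Nat.card Kq = Nat.card Nq := Subgroup.card_map_of_injective Gq.subtype_injective
  have hKqG : ∀ z : Γ, (z : Γ ⧸ W) ∈ Kq → z ∈ G := by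
    intro z hz
    obtain ⟨u, _, hu⟩ := hz
    refine mem_of_mk_mem W hWG (?_ : (z : Γ ⧸ W) ∈ Gq)
    rw [← show ((u : Gq) : Γ ⧸ W) = z from hu]
    exact u.2
  have hcop : Nat.Coprime (Nat.card W) (Nat.card Kq) := by
    obtain ⟨a, ha⟩ := IsPGroup.iff_card.1 hWp
    rw [ha, hcKq]
    exact Nat.Coprime.pow_left _ ((Nat.Prime.coprime_iff_not_dvd hp.out).2 hNqp)
  have hcen := centralize_abelian_quot W hcomm Kq p hp.out t
    (by rw [Subgroup.normalizer_eq_top]; trivial)
    (fun y hy v hv => by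
      apply h.pow
      intro hin
      have hyG := hKqG y hy
      have h1 : v⁻¹ * (v * (t * y)) * y⁻¹ ∈ G := G.mul_mem (G.mul_mem (G.inv_mem (hWG hv)) hin) (G.inv_mem hyG)
      apply ht
      simpa using h1) hcop
  -- now the preimage
  set H : Subgroup Γ := Kq.comap (QuotientGroup.mk' W) with hH
  haveI hHn : H.Normal := Subgroup.Normal.comap hKqn _
  have hWH : W ≤ H := by
    intro w hw
    show (w : Γ ⧸ W) ∈ Kq
    rw [(QuotientGroup.eq_one_iff w).2 hw]
    exact Kq.one_mem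
  let f : H →* Kq := (QuotientGroup.mk' W).subgroupComap Kq
  have hfs : Function.Surjective f :=
    MonoidHom.subgroupComap_surjective_of_surjective _ _ (QuotientGroup.mk'_surjective W)
  have hfk : f.ker = W.subgroupOf H := by
    ext x
    rw [MonoidHom.mem_ker, Subgroup.mem_subgroupOf]
    constructor
    · intro hx
      have h1 : ((f x : Kq) : Γ ⧸ W) = 1 := congrArg Subtype.val hx
      exact (QuotientGroup.eq_one_iff _).1 h1
    · intro hx
      exact Subtype.ext ((QuotientGroup.eq_one_iff _).2 hx)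
  have hW'i : (W.subgroupOf H).index = Nat.card Kq := by
    rw [← hfk, Subgroup.index_ker, MonoidHom.range_eq_top.2 hfs]
    exact Nat.card_congr Subgroup.topEquiv.toEquiv
  have hW'p : IsPGroup p (W.subgroupOf H) := hWp.comap_of_injective H.subtype H.subtype_injective
  have hW'c : Nat.card (W.subgroupOf H) ∣ Nat.card W := by
    obtain ⟨a, ha⟩ := IsPGroup.iff_card.1 hW'p
    have h1 : Nat.card (W.subgroupOf H) = Nat.card W :=
      Nat.card_congr (Subgroup.subgroupOfEquivOfLe hWH).toEquiv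
    rw [h1]
  obtain ⟨K₀, hK₀⟩ := Subgroup.exists_right_complement'_of_coprime (N := W.subgroupOf H)
    (Nat.Coprime.coprime_dvd_left hW'c (hW'i ▸ hcop))
  have hcK₀ : Nat.card K₀ = Nat.card Kq := by rw [← hK₀.symm.index_eq_card, hW'i]
  have hK₀p : ¬ p ∣ Nat.card K₀ := by rw [hcK₀, hcKq]; exact hNqp
  have hdec : ∀ x : H, ∃ w ∈ W.subgroupOf H, ∃ k ∈ K₀, x = w * k := by
    intro x
    obtain ⟨⟨w, k⟩, he⟩ := hK₀.2 x
    exact ⟨w, w.2, k, k.2, he.symm⟩
  have hcent : ∀ z ∈ H, ∀ v ∈ W, z * v = v * z := by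
    intro z hz v hv
    have := hcen z hz v hv
    calc z * v = z * v * z⁻¹ * z := by group
      _ = v * z := by rw [this]
  have hK₀n : K₀.Normal := by
    constructor
    intro x hx g
    obtain ⟨w, hw, k, hk, rfl⟩ := hdec g
    have h1 : (w : H) * x = x * w := Subtype.ext (hcent x x.2 w (Subgroup.mem_subgroupOf.1 hw)).symm
    have h2 : (w * k) * x * (w * k)⁻¹ = (k * x) * k⁻¹ := by
      have h3 : (w : H) * k = k * w := Subtype.ext (hcent k k.2 w (Subgroup.mem_subgroupOf.1 hw)).symm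
      rw [h3, mul_inv_rev]
      calc k * w * x * (w⁻¹ * k⁻¹) = k * (w * x) * w⁻¹ * k⁻¹ := by group
        _ = k * (x * w) * w⁻¹ * k⁻¹ := by rw [h1]
        _ = k * x * k⁻¹ := by group
    rw [h2]
    exact K₀.mul_mem (K₀.mul_mem hk hx) (K₀.inv_mem hk)
  have hK₀pow : ∀ x : H, ∃ k : ℕ, x ^ p ^ k ∈ K₀ := by
    intro x
    obtain ⟨w, hw, k, hk, rfl⟩ := hdec x
    obtain ⟨a, ha⟩ := hW'p ⟨w, hw⟩
    have ha' : w ^ p ^ a = 1 := congrArg Subtype.val ha
    refine ⟨a, ?_⟩
    have hcm : Commute w k := Subtype.ext (hcent k k.2 w (Subgroup.mem_subgroupOf.1 hw)).symm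
    rw [hcm.mul_pow, ha', one_mul]
    exact K₀.pow_mem hk _
  haveI hK₀Γ : (K₀.map H.subtype).Normal := npc_map_normal H K₀ hK₀p hK₀pow
  have hK₀G : K₀.map H.subtype ≤ G := by
    rintro _ ⟨k, _, rfl⟩
    exact hKqG _ k.2
  rw [npc_iff]
  refine ⟨(K₀.map H.subtype).subgroupOf G, Subgroup.Normal.subgroupOf hK₀Γ G, ?_, ?_⟩
  · rw [Nat.card_congr (Subgroup.subgroupOfEquivOfLe hK₀G).toEquiv,
      Subgroup.card_map_of_injective H.subtype_injective]
    exact hK₀p
  · intro g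
    obtain ⟨k, hk⟩ := hNqpow ⟨(g : Γ ⧸ W), ⟨g, g.2, rfl⟩⟩
    have h1 : (((g : Γ) ^ p ^ k : Γ)) ∈ H := by
      show (((g : Γ) ^ p ^ k : Γ) : Γ ⧸ W) ∈ Kq
      rw [QuotientGroup.mk_pow]
      exact ⟨_, hk, rfl⟩
    obtain ⟨k', hk'⟩ := hK₀pow ⟨_, h1⟩
    refine ⟨k + k', ?_⟩
    rw [Subgroup.mem_subgroupOf]
    refine ⟨_, hk', ?_⟩
    simp [pow_add, pow_mul]

/-- The normalizer step: a subgroup of `G` which is not normal in `Γ`, normalized by a Sylow subgroup. -/
theorem npc_of_thompson (IH : IHyp p Γ) (h : Hyp p G) (hp2 : p ≠ 2)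
    (hW : ¬ ∃ W : Subgroup Γ, W ≠ ⊥ ∧ W.Normal ∧ W ≤ G ∧ IsPGroup p W) :
    HasNormalPComplement p G := by
  classical
  haveI hGn := h.normal
  obtain ⟨T⟩ : Nonempty (Sylow p G) := inferInstance
  by_cases hT : (T : Subgroup G) = ⊥
  · rw [npc_iff]
    refine ⟨⊤, inferInstance, ?_, fun g => ⟨0, trivial⟩⟩
    intro hd
    rw [Nat.card_congr Subgroup.topEquiv.toEquiv] at hd
    exact T.ne_bot_of_dvd_card hd hT
  set T' : Subgroup Γ := (T : Subgroup G).map G.subtype with hT'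
  have hT'p : IsPGroup p T' := T.isPGroup'.map G.subtype
  have hT'ne : T' ≠ ⊥ := by
    intro h0
    apply hT
    rwa [hT', Subgroup.map_eq_bot_iff_of_injective _ G.subtype_injective] at h0
  obtain ⟨P, hP⟩ := hT'p.exists_le_sylow
  have hPG : (P : Subgroup Γ).subgroupOf G = (T : Subgroup G) := by
    apply T.is_maximal' (P.isPGroup'.comap_of_injective G.subtype G.subtype_injective)
    intro x hx
    exact hP ⟨x, hx, rfl⟩
  have hmem : ∀ x : Γ, x ∈ T' ↔ x ∈ (P : Subgroup Γ) ∧ x ∈ G := by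
    intro x
    constructor
    · rintro ⟨u, hu, rfl⟩
      exact ⟨hP ⟨u, hu, rfl⟩, u.2⟩
    · rintro ⟨h1, h2⟩
      refine ⟨⟨x, h2⟩, ?_, rfl⟩
      show (⟨x, h2⟩ : G) ∈ (T : Subgroup G)
      rw [← hPG, Subgroup.mem_subgroupOf]
      exact h1
  have hPN : (P : Subgroup Γ) ≤ Subgroup.normalizer (T' : Set Γ) := by
    intro y hy
    rw [Subgroup.mem_normalizer_iff]
    intro x
    rw [hmem, hmem]
    constructor
    · rintro ⟨h1, h2⟩
      exact ⟨P.toSubgroup.mul_mem (P.toSubgroup.mul_mem hy h1) (P.toSubgroup.inv_mem hy), hGn.conj_mem _ h2 y⟩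
    · rintro ⟨h1, h2⟩
      have h3 : y⁻¹ * (y * x * y⁻¹) * y = x := by group
      rw [← h3]
      refine ⟨P.toSubgroup.mul_mem (P.toSubgroup.mul_mem (P.toSubgroup.inv_mem hy) h1) hy, ?_⟩
      have := hGn.conj_mem _ h2 y⁻¹
      simpa using this
  have hnotP := sylow_escape h P
  have hnot_normal : ∀ Z : Subgroup Γ, Z ≠ ⊥ → Z ≤ T' → Subgroup.normalizer (Z : Set Γ) ≠ ⊤ := by
    intro Z hZ hZT hN
    apply hW
    refine ⟨Z, hZ, ?_, ?_, ?_⟩
    · exact Subgroup.normalizer_eq_top_iff.1 hN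
    · intro x hx
      exact ((hmem x).1 (hZT hx)).2
    · exact hT'p.to_le hZT
  have hinj : ∀ a ∈ (T : Subgroup G), ∀ b ∈ (T : Subgroup G), G.subtype a = G.subtype b → a = b :=
    fun a _ b _ he => G.subtype_injective he
  have hJ : JJ p T' = (JJ p (T : Subgroup G)).map G.subtype := Cfsg.Agent.Lib.ZJQuot.JJ_map G.subtype hinj
  have hZ : ZZ T' = (ZZ (T : Subgroup G)).map G.subtype := (ZJQuot.center_map G.subtype (J := (T : Subgroup G))
    (fun a _ b _ he => G.subtype_injective he)).symm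
  have hnormal_map : ∀ (Z : Subgroup G) (y : G), y ∈ Subgroup.normalizer (Z : Set G) →
      (y : Γ) ∈ Subgroup.normalizer ((Z.map G.subtype : Subgroup Γ) : Set Γ) := by
    intro Z y hy
    rw [Subgroup.mem_normalizer_iff]
    intro x
    constructor
    · rintro ⟨u, hu, rfl⟩
      exact ⟨y * u * y⁻¹, (Subgroup.mem_normalizer_iff.1 hy u).1 hu, rfl⟩
    · rintro ⟨u, hu, he⟩
      have he' : x = ((y⁻¹ * u * y : G) : Γ) := by
        have h3 : (u : Γ) = (y : Γ) * x * (y : Γ)⁻¹ := he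
        push_cast
        rw [h3]
        group
      rw [he']
      refine ⟨y⁻¹ * u * y, ?_, rfl⟩
      have h4 := (Subgroup.mem_normalizer_iff.1 (Subgroup.inv_mem _ hy) u).1 hu
      simpa using h4
  have hnil1 : Group.IsNilpotent (Subgroup.normalizer (JJ p (T : Subgroup G) : Set G)) := by
    refine nil_sub IH h (Subgroup.normalizer (JJ p T' : Set Γ)) ?_ ?_ _ ?_
    · intro hle
      exact hnotP (hPN.trans ((normalizer_le_JJ T').trans hle))
    · exact hnot_normal _ (JJ_ne_bot hp2 hT'p hT'ne) (JJ_le T')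
    · rintro _ ⟨y, hy, rfl⟩
      rw [hJ]
      exact hnormal_map _ _ hy
  have hnil2 : Group.IsNilpotent (Subgroup.centralizer (ZZ (T : Subgroup G) : Set G)) := by
    refine nil_sub IH h (Subgroup.normalizer (ZZ T' : Set Γ)) ?_ ?_ _ ?_
    · intro hle
      apply hnotP
      refine le_trans ?_ hle
      intro y hy
      have hy' := hPN hy
      rw [Subgroup.mem_normalizer_iff]
      intro x
      constructor
      · rintro ⟨h1, h2⟩
        refine ⟨(Subgroup.mem_normalizer_iff.1 hy' x).1 h1, ?_⟩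
        have h2 := Subgroup.mem_centralizer_iff.1 h2
        refine Subgroup.mem_centralizer_iff.2 ?_
        intro a ha
        have h3 : y⁻¹ * a * y ∈ T' := by
          have := (Subgroup.mem_normalizer_iff.1 (Subgroup.inv_mem _ hy') a).1 ha
          simpa using this
        have h4 := h2 _ h3
        calc a * (y * x * y⁻¹) = y * ((y⁻¹ * a * y) * x) * y⁻¹ := by group
          _ = y * (x * (y⁻¹ * a * y)) * y⁻¹ := by rw [h4]
          _ = y * x * y⁻¹ * a := by group
      · rintro ⟨h1, h2⟩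
        refine ⟨(Subgroup.mem_normalizer_iff.1 hy' x).2 h1, ?_⟩
        have h2 := Subgroup.mem_centralizer_iff.1 h2
        refine Subgroup.mem_centralizer_iff.2 ?_
        intro a ha
        have h3 : y * a * y⁻¹ ∈ T' := (Subgroup.mem_normalizer_iff.1 hy' a).1 ha
        have h4 := h2 _ h3
        have h5 : y * (a * x) * y⁻¹ = y * (x * a) * y⁻¹ := by
          calc y * (a * x) * y⁻¹ = (y * a * y⁻¹) * (y * x * y⁻¹) := by group
            _ = (y * x * y⁻¹) * (y * a * y⁻¹) := h4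
            _ = y * (x * a) * y⁻¹ := by group
        have h6 := mul_right_cancel h5
        exact mul_left_cancel h6
    · exact hnot_normal _ (ZZ_ne_bot hT'p hT'ne) inf_le_left
    · rintro _ ⟨y, hy, rfl⟩
      rw [hZ]
      exact hnormal_map _ _ (centralizer_le_normalizer _ hy)
  exact npc_thompson hp2 _ G rfl T
    ⟨Cfsg.Agent.Lib.ThompsonFpf.npc_of_nilpotent p, Cfsg.Agent.Lib.ThompsonFpf.npc_of_nilpotent p⟩

theorem npc_all (IH : IHyp p Γ) (h : Hyp p G) (hp2 : p ≠ 2) : HasNormalPComplement p G := by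
  by_cases hW : ∃ W : Subgroup Γ, W ≠ ⊥ ∧ W.Normal ∧ W ≤ G ∧ IsPGroup p W
  · obtain ⟨W, hne, hWn, hWG, hWp⟩ := hW
    haveI := hWn
    haveI : Nontrivial W := (Subgroup.nontrivial_iff_ne_bot W).2 hne
    haveI := hWp.center_nontrivial
    set A : Subgroup Γ := (Subgroup.center W).map W.subtype with hA
    haveI hAn : A.Normal := Cfsg.Agent.Lib.FitCore.map_subtype_normal_of_char W (Subgroup.center W)
    have hAW : A ≤ W := by
      rintro _ ⟨u, _, rfl⟩
      exact u.2
    have hAG : A ≤ G := hAW.trans hWG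
    have hAne : A ≠ ⊥ := by
      intro h0
      rw [hA, Subgroup.map_eq_bot_iff_of_injective _ W.subtype_injective] at h0
      obtain ⟨z, hz⟩ := exists_ne (1 : Subgroup.center W)
      apply hz
      have : (z : W) ∈ (⊥ : Subgroup W) := h0 ▸ z.2
      exact Subtype.ext (Subgroup.mem_bot.1 this)
    have hcomm : ∀ a ∈ A, ∀ b ∈ A, a * b = b * a := by
      rintro _ ⟨a, ha, rfl⟩ _ ⟨b, hb, rfl⟩
      have := Subgroup.mem_center_iff.1 ha b
      exact (congrArg Subtype.val this).symm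
    exact npc_of_abelian h A hAG hcomm (hWp.to_le hAW) (nil_quot IH h A hAG hAne)
  · exact npc_of_thompson IH h hp2 hW

theorem isPGroup_zpowers {X : Type*} [Group X] (a : X) (k : ℕ) (hk : a ^ p ^ k = 1) :
    IsPGroup p (Subgroup.zpowers a) := by
  rintro ⟨_, n, rfl⟩
  refine ⟨k, Subtype.ext ?_⟩
  show (a ^ n) ^ p ^ k = 1
  rw [← zpow_natCast, ← zpow_mul, mul_comm, zpow_mul, zpow_natCast, hk, one_zpow]

theorem eq_one_of_pow {X : Type*} [Group X] [Finite X] (K : Subgroup X) (hK : ¬ p ∣ Nat.card K) (u : X) (hu : u ∈ K)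
    (k : ℕ) (hk : u ^ p ^ k = 1) : u = 1 :=
  Cfsg.Agent.Lib.SecTransfer.eq_one_of_mem_coprime (p := p) (P := Subgroup.zpowers u) (L := K)
    (isPGroup_zpowers u k hk) hK (Subgroup.mem_zpowers u) hu

theorem hughes_two (h : Hyp 2 G) : Group.IsNilpotent G := by
  obtain ⟨t, ht⟩ : ∃ t, t ∉ G := by
    by_contra hall
    push Not at hall
    have h1 : G = ⊤ := eq_top_iff.2 fun x _ => hall x
    have h2 := h.index
    rw [h1, Subgroup.index_top] at h2
    omega
  have hinv : ∀ u ∈ G, t * u * t⁻¹ = u⁻¹ := by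
    intro u hu
    have h1 : t * u ∉ G := by
      intro hin
      apply ht
      have := G.mul_mem hin (G.inv_mem hu)
      simpa using this
    have h2 := h.pow _ h1
    have h3 := h.pow _ ht
    rw [pow_two] at h2 h3
    have h4 : t⁻¹ = t := (eq_inv_of_mul_eq_one_left h3).symm
    rw [h4]
    exact eq_inv_of_mul_eq_one_left (by simpa [mul_assoc] using h2)
  have hcomm : ∀ a ∈ G, ∀ b ∈ G, a * b = b * a := by
    intro a ha b hb
    have h1 := hinv _ (G.mul_mem ha hb)
    have h2 : t * (a * b) * t⁻¹ = (t * a * t⁻¹) * (t * b * t⁻¹) := by group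
    rw [h2, hinv a ha, hinv b hb, mul_inv_rev] at h1
    have h3 : (a⁻¹ * b⁻¹)⁻¹ = (b⁻¹ * a⁻¹)⁻¹ := by rw [h1]
    simpa using h3.symm
  letI := commOf G hcomm
  exact CommGroup.isNilpotent

theorem hughes_step (IH : IHyp p Γ) (h : Hyp p G) : Group.IsNilpotent G := by
  classical
  by_cases hp2 : p = 2
  · subst hp2
    exact hughes_two h
  haveI hGn := h.normal
  obtain ⟨P₀, N, hN, hc⟩ := npc_all IH h hp2
  have hNp : ¬ p ∣ Nat.card N := by
    rw [← hc.index_eq_card]
    exact P₀.not_dvd_index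
  have hNpow : ∀ g : G, ∃ k : ℕ, g ^ p ^ k ∈ N := by
    intro g
    haveI := hN
    obtain ⟨k, hk⟩ := IsPGroup.iff_card.1 P₀.isPGroup'
    refine ⟨k, ?_⟩
    have h1 : N.index = Nat.card (P₀ : Subgroup G) := hc.symm.index_eq_card
    rw [← QuotientGroup.eq_one_iff, QuotientGroup.mk_pow, ← hk, ← h1]
    exact pow_card_eq_one'
  set K : Subgroup Γ := N.map G.subtype with hK
  haveI hKn : K.Normal := npc_map_normal G N hNp hNpow
  have hKG : K ≤ G := by
    rintro _ ⟨u, _, rfl⟩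
    exact u.2
  have hKc : Nat.card K = Nat.card N := Subgroup.card_map_of_injective G.subtype_injective
  have hKp : ¬ p ∣ Nat.card K := by rw [hKc]; exact hNp
  obtain ⟨t, ht⟩ : ∃ t, t ∉ G := by
    by_contra hall
    push Not at hall
    have h1 : G = ⊤ := eq_top_iff.2 fun x _ => hall x
    have h2 := h.index
    rw [h1, Subgroup.index_top] at h2
    exact hp.out.one_lt.ne h2
  -- `K` is nilpotent
  have hKnil : Group.IsNilpotent K := by
    let α : MulAut K := MulAut.conjNormal t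
    have hiter : ∀ (n : ℕ) (g : K), (α.toMonoidHom)^[n] g = (α ^ n) g := by
      intro n g
      induction n with
      | zero => rfl
      | succ n ih =>
        rw [Function.iterate_succ_apply', ih, pow_succ', MulAut.mul_apply]
        rfl
    refine Cfsg.Agent.Lib.ThompsonFpf.thompson_aux hp.out _ K α.toMonoidHom rfl ?_ ?_
    · intro g hg
      have h1 : t * (g : Γ) * t⁻¹ = g := by
        have : ((α g : K) : Γ) = g := congrArg Subtype.val hg
        simpa [α, MulAut.conjNormal_apply] using this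
      have h2 : Commute t (g : Γ) := by
        show t * (g : Γ) = g * t
        calc t * (g : Γ) = t * g * t⁻¹ * t := by group
          _ = g * t := by rw [h1]
      have h3 : t * (g : Γ) ∉ G := by
        intro hin
        apply ht
        have := G.mul_mem hin (G.inv_mem (hKG g.2))
        simpa using this
      have h4 := h.pow _ h3
      rw [h2.mul_pow, h.pow _ ht, one_mul] at h4
      have h5 := eq_one_of_pow K hKp (g : Γ) g.2 1 (by simpa using h4)
      exact Subtype.ext h5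
    · intro g
      rw [hiter]
      have h1 : α ^ p = 1 := by
        show (MulAut.conjNormal t : MulAut K) ^ p = 1
        rw [← map_pow, h.pow _ ht, map_one]
      rw [h1]
      rfl
  by_cases hKbot : K = ⊥
  · have hN0 : N = ⊥ := by
      rwa [hK, Subgroup.map_eq_bot_iff_of_injective _ G.subtype_injective] at hKbot
    have hG : IsPGroup p G := by
      intro g
      obtain ⟨k, hk⟩ := hNpow g
      rw [hN0, Subgroup.mem_bot] at hk
      exact ⟨k, hk⟩
    exact hG.isNilpotent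
  -- the centre of `K`
  haveI : Nontrivial K := (Subgroup.nontrivial_iff_ne_bot K).2 hKbot
  have hcne := Group.IsNilpotent.center_ne_bot (G := K)
  set A : Subgroup Γ := (Subgroup.center K).map K.subtype with hA
  haveI hAn : A.Normal := Cfsg.Agent.Lib.FitCore.map_subtype_normal_of_char K (Subgroup.center K)
  have hAK : A ≤ K := by
    rintro _ ⟨u, _, rfl⟩
    exact u.2
  have hAG : A ≤ G := hAK.trans hKG
  have hAne : A ≠ ⊥ := by
    intro h0
    rw [hA, Subgroup.map_eq_bot_iff_of_injective _ K.subtype_injective] at h0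
    exact hcne h0
  have hcomm : ∀ a ∈ A, ∀ b ∈ A, a * b = b * a := by
    rintro _ ⟨a, ha, rfl⟩ _ ⟨b, hb, rfl⟩
    have := Subgroup.mem_center_iff.1 ha b
    exact (congrArg Subtype.val this).symm
  have hAp : ¬ p ∣ Nat.card A := fun hd => hKp (hd.trans (Subgroup.card_dvd_of_le hAK))
  have hnilq := nil_quot IH h A hAG hAne
  -- `p`-elements centralize `A`
  have hpc : ∀ y ∈ G, (∃ k : ℕ, y ^ p ^ k = 1) → ∀ v ∈ A, y * v * y⁻¹ = v := by
    rintro y hy ⟨k, hk⟩ v hv
    obtain ⟨Q, hQ⟩ := (isPGroup_zpowers y k hk).exists_le_sylow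
    have hyQ : y ∈ (Q : Subgroup Γ) := hQ (Subgroup.mem_zpowers y)
    obtain ⟨t₁, ht₁Q, ht₁G⟩ := Set.not_subset.1 (sylow_escape h Q)
    refine centralize_abelian A hcomm ((Q : Subgroup Γ) ⊓ G) p hp.out t₁ ?_ ?_ ?_ y ⟨hyQ, hy⟩ v hv
    · rw [Subgroup.mem_normalizer_iff]
      intro x
      constructor
      · rintro ⟨h1, h2⟩
        exact ⟨Q.toSubgroup.mul_mem (Q.toSubgroup.mul_mem ht₁Q h1) (Q.toSubgroup.inv_mem ht₁Q),
          hGn.conj_mem _ h2 t₁⟩
      · rintro ⟨h1, h2⟩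
        have h3 : t₁⁻¹ * (t₁ * x * t₁⁻¹) * t₁ = x := by group
        rw [← h3]
        refine ⟨Q.toSubgroup.mul_mem (Q.toSubgroup.mul_mem (Q.toSubgroup.inv_mem ht₁Q) h1) ht₁Q, ?_⟩
        have := hGn.conj_mem _ h2 t₁⁻¹
        simpa using this
    · intro y' hy' v' hv'
      apply h.pow
      intro hin
      apply ht₁G
      have h1 : v'⁻¹ * (v' * (t₁ * y')) * y'⁻¹ ∈ G :=
        G.mul_mem (G.mul_mem (G.inv_mem (hAG hv')) hin) (G.inv_mem hy'.2)
      simpa using h1
    · obtain ⟨a, ha⟩ := IsPGroup.iff_card.1 (Q.isPGroup'.to_le (inf_le_left : (Q : Subgroup Γ) ⊓ G ≤ Q))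
      rw [ha]
      exact Nat.Coprime.pow_right _ (Nat.Coprime.symm ((Nat.Prime.coprime_iff_not_dvd hp.out).2 hAp))
  -- commutators lie in `A`
  have hcm : ∀ y ∈ G, (∃ k : ℕ, y ^ p ^ k = 1) → ∀ u ∈ K, y * u * y⁻¹ * u⁻¹ ∈ A := by
    rintro y hy ⟨k, hk⟩ u hu
    let Y : G.map (QuotientGroup.mk' A) := ⟨(y : Γ ⧸ A), ⟨y, hy, rfl⟩⟩
    let U : G.map (QuotientGroup.mk' A) := ⟨(u : Γ ⧸ A), ⟨u, hKG hu, rfl⟩⟩
    have hb : ¬ p ∣ orderOf U := by
      rw [← Subgroup.orderOf_coe]
      show ¬ p ∣ orderOf ((u : Γ ⧸ A))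
      intro hd
      have h1 : orderOf ((u : Γ ⧸ A)) ∣ orderOf u := orderOf_map_dvd (QuotientGroup.mk' A) u
      have h2 : orderOf u ∣ Nat.card K := by
        have := orderOf_dvd_natCard (⟨u, hu⟩ : K)
        rwa [Subgroup.orderOf_mk] at this
      exact hKp ((hd.trans h1).trans h2)
    have hc' : Commute Y U := commute_of_nilpotent Y U ⟨k, Subtype.ext (by
      show ((y : Γ ⧸ A)) ^ p ^ k = 1
      rw [← QuotientGroup.mk_pow, hk]
      rfl)⟩ hb
    have h1 : ((y : Γ ⧸ A)) * (u : Γ ⧸ A) = (u : Γ ⧸ A) * (y : Γ ⧸ A) := congrArg Subtype.val hc'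
    rw [← QuotientGroup.eq_one_iff]
    simp only [QuotientGroup.mk_mul, QuotientGroup.mk_inv]
    rw [h1]
    group
  -- so `p`-elements centralize `K`
  have hfin : ∀ y ∈ G, (∃ k : ℕ, y ^ p ^ k = 1) → ∀ u ∈ K, y * u = u * y := by
    intro y hy hk u hu
    have ha := hcm y hy hk u hu
    set a := y * u * y⁻¹ * u⁻¹ with hadef
    have hya := hpc y hy hk a ha
    have hiter : ∀ n : ℕ, y ^ n * u * (y ^ n)⁻¹ = a ^ n * u := by
      intro n
      induction n with
      | zero => simp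
      | succ n ih =>
        have h1 : y ^ (n + 1) * u * (y ^ (n + 1))⁻¹ = y * (y ^ n * u * (y ^ n)⁻¹) * y⁻¹ := by
          rw [pow_succ']
          group
        rw [h1, ih]
        have h2 : y * (a ^ n * u) * y⁻¹ = (y * a * y⁻¹) ^ n * (y * u * y⁻¹) := by
          rw [conj_pow]
          group
        rw [h2, hya, pow_succ]
        simp only [hadef]
        group
    obtain ⟨k, hk⟩ := hk
    have h1 := hiter (p ^ k)
    rw [hk] at h1
    have h2 : a ^ p ^ k = 1 := by
      have h3 : u = a ^ p ^ k * u := by simpa using h1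
      exact (mul_eq_right.1 h3.symm)
    have h3 := eq_one_of_pow K hKp a (hAK ha) k h2
    have h4 : y * u * y⁻¹ = u := by
      have := h3
      rw [hadef] at this
      exact mul_inv_eq_one.1 this
    calc y * u = y * u * y⁻¹ * y := by group
      _ = u * y := by rw [h4]
  -- assembling
  have hcomm2 : ∀ (a : N) (b : (P₀ : Subgroup G)), Commute (N.subtype a) ((P₀ : Subgroup G).subtype b) := by
    intro a b
    obtain ⟨k, hk⟩ := P₀.isPGroup' b
    have hk' : (b : G) ^ p ^ k = 1 := congrArg Subtype.val hk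
    have hk'' : ((b : G) : Γ) ^ p ^ k = 1 := congrArg Subtype.val hk'
    have h1 := hfin ((b : G) : Γ) (b : G).2 ⟨k, hk''⟩ ((a : G) : Γ) ⟨a, a.2, rfl⟩
    exact (Commute.symm (Subtype.ext h1))
  let f := MonoidHom.noncommCoprod N.subtype (P₀ : Subgroup G).subtype hcomm2
  have hfs : Function.Surjective f := by
    intro g
    obtain ⟨⟨a, b⟩, he⟩ := hc.2 g
    exact ⟨⟨a, b⟩, he⟩
  haveI : Group.IsNilpotent N := nilpotent_of_mulEquiv (N.equivMapOfInjective _ G.subtype_injective).symm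
  haveI : Group.IsNilpotent (P₀ : Subgroup G) := P₀.isPGroup'.isNilpotent
  exact nilpotent_of_surjective f hfs

end hyp

/-- The Hughes-Kegel-Thompson theorem, in the form: a normal subgroup `G` of prime index `p`
in a finite group `Γ`, all of whose elements outside `G` have `x ^ p = 1`, is nilpotent. -/
theorem hughes_main : ∀ (n : ℕ) (Γ : Type u) [Group Γ] [Finite Γ], Nat.card Γ = n → ∀ G : Subgroup Γ,
    Hyp p G → Group.IsNilpotent G := by
  intro n
  induction n using Nat.strong_induction_on with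
  | _ n ih =>
    intro Γ _ _ hn G h
    refine hughes_step ?_ h
    intro Γ' _ _ hlt G' h'
    exact ih _ (hn ▸ hlt) Γ' rfl G' h'

end struct

end Cfsg.Agent.Lib.H6Hughes
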