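import Mathlib

/-!
Counting conjugacy classes of `p`-elements (helper6).
-/

set_option autoImplicit false
set_option linter.all false

namespace Cfsg.Agent.Lib.H6KP

open Subgroup

variable {G : Type*} [Group G] [Finite G]

/-- A proper subgroup of a `p`-group has index divisible by `p`, hence `p |F| ≤ |P|`. -/
theorem mul_card_le_of_ne_top {P : Type*} [Group P] [Finite P] {p : ℕ} [Fact p.Prime]
    (hP : IsPGroup p P) (F : Subgroup P) (hF : F ≠ ⊤) : p * Nat.card F ≤ Nat.card P := by
  have hp : p.Prime := Fact.out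
  obtain ⟨n, hn⟩ := IsPGroup.iff_card.1 hP
  have h1 : F.index ∣ p ^ n := by
    rw [← hn]
    exact F.index_dvd_card
  obtain ⟨j, hj, hj2⟩ := (Nat.dvd_prime_pow hp).1 h1
  have hj0 : j ≠ 0 := by
    rintro rfl
    rw [pow_zero] at hj2
    exact hF (Subgroup.index_eq_one.1 hj2)
  have h2 : p ∣ F.index := by
    rw [hj2]
    exact dvd_pow_self p hj0
  obtain ⟨c, hc⟩ := h2
  have h3 := F.card_mul_index
  rw [hc] at h3
  have hc0 : c ≠ 0 := by
    rintro rfl
    rw [mul_zero] at hc
    exact Subgroup.index_ne_zero_of_finite hc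
  calc p * Nat.card F ≤ p * Nat.card F * c := Nat.le_mul_of_pos_right _ (Nat.pos_of_ne_zero hc0)
    _ = Nat.card F * (p * c) := by ring
    _ = Nat.card P := h3

/-- Burnside count: a function on `P` constant on orbits of `N(P)` takes few values unless `N(P)`
centralizes `P`. -/
theorem two_mul_card_le {p : ℕ} [Fact p.Prime] (P : Subgroup G) (hP : IsPGroup p P)
    (hne : ¬ normalizer (P : Set G) ≤ centralizer (P : Set G))
    {T : Type*} (f : P → T) (hf : Function.Surjective f)
    (hc : ∀ (g : normalizer (P : Set G)) (x : P), f (g • x) = f x) :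
    2 * p * Nat.card T ≤ (p + 1) * Nat.card P := by
  classical
  have hp : p.Prime := Fact.out
  letI := Fintype.ofFinite G
  letI : Fintype P := Fintype.ofFinite P
  letI : Fintype (normalizer (P : Set G)) := Fintype.ofFinite _
  set N := normalizer (P : Set G) with hN
  let Om := MulAction.orbitRel.Quotient N P
  letI : Fintype Om := Fintype.ofFinite _
  haveI : Finite T := Finite.of_surjective f hf
  have hsurj : Nat.card T ≤ Nat.card Om := by
    let F : Om → T := Quotient.lift f (by
      intro a b hab
      obtain ⟨g, rfl⟩ := hab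
      exact hc g b)
    have hF : Function.Surjective F := by
      intro t
      obtain ⟨x, rfl⟩ := hf t
      exact ⟨Quotient.mk _ x, rfl⟩
    exact Nat.card_le_card_of_surjective F hF
  letI : ∀ g : N, Fintype (MulAction.fixedBy P g) := fun g => Fintype.ofFinite _
  have hb : (∑ g : N, Fintype.card (MulAction.fixedBy P g)) = Fintype.card Om * Fintype.card N :=
    MulAction.sum_card_fixedBy_eq_card_orbits_mul_card_group N P
  -- the kernel of the action
  set K : Subgroup N := (centralizer (P : Set G)).subgroupOf N with hK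
  have hKne : K ≠ ⊤ := by
    intro h
    apply hne
    intro g hg
    have : (⟨g, hg⟩ : N) ∈ K := by rw [h]; trivial
    exact Subgroup.mem_subgroupOf.1 this
  have hK2 : 2 * Nat.card K ≤ Nat.card N := by
    have h1 := K.card_mul_index
    have h2 : K.index ≠ 1 := fun h => hKne (Subgroup.index_eq_one.1 h)
    have h3 : K.index ≠ 0 := Subgroup.index_ne_zero_of_finite
    have h4 : 2 ≤ K.index := by omega
    rw [← h1]
    nlinarith [Nat.card_pos (α := K)]
  have hbound : ∀ g : N, p * Fintype.card (MulAction.fixedBy P g) ≤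
      Nat.card P + (if g ∈ K then (p - 1) * Nat.card P else 0) := by
    intro g
    by_cases hg : g ∈ K
    · rw [if_pos hg]
      have h1 : Fintype.card (MulAction.fixedBy P g) ≤ Nat.card P := by
        rw [Nat.card_eq_fintype_card]
        exact Fintype.card_subtype_le _
      have h2 : p = (p - 1) + 1 := by have := hp.pos; omega
      calc p * Fintype.card (MulAction.fixedBy P g) ≤ p * Nat.card P := Nat.mul_le_mul_left _ h1
        _ = ((p - 1) + 1) * Nat.card P := by rw [← h2]
        _ = _ := by ring
    · rw [if_neg hg, add_zero]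
      -- the fixed points form a proper subgroup
      let Fx : Subgroup P := (centralizer ({(g : G)} : Set G)).subgroupOf P
      have hmem : ∀ x : P, x ∈ Fx ↔ x ∈ MulAction.fixedBy P g := by
        intro x
        rw [Subgroup.mem_subgroupOf, Subgroup.mem_centralizer_singleton_iff, MulAction.mem_fixedBy]
        constructor
        · intro h1
          apply Subtype.ext
          change (g : G) * (x : G) * (g : G)⁻¹ = x
          rw [← h1]
          group
        · intro h1
          have h2 : (g : G) * (x : G) * (g : G)⁻¹ = x := congrArg Subtype.val h1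
          rw [mul_inv_eq_iff_eq_mul] at h2
          exact h2.symm
      have hFx : Fx ≠ ⊤ := by
        intro h1
        apply hg
        rw [hK, Subgroup.mem_subgroupOf, Subgroup.mem_centralizer_iff]
        intro y hy
        have h2 : (⟨y, hy⟩ : P) ∈ Fx := by rw [h1]; trivial
        rw [Subgroup.mem_subgroupOf, Subgroup.mem_centralizer_singleton_iff] at h2
        exact h2
      have h1 := mul_card_le_of_ne_top hP Fx hFx
      have h2 : Nat.card Fx = Fintype.card (MulAction.fixedBy P g) := by
        rw [← Nat.card_eq_fintype_card]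
        exact Nat.card_congr (Equiv.subtypeEquivRight hmem)
      rwa [h2] at h1
  have hsum : p * (Fintype.card Om * Fintype.card N) ≤
      Fintype.card N * Nat.card P + Nat.card K * ((p - 1) * Nat.card P) := by
    rw [← hb, Finset.mul_sum]
    refine (Finset.sum_le_sum (fun g _ => hbound g)).trans ?_
    rw [Finset.sum_add_distrib, Finset.sum_const, Finset.sum_ite, Finset.sum_const, Finset.sum_const_zero,
      add_zero]
    simp only [smul_eq_mul, Finset.card_univ]
    apply le_of_eq
    congr 2
    rw [Nat.card_eq_fintype_card, Fintype.card_subtype]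
  have hNpos : 0 < Fintype.card N := Fintype.card_pos
  have hNc : Nat.card N = Fintype.card N := Nat.card_eq_fintype_card
  rw [hNc] at hK2
  have hpp : 1 ≤ p := hp.pos
  have hfinal : 2 * p * Fintype.card Om ≤ (p + 1) * Nat.card P := by
    apply Nat.le_of_mul_le_mul_right _ hNpos
    obtain ⟨q, rfl⟩ : ∃ q, p = q + 1 := ⟨p - 1, by omega⟩
    simp only [Nat.add_sub_cancel] at hsum
    have h2 : 2 * (Nat.card K * (q * Nat.card P)) ≤ Fintype.card N * (q * Nat.card P) := by
      calc 2 * (Nat.card K * (q * Nat.card P)) = (2 * Nat.card K) * (q * Nat.card P) := by ring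
        _ ≤ _ := Nat.mul_le_mul_right _ hK2
    nlinarith
  calc 2 * p * Nat.card T ≤ 2 * p * Nat.card Om := Nat.mul_le_mul_left _ hsurj
    _ = 2 * p * Fintype.card Om := by rw [Nat.card_eq_fintype_card]
    _ ≤ _ := hfinal

/-- The class of `x` in a Sylow subgroup, as a class of `p`-elements. -/
theorem class_pelem {p : ℕ} [Fact p.Prime] (P : Subgroup G) (hP : IsPGroup p P) (x : P) :
    ∀ y ∈ (ConjClasses.mk (x : G)).carrier, ∃ k : ℕ, orderOf y = p ^ k := by
  intro y hy
  rw [ConjClasses.mem_carrier_iff_mk_eq, ConjClasses.mk_eq_mk_iff_isConj] at hy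
  obtain ⟨k, hk⟩ := (IsPGroup.iff_orderOf.1 hP) x
  refine ⟨k, ?_⟩
  obtain ⟨c, rfl⟩ := isConj_iff.1 hy.symm
  rw [← hk]
  have : orderOf (c * (x : G) * c⁻¹) = orderOf (x : G) := by
    rw [← MulAut.conj_apply]
    exact (MulAut.conj c).orderOf_eq _
  rw [this]
  exact Subgroup.orderOf_coe x

/-- Classes of `p`-elements all meet a Sylow subgroup. -/
theorem exists_mem_sylow {p : ℕ} [Fact p.Prime] (P : Sylow p G) {x : G}
    (hx : ∃ k : ℕ, orderOf x = p ^ k) : ∃ y ∈ (P : Subgroup G), IsConj y x := by
  obtain ⟨k, hk⟩ := hx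
  have h1 : IsPGroup p (zpowers x) := IsPGroup.of_card (n := k) (by rw [Nat.card_zpowers, hk])
  obtain ⟨Q, hQ⟩ := h1.exists_le_sylow
  obtain ⟨g, hg⟩ := MulAction.exists_smul_eq G Q P
  refine ⟨g * x * g⁻¹, ?_, ?_⟩
  · rw [← hg, Sylow.coe_subgroup_smul]
    exact Subgroup.smul_mem_pointwise_smul x (MulAut.conj g) _ (hQ (mem_zpowers x))
  · rw [isConj_comm]
    exact isConj_iff.2 ⟨g, rfl⟩

/-- Main direction: many classes of `p`-elements force `N(P) ≤ C(P)`. -/
theorem normalizer_le_of_bound {p : ℕ} [Fact p.Prime] (P : Sylow p G)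
    (h : (p + 1) * Nat.card (P : Subgroup G) <
      2 * p * Nat.card {c : ConjClasses G // ∀ x ∈ c.carrier, ∃ k : ℕ, orderOf x = p ^ k}) :
    normalizer ((P : Subgroup G) : Set G) ≤ centralizer ((P : Subgroup G) : Set G) := by
  by_contra hne
  have := two_mul_card_le (P : Subgroup G) P.isPGroup' hne
    (T := {c : ConjClasses G // ∀ x ∈ c.carrier, ∃ k : ℕ, orderOf x = p ^ k})
    (fun x => ⟨ConjClasses.mk (x : G), class_pelem (P : Subgroup G) P.isPGroup' x⟩)
    (by
      rintro ⟨c, hc⟩
      obtain ⟨x, rfl⟩ := ConjClasses.exists_rep c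
      have hx := hc x (by rw [ConjClasses.mem_carrier_iff_mk_eq])
      obtain ⟨y, hy, hyx⟩ := exists_mem_sylow P hx
      exact ⟨⟨y, hy⟩, Subtype.ext (ConjClasses.mk_eq_mk_iff_isConj.2 hyx)⟩)
    (by
      intro g x
      apply Subtype.ext
      apply ConjClasses.mk_eq_mk_iff_isConj.2
      rw [isConj_comm]
      exact isConj_iff.2 ⟨g, rfl⟩)
  omega

end Cfsg.Agent.Lib.H6KP
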