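import Mathlib
import Cfsg.Agent.Lib.H6Basic

/-! Polynomial sequences with respect to the lower central series, following Lazard and Leibman,
and the Hall--Petrescu congruence for `p`-th powers in groups of class less than `p`. -/

set_option autoImplicit false
set_option linter.style.haveILetI false

namespace Cfsg.Agent.Lib.H6Poly

open scoped commutatorElement

variable {H : Type*} [Group H]

/-- The lower central series of the whole group. -/
def gam (H : Type*) [Group H] (i : ℕ) : Subgroup H := (⊤ : Subgroup H).lowerCentralSeries i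

theorem gam_succ (i : ℕ) : gam H (i + 1) = ⁅gam H i, ⊤⁆ := rfl

instance gam_normal (i : ℕ) : (gam H i).Normal := by
  induction i with
  | zero => exact inferInstanceAs (⊤ : Subgroup H).Normal
  | succ i ih =>
    rw [gam_succ]
    exact Subgroup.commutator_normal _ _

theorem gam_antitone : Antitone (gam H) := Subgroup.lowerCentralSeries_antitone _

theorem gam_comm (j : ℕ) : ∀ i : ℕ, ⁅gam H i, gam H j⁆ ≤ gam H (i + j + 1) := by
  induction j with
  | zero => intro i; exact le_rfl
  | succ j ih =>
    intro i
    rw [gam_succ, Subgroup.commutator_comm]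
    apply Cfsg.Agent.Lib.H6Basic.three_subgroups ⊤ (gam H i) (gam H j)
    · have h1 := ih (i + 1)
      have h2 : ⁅(⊤ : Subgroup H), gam H i⁆ = gam H (i + 1) := by
        rw [Subgroup.commutator_comm]; rfl
      rw [h2]
      refine h1.trans (le_of_eq ?_)
      congr 1; omega
    · have h1 := ih i
      calc ⁅⁅gam H i, gam H j⁆, ⊤⁆ ≤ ⁅gam H (i + j + 1), ⊤⁆ := Subgroup.commutator_mono h1 le_rfl
        _ = gam H (i + j + 1 + 1) := rfl
        _ = _ := by congr 1

/-- The filtration used for polynomial sequences. -/
def filt (H : Type*) [Group H] : ℕ → Subgroup H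
  | 0 => ⊤
  | k + 1 => gam H k

theorem filt_antitone : Antitone (filt H) := by
  refine antitone_nat_of_succ_le ?_
  intro n
  cases n with
  | zero => exact le_top
  | succ n => exact gam_antitone (Nat.le_succ n)

theorem filt_comm (a b : ℕ) : ⁅filt H a, filt H b⁆ ≤ filt H (a + b) := by
  cases a with
  | zero =>
    rw [zero_add]
    cases b with
    | zero => exact le_top
    | succ b =>
      show ⁅(⊤ : Subgroup H), gam H b⁆ ≤ gam H b
      rw [Subgroup.commutator_comm]
      exact gam_antitone (Nat.le_succ b)
  | succ a =>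
    cases b with
    | zero =>
      show ⁅gam H a, (⊤ : Subgroup H)⁆ ≤ gam H a
      exact gam_antitone (Nat.le_succ a)
    | succ b =>
      show ⁅gam H a, gam H b⁆ ≤ gam H (a + 1 + b)
      have := gam_comm (H := H) b a
      have h2 : a + b + 1 = a + 1 + b := by omega
      rwa [h2] at this

/-- The left difference of a sequence. -/
def D (f : ℕ → H) : ℕ → H := fun n => f (n + 1) * (f n)⁻¹

/-- Truncated polynomial sequences. -/
def P : ℕ → ℕ → (ℕ → H) → Prop
  | 0, a, f => ∀ n, f n ∈ filt H a
  | t + 1, a, f => (∀ n, f n ∈ filt H a) ∧ P t (a + 1) (D f)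

theorem P.val {t a : ℕ} {f : ℕ → H} (h : P t a f) (n : ℕ) : f n ∈ filt H a := by
  cases t with
  | zero => exact h n
  | succ t => exact h.1 n

theorem P.down {t : ℕ} : ∀ {a : ℕ} {f : ℕ → H}, P (t + 1) a f → P t a f := by
  induction t with
  | zero => intro a f h; exact h.1
  | succ t ih =>
    intro a f h
    exact ⟨h.1, ih h.2⟩

theorem P.mono {t : ℕ} : ∀ {a b : ℕ} {f : ℕ → H}, a ≤ b → P t b f → P t a f := by
  induction t with
  | zero => intro a b f hab h n; exact filt_antitone hab (h n)
  | succ t ih =>
    intro a b f hab h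
    exact ⟨fun n => filt_antitone hab (h.1 n), ih (by omega) h.2⟩

theorem P.shift {t : ℕ} : ∀ {a : ℕ} {f : ℕ → H}, P t a f → P t a (fun n => f (n + 1)) := by
  induction t with
  | zero => intro a f h n; exact h (n + 1)
  | succ t ih =>
    intro a f h
    exact ⟨fun n => h.1 (n + 1), ih h.2⟩

theorem P.one (t a : ℕ) : P t a (fun _ => (1 : H)) := by
  induction t generalizing a with
  | zero => intro n; exact one_mem _
  | succ t ih =>
    refine ⟨fun n => one_mem _, ?_⟩
    have : D (fun _ => (1 : H)) = fun _ => 1 := by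
      funext n; simp [D]
    rw [this]
    exact ih _

theorem P.binom (t : ℕ) : ∀ (k j : ℕ) (c : H), c ∈ filt H (k + j) → P t k (fun n => c ^ (n.choose j)) := by
  induction t with
  | zero =>
    intro k j c hc n
    exact pow_mem (filt_antitone (by omega) hc) _
  | succ t ih =>
    intro k j c hc
    refine ⟨fun n => pow_mem (filt_antitone (by omega) hc) _, ?_⟩
    cases j with
    | zero =>
      have : D (fun n => c ^ (n.choose 0)) = fun _ => 1 := by
        funext n; simp [D]
      rw [this]
      exact P.one _ _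
    | succ j =>
      have : D (fun n => c ^ (n.choose (j + 1))) = fun n => c ^ (n.choose j) := by
        funext n
        simp only [D]
        rw [Nat.choose_succ_succ, pow_add]
        simp
      rw [this]
      exact ih _ _ _ (by
        have : k + 1 + j = k + (j + 1) := by omega
        rwa [this])

/-- Products and commutators of polynomial sequences are polynomial. -/
theorem P.closed (t : ℕ) : (∀ (a : ℕ) (f g : ℕ → H), P t a f → P t a g → P t a (fun n => f n * g n)) ∧
    (∀ (a b : ℕ) (f g : ℕ → H), P t a f → P t b g → P t (a + b) (fun n => ⁅f n, g n⁆)) := by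
  induction t with
  | zero =>
    refine ⟨fun a f g hf hg n => mul_mem (hf n) (hg n), fun a b f g hf hg n => ?_⟩
    exact filt_comm a b (Subgroup.commutator_mem_commutator (hf n) (hg n))
  | succ t ih =>
    obtain ⟨hmul, hcomm⟩ := ih
    have hcomm' : ∀ (a b c : ℕ) (f g : ℕ → H), c ≤ a + b → P t a f → P t b g →
        P t c (fun n => ⁅f n, g n⁆) := fun a b c f g hc hf hg => P.mono hc (hcomm a b f g hf hg)
    refine ⟨?_, ?_⟩
    · intro a f g hf hg
      refine ⟨fun n => mul_mem (hf.1 n) (hg.1 n), ?_⟩
      have hF : P t a (fun n => f (n + 1)) := P.down hf.shift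
      have hX : P t (a + 1) (D g) := hg.2
      have hY : P t (a + 1) (D f) := hf.2
      have h1 := hcomm' a (a + 1) (a + 1) _ _ (by omega) hF hX
      have h2 := hmul (a + 1) _ _ h1 (hmul (a + 1) _ _ hX hY)
      have : D (fun n => f n * g n) = fun n => ⁅f (n + 1), D g n⁆ * (D g n * D f n) := by
        funext n
        simp only [D, commutatorElement_def]
        group
      rw [this]
      exact h2
    · intro a b u v hu hv
      refine ⟨fun n => filt_comm a b (Subgroup.commutator_mem_commutator (hu.1 n) (hv.1 n)), ?_⟩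
      have hu0 : P t a u := P.down hu
      have hv0 : P t b v := P.down hv
      have hU : P t (a + 1) (D u) := hu.2
      have hV : P t (b + 1) (D v) := hv.2
      have hw : P t (a + b) (fun n => ⁅u n, v n⁆) := hcomm a b u v hu0 hv0
      -- abbreviations
      have hA := hcomm a (b + 1) u (D v) hu0 hV
      have hB := hcomm (a + 1) (b + 1) (D u) (D v) hU hV
      have hE := hcomm (a + 1) b (D u) v hU hv0
      have hVE := hcomm (b + 1) (a + 1 + b) (D v) _ hV hE
      have hUA := hcomm (a + 1) (a + (b + 1)) (D u) _ hU hA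
      have hUV : P t 1 (fun n => D u n * D v n) :=
        hmul 1 _ _ (P.mono (by omega) hU) (P.mono (by omega) hV)
      have hUVw := hcomm 1 (a + b) _ _ hUV hw
      have hZ : P t (a + b + 1) (fun n => ⁅D u n, D v n⁆ * (⁅D v n, ⁅D u n, v n⁆⁆ * ⁅D u n, v n⁆)) :=
        hmul (a + b + 1) _ _ (P.mono (by omega) hB)
          (hmul (a + b + 1) _ _ (P.mono (by omega) hVE) (P.mono (by omega) hE))
      have hwZ := hcomm (a + b) (a + b + 1) _ _ hw hZ
      have hfinal := hmul (a + b + 1) _ _ (P.mono (by omega) hUA)
        (hmul (a + b + 1) _ _ (P.mono (by omega) hA)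
          (hmul (a + b + 1) _ _ (P.mono (by omega) hUVw)
            (hmul (a + b + 1) _ _ (P.mono (by omega) hwZ) hZ)))
      have : D (fun n => ⁅u n, v n⁆) = fun n =>
          ⁅D u n, ⁅u n, D v n⁆⁆ * (⁅u n, D v n⁆ * (⁅D u n * D v n, ⁅u n, v n⁆⁆ *
            (⁅⁅u n, v n⁆, ⁅D u n, D v n⁆ * (⁅D v n, ⁅D u n, v n⁆⁆ * ⁅D u n, v n⁆)⁆ *
              (⁅D u n, D v n⁆ * (⁅D v n, ⁅D u n, v n⁆⁆ * ⁅D u n, v n⁆))))) := by
        funext n
        simp only [D, commutatorElement_def]
        group
      rw [this]
      exact hfinal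

theorem P.mul {t a : ℕ} {f g : ℕ → H} (hf : P t a f) (hg : P t a g) : P t a (fun n => f n * g n) :=
  (P.closed t).1 a f g hf hg

theorem P.iter {t : ℕ} : ∀ (j a : ℕ) (f : ℕ → H), j ≤ t → P t a f → ∀ m, (D^[j] f) m ∈ filt H (a + j) := by
  induction t with
  | zero =>
    intro j a f hj hf m
    obtain rfl : j = 0 := by omega
    exact hf m
  | succ t ih =>
    intro j a f hj hf m
    cases j with
    | zero => exact hf.1 m
    | succ j =>
      have h1 := ih j (a + 1) (D f) (by omega) hf.2 m
      have : a + 1 + j = a + (j + 1) := by omega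
      rw [this] at h1
      rw [Function.iterate_succ_apply]
      exact h1

theorem iter_of_vanish : ∀ (j : ℕ) (g : ℕ → H), (∀ i < j, g i = 1) → g j = (D^[j] g) 0 := by
  intro j
  induction j with
  | zero => intro g _; rfl
  | succ j ih =>
    intro g hg
    rw [Function.iterate_succ_apply]
    rw [← ih (D g)]
    · simp only [D]
      rw [hg j (by omega)]
      simp
    · intro i hi
      simp only [D]
      rw [hg i (by omega), hg (i + 1) (by omega)]
      simp

/-- The closure of the `p`-th powers of elements of the derived subgroup. -/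
def W (p : ℕ) (H : Type*) [Group H] : Subgroup H :=
  Subgroup.closure {y : H | ∃ z ∈ commutator H, y = z ^ p}

theorem filt_two_le {j : ℕ} (hj : 2 ≤ j) : filt H j ≤ commutator H := by
  have h1 := filt_antitone (H := H) hj
  exact h1

theorem descent {p : ℕ} (hp : p.Prime) (hcl : filt H p = ⊥) : ∀ (d j : ℕ), j + d = p → 2 ≤ j →
    ∀ g : ℕ → H, P p 0 g → (∀ i < j, g i = 1) → g p ∈ W p H := by
  intro d
  induction d with
  | zero =>
    intro j hj _ g hg hv
    have hjp : j = p := by omega
    subst hjp
    have h1 := P.iter j 0 g le_rfl hg 0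
    rw [zero_add, hcl, Subgroup.mem_bot, ← iter_of_vanish j g hv] at h1
    rw [h1]
    exact one_mem _
  | succ d ih =>
    intro j hj hj2 g hg hv
    have hjlt : j < p := by omega
    set c := g j with hc
    have hcmem : c ∈ filt H j := by
      have h1 := P.iter j 0 g hjlt.le hg 0
      rw [zero_add, ← iter_of_vanish j g hv] at h1
      exact h1
    let h : ℕ → H := fun n => (c⁻¹) ^ (n.choose j) * g n
    have hPh : P p 0 h := P.mul (P.binom p 0 j c⁻¹ (by rw [zero_add]; exact inv_mem hcmem)) hg
    have hvh : ∀ i < j + 1, h i = 1 := by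
      intro i hi
      by_cases hij : i = j
      · subst hij
        simp only [h, Nat.choose_self, pow_one]
        rw [← hc]
        simp
      · have hi' : i < j := by omega
        simp only [h]
        rw [Nat.choose_eq_zero_of_lt hi', hv i hi']
        simp
    have h1 := ih (j + 1) (by omega) (by omega) h hPh hvh
    have h2 : g p = c ^ (p.choose j) * h p := by
      simp only [h]
      rw [inv_pow]
      group
    rw [h2]
    refine mul_mem ?_ h1
    obtain ⟨e, he⟩ := hp.dvd_choose_self (by omega : j ≠ 0) hjlt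
    rw [he, mul_comm, pow_mul]
    apply Subgroup.subset_closure
    exact ⟨c ^ e, pow_mem (filt_two_le hj2 hcmem) e, rfl⟩

/-- The Hall--Petrescu congruence for `p`-th powers in groups of class less than `p`. -/
theorem hall_petrescu {p : ℕ} (hp : p.Prime) (hcl : (⊤ : Subgroup H).lowerCentralSeries (p - 1) = ⊥) (x y : H) :
    ∃ c ∈ W p H, (x * y) ^ p = x ^ p * y ^ p * c := by
  have hcl' : filt H p = ⊥ := by
    obtain ⟨q, rfl⟩ : ∃ q, p = q + 1 := ⟨p - 1, by have := hp.pos; omega⟩
    exact hcl
  let g : ℕ → H := fun n => (y⁻¹) ^ n * ((x⁻¹) ^ n * (x * y) ^ n)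
  have hpow : ∀ (c : H), P p 0 (fun n => c ^ n) := by
    intro c
    have h1 := P.binom p 0 1 c (by rw [zero_add]; exact Subgroup.mem_top c)
    simpa using h1
  have hPg : P p 0 g := P.mul (hpow _) (P.mul (hpow _) (hpow _))
  have hvg : ∀ i < 2, g i = 1 := by
    intro i hi
    interval_cases i
    · simp [g]
    · simp [g]
  have h1 := descent hp hcl' (p - 2) 2 (by have := hp.two_le; omega) le_rfl g hPg hvg
  refine ⟨g p, h1, ?_⟩
  simp only [g]
  rw [inv_pow, inv_pow]
  group

end Cfsg.Agent.Lib.H6Poly
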