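import Mathlib
import Cfsg.Agent.Lib.H6Orb4b
import Cfsg.Agent.Lib.CoprimeGen4

/-!
Three primes and normal series: coset trace without normality of the subgroup in the acting group;
fixed-point-free arguments for the Frattini situation.
-/

set_option autoImplicit false
set_option linter.all false

namespace Cfsg.Agent.Lib.H6Prime3

section Trace

variable {V : Type*} [CommGroup V] {E : Type*} [Group E] [Finite E]

open Cfsg.Agent.Lib.H6Orb4 in
theorem coset_trace2 (ρ : E →* MulAut V) (Y : Subgroup E) (hY : Y ≠ ⊥) {t : ℕ}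
    (ht : t.Prime) (x : E) (hx : x ∉ Y) (hxn : ∀ w ∈ Y, x⁻¹ * w * x ∈ Y) (hord : ∀ u ∈ Y, (x * u) ^ t = 1)
    (hfpfY : ∀ a ∈ Y, a ≠ 1 → ∀ v : V, ρ a v = v → v = 1)
    (hfpfx : ∀ u ∈ Y, ∀ v : V, ρ (x * u) v = v → v = 1) (v : V) : v ^ Nat.card Y = 1 := by
  classical
  letI : Fintype Y := Fintype.ofFinite _
  -- the trace along `Y` vanishes
  have hTr : ∏ w : Y, ρ (w : E) v = 1 := by
    obtain ⟨y, hy, hy1⟩ : ∃ y ∈ Y, y ≠ 1 := by
      obtain ⟨y, hy⟩ := Subgroup.ne_bot_iff_exists_ne_one.mp hY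
      exact ⟨y.1, y.2, fun h => hy (Subtype.ext h)⟩
    apply hfpfY y hy hy1
    rw [map_prod]
    apply Fintype.prod_equiv (Equiv.mulLeft (⟨y, hy⟩ : Y))
    intro w
    simp [map_mul, MulAut.mul_apply]
  -- the quotient computation
  have hmem : ∀ (u : E), u ∈ Y → ∀ i : ℕ, (x ^ i)⁻¹ * (x * u) ^ i ∈ Y := by
    intro u hu i
    induction i with
    | zero => simp
    | succ i ih =>
      have h1 : (x ^ (i + 1))⁻¹ * (x * u) ^ (i + 1) = x⁻¹ * ((x ^ i)⁻¹ * (x * u) ^ i) * x * u := by
        rw [pow_succ x i, pow_succ (x * u) i]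
        group
      rw [h1]
      apply Y.mul_mem _ hu
      exact hxn _ ih
  -- each power map is a bijection of `Y`
  have hbij : ∀ i, 0 < i → i < t → ∏ u : Y, ρ ((x * u) ^ i) v = 1 := by
    intro i hi0 hit
    let φ : Y → Y := fun u => ⟨(x ^ i)⁻¹ * (x * u) ^ i, hmem u u.2 i⟩
    have hinj : Function.Injective φ := by
      intro u u' h
      have h1 : (x * (u : E)) ^ i = (x * (u' : E)) ^ i := by
        have h2 := congrArg Subtype.val h
        exact mul_left_cancel h2
      have hcop : Nat.Coprime t i := Nat.coprime_of_lt_prime (by omega) hit ht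
      obtain ⟨j, -, hj⟩ := Nat.exists_mul_mod_eq_one_of_coprime hcop.symm ht.one_lt
      have hpow : ∀ w : Y, (x * (w : E)) ^ (i * j) = x * w := by
        intro w
        rw [← pow_mod_orderOf]
        have h3 : orderOf (x * (w : E)) = t := by
          haveI : Fact t.Prime := ⟨ht⟩
          apply orderOf_eq_prime (hord w w.2)
          intro h4
          apply hx
          have : x = (w : E)⁻¹ := eq_inv_of_mul_eq_one_left h4
          rw [this]
          exact Y.inv_mem w.2
        rw [h3, hj, pow_one]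
      have h5 : x * (u : E) = x * u' := by
        rw [← hpow u, ← hpow u', pow_mul, pow_mul, h1]
      exact Subtype.ext (mul_left_cancel h5)
    have hb : Function.Bijective φ := Finite.injective_iff_bijective.mp hinj
    have h2 : ∀ u : Y, ρ ((x * u) ^ i) v = ρ (x ^ i) (ρ (φ u : E) v) := by
      intro u
      have : (x * (u : E)) ^ i = x ^ i * (φ u : E) := by
        change _ = x ^ i * ((x ^ i)⁻¹ * (x * u) ^ i)
        group
      rw [this, map_mul, MulAut.mul_apply]
    simp only [h2]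
    rw [← map_prod]
    have h3 : ∏ u : Y, ρ (φ u : E) v = ∏ w : Y, ρ (w : E) v :=
      Function.Bijective.prod_comp hb (fun w : Y => ρ (w : E) v)
    rw [h3, hTr, map_one]
  have hzero : ∀ u : Y, ∏ i ∈ Finset.range t, ρ ((x * u) ^ i) v = 1 := by
    intro u
    exact hfpfx u u.2 _ (trace_fixed ρ _ (hord u u.2) v)
  have htot : ∏ u : Y, ∏ i ∈ Finset.range t, ρ ((x * u) ^ i) v = 1 :=
    Finset.prod_eq_one (fun u _ => hzero u)
  rw [Finset.prod_comm] at htot
  obtain ⟨t', rfl⟩ : ∃ t', t = t' + 1 := ⟨t - 1, by have := ht.pos; omega⟩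
  rw [Finset.prod_range_succ'] at htot
  have h0 : ∏ i ∈ Finset.range t', ∏ u : Y, ρ ((x * u) ^ (i + 1)) v = 1 :=
    Finset.prod_eq_one (fun i hi => hbij (i + 1) (by omega) (by
      have := Finset.mem_range.mp hi
      omega))
  rw [h0, one_mul] at htot
  simp only [pow_zero, map_one, MulAut.one_apply, Finset.prod_const, Finset.card_univ] at htot
  rwa [Nat.card_eq_fintype_card]

end Trace

/-- A commuting pair consisting of an element of prime order `s` and a nontrivial `p`-element yields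
an element of order `s * p`. -/
theorem exists_order_mul {G : Type*} [Group G] {p s : ℕ} (hp : p.Prime) (hs : s.Prime) (hps : p ≠ s)
    {a w : G} (ha : orderOf a = s) (hw : w ≠ 1) (hwp : ∃ k, w ^ (p ^ k) = 1) (hc : a * w = w * a) :
    ∃ x : G, orderOf x = s * p := by
  obtain ⟨k, hk⟩ := hwp
  obtain ⟨m, -, hm⟩ := (Nat.dvd_prime_pow hp).mp (orderOf_dvd_of_pow_eq_one hk)
  have hm0 : m ≠ 0 := by
    intro h0
    have h1 : orderOf w = 1 := by rw [hm, h0, pow_zero]
    exact hw (orderOf_eq_one_iff.mp h1)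
  have hdvd : p ∣ orderOf w := by
    rw [hm]; exact dvd_pow_self p hm0
  have ho0 : orderOf w ≠ 0 := by
    rw [hm]; exact pow_ne_zero _ hp.ne_zero
  have hw' : orderOf (w ^ (orderOf w / p)) = p := orderOf_pow_orderOf_div ho0 hdvd
  have hcomm : Commute a (w ^ (orderOf w / p)) := Commute.pow_right hc _
  refine ⟨a * w ^ (orderOf w / p), ?_⟩
  rw [hcomm.orderOf_mul_eq_mul_orderOf_of_coprime, ha, hw']
  rw [ha, hw']
  exact (Nat.coprime_primes hs hp).mpr hps.symm

section Core

variable {E : Type*} [Group E] [Finite E]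

/-- The core argument: a nontrivial normal `p`-subgroup, a nontrivial `q`-subgroup and an element of
prime order `r` normalising it cannot coexist if there are no elements of order `pq`, `pr`, `qr`. -/
theorem core {p q r : ℕ} (hp : p.Prime) (hq : q.Prime) (hr : r.Prime) (hpq : p ≠ q) (hpr : p ≠ r) (hqr : q ≠ r)
    (P : Subgroup E) [hPn : P.Normal] (hPp : IsPGroup p P) (hP : P ≠ ⊥)
    (Q : Subgroup E) (hQq : IsPGroup q Q) (hQ : Q ≠ ⊥) (y : E) (hy : orderOf y = r)
    (hyQ : y ∈ Subgroup.normalizer (Q : Set E))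
    (no1 : ∀ x : E, orderOf x ≠ q * p) (no2 : ∀ x : E, orderOf x ≠ r * p) (no3 : ∀ x : E, orderOf x ≠ q * r) :
    False := by
  classical
  haveI : Fact p.Prime := ⟨hp⟩
  haveI : Fact q.Prime := ⟨hq⟩
  haveI : Fact r.Prime := ⟨hr⟩
  -- the abelian normal subgroup `V`
  let V : Subgroup E := P ⊓ Subgroup.centralizer (P : Set E)
  have hVmem : ∀ {v : E}, v ∈ V ↔ v ∈ P ∧ ∀ h ∈ P, h * v = v * h := by
    intro v
    simp only [V, Subgroup.mem_inf, Subgroup.mem_centralizer_iff, SetLike.mem_coe]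
  haveI hVn : V.Normal := ⟨by
    intro v hv g
    obtain ⟨h1, h2⟩ := hVmem.mp hv
    refine hVmem.mpr ⟨hPn.conj_mem _ h1 g, fun h hh => ?_⟩
    have h3 := h2 (g⁻¹ * h * g) (by simpa using hPn.conj_mem _ hh g⁻¹)
    calc h * (g * v * g⁻¹) = g * ((g⁻¹ * h * g) * v) * g⁻¹ := by group
      _ = g * (v * (g⁻¹ * h * g)) * g⁻¹ := by rw [h3]
      _ = g * v * g⁻¹ * h := by group⟩
  letI cg : CommGroup V := { (inferInstance : Group V) with
    mul_comm := fun a b => Subtype.ext (by
      have := (hVmem.mp a.2).2 b.1 (hVmem.mp b.2).1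
      exact this.symm) }
  let ρ : E →* MulAut V := MulAut.conjNormal
  have hρ : ∀ (a : E) (v : V), ((ρ a v : V) : E) = a * v * a⁻¹ := fun a v => by
    simp [ρ]
  -- nontrivial element of `V`
  have hVnt : ∃ v : V, v ≠ 1 := by
    haveI : Nontrivial P := (Subgroup.nontrivial_iff_ne_bot P).mpr hP
    haveI := hPp.center_nontrivial
    obtain ⟨c, hc⟩ := exists_ne (1 : Subgroup.center P)
    refine ⟨⟨((c : P) : E), hVmem.mpr ⟨(c : P).2, fun h hh => ?_⟩⟩, ?_⟩
    · have := (Subgroup.mem_center_iff.mp c.2) ⟨h, hh⟩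
      exact congrArg Subtype.val this
    · intro h1
      apply hc
      apply Subtype.ext
      apply Subtype.ext
      have h2 : ((c : P) : E) = 1 := congrArg Subtype.val h1
      simpa using h2
  have hVp : ∀ v : V, ∃ k, v ^ (p ^ k) = 1 := by
    intro v
    obtain ⟨k, hk⟩ := hPp ⟨v.1, (hVmem.mp v.2).1⟩
    refine ⟨k, Subtype.ext ?_⟩
    have := congrArg Subtype.val hk
    simpa using this
  -- triviality from a coprime exponent
  have htriv : ∀ s : ℕ, s.Coprime p → (∀ v : V, v ^ s = 1) → False := by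
    intro s hs h
    obtain ⟨v, hv⟩ := hVnt
    obtain ⟨k, hk⟩ := hVp v
    apply hv
    have h1 : orderOf v ∣ s := orderOf_dvd_of_pow_eq_one (h v)
    have h2 : orderOf v ∣ p ^ k := orderOf_dvd_of_pow_eq_one hk
    have h3 : orderOf v = 1 := Nat.eq_one_of_dvd_coprimes (hs.pow_right k) h1 h2
    exact orderOf_eq_one_iff.mp h3
  -- no fixed points
  have hfix : ∀ (s : ℕ), s.Prime → p ≠ s → (∀ x : E, orderOf x ≠ s * p) → ∀ a : E, orderOf a = s → ∀ v : V, ρ a v = v → v = 1 := by
    intro s hs hps hno a ha v hv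
    by_contra hne
    have hc : a * (v : E) = (v : E) * a := by
      have h1 : a * (v : E) * a⁻¹ = v := by rw [← hρ, hv]
      rw [mul_inv_eq_iff_eq_mul] at h1
      exact h1
    obtain ⟨k, hk⟩ := hVp v
    obtain ⟨x, hx⟩ := exists_order_mul (G := E) hp hs hps ha (a := a) (w := (v : E))
      (fun h => hne (Subtype.ext h)) ⟨k, by
        have := congrArg Subtype.val hk
        simpa using this⟩ hc
    exact hno x hx
  have hfixq : ∀ a : E, a ^ q = 1 → a ≠ 1 → ∀ v : V, ρ a v = v → v = 1 := fun a ha ha1 =>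
    hfix q hq hpq no1 a (orderOf_eq_prime ha ha1)
  have hfixr : ∀ a : E, a ^ r = 1 → a ≠ 1 → ∀ v : V, ρ a v = v → v = 1 := fun a ha ha1 =>
    hfix r hr hpr no2 a (orderOf_eq_prime ha ha1)
  -- central element of `Q` of order `q`
  obtain ⟨z, hzQ, hzc, hzq, hz1⟩ : ∃ z : E, z ∈ Q ∧ (∀ w ∈ Q, w * z = z * w) ∧ z ^ q = 1 ∧ z ≠ 1 := by
    haveI : Nontrivial Q := (Subgroup.nontrivial_iff_ne_bot Q).mpr hQ
    haveI := hQq.center_nontrivial
    have hd : q ∣ Nat.card (Subgroup.center Q) := by
      rcases ((hQq.to_subgroup (Subgroup.center Q)).card_eq_or_dvd) with h | h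
      · exfalso
        have := (Nat.card_eq_one_iff_unique.mp h).1
        exact not_subsingleton _ this
      · exact h
    obtain ⟨c, hc⟩ := exists_prime_orderOf_dvd_card' (G := Subgroup.center Q) q hd
    refine ⟨((c : Q) : E), (c : Q).2, fun w hw => ?_, ?_, ?_⟩
    · exact congrArg Subtype.val ((Subgroup.mem_center_iff.mp c.2) ⟨w, hw⟩)
    · have := pow_orderOf_eq_one c
      rw [hc] at this
      have h2 := congrArg (fun t : Subgroup.center Q => ((t : Q) : E)) this
      simpa using h2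
    · intro h1
      have : c = 1 := Subtype.ext (Subtype.ext h1)
      rw [this, orderOf_one] at hc
      exact hq.ne_one hc.symm
  have hzord : orderOf z = q := orderOf_eq_prime hzq hz1
  -- the conjugate lies in `⟨z⟩`
  have hconj : y * z * y⁻¹ ∈ Subgroup.zpowers z := by
    by_contra hnot
    set z' := y * z * y⁻¹ with hz'
    have hz'Q : z' ∈ Q := (Subgroup.mem_normalizer_iff.mp hyQ z).mp hzQ
    have hcomm : z' * z = z * z' := hzc z' hz'Q
    have hz'q : z' ^ q = 1 := by
      rw [hz', conj_pow, hzq]; group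
    have := Cfsg.Agent.Lib.CoprimeGen4.abelian_key (V := V) (E := E)
      (fun a => ((ρ a : V ≃* V) : V →* V)) (by
        intro a b w; simp [map_mul]) (by intro w; simp) hq z' z hcomm hz'q hzq hz1 hnot ⊥
      (fun a ha ha1 w hw => by
        rw [Subgroup.mem_bot]
        exact hfixq a ha ha1 w hw)
    apply htriv q ((Nat.coprime_primes hq hp).mpr hpq.symm)
    intro v
    exact (Subgroup.mem_bot).mp (this v)
  set Y := Subgroup.zpowers z with hY
  have hY0 : Y ≠ ⊥ := by
    intro h
    apply hz1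
    have : z ∈ Y := Subgroup.mem_zpowers z
    rw [h] at this
    exact this
  -- `y` normalises `Y`
  have hyY1 : ∀ w ∈ Y, y * w * y⁻¹ ∈ Y := by
    intro w hw
    obtain ⟨i, rfl⟩ := Subgroup.mem_zpowers_iff.mp hw
    have : y * z ^ i * y⁻¹ = (y * z * y⁻¹) ^ i := by
      rw [conj_zpow]
    rw [this]
    exact Y.zpow_mem hconj i
  have hyYk : ∀ (k : ℕ), ∀ w ∈ Y, y ^ k * w * (y ^ k)⁻¹ ∈ Y := by
    intro k
    induction k with
    | zero => intro w hw; simpa using hw
    | succ k ih =>
      intro w hw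
      have := hyY1 _ (ih w hw)
      rw [pow_succ']
      convert this using 1
      group
  have hyinv : y⁻¹ = y ^ (r - 1) := by
    rw [inv_eq_iff_mul_eq_one, ← pow_succ']
    have : r - 1 + 1 = r := by have := hr.pos; omega
    rw [this, ← hy, pow_orderOf_eq_one]
  have hyY2 : ∀ w ∈ Y, y⁻¹ * w * y ∈ Y := by
    intro w hw
    have := hyYk (r - 1) w hw
    rw [← hyinv] at this
    simpa using this
  have hYq : ∀ w ∈ Y, w ^ q = 1 := by
    intro w hw
    obtain ⟨i, rfl⟩ := Subgroup.mem_zpowers_iff.mp hw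
    rw [← zpow_natCast, ← zpow_mul, mul_comm, zpow_mul, zpow_natCast, hzq, one_zpow]
  have hyr : y ^ r = 1 := by rw [← hy, pow_orderOf_eq_one]
  have hyn1 : y ≠ 1 := by
    intro h
    rw [h, orderOf_one] at hy
    exact hr.ne_one hy.symm
  have hyY : y ∉ Y := by
    intro h
    have h1 := hYq y h
    have h2 : orderOf y ∣ q := orderOf_dvd_of_pow_eq_one h1
    rw [hy] at h2
    exact hqr ((Nat.prime_dvd_prime_iff_eq hr hq).mp h2).symm
  -- order computations on the coset
  have hord : ∀ u ∈ Y, (y * u) ^ r = 1 := by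
    intro u hu
    set g := y * u with hg
    have hmem : ∀ i : ℕ, (y ^ i)⁻¹ * g ^ i ∈ Y := by
      intro i
      induction i with
      | zero => simp
      | succ i ih =>
        have h1 : (y ^ (i + 1))⁻¹ * g ^ (i + 1) = y⁻¹ * ((y ^ i)⁻¹ * g ^ i) * y * u := by
          rw [pow_succ y i, pow_succ g i, hg]
          group
        rw [h1]
        exact Y.mul_mem (hyY2 _ ih) hu
    have hgr : g ^ r ∈ Y := by
      have := hmem r
      rwa [hyr, inv_one, one_mul] at this
    have h1 : g ^ (r * q) = 1 := by rw [pow_mul]; exact hYq _ hgr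
    by_contra hne
    have hcop : Nat.Coprime r q := (Nat.coprime_primes hr hq).mpr hqr.symm
    have hd := orderOf_dvd_of_pow_eq_one h1
    -- `q` divides the order of `g`
    have hqd : q ∣ orderOf g := by
      by_contra hnd
      have : (orderOf g).Coprime q := ((Nat.Prime.coprime_iff_not_dvd hq).mpr hnd).symm
      exact hne (orderOf_dvd_iff_pow_eq_one.mp (this.dvd_of_dvd_mul_right hd))
    have hrd : ¬ r ∣ orderOf g := by
      intro hrd
      have h2 : r * q ∣ orderOf g := hcop.mul_dvd_of_dvd_of_dvd hrd hqd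
      have h3 : orderOf g = r * q := Nat.dvd_antisymm hd h2
      exact no3 g (by rw [h3, mul_comm])
    have hcop2 : (orderOf g).Coprime r := ((Nat.Prime.coprime_iff_not_dvd hr).mpr hrd).symm
    have h4 : orderOf g ∣ q := hcop2.dvd_of_dvd_mul_left hd
    have hgq : g ^ q = 1 := orderOf_dvd_iff_pow_eq_one.mp h4
    -- `g` lies in `Y`
    have hgY : g ∈ Y := by
      have hc2 : Nat.gcd r q = 1 := hcop
      have hb := Nat.gcd_eq_gcd_ab r q
      rw [hc2] at hb
      have h5 : g = (g ^ r) ^ (Nat.gcdA r q) * (g ^ q) ^ (Nat.gcdB r q) := by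
        rw [← zpow_natCast, ← zpow_natCast, ← zpow_mul, ← zpow_mul, ← zpow_add]
        have h6 : (r : ℤ) * Nat.gcdA r q + q * Nat.gcdB r q = 1 := by
          rw [← hb]; push_cast
        rw [h6, zpow_one]
      rw [h5, hgq, one_zpow, mul_one]
      exact Y.zpow_mem hgr _
    apply hyY
    have : y = g * u⁻¹ := by rw [hg]; group
    rw [this]
    exact Y.mul_mem hgY (Y.inv_mem hu)
  have htrace := coset_trace2 ρ Y hY0 hr y hyY hyY2 hord
    (fun a ha ha1 => hfixq a (hYq a ha) ha1)
    (fun u hu v hv => hfixr (y * u) (hord u hu) (by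
      intro h
      apply hyY
      have : y = u⁻¹ := eq_inv_of_mul_eq_one_left h
      rw [this]
      exact Y.inv_mem hu) v hv)
  have hcardY : Nat.card Y = q := by
    rw [hY, Nat.card_zpowers, hzord]
  rw [hcardY] at htrace
  exact htriv q ((Nat.coprime_primes hq hp).mpr hpq.symm) htrace

end Core

end Cfsg.Agent.Lib.H6Prime3
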