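import Mathlib
import Cfsg.Agent.Lib.SchurZ2

/-! Hall's theorems for finite solvable groups. -/

namespace Cfsg.Agent.Lib.Hall

universe u

open Cfsg.Agent.Lib.SchurZ Cfsg.Agent.Lib.SchurZ2

/-- Existence of Hall subgroups. -/
theorem hall_exists : ∀ (k : ℕ) (G : Type u) [Group G] [Finite G] [Group.IsSolvable G] (m n : ℕ),
    Nat.card G = k → Nat.card G = m * n → m.Coprime n → ∃ H : Subgroup G, Nat.card H = m := by
  intro k
  induction k using Nat.strong_induction_on with
  | _ k ih =>
    intro G _ _ _ m n hk hG hmn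
    by_cases hnt : Nontrivial G
    swap
    · rw [not_nontrivial_iff_subsingleton] at hnt
      have h1 : Nat.card G = 1 := Nat.card_of_subsingleton 1
      have hm : m = 1 := Nat.dvd_one.mp ⟨n, by rw [← hG, h1]⟩
      exact ⟨⊥, by simp [hm]⟩
    obtain ⟨p, A, hp, hAn, hAne, hAp, -⟩ := Cfsg.Agent.Lib.H7Basic.exists_normal_pGroup (G := G) ‹Group.IsSolvable G›
    haveI : Fact p.Prime := ⟨hp⟩
    haveI := hAn
    obtain ⟨a, ha⟩ := IsPGroup.iff_card.mp hAp
    have ha0 : a ≠ 0 := by
      rintro rfl
      rw [pow_zero] at ha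
      exact hAne (Subgroup.eq_bot_of_card_eq _ ha)
    let φ := QuotientGroup.mk' A
    have hker : φ.ker = A := QuotientGroup.ker_mk' A
    have hφs : Function.Surjective φ := QuotientGroup.mk'_surjective A
    have hcard : Nat.card (G ⧸ A) * Nat.card A = Nat.card G := by
      rw [← Subgroup.index_eq_card]
      rw [mul_comm]
      exact A.card_mul_index
    have hAdvd : p ^ a ∣ m * n := by
      rw [← ha, ← hG]
      exact Subgroup.card_subgroup_dvd_card A
    have hApos : 0 < p ^ a := pow_pos hp.pos a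
    have hlt : Nat.card (G ⧸ A) < k := by
      rw [← hk, ← hcard, ha]
      have h1 : 0 < Nat.card (G ⧸ A) := Nat.card_pos
      have h2 : 2 ≤ p ^ a := by
        calc 2 ≤ p := hp.two_le
          _ = p ^ 1 := (pow_one p).symm
          _ ≤ p ^ a := Nat.pow_le_pow_right hp.pos (Nat.pos_of_ne_zero ha0)
      nlinarith
    by_cases hpm : p ∣ m
    · -- `A ≤` the Hall subgroup
      have hpn : Nat.Coprime (p ^ a) n :=
        Nat.Coprime.pow_left a (Nat.Coprime.coprime_dvd_left hpm hmn)
      obtain ⟨m', rfl⟩ := hpn.dvd_of_dvd_mul_right hAdvd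
      have hcq : Nat.card (G ⧸ A) = m' * n := by
        apply Nat.eq_of_mul_eq_mul_right hApos
        rw [← ha, hcard, hG, ha]
        ring
      obtain ⟨H', hH'⟩ := ih _ hlt (G ⧸ A) m' n rfl hcq
        (Nat.Coprime.coprime_dvd_left (Dvd.intro_left _ rfl) hmn)
      refine ⟨H'.comap φ, ?_⟩
      have h1 := card_map_mul_card_ker φ (A := H'.comap φ) (by
        intro x hx
        exact Subgroup.mem_comap.mpr (by rw [MonoidHom.mem_ker.mp hx]; exact H'.one_mem))
      rw [Subgroup.map_comap_eq_self_of_surjective hφs, hH', hker, ha] at h1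
      rw [← h1]
      ring
    · -- `A` has order coprime to the Hall subgroup
      have hcopA : Nat.Coprime (p ^ a) m :=
        Nat.Coprime.pow_left a ((Nat.Prime.coprime_iff_not_dvd hp).mpr hpm)
      obtain ⟨n', rfl⟩ := hcopA.dvd_of_dvd_mul_left hAdvd
      have hcq : Nat.card (G ⧸ A) = m * n' := by
        apply Nat.eq_of_mul_eq_mul_right hApos
        rw [← ha, hcard, hG, ha]
        ring
      obtain ⟨H', hH'⟩ := ih _ hlt (G ⧸ A) m n' rfl hcq
        (Nat.Coprime.coprime_dvd_right (Dvd.intro_left _ rfl) hmn)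
      let H₁ := H'.comap φ
      have hAH₁ : A ≤ H₁ := by
        intro x hx
        have h1 : φ x = 1 := by
          have : x ∈ φ.ker := by rw [hker]; exact hx
          exact MonoidHom.mem_ker.mp this
        exact Subgroup.mem_comap.mpr (by rw [h1]; exact H'.one_mem)
      have h1 := card_map_mul_card_ker φ (A := H₁) (by rw [hker]; exact hAH₁)
      rw [Subgroup.map_comap_eq_self_of_surjective hφs, hH', hker, ha] at h1
      haveI : (A.subgroupOf H₁).Normal := inferInstance
      have hcA' : Nat.card (A.subgroupOf H₁) = p ^ a := by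
        rw [← ha]
        exact Nat.card_congr (Subgroup.subgroupOfEquivOfLe hAH₁).toEquiv
      have hidx : (A.subgroupOf H₁).index = m := by
        have h2 := (A.subgroupOf H₁).card_mul_index
        rw [hcA', ← h1, mul_comm] at h2
        exact Nat.eq_of_mul_eq_mul_right hApos h2
      obtain ⟨C, hC⟩ := Subgroup.exists_right_complement'_of_coprime (N := A.subgroupOf H₁) (by
        rw [hcA', hidx]; exact hcopA)
      have hcC : Nat.card C = m := by
        rw [← hidx]
        exact hC.symm.index_eq_card.symm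
      refine ⟨C.map H₁.subtype, ?_⟩
      rw [Subgroup.card_map_of_injective H₁.subtype_injective, hcC]

/-- Conjugacy and containment of Hall subgroups. -/
theorem hall_conj : ∀ (k : ℕ) (G : Type u) [Group G] [Finite G] [Group.IsSolvable G] (m n : ℕ),
    Nat.card G = k → Nat.card G = m * n → m.Coprime n → ∀ H K : Subgroup G, Nat.card H = m →
    (Nat.card K).Coprime n → ∃ g : G, K ≤ H.map (MulAut.conj g).toMonoidHom := by
  intro k
  induction k using Nat.strong_induction_on with
  | _ k ih =>
    intro G _ _ _ m n hk hG hmn H K hH hK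
    by_cases hnt : Nontrivial G
    swap
    · rw [not_nontrivial_iff_subsingleton] at hnt
      refine ⟨1, ?_⟩
      intro x _
      have : x = 1 := Subsingleton.elim _ _
      rw [this]
      exact Subgroup.one_mem _
    obtain ⟨p, A, hp, hAn, hAne, hAp, -⟩ := Cfsg.Agent.Lib.H7Basic.exists_normal_pGroup (G := G) ‹Group.IsSolvable G›
    haveI : Fact p.Prime := ⟨hp⟩
    haveI := hAn
    obtain ⟨a, ha⟩ := IsPGroup.iff_card.mp hAp
    have ha0 : a ≠ 0 := by
      rintro rfl
      rw [pow_zero] at ha
      exact hAne (Subgroup.eq_bot_of_card_eq _ ha)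
    let φ := QuotientGroup.mk' A
    have hker : φ.ker = A := QuotientGroup.ker_mk' A
    have hφs : Function.Surjective φ := QuotientGroup.mk'_surjective A
    have hcard : Nat.card (G ⧸ A) * Nat.card A = Nat.card G := by
      rw [← Subgroup.index_eq_card]
      rw [mul_comm]
      exact A.card_mul_index
    have hAdvd : p ^ a ∣ m * n := by
      rw [← ha, ← hG]
      exact Subgroup.card_subgroup_dvd_card A
    have hApos : 0 < p ^ a := pow_pos hp.pos a
    have hlt : Nat.card (G ⧸ A) < k := by
      rw [← hk, ← hcard, ha]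
      have h1 : 0 < Nat.card (G ⧸ A) := Nat.card_pos
      have h2 : 2 ≤ p ^ a := by
        calc 2 ≤ p := hp.two_le
          _ = p ^ 1 := (pow_one p).symm
          _ ≤ p ^ a := Nat.pow_le_pow_right hp.pos (Nat.pos_of_ne_zero ha0)
      nlinarith
    have hAnorm : ∀ g : G, g ∈ Subgroup.normalizer (A : Set G) :=
      fun g => Subgroup.normalizer_eq_top_iff.mpr hAn ▸ Subgroup.mem_top g
    by_cases hpm : p ∣ m
    · -- `A ≤ H`
      have hpn : Nat.Coprime p n := Nat.Coprime.coprime_dvd_left hpm hmn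
      have hpan : Nat.Coprime (p ^ a) n := Nat.Coprime.pow_left a hpn
      obtain ⟨m', rfl⟩ := hpan.dvd_of_dvd_mul_right hAdvd
      have hAH : A ≤ H := by
        -- the index of `A ⊓ H` in `A`
        have h1 := card_sup_mul_card_inf A H (fun x _ => hAnorm x)
        let i := (A ⊓ H).relIndex A
        have h2 : Nat.card (A ⊓ H : Subgroup G) * i = Nat.card A := by
          have h3 := Subgroup.relIndex_mul_relIndex (⊥ : Subgroup G) (A ⊓ H) A bot_le inf_le_left
          simpa only [Subgroup.relIndex_bot_left] using h3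
        have hipos : 0 < Nat.card (A ⊓ H : Subgroup G) := Nat.card_pos
        have h3 : Nat.card (A ⊔ H : Subgroup G) = i * Nat.card H := by
          apply Nat.eq_of_mul_eq_mul_right hipos
          rw [h1, ← h2]
          ring
        have h4 : i * Nat.card H ∣ Nat.card H * n := by
          rw [← h3, hH, ← hG]
          exact Subgroup.card_subgroup_dvd_card _
        have h5 : i ∣ n := by
          rw [mul_comm i] at h4
          exact Nat.dvd_of_mul_dvd_mul_left Nat.card_pos h4
        have h6 : i ∣ p ^ a := by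
          rw [← ha]
          exact ⟨_, by rw [mul_comm]; exact h2.symm⟩
        have h7 : i = 1 := Nat.eq_one_of_dvd_coprimes hpan h6 h5
        have h8 : (A ⊓ H).relIndex A = 1 := h7
        rw [Subgroup.relIndex_eq_one] at h8
        exact fun x hx => (h8 hx).2
      have hcq : Nat.card (G ⧸ A) = m' * n := by
        apply Nat.eq_of_mul_eq_mul_right hApos
        rw [← ha, hcard, hG, ha]
        ring
      have hcH' : Nat.card (H.map φ) = m' := by
        have h1 := card_map_mul_card_ker φ (A := H) (by rw [hker]; exact hAH)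
        rw [hH, hker, ha, mul_comm] at h1
        exact Nat.eq_of_mul_eq_mul_left hApos h1
      obtain ⟨g', hg'⟩ := ih _ hlt (G ⧸ A) m' n rfl hcq
        (Nat.Coprime.coprime_dvd_left (Dvd.intro_left _ rfl) hmn) (H.map φ) (K.map φ) hcH'
        (Nat.Coprime.coprime_dvd_left (Subgroup.card_map_dvd K φ) hK)
      obtain ⟨g, rfl⟩ := hφs g'
      refine ⟨g, ?_⟩
      intro x hx
      have h1 : φ x ∈ (H.map φ).map (MulAut.conj (φ g)).toMonoidHom := hg' ⟨x, hx, rfl⟩
      obtain ⟨_, ⟨h, hh, rfl⟩, hxh⟩ := h1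
      have hxh' : φ g * φ h * (φ g)⁻¹ = φ x := hxh
      refine ⟨g⁻¹ * x * g, ?_, by show g * (g⁻¹ * x * g) * g⁻¹ = x; group⟩
      have h2 : φ (g⁻¹ * x * g * h⁻¹) = 1 := by
        rw [map_mul, map_mul, map_mul, map_inv, map_inv, ← hxh']
        group
      have h3 : g⁻¹ * x * g * h⁻¹ ∈ A := by
        have : g⁻¹ * x * g * h⁻¹ ∈ φ.ker := MonoidHom.mem_ker.mpr h2
        rwa [hker] at this
      have h4 := H.mul_mem (hAH h3) hh
      simpa using h4
    · -- `A` coprime to `H`
      have hcopA : Nat.Coprime (p ^ a) m :=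
        Nat.Coprime.pow_left a ((Nat.Prime.coprime_iff_not_dvd hp).mpr hpm)
      obtain ⟨n', rfl⟩ := hcopA.dvd_of_dvd_mul_left hAdvd
      have hcq : Nat.card (G ⧸ A) = m * n' := by
        apply Nat.eq_of_mul_eq_mul_right hApos
        rw [← ha, hcard, hG, ha]
        ring
      have hdAH : A ⊓ H = ⊥ := inf_eq_bot_of_coprime (by rw [ha, hH]; exact hcopA)
      have hcH' : Nat.card (H.map φ) = m := by
        rw [card_map_of_disjoint φ (by rw [hker]; exact hdAH), hH]
      obtain ⟨g', hg'⟩ := ih _ hlt (G ⧸ A) m n' rfl hcq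
        (Nat.Coprime.coprime_dvd_right (Dvd.intro_left _ rfl) hmn) (H.map φ) (K.map φ) hcH'
        (Nat.Coprime.coprime_dvd_right (Dvd.intro_left _ rfl)
          (Nat.Coprime.coprime_dvd_left (Subgroup.card_map_dvd K φ) hK))
      obtain ⟨g, rfl⟩ := hφs g'
      let H₁ := H.map (MulAut.conj g).toMonoidHom
      have hcH₁ : Nat.card H₁ = m := by rw [conj_map_card, hH]
      have hdAH₁ : A ⊓ H₁ = ⊥ := inf_eq_bot_of_coprime (by rw [ha, hcH₁]; exact hcopA)
      have hKsup : K ≤ A ⊔ H₁ := by
        intro x hx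
        have h1 : φ x ∈ (H.map φ).map (MulAut.conj (φ g)).toMonoidHom := hg' ⟨x, hx, rfl⟩
        obtain ⟨_, ⟨h, hh, rfl⟩, hxh⟩ := h1
        have hxh' : φ g * φ h * (φ g)⁻¹ = φ x := hxh
        have h2 : φ (x * (g * h * g⁻¹)⁻¹) = 1 := by
          rw [map_mul, map_inv, map_mul, map_mul, map_inv, hxh', mul_inv_cancel]
        have h3 : x * (g * h * g⁻¹)⁻¹ ∈ A := by
          have : x * (g * h * g⁻¹)⁻¹ ∈ φ.ker := MonoidHom.mem_ker.mpr h2
          rwa [hker] at this
        have h4 : x = (x * (g * h * g⁻¹)⁻¹) * (g * h * g⁻¹) := by group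
        rw [h4]
        exact Subgroup.mul_mem _ ((le_sup_left : A ≤ _) h3)
          ((le_sup_right : H₁ ≤ _) ⟨h, hh, rfl⟩)
      let K₀ := (K ⊔ A) ⊓ H₁
      have hK₀H₁ : K₀ ≤ H₁ := inf_le_right
      have hsupK : K ≤ A ⊔ K₀ := by
        intro x hx
        have hx' := hKsup hx
        obtain ⟨a', ha', h', hh', rfl⟩ := Cfsg.Agent.Lib.PReduced.exists_mul_of_mem_sup'
          (M := H₁) (C := A) (fun y _ => hAnorm y) (by rw [sup_comm]; exact hx')
        have hh'K : h' ∈ K ⊔ A := by
          have h1 : h' = a'⁻¹ * (a' * h') := by group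
          rw [h1]
          exact Subgroup.mul_mem _ ((le_sup_right : A ≤ _) (A.inv_mem ha'))
            ((le_sup_left : K ≤ _) hx)
        exact Subgroup.mul_mem _ ((le_sup_left : A ≤ _) ha') ((le_sup_right : K₀ ≤ _) ⟨hh'K, hh'⟩)
      have hsupK₀ : A ⊔ K₀ = A ⊔ K := by
        apply le_antisymm
        · refine sup_le le_sup_left ?_
          refine inf_le_left.trans ?_
          rw [sup_comm]
        · exact sup_le le_sup_left hsupK
      have hpK : ¬ p ∣ Nat.card K := by
        intro hd
        have h1 : p ∣ p ^ a * n' := Dvd.dvd.mul_right (dvd_pow_self p ha0) n'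
        exact hp.one_lt.ne' (Nat.eq_one_of_dvd_coprimes hK hd h1)
      have hcopK : Nat.Coprime (p ^ a) (Nat.card K) :=
        Nat.Coprime.pow_left a ((Nat.Prime.coprime_iff_not_dvd hp).mpr hpK)
      have hdAK : A ⊓ K = ⊥ := inf_eq_bot_of_coprime (by rw [ha]; exact hcopK)
      have hdAK₀ : A ⊓ K₀ = ⊥ := by
        rw [eq_bot_iff]
        intro x hx
        have : x ∈ A ⊓ H₁ := ⟨hx.1, hK₀H₁ hx.2⟩
        rwa [hdAH₁] at this
      have hcK₀ : Nat.card K₀ = Nat.card K := by
        have h1 := card_sup_of_disjoint A K hdAK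
        have h2 := card_sup_of_disjoint A K₀ hdAK₀
        rw [hsupK₀, h1] at h2
        exact (Nat.eq_of_mul_eq_mul_left (by rw [ha]; exact hApos) h2).symm
      obtain ⟨c, hc, hcK⟩ := sz_conj_ambient A K₀ K (fun y _ => hAnorm y) hsupK hcK₀.symm
        (by rw [ha, hcK₀]; exact hcopK)
        (Or.inl (by
          haveI := hAp.isNilpotent
          infer_instance))
      refine ⟨c * g, ?_⟩
      rw [← hcK]
      rintro _ ⟨y, hy, rfl⟩
      obtain ⟨h, hh, rfl⟩ := hK₀H₁ hy
      refine ⟨h, hh, ?_⟩
      show c * g * h * (c * g)⁻¹ = c * (g * h * g⁻¹) * c⁻¹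
      group

end Cfsg.Agent.Lib.Hall
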