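import Mathlib
import Cfsg.Prelude.Def_IsolatedElements
import Cfsg.Agent.Lib.H5Basic

/-! Basic facts on isolated elements. -/

set_option autoImplicit false
set_option linter.unusedSectionVars false

namespace Cfsg.Agent.Lib.Isolated

open Cfsg

variable {G : Type*} [Group G] [Finite G]

/-- An isolated element of a `p`-subgroup is central in it. -/
theorem commute_of_mem_pgroup {p : ℕ} [Fact p.Prime] {x : G} (hiso : IsIsolated x)
    {P : Subgroup G} (hP : IsPGroup p P) (hx : x ∈ P) {g : G} (hg : g ∈ P) : g * x = x * g := by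
  classical
  set A : Subgroup G := P ⊓ Subgroup.centralizer ({x} : Set G) with hA
  have hxA : x ∈ A := Subgroup.mem_inf.2 ⟨hx, Subgroup.mem_centralizer_singleton_iff.2 rfl⟩
  have hmemA : ∀ y ∈ A, y * x = x * y := by
    intro y hy
    exact (Subgroup.mem_centralizer_singleton_iff.1 hy.2)
  by_cases hne : A = P
  · exact hmemA g (hne ▸ hg)
  · exfalso
    obtain ⟨t, htP, htA, htN⟩ := Cfsg.Agent.Lib.H5Basic.exists_mem_normalizer_of_lt hP inf_le_left hne
    have h1 : t * x * t⁻¹ ∈ A := (Subgroup.mem_normalizer_iff.1 htN x).1 hxA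
    have h2 : Commute x (t * x * t⁻¹) := (hmemA _ h1).symm
    have h3 := hiso t h2
    apply htA
    refine ⟨htP, ?_⟩
    show t ∈ Subgroup.centralizer ({x} : Set G)
    rw [Subgroup.mem_centralizer_singleton_iff]
    calc t * x = t * x * t⁻¹ * t := by group
      _ = x * t := by rw [h3]

/-- An isolated element equals any conjugate lying in a common `p`-subgroup. -/
theorem conj_eq_of_mem_pgroup {p : ℕ} [Fact p.Prime] {x : G} (hiso : IsIsolated x)
    {P : Subgroup G} (hP : IsPGroup p P) (hx : x ∈ P) (g : G) (hg : g * x * g⁻¹ ∈ P) :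
    g * x * g⁻¹ = x :=
  hiso g (commute_of_mem_pgroup hiso hP hx hg).symm

/-- Fusion control: two conjugate elements in a subgroup `C` are conjugate in `C`
if one of them is isolated of `p`-power order. -/
theorem exists_conj_in_subgroup {p : ℕ} [Fact p.Prime] {x : G} (hxo : ∃ k : ℕ, orderOf x = p ^ k)
    (hiso : IsIsolated x) (C : Subgroup G) (hxC : x ∈ C) (g : G) (hgC : g * x * g⁻¹ ∈ C) :
    ∃ c ∈ C, c * (g * x * g⁻¹) * c⁻¹ = x := by
  classical
  set x₀ : C := ⟨x, hxC⟩ with hx₀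
  set x₁ : C := ⟨g * x * g⁻¹, hgC⟩ with hx₁
  obtain ⟨k, hk⟩ := hxo
  have ho0 : orderOf x₀ = p ^ k := by rw [hx₀, Subgroup.orderOf_mk, hk]
  have ho1 : orderOf x₁ = p ^ k := by
    rw [hx₁, Subgroup.orderOf_mk, ← hk, ← MulAut.conj_apply]
    exact MulEquiv.orderOf_eq _ _
  have hp0 : IsPGroup p (Subgroup.zpowers x₀) := by
    rw [IsPGroup.iff_card, Nat.card_zpowers, ho0]
    exact ⟨k, rfl⟩
  have hp1 : IsPGroup p (Subgroup.zpowers x₁) := by
    rw [IsPGroup.iff_card, Nat.card_zpowers, ho1]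
    exact ⟨k, rfl⟩
  obtain ⟨S, hS⟩ := hp0.exists_le_sylow
  obtain ⟨S', hS'⟩ := hp1.exists_le_sylow
  obtain ⟨c, hc⟩ := MulAction.exists_smul_eq (↥C) S' S
  have hx₀S : x₀ ∈ (S : Subgroup C) := hS (Subgroup.mem_zpowers x₀)
  have hx₁S' : x₁ ∈ (S' : Subgroup C) := hS' (Subgroup.mem_zpowers x₁)
  have hmem : c * x₁ * c⁻¹ ∈ (S : Subgroup C) := by
    rw [← hc]
    exact Cfsg.Agent.Lib.H5Basic.conj_mem_smul_sylow S' c x₁ hx₁S'
  set R : Subgroup G := (S : Subgroup C).map C.subtype with hR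
  have hRp : IsPGroup p R := S.isPGroup'.map _
  have hxR : x ∈ R := ⟨x₀, hx₀S, rfl⟩
  have hwR : (c : G) * (g * x * g⁻¹) * (c : G)⁻¹ ∈ R := ⟨_, hmem, by simp [hx₁]⟩
  refine ⟨c, c.2, ?_⟩
  have h := conj_eq_of_mem_pgroup hiso hRp hxR ((c : G) * g) (by
    have e : (c : G) * g * x * ((c : G) * g)⁻¹ = (c : G) * (g * x * g⁻¹) * (c : G)⁻¹ := by group
    rw [e]; exact hwR)
  have e : (c : G) * g * x * ((c : G) * g)⁻¹ = (c : G) * (g * x * g⁻¹) * (c : G)⁻¹ := by group
  rw [← e]; exact h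

end Cfsg.Agent.Lib.Isolated
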