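import Mathlib
import Cfsg.Prelude
import Cfsg.Agent.Lib.Isolated
import Cfsg.Agent.Lib.SolvCore
import Cfsg.Agent.Lib.FitCore
import Cfsg.Agent.Lib.PComps
import Cfsg.Agent.Lib.PResidual
import Cfsg.Agent.Lib.ThompsonBasic
import Cfsg.Agent.Lib.NormalE

/-! Minimal counterexamples to the statement on isolated elements of prime order. -/

set_option autoImplicit false
set_option linter.all false

namespace Cfsg.Agent.Lib.IsoMin

open Cfsg Cfsg.Agent.Lib.SolvCore Cfsg.Agent.Lib.FitCore

variable {G : Type*} [Group G] [Finite G] {p : ℕ} [hpF : Fact p.Prime]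

/-- The hypotheses on a minimal counterexample. -/
structure Ctx (x : G) (p : ℕ) : Prop where
  hx : orderOf x = p
  hiso : IsIsolated x
  hnz : ¬ InZStar p x
  hmin : ∀ (H : Subgroup G) (hxH : x ∈ H), H ≠ ⊤ → InZStar p (⟨x, hxH⟩ : ↥H)
  hquot : ∀ (N : Subgroup G) [N.Normal], N ≠ ⊥ → InZStar p (QuotientGroup.mk x : G ⧸ N)

variable {x : G}

theorem Ctx.x_ne (h : Ctx x p) : x ≠ 1 := by
  rintro rfl
  have h1 := h.hx
  rw [orderOf_one] at h1
  exact (Fact.out : p.Prime).one_lt.ne h1

theorem Ctx.core_bot (h : Ctx x p) : pPrimeCore p G = ⊥ := by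
  by_contra hne
  haveI : (pPrimeCore p G).Normal := pPrimeCore_normal p G
  apply h.hnz
  intro g
  have h1 := h.hquot (pPrimeCore p G) hne (QuotientGroup.mk g)
  rw [pPrimeCore_quot_eq_bot] at h1
  have h2 : ((g * x * g⁻¹ * x⁻¹ : G) : G ⧸ pPrimeCore p G) = 1 := by
    simpa using (Subgroup.mem_bot.1 h1)
  exact (QuotientGroup.eq_one_iff _).1 h2

theorem Ctx.core_sub_bot (h : Ctx x p) (N : Subgroup G) [hN : N.Normal] : pPrimeCore p N = ⊥ := by
  haveI : (pPrimeCore p ↥N).Characteristic := PComps.pPrimeCore_characteristic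
  have h1 : ((pPrimeCore p ↥N).map N.subtype).Normal := map_subtype_normal_of_char N _
  have h2 : ¬ p ∣ Nat.card ((pPrimeCore p ↥N).map N.subtype) := by
    rw [Subgroup.card_map_of_injective (K := pPrimeCore p ↥N) (f := N.subtype) (Subgroup.subtype_injective N)]
    exact not_dvd_card_pPrimeCore p Fact.out
  have h3 := eq_bot_of_normal_not_dvd h.core_bot _ h1 h2
  exact (Subgroup.map_eq_bot_iff_of_injective _ (Subgroup.subtype_injective N)).1 h3

theorem Ctx.top_of_mem (h : Ctx x p) (M : Subgroup G) [hM : M.Normal] (hxM : x ∈ M) : M = ⊤ := by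
  by_contra hne
  apply h.hnz
  intro g
  have h1 := h.hmin M hxM hne
  have hc : ∀ y ∈ M, y * x = x * y := by
    intro y hy
    have h2 := h1 ⟨y, hy⟩
    rw [h.core_sub_bot M] at h2
    have h3 := Subgroup.mem_bot.1 h2
    have h4 : y * x * y⁻¹ * x⁻¹ = 1 := congrArg Subtype.val h3
    calc y * x = (y * x * y⁻¹ * x⁻¹) * (x * y) := by group
      _ = x * y := by rw [h4, one_mul]
  have h5 : g * x * g⁻¹ ∈ M := hM.conj_mem x hxM g
  have h6 := h.hiso g (hc _ h5).symm
  rw [h6]
  simp [pPrimeCore, one_mem]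

theorem Ctx.central_of_sup_ne (h : Ctx x p) (M : Subgroup G) [hM : M.Normal]
    (hne : M ⊔ Subgroup.zpowers x ≠ ⊤) : M ≤ Subgroup.center G := by
  set H := M ⊔ Subgroup.zpowers x with hH
  have hxH : x ∈ H := (le_sup_right : Subgroup.zpowers x ≤ H) (Subgroup.mem_zpowers x)
  have hMH : M ≤ H := le_sup_left
  have h1 := h.hmin H hxH hne
  have hcomm : ∀ y ∈ M, y * x = x * y := by
    intro y hy
    have h2 := h1 ⟨y, hMH hy⟩
    set w : G := y * x * y⁻¹ * x⁻¹ with hw
    have hwM : w ∈ M := by
      have : w = y * (x * y⁻¹ * x⁻¹) := by rw [hw]; group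
      rw [this]
      exact M.mul_mem hy (hM.conj_mem _ (M.inv_mem hy) x)
    have hKn : (pPrimeCore p ↥H).Normal := pPrimeCore_normal p ↥H
    set W : Subgroup M := ((pPrimeCore p ↥H).map H.subtype).subgroupOf M with hW
    have hWn : W.Normal := by
      constructor
      rintro ⟨a, ha⟩ haW ⟨b, hb⟩
      obtain ⟨a', ha', hae⟩ := haW
      refine ⟨⟨b, hMH hb⟩ * a' * (⟨b, hMH hb⟩ : H)⁻¹, hKn.conj_mem a' ha' _, ?_⟩
      show (b * (a' : G) * b⁻¹) = b * a * b⁻¹
      have : (a' : G) = a := hae
      rw [this]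
    have hWd : ¬ p ∣ Nat.card W := by
      intro hd
      have e : Nat.card (W.map M.subtype) = Nat.card W :=
        Subgroup.card_map_of_injective (K := W) (f := M.subtype) (Subgroup.subtype_injective M)
      have e2 : W.map M.subtype ≤ (pPrimeCore p ↥H).map H.subtype := by
        rw [hW, Subgroup.subgroupOf_map_subtype]
        exact inf_le_left
      have e3 := Subgroup.card_dvd_of_le e2
      have e4 : Nat.card ((pPrimeCore p ↥H).map H.subtype) = Nat.card (pPrimeCore p ↥H) :=
        Subgroup.card_map_of_injective (K := pPrimeCore p ↥H) (f := H.subtype) (Subgroup.subtype_injective H)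
      rw [e, e4] at e3
      exact not_dvd_card_pPrimeCore (G := ↥H) p Fact.out (hd.trans e3)
    have hWbot := eq_bot_of_normal_not_dvd (h.core_sub_bot M) W hWn hWd
    have hmem : (⟨w, hwM⟩ : M) ∈ W := by
      show w ∈ (pPrimeCore p ↥H).map H.subtype
      exact ⟨_, h2, rfl⟩
    rw [hWbot] at hmem
    have h4 : w = 1 := congrArg Subtype.val (Subgroup.mem_bot.1 hmem)
    calc y * x = w * (x * y) := by rw [hw]; group
      _ = x * y := by rw [h4, one_mul]
  have hCx : x ∈ Subgroup.centralizer (M : Set G) := by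
    rw [Subgroup.mem_centralizer_iff]
    intro y hy
    exact hcomm y hy
  haveI hCn : (Subgroup.centralizer (M : Set G)).Normal := Subgroup.normal_centralizer
  have hCtop := h.top_of_mem _ hCx
  intro y hy
  rw [Subgroup.mem_center_iff]
  intro g
  have hg : g ∈ Subgroup.centralizer (M : Set G) := by rw [hCtop]; exact Subgroup.mem_top g
  exact (Subgroup.mem_centralizer_iff.1 hg y hy).symm

theorem Ctx.sup_top_of (h : Ctx x p) (M : Subgroup G) [hM : M.Normal]
    (hc : ∀ g, g * x * g⁻¹ * x⁻¹ ∈ M) : M ⊔ Subgroup.zpowers x = ⊤ := by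
  set f := QuotientGroup.mk' M with hf
  have hcen : ∀ g : G ⧸ M, g * f x * g⁻¹ = f x := by
    intro g
    obtain ⟨g, rfl⟩ := QuotientGroup.mk_surjective g
    have h1 : f (g * x * g⁻¹ * x⁻¹) = 1 := (QuotientGroup.eq_one_iff _).2 (hc g)
    simp only [map_mul, map_inv] at h1
    exact mul_inv_eq_one.1 h1
  set L : Subgroup G := (Subgroup.zpowers (f x)).comap f with hL
  haveI hLn : L.Normal := by
    apply Subgroup.Normal.comap
    constructor
    intro n hn g
    obtain ⟨k, rfl⟩ := Subgroup.mem_zpowers_iff.1 hn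
    rw [← conj_zpow, hcen]
    exact Subgroup.zpow_mem_zpowers _ _
  have hxL : x ∈ L := Subgroup.mem_zpowers (f x)
  have hLt := h.top_of_mem L hxL
  have e : L = M ⊔ Subgroup.zpowers x := by
    rw [hL, ← MonoidHom.map_zpowers, Subgroup.comap_map_eq, QuotientGroup.ker_mk', sup_comm]
  rw [← e, hLt]

theorem Ctx.comm_le (M : Subgroup G) [hM : M.Normal] (hs : M ⊔ Subgroup.zpowers x = ⊤) :
    commutator G ≤ M :=
  Subgroup.Normal.commutator_le_of_self_sup_commutative_eq_top hs inferInstance

theorem Ctx.center_isP (h : Ctx x p) : IsPGroup p (Subgroup.center G) := by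
  rw [IsPGroup.iff_orderOf]
  rintro ⟨y, hy⟩
  obtain ⟨a, b, hab, hcomm, hco, ⟨k, hk⟩, ha, hb⟩ := Cfsg.Agent.Lib.PResidual.exists_decomp (p := p) y
  have hac : a ∈ Subgroup.center G := by
    obtain ⟨n, rfl⟩ := Subgroup.mem_zpowers_iff.1 ha
    exact Subgroup.zpow_mem _ hy n
  have hn : (Subgroup.zpowers a).Normal := by
    constructor
    intro n hn g
    obtain ⟨k, rfl⟩ := Subgroup.mem_zpowers_iff.1 hn
    rw [← conj_zpow]
    have : g * a * g⁻¹ = a := by
      rw [Subgroup.mem_center_iff.1 hac g]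
      group
    rw [this]
    exact Subgroup.zpow_mem_zpowers _ _
  have hd : ¬ p ∣ Nat.card (Subgroup.zpowers a) := by
    rw [Nat.card_zpowers]
    intro hd
    have := Nat.Coprime.eq_one_of_dvd (Nat.coprime_comm.1 hco) hd
    exact (Fact.out : p.Prime).one_lt.ne' this
  have hbot := eq_bot_of_normal_not_dvd h.core_bot _ hn hd
  have ha1 : a = 1 := Subgroup.zpowers_eq_bot.1 hbot
  refine ⟨k, ?_⟩
  have e1 : orderOf (⟨y, hy⟩ : Subgroup.center G) = orderOf y := Subgroup.orderOf_mk y hy
  rw [e1, hab, ha1, one_mul]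
  exact hk

/-- A commutative normal subgroup is a `p`-group. -/
theorem Ctx.isPGroup_of_comm (h : Ctx x p) (N : Subgroup G) [hN : N.Normal] (hc : IsMulCommutative N) :
    IsPGroup p N := by
  rw [IsPGroup.iff_orderOf]
  intro y
  obtain ⟨a, b, hab, hcomm, hco, ⟨k, hk⟩, ha, hb⟩ := Cfsg.Agent.Lib.PResidual.exists_decomp (p := p) y
  have hn : (Subgroup.zpowers a).Normal := by
    constructor
    intro n hn g
    have : g * n * g⁻¹ = n := by
      rw [hc.is_comm.comm g n]
      group
    rw [this]
    exact hn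
  have hd : ¬ p ∣ Nat.card (Subgroup.zpowers a) := by
    rw [Nat.card_zpowers]
    intro hd
    have := Nat.Coprime.eq_one_of_dvd (Nat.coprime_comm.1 hco) hd
    exact (Fact.out : p.Prime).one_lt.ne' this
  have hbot := eq_bot_of_normal_not_dvd (h.core_sub_bot N) _ hn hd
  have ha1 : a = 1 := Subgroup.zpowers_eq_bot.1 hbot
  refine ⟨k, ?_⟩
  rw [hab, ha1, one_mul]
  exact hk

theorem Ctx.center_bot (h : Ctx x p) : Subgroup.center G = ⊥ := by
  by_contra hne
  classical
  set Z := Subgroup.center G with hZ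
  haveI hZn : Z.Normal := inferInstance
  have hpZ : IsPGroup p Z := h.center_isP
  set Mb := pPrimeCore p (G ⧸ Z) with hMb
  have hMbn : Mb.Normal := pPrimeCore_normal p _
  set M : Subgroup G := Mb.comap (QuotientGroup.mk' Z) with hM
  haveI hMn : M.Normal := Subgroup.Normal.comap hMbn _
  have hZM : Z ≤ M := by
    intro z hz
    show QuotientGroup.mk' Z z ∈ Mb
    have : QuotientGroup.mk' Z z = 1 := (QuotientGroup.eq_one_iff _).2 hz
    rw [this]
    exact one_mem _
  have hc : ∀ g, g * x * g⁻¹ * x⁻¹ ∈ M := by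
    intro g
    have := h.hquot Z hne (QuotientGroup.mk g)
    show QuotientGroup.mk' Z (g * x * g⁻¹ * x⁻¹) ∈ Mb
    simpa using this
  have htop := h.sup_top_of M hc
  set N : Subgroup M := Z.subgroupOf M with hN
  haveI hNn : N.Normal := Subgroup.Normal.subgroupOf hZn M
  have hcardM : Nat.card M = Nat.card Z * Nat.card Mb := by
    have h1 : Nat.card (M.map (QuotientGroup.mk' Z)) = Nat.card Mb := by
      rw [hM, Subgroup.map_comap_eq_self_of_surjective (QuotientGroup.mk'_surjective Z)]
    have h2 := Subgroup.card_mul_index M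
    have h3 := Subgroup.card_mul_index Z
    have h4 : (M.map (QuotientGroup.mk' Z)).index = M.index := by
      rw [hM, Subgroup.map_comap_eq_self_of_surjective (QuotientGroup.mk'_surjective Z), Subgroup.index_comap_of_surjective _ (QuotientGroup.mk'_surjective Z)]
    have h5 := Subgroup.card_mul_index (M.map (QuotientGroup.mk' Z))
    have h6 : Nat.card (G ⧸ Z) = Z.index := rfl
    rw [h1, h4, h6] at h5
    have h7 : 0 < M.index := Nat.pos_of_ne_zero Subgroup.FiniteIndex.index_ne_zero
    apply Nat.eq_of_mul_eq_mul_right h7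
    rw [h2, mul_assoc, h5, h3]
  have hcardN : Nat.card N = Nat.card Z := Cfsg.Agent.Lib.ThompsonBasic.card_subgroupOf_of_le hZM
  have hindex : N.index = Nat.card Mb := by
    have h1 := Subgroup.card_mul_index N
    rw [hcardN, hcardM] at h1
    exact Nat.eq_of_mul_eq_mul_left (Nat.card_pos) h1
  have hMbd : ¬ p ∣ Nat.card Mb := not_dvd_card_pPrimeCore p Fact.out
  have hcop : (Nat.card N).Coprime N.index := by
    rw [hcardN, hindex]
    obtain ⟨k, hk⟩ := IsPGroup.iff_card.1 hpZ
    rw [hk]
    exact Nat.Coprime.pow_left _ ((Nat.Prime.coprime_iff_not_dvd Fact.out).2 hMbd)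
  obtain ⟨K, hK⟩ := Subgroup.exists_right_complement'_of_coprime hcop
  have hKn : K.Normal := by
    constructor
    intro k hk g
    obtain ⟨⟨⟨n, hn⟩, ⟨k', hk'⟩⟩, hnk, -⟩ := hK.existsUnique g
    have hg : g = n * k' := hnk.symm
    have hnc : (n : G) ∈ Subgroup.center G := hn
    have hc2 : n * k' * k * (n * k')⁻¹ = k' * k * k'⁻¹ := by
      apply Subtype.ext
      have h1 : ∀ w : G, (n : G) * w = w * (n : G) := fun w =>
        (Subgroup.mem_center_iff.1 hnc w).symm
      simp only [Subgroup.coe_mul, Subgroup.coe_inv, mul_inv_rev]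
      calc (n : G) * k' * k * ((k' : G)⁻¹ * (n : G)⁻¹) = (n : G) * ((k' : G) * k * (k' : G)⁻¹) * (n : G)⁻¹ := by group
        _ = ((k' : G) * k * (k' : G)⁻¹) * (n : G) * (n : G)⁻¹ := by rw [h1]
        _ = (k' : G) * k * (k' : G)⁻¹ := by group
    rw [hg, hc2]
    exact K.mul_mem (K.mul_mem hk' hk) (K.inv_mem hk')
  have hKd : ¬ p ∣ Nat.card K := by
    have h1 := hK.symm.index_eq_card
    rw [← h1, hindex]
    exact hMbd
  have hKbot := eq_bot_of_normal_not_dvd (h.core_sub_bot M) K hKn hKd
  have hMZ : M ≤ Z := by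
    intro m hm
    obtain ⟨⟨⟨n, hn⟩, ⟨k', hk'⟩⟩, hnk, -⟩ := hK.existsUnique ⟨m, hm⟩
    rw [hKbot] at hk'
    have hk1 : k' = 1 := Subgroup.mem_bot.1 hk'
    have hnk' : n * k' = ⟨m, hm⟩ := hnk
    rw [hk1, mul_one] at hnk'
    have : (n : G) = m := congrArg Subtype.val hnk'
    rw [← this]
    exact hn
  apply h.hnz
  intro g
  have hle : M ⊔ Subgroup.zpowers x ≤ Subgroup.centralizer ({x} : Set G) := by
    refine sup_le ?_ ?_
    · intro m hm
      rw [Subgroup.mem_centralizer_singleton_iff]
      exact (Subgroup.mem_center_iff.1 (hMZ hm) x).symm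
    · rw [Subgroup.zpowers_le]
      exact Subgroup.mem_centralizer_singleton_iff.2 rfl
  rw [htop] at hle
  have hgx := Subgroup.mem_centralizer_singleton_iff.1 (hle (Subgroup.mem_top g))
  have e : g * x * g⁻¹ * x⁻¹ = 1 := by
    rw [hgx]
    group
  rw [e]
  exact one_mem _

theorem Ctx.sup_comm_top (h : Ctx x p) : commutator G ⊔ Subgroup.zpowers x = ⊤ := by
  apply h.sup_top_of
  intro g
  rw [commutator_def]
  exact Subgroup.commutator_mem_commutator (Subgroup.mem_top g) (Subgroup.mem_top x)

theorem Ctx.not_comm (h : Ctx x p) : ¬ IsMulCommutative ↥(commutator G) := by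
  intro hc
  have h1 : IsPGroup p (commutator G) := h.isPGroup_of_comm _ hc
  have h2 : IsPGroup p (Subgroup.zpowers x) := by
    rw [IsPGroup.iff_card, Nat.card_zpowers, h.hx]
    exact ⟨1, (pow_one p).symm⟩
  have h3 := IsPGroup.to_sup_of_normal_left h1 h2
  rw [h.sup_comm_top] at h3
  have h4 : IsPGroup p G := h3.of_equiv Subgroup.topEquiv
  have hxne : x ≠ 1 := h.x_ne
  haveI : Nontrivial G := ⟨⟨x, 1, hxne⟩⟩
  have h5 := h4.center_nontrivial
  have h6 : Subgroup.center G = ⊥ := h.center_bot
  rw [h6] at h5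
  exact not_nontrivial _ h5

/-- The derived subgroup is simple. -/
theorem Ctx.simple (h : Ctx x p) : IsSimpleGroup ↥(commutator G) := by
  classical
  set D := commutator G with hD
  haveI hDn : D.Normal := inferInstance
  have hnt : Nontrivial D := by
    by_contra hnt
    rw [not_nontrivial_iff_subsingleton] at hnt
    exact h.not_comm ⟨⟨fun a b => Subsingleton.elim _ _⟩⟩
  have key : ∀ n : ℕ, ∀ T : Subgroup D, Nat.card T = n → T.Normal → T ≠ ⊥ → T = ⊤ := by
    intro n
    induction n using Nat.strong_induction_on with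
    | _ n ih =>
      intro T hTc hTn hTb
      by_cases hmin : ∃ U : Subgroup D, U < T ∧ U.Normal ∧ U ≠ ⊥
      · obtain ⟨U, hUT, hUn, hUb⟩ := hmin
        have h1 : Nat.card U < n := by
          rw [← hTc]
          exact Cfsg.Agent.Lib.NormalE.card_lt_of_lt' hUT
        have h2 := ih _ h1 U rfl hUn hUb
        rw [h2] at hUT
        exact top_le_iff.1 hUT.le
      · push Not at hmin
        have hpd : p ∣ Nat.card T := by
          by_contra hd
          exact hTb (eq_bot_of_normal_not_dvd (h.core_sub_bot D) T hTn hd)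
        have hzp : IsPGroup p (Subgroup.zpowers x) := by
          rw [IsPGroup.iff_card, Nat.card_zpowers, h.hx]
          exact ⟨1, (pow_one p).symm⟩
        obtain ⟨S, hS⟩ := hzp.exists_le_sylow
        have hxS : x ∈ (S : Subgroup G) := hS (Subgroup.mem_zpowers x)
        have hSi : ¬ p ∣ (S : Subgroup G).index := S.not_dvd_index
        set R : Subgroup D := (S : Subgroup G).subgroupOf D with hR
        have hRi : ¬ p ∣ R.index := fun hd =>
          hSi (hd.trans (relIndex_dvd_index_of_normal_right (S : Subgroup G) D))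
        have hRT : ¬ p ∣ R.relIndex T := fun hd =>
          hRi (hd.trans (relIndex_dvd_index_of_normal_right R T))
        have hex : ∃ d ∈ T, d ∈ R ∧ d ≠ 1 := by
          by_contra hno
          push Not at hno
          have hb : R.subgroupOf T = ⊥ := by
            rw [Subgroup.eq_bot_iff_forall]
            rintro ⟨d, hd⟩ hdR
            exact Subtype.ext (hno d hd hdR)
          apply hRT
          rw [Subgroup.relIndex, hb, Subgroup.index_bot]
          exact hpd
        obtain ⟨d, hdT, hdR, hd1⟩ := hex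
        have hdx : (d : G) * x = x * (d : G) :=
          Cfsg.Agent.Lib.Isolated.commute_of_mem_pgroup h.hiso S.isPGroup' hxS hdR
        set c : MulAut D := MulAut.conjNormal x with hc
        have hcd : c d = d := by
          apply Subtype.ext
          rw [hc, MulAut.conjNormal_apply]
          rw [← hdx]
          group
        set T' : Subgroup D := T.map c.toMonoidHom with hT'
        have hT'n : T'.Normal := Subgroup.Normal.map hTn _ c.surjective
        have hU : ¬ (T ⊓ T' < T ∧ (T ⊓ T').Normal ∧ T ⊓ T' ≠ ⊥) := by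
          intro hh
          exact hh.2.2 (hmin _ hh.1 hh.2.1)
        have hUn : (T ⊓ T').Normal := Subgroup.normal_inf_normal _ _
        have hUb : T ⊓ T' ≠ ⊥ := by
          intro hb
          have : d ∈ T ⊓ T' := ⟨hdT, ⟨d, hdT, hcd⟩⟩
          rw [hb] at this
          exact hd1 (Subgroup.mem_bot.1 this)
        have hTT' : T ≤ T' := by
          by_contra hnle
          exact hU ⟨lt_of_le_of_ne inf_le_left (fun e => hnle (inf_eq_left.1 e)), hUn, hUb⟩
        have hcard : Nat.card T' = Nat.card T :=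
          Subgroup.card_map_of_injective (K := T) (f := c.toMonoidHom) c.injective
        have hTeq : T = T' := Subgroup.eq_of_le_of_card_ge hTT' hcard.le
        -- the image in `G` is normal
        set T₁ : Subgroup G := T.map D.subtype with hT₁
        have hconj : ∀ t ∈ T₁, ∀ g ∈ D, g * t * g⁻¹ ∈ T₁ := by
          rintro _ ⟨t, ht, rfl⟩ g hg
          exact ⟨⟨g, hg⟩ * t * (⟨g, hg⟩ : D)⁻¹, hTn.conj_mem t ht _, rfl⟩
        have hconjx : ∀ t ∈ T₁, x * t * x⁻¹ ∈ T₁ := by
          rintro _ ⟨t, ht, rfl⟩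
          have : t ∈ T' := hTT' ht
          have h5 : c t ∈ T' := ⟨t, ht, rfl⟩
          rw [← hTeq] at h5
          refine ⟨c t, h5, ?_⟩
          show ((c t : D) : G) = _
          rw [hc, MulAut.conjNormal_apply]
          rfl
        have hnorm : Subgroup.normalizer (T₁ : Set G) = ⊤ := by
          rw [eq_top_iff, ← h.sup_comm_top]
          refine sup_le ?_ ?_
          · intro g hg
            exact Subgroup.mem_normalizer_fintype (S := (T₁ : Set G)) (fun n hn => hconj n hn g hg)
          · rw [Subgroup.zpowers_le]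
            exact Subgroup.mem_normalizer_fintype (S := (T₁ : Set G)) (fun n hn => hconjx n hn)
        haveI hT₁n : T₁.Normal := Subgroup.normalizer_eq_top_iff.1 hnorm
        have hT₁b : T₁ ≠ ⊥ := by
          intro hb
          exact hTb ((Subgroup.map_eq_bot_iff_of_injective _ (Subgroup.subtype_injective D)).1 hb)
        by_cases hs : T₁ ⊔ Subgroup.zpowers x = ⊤
        · have h7 : D ≤ T₁ := Ctx.comm_le T₁ hs
          rw [eq_top_iff]
          intro t _
          obtain ⟨t', ht', e⟩ := h7 t.2
          have : t' = t := Subtype.ext e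
          rw [← this]
          exact ht'
        · exfalso
          have h8 := h.central_of_sup_ne T₁ hs
          rw [h.center_bot] at h8
          exact hT₁b (le_bot_iff.1 h8)
  refine { exists_pair_ne := hnt.exists_pair_ne, eq_bot_or_eq_top_of_normal := ?_ }
  intro T hT
  by_cases hb : T = ⊥
  · exact Or.inl hb
  · exact Or.inr (key _ T rfl hT hb)

end Cfsg.Agent.Lib.IsoMin
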