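import Cfsg.Agent.Lib.WreathMax

set_option autoImplicit false

namespace Cfsg.Agent.Lib.WreathMaxA

open Equiv Equiv.Perm Cfsg.Agent.Lib.WreathMax

variable {Ω : Type*} [Fintype Ω] [DecidableEq Ω]

/-- The 3-cycle `p → r → q → p`. -/
def cyc (p q r : Ω) : Equiv.Perm Ω := swap p q * swap p r

omit [Fintype Ω] in
theorem cyc_rot (p q r : Ω) (hpq : p ≠ q) (hpr : p ≠ r) (hqr : q ≠ r) : cyc p q r = cyc q r p := by
  ext x
  simp only [cyc, Perm.mul_apply, swap_apply_def]
  grind

omit [Fintype Ω] in
theorem cyc_conj (w : Equiv.Perm Ω) (p q r : Ω) : w * cyc p q r * w⁻¹ = cyc (w p) (w q) (w r) := by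
  simp only [cyc, swap_apply_apply]
  group

theorem cyc_sign (p q r : Ω) (hpq : p ≠ q) (hpr : p ≠ r) : sign (cyc p q r) = 1 := by
  simp [cyc, sign_swap, hpq, hpr]

omit [Fintype Ω] in
theorem cyc_inv (p q r : Ω) : (cyc p q r)⁻¹ = cyc p r q := by
  simp [cyc]

omit [Fintype Ω] in
theorem cyc_mul (p q q' r : Ω) : cyc p q r * (cyc p q' r)⁻¹ = cyc p q q' := by
  simp only [cyc, mul_inv_rev, swap_inv]
  calc swap p q * swap p r * (swap p r * swap p q') = swap p q * (swap p r * swap p r) * swap p q' := by group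
    _ = swap p q * swap p q' := by rw [swap_mul_self, mul_one]

omit [Fintype Ω] in
theorem cyc_split (p q r t : Ω) (hpq : p ≠ q) (hpr : p ≠ r) (hqr : q ≠ r) (htr : t ≠ r) (htp : t ≠ p) (htq : t ≠ q) :
    cyc p q r = cyc t r p * cyc r t q := by
  ext x
  simp only [cyc, Perm.mul_apply, swap_apply_def]
  grind

section Main

variable {a b : ℕ} (f : Ω → Fin b) (hf : ∀ i : Fin b, Nat.card {x : Ω // f x = i} = a)

include hf in
/-- Two distinct points in each block. -/
theorem exists_pair (ha : 2 ≤ a) (i : Fin b) : ∃ x x' : Ω, x ≠ x' ∧ f x = i ∧ f x' = i := by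
  have hlt : 1 < Nat.card {x : Ω // f x = i} := by rw [hf]; omega
  haveI := Finite.one_lt_card_iff_nontrivial.mp hlt
  obtain ⟨⟨x, hx⟩, ⟨x', hx'⟩, hne⟩ := exists_pair_ne {x : Ω // f x = i}
  exact ⟨x, x', fun h => hne (Subtype.ext h), hx, hx'⟩

include hf in
/-- A point of a block off two given points. -/
theorem exists_third (ha : 3 ≤ a) (i : Fin b) (p q : Ω) : ∃ x, f x = i ∧ x ≠ p ∧ x ≠ q := by
  by_contra hcon
  push Not at hcon
  have h1 : Nat.card {x : Ω // f x = i} ≤ 2 := by
    have hsub : Finset.univ.filter (fun x => f x = i) ⊆ ({p, q} : Finset Ω) := by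
      intro x hx
      have hx' := (Finset.mem_filter.mp hx).2
      by_cases hxp : x = p
      · simp [hxp]
      · simp [hcon x hx' hxp]
    have h2 := Finset.card_le_card hsub
    have h3 : ({p, q} : Finset Ω).card ≤ 2 := Finset.card_le_two
    rw [Nat.card_eq_fintype_card, Fintype.card_subtype]
    omega
  rw [hf] at h1
  omega

include hf in
/-- Two points of a block off a given point. -/
theorem exists_pair_off (ha : 3 ≤ a) (i : Fin b) (p : Ω) : ∃ x x', x ≠ x' ∧ f x = i ∧ f x' = i ∧ x ≠ p ∧ x' ≠ p := by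
  obtain ⟨x, hx, hxp, -⟩ := exists_third f hf ha i p p
  obtain ⟨x', hx', hx'p, hx'x⟩ := exists_third f hf ha i p x
  exact ⟨x, x', hx'x.symm, hx, hx', hxp, hx'p⟩

include hf in
/-- Transitivity on triples `(p, q, r)` with `p, q` in a block and `r` outside. -/
theorem exists_move21 (p q r p' q' r' : Ω) (hpq : p ≠ q) (hfpq : f p = f q) (hr : f r ≠ f p)
    (hpq' : p' ≠ q') (hfpq' : f p' = f q') (hr' : f r' ≠ f p') :
    ∃ w ∈ Wr f, w p = p' ∧ w q = q' ∧ w r = r' := by
  obtain ⟨e, he⟩ := exists_equiv f hf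
  obtain ⟨π, h1, h2⟩ := exists_pi (f p) (f r) (f p') (f r') hr.symm hr'.symm
  have hs : (e p).2 ≠ (e q).2 := by
    intro h
    apply hpq
    apply e.injective
    apply Prod.ext
    · rw [he, he, hfpq]
    · exact h
  have hs' : (e p').2 ≠ (e q').2 := by
    intro h
    apply hpq'
    apply e.injective
    apply Prod.ext
    · rw [he, he, hfpq']
    · exact h
  obtain ⟨σ, h3, h4⟩ := exists_pi (e p).2 (e q).2 (e p').2 (e q').2 hs hs'
  let ρ : Fin b → Equiv.Perm (Fin a) := fun k =>
    if k = f p then σ else if k = f r then swap (e r).2 (e r').2 else 1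
  let W : Fin b × Fin a ≃ Fin b × Fin a := Equiv.prodShear π ρ
  have hW : ∀ x, W x = (π x.1, ρ x.1 x.2) := fun x => rfl
  let w : Equiv.Perm Ω := e.trans (W.trans e.symm)
  have hw : ∀ x, e (w x) = W (e x) := by
    intro x
    simp [w]
  have hfw : ∀ x, f (w x) = π (f x) := by
    intro x
    rw [← he (w x), hw, hW, he]
  refine ⟨w, ?_, ?_, ?_, ?_⟩
  · intro x y
    rw [hfw, hfw]
    exact π.injective.eq_iff.symm
  · apply e.injective
    rw [hw, hW]
    apply Prod.ext
    · simp only [he, h1]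
    · simp only [he, ρ, if_true, h3]
  · apply e.injective
    rw [hw, hW]
    apply Prod.ext
    · simp only [he, ← hfpq, h1, hfpq']
    · simp only [he, ρ, ← hfpq, if_true, h4]
  · apply e.injective
    rw [hw, hW]
    apply Prod.ext
    · simp only [he, h2]
    · simp only [he, ρ, if_neg hr, if_true, swap_apply_left]

include hf in
/-- An in-block swap off a triple of type (2,1). -/
theorem exists_free (ha2 : 2 ≤ a) (hfree : 3 ≤ a ∨ 3 ≤ b) (p' q' r' : Ω) (hfpq' : f p' = f q') (hr' : f r' ≠ f p') :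
    ∃ u v, u ≠ v ∧ f u = f v ∧ u ≠ p' ∧ u ≠ q' ∧ u ≠ r' ∧ v ≠ p' ∧ v ≠ q' ∧ v ≠ r' := by
  rcases hfree with h3 | h3
  · obtain ⟨x, x', hxx, h1, h2, h4, h5⟩ := exists_pair_off f hf h3 (f r') r'
    refine ⟨x, x', hxx, h1.trans h2.symm, ?_, ?_, h4, ?_, ?_, h5⟩
    · rintro rfl; exact hr' h1.symm
    · rintro rfl; rw [hfpq'] at hr'; exact hr' h1.symm
    · rintro rfl; exact hr' h2.symm
    · rintro rfl; rw [hfpq'] at hr'; exact hr' h2.symm
  · -- a third block
    obtain ⟨k, hk1, hk2⟩ : ∃ k : Fin b, k ≠ f p' ∧ k ≠ f r' := by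
      by_contra hcon
      push Not at hcon
      have hsub : (Finset.univ : Finset (Fin b)) ⊆ {f p', f r'} := by
        intro k _
        by_cases h : k = f p'
        · simp [h]
        · simp [hcon k h]
      have h2 := Finset.card_le_card hsub
      rw [Finset.card_univ, Fintype.card_fin] at h2
      have h4 : ({f p', f r'} : Finset (Fin b)).card ≤ 2 := Finset.card_le_two
      omega
    obtain ⟨x, x', hxx, h1, h2⟩ := exists_pair f hf ha2 k
    refine ⟨x, x', hxx, h1.trans h2.symm, ?_, ?_, ?_, ?_, ?_, ?_⟩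
    · rintro rfl; exact hk1 h1.symm
    · rintro rfl; exact hk1 (h1.symm.trans hfpq'.symm)
    · rintro rfl; exact hk2 h1.symm
    · rintro rfl; exact hk1 h2.symm
    · rintro rfl; exact hk1 (h2.symm.trans hfpq'.symm)
    · rintro rfl; exact hk2 h2.symm

include hf in
/-- All type (2,1) three-cycles from one. -/
theorem ty21_all (ha2 : 2 ≤ a) (hfree : 3 ≤ a ∨ 3 ≤ b) (M : Subgroup (Equiv.Perm Ω))
    (hN : Wr f ⊓ alternatingGroup Ω ≤ M)
    (p q r : Ω) (hpq : p ≠ q) (hfpq : f p = f q) (hr : f r ≠ f p) (hM : cyc p q r ∈ M)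
    (p' q' r' : Ω) (hpq' : p' ≠ q') (hfpq' : f p' = f q') (hr' : f r' ≠ f p') :
    cyc p' q' r' ∈ M := by
  obtain ⟨w, hw, h1, h2, h3⟩ := exists_move21 f hf p q r p' q' r' hpq hfpq hr hpq' hfpq' hr'
  obtain ⟨u, v, huv, hfuv, hu1, hu2, hu3, hv1, hv2, hv3⟩ := exists_free f hf ha2 hfree p' q' r' hfpq' hr'
  -- make w even
  obtain ⟨w', hw', he', h1', h2', h3'⟩ : ∃ w' ∈ Wr f, sign w' = 1 ∧ w' p = p' ∧ w' q = q' ∧ w' r = r' := by
    rcases Int.units_eq_one_or (sign w) with hs | hs
    · exact ⟨w, hw, hs, h1, h2, h3⟩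
    · refine ⟨swap u v * w, (Wr f).mul_mem (swap_mem_Wr f u v hfuv) hw, ?_, ?_, ?_, ?_⟩
      · rw [map_mul, hs, sign_swap huv]
        rfl
      · rw [Perm.mul_apply, h1]
        exact swap_apply_of_ne_of_ne hu1.symm hv1.symm
      · rw [Perm.mul_apply, h2]
        exact swap_apply_of_ne_of_ne hu2.symm hv2.symm
      · rw [Perm.mul_apply, h3]
        exact swap_apply_of_ne_of_ne hu3.symm hv3.symm
  have hwM : w' ∈ M := hN ⟨hw', he'⟩
  have := M.mul_mem (M.mul_mem hwM hM) (M.inv_mem hwM)
  rwa [cyc_conj, h1', h2', h3'] at this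

include hf in
/-- All 3-cycles from the type (2,1) ones. -/
theorem all_cyc (ha2 : 2 ≤ a) (M : Subgroup (Equiv.Perm Ω))
    (hN : Wr f ⊓ alternatingGroup Ω ≤ M)
    (hall : ∀ p q r : Ω, p ≠ q → f p = f q → f r ≠ f p → cyc p q r ∈ M)
    (p q r : Ω) (hpq : p ≠ q) (hpr : p ≠ r) (hqr : q ≠ r) : cyc p q r ∈ M := by
  by_cases h1 : f p = f q
  · by_cases h2 : f r = f p
    · -- in block
      apply hN
      refine ⟨(Wr f).mul_mem (swap_mem_Wr f p q h1) (swap_mem_Wr f p r h2.symm), cyc_sign p q r hpq hpr⟩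
    · exact hall p q r hpq h1 h2
  · by_cases h2 : f r = f p
    · rw [cyc_rot p q r hpq hpr hqr, cyc_rot q r p hqr hpq.symm hpr.symm]
      exact hall r p q hpr.symm h2 (fun h => h1 (Eq.symm (h.trans h2)))
    · by_cases h3 : f r = f q
      · rw [cyc_rot p q r hpq hpr hqr]
        exact hall q r p hqr h3.symm h1
      · -- three blocks
        obtain ⟨t, t', htt, ht, ht'⟩ := exists_pair f hf ha2 (f r)
        obtain ⟨s, hsr, hfs⟩ : ∃ s, s ≠ r ∧ f s = f r := by
          by_cases htr : t = r
          · exact ⟨t', fun h => htt (htr.trans h.symm), ht'⟩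
          · exact ⟨t, htr, ht⟩
        have hsp : s ≠ p := fun h => h2 (by rw [← hfs, h])
        have hsq : s ≠ q := fun h => h3 (by rw [← hfs, h])
        rw [cyc_split p q r s hpq hpr hqr hsr hsp hsq]
        refine M.mul_mem (hall s r p hsr hfs ?_) (hall r s q hsr.symm hfs.symm ?_)
        · rw [hfs]
          exact fun h => h2 h.symm
        · exact fun h => h3 h.symm

omit [Fintype Ω] in
theorem three_cycle_form [Fintype Ω] (σ : Equiv.Perm Ω) (hσ : σ.IsThreeCycle) :
    ∃ p q r : Ω, p ≠ q ∧ p ≠ r ∧ q ≠ r ∧ σ = cyc p q r := by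
  have hne : σ.support.Nonempty := by
    rw [← Finset.card_pos, hσ.card_support]
    norm_num
  obtain ⟨a₀, ha₀⟩ := hne
  have h1 := (hσ.eq_swap_mul_swap_iff_mem_support (a := a₀)).mpr ha₀
  have h2 := (hσ.nodup_iff_mem_support (a := a₀)).mpr ha₀
  simp only [List.nodup_cons, List.mem_cons, List.not_mem_nil, or_false, not_or, List.nodup_nil,
    and_true, not_false_eq_true] at h2
  obtain ⟨⟨h3, h4⟩, h5⟩ := h2
  refine ⟨σ a₀, a₀, σ (σ a₀), Ne.symm h3, h5, h4, ?_⟩
  rw [cyc, swap_comm (σ a₀) a₀]
  exact h1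

theorem alternating_le (M : Subgroup (Equiv.Perm Ω))
    (h : ∀ p q r : Ω, p ≠ q → p ≠ r → q ≠ r → cyc p q r ∈ M) : alternatingGroup Ω ≤ M := by
  rw [← Equiv.Perm.closure_three_cycles_eq_alternating, Subgroup.closure_le]
  intro σ hσ
  obtain ⟨p, q, r, h1, h2, h3, rfl⟩ := three_cycle_form σ hσ
  exact h p q r h1 h2 h3

include hf in
/-- From an element not preserving the blocks, with `3 ≤ a`. -/
theorem getTy21_a3 (ha : 3 ≤ a) (M : Subgroup (Equiv.Perm Ω))
    (hN : Wr f ⊓ alternatingGroup Ω ≤ M) (h : Equiv.Perm Ω) (hh : h ∈ M) (x y : Ω)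
    (hxy : f x = f y) (hne : f (h x) ≠ f (h y)) :
    ∃ p q r, p ≠ q ∧ f p = f q ∧ f r ≠ f p ∧ cyc p q r ∈ M := by
  have hxy' : x ≠ y := by
    rintro rfl
    exact hne rfl
  obtain ⟨z, hz, hzx, hzy⟩ := exists_third f hf ha (f x) x y
  have hc : cyc x y z ∈ M := by
    apply hN
    exact ⟨(Wr f).mul_mem (swap_mem_Wr f x y hxy) (swap_mem_Wr f x z hz.symm), cyc_sign x y z hxy' hzx.symm⟩
  have hc2 := M.mul_mem (M.mul_mem hh hc) (M.inv_mem hh)
  rw [cyc_conj] at hc2
  set P := h x with hP
  set Q := h y with hQ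
  set R := h z with hR
  have hPQ : P ≠ Q := fun e => hne (by rw [e])
  have hPR : P ≠ R := fun e => hzx (h.injective e).symm
  have hQR : Q ≠ R := fun e => hzy (h.injective e).symm
  by_cases h1 : f R = f P
  · refine ⟨R, P, Q, hPR.symm, h1, ?_, ?_⟩
    · rw [h1]; exact Ne.symm hne
    · rw [← cyc_rot Q R P hQR hPQ.symm hPR.symm, ← cyc_rot P Q R hPQ hPR hQR]
      exact hc2
  · by_cases h2 : f R = f Q
    · refine ⟨Q, R, P, hQR, h2.symm, hne, ?_⟩
      rw [← cyc_rot P Q R hPQ hPR hQR]
      exact hc2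
    · -- three blocks: move Q within its block
      obtain ⟨Q', hQ', hQ'Q, -⟩ := exists_third f hf ha (f Q) Q Q
      obtain ⟨Q'', hQ'', hQ''Q, hQ''Q'⟩ := exists_third f hf ha (f Q) Q Q'
      -- the in-block cycle Q → Q' → Q'' → Q
      have hw : cyc Q Q'' Q' ∈ M := by
        apply hN
        exact ⟨(Wr f).mul_mem (swap_mem_Wr f Q Q'' hQ''.symm) (swap_mem_Wr f Q Q' hQ'.symm),
          cyc_sign Q Q'' Q' hQ''Q.symm hQ'Q.symm⟩
      have hconj := M.mul_mem (M.mul_mem hw hc2) (M.inv_mem hw)
      rw [cyc_conj] at hconj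
      have hwP : cyc Q Q'' Q' P = P := by
        have h3 : P ≠ Q := hPQ
        have h4 : P ≠ Q'' := fun e => hne (by rw [e]; exact hQ'')
        have h5 : P ≠ Q' := fun e => hne (by rw [e]; exact hQ')
        simp only [cyc, Perm.mul_apply]
        rw [swap_apply_of_ne_of_ne h3 h5, swap_apply_of_ne_of_ne h3 h4]
      have hwR : cyc Q Q'' Q' R = R := by
        have h3 : R ≠ Q := hQR.symm
        have h4 : R ≠ Q'' := fun e => h2 (by rw [e, hQ''])
        have h5 : R ≠ Q' := fun e => h2 (by rw [e, hQ'])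
        simp only [cyc, Perm.mul_apply]
        rw [swap_apply_of_ne_of_ne h3 h5, swap_apply_of_ne_of_ne h3 h4]
      have hwQ : cyc Q Q'' Q' Q = Q' := by
        simp only [cyc, Perm.mul_apply, swap_apply_left]
        exact swap_apply_of_ne_of_ne hQ'Q hQ''Q'.symm
      rw [hwP, hwQ, hwR] at hconj
      have h6 := M.mul_mem hc2 (M.inv_mem hconj)
      rw [cyc_mul] at h6
      have hPQ' : P ≠ Q' := fun e => hne (by rw [e]; exact hQ')
      refine ⟨Q, Q', P, hQ'Q.symm, hQ'.symm, hne, ?_⟩
      rw [← cyc_rot P Q Q' hPQ hPQ' hQ'Q.symm]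
      exact h6

include hf in
/-- From an element not preserving the blocks, with `5 ≤ b`. -/
theorem getTy21_b5 (ha2 : 2 ≤ a) (hb : 5 ≤ b) (M : Subgroup (Equiv.Perm Ω))
    (hN : Wr f ⊓ alternatingGroup Ω ≤ M) (h : Equiv.Perm Ω) (hh : h ∈ M) (x y : Ω)
    (hxy : f x = f y) (hne : f (h x) ≠ f (h y)) :
    ∃ p q r, p ≠ q ∧ f p = f q ∧ f r ≠ f p ∧ cyc p q r ∈ M := by
  have hxy' : x ≠ y := by
    rintro rfl
    exact hne rfl
  -- a helper: avoid up to four labels
  have havoid : ∀ s : Finset (Fin b), s.card ≤ 4 → ∃ k, k ∉ s := by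
    intro s hs
    by_contra hcon
    push Not at hcon
    have : s = Finset.univ := Finset.eq_univ_of_forall hcon
    rw [this, Finset.card_univ, Fintype.card_fin] at hs
    omega
  set u := h x with hu
  set v := h y with hv
  have huv : u ≠ v := fun e => hne (by rw [e])
  -- partner of u
  obtain ⟨t₁, t₂, ht, ht₁, ht₂⟩ := exists_pair f hf ha2 (f u)
  obtain ⟨ub, hubu, hub⟩ : ∃ ub, ub ≠ u ∧ f ub = f u := by
    by_cases h0 : t₁ = u
    · exact ⟨t₂, fun e => ht (h0.trans e.symm), ht₂⟩
    · exact ⟨t₁, h0, ht₁⟩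
  have hubv : ub ≠ v := fun e => hne (by rw [← hub, e])
  set z := h⁻¹ ub with hz
  have hhz : h z = ub := by simp [hz]
  -- a pair in another block
  obtain ⟨k, hk⟩ := havoid {f x, f z} (Finset.card_le_two.trans (by norm_num))
  have hk1 : k ≠ f x := fun e => hk (by simp [e])
  have hk2 : k ≠ f z := fun e => hk (by simp [e])
  obtain ⟨w, wb, hwwb, hw, hwb⟩ := exists_pair f hf ha2 k
  have hc : swap x y * swap w wb ∈ M := by
    apply hN
    refine ⟨(Wr f).mul_mem (swap_mem_Wr f x y hxy) (swap_mem_Wr f w wb (hw.trans hwb.symm)), ?_⟩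
    simp [sign_swap, hxy', hwwb]
  have hs := M.mul_mem (M.mul_mem hh hc) (M.inv_mem hh)
  have hs_eq : h * (swap x y * swap w wb) * h⁻¹ = swap u v * swap (h w) (h wb) := by
    rw [hu, hv, swap_apply_apply, swap_apply_apply]
    group
  rw [hs_eq] at hs
  set u' := h w with hu'
  set v' := h wb with hv'
  have hne1 : w ≠ x := fun e => hk1 (by rw [← hw, e])
  have hne2 : w ≠ y := fun e => hk1 (by rw [← hw, e, hxy])
  have hne3 : w ≠ z := fun e => hk2 (by rw [← hw, e])
  have hne4 : wb ≠ x := fun e => hk1 (by rw [← hwb, e])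
  have hne5 : wb ≠ y := fun e => hk1 (by rw [← hwb, e, hxy])
  have hne6 : wb ≠ z := fun e => hk2 (by rw [← hwb, e])
  have h1 : u' ≠ u := fun e => hne1 (h.injective e)
  have h2 : u' ≠ v := fun e => hne2 (h.injective e)
  have h3 : u' ≠ ub := fun e => hne3 (h.injective (e.trans hhz.symm))
  have h4 : v' ≠ u := fun e => hne4 (h.injective e)
  have h5 : v' ≠ v := fun e => hne5 (h.injective e)
  have h6 : v' ≠ ub := fun e => hne6 (h.injective (e.trans hhz.symm))
  -- a second block pair
  obtain ⟨l, hl⟩ := havoid {f u, f v, f u', f v'} Finset.card_le_four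
  have hl1 : l ≠ f u := fun e => hl (by simp [e])
  have hl2 : l ≠ f v := fun e => hl (by simp [e])
  have hl3 : l ≠ f u' := fun e => hl (by simp [e])
  have hl4 : l ≠ f v' := fun e => hl (by simp [e])
  obtain ⟨r, rb, hrrb, hr, hrb⟩ := exists_pair f hf ha2 l
  have hτ : swap u ub * swap r rb ∈ M := by
    apply hN
    refine ⟨(Wr f).mul_mem (swap_mem_Wr f u ub hub.symm) (swap_mem_Wr f r rb (hr.trans hrb.symm)), ?_⟩
    simp [sign_swap, hubu.symm, hrrb]
  -- values of τ
  set τ := swap u ub * swap r rb with hτdef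
  have hfix : ∀ q, q ≠ u → q ≠ ub → f q ≠ l → τ q = q := by
    intro q hq1 hq2 hq3
    simp only [hτdef, Perm.mul_apply]
    have hq4 : q ≠ r := fun e => hq3 (by rw [e, hr])
    have hq5 : q ≠ rb := fun e => hq3 (by rw [e, hrb])
    rw [swap_apply_of_ne_of_ne hq4 hq5, swap_apply_of_ne_of_ne hq1 hq2]
  have hτu : τ u = ub := by
    simp only [hτdef, Perm.mul_apply]
    have hq4 : u ≠ r := fun e => hl1 (by rw [← hr, e])
    have hq5 : u ≠ rb := fun e => hl1 (by rw [← hrb, e])
    rw [swap_apply_of_ne_of_ne hq4 hq5, swap_apply_left]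
  have hconj : τ * (swap u v * swap u' v') * τ⁻¹ = swap ub v * swap u' v' := by
    have e1 : τ * (swap u v * swap u' v') * τ⁻¹ = (τ * swap u v * τ⁻¹) * (τ * swap u' v' * τ⁻¹) := by group
    rw [e1, ← swap_apply_apply, ← swap_apply_apply, hτu, hfix v huv.symm hubv.symm (fun e => hl2 e.symm),
      hfix u' h1 h3 (fun e => hl3 e.symm), hfix v' h4 h6 (fun e => hl4 e.symm)]
  have hs2 := M.mul_mem (M.mul_mem hτ hs) (M.inv_mem hτ)
  rw [hconj] at hs2
  have hprod := M.mul_mem hs hs2
  have hdisj : Equiv.Perm.Disjoint (swap u' v') (swap ub v) := by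
    intro q
    by_cases hq1 : q = u'
    · right
      subst hq1
      exact swap_apply_of_ne_of_ne h3 h2
    · by_cases hq2 : q = v'
      · right
        subst hq2
        exact swap_apply_of_ne_of_ne h6 h5
      · left
        exact swap_apply_of_ne_of_ne hq1 hq2
  have hcomm : swap u' v' * swap ub v = swap ub v * swap u' v' := hdisj.commute
  have hval : swap u v * swap u' v' * (swap ub v * swap u' v') = swap u v * swap ub v := by
    calc swap u v * swap u' v' * (swap ub v * swap u' v')
        = swap u v * (swap u' v' * swap ub v) * swap u' v' := by group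
      _ = swap u v * (swap ub v * swap u' v') * swap u' v' := by rw [hcomm]
      _ = swap u v * swap ub v * (swap u' v' * swap u' v') := by group
      _ = swap u v * swap ub v := by rw [swap_mul_self, mul_one]
  rw [hval] at hprod
  refine ⟨u, ub, v, hubu.symm, hub.symm, Ne.symm hne, ?_⟩
  have hform : swap u v * swap ub v = cyc v u ub := by
    rw [cyc, swap_comm u v, swap_comm ub v]
  rw [← cyc_rot v u ub huv.symm hubv.symm hubu.symm, ← hform]
  exact hprod

include hf in
/-- The order of the wreath product. -/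
theorem card_Wr (ha : 1 ≤ a) : Nat.card (Wr f) = b.factorial * a.factorial ^ b := by
  classical
  obtain ⟨e, he⟩ := exists_equiv f hf
  have hemem : ∀ (π : Equiv.Perm (Fin b)) (ρ : Fin b → Equiv.Perm (Fin a)),
      e.trans ((Equiv.prodShear π ρ).trans e.symm) ∈ Wr f := by
    intro π ρ x y
    have hfw : ∀ x, f ((e.trans ((Equiv.prodShear π ρ).trans e.symm)) x) = π (f x) := by
      intro x
      rw [← he]
      simp [he]
    rw [hfw, hfw]
    exact π.injective.eq_iff.symm
  let Φ : Equiv.Perm (Fin b) × (Fin b → Equiv.Perm (Fin a)) → Wr f :=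
    fun p => ⟨e.trans ((Equiv.prodShear p.1 p.2).trans e.symm), hemem _ _⟩
  let r₀ : Fin a := ⟨0, by omega⟩
  have hinj : Function.Injective Φ := by
    rintro ⟨π, ρ⟩ ⟨π', ρ'⟩ h
    have h1 : ∀ p : Fin b × Fin a, (Equiv.prodShear π ρ) p = (Equiv.prodShear π' ρ') p := by
      intro p
      have h2 := congrArg (fun w : Wr f => (w : Equiv.Perm Ω) (e.symm p)) h
      simp only [Φ, Equiv.trans_apply, Equiv.apply_symm_apply] at h2
      exact e.symm.injective h2
    have hπ : π = π' := by
      ext k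
      exact congrArg (fun q => (q.1 : ℕ)) (h1 (k, r₀))
    have hρ : ρ = ρ' := by
      funext k
      ext r
      exact congrArg (fun q => (q.2 : ℕ)) (h1 (k, r))
    rw [hπ, hρ]
  have hsurj : Function.Surjective Φ := by
    rintro ⟨g, hg⟩
    have hfsymm : ∀ p, f (e.symm p) = p.1 := by
      intro p
      rw [← he, Equiv.apply_symm_apply]
    let π₀ : Fin b → Fin b := fun k => f (g (e.symm (k, r₀)))
    have hπ₀ : Function.Injective π₀ := by
      intro k k' h
      have h2 := (hg _ _).mpr h
      rwa [hfsymm, hfsymm] at h2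
    let ρ₀ : Fin b → Fin a → Fin a := fun k r => (e (g (e.symm (k, r)))).2
    have hρ₀ : ∀ k, Function.Injective (ρ₀ k) := by
      intro k r r' h
      have h2 : f (g (e.symm (k, r))) = f (g (e.symm (k, r'))) := by
        apply (hg _ _).mp
        rw [hfsymm, hfsymm]
      have h3 : e (g (e.symm (k, r))) = e (g (e.symm (k, r'))) := by
        apply Prod.ext
        · rw [he, he, h2]
        · exact h
      have h4 := e.symm.injective (g.injective (e.injective h3))
      exact congrArg Prod.snd h4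
    let π : Equiv.Perm (Fin b) := Equiv.ofBijective π₀ (Finite.injective_iff_bijective.mp hπ₀)
    let ρ : Fin b → Equiv.Perm (Fin a) := fun k =>
      Equiv.ofBijective (ρ₀ k) (Finite.injective_iff_bijective.mp (hρ₀ k))
    refine ⟨(π, ρ), Subtype.ext ?_⟩
    ext x
    change e.symm (Equiv.prodShear π ρ (e x)) = g x
    apply e.injective
    rw [Equiv.apply_symm_apply]
    have hx : e.symm (e x) = x := e.symm_apply_apply x
    apply Prod.ext
    · change π₀ (e x).1 = (e (g x)).1
      rw [he, he]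
      simp only [π₀]
      apply (hg _ _).mp
      rw [hfsymm]
    · change ρ₀ (e x).1 (e x).2 = (e (g x)).2
      simp only [ρ₀]
      rw [Prod.mk.eta, hx]
  rw [← Nat.card_congr (Equiv.ofBijective Φ ⟨hinj, hsurj⟩), Nat.card_prod, Nat.card_perm, Nat.card_fin,
    Nat.card_fun, Nat.card_perm, Nat.card_fin, Nat.card_fin]

end Main

/-- A proper subgroup of a finite simple group: the order divides the factorial of the index. -/
theorem simple_card_dvd {G : Type*} [Group G] [Finite G] [IsSimpleGroup G] (H : Subgroup G) (hH : H ≠ ⊤) :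
    Nat.card G ∣ H.index.factorial := by
  have hker : (MulAction.toPermHom G (G ⧸ H)).ker = ⊥ := by
    rw [← Subgroup.normalCore_eq_ker]
    rcases (Subgroup.normalCore_normal H).eq_bot_or_eq_top with h | h
    · exact h
    · exfalso
      apply hH
      rw [eq_top_iff, ← h]
      exact Subgroup.normalCore_le H
  have hinj : Function.Injective (MulAction.toPermHom G (G ⧸ H)) := (MonoidHom.ker_eq_bot_iff _).mp hker
  have := Subgroup.card_dvd_of_injective _ hinj
  rwa [Nat.card_perm, ← Subgroup.index_eq_card] at this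

/-- Main: the even part of the wreath product is maximal in the alternating group, degree not 8. -/
theorem main5909 (h8 : Fintype.card Ω ≠ 8) (a b : ℕ) (ha : 2 ≤ a) (hb : 2 ≤ b)
    (f : Ω → Fin b) (hf : ∀ i : Fin b, Nat.card {x : Ω // f x = i} = a) :
    IsCoatom ((Wr f ⊓ alternatingGroup Ω).subgroupOf (alternatingGroup Ω)) := by
  classical
  obtain ⟨e, he⟩ := exists_equiv f hf
  have hcardΩ : Fintype.card Ω = b * a := by
    rw [Fintype.card_congr e, Fintype.card_prod, Fintype.card_fin, Fintype.card_fin]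
  haveI : Nontrivial (Fin b) := Fin.nontrivial_iff_two_le.mpr hb
  haveI : Nontrivial Ω := Fintype.one_lt_card_iff_nontrivial.mp (by rw [hcardΩ]; nlinarith)
  constructor
  · -- proper
    obtain ⟨i, j, hij⟩ := exists_pair_ne (Fin b)
    obtain ⟨x, x', hxx, hx, hx'⟩ := exists_pair f hf ha i
    obtain ⟨y, _, _, hy, _⟩ := exists_pair f hf ha j
    have hxy : x ≠ y := by
      rintro rfl
      exact hij (hx.symm.trans hy)
    have hx'y : x' ≠ y := by
      rintro rfl
      exact hij (hx'.symm.trans hy)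
    intro htop
    have hmem : (⟨cyc x x' y, cyc_sign x x' y hxx hxy⟩ : alternatingGroup Ω) ∈
        (Wr f ⊓ alternatingGroup Ω).subgroupOf (alternatingGroup Ω) := by
      rw [htop]; trivial
    have hW : cyc x x' y ∈ Wr f := hmem.1
    have h1 := (hW x x').mp (by rw [hx, hx'])
    have h2 : cyc x x' y x = y := by
      simp only [cyc, Perm.mul_apply, swap_apply_left]
      exact swap_apply_of_ne_of_ne hxy.symm hx'y.symm
    have h3 : cyc x x' y x' = x := by
      simp only [cyc, Perm.mul_apply]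
      rw [swap_apply_of_ne_of_ne hxx.symm hx'y, swap_apply_right]
    rw [h2, h3, hy, hx] at h1
    exact hij h1.symm
  · intro M' hlt
    by_cases hel : 3 ≤ a ∨ 5 ≤ b
    · -- elementary argument
      let M : Subgroup (Equiv.Perm Ω) := M'.map (alternatingGroup Ω).subtype
      have hN : Wr f ⊓ alternatingGroup Ω ≤ M := by
        intro g hg
        refine ⟨⟨g, hg.2⟩, hlt.le ?_, rfl⟩
        exact hg
      obtain ⟨g, hgM', hgN⟩ := SetLike.exists_of_lt hlt
      have hgW : (g : Equiv.Perm Ω) ∉ Wr f := fun h => hgN ⟨h, g.2⟩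
      have hgM : (g : Equiv.Perm Ω) ∈ M := ⟨g, hgM', rfl⟩
      obtain ⟨h, hh, x, y, hxy, hne⟩ : ∃ h ∈ M, ∃ x y, f x = f y ∧ f (h x) ≠ f (h y) := by
        have h1 : ¬ ∀ x y, f x = f y ↔ f ((g : Equiv.Perm Ω) x) = f ((g : Equiv.Perm Ω) y) := hgW
        push Not at h1
        obtain ⟨x, y, hxy⟩ := h1
        rcases hxy with ⟨h2, h3⟩ | ⟨h2, h3⟩
        · exact ⟨g, hgM, x, y, h2, h3⟩
        · refine ⟨(g : Equiv.Perm Ω)⁻¹, M.inv_mem hgM, (g : Equiv.Perm Ω) x, (g : Equiv.Perm Ω) y, h3, ?_⟩
          simpa using h2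
      obtain ⟨p, q, r, hpq, hfpq, hr, hM⟩ : ∃ p q r, p ≠ q ∧ f p = f q ∧ f r ≠ f p ∧ cyc p q r ∈ M := by
        rcases hel with h3 | h5
        · exact getTy21_a3 f hf h3 M hN h hh x y hxy hne
        · exact getTy21_b5 f hf ha h5 M hN h hh x y hxy hne
      have hfree : 3 ≤ a ∨ 3 ≤ b := by
        rcases hel with h3 | h5
        · exact Or.inl h3
        · exact Or.inr (by omega)
      have hall := ty21_all f hf ha hfree M hN p q r hpq hfpq hr hM
      have hA := alternating_le M (all_cyc f hf ha M hN hall)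
      rw [eq_top_iff]
      intro z _
      obtain ⟨z', hz', hz''⟩ := hA z.2
      have : z' = z := Subtype.ext hz''
      rwa [← this]
    · -- small cases: index computation
      push Not at hel
      have ha2 : a = 2 := by omega
      subst ha2
      have hb23 : b = 2 ∨ b = 3 := by
        have : b ≠ 4 := by
          rintro rfl
          exact h8 hcardΩ
        omega
      have hWcard := card_Wr f hf (by omega)
      -- the order of the even part
      have hrel : (alternatingGroup Ω).relIndex (Wr f) = 2 := by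
        have h1 : (alternatingGroup Ω).relIndex (Wr f) ∣ (alternatingGroup Ω).index :=
          Subgroup.relIndex_dvd_index_of_normal _ _
        rw [alternatingGroup.index_eq_two] at h1
        have h2 : (alternatingGroup Ω).relIndex (Wr f) ≠ 1 := by
          intro h3
          have h4 := Subgroup.relIndex_eq_one.mp h3
          obtain ⟨i, j, hij⟩ := exists_pair_ne (Fin b)
          obtain ⟨x, x', hxx, hx, hx'⟩ := exists_pair f hf ha i
          have h5 : swap x x' ∈ alternatingGroup Ω := h4 (swap_mem_Wr f x x' (hx.trans hx'.symm))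
          have h6 : sign (swap x x') = 1 := h5
          rw [sign_swap hxx] at h6
          exact absurd h6 (by decide)
        rcases (Nat.dvd_prime Nat.prime_two).mp h1 with h3 | h3
        · exact absurd h3 h2
        · exact h3
      have hNcard : Nat.card ↥(Wr f ⊓ alternatingGroup Ω) * 2 = Nat.card (Wr f) := by
        have h1 := Subgroup.relIndex_mul_relIndex (⊥ : Subgroup (Equiv.Perm Ω)) (alternatingGroup Ω ⊓ Wr f) (Wr f)
          bot_le inf_le_right
        rw [Subgroup.relIndex_bot_left, Subgroup.relIndex_bot_left, Subgroup.inf_relIndex_right, hrel] at h1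
        rw [inf_comm]
        exact h1
      have hN'card : Nat.card ((Wr f ⊓ alternatingGroup Ω).subgroupOf (alternatingGroup Ω)) =
          Nat.card ↥(Wr f ⊓ alternatingGroup Ω) :=
        Nat.card_congr (Subgroup.subgroupOfEquivOfLe inf_le_right).toEquiv
      have hAcard : 2 * Nat.card (alternatingGroup Ω) = (b * 2).factorial := by
        rw [two_mul_nat_card_alternatingGroup, Nat.card_perm, Nat.card_eq_fintype_card, hcardΩ]
      have hidx := ((Wr f ⊓ alternatingGroup Ω).subgroupOf (alternatingGroup Ω)).card_mul_index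
      rw [hN'card] at hidx
      have hdvd := Subgroup.index_dvd_of_le hlt.le
      have hne : M'.index ≠ ((Wr f ⊓ alternatingGroup Ω).subgroupOf (alternatingGroup Ω)).index := by
        intro heq
        have hc := M'.card_mul_index
        have hc2 := ((Wr f ⊓ alternatingGroup Ω).subgroupOf (alternatingGroup Ω)).card_mul_index
        rw [heq] at hc
        have hipos : 0 < ((Wr f ⊓ alternatingGroup Ω).subgroupOf (alternatingGroup Ω)).index :=
          Nat.pos_of_ne_zero Subgroup.index_ne_zero_of_finite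
        have h3 := Nat.eq_of_mul_eq_mul_right hipos (hc.trans hc2.symm)
        have h4 := Subgroup.eq_of_le_of_card_ge hlt.le h3.le
        exact hlt.ne h4
      rcases hb23 with rfl | rfl
      · have hv : Nat.card (Wr f) = 8 := by rw [hWcard]; rfl
        have hv2 : Nat.card ↥(Wr f ⊓ alternatingGroup Ω) = 4 := by omega
        have hv3 : Nat.card (alternatingGroup Ω) = 12 := by
          have : (2 * 2).factorial = 24 := rfl
          omega
        have hI : ((Wr f ⊓ alternatingGroup Ω).subgroupOf (alternatingGroup Ω)).index = 3 := by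
          rw [hv2, hv3] at hidx
          omega
        rw [hI] at hdvd hne
        rcases (Nat.dvd_prime Nat.prime_three).mp hdvd with h | h
        · exact Subgroup.index_eq_one.mp h
        · exact absurd h hne
      · have hv : Nat.card (Wr f) = 48 := by rw [hWcard]; rfl
        have hv2 : Nat.card ↥(Wr f ⊓ alternatingGroup Ω) = 24 := by omega
        have hv3 : Nat.card (alternatingGroup Ω) = 360 := by
          have : (3 * 2).factorial = 720 := rfl
          omega
        have hI : ((Wr f ⊓ alternatingGroup Ω).subgroupOf (alternatingGroup Ω)).index = 15 := by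
          rw [hv2, hv3] at hidx
          omega
        rw [hI] at hdvd hne
        by_contra htop
        haveI : IsSimpleGroup (alternatingGroup Ω) :=
          alternatingGroup.isSimpleGroup (by rw [Nat.card_eq_fintype_card, hcardΩ]; norm_num)
        have hs := simple_card_dvd M' htop
        rw [hv3] at hs
        have h15 : M'.index ∈ Nat.divisors 15 := Nat.mem_divisors.mpr ⟨hdvd, by norm_num⟩
        have hdiv : Nat.divisors 15 = {1, 3, 5, 15} := by decide
        rw [hdiv] at h15
        simp only [Finset.mem_insert, Finset.mem_singleton] at h15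
        rcases h15 with h | h | h | h
        · exact htop (Subgroup.index_eq_one.mp h)
        · rw [h] at hs
          revert hs
          decide
        · rw [h] at hs
          revert hs
          decide
        · exact hne h

end Cfsg.Agent.Lib.WreathMaxA
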