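import Cfsg.Agent.Lib.KBCheck
import Cfsg.Agent.Lib.WreathMaxA

/-! The presentation `⟨x, y | x², y³, (xy)⁷, (xyxy²)⁴⟩` of the simple group of order 168. -/

set_option autoImplicit false

namespace Cfsg.Agent.Lib.L27Pres

open Cfsg.Agent.Lib.KBCheck

/-- The defining relators. -/
def rels : Set (FreeGroup (Fin 2)) :=
  {FreeGroup.of (0 : Fin 2) ^ 2, FreeGroup.of (1 : Fin 2) ^ 3, (FreeGroup.of (0 : Fin 2) * FreeGroup.of 1) ^ 7,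
    (FreeGroup.of (0 : Fin 2) * FreeGroup.of 1 * FreeGroup.of 0 * FreeGroup.of 1 ^ 2) ^ 4}

def baseRules : List Rule := [([0, 0], []), ([1, 1, 1], []), ([0, 1, 0, 1, 0, 1, 0, 1, 0, 1, 0, 1, 0, 1], []), ([0, 1, 0, 1, 1, 0, 1, 0, 1, 1, 0, 1, 0, 1, 1, 0, 1, 0, 1, 1], [])]
def certA : List (ℕ × ℕ × ℕ) := [(0, 2, 1), (0, 3, 1), (2, 1, 13), (2, 3, 10), (3, 1, 18), (0, 6, 1), (0, 8, 1), (1, 4, 2), (1, 7, 2), (2, 6, 12), (2, 7, 9), (2, 7, 11), (2, 8, 10), (3, 5, 16), (3, 8, 15), (4, 4, 12), (4, 6, 11), (4, 7, 8), (4, 7, 12), (5, 8, 14), (6, 4, 11), (6, 6, 10), (7, 4, 15), (8, 4, 14), (0, 24, 1), (0, 25, 1), (1, 21, 2), (1, 22, 2), (1, 23, 2), (2, 18, 10), (2, 22, 11), (3, 18, 15), (3, 22, 16), (4, 18, 11), (7, 15, 15), (7, 23, 15), (7, 26, 15), (8, 14, 15), (10, 14, 14), (12, 15, 14), (14, 3,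 15), (14, 6, 15), (14, 7, 12), (14, 8, 13), (14, 8, 15), (14, 9, 14), (14, 10, 14), (14, 11, 15), (14, 14, 15), (14, 16, 12), (14, 18, 15), (14, 22, 14), (14, 22, 16), (14, 27, 16), (15, 7, 10), (15, 7, 12), (15, 16, 10), (16, 16, 12), (17, 16, 7), (18, 9, 9), (18, 17, 8), (18, 21, 9), (19, 16, 6), (21, 1, 15), (21, 3, 14), (21, 6, 14), (21, 8, 14), (0, 58, 1), (1, 67, 2), (4, 67, 12)]
def finalRules : List Rule := run 60 baseRules certA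
def nfsA : List (List ℕ) := [[], [0], [1], [0, 1], [1, 0], [1, 1], [0, 1, 0], [0, 1, 1], [1, 0, 1], [1, 1, 0], [0, 1, 0, 1], [0, 1, 1, 0], [1, 0, 1, 0], [1, 0, 1, 1], [1, 1, 0, 1], [0, 1, 0, 1, 0], [0, 1, 0, 1, 1], [0, 1, 1, 0, 1], [1, 0, 1, 0, 1], [1, 0, 1, 1, 0], [1, 1, 0, 1, 0], [1, 1, 0, 1, 1], [0, 1, 0, 1, 0, 1], [0, 1, 0, 1, 1, 0], [0, 1, 1, 0, 1, 0], [0, 1, 1, 0, 1, 1], [1, 0, 1, 0, 1, 0], [1, 0, 1, 0, 1, 1], [1, 0, 1, 1, 0, 1], [1, 1, 0, 1, 0, 1], [1, 1, 0, 1, 1, 0], [0, 1, 0, 1, 0, 1, 0], [0, 1, 0, 1, 0, 1, 1], [0, 1, 0, 1, 1, 0, 1], [0, 1, 1, 0, 1, 0, 1], [0, 1, 1, 0, 1, 1, 0], [1, 0, 1, 0, 1, 0, 1], [1, 0, 1, 0, 1, 1, 0], [1, 0, 1, 1, 0, 1, 0], [1, 0, 1, 1, 0, 1, 1], [1, 1, 0, 1, 0, 1, 0], [1, 1, 0, 1, 0, 1, 1], [1, 1, 0, 1, 1, 0, 1], [0, 1, 0, 1, 0, 1, 0, 1], [0, 1, 0, 1, 0,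 1, 1, 0], [0, 1, 0, 1, 1, 0, 1, 0], [0, 1, 0, 1, 1, 0, 1, 1], [0, 1, 1, 0, 1, 0, 1, 0], [0, 1, 1, 0, 1, 0, 1, 1], [0, 1, 1, 0, 1, 1, 0, 1], [1, 0, 1, 0, 1, 0, 1, 0], [1, 0, 1, 0, 1, 0, 1, 1], [1, 0, 1, 0, 1, 1, 0, 1], [1, 0, 1, 1, 0, 1, 0, 1], [1, 0, 1, 1, 0, 1, 1, 0], [1, 1, 0, 1, 0, 1, 0, 1], [1, 1, 0, 1, 0, 1, 1, 0], [1, 1, 0, 1, 1, 0, 1, 0], [1, 1, 0, 1, 1, 0, 1, 1], [0, 1, 0, 1, 0, 1, 0, 1, 1], [0, 1, 0, 1, 0, 1, 1, 0, 1], [0, 1, 0, 1, 1, 0, 1, 0, 1], [0, 1, 0, 1, 1, 0, 1, 1, 0], [0, 1, 1, 0, 1, 0, 1, 0, 1], [0, 1, 1, 0, 1, 0, 1, 1, 0], [0, 1, 1, 0, 1, 1, 0, 1, 0], [1, 0, 1, 0, 1, 0, 1, 1, 0], [1, 0, 1, 0, 1, 1, 0, 1, 0], [1, 0, 1, 0, 1, 1, 0, 1, 1], [1, 0, 1, 1, 0, 1, 0, 1, 0], [1, 0, 1, 1, 0, 1, 0, 1, 1], [1, 0, 1, 1, 0, 1, 1, 0, 1], [1, 1, 0, 1, 0, 1, 0, 1, 0], [1, 1, 0, 1, 0, 1,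 0, 1, 1], [1, 1, 0, 1, 0, 1, 1, 0, 1], [1, 1, 0, 1, 1, 0, 1, 0, 1], [0, 1, 0, 1, 0, 1, 0, 1, 1, 0], [0, 1, 0, 1, 0, 1, 1, 0, 1, 0], [0, 1, 0, 1, 0, 1, 1, 0, 1, 1], [0, 1, 0, 1, 1, 0, 1, 0, 1, 0], [0, 1, 0, 1, 1, 0, 1, 0, 1, 1], [0, 1, 0, 1, 1, 0, 1, 1, 0, 1], [0, 1, 1, 0, 1, 0, 1, 0, 1, 0], [0, 1, 1, 0, 1, 0, 1, 0, 1, 1], [0, 1, 1, 0, 1, 0, 1, 1, 0, 1], [0, 1, 1, 0, 1, 1, 0, 1, 0, 1], [1, 0, 1, 0, 1, 0, 1, 1, 0, 1], [1, 0, 1, 0, 1, 1, 0, 1, 0, 1], [1, 0, 1, 0, 1, 1, 0, 1, 1, 0], [1, 0, 1, 1, 0, 1, 0, 1, 0, 1], [1, 0, 1, 1, 0, 1, 1, 0, 1, 0], [1, 1, 0, 1, 0, 1, 0, 1, 1, 0], [1, 1, 0, 1, 0, 1, 1, 0, 1, 1], [1, 1, 0, 1, 1, 0, 1, 0, 1, 0], [1, 1, 0, 1, 1, 0, 1, 0, 1, 1], [0, 1, 0, 1, 0, 1, 0, 1, 1, 0, 1], [0, 1, 0, 1, 0, 1, 1, 0, 1, 0, 1], [0, 1, 0, 1, 0, 1, 1, 0, 1, 1, 0], [0, 1, 0, 1, 1,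 0, 1, 0, 1, 0, 1], [0, 1, 0, 1, 1, 0, 1, 1, 0, 1, 0], [0, 1, 1, 0, 1, 0, 1, 0, 1, 1, 0], [0, 1, 1, 0, 1, 0, 1, 1, 0, 1, 1], [0, 1, 1, 0, 1, 1, 0, 1, 0, 1, 0], [0, 1, 1, 0, 1, 1, 0, 1, 0, 1, 1], [1, 0, 1, 0, 1, 0, 1, 1, 0, 1, 0], [1, 0, 1, 0, 1, 0, 1, 1, 0, 1, 1], [1, 0, 1, 0, 1, 1, 0, 1, 0, 1, 0], [1, 0, 1, 0, 1, 1, 0, 1, 0, 1, 1], [1, 0, 1, 0, 1, 1, 0, 1, 1, 0, 1], [1, 0, 1, 1, 0, 1, 0, 1, 0, 1, 0], [1, 0, 1, 1, 0, 1, 0, 1, 0, 1, 1], [1, 0, 1, 1, 0, 1, 1, 0, 1, 0, 1], [1, 1, 0, 1, 0, 1, 0, 1, 1, 0, 1], [1, 1, 0, 1, 0, 1, 1, 0, 1, 1, 0], [1, 1, 0, 1, 1, 0, 1, 0, 1, 0, 1], [0, 1, 0, 1, 0, 1, 0, 1, 1, 0, 1, 0], [0, 1, 0, 1, 0, 1, 0, 1, 1, 0, 1, 1], [0, 1, 0, 1, 0, 1, 1, 0, 1, 0, 1, 0], [0, 1, 0, 1, 0, 1, 1, 0, 1, 0, 1, 1], [0, 1, 0, 1, 0, 1, 1, 0, 1, 1, 0, 1], [0, 1, 0, 1, 1, 0, 1, 0, 1,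 0, 1, 0], [0, 1, 0, 1, 1, 0, 1, 0, 1, 0, 1, 1], [0, 1, 0, 1, 1, 0, 1, 1, 0, 1, 0, 1], [0, 1, 1, 0, 1, 0, 1, 0, 1, 1, 0, 1], [0, 1, 1, 0, 1, 0, 1, 1, 0, 1, 1, 0], [0, 1, 1, 0, 1, 1, 0, 1, 0, 1, 0, 1], [1, 0, 1, 0, 1, 0, 1, 1, 0, 1, 0, 1], [1, 0, 1, 0, 1, 0, 1, 1, 0, 1, 1, 0], [1, 0, 1, 0, 1, 1, 0, 1, 0, 1, 0, 1], [1, 0, 1, 0, 1, 1, 0, 1, 1, 0, 1, 0], [1, 0, 1, 1, 0, 1, 0, 1, 0, 1, 1, 0], [1, 0, 1, 1, 0, 1, 1, 0, 1, 0, 1, 0], [1, 0, 1, 1, 0, 1, 1, 0, 1, 0, 1, 1], [1, 1, 0, 1, 0, 1, 0, 1, 1, 0, 1, 0], [1, 1, 0, 1, 0, 1, 0, 1, 1, 0, 1, 1], [1, 1, 0, 1, 0, 1, 1, 0, 1, 1, 0, 1], [1, 1, 0, 1, 1, 0, 1, 0, 1, 0, 1, 0], [1, 1, 0, 1, 1, 0, 1, 0, 1, 0, 1, 1], [0, 1, 0, 1, 0, 1, 0, 1, 1, 0, 1, 0, 1], [0, 1, 0, 1, 0, 1, 0, 1, 1, 0, 1, 1, 0], [0, 1, 0, 1, 0, 1, 1, 0, 1, 0, 1, 0, 1], [0, 1, 0, 1, 0, 1,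 1, 0, 1, 1, 0, 1, 0], [0, 1, 0, 1, 1, 0, 1, 0, 1, 0, 1, 1, 0], [0, 1, 0, 1, 1, 0, 1, 1, 0, 1, 0, 1, 0], [0, 1, 0, 1, 1, 0, 1, 1, 0, 1, 0, 1, 1], [0, 1, 1, 0, 1, 0, 1, 0, 1, 1, 0, 1, 0], [0, 1, 1, 0, 1, 0, 1, 0, 1, 1, 0, 1, 1], [0, 1, 1, 0, 1, 0, 1, 1, 0, 1, 1, 0, 1], [0, 1, 1, 0, 1, 1, 0, 1, 0, 1, 0, 1, 0], [0, 1, 1, 0, 1, 1, 0, 1, 0, 1, 0, 1, 1], [1, 0, 1, 0, 1, 0, 1, 1, 0, 1, 0, 1, 0], [1, 0, 1, 0, 1, 0, 1, 1, 0, 1, 0, 1, 1], [1, 0, 1, 0, 1, 1, 0, 1, 0, 1, 0, 1, 0], [1, 0, 1, 0, 1, 1, 0, 1, 0, 1, 0, 1, 1], [1, 0, 1, 0, 1, 1, 0, 1, 1, 0, 1, 0, 1], [1, 0, 1, 1, 0, 1, 0, 1, 0, 1, 1, 0, 1], [1, 1, 0, 1, 0, 1, 0, 1, 1, 0, 1, 0, 1], [1, 1, 0, 1, 0, 1, 0, 1, 1, 0, 1, 1, 0], [1, 1, 0, 1, 0, 1, 1, 0, 1, 1, 0, 1, 0], [1, 1, 0, 1, 1, 0, 1, 0, 1, 0, 1, 1, 0], [0, 1, 0, 1, 0, 1, 0, 1, 1, 0, 1, 0,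 1, 1], [0, 1, 0, 1, 0, 1, 1, 0, 1, 1, 0, 1, 0, 1], [0, 1, 0, 1, 1, 0, 1, 0, 1, 0, 1, 1, 0, 1], [0, 1, 1, 0, 1, 0, 1, 0, 1, 1, 0, 1, 1, 0], [0, 1, 1, 0, 1, 0, 1, 1, 0, 1, 1, 0, 1, 0], [0, 1, 1, 0, 1, 1, 0, 1, 0, 1, 0, 1, 1, 0], [1, 0, 1, 1, 0, 1, 0, 1, 0, 1, 1, 0, 1, 0], [0, 1, 0, 1, 1, 0, 1, 0, 1, 0, 1, 1, 0, 1, 0]]
def invA : List (ℕ × List ℕ) := [(0,[0]),(1,[1,1])]

lemma check_A : check 60 finalRules [0,1] invA nfsA = true := by decide +kernel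

theorem finite_card_le' : Finite (PresentedGroup rels) ∧ Nat.card (PresentedGroup rels) ≤ 168 := by
  set R := rels with hR
  let x : PresentedGroup R := PresentedGroup.of 0
  let y : PresentedGroup R := PresentedGroup.of 1
  have hx : x ^ 2 = 1 := by
    have : PresentedGroup.mk R (FreeGroup.of (0 : Fin 2) ^ 2) = 1 :=
      PresentedGroup.one_of_mem (by simp [hR, rels])
    rw [map_pow] at this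
    exact this
  have hy : y ^ 3 = 1 := by
    have : PresentedGroup.mk R (FreeGroup.of (1 : Fin 2) ^ 3) = 1 :=
      PresentedGroup.one_of_mem (by simp [hR, rels])
    rw [map_pow] at this
    exact this
  have hxy : (x * y) ^ 7 = 1 := by
    have : PresentedGroup.mk R ((FreeGroup.of (0 : Fin 2) * FreeGroup.of 1) ^ 7) = 1 :=
      PresentedGroup.one_of_mem (by simp [hR, rels])
    rw [map_pow, map_mul] at this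
    exact this
  have hxy2 : (x * y * x * y ^ 2) ^ 4 = 1 := by
    have : PresentedGroup.mk R ((FreeGroup.of (0 : Fin 2) * FreeGroup.of 1 * FreeGroup.of 0 * FreeGroup.of 1 ^ 2) ^ 4) = 1 :=
      PresentedGroup.one_of_mem (by simp [hR, rels])
    rw [map_pow, map_mul, map_mul, map_mul, map_pow] at this
    exact this
  let f : ℕ → PresentedGroup R := fun n => if n = 0 then x else y
  have hbase : Valid f baseRules := by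
    intro r hr
    simp only [baseRules, List.mem_cons, List.not_mem_nil, or_false] at hr
    rcases hr with rfl | rfl | rfl | rfl
    · simpa [ev, f, pow_succ, mul_assoc] using hx
    · simpa [ev, f, pow_succ, mul_assoc] using hy
    · simpa [ev, f, pow_succ, mul_assoc] using hxy
    · simpa [ev, f, pow_succ, mul_assoc] using hxy2
  have hfinal : Valid f finalRules := valid_run f _ _ hbase
  have hgen : Subgroup.closure (f '' {g | g ∈ [0, 1]}) = ⊤ := by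
    rw [eq_top_iff, ← PresentedGroup.closure_range_of]
    apply Subgroup.closure_mono
    rintro _ ⟨i, rfl⟩
    fin_cases i
    · exact ⟨0, by simp, rfl⟩
    · exact ⟨1, by simp, rfl⟩
  have h3 : nfsA.length = 168 := by decide +kernel
  have := finite_card_le f hfinal check_A hgen
  rwa [h3] at this

/-- Any group of order 168 which is simple and satisfies the relations is the presented group. -/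
theorem nonempty_mulEquiv_of_simple {G : Type*} [Group G] [IsSimpleGroup G] [Finite G] (hG : Nat.card G = 168)
    (x y : G) (r1 : x ^ 2 = 1) (r2 : y ^ 3 = 1) (r3 : (x * y) ^ 7 = 1) (r4 : (x * y * x * y ^ 2) ^ 4 = 1)
    (hx : x ≠ 1) (hy : y ≠ 1) (hz : x * y ≠ 1) : Nonempty (PresentedGroup rels ≃* G) := by
  let φ := PresentedGroup.toGroup (rels := rels) (f := ![x, y]) (by
    intro r hr
    simp only [rels, Set.mem_insert_iff, Set.mem_singleton_iff] at hr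
    rcases hr with rfl | rfl | rfl | rfl
    · simpa using r1
    · simpa using r2
    · simpa using r3
    · simpa using r4)
  obtain ⟨hf, hle⟩ := finite_card_le'
  have hφ0 : φ (PresentedGroup.of 0) = x := by simp [φ]
  have hφ1 : φ (PresentedGroup.of 1) = y := by simp [φ]
  have hxm : x ∈ φ.range := ⟨_, hφ0⟩
  have hym : y ∈ φ.range := ⟨_, hφ1⟩
  have h2 : 2 ∣ Nat.card φ.range := by
    have h := orderOf_dvd_natCard (⟨x, hxm⟩ : φ.range)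
    have h' : orderOf (⟨x, hxm⟩ : φ.range) = orderOf x := Subgroup.orderOf_mk _ _
    rw [h', orderOf_eq_prime r1 hx] at h
    exact h
  have h3 : 3 ∣ Nat.card φ.range := by
    have h := orderOf_dvd_natCard (⟨y, hym⟩ : φ.range)
    have h' : orderOf (⟨y, hym⟩ : φ.range) = orderOf y := Subgroup.orderOf_mk _ _
    have : Fact (Nat.Prime 3) := ⟨Nat.prime_three⟩
    rw [h', orderOf_eq_prime r2 hy] at h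
    exact h
  have h7 : 7 ∣ Nat.card φ.range := by
    have hm : x * y ∈ φ.range := mul_mem hxm hym
    have h := orderOf_dvd_natCard (⟨x * y, hm⟩ : φ.range)
    have h' : orderOf (⟨x * y, hm⟩ : φ.range) = orderOf (x * y) := Subgroup.orderOf_mk _ _
    have : Fact (Nat.Prime 7) := ⟨by norm_num⟩
    rw [h', orderOf_eq_prime r3 hz] at h
    exact h
  have h42 : 42 ∣ Nat.card φ.range := by
    have h6 : 6 ∣ Nat.card φ.range := Nat.Coprime.mul_dvd_of_dvd_of_dvd (by norm_num) h2 h3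
    exact Nat.Coprime.mul_dvd_of_dvd_of_dvd (m := 6) (n := 7) (by norm_num) h6 h7
  have htop : φ.range = ⊤ := by
    by_contra hne
    have hs := Cfsg.Agent.Lib.WreathMaxA.simple_card_dvd φ.range hne
    rw [hG] at hs
    have hci := Subgroup.card_mul_index φ.range
    rw [hG] at hci
    obtain ⟨k, hk⟩ := h42
    rw [hk] at hci
    have hk4 : k * φ.range.index = 4 := by nlinarith
    have hi : φ.range.index ∣ 4 := ⟨k, by linarith⟩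
    have : φ.range.index ≤ 4 := Nat.le_of_dvd (by norm_num) hi
    interval_cases h : φ.range.index <;> revert hs <;> decide
  have hsurj : Function.Surjective φ := MonoidHom.range_eq_top.1 htop
  have hcge := Nat.card_le_card_of_surjective φ hsurj
  rw [hG] at hcge
  have hb : Function.Bijective φ := (Nat.bijective_iff_surjective_and_card φ).2 ⟨hsurj, by omega⟩
  exact ⟨MulEquiv.ofBijective φ hb⟩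

end Cfsg.Agent.Lib.L27Pres
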