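import Cfsg.Agent.Lib.WCChar

/-!
# Large subgroups and characteristic `p`
-/

set_option autoImplicit false
set_option linter.all false

namespace Cfsg.Agent.Lib.LargeChar

open Subgroup Cfsg Cfsg.Agent.Lib Cfsg.Agent.Lib.CharPOver Cfsg.Agent.Lib.WeaklyClosed
  Cfsg.Agent.Lib.WCChar

variable {H : Type*} [Group H] [Finite H] {p : ℕ} [Fact p.Prime]

theorem isLarge_map_conj {Q : Subgroup H} (hL : IsLarge Q) (g : H) :
    IsLarge (Q.map (MulAut.conj g).toMonoidHom) := by
  constructor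
  · intro x hx
    rw [AmalgamChar.mem_conj_iff]
    apply hL.1
    rw [mem_centralizer_iff]
    intro q hq
    have h1 := mem_centralizer_iff.1 hx (g * q * g⁻¹) ⟨q, hq, rfl⟩
    calc q * (g⁻¹ * x * g) = g⁻¹ * ((g * q * g⁻¹) * x) * g := by group
      _ = g⁻¹ * (x * (g * q * g⁻¹)) * g := by rw [h1]
      _ = g⁻¹ * x * g * q := by group
  · intro U hU hU1 x hx
    have hV : U.map (MulAut.conj g⁻¹).toMonoidHom ≤ centralizer (Q : Set H) := by
      rintro _ ⟨u, hu, rfl⟩
      rw [mem_centralizer_iff]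
      intro q hq
      have h1 := mem_centralizer_iff.1 (hU hu) (g * q * g⁻¹) ⟨q, hq, rfl⟩
      show q * (g⁻¹ * u * g⁻¹⁻¹) = (g⁻¹ * u * g⁻¹⁻¹) * q
      calc q * (g⁻¹ * u * g⁻¹⁻¹) = g⁻¹ * ((g * q * g⁻¹) * u) * g := by group
        _ = g⁻¹ * (u * (g * q * g⁻¹)) * g := by rw [h1]
        _ = g⁻¹ * u * g⁻¹⁻¹ * q := by group
    have hV1 : U.map (MulAut.conj g⁻¹).toMonoidHom ≠ ⊥ := by
      intro h0
      apply hU1
      rwa [Subgroup.map_eq_bot_iff_of_injective _ (MulAut.conj g⁻¹).injective] at h0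
    have h2 := hL.2 _ hV hV1 (conj_mem_normalizer_map (g := g⁻¹) hx)
    have h3 := conj_mem_normalizer_map (g := g) h2
    have h4 : g * (g⁻¹ * x * g⁻¹⁻¹) * g⁻¹ = x := by group
    rwa [h4] at h3

/-- A nontrivial `p`-group normalized by the `p`-group `Q` has a nontrivial element centralizing `Q`. -/
theorem exists_fixed {Q Y : Subgroup H} (hQp : IsPGroup p Q) (hYp : IsPGroup p Y)
    (hQY : Q ≤ normalizer (Y : Set H)) (hY1 : Y ≠ ⊥) :
    ∃ y ∈ Y, orderOf y = p ∧ y ∈ centralizer (Q : Set H) := by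
  have hSp : IsPGroup p (Q ⊔ Y : Subgroup H) := IsPGroup.to_sup_of_normal_right' hQp hYp hQY
  have hSN : (Q ⊔ Y : Subgroup H) ≤ normalizer (Y : Set H) := sup_le hQY le_normalizer
  obtain ⟨z, hzY, hzo, hzc⟩ := exists_central_order hSp le_sup_right hSN hY1
  refine ⟨z, hzY, hzo, ?_⟩
  rw [mem_centralizer_iff]
  intro q hq
  exact hzc q ((le_sup_left : Q ≤ Q ⊔ Y) hq)

theorem ne_one_of_order {y : H} (hyo : orderOf y = p) : y ≠ 1 := by
  rintro rfl
  rw [orderOf_one] at hyo
  exact (Fact.out : p.Prime).one_lt.ne hyo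

/-- The centralizer of an element of `C(Q)` lies in `N(Q)`, for `Q` large. -/
theorem centralizer_le_normalizer {Q : Subgroup H} (hL : IsLarge Q) {y : H} (hy1 : y ≠ 1)
    (hyQ : y ∈ centralizer (Q : Set H)) :
    centralizer ({y} : Set H) ≤ normalizer (Q : Set H) := by
  have hU : zpowers y ≤ centralizer (Q : Set H) := by
    rw [Subgroup.zpowers_le]; exact hyQ
  have hU1 : zpowers y ≠ ⊥ := by
    rwa [Ne, Subgroup.zpowers_eq_bot]
  refine le_trans ?_ (hL.2 _ hU hU1)
  rw [← centralizer_zpowers]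
  intro a ha
  exact H2Basic.mem_normalizer_of_forall_comm (fun b hb => (mem_centralizer_iff.1 ha b hb).symm)

theorem char_normalizer_large {Q : Subgroup H} (hQp : IsPGroup p Q) (hL : IsLarge Q) :
    CharIn p (normalizer (Q : Set H)) := by
  set M := normalizer (Q : Set H) with hM
  intro x hx
  have hQO : Q.subgroupOf M ≤ pCore p M :=
    FitCore.le_pCore p _ Subgroup.normal_in_normalizer (hQp.comap_of_injective M.subtype M.subtype_injective)
  apply hQO
  show (x : H) ∈ Q
  apply hL.1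
  rw [mem_centralizer_iff]
  intro q hq
  have hq' : (⟨q, le_normalizer hq⟩ : M) ∈ Q.subgroupOf M := hq
  have := mem_centralizer_iff.1 hx _ (hQO hq')
  exact congrArg Subtype.val this

theorem char_centralizer_large {Q : Subgroup H} (hQp : IsPGroup p Q) (hL : IsLarge Q) {y : H}
    (hyo : orderOf y = p) (hyQ : y ∈ centralizer (Q : Set H)) :
    CharIn p (centralizer ({y} : Set H)) := by
  have hy1 := ne_one_of_order hyo
  have hCM := centralizer_le_normalizer hL hy1 hyQ
  set M := normalizer (Q : Set H) with hM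
  have hyM : y ∈ M := hCM (by
    rw [mem_centralizer_singleton_iff])
  have h1 := char_centralizer (char_normalizer_large hQp hL) (y := (⟨y, hyM⟩ : M))
    (by rw [Subgroup.orderOf_mk]; exact hyo)
  let e : centralizer ({(⟨y, hyM⟩ : M)} : Set M) ≃* centralizer ({y} : Set H) :=
    { toFun := fun c => ⟨c.1.1, mem_centralizer_singleton_iff.2 (congrArg Subtype.val (mem_centralizer_singleton_iff.1 c.2))⟩
      invFun := fun c => ⟨⟨c.1, hCM c.2⟩, mem_centralizer_singleton_iff.2 (Subtype.ext (mem_centralizer_singleton_iff.1 c.2))⟩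
      left_inv := fun c => rfl
      right_inv := fun c => rfl
      map_mul' := fun a b => rfl }
  exact PCore.centralizer_pCore_le_of_equiv e h1

theorem pCoreOf_ne_bot {L : Subgroup H} (h : pCore p L ≠ ⊥) : pCoreOf p L ≠ ⊥ := by
  intro h0
  apply h
  exact (Subgroup.map_eq_bot_iff_of_injective _ L.subtype_injective).1 h0

theorem normalizer_le_normalizer_pCoreOf (L : Subgroup H) :
    L ≤ normalizer (pCoreOf p L : Set H) := by
  intro x hx
  have hn := FitCore.pCore_normal (G := L) p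
  have key : ∀ x ∈ L, ∀ a ∈ pCoreOf p L, x * a * x⁻¹ ∈ pCoreOf p L := by
    rintro x hx _ ⟨c, hc, rfl⟩
    exact ⟨_, hn.conj_mem c hc ⟨x, hx⟩, rfl⟩
  apply Commutators.mem_normalizer_of_conj_mem (key x hx)
  intro a ha
  have := key x⁻¹ (L.inv_mem hx) a ha
  simpa using this

/-- Main structure: `C_H(O_p(L))` is a `p`-group and `L` has characteristic `p`. -/
theorem large_main {Q L : Subgroup H} (hQp : IsPGroup p Q) (hQ1 : Q ≠ ⊥) (hL : IsLarge Q) (hQL : Q ≤ L)
    (h1 : pCore p L ≠ ⊥) :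
    ⁅Q, centralizer (pCoreOf p L : Set H)⁆ ≤ Q ⊓ pCoreOf p L ∧
      IsPGroup p (centralizer (pCoreOf p L : Set H)) ∧ CharIn p L := by
  have hwc := isWeaklyClosed_of_isLarge hQp hQ1 hL
  obtain ⟨y, hyY, hyo, hyC⟩ := exists_fixed hQp (pCoreOf_isPGroup L)
    (hQL.trans (normalizer_le_normalizer_pCoreOf L)) (pCoreOf_ne_bot h1)
  exact main_of_elem hQp hwc hL.1 hQL hyY hyC (char_centralizer_large hQp hL hyo hyC)

theorem map_conj_isPGroup {Q : Subgroup H} (hQp : IsPGroup p Q) (g : H) :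
    IsPGroup p (Q.map (MulAut.conj g).toMonoidHom) := hQp.map _

theorem map_conj_ne_bot {Q : Subgroup H} (hQ1 : Q ≠ ⊥) (g : H) :
    Q.map (MulAut.conj g).toMonoidHom ≠ ⊥ := by
  intro h0
  apply hQ1
  exact (Subgroup.map_eq_bot_iff_of_injective _ (MulAut.conj g).injective).1 h0

/-- For every parabolic subgroup, a conjugate of `Q` lies in it. -/
theorem exists_conj_le {Q R : Subgroup H} (hQp : IsPGroup p Q) (hR : IsParabolic p R) :
    ∃ g : H, Q.map (MulAut.conj g).toMonoidHom ≤ R := by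
  obtain ⟨T, hT⟩ := hR
  obtain ⟨T', hT'⟩ := hQp.exists_le_sylow
  obtain ⟨g, hg⟩ := MulAction.exists_smul_eq H T' T
  refine ⟨g, le_trans ?_ hT⟩
  have : (T : Subgroup H) = (T' : Subgroup H).map (MulAut.conj g).toMonoidHom := by
    rw [← hg]; rfl
  rw [this]
  exact Subgroup.map_mono hT'

theorem parabolic_main {Q R : Subgroup H} (hQp : IsPGroup p Q) (hQ1 : Q ≠ ⊥) (hL : IsLarge Q)
    (hR : IsParabolic p R) (h1 : pCore p R ≠ ⊥) :
    centralizer (pCoreOf p R : Set H) ≤ pCoreOf p R ∧ CharIn p R := by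
  obtain ⟨g, hg⟩ := exists_conj_le hQp hR
  obtain ⟨-, hCp, hchar⟩ := large_main (map_conj_isPGroup hQp g) (map_conj_ne_bot hQ1 g)
    (isLarge_map_conj hL g) hg h1
  refine ⟨?_, hchar⟩
  obtain ⟨T, hT⟩ := hR
  have hTN : (T : Subgroup H) ≤ normalizer (centralizer (pCoreOf p R : Set H) : Set H) := by
    intro x hx
    have hxN := normalizer_le_normalizer_pCoreOf (p := p) R (hT hx)
    have key : ∀ x ∈ normalizer (pCoreOf p R : Set H), ∀ a ∈ centralizer (pCoreOf p R : Set H),
        x * a * x⁻¹ ∈ centralizer (pCoreOf p R : Set H) := by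
      intro x hx a ha
      rw [mem_centralizer_iff]
      intro u hu
      have h2 : x⁻¹ * u * x⁻¹⁻¹ ∈ pCoreOf p R := (mem_normalizer_iff.1 (Subgroup.inv_mem _ hx) u).1 hu
      have h3 := mem_centralizer_iff.1 ha _ h2
      calc u * (x * a * x⁻¹) = x * ((x⁻¹ * u * x⁻¹⁻¹) * a) * x⁻¹ := by group
        _ = x * (a * (x⁻¹ * u * x⁻¹⁻¹)) * x⁻¹ := by rw [h3]
        _ = x * a * x⁻¹ * u := by group
    apply Commutators.mem_normalizer_of_conj_mem (key x hxN)
    intro a ha
    have := key x⁻¹ (Subgroup.inv_mem _ hxN) a ha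
    simpa using this
  have hSp : IsPGroup p ((T : Subgroup H) ⊔ centralizer (pCoreOf p R : Set H) : Subgroup H) :=
    IsPGroup.to_sup_of_normal_right' T.isPGroup' hCp hTN
  have hmax := T.is_maximal' hSp le_sup_left
  have hCT : centralizer (pCoreOf p R : Set H) ≤ T := by
    rw [← hmax]; exact le_sup_right
  intro x hx
  have hxR : x ∈ R := hT (hCT hx)
  have h3 : (⟨x, hxR⟩ : R) ∈ pCore p R := by
    apply hchar
    rw [mem_centralizer_iff]
    intro u hu
    apply Subtype.ext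
    exact mem_centralizer_iff.1 hx u ⟨u, hu, rfl⟩
  exact ⟨_, h3, rfl⟩

theorem parabolic_char {Q : Subgroup H} (hQp : IsPGroup p Q) (hQ1 : Q ≠ ⊥) (hL : IsLarge Q) :
    IsOfParabolicCharacteristic p H := by
  intro R hRp hR1 hpar
  refine (parabolic_main hQp hQ1 hL hpar ?_).2
  intro h0
  apply hR1
  have h1 : R.subgroupOf (normalizer (R : Set H)) ≤ pCore p (normalizer (R : Set H)) :=
    FitCore.le_pCore p _ Subgroup.normal_in_normalizer (hRp.comap_of_injective _ (Subtype.val_injective))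
  rw [h0] at h1
  rw [eq_bot_iff]
  intro r hr
  have hr' : (⟨r, le_normalizer hr⟩ : normalizer (R : Set H)) ∈ R.subgroupOf (normalizer (R : Set H)) := hr
  have h2 := h1 hr'
  rw [Subgroup.mem_bot] at h2
  have := congrArg Subtype.val h2
  simpa using this

theorem map_conj_one' (A : Subgroup H) : A.map (MulAut.conj (1 : H)).toMonoidHom = A := map_conj_one A

/-- `Q ≤ L°`. -/
theorem le_weakClosure {Q L : Subgroup H} (hQL : Q ≤ L) : Q ≤ weakClosure Q L := by
  have h1 : Q.map (MulAut.conj (1 : H)).toMonoidHom ≤ L := by rw [map_conj_one]; exact hQL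
  have h2 := le_iSup (fun g : {g : H // Q.map (MulAut.conj g).toMonoidHom ≤ L} =>
    Q.map (MulAut.conj (g : H)).toMonoidHom) ⟨1, h1⟩
  simp only [map_conj_one] at h2
  exact h2

theorem weakClosure_le (Q L : Subgroup H) : weakClosure Q L ≤ L := iSup_le fun g => g.2

theorem conj_le_weakClosure {Q L : Subgroup H} {g : H} (hg : Q.map (MulAut.conj g).toMonoidHom ≤ L) :
    Q.map (MulAut.conj g).toMonoidHom ≤ weakClosure Q L :=
  le_iSup (fun g : {g : H // Q.map (MulAut.conj g).toMonoidHom ≤ L} =>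
    Q.map (MulAut.conj (g : H)).toMonoidHom) ⟨g, hg⟩

/-- `L°` is `Q` or has trivial centralizer. -/
theorem weakClosure_dichotomy {Q L : Subgroup H} (hQp : IsPGroup p Q) (hQ1 : Q ≠ ⊥) (hL : IsLarge Q)
    (hQL : Q ≤ L) : weakClosure Q L = Q ∨ centralizer (weakClosure Q L : Set H) = ⊥ := by
  by_cases hU : centralizer (weakClosure Q L : Set H) = ⊥
  · exact Or.inr hU
  left
  have hwc := isWeaklyClosed_of_isLarge hQp hQ1 hL
  set W := weakClosure Q L with hW
  have hQW : Q ≤ W := le_weakClosure hQL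
  apply le_antisymm _ hQW
  refine iSup_le fun g => ?_
  have hgW : Q.map (MulAut.conj (g : H)).toMonoidHom ≤ W := conj_le_weakClosure g.2
  have hUg : centralizer (W : Set H) ≤ centralizer ((Q.map (MulAut.conj (g : H)).toMonoidHom : Subgroup H) : Set H) :=
    centralizer_le hgW
  have hN := (isLarge_map_conj hL (g : H)).2 _ hUg hU
  have hWN : W ≤ normalizer (centralizer (W : Set H) : Set H) := by
    intro x hx
    have key : ∀ x ∈ W, ∀ a ∈ centralizer (W : Set H), x * a * x⁻¹ ∈ centralizer (W : Set H) := by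
      intro x hx a ha
      rw [mem_centralizer_iff]
      intro u hu
      have h2 : x⁻¹ * u * x⁻¹⁻¹ ∈ W := W.mul_mem (W.mul_mem (W.inv_mem hx) hu) (W.inv_mem (W.inv_mem hx))
      have h3 := mem_centralizer_iff.1 ha _ h2
      calc u * (x * a * x⁻¹) = x * ((x⁻¹ * u * x⁻¹⁻¹) * a) * x⁻¹ := by group
        _ = x * (a * (x⁻¹ * u * x⁻¹⁻¹)) * x⁻¹ := by rw [h3]
        _ = x * a * x⁻¹ * u := by group
    apply Commutators.mem_normalizer_of_conj_mem (key x hx)
    intro a ha
    have := key x⁻¹ (W.inv_mem hx) a ha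
    simpa using this
  have h4 : Q ≤ normalizer ((Q.map (MulAut.conj (g : H)).toMonoidHom : Subgroup H) : Set H) :=
    hQW.trans (hWN.trans hN)
  exact (eq_of_isWeaklyClosed hwc hQp h4).le

end Cfsg.Agent.Lib.LargeChar
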