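/-
Certificates for the action of stabilisers in the automorphism group of the Leech lattice (LeechCo2).
-/
import Mathlib
import Cfsg.Prelude.Def_Sporadic_a
import Cfsg.Agent.Lib.LeechCert
import Cfsg.Agent.Lib.LeechCert2

set_option autoImplicit false
set_option maxHeartbeats 0
set_option linter.unusedSectionVars false
set_option linter.unusedSimpArgs false
set_option linter.unusedVariables false

namespace Cfsg.Agent.Lib.LeechCo2

open Cfsg Cfsg.Agent.Lib.GolayCode Cfsg.Agent.Lib.GolayFacts Cfsg.Agent.Lib.GolayPerm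
  Cfsg.Agent.Lib.LeechBase Cfsg.Agent.Lib.LeechCo Cfsg.Agent.Lib.LeechXi Cfsg.Agent.Lib.LeechOrb
  Cfsg.Agent.Lib.LeechCert Cfsg.Agent.Lib.LeechDFS Cfsg.Agent.Lib.LeechMinCount


/-- atom -/
def co2A0 (c : ℕ) : ℕ := Nat.xor (Nat.lor (Nat.lor (Nat.lor (Nat.lor (Nat.lor (Nat.lor (Nat.lor (Nat.lor (Nat.lor (Nat.lor (Nat.lor (Nat.lor (Nat.lor (Nat.lor (Nat.lor (Nat.lor (Nat.lor (Nat.lor (Nat.lor (Nat.lor (Nat.lor (Nat.lor (Nat.lor (Nat.lor (0) (Nat.shiftLeft (Nat.land (Nat.shiftRight c 0) 15) 0)) (Nat.shiftLeft (Nat.land (Nat.shiftRight c 4) 15) 52)) (Nat.shiftLeft (Nat.land (Nat.shiftRight c 8) 15) 88)) (Nat.shiftLeft (Nat.land (Nat.shiftRight c 12) 15) 12)) (Nat.shiftLeft (Nat.land (Nat.shiftRight c 16) 15) 36)) (Nat.shiftLeft (Nat.land (Nat.shiftRight c 20) 15) 56)) (Nat.shiftLeft (Nat.land (Nat.shiftRight c 24) 15) 16)) (Nat.shiftLeft (Nat.land (Nat.shiftRight c 28) 15)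 92)) (Nat.shiftLeft (Nat.land (Nat.shiftRight c 32) 15) 24)) (Nat.shiftLeft (Nat.land (Nat.shiftRight c 36) 15) 44)) (Nat.shiftLeft (Nat.land (Nat.shiftRight c 40) 15) 68)) (Nat.shiftLeft (Nat.land (Nat.shiftRight c 44) 15) 40)) (Nat.shiftLeft (Nat.land (Nat.shiftRight c 48) 15) 80)) (Nat.shiftLeft (Nat.land (Nat.shiftRight c 52) 15) 76)) (Nat.shiftLeft (Nat.land (Nat.shiftRight c 56) 15) 32)) (Nat.shiftLeft (Nat.land (Nat.shiftRight c 60) 15) 72)) (Nat.shiftLeft (Nat.land (Nat.shiftRight c 64) 15) 60)) (Nat.shiftLeft (Nat.land (Nat.shiftRight c 68) 15) 48)) (Nat.shiftLeft (Nat.land (Nat.shiftRight c 72) 15) 28)) (Nat.shiftLeft (Nat.land (Nat.shiftRight c 76) 15) 64)) (Nat.shiftLeft (Nat.land (Nat.shiftRight c 80) 15) 20)) (Nat.shiftLeft (Nat.land (Nat.shiftRight c 84) 15) 4)) (Nat.shiftLeft (Nat.land (Nat.shiftRight c 88) 15) 84)) (Nat.shiftLeft (Nat.land (Nat.shiftRight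 c 92) 15) 8)) 0

theorem co2A0_ok : AtomOK co2A0 := by
  have h : co2A0 = monoC [0, 13, 22, 3, 9, 14, 4, 23, 6, 11, 17, 10, 20, 19, 8, 18, 15, 12, 7, 16, 5, 1, 21, 2] 0 := rfl
  rw [h]
  exact atomOK_mono (mask := 0) (by decide +kernel) (by decide +kernel) (by decide +kernel)

/-- atom -/
def co2A1 (c : ℕ) : ℕ := Nat.xor (Nat.lor (Nat.lor (Nat.lor (Nat.lor (Nat.lor (Nat.lor (Nat.lor (Nat.lor (Nat.lor (Nat.lor (Nat.lor (Nat.lor (Nat.lor (Nat.lor (Nat.lor (Nat.lor (Nat.lor (Nat.lor (Nat.lor (Nat.lor (Nat.lor (Nat.lor (Nat.lor (Nat.lor (0) (Nat.shiftLeft (Nat.land (Nat.shiftRight c 0) 15) 0)) (Nat.shiftLeft (Nat.land (Nat.shiftRight c 4) 15) 20)) (Nat.shiftLeft (Nat.land (Nat.shiftRight c 8) 15) 4)) (Nat.shiftLeft (Nat.land (Nat.shiftRight c 12) 15) 12)) (Nat.shiftLeft (Nat.land (Nat.shiftRight c 16) 15) 88)) (Nat.shiftLeft (Nat.land (Nat.shiftRight c 20) 15) 92)) (Nat.shiftLeft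 (Nat.land (Nat.shiftRight c 24) 15) 64)) (Nat.shiftLeft (Nat.land (Nat.shiftRight c 28) 15) 28)) (Nat.shiftLeft (Nat.land (Nat.shiftRight c 32) 15) 36)) (Nat.shiftLeft (Nat.land (Nat.shiftRight c 36) 15) 24)) (Nat.shiftLeft (Nat.land (Nat.shiftRight c 40) 15) 52)) (Nat.shiftLeft (Nat.land (Nat.shiftRight c 44) 15) 16)) (Nat.shiftLeft (Nat.land (Nat.shiftRight c 48) 15) 76)) (Nat.shiftLeft (Nat.land (Nat.shiftRight c 52) 15) 40)) (Nat.shiftLeft (Nat.land (Nat.shiftRight c 56) 15) 68)) (Nat.shiftLeft (Nat.land (Nat.shiftRight c 60) 15) 48)) (Nat.shiftLeft (Nat.land (Nat.shiftRight c 64) 15) 32)) (Nat.shiftLeft (Nat.land (Nat.shiftRight c 68) 15) 56)) (Nat.shiftLeft (Nat.land (Nat.shiftRight c 72) 15) 72)) (Nat.shiftLeft (Nat.land (Nat.shiftRight c 76) 15) 80)) (Nat.shiftLeft (Nat.land (Nat.shiftRight c 80) 15) 60)) (Nat.shiftLeft (Nat.land (Nat.shiftRight c 84) 15) 44)) (Nat.shiftLeft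 (Nat.land (Nat.shiftRight c 88) 15) 84)) (Nat.shiftLeft (Nat.land (Nat.shiftRight c 92) 15) 8)) 0

theorem co2A1_ok : AtomOK co2A1 := by
  have h : co2A1 = monoC [0, 5, 1, 3, 22, 23, 16, 7, 9, 6, 13, 4, 19, 10, 17, 12, 8, 14, 18, 20, 15, 11, 21, 2] 0 := rfl
  rw [h]
  exact atomOK_mono (mask := 0) (by decide +kernel) (by decide +kernel) (by decide +kernel)

/-- atom -/
def co2A2 (c : ℕ) : ℕ := Nat.xor (Nat.lor (Nat.lor (Nat.lor (Nat.lor (Nat.lor (Nat.lor (Nat.lor (Nat.lor (Nat.lor (Nat.lor (Nat.lor (Nat.lor (Nat.lor (Nat.lor (Nat.lor (Nat.lor (Nat.lor (Nat.lor (Nat.lor (Nat.lor (Nat.lor (Nat.lor (Nat.lor (Nat.lor (0) (Nat.shiftLeft (Nat.land (Nat.shiftRight c 0) 15) 0)) (Nat.shiftLeft (Nat.land (Nat.shiftRight c 4) 15) 76)) (Nat.shiftLeft (Nat.land (Nat.shiftRight c 8) 15) 92)) (Nat.shiftLeft (Nat.land (Nat.shiftRight c 12) 15) 12)) (Nat.shiftLeft (Nat.land (Nat.shiftRight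 c 16) 15) 32)) (Nat.shiftLeft (Nat.land (Nat.shiftRight c 20) 15) 36)) (Nat.shiftLeft (Nat.land (Nat.shiftRight c 24) 15) 44)) (Nat.shiftLeft (Nat.land (Nat.shiftRight c 28) 15) 48)) (Nat.shiftLeft (Nat.land (Nat.shiftRight c 32) 15) 40)) (Nat.shiftLeft (Nat.land (Nat.shiftRight c 36) 15) 4)) (Nat.shiftLeft (Nat.land (Nat.shiftRight c 40) 15) 28)) (Nat.shiftLeft (Nat.land (Nat.shiftRight c 44) 15) 80)) (Nat.shiftLeft (Nat.land (Nat.shiftRight c 48) 15) 68)) (Nat.shiftLeft (Nat.land (Nat.shiftRight c 52) 15) 64)) (Nat.shiftLeft (Nat.land (Nat.shiftRight c 56) 15) 60)) (Nat.shiftLeft (Nat.land (Nat.shiftRight c 60) 15) 8)) (Nat.shiftLeft (Nat.land (Nat.shiftRight c 64) 15) 72)) (Nat.shiftLeft (Nat.land (Nat.shiftRight c 68) 15) 20)) (Nat.shiftLeft (Nat.land (Nat.shiftRight c 72) 15) 56)) (Nat.shiftLeft (Nat.land (Nat.shiftRight c 76) 15) 88)) (Nat.shiftLeft (Nat.land (Nat.shiftRight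 c 80) 15) 84)) (Nat.shiftLeft (Nat.land (Nat.shiftRight c 84) 15) 52)) (Nat.shiftLeft (Nat.land (Nat.shiftRight c 88) 15) 16)) (Nat.shiftLeft (Nat.land (Nat.shiftRight c 92) 15) 24)) 0

theorem co2A2_ok : AtomOK co2A2 := by
  have h : co2A2 = monoC [0, 19, 23, 3, 8, 9, 11, 12, 10, 1, 7, 20, 17, 16, 15, 2, 18, 5, 14, 22, 21, 13, 4, 6] 0 := rfl
  rw [h]
  exact atomOK_mono (mask := 0) (by decide +kernel) (by decide +kernel) (by decide +kernel)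

/-- atom -/
def co2A3 (c : ℕ) : ℕ := Nat.xor (Nat.lor (Nat.lor (Nat.lor (Nat.lor (Nat.lor (Nat.lor (Nat.lor (Nat.lor (Nat.lor (Nat.lor (Nat.lor (Nat.lor (Nat.lor (Nat.lor (Nat.lor (Nat.lor (Nat.lor (Nat.lor (Nat.lor (Nat.lor (Nat.lor (Nat.lor (Nat.lor (Nat.lor (0) (Nat.shiftLeft (Nat.land (Nat.shiftRight c 0) 15) 0)) (Nat.shiftLeft (Nat.land (Nat.shiftRight c 4) 15) 24)) (Nat.shiftLeft (Nat.land (Nat.shiftRight c 8) 15) 60)) (Nat.shiftLeft (Nat.land (Nat.shiftRight c 12) 15) 12)) (Nat.shiftLeft (Nat.land (Nat.shiftRight c 16) 15) 48)) (Nat.shiftLeft (Nat.land (Nat.shiftRight c 20) 15) 72)) (Nat.shiftLeft (Nat.land (Nat.shiftRight c 24) 15) 76)) (Nat.shiftLeft (Nat.land (Nat.shiftRight c 28) 15) 16)) (Nat.shiftLeft (Nat.land (Nat.shiftRight c 32) 15) 84)) (Nat.shiftLeft (Nat.land (Nat.shiftRight c 36) 15) 92)) (Nat.shiftLeft (Nat.land (Nat.shiftRight c 40) 15) 32)) (Nat.shiftLeft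 (Nat.land (Nat.shiftRight c 44) 15) 20)) (Nat.shiftLeft (Nat.land (Nat.shiftRight c 48) 15) 44)) (Nat.shiftLeft (Nat.land (Nat.shiftRight c 52) 15) 80)) (Nat.shiftLeft (Nat.land (Nat.shiftRight c 56) 15) 64)) (Nat.shiftLeft (Nat.land (Nat.shiftRight c 60) 15) 8)) (Nat.shiftLeft (Nat.land (Nat.shiftRight c 64) 15) 56)) (Nat.shiftLeft (Nat.land (Nat.shiftRight c 68) 15) 52)) (Nat.shiftLeft (Nat.land (Nat.shiftRight c 72) 15) 28)) (Nat.shiftLeft (Nat.land (Nat.shiftRight c 76) 15) 40)) (Nat.shiftLeft (Nat.land (Nat.shiftRight c 80) 15) 68)) (Nat.shiftLeft (Nat.land (Nat.shiftRight c 84) 15) 4)) (Nat.shiftLeft (Nat.land (Nat.shiftRight c 88) 15) 36)) (Nat.shiftLeft (Nat.land (Nat.shiftRight c 92) 15) 88)) 0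

theorem co2A3_ok : AtomOK co2A3 := by
  have h : co2A3 = monoC [0, 6, 15, 3, 12, 18, 19, 4, 21, 23, 8, 5, 11, 20, 16, 2, 14, 13, 7, 10, 17, 1, 9, 22] 0 := rfl
  rw [h]
  exact atomOK_mono (mask := 0) (by decide +kernel) (by decide +kernel) (by decide +kernel)

/-- atom -/
def co2A4 (c : ℕ) : ℕ := Nat.xor (Nat.lor (Nat.lor (Nat.lor (Nat.lor (Nat.lor (Nat.lor (Nat.lor (Nat.lor (Nat.lor (Nat.lor (Nat.lor (Nat.lor (Nat.lor (Nat.lor (Nat.lor (Nat.lor (Nat.lor (Nat.lor (Nat.lor (Nat.lor (Nat.lor (Nat.lor (Nat.lor (Nat.lor (0) (Nat.shiftLeft (Nat.land (Nat.shiftRight c 0) 15) 0)) (Nat.shiftLeft (Nat.land (Nat.shiftRight c 4) 15) 48)) (Nat.shiftLeft (Nat.land (Nat.shiftRight c 8) 15) 80)) (Nat.shiftLeft (Nat.land (Nat.shiftRight c 12) 15) 12)) (Nat.shiftLeft (Nat.land (Nat.shiftRight c 16) 15) 84)) (Nat.shiftLeft (Nat.land (Nat.shiftRight c 20) 15) 36)) (Nat.shiftLeft (Nat.land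 (Nat.shiftRight c 24) 15) 52)) (Nat.shiftLeft (Nat.land (Nat.shiftRight c 28) 15) 68)) (Nat.shiftLeft (Nat.land (Nat.shiftRight c 32) 15) 88)) (Nat.shiftLeft (Nat.land (Nat.shiftRight c 36) 15) 76)) (Nat.shiftLeft (Nat.land (Nat.shiftRight c 40) 15) 56)) (Nat.shiftLeft (Nat.land (Nat.shiftRight c 44) 15) 40)) (Nat.shiftLeft (Nat.land (Nat.shiftRight c 48) 15) 16)) (Nat.shiftLeft (Nat.land (Nat.shiftRight c 52) 15) 8)) (Nat.shiftLeft (Nat.land (Nat.shiftRight c 56) 15) 20)) (Nat.shiftLeft (Nat.land (Nat.shiftRight c 60) 15) 44)) (Nat.shiftLeft (Nat.land (Nat.shiftRight c 64) 15) 28)) (Nat.shiftLeft (Nat.land (Nat.shiftRight c 68) 15) 4)) (Nat.shiftLeft (Nat.land (Nat.shiftRight c 72) 15) 92)) (Nat.shiftLeft (Nat.land (Nat.shiftRight c 76) 15) 72)) (Nat.shiftLeft (Nat.land (Nat.shiftRight c 80) 15) 64)) (Nat.shiftLeft (Nat.land (Nat.shiftRight c 84) 15) 24)) (Nat.shiftLeft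 (Nat.land (Nat.shiftRight c 88) 15) 60)) (Nat.shiftLeft (Nat.land (Nat.shiftRight c 92) 15) 32)) 0

theorem co2A4_ok : AtomOK co2A4 := by
  have h : co2A4 = monoC [0, 12, 20, 3, 21, 9, 13, 17, 22, 19, 14, 10, 4, 2, 5, 11, 7, 1, 23, 18, 16, 6, 15, 8] 0 := rfl
  rw [h]
  exact atomOK_mono (mask := 0) (by decide +kernel) (by decide +kernel) (by decide +kernel)

/-- atom -/
def co2A5 (c : ℕ) : ℕ := Nat.xor (Nat.lor (Nat.lor (Nat.lor (Nat.lor (Nat.lor (Nat.lor (Nat.lor (Nat.lor (Nat.lor (Nat.lor (Nat.lor (Nat.lor (Nat.lor (Nat.lor (Nat.lor (Nat.lor (Nat.lor (Nat.lor (Nat.lor (Nat.lor (Nat.lor (Nat.lor (Nat.lor (Nat.lor (0) (Nat.shiftLeft (Nat.land (Nat.shiftRight c 0) 15) 12)) (Nat.shiftLeft (Nat.land (Nat.shiftRight c 4) 15) 92)) (Nat.shiftLeft (Nat.land (Nat.shiftRight c 8) 15) 88)) (Nat.shiftLeft (Nat.land (Nat.shiftRight c 12) 15) 0)) (Nat.shiftLeft (Nat.land (Nat.shiftRight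 c 16) 15) 32)) (Nat.shiftLeft (Nat.land (Nat.shiftRight c 20) 15) 48)) (Nat.shiftLeft (Nat.land (Nat.shiftRight c 24) 15) 76)) (Nat.shiftLeft (Nat.land (Nat.shiftRight c 28) 15) 64)) (Nat.shiftLeft (Nat.land (Nat.shiftRight c 32) 15) 16)) (Nat.shiftLeft (Nat.land (Nat.shiftRight c 36) 15) 72)) (Nat.shiftLeft (Nat.land (Nat.shiftRight c 40) 15) 44)) (Nat.shiftLeft (Nat.land (Nat.shiftRight c 44) 15) 40)) (Nat.shiftLeft (Nat.land (Nat.shiftRight c 48) 15) 20)) (Nat.shiftLeft (Nat.land (Nat.shiftRight c 52) 15) 80)) (Nat.shiftLeft (Nat.land (Nat.shiftRight c 56) 15) 60)) (Nat.shiftLeft (Nat.land (Nat.shiftRight c 60) 15) 56)) (Nat.shiftLeft (Nat.land (Nat.shiftRight c 64) 15) 28)) (Nat.shiftLeft (Nat.land (Nat.shiftRight c 68) 15) 84)) (Nat.shiftLeft (Nat.land (Nat.shiftRight c 72) 15) 36)) (Nat.shiftLeft (Nat.land (Nat.shiftRight c 76) 15) 24)) (Nat.shiftLeft (Nat.land (Nat.shiftRight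 c 80) 15) 52)) (Nat.shiftLeft (Nat.land (Nat.shiftRight c 84) 15) 68)) (Nat.shiftLeft (Nat.land (Nat.shiftRight c 88) 15) 8)) (Nat.shiftLeft (Nat.land (Nat.shiftRight c 92) 15) 4)) 0

theorem co2A5_ok : AtomOK co2A5 := by
  have h : co2A5 = monoC [3, 23, 22, 0, 8, 12, 19, 16, 4, 18, 11, 10, 5, 20, 15, 14, 7, 21, 9, 6, 13, 17, 2, 1] 0 := rfl
  rw [h]
  exact atomOK_mono (mask := 0) (by decide +kernel) (by decide +kernel) (by decide +kernel)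

/-- atom -/
def co2A6 (c : ℕ) : ℕ := Nat.xor (Nat.lor (Nat.lor (Nat.lor (Nat.lor (Nat.lor (Nat.lor (Nat.lor (Nat.lor (Nat.lor (Nat.lor (Nat.lor (Nat.lor (Nat.lor (Nat.lor (Nat.lor (Nat.lor (Nat.lor (Nat.lor (Nat.lor (Nat.lor (Nat.lor (Nat.lor (Nat.lor (Nat.lor (0) (Nat.shiftLeft (Nat.land (Nat.shiftRight c 0) 15) 0)) (Nat.shiftLeft (Nat.land (Nat.shiftRight c 4) 15) 4)) (Nat.shiftLeft (Nat.land (Nat.shiftRight c 8) 15) 8)) (Nat.shiftLeft (Nat.land (Nat.shiftRight c 12) 15) 12)) (Nat.shiftLeft (Nat.land (Nat.shiftRight c 16) 15) 16)) (Nat.shiftLeft (Nat.land (Nat.shiftRight c 20) 15) 20)) (Nat.shiftLeft (Nat.land (Nat.shiftRight c 24) 15) 24)) (Nat.shiftLeft (Nat.land (Nat.shiftRight c 28) 15) 28)) (Nat.shiftLeft (Nat.land (Nat.shiftRight c 32) 15) 32)) (Nat.shiftLeft (Nat.land (Nat.shiftRight c 36) 15) 36)) (Nat.shiftLeft (Nat.land (Nat.shiftRight c 40) 15) 40)) (Nat.shiftLeft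 (Nat.land (Nat.shiftRight c 44) 15) 44)) (Nat.shiftLeft (Nat.land (Nat.shiftRight c 48) 15) 48)) (Nat.shiftLeft (Nat.land (Nat.shiftRight c 52) 15) 52)) (Nat.shiftLeft (Nat.land (Nat.shiftRight c 56) 15) 56)) (Nat.shiftLeft (Nat.land (Nat.shiftRight c 60) 15) 60)) (Nat.shiftLeft (Nat.land (Nat.shiftRight c 64) 15) 64)) (Nat.shiftLeft (Nat.land (Nat.shiftRight c 68) 15) 68)) (Nat.shiftLeft (Nat.land (Nat.shiftRight c 72) 15) 72)) (Nat.shiftLeft (Nat.land (Nat.shiftRight c 76) 15) 76)) (Nat.shiftLeft (Nat.land (Nat.shiftRight c 80) 15) 80)) (Nat.shiftLeft (Nat.land (Nat.shiftRight c 84) 15) 84)) (Nat.shiftLeft (Nat.land (Nat.shiftRight c 88) 15) 88)) (Nat.shiftLeft (Nat.land (Nat.shiftRight c 92) 15) 92)) 42089963706686012952915478656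

theorem co2A6_ok : AtomOK co2A6 := by
  have h : co2A6 = monoC [0, 1, 2, 3, 4, 5, 6, 7, 8, 9, 10, 11, 12, 13, 14, 15, 16, 17, 18, 19, 20, 21, 22, 23] 42089963706686012952915478656 := rfl
  rw [h]
  exact atomOK_mono (mask := 12765094) (by decide +kernel) (by decide +kernel) (by decide +kernel)

/-- atom -/
def co2A8 (c : ℕ) : ℕ := Nat.xor (Nat.lor (Nat.lor (Nat.lor (Nat.lor (Nat.lor (Nat.lor (Nat.lor (Nat.lor (Nat.lor (Nat.lor (Nat.lor (Nat.lor (Nat.lor (Nat.lor (Nat.lor (Nat.lor (Nat.lor (Nat.lor (Nat.lor (Nat.lor (Nat.lor (Nat.lor (Nat.lor (Nat.lor (0) (Nat.shiftLeft (Nat.land (Nat.shiftRight c 0) 15) 0)) (Nat.shiftLeft (Nat.land (Nat.shiftRight c 4) 15) 4)) (Nat.shiftLeft (Nat.land (Nat.shiftRight c 8) 15) 8)) (Nat.shiftLeft (Nat.land (Nat.shiftRight c 12) 15) 12)) (Nat.shiftLeft (Nat.land (Nat.shiftRight c 16) 15) 16)) (Nat.shiftLeft (Nat.land (Nat.shiftRight c 20)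 15) 20)) (Nat.shiftLeft (Nat.land (Nat.shiftRight c 24) 15) 24)) (Nat.shiftLeft (Nat.land (Nat.shiftRight c 28) 15) 28)) (Nat.shiftLeft (Nat.land (Nat.shiftRight c 32) 15) 32)) (Nat.shiftLeft (Nat.land (Nat.shiftRight c 36) 15) 36)) (Nat.shiftLeft (Nat.land (Nat.shiftRight c 40) 15) 40)) (Nat.shiftLeft (Nat.land (Nat.shiftRight c 44) 15) 44)) (Nat.shiftLeft (Nat.land (Nat.shiftRight c 48) 15) 48)) (Nat.shiftLeft (Nat.land (Nat.shiftRight c 52) 15) 52)) (Nat.shiftLeft (Nat.land (Nat.shiftRight c 56) 15) 56)) (Nat.shiftLeft (Nat.land (Nat.shiftRight c 60) 15) 60)) (Nat.shiftLeft (Nat.land (Nat.shiftRight c 64) 15) 64)) (Nat.shiftLeft (Nat.land (Nat.shiftRight c 68) 15) 68)) (Nat.shiftLeft (Nat.land (Nat.shiftRight c 72) 15) 72)) (Nat.shiftLeft (Nat.land (Nat.shiftRight c 76) 15) 76)) (Nat.shiftLeft (Nat.land (Nat.shiftRight c 80) 15) 80)) (Nat.shiftLeft (Nat.land (Nat.shiftRight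 c 84) 15) 84)) (Nat.shiftLeft (Nat.land (Nat.shiftRight c 88) 15) 88)) (Nat.shiftLeft (Nat.land (Nat.shiftRight c 92) 15) 92)) 154745023506129478567856256

theorem co2A8_ok : AtomOK co2A8 := by
  have h : co2A8 = monoC [0, 1, 2, 3, 4, 5, 6, 7, 8, 9, 10, 11, 12, 13, 14, 15, 16, 17, 18, 19, 20, 21, 22, 23] 154745023506129478567856256 := rfl
  rw [h]
  exact atomOK_mono (mask := 2358342) (by decide +kernel) (by decide +kernel) (by decide +kernel)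

/-- atom -/
def co2A9 (c : ℕ) : ℕ := Nat.xor (Nat.lor (Nat.lor (Nat.lor (Nat.lor (Nat.lor (Nat.lor (Nat.lor (Nat.lor (Nat.lor (Nat.lor (Nat.lor (Nat.lor (Nat.lor (Nat.lor (Nat.lor (Nat.lor (Nat.lor (Nat.lor (Nat.lor (Nat.lor (Nat.lor (Nat.lor (Nat.lor (Nat.lor (0) (Nat.shiftLeft (Nat.land (Nat.shiftRight c 0) 15) 0)) (Nat.shiftLeft (Nat.land (Nat.shiftRight c 4) 15) 4)) (Nat.shiftLeft (Nat.land (Nat.shiftRight c 8) 15) 8)) (Nat.shiftLeft (Nat.land (Nat.shiftRight c 12) 15) 12)) (Nat.shiftLeft (Nat.land (Nat.shiftRight c 16) 15) 16)) (Nat.shiftLeft (Nat.land (Nat.shiftRight c 20) 15) 20)) (Nat.shiftLeft (Nat.land (Nat.shiftRight c 24) 15) 24)) (Nat.shiftLeft (Nat.land (Nat.shiftRight c 28) 15) 28)) (Nat.shiftLeft (Nat.land (Nat.shiftRight c 32) 15) 32)) (Nat.shiftLeft (Nat.land (Nat.shiftRight c 36) 15) 36)) (Nat.shiftLeft (Nat.land (Nat.shiftRight c 40) 15) 40)) (Nat.shiftLeft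 (Nat.land (Nat.shiftRight c 44) 15) 44)) (Nat.shiftLeft (Nat.land (Nat.shiftRight c 48) 15) 48)) (Nat.shiftLeft (Nat.land (Nat.shiftRight c 52) 15) 52)) (Nat.shiftLeft (Nat.land (Nat.shiftRight c 56) 15) 56)) (Nat.shiftLeft (Nat.land (Nat.shiftRight c 60) 15) 60)) (Nat.shiftLeft (Nat.land (Nat.shiftRight c 64) 15) 64)) (Nat.shiftLeft (Nat.land (Nat.shiftRight c 68) 15) 68)) (Nat.shiftLeft (Nat.land (Nat.shiftRight c 72) 15) 72)) (Nat.shiftLeft (Nat.land (Nat.shiftRight c 76) 15) 76)) (Nat.shiftLeft (Nat.land (Nat.shiftRight c 80) 15) 80)) (Nat.shiftLeft (Nat.land (Nat.shiftRight c 84) 15) 84)) (Nat.shiftLeft (Nat.land (Nat.shiftRight c 88) 15) 88)) (Nat.shiftLeft (Nat.land (Nat.shiftRight c 92) 15) 92)) 39623752821101152355727444096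

theorem co2A9_ok : AtomOK co2A9 := by
  have h : co2A9 = monoC [0, 1, 2, 3, 4, 5, 6, 7, 8, 9, 10, 11, 12, 13, 14, 15, 16, 17, 18, 19, 20, 21, 22, 23] 39623752821101152355727444096 := rfl
  rw [h]
  exact atomOK_mono (mask := 9564758) (by decide +kernel) (by decide +kernel) (by decide +kernel)

/-- atom -/
def co2A10 (c : ℕ) : ℕ := Nat.xor (Nat.lor (Nat.lor (Nat.lor (Nat.lor (Nat.lor (Nat.lor (Nat.lor (Nat.lor (Nat.lor (Nat.lor (Nat.lor (Nat.lor (Nat.lor (Nat.lor (Nat.lor (Nat.lor (Nat.lor (Nat.lor (Nat.lor (Nat.lor (Nat.lor (Nat.lor (Nat.lor (Nat.lor (0) (Nat.shiftLeft (Nat.land (Nat.shiftRight c 0) 15) 0)) (Nat.shiftLeft (Nat.land (Nat.shiftRight c 4) 15) 4)) (Nat.shiftLeft (Nat.land (Nat.shiftRight c 8) 15) 8)) (Nat.shiftLeft (Nat.land (Nat.shiftRight c 12) 15) 12)) (Nat.shiftLeft (Nat.land (Nat.shiftRight c 16) 15) 16)) (Nat.shiftLeft (Nat.land (Nat.shiftRight c 20)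 15) 20)) (Nat.shiftLeft (Nat.land (Nat.shiftRight c 24) 15) 24)) (Nat.shiftLeft (Nat.land (Nat.shiftRight c 28) 15) 28)) (Nat.shiftLeft (Nat.land (Nat.shiftRight c 32) 15) 32)) (Nat.shiftLeft (Nat.land (Nat.shiftRight c 36) 15) 36)) (Nat.shiftLeft (Nat.land (Nat.shiftRight c 40) 15) 40)) (Nat.shiftLeft (Nat.land (Nat.shiftRight c 44) 15) 44)) (Nat.shiftLeft (Nat.land (Nat.shiftRight c 48) 15) 48)) (Nat.shiftLeft (Nat.land (Nat.shiftRight c 52) 15) 52)) (Nat.shiftLeft (Nat.land (Nat.shiftRight c 56) 15) 56)) (Nat.shiftLeft (Nat.land (Nat.shiftRight c 60) 15) 60)) (Nat.shiftLeft (Nat.land (Nat.shiftRight c 64) 15) 64)) (Nat.shiftLeft (Nat.land (Nat.shiftRight c 68) 15) 68)) (Nat.shiftLeft (Nat.land (Nat.shiftRight c 72) 15) 72)) (Nat.shiftLeft (Nat.land (Nat.shiftRight c 76) 15) 76)) (Nat.shiftLeft (Nat.land (Nat.shiftRight c 80) 15) 80)) (Nat.shiftLeft (Nat.land (Nat.shiftRight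 c 84) 15) 84)) (Nat.shiftLeft (Nat.land (Nat.shiftRight c 88) 15) 88)) (Nat.shiftLeft (Nat.land (Nat.shiftRight c 92) 15) 92)) 39614726008309886419133270016

theorem co2A10_ok : AtomOK co2A10 := by
  have h : co2A10 = monoC [0, 1, 2, 3, 4, 5, 6, 7, 8, 9, 10, 11, 12, 13, 14, 15, 16, 17, 18, 19, 20, 21, 22, 23] 39614726008309886419133270016 := rfl
  rw [h]
  exact atomOK_mono (mask := 9394580) (by decide +kernel) (by decide +kernel) (by decide +kernel)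

/-- atom -/
def co2A11 (c : ℕ) : ℕ := Nat.xor (Nat.lor (Nat.lor (Nat.lor (Nat.lor (Nat.lor (Nat.lor (Nat.lor (Nat.lor (Nat.lor (Nat.lor (Nat.lor (Nat.lor (Nat.lor (Nat.lor (Nat.lor (Nat.lor (Nat.lor (Nat.lor (Nat.lor (Nat.lor (Nat.lor (Nat.lor (Nat.lor (Nat.lor (0) (Nat.shiftLeft (Nat.land (Nat.shiftRight c 0) 15) 0)) (Nat.shiftLeft (Nat.land (Nat.shiftRight c 4) 15) 4)) (Nat.shiftLeft (Nat.land (Nat.shiftRight c 8) 15) 8)) (Nat.shiftLeft (Nat.land (Nat.shiftRight c 12) 15) 12)) (Nat.shiftLeft (Nat.land (Nat.shiftRight c 16) 15) 16)) (Nat.shiftLeft (Nat.land (Nat.shiftRight c 20) 15) 20)) (Nat.shiftLeft (Nat.land (Nat.shiftRight c 24) 15) 24)) (Nat.shiftLeft (Nat.land (Nat.shiftRight c 28) 15) 28)) (Nat.shiftLeft (Nat.land (Nat.shiftRight c 32) 15) 32)) (Nat.shiftLeft (Nat.land (Nat.shiftRight c 36) 15) 36)) (Nat.shiftLeft (Nat.land (Nat.shiftRight c 40) 15) 40)) (Nat.shiftLeft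 (Nat.land (Nat.shiftRight c 44) 15) 44)) (Nat.shiftLeft (Nat.land (Nat.shiftRight c 48) 15) 48)) (Nat.shiftLeft (Nat.land (Nat.shiftRight c 52) 15) 52)) (Nat.shiftLeft (Nat.land (Nat.shiftRight c 56) 15) 56)) (Nat.shiftLeft (Nat.land (Nat.shiftRight c 60) 15) 60)) (Nat.shiftLeft (Nat.land (Nat.shiftRight c 64) 15) 64)) (Nat.shiftLeft (Nat.land (Nat.shiftRight c 68) 15) 68)) (Nat.shiftLeft (Nat.land (Nat.shiftRight c 72) 15) 72)) (Nat.shiftLeft (Nat.land (Nat.shiftRight c 76) 15) 76)) (Nat.shiftLeft (Nat.land (Nat.shiftRight c 80) 15) 80)) (Nat.shiftLeft (Nat.land (Nat.shiftRight c 84) 15) 84)) (Nat.shiftLeft (Nat.land (Nat.shiftRight c 88) 15) 88)) (Nat.shiftLeft (Nat.land (Nat.shiftRight c 92) 15) 92)) 604463488519903220074624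

theorem co2A11_ok : AtomOK co2A11 := by
  have h : co2A11 = monoC [0, 1, 2, 3, 4, 5, 6, 7, 8, 9, 10, 11, 12, 13, 14, 15, 16, 17, 18, 19, 20, 21, 22, 23] 604463488519903220074624 := rfl
  rw [h]
  exact atomOK_mono (mask := 545190) (by decide +kernel) (by decide +kernel) (by decide +kernel)

/-- atom -/
def co2A12 (c : ℕ) : ℕ := Nat.xor (Nat.lor (Nat.lor (Nat.lor (Nat.lor (Nat.lor (Nat.lor (Nat.lor (Nat.lor (Nat.lor (Nat.lor (Nat.lor (Nat.lor (Nat.lor (Nat.lor (Nat.lor (Nat.lor (Nat.lor (Nat.lor (Nat.lor (Nat.lor (Nat.lor (Nat.lor (Nat.lor (Nat.lor (0) (Nat.shiftLeft (Nat.land (Nat.shiftRight c 0) 15) 0)) (Nat.shiftLeft (Nat.land (Nat.shiftRight c 4) 15) 4)) (Nat.shiftLeft (Nat.land (Nat.shiftRight c 8) 15) 8)) (Nat.shiftLeft (Nat.land (Nat.shiftRight c 12) 15) 12)) (Nat.shiftLeft (Nat.land (Nat.shiftRight c 16) 15) 16)) (Nat.shiftLeft (Nat.land (Nat.shiftRight c 20) 15)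 20)) (Nat.shiftLeft (Nat.land (Nat.shiftRight c 24) 15) 24)) (Nat.shiftLeft (Nat.land (Nat.shiftRight c 28) 15) 28)) (Nat.shiftLeft (Nat.land (Nat.shiftRight c 32) 15) 32)) (Nat.shiftLeft (Nat.land (Nat.shiftRight c 36) 15) 36)) (Nat.shiftLeft (Nat.land (Nat.shiftRight c 40) 15) 40)) (Nat.shiftLeft (Nat.land (Nat.shiftRight c 44) 15) 44)) (Nat.shiftLeft (Nat.land (Nat.shiftRight c 48) 15) 48)) (Nat.shiftLeft (Nat.land (Nat.shiftRight c 52) 15) 52)) (Nat.shiftLeft (Nat.land (Nat.shiftRight c 56) 15) 56)) (Nat.shiftLeft (Nat.land (Nat.shiftRight c 60) 15) 60)) (Nat.shiftLeft (Nat.land (Nat.shiftRight c 64) 15) 64)) (Nat.shiftLeft (Nat.land (Nat.shiftRight c 68) 15) 68)) (Nat.shiftLeft (Nat.land (Nat.shiftRight c 72) 15) 72)) (Nat.shiftLeft (Nat.land (Nat.shiftRight c 76) 15) 76)) (Nat.shiftLeft (Nat.land (Nat.shiftRight c 80) 15) 80)) (Nat.shiftLeft (Nat.land (Nat.shiftRight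 c 84) 15) 84)) (Nat.shiftLeft (Nat.land (Nat.shiftRight c 88) 15) 88)) (Nat.shiftLeft (Nat.land (Nat.shiftRight c 92) 15) 92)) 148150554116118544384

theorem co2A12_ok : AtomOK co2A12 := by
  have h : co2A12 = monoC [0, 1, 2, 3, 4, 5, 6, 7, 8, 9, 10, 11, 12, 13, 14, 15, 16, 17, 18, 19, 20, 21, 22, 23] 148150554116118544384 := rfl
  rw [h]
  exact atomOK_mono (mask := 84464) (by decide +kernel) (by decide +kernel) (by decide +kernel)

/-- atom -/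
def co2A13 (c : ℕ) : ℕ := Nat.xor (Nat.lor (Nat.lor (Nat.lor (Nat.lor (Nat.lor (Nat.lor (Nat.lor (Nat.lor (Nat.lor (Nat.lor (Nat.lor (Nat.lor (Nat.lor (Nat.lor (Nat.lor (Nat.lor (Nat.lor (Nat.lor (Nat.lor (Nat.lor (Nat.lor (Nat.lor (Nat.lor (Nat.lor (0) (Nat.shiftLeft (Nat.land (Nat.shiftRight c 0) 15) 0)) (Nat.shiftLeft (Nat.land (Nat.shiftRight c 4) 15) 4)) (Nat.shiftLeft (Nat.land (Nat.shiftRight c 8) 15) 8)) (Nat.shiftLeft (Nat.land (Nat.shiftRight c 12) 15) 12)) (Nat.shiftLeft (Nat.land (Nat.shiftRight c 16) 15) 16)) (Nat.shiftLeft (Nat.land (Nat.shiftRight c 20) 15) 20)) (Nat.shiftLeft (Nat.land (Nat.shiftRight c 24) 15) 24)) (Nat.shiftLeft (Nat.land (Nat.shiftRight c 28) 15) 28)) (Nat.shiftLeft (Nat.land (Nat.shiftRight c 32) 15) 32)) (Nat.shiftLeft (Nat.land (Nat.shiftRight c 36) 15) 36)) (Nat.shiftLeft (Nat.land (Nat.shiftRight c 40) 15) 40)) (Nat.shiftLeft (Nat.land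 (Nat.shiftRight c 44) 15) 44)) (Nat.shiftLeft (Nat.land (Nat.shiftRight c 48) 15) 48)) (Nat.shiftLeft (Nat.land (Nat.shiftRight c 52) 15) 52)) (Nat.shiftLeft (Nat.land (Nat.shiftRight c 56) 15) 56)) (Nat.shiftLeft (Nat.land (Nat.shiftRight c 60) 15) 60)) (Nat.shiftLeft (Nat.land (Nat.shiftRight c 64) 15) 64)) (Nat.shiftLeft (Nat.land (Nat.shiftRight c 68) 15) 68)) (Nat.shiftLeft (Nat.land (Nat.shiftRight c 72) 15) 72)) (Nat.shiftLeft (Nat.land (Nat.shiftRight c 76) 15) 76)) (Nat.shiftLeft (Nat.land (Nat.shiftRight c 80) 15) 80)) (Nat.shiftLeft (Nat.land (Nat.shiftRight c 84) 15) 84)) (Nat.shiftLeft (Nat.land (Nat.shiftRight c 88) 15) 88)) (Nat.shiftLeft (Nat.land (Nat.shiftRight c 92) 15) 92)) 606833892882088458193024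

theorem co2A13_ok : AtomOK co2A13 := by
  have h : co2A13 = monoC [0, 1, 2, 3, 4, 5, 6, 7, 8, 9, 10, 11, 12, 13, 14, 15, 16, 17, 18, 19, 20, 21, 22, 23] 606833892882088458193024 := rfl
  rw [h]
  exact atomOK_mono (mask := 705094) (by decide +kernel) (by decide +kernel) (by decide +kernel)

/-- atom -/
def co2A14 (c : ℕ) : ℕ := Nat.xor (Nat.lor (Nat.lor (Nat.lor (Nat.lor (Nat.lor (Nat.lor (Nat.lor (Nat.lor (Nat.lor (Nat.lor (Nat.lor (Nat.lor (Nat.lor (Nat.lor (Nat.lor (Nat.lor (Nat.lor (Nat.lor (Nat.lor (Nat.lor (Nat.lor (Nat.lor (Nat.lor (Nat.lor (0) (Nat.shiftLeft (Nat.land (Nat.shiftRight c 0) 15) 0)) (Nat.shiftLeft (Nat.land (Nat.shiftRight c 4) 15) 4)) (Nat.shiftLeft (Nat.land (Nat.shiftRight c 8) 15) 8)) (Nat.shiftLeft (Nat.land (Nat.shiftRight c 12) 15) 12)) (Nat.shiftLeft (Nat.land (Nat.shiftRight c 16) 15) 16)) (Nat.shiftLeft (Nat.land (Nat.shiftRight c 20) 15)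 20)) (Nat.shiftLeft (Nat.land (Nat.shiftRight c 24) 15) 24)) (Nat.shiftLeft (Nat.land (Nat.shiftRight c 28) 15) 28)) (Nat.shiftLeft (Nat.land (Nat.shiftRight c 32) 15) 32)) (Nat.shiftLeft (Nat.land (Nat.shiftRight c 36) 15) 36)) (Nat.shiftLeft (Nat.land (Nat.shiftRight c 40) 15) 40)) (Nat.shiftLeft (Nat.land (Nat.shiftRight c 44) 15) 44)) (Nat.shiftLeft (Nat.land (Nat.shiftRight c 48) 15) 48)) (Nat.shiftLeft (Nat.land (Nat.shiftRight c 52) 15) 52)) (Nat.shiftLeft (Nat.land (Nat.shiftRight c 56) 15) 56)) (Nat.shiftLeft (Nat.land (Nat.shiftRight c 60) 15) 60)) (Nat.shiftLeft (Nat.land (Nat.shiftRight c 64) 15) 64)) (Nat.shiftLeft (Nat.land (Nat.shiftRight c 68) 15) 68)) (Nat.shiftLeft (Nat.land (Nat.shiftRight c 72) 15) 72)) (Nat.shiftLeft (Nat.land (Nat.shiftRight c 76) 15) 76)) (Nat.shiftLeft (Nat.land (Nat.shiftRight c 80) 15) 80)) (Nat.shiftLeft (Nat.land (Nat.shiftRight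 c 84) 15) 84)) (Nat.shiftLeft (Nat.land (Nat.shiftRight c 88) 15) 88)) (Nat.shiftLeft (Nat.land (Nat.shiftRight c 92) 15) 92)) 39614081257708770838467577984

theorem co2A14_ok : AtomOK co2A14 := by
  have h : co2A14 = monoC [0, 1, 2, 3, 4, 5, 6, 7, 8, 9, 10, 11, 12, 13, 14, 15, 16, 17, 18, 19, 20, 21, 22, 23] 39614081257708770838467577984 := rfl
  rw [h]
  exact atomOK_mono (mask := 8407702) (by decide +kernel) (by decide +kernel) (by decide +kernel)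

/-- atom -/
def co2A15 (c : ℕ) : ℕ := Nat.xor (Nat.lor (Nat.lor (Nat.lor (Nat.lor (Nat.lor (Nat.lor (Nat.lor (Nat.lor (Nat.lor (Nat.lor (Nat.lor (Nat.lor (Nat.lor (Nat.lor (Nat.lor (Nat.lor (Nat.lor (Nat.lor (Nat.lor (Nat.lor (Nat.lor (Nat.lor (Nat.lor (Nat.lor (0) (Nat.shiftLeft (Nat.land (Nat.shiftRight c 0) 15) 0)) (Nat.shiftLeft (Nat.land (Nat.shiftRight c 4) 15) 4)) (Nat.shiftLeft (Nat.land (Nat.shiftRight c 8) 15) 8)) (Nat.shiftLeft (Nat.land (Nat.shiftRight c 12) 15) 12)) (Nat.shiftLeft (Nat.land (Nat.shiftRight c 16) 15) 16)) (Nat.shiftLeft (Nat.land (Nat.shiftRight c 20) 15) 20)) (Nat.shiftLeft (Nat.land (Nat.shiftRight c 24) 15) 24)) (Nat.shiftLeft (Nat.land (Nat.shiftRight c 28) 15) 28)) (Nat.shiftLeft (Nat.land (Nat.shiftRight c 32) 15) 32)) (Nat.shiftLeft (Nat.land (Nat.shiftRight c 36) 15) 36)) (Nat.shiftLeft (Nat.land (Nat.shiftRight c 40) 15) 40)) (Nat.shiftLeft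 (Nat.land (Nat.shiftRight c 44) 15) 44)) (Nat.shiftLeft (Nat.land (Nat.shiftRight c 48) 15) 48)) (Nat.shiftLeft (Nat.land (Nat.shiftRight c 52) 15) 52)) (Nat.shiftLeft (Nat.land (Nat.shiftRight c 56) 15) 56)) (Nat.shiftLeft (Nat.land (Nat.shiftRight c 60) 15) 60)) (Nat.shiftLeft (Nat.land (Nat.shiftRight c 64) 15) 64)) (Nat.shiftLeft (Nat.land (Nat.shiftRight c 68) 15) 68)) (Nat.shiftLeft (Nat.land (Nat.shiftRight c 72) 15) 72)) (Nat.shiftLeft (Nat.land (Nat.shiftRight c 76) 15) 76)) (Nat.shiftLeft (Nat.land (Nat.shiftRight c 80) 15) 80)) (Nat.shiftLeft (Nat.land (Nat.shiftRight c 84) 15) 84)) (Nat.shiftLeft (Nat.land (Nat.shiftRight c 88) 15) 88)) (Nat.shiftLeft (Nat.land (Nat.shiftRight c 92) 15) 92)) 606824669659621557796864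

theorem co2A15_ok : AtomOK co2A15 := by
  have h : co2A15 = monoC [0, 1, 2, 3, 4, 5, 6, 7, 8, 9, 10, 11, 12, 13, 14, 15, 16, 17, 18, 19, 20, 21, 22, 23] 606824669659621557796864 := rfl
  rw [h]
  exact atomOK_mono (mask := 675712) (by decide +kernel) (by decide +kernel) (by decide +kernel)

/-- atom -/
def co2A16 (c : ℕ) : ℕ := Nat.xor (Nat.lor (Nat.lor (Nat.lor (Nat.lor (Nat.lor (Nat.lor (Nat.lor (Nat.lor (Nat.lor (Nat.lor (Nat.lor (Nat.lor (Nat.lor (Nat.lor (Nat.lor (Nat.lor (Nat.lor (Nat.lor (Nat.lor (Nat.lor (Nat.lor (Nat.lor (Nat.lor (Nat.lor (0) (Nat.shiftLeft (Nat.land (Nat.shiftRight c 0) 15) 0)) (Nat.shiftLeft (Nat.land (Nat.shiftRight c 4) 15) 4)) (Nat.shiftLeft (Nat.land (Nat.shiftRight c 8) 15) 8)) (Nat.shiftLeft (Nat.land (Nat.shiftRight c 12) 15) 12)) (Nat.shiftLeft (Nat.land (Nat.shiftRight c 16) 15) 16)) (Nat.shiftLeft (Nat.land (Nat.shiftRight c 20) 15)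 20)) (Nat.shiftLeft (Nat.land (Nat.shiftRight c 24) 15) 24)) (Nat.shiftLeft (Nat.land (Nat.shiftRight c 28) 15) 28)) (Nat.shiftLeft (Nat.land (Nat.shiftRight c 32) 15) 32)) (Nat.shiftLeft (Nat.land (Nat.shiftRight c 36) 15) 36)) (Nat.shiftLeft (Nat.land (Nat.shiftRight c 40) 15) 40)) (Nat.shiftLeft (Nat.land (Nat.shiftRight c 44) 15) 44)) (Nat.shiftLeft (Nat.land (Nat.shiftRight c 48) 15) 48)) (Nat.shiftLeft (Nat.land (Nat.shiftRight c 52) 15) 52)) (Nat.shiftLeft (Nat.land (Nat.shiftRight c 56) 15) 56)) (Nat.shiftLeft (Nat.land (Nat.shiftRight c 60) 15) 60)) (Nat.shiftLeft (Nat.land (Nat.shiftRight c 64) 15) 64)) (Nat.shiftLeft (Nat.land (Nat.shiftRight c 68) 15) 68)) (Nat.shiftLeft (Nat.land (Nat.shiftRight c 72) 15) 72)) (Nat.shiftLeft (Nat.land (Nat.shiftRight c 76) 15) 76)) (Nat.shiftLeft (Nat.land (Nat.shiftRight c 80) 15) 80)) (Nat.shiftLeft (Nat.land (Nat.shiftRight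 c 84) 15) 84)) (Nat.shiftLeft (Nat.land (Nat.shiftRight c 88) 15) 88)) (Nat.shiftLeft (Nat.land (Nat.shiftRight c 92) 15) 92)) 39614688081840108978789943296

theorem co2A16_ok : AtomOK co2A16 := by
  have h : co2A16 = monoC [0, 1, 2, 3, 4, 5, 6, 7, 8, 9, 10, 11, 12, 13, 14, 15, 16, 17, 18, 19, 20, 21, 22, 23] 39614688081840108978789943296 := rfl
  rw [h]
  exact atomOK_mono (mask := 9076308) (by decide +kernel) (by decide +kernel) (by decide +kernel)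

/-- atom -/
def co2A17 (c : ℕ) : ℕ := Nat.xor (Nat.lor (Nat.lor (Nat.lor (Nat.lor (Nat.lor (Nat.lor (Nat.lor (Nat.lor (Nat.lor (Nat.lor (Nat.lor (Nat.lor (Nat.lor (Nat.lor (Nat.lor (Nat.lor (Nat.lor (Nat.lor (Nat.lor (Nat.lor (Nat.lor (Nat.lor (Nat.lor (Nat.lor (0) (Nat.shiftLeft (Nat.land (Nat.shiftRight c 0) 15) 4)) (Nat.shiftLeft (Nat.land (Nat.shiftRight c 4) 15) 52)) (Nat.shiftLeft (Nat.land (Nat.shiftRight c 8) 15) 64)) (Nat.shiftLeft (Nat.land (Nat.shiftRight c 12) 15) 0)) (Nat.shiftLeft (Nat.land (Nat.shiftRight c 16) 15) 24)) (Nat.shiftLeft (Nat.land (Nat.shiftRight c 20) 15) 56)) (Nat.shiftLeft (Nat.land (Nat.shiftRight c 24) 15) 88)) (Nat.shiftLeft (Nat.land (Nat.shiftRight c 28) 15) 80)) (Nat.shiftLeft (Nat.land (Nat.shiftRight c 32) 15) 40)) (Nat.shiftLeft (Nat.land (Nat.shiftRight c 36) 15) 8)) (Nat.shiftLeft (Nat.land (Nat.shiftRight c 40) 15) 36)) (Nat.shiftLeft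 (Nat.land (Nat.shiftRight c 44) 15) 16)) (Nat.shiftLeft (Nat.land (Nat.shiftRight c 48) 15) 76)) (Nat.shiftLeft (Nat.land (Nat.shiftRight c 52) 15) 48)) (Nat.shiftLeft (Nat.land (Nat.shiftRight c 56) 15) 20)) (Nat.shiftLeft (Nat.land (Nat.shiftRight c 60) 15) 60)) (Nat.shiftLeft (Nat.land (Nat.shiftRight c 64) 15) 84)) (Nat.shiftLeft (Nat.land (Nat.shiftRight c 68) 15) 32)) (Nat.shiftLeft (Nat.land (Nat.shiftRight c 72) 15) 12)) (Nat.shiftLeft (Nat.land (Nat.shiftRight c 76) 15) 28)) (Nat.shiftLeft (Nat.land (Nat.shiftRight c 80) 15) 44)) (Nat.shiftLeft (Nat.land (Nat.shiftRight c 84) 15) 68)) (Nat.shiftLeft (Nat.land (Nat.shiftRight c 88) 15) 92)) (Nat.shiftLeft (Nat.land (Nat.shiftRight c 92) 15) 72)) 0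

theorem co2A17_ok : AtomOK co2A17 := by
  have h : co2A17 = monoC [1, 13, 16, 0, 6, 14, 22, 20, 10, 2, 9, 4, 19, 12, 5, 15, 21, 8, 3, 7, 11, 17, 23, 18] 0 := rfl
  rw [h]
  exact atomOK_mono (mask := 0) (by decide +kernel) (by decide +kernel) (by decide +kernel)

/-- atom -/
def co2A19 (c : ℕ) : ℕ := Nat.xor (Nat.lor (Nat.lor (Nat.lor (Nat.lor (Nat.lor (Nat.lor (Nat.lor (Nat.lor (Nat.lor (Nat.lor (Nat.lor (Nat.lor (Nat.lor (Nat.lor (Nat.lor (Nat.lor (Nat.lor (Nat.lor (Nat.lor (Nat.lor (Nat.lor (Nat.lor (Nat.lor (Nat.lor (0) (Nat.shiftLeft (Nat.land (Nat.shiftRight c 0) 15) 64)) (Nat.shiftLeft (Nat.land (Nat.shiftRight c 4) 15) 88)) (Nat.shiftLeft (Nat.land (Nat.shiftRight c 8) 15) 12)) (Nat.shiftLeft (Nat.land (Nat.shiftRight c 12) 15) 0)) (Nat.shiftLeft (Nat.land (Nat.shiftRight c 16) 15) 8)) (Nat.shiftLeft (Nat.land (Nat.shiftRight c 20) 15) 20)) (Nat.shiftLeft (Nat.land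 (Nat.shiftRight c 24) 15) 76)) (Nat.shiftLeft (Nat.land (Nat.shiftRight c 28) 15) 68)) (Nat.shiftLeft (Nat.land (Nat.shiftRight c 32) 15) 80)) (Nat.shiftLeft (Nat.land (Nat.shiftRight c 36) 15) 48)) (Nat.shiftLeft (Nat.land (Nat.shiftRight c 40) 15) 28)) (Nat.shiftLeft (Nat.land (Nat.shiftRight c 44) 15) 16)) (Nat.shiftLeft (Nat.land (Nat.shiftRight c 48) 15) 84)) (Nat.shiftLeft (Nat.land (Nat.shiftRight c 52) 15) 60)) (Nat.shiftLeft (Nat.land (Nat.shiftRight c 56) 15) 44)) (Nat.shiftLeft (Nat.land (Nat.shiftRight c 60) 15) 40)) (Nat.shiftLeft (Nat.land (Nat.shiftRight c 64) 15) 56)) (Nat.shiftLeft (Nat.land (Nat.shiftRight c 68) 15) 32)) (Nat.shiftLeft (Nat.land (Nat.shiftRight c 72) 15) 72)) (Nat.shiftLeft (Nat.land (Nat.shiftRight c 76) 15) 4)) (Nat.shiftLeft (Nat.land (Nat.shiftRight c 80) 15) 52)) (Nat.shiftLeft (Nat.land (Nat.shiftRight c 84) 15) 24)) (Nat.shiftLeft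 (Nat.land (Nat.shiftRight c 88) 15) 36)) (Nat.shiftLeft (Nat.land (Nat.shiftRight c 92) 15) 92)) 0

theorem co2A19_ok : AtomOK co2A19 := by
  have h : co2A19 = monoC [16, 22, 3, 0, 2, 5, 19, 17, 20, 12, 7, 4, 21, 15, 11, 10, 14, 8, 18, 1, 13, 6, 9, 23] 0 := rfl
  rw [h]
  exact atomOK_mono (mask := 0) (by decide +kernel) (by decide +kernel) (by decide +kernel)

/-- the atoms -/
def co2Atoms : List (ℕ → ℕ) := [co2A0, co2A1, co2A2, co2A3, co2A4, co2A5, co2A6, normC, co2A8, co2A9, co2A10, co2A11, co2A12, co2A13, co2A14, co2A15, co2A16, co2A17, xiC, co2A19]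

theorem co2Atoms_ok : ∀ a ∈ co2Atoms, AtomOK a := by
  intro a ha
  simp only [co2Atoms, List.mem_cons, List.not_mem_nil, or_false] at ha
  rcases ha with rfl | rfl | rfl | rfl | rfl | rfl | rfl | rfl | rfl | rfl | rfl | rfl | rfl | rfl | rfl | rfl | rfl | rfl | rfl | rfl
  · exact co2A0_ok
  · exact co2A1_ok
  · exact co2A2_ok
  · exact co2A3_ok
  · exact co2A4_ok
  · exact co2A5_ok
  · exact co2A6_ok
  · exact atomOK_normC
  · exact co2A8_ok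
  · exact co2A9_ok
  · exact co2A10_ok
  · exact co2A11_ok
  · exact co2A12_ok
  · exact co2A13_ok
  · exact co2A14_ok
  · exact co2A15_ok
  · exact co2A16_ok
  · exact co2A17_ok
  · exact atomOK_xi
  · exact co2A19_ok


/-- the words -/
def co2Words : List (List ℕ) := [[0], [1], [2], [3], [4], [5], [6, 7], [8, 7], [9, 7], [10, 7], [11, 7], [12, 7], [13, 7], [14, 7], [15, 7], [16, 7], [17, 18, 19, 7]]

/-- the fixed vector -/
def vC : ℕ := 16388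

theorem vC_mem : dv vC ∈ leechLattice := lchk_spec (by decide +kernel)

theorem co2_fix : checkFix co2Atoms co2Words [vC] = true := by decide +kernel

theorem hC_co2 (T : ℤ) : ∀ p ∈ [(vC, T)], p.1 ∈ [vC] ∧ dv p.1 ∈ leechLattice := by
  intro p hp
  simp only [List.mem_singleton] at hp
  subst hp
  exact ⟨by simp, vC_mem⟩

/-- the table of the vector -/
def vTb : List (ℕ × ℕ × ℕ) := [(0, 8, 0), (1, 4, 4), (2, 4, 4), (3, 8, 0), (4, 4, 4), (5, 4, 4), (6, 4, 4), (7, 4, 4), (8, 4, 4), (9, 4, 4), (10, 4, 4), (11, 4, 4), (12, 4, 4), (13, 4, 4), (14, 4, 4), (15, 4, 4), (16, 4, 4), (17, 4, 4), (18, 4, 4), (19, 4, 4), (20, 4, 4), (21, 4, 4), (22, 4, 4), (23, 4, 4)]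

theorem vTb_eq : tbOf (dv vC) 4 allP = vTb := by decide +kernel

theorem vC_bd : ∀ i, |dv vC i| ≤ ((4 : ℕ) : ℤ) := by decide +kernel

end Cfsg.Agent.Lib.LeechCo2
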