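/-
Certificates for the action of stabilisers in the automorphism group of the Leech lattice (LeechMcL).
-/
import Mathlib
import Cfsg.Prelude.Def_Sporadic_a
import Cfsg.Agent.Lib.LeechCert
import Cfsg.Agent.Lib.LeechCert2
import Cfsg.Agent.Lib.LeechCo3

set_option autoImplicit false
set_option maxHeartbeats 0
set_option linter.unusedSectionVars false
set_option linter.unusedSimpArgs false
set_option linter.unusedVariables false

namespace Cfsg.Agent.Lib.LeechMcL

open Cfsg Cfsg.Agent.Lib.GolayCode Cfsg.Agent.Lib.GolayFacts Cfsg.Agent.Lib.GolayPerm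
  Cfsg.Agent.Lib.LeechBase Cfsg.Agent.Lib.LeechCo Cfsg.Agent.Lib.LeechXi Cfsg.Agent.Lib.LeechOrb
  Cfsg.Agent.Lib.LeechCert 

open Cfsg.Agent.Lib.LeechCo3

/-- atom -/
def mcA0 (c : ℕ) : ℕ := Nat.xor (Nat.lor (Nat.lor (Nat.lor (Nat.lor (Nat.lor (Nat.lor (Nat.lor (Nat.lor (Nat.lor (Nat.lor (Nat.lor (Nat.lor (Nat.lor (Nat.lor (Nat.lor (Nat.lor (Nat.lor (Nat.lor (Nat.lor (Nat.lor (Nat.lor (Nat.lor (Nat.lor (Nat.lor (0) (Nat.shiftLeft (Nat.land (Nat.shiftRight c 0) 15) 0)) (Nat.shiftLeft (Nat.land (Nat.shiftRight c 4) 15) 52)) (Nat.shiftLeft (Nat.land (Nat.shiftRight c 8) 15) 88)) (Nat.shiftLeft (Nat.land (Nat.shiftRight c 12) 15) 12)) (Nat.shiftLeft (Nat.land (Nat.shiftRight c 16) 15) 36)) (Nat.shiftLeft (Nat.land (Nat.shiftRight c 20) 15) 56)) (Nat.shiftLeft (Nat.land (Nat.shiftRight c 24) 15) 16)) (Nat.shiftLeft (Nat.land (Nat.shiftRight c 28) 15) 92)) (Nat.shiftLeft (Nat.land (Nat.shiftRight c 32) 15) 24)) (Nat.shiftLeft (Nat.land (Nat.shiftRight c 36) 15) 44)) (Nat.shiftLeft (Nat.land (Nat.shiftRight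 c 40) 15) 68)) (Nat.shiftLeft (Nat.land (Nat.shiftRight c 44) 15) 40)) (Nat.shiftLeft (Nat.land (Nat.shiftRight c 48) 15) 80)) (Nat.shiftLeft (Nat.land (Nat.shiftRight c 52) 15) 76)) (Nat.shiftLeft (Nat.land (Nat.shiftRight c 56) 15) 32)) (Nat.shiftLeft (Nat.land (Nat.shiftRight c 60) 15) 72)) (Nat.shiftLeft (Nat.land (Nat.shiftRight c 64) 15) 60)) (Nat.shiftLeft (Nat.land (Nat.shiftRight c 68) 15) 48)) (Nat.shiftLeft (Nat.land (Nat.shiftRight c 72) 15) 28)) (Nat.shiftLeft (Nat.land (Nat.shiftRight c 76) 15) 64)) (Nat.shiftLeft (Nat.land (Nat.shiftRight c 80) 15) 20)) (Nat.shiftLeft (Nat.land (Nat.shiftRight c 84) 15) 4)) (Nat.shiftLeft (Nat.land (Nat.shiftRight c 88) 15) 84)) (Nat.shiftLeft (Nat.land (Nat.shiftRight c 92) 15) 8)) 0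

theorem mcA0_ok : AtomOK mcA0 := by
  have h : mcA0 = monoC [0, 13, 22, 3, 9, 14, 4, 23, 6, 11, 17, 10, 20, 19, 8, 18, 15, 12, 7, 16, 5, 1, 21, 2] 0 := rfl
  rw [h]
  exact atomOK_mono (mask := 0) (by decide +kernel) (by decide +kernel) (by decide +kernel)

/-- atom -/
def mcA1 (c : ℕ) : ℕ := Nat.xor (Nat.lor (Nat.lor (Nat.lor (Nat.lor (Nat.lor (Nat.lor (Nat.lor (Nat.lor (Nat.lor (Nat.lor (Nat.lor (Nat.lor (Nat.lor (Nat.lor (Nat.lor (Nat.lor (Nat.lor (Nat.lor (Nat.lor (Nat.lor (Nat.lor (Nat.lor (Nat.lor (Nat.lor (0) (Nat.shiftLeft (Nat.land (Nat.shiftRight c 0) 15) 0)) (Nat.shiftLeft (Nat.land (Nat.shiftRight c 4) 15) 20)) (Nat.shiftLeft (Nat.land (Nat.shiftRight c 8) 15) 4)) (Nat.shiftLeft (Nat.land (Nat.shiftRight c 12) 15) 12)) (Nat.shiftLeft (Nat.land (Nat.shiftRight c 16) 15) 88)) (Nat.shiftLeft (Nat.land (Nat.shiftRight c 20) 15) 92)) (Nat.shiftLeft (Nat.land (Nat.shiftRight c 24) 15) 64)) (Nat.shiftLeft (Nat.land (Nat.shiftRight c 28) 15) 28)) (Nat.shiftLeft (Nat.land (Nat.shiftRight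 c 32) 15) 36)) (Nat.shiftLeft (Nat.land (Nat.shiftRight c 36) 15) 24)) (Nat.shiftLeft (Nat.land (Nat.shiftRight c 40) 15) 52)) (Nat.shiftLeft (Nat.land (Nat.shiftRight c 44) 15) 16)) (Nat.shiftLeft (Nat.land (Nat.shiftRight c 48) 15) 76)) (Nat.shiftLeft (Nat.land (Nat.shiftRight c 52) 15) 40)) (Nat.shiftLeft (Nat.land (Nat.shiftRight c 56) 15) 68)) (Nat.shiftLeft (Nat.land (Nat.shiftRight c 60) 15) 48)) (Nat.shiftLeft (Nat.land (Nat.shiftRight c 64) 15) 32)) (Nat.shiftLeft (Nat.land (Nat.shiftRight c 68) 15) 56)) (Nat.shiftLeft (Nat.land (Nat.shiftRight c 72) 15) 72)) (Nat.shiftLeft (Nat.land (Nat.shiftRight c 76) 15) 80)) (Nat.shiftLeft (Nat.land (Nat.shiftRight c 80) 15) 60)) (Nat.shiftLeft (Nat.land (Nat.shiftRight c 84) 15) 44)) (Nat.shiftLeft (Nat.land (Nat.shiftRight c 88) 15) 84)) (Nat.shiftLeft (Nat.land (Nat.shiftRight c 92) 15) 8)) 0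

theorem mcA1_ok : AtomOK mcA1 := by
  have h : mcA1 = monoC [0, 5, 1, 3, 22, 23, 16, 7, 9, 6, 13, 4, 19, 10, 17, 12, 8, 14, 18, 20, 15, 11, 21, 2] 0 := rfl
  rw [h]
  exact atomOK_mono (mask := 0) (by decide +kernel) (by decide +kernel) (by decide +kernel)

/-- atom -/
def mcA2 (c : ℕ) : ℕ := Nat.xor (Nat.lor (Nat.lor (Nat.lor (Nat.lor (Nat.lor (Nat.lor (Nat.lor (Nat.lor (Nat.lor (Nat.lor (Nat.lor (Nat.lor (Nat.lor (Nat.lor (Nat.lor (Nat.lor (Nat.lor (Nat.lor (Nat.lor (Nat.lor (Nat.lor (Nat.lor (Nat.lor (Nat.lor (0) (Nat.shiftLeft (Nat.land (Nat.shiftRight c 0) 15) 0)) (Nat.shiftLeft (Nat.land (Nat.shiftRight c 4) 15) 76)) (Nat.shiftLeft (Nat.land (Nat.shiftRight c 8) 15) 92)) (Nat.shiftLeft (Nat.land (Nat.shiftRight c 12) 15) 12)) (Nat.shiftLeft (Nat.land (Nat.shiftRight c 16) 15) 32)) (Nat.shiftLeft (Nat.land (Nat.shiftRight c 20) 15) 36)) (Nat.shiftLeft (Nat.land (Nat.shiftRight c 24) 15) 44)) (Nat.shiftLeft (Nat.land (Nat.shiftRight c 28) 15) 48)) (Nat.shiftLeft (Nat.land (Nat.shiftRight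 c 32) 15) 40)) (Nat.shiftLeft (Nat.land (Nat.shiftRight c 36) 15) 4)) (Nat.shiftLeft (Nat.land (Nat.shiftRight c 40) 15) 28)) (Nat.shiftLeft (Nat.land (Nat.shiftRight c 44) 15) 80)) (Nat.shiftLeft (Nat.land (Nat.shiftRight c 48) 15) 68)) (Nat.shiftLeft (Nat.land (Nat.shiftRight c 52) 15) 64)) (Nat.shiftLeft (Nat.land (Nat.shiftRight c 56) 15) 60)) (Nat.shiftLeft (Nat.land (Nat.shiftRight c 60) 15) 8)) (Nat.shiftLeft (Nat.land (Nat.shiftRight c 64) 15) 72)) (Nat.shiftLeft (Nat.land (Nat.shiftRight c 68) 15) 20)) (Nat.shiftLeft (Nat.land (Nat.shiftRight c 72) 15) 56)) (Nat.shiftLeft (Nat.land (Nat.shiftRight c 76) 15) 88)) (Nat.shiftLeft (Nat.land (Nat.shiftRight c 80) 15) 84)) (Nat.shiftLeft (Nat.land (Nat.shiftRight c 84) 15) 52)) (Nat.shiftLeft (Nat.land (Nat.shiftRight c 88) 15) 16)) (Nat.shiftLeft (Nat.land (Nat.shiftRight c 92) 15) 24)) 0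

theorem mcA2_ok : AtomOK mcA2 := by
  have h : mcA2 = monoC [0, 19, 23, 3, 8, 9, 11, 12, 10, 1, 7, 20, 17, 16, 15, 2, 18, 5, 14, 22, 21, 13, 4, 6] 0 := rfl
  rw [h]
  exact atomOK_mono (mask := 0) (by decide +kernel) (by decide +kernel) (by decide +kernel)

/-- atom -/
def mcA3 (c : ℕ) : ℕ := Nat.xor (Nat.lor (Nat.lor (Nat.lor (Nat.lor (Nat.lor (Nat.lor (Nat.lor (Nat.lor (Nat.lor (Nat.lor (Nat.lor (Nat.lor (Nat.lor (Nat.lor (Nat.lor (Nat.lor (Nat.lor (Nat.lor (Nat.lor (Nat.lor (Nat.lor (Nat.lor (Nat.lor (Nat.lor (0) (Nat.shiftLeft (Nat.land (Nat.shiftRight c 0) 15) 0)) (Nat.shiftLeft (Nat.land (Nat.shiftRight c 4) 15) 24)) (Nat.shiftLeft (Nat.land (Nat.shiftRight c 8) 15) 60)) (Nat.shiftLeft (Nat.land (Nat.shiftRight c 12) 15) 12)) (Nat.shiftLeft (Nat.land (Nat.shiftRight c 16) 15) 48)) (Nat.shiftLeft (Nat.land (Nat.shiftRight c 20) 15) 72)) (Nat.shiftLeft (Nat.land (Nat.shiftRight c 24) 15) 76)) (Nat.shiftLeft (Nat.land (Nat.shiftRight c 28) 15) 16)) (Nat.shiftLeft (Nat.land (Nat.shiftRight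 c 32) 15) 84)) (Nat.shiftLeft (Nat.land (Nat.shiftRight c 36) 15) 92)) (Nat.shiftLeft (Nat.land (Nat.shiftRight c 40) 15) 32)) (Nat.shiftLeft (Nat.land (Nat.shiftRight c 44) 15) 20)) (Nat.shiftLeft (Nat.land (Nat.shiftRight c 48) 15) 44)) (Nat.shiftLeft (Nat.land (Nat.shiftRight c 52) 15) 80)) (Nat.shiftLeft (Nat.land (Nat.shiftRight c 56) 15) 64)) (Nat.shiftLeft (Nat.land (Nat.shiftRight c 60) 15) 8)) (Nat.shiftLeft (Nat.land (Nat.shiftRight c 64) 15) 56)) (Nat.shiftLeft (Nat.land (Nat.shiftRight c 68) 15) 52)) (Nat.shiftLeft (Nat.land (Nat.shiftRight c 72) 15) 28)) (Nat.shiftLeft (Nat.land (Nat.shiftRight c 76) 15) 40)) (Nat.shiftLeft (Nat.land (Nat.shiftRight c 80) 15) 68)) (Nat.shiftLeft (Nat.land (Nat.shiftRight c 84) 15) 4)) (Nat.shiftLeft (Nat.land (Nat.shiftRight c 88) 15) 36)) (Nat.shiftLeft (Nat.land (Nat.shiftRight c 92) 15) 88)) 0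

theorem mcA3_ok : AtomOK mcA3 := by
  have h : mcA3 = monoC [0, 6, 15, 3, 12, 18, 19, 4, 21, 23, 8, 5, 11, 20, 16, 2, 14, 13, 7, 10, 17, 1, 9, 22] 0 := rfl
  rw [h]
  exact atomOK_mono (mask := 0) (by decide +kernel) (by decide +kernel) (by decide +kernel)

/-- atom -/
def mcA4 (c : ℕ) : ℕ := Nat.xor (Nat.lor (Nat.lor (Nat.lor (Nat.lor (Nat.lor (Nat.lor (Nat.lor (Nat.lor (Nat.lor (Nat.lor (Nat.lor (Nat.lor (Nat.lor (Nat.lor (Nat.lor (Nat.lor (Nat.lor (Nat.lor (Nat.lor (Nat.lor (Nat.lor (Nat.lor (Nat.lor (Nat.lor (0) (Nat.shiftLeft (Nat.land (Nat.shiftRight c 0) 15) 92)) (Nat.shiftLeft (Nat.land (Nat.shiftRight c 4) 15) 76)) (Nat.shiftLeft (Nat.land (Nat.shiftRight c 8) 15) 44)) (Nat.shiftLeft (Nat.land (Nat.shiftRight c 12) 15) 88)) (Nat.shiftLeft (Nat.land (Nat.shiftRight c 16) 15) 40)) (Nat.shiftLeft (Nat.land (Nat.shiftRight c 20) 15) 52)) (Nat.shiftLeft (Nat.land (Nat.shiftRight c 24) 15) 80)) (Nat.shiftLeft (Nat.land (Nat.shiftRight c 28) 15) 16)) (Nat.shiftLeft (Nat.land (Nat.shiftRight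 c 32) 15) 28)) (Nat.shiftLeft (Nat.land (Nat.shiftRight c 36) 15) 68)) (Nat.shiftLeft (Nat.land (Nat.shiftRight c 40) 15) 64)) (Nat.shiftLeft (Nat.land (Nat.shiftRight c 44) 15) 72)) (Nat.shiftLeft (Nat.land (Nat.shiftRight c 48) 15) 56)) (Nat.shiftLeft (Nat.land (Nat.shiftRight c 52) 15) 60)) (Nat.shiftLeft (Nat.land (Nat.shiftRight c 56) 15) 48)) (Nat.shiftLeft (Nat.land (Nat.shiftRight c 60) 15) 36)) (Nat.shiftLeft (Nat.land (Nat.shiftRight c 64) 15) 84)) (Nat.shiftLeft (Nat.land (Nat.shiftRight c 68) 15) 24)) (Nat.shiftLeft (Nat.land (Nat.shiftRight c 72) 15) 20)) (Nat.shiftLeft (Nat.land (Nat.shiftRight c 76) 15) 12)) (Nat.shiftLeft (Nat.land (Nat.shiftRight c 80) 15) 8)) (Nat.shiftLeft (Nat.land (Nat.shiftRight c 84) 15) 4)) (Nat.shiftLeft (Nat.land (Nat.shiftRight c 88) 15) 32)) (Nat.shiftLeft (Nat.land (Nat.shiftRight c 92) 15) 0)) 155349476615963268530864136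

theorem mcA4_ok : AtomOK mcA4 := by
  have h : mcA4 = monoC [23, 19, 11, 22, 10, 13, 20, 4, 7, 17, 16, 18, 14, 15, 12, 9, 21, 6, 5, 3, 2, 1, 8, 0] 155349476615963268530864136 := rfl
  rw [h]
  exact atomOK_mono (mask := 2831545) (by decide +kernel) (by decide +kernel) (by decide +kernel)

/-- atom -/
def mcA6 (c : ℕ) : ℕ := Nat.xor (Nat.lor (Nat.lor (Nat.lor (Nat.lor (Nat.lor (Nat.lor (Nat.lor (Nat.lor (Nat.lor (Nat.lor (Nat.lor (Nat.lor (Nat.lor (Nat.lor (Nat.lor (Nat.lor (Nat.lor (Nat.lor (Nat.lor (Nat.lor (Nat.lor (Nat.lor (Nat.lor (Nat.lor (0) (Nat.shiftLeft (Nat.land (Nat.shiftRight c 0) 15) 32)) (Nat.shiftLeft (Nat.land (Nat.shiftRight c 4) 15) 92)) (Nat.shiftLeft (Nat.land (Nat.shiftRight c 8) 15) 52)) (Nat.shiftLeft (Nat.land (Nat.shiftRight c 12) 15) 8)) (Nat.shiftLeft (Nat.land (Nat.shiftRight c 16) 15) 80)) (Nat.shiftLeft (Nat.land (Nat.shiftRight c 20) 15) 60)) (Nat.shiftLeft (Nat.land (Nat.shiftRight c 24) 15) 16)) (Nat.shiftLeft (Nat.land (Nat.shiftRight c 28) 15) 0)) (Nat.shiftLeft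 (Nat.land (Nat.shiftRight c 32) 15) 72)) (Nat.shiftLeft (Nat.land (Nat.shiftRight c 36) 15) 28)) (Nat.shiftLeft (Nat.land (Nat.shiftRight c 40) 15) 20)) (Nat.shiftLeft (Nat.land (Nat.shiftRight c 44) 15) 48)) (Nat.shiftLeft (Nat.land (Nat.shiftRight c 48) 15) 76)) (Nat.shiftLeft (Nat.land (Nat.shiftRight c 52) 15) 88)) (Nat.shiftLeft (Nat.land (Nat.shiftRight c 56) 15) 4)) (Nat.shiftLeft (Nat.land (Nat.shiftRight c 60) 15) 12)) (Nat.shiftLeft (Nat.land (Nat.shiftRight c 64) 15) 64)) (Nat.shiftLeft (Nat.land (Nat.shiftRight c 68) 15) 84)) (Nat.shiftLeft (Nat.land (Nat.shiftRight c 72) 15) 40)) (Nat.shiftLeft (Nat.land (Nat.shiftRight c 76) 15) 68)) (Nat.shiftLeft (Nat.land (Nat.shiftRight c 80) 15) 36)) (Nat.shiftLeft (Nat.land (Nat.shiftRight c 84) 15) 44)) (Nat.shiftLeft (Nat.land (Nat.shiftRight c 88) 15) 24)) (Nat.shiftLeft (Nat.land (Nat.shiftRight c 92) 15) 56)) 2640938749896615284330465408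

theorem mcA6_ok : AtomOK mcA6 := by
  have h : mcA6 = monoC [8, 23, 13, 2, 20, 15, 4, 0, 18, 7, 5, 12, 19, 22, 1, 3, 16, 21, 10, 17, 9, 11, 6, 14] 2640938749896615284330465408 := rfl
  rw [h]
  exact atomOK_mono (mask := 8364534) (by decide +kernel) (by decide +kernel) (by decide +kernel)

/-- atom -/
def mcA8 (c : ℕ) : ℕ := Nat.xor (Nat.lor (Nat.lor (Nat.lor (Nat.lor (Nat.lor (Nat.lor (Nat.lor (Nat.lor (Nat.lor (Nat.lor (Nat.lor (Nat.lor (Nat.lor (Nat.lor (Nat.lor (Nat.lor (Nat.lor (Nat.lor (Nat.lor (Nat.lor (Nat.lor (Nat.lor (Nat.lor (Nat.lor (0) (Nat.shiftLeft (Nat.land (Nat.shiftRight c 0) 15) 0)) (Nat.shiftLeft (Nat.land (Nat.shiftRight c 4) 15) 68)) (Nat.shiftLeft (Nat.land (Nat.shiftRight c 8) 15) 32)) (Nat.shiftLeft (Nat.land (Nat.shiftRight c 12) 15) 12)) (Nat.shiftLeft (Nat.land (Nat.shiftRight c 16) 15) 28)) (Nat.shiftLeft (Nat.land (Nat.shiftRight c 20) 15) 88)) (Nat.shiftLeft (Nat.land (Nat.shiftRight c 24) 15) 84)) (Nat.shiftLeft (Nat.land (Nat.shiftRight c 28) 15) 76)) (Nat.shiftLeft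 (Nat.land (Nat.shiftRight c 32) 15) 24)) (Nat.shiftLeft (Nat.land (Nat.shiftRight c 36) 15) 20)) (Nat.shiftLeft (Nat.land (Nat.shiftRight c 40) 15) 92)) (Nat.shiftLeft (Nat.land (Nat.shiftRight c 44) 15) 52)) (Nat.shiftLeft (Nat.land (Nat.shiftRight c 48) 15) 48)) (Nat.shiftLeft (Nat.land (Nat.shiftRight c 52) 15) 44)) (Nat.shiftLeft (Nat.land (Nat.shiftRight c 56) 15) 16)) (Nat.shiftLeft (Nat.land (Nat.shiftRight c 60) 15) 36)) (Nat.shiftLeft (Nat.land (Nat.shiftRight c 64) 15) 64)) (Nat.shiftLeft (Nat.land (Nat.shiftRight c 68) 15) 4)) (Nat.shiftLeft (Nat.land (Nat.shiftRight c 72) 15) 80)) (Nat.shiftLeft (Nat.land (Nat.shiftRight c 76) 15) 56)) (Nat.shiftLeft (Nat.land (Nat.shiftRight c 80) 15) 40)) (Nat.shiftLeft (Nat.land (Nat.shiftRight c 84) 15) 8)) (Nat.shiftLeft (Nat.land (Nat.shiftRight c 88) 15) 60)) (Nat.shiftLeft (Nat.land (Nat.shiftRight c 92) 15) 72)) 2631227047003870719926861824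

theorem mcA8_ok : AtomOK mcA8 := by
  have h : mcA8 = monoC [0, 17, 8, 3, 7, 22, 21, 19, 6, 5, 23, 13, 12, 11, 4, 9, 16, 1, 20, 14, 10, 2, 15, 18] 2631227047003870719926861824 := rfl
  rw [h]
  exact atomOK_mono (mask := 6842656) (by decide +kernel) (by decide +kernel) (by decide +kernel)

/-- atom -/
def mcA9 (c : ℕ) : ℕ := Nat.xor (Nat.lor (Nat.lor (Nat.lor (Nat.lor (Nat.lor (Nat.lor (Nat.lor (Nat.lor (Nat.lor (Nat.lor (Nat.lor (Nat.lor (Nat.lor (Nat.lor (Nat.lor (Nat.lor (Nat.lor (Nat.lor (Nat.lor (Nat.lor (Nat.lor (Nat.lor (Nat.lor (Nat.lor (0) (Nat.shiftLeft (Nat.land (Nat.shiftRight c 0) 15) 28)) (Nat.shiftLeft (Nat.land (Nat.shiftRight c 4) 15) 56)) (Nat.shiftLeft (Nat.land (Nat.shiftRight c 8) 15) 12)) (Nat.shiftLeft (Nat.land (Nat.shiftRight c 12) 15) 60)) (Nat.shiftLeft (Nat.land (Nat.shiftRight c 16) 15) 24)) (Nat.shiftLeft (Nat.land (Nat.shiftRight c 20) 15) 40)) (Nat.shiftLeft (Nat.land (Nat.shiftRight c 24) 15) 88)) (Nat.shiftLeft (Nat.land (Nat.shiftRight c 28) 15) 36)) (Nat.shiftLeft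 (Nat.land (Nat.shiftRight c 32) 15) 0)) (Nat.shiftLeft (Nat.land (Nat.shiftRight c 36) 15) 80)) (Nat.shiftLeft (Nat.land (Nat.shiftRight c 40) 15) 72)) (Nat.shiftLeft (Nat.land (Nat.shiftRight c 44) 15) 84)) (Nat.shiftLeft (Nat.land (Nat.shiftRight c 48) 15) 44)) (Nat.shiftLeft (Nat.land (Nat.shiftRight c 52) 15) 8)) (Nat.shiftLeft (Nat.land (Nat.shiftRight c 56) 15) 92)) (Nat.shiftLeft (Nat.land (Nat.shiftRight c 60) 15) 20)) (Nat.shiftLeft (Nat.land (Nat.shiftRight c 64) 15) 64)) (Nat.shiftLeft (Nat.land (Nat.shiftRight c 68) 15) 76)) (Nat.shiftLeft (Nat.land (Nat.shiftRight c 72) 15) 32)) (Nat.shiftLeft (Nat.land (Nat.shiftRight c 76) 15) 48)) (Nat.shiftLeft (Nat.land (Nat.shiftRight c 80) 15) 16)) (Nat.shiftLeft (Nat.land (Nat.shiftRight c 84) 15) 68)) (Nat.shiftLeft (Nat.land (Nat.shiftRight c 88) 15) 52)) (Nat.shiftLeft (Nat.land (Nat.shiftRight c 92) 15) 4)) 2476487050852512618372433928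

theorem mcA9_ok : AtomOK mcA9 := by
  have h : mcA9 = monoC [7, 14, 3, 15, 6, 10, 22, 9, 0, 20, 18, 21, 11, 2, 23, 5, 16, 19, 8, 12, 4, 17, 13, 1] 2476487050852512618372433928 := rfl
  rw [h]
  exact atomOK_mono (mask := 4945789) (by decide +kernel) (by decide +kernel) (by decide +kernel)

/-- atom -/
def mcA10 (c : ℕ) : ℕ := Nat.xor (Nat.lor (Nat.lor (Nat.lor (Nat.lor (Nat.lor (Nat.lor (Nat.lor (Nat.lor (Nat.lor (Nat.lor (Nat.lor (Nat.lor (Nat.lor (Nat.lor (Nat.lor (Nat.lor (Nat.lor (Nat.lor (Nat.lor (Nat.lor (Nat.lor (Nat.lor (Nat.lor (Nat.lor (0) (Nat.shiftLeft (Nat.land (Nat.shiftRight c 0) 15) 92)) (Nat.shiftLeft (Nat.land (Nat.shiftRight c 4) 15) 84)) (Nat.shiftLeft (Nat.land (Nat.shiftRight c 8) 15) 80)) (Nat.shiftLeft (Nat.land (Nat.shiftRight c 12) 15) 76)) (Nat.shiftLeft (Nat.land (Nat.shiftRight c 16) 15) 28)) (Nat.shiftLeft (Nat.land (Nat.shiftRight c 20) 15) 72)) (Nat.shiftLeft (Nat.land (Nat.shiftRight c 24) 15) 68)) (Nat.shiftLeft (Nat.land (Nat.shiftRight c 28) 15) 32)) (Nat.shiftLeft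 (Nat.land (Nat.shiftRight c 32) 15) 88)) (Nat.shiftLeft (Nat.land (Nat.shiftRight c 36) 15) 60)) (Nat.shiftLeft (Nat.land (Nat.shiftRight c 40) 15) 16)) (Nat.shiftLeft (Nat.land (Nat.shiftRight c 44) 15) 8)) (Nat.shiftLeft (Nat.land (Nat.shiftRight c 48) 15) 56)) (Nat.shiftLeft (Nat.land (Nat.shiftRight c 52) 15) 20)) (Nat.shiftLeft (Nat.land (Nat.shiftRight c 56) 15) 48)) (Nat.shiftLeft (Nat.land (Nat.shiftRight c 60) 15) 52)) (Nat.shiftLeft (Nat.land (Nat.shiftRight c 64) 15) 40)) (Nat.shiftLeft (Nat.land (Nat.shiftRight c 68) 15) 36)) (Nat.shiftLeft (Nat.land (Nat.shiftRight c 72) 15) 44)) (Nat.shiftLeft (Nat.land (Nat.shiftRight c 76) 15) 4)) (Nat.shiftLeft (Nat.land (Nat.shiftRight c 80) 15) 24)) (Nat.shiftLeft (Nat.land (Nat.shiftRight c 84) 15) 64)) (Nat.shiftLeft (Nat.land (Nat.shiftRight c 88) 15) 12)) (Nat.shiftLeft (Nat.land (Nat.shiftRight c 92) 15) 0)) 39614723647124261792865845376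

theorem mcA10_ok : AtomOK mcA10 := by
  have h : mcA10 = monoC [23, 21, 20, 19, 7, 18, 17, 8, 22, 15, 4, 2, 14, 5, 12, 13, 10, 9, 11, 1, 6, 16, 3, 0] 39614723647124261792865845376 := rfl
  rw [h]
  exact atomOK_mono (mask := 9258930) (by decide +kernel) (by decide +kernel) (by decide +kernel)

/-- atom -/
def mcA12 (c : ℕ) : ℕ := Nat.xor (Nat.lor (Nat.lor (Nat.lor (Nat.lor (Nat.lor (Nat.lor (Nat.lor (Nat.lor (Nat.lor (Nat.lor (Nat.lor (Nat.lor (Nat.lor (Nat.lor (Nat.lor (Nat.lor (Nat.lor (Nat.lor (Nat.lor (Nat.lor (Nat.lor (Nat.lor (Nat.lor (Nat.lor (0) (Nat.shiftLeft (Nat.land (Nat.shiftRight c 0) 15) 0)) (Nat.shiftLeft (Nat.land (Nat.shiftRight c 4) 15) 4)) (Nat.shiftLeft (Nat.land (Nat.shiftRight c 8) 15) 84)) (Nat.shiftLeft (Nat.land (Nat.shiftRight c 12) 15) 12)) (Nat.shiftLeft (Nat.land (Nat.shiftRight c 16) 15) 76)) (Nat.shiftLeft (Nat.land (Nat.shiftRight c 20) 15) 16)) (Nat.shiftLeft (Nat.land (Nat.shiftRight c 24) 15) 92)) (Nat.shiftLeft (Nat.land (Nat.shiftRight c 28) 15) 36)) (Nat.shiftLeft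 (Nat.land (Nat.shiftRight c 32) 15) 8)) (Nat.shiftLeft (Nat.land (Nat.shiftRight c 36) 15) 48)) (Nat.shiftLeft (Nat.land (Nat.shiftRight c 40) 15) 68)) (Nat.shiftLeft (Nat.land (Nat.shiftRight c 44) 15) 88)) (Nat.shiftLeft (Nat.land (Nat.shiftRight c 48) 15) 40)) (Nat.shiftLeft (Nat.land (Nat.shiftRight c 52) 15) 56)) (Nat.shiftLeft (Nat.land (Nat.shiftRight c 56) 15) 24)) (Nat.shiftLeft (Nat.land (Nat.shiftRight c 60) 15) 72)) (Nat.shiftLeft (Nat.land (Nat.shiftRight c 64) 15) 80)) (Nat.shiftLeft (Nat.land (Nat.shiftRight c 68) 15) 64)) (Nat.shiftLeft (Nat.land (Nat.shiftRight c 72) 15) 32)) (Nat.shiftLeft (Nat.land (Nat.shiftRight c 76) 15) 52)) (Nat.shiftLeft (Nat.land (Nat.shiftRight c 80) 15) 28)) (Nat.shiftLeft (Nat.land (Nat.shiftRight c 84) 15) 44)) (Nat.shiftLeft (Nat.land (Nat.shiftRight c 88) 15) 60)) (Nat.shiftLeft (Nat.land (Nat.shiftRight c 92) 15) 20)) 0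

theorem mcA12_ok : AtomOK mcA12 := by
  have h : mcA12 = monoC [0, 1, 21, 3, 19, 4, 23, 9, 2, 12, 17, 22, 10, 14, 6, 18, 20, 16, 8, 13, 7, 11, 15, 5] 0 := rfl
  rw [h]
  exact atomOK_mono (mask := 0) (by decide +kernel) (by decide +kernel) (by decide +kernel)

/-- atom -/
def mcA13 (c : ℕ) : ℕ := Nat.xor (Nat.lor (Nat.lor (Nat.lor (Nat.lor (Nat.lor (Nat.lor (Nat.lor (Nat.lor (Nat.lor (Nat.lor (Nat.lor (Nat.lor (Nat.lor (Nat.lor (Nat.lor (Nat.lor (Nat.lor (Nat.lor (Nat.lor (Nat.lor (Nat.lor (Nat.lor (Nat.lor (Nat.lor (0) (Nat.shiftLeft (Nat.land (Nat.shiftRight c 0) 15) 0)) (Nat.shiftLeft (Nat.land (Nat.shiftRight c 4) 15) 4)) (Nat.shiftLeft (Nat.land (Nat.shiftRight c 8) 15) 32)) (Nat.shiftLeft (Nat.land (Nat.shiftRight c 12) 15) 12)) (Nat.shiftLeft (Nat.land (Nat.shiftRight c 16) 15) 28)) (Nat.shiftLeft (Nat.land (Nat.shiftRight c 20) 15) 76)) (Nat.shiftLeft (Nat.land (Nat.shiftRight c 24) 15) 52)) (Nat.shiftLeft (Nat.land (Nat.shiftRight c 28) 15) 44)) (Nat.shiftLeft (Nat.land (Nat.shiftRight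 c 32) 15) 36)) (Nat.shiftLeft (Nat.land (Nat.shiftRight c 36) 15) 40)) (Nat.shiftLeft (Nat.land (Nat.shiftRight c 40) 15) 56)) (Nat.shiftLeft (Nat.land (Nat.shiftRight c 44) 15) 24)) (Nat.shiftLeft (Nat.land (Nat.shiftRight c 48) 15) 84)) (Nat.shiftLeft (Nat.land (Nat.shiftRight c 52) 15) 16)) (Nat.shiftLeft (Nat.land (Nat.shiftRight c 56) 15) 8)) (Nat.shiftLeft (Nat.land (Nat.shiftRight c 60) 15) 48)) (Nat.shiftLeft (Nat.land (Nat.shiftRight c 64) 15) 20)) (Nat.shiftLeft (Nat.land (Nat.shiftRight c 68) 15) 64)) (Nat.shiftLeft (Nat.land (Nat.shiftRight c 72) 15) 72)) (Nat.shiftLeft (Nat.land (Nat.shiftRight c 76) 15) 80)) (Nat.shiftLeft (Nat.land (Nat.shiftRight c 80) 15) 68)) (Nat.shiftLeft (Nat.land (Nat.shiftRight c 84) 15) 88)) (Nat.shiftLeft (Nat.land (Nat.shiftRight c 88) 15) 92)) (Nat.shiftLeft (Nat.land (Nat.shiftRight c 92) 15) 60)) 0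

theorem mcA13_ok : AtomOK mcA13 := by
  have h : mcA13 = monoC [0, 1, 8, 3, 7, 19, 13, 11, 9, 10, 14, 6, 21, 4, 2, 12, 5, 16, 18, 20, 17, 22, 23, 15] 0 := rfl
  rw [h]
  exact atomOK_mono (mask := 0) (by decide +kernel) (by decide +kernel) (by decide +kernel)

/-- atom -/
def mcA14 (c : ℕ) : ℕ := Nat.xor (Nat.lor (Nat.lor (Nat.lor (Nat.lor (Nat.lor (Nat.lor (Nat.lor (Nat.lor (Nat.lor (Nat.lor (Nat.lor (Nat.lor (Nat.lor (Nat.lor (Nat.lor (Nat.lor (Nat.lor (Nat.lor (Nat.lor (Nat.lor (Nat.lor (Nat.lor (Nat.lor (Nat.lor (0) (Nat.shiftLeft (Nat.land (Nat.shiftRight c 0) 15) 0)) (Nat.shiftLeft (Nat.land (Nat.shiftRight c 4) 15) 4)) (Nat.shiftLeft (Nat.land (Nat.shiftRight c 8) 15) 84)) (Nat.shiftLeft (Nat.land (Nat.shiftRight c 12) 15) 12)) (Nat.shiftLeft (Nat.land (Nat.shiftRight c 16) 15) 16)) (Nat.shiftLeft (Nat.land (Nat.shiftRight c 20) 15) 52)) (Nat.shiftLeft (Nat.land (Nat.shiftRight c 24) 15) 60)) (Nat.shiftLeft (Nat.land (Nat.shiftRight c 28) 15) 20)) (Nat.shiftLeft (Nat.land (Nat.shiftRight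 c 32) 15) 68)) (Nat.shiftLeft (Nat.land (Nat.shiftRight c 36) 15) 48)) (Nat.shiftLeft (Nat.land (Nat.shiftRight c 40) 15) 24)) (Nat.shiftLeft (Nat.land (Nat.shiftRight c 44) 15) 92)) (Nat.shiftLeft (Nat.land (Nat.shiftRight c 48) 15) 64)) (Nat.shiftLeft (Nat.land (Nat.shiftRight c 52) 15) 28)) (Nat.shiftLeft (Nat.land (Nat.shiftRight c 56) 15) 8)) (Nat.shiftLeft (Nat.land (Nat.shiftRight c 60) 15) 40)) (Nat.shiftLeft (Nat.land (Nat.shiftRight c 64) 15) 36)) (Nat.shiftLeft (Nat.land (Nat.shiftRight c 68) 15) 72)) (Nat.shiftLeft (Nat.land (Nat.shiftRight c 72) 15) 32)) (Nat.shiftLeft (Nat.land (Nat.shiftRight c 76) 15) 76)) (Nat.shiftLeft (Nat.land (Nat.shiftRight c 80) 15) 44)) (Nat.shiftLeft (Nat.land (Nat.shiftRight c 84) 15) 56)) (Nat.shiftLeft (Nat.land (Nat.shiftRight c 88) 15) 88)) (Nat.shiftLeft (Nat.land (Nat.shiftRight c 92) 15) 80)) 0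

theorem mcA14_ok : AtomOK mcA14 := by
  have h : mcA14 = monoC [0, 1, 21, 3, 4, 13, 15, 5, 17, 12, 6, 23, 16, 7, 2, 10, 9, 18, 8, 19, 11, 14, 22, 20] 0 := rfl
  rw [h]
  exact atomOK_mono (mask := 0) (by decide +kernel) (by decide +kernel) (by decide +kernel)

/-- atom -/
def mcA15 (c : ℕ) : ℕ := Nat.xor (Nat.lor (Nat.lor (Nat.lor (Nat.lor (Nat.lor (Nat.lor (Nat.lor (Nat.lor (Nat.lor (Nat.lor (Nat.lor (Nat.lor (Nat.lor (Nat.lor (Nat.lor (Nat.lor (Nat.lor (Nat.lor (Nat.lor (Nat.lor (Nat.lor (Nat.lor (Nat.lor (Nat.lor (0) (Nat.shiftLeft (Nat.land (Nat.shiftRight c 0) 15) 0)) (Nat.shiftLeft (Nat.land (Nat.shiftRight c 4) 15) 4)) (Nat.shiftLeft (Nat.land (Nat.shiftRight c 8) 15) 44)) (Nat.shiftLeft (Nat.land (Nat.shiftRight c 12) 15) 12)) (Nat.shiftLeft (Nat.land (Nat.shiftRight c 16) 15) 92)) (Nat.shiftLeft (Nat.land (Nat.shiftRight c 20) 15) 32)) (Nat.shiftLeft (Nat.land (Nat.shiftRight c 24) 15) 40)) (Nat.shiftLeft (Nat.land (Nat.shiftRight c 28) 15) 80)) (Nat.shiftLeft (Nat.land (Nat.shiftRight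 c 32) 15) 68)) (Nat.shiftLeft (Nat.land (Nat.shiftRight c 36) 15) 72)) (Nat.shiftLeft (Nat.land (Nat.shiftRight c 40) 15) 76)) (Nat.shiftLeft (Nat.land (Nat.shiftRight c 44) 15) 60)) (Nat.shiftLeft (Nat.land (Nat.shiftRight c 48) 15) 16)) (Nat.shiftLeft (Nat.land (Nat.shiftRight c 52) 15) 36)) (Nat.shiftLeft (Nat.land (Nat.shiftRight c 56) 15) 28)) (Nat.shiftLeft (Nat.land (Nat.shiftRight c 60) 15) 64)) (Nat.shiftLeft (Nat.land (Nat.shiftRight c 64) 15) 52)) (Nat.shiftLeft (Nat.land (Nat.shiftRight c 68) 15) 56)) (Nat.shiftLeft (Nat.land (Nat.shiftRight c 72) 15) 8)) (Nat.shiftLeft (Nat.land (Nat.shiftRight c 76) 15) 48)) (Nat.shiftLeft (Nat.land (Nat.shiftRight c 80) 15) 88)) (Nat.shiftLeft (Nat.land (Nat.shiftRight c 84) 15) 24)) (Nat.shiftLeft (Nat.land (Nat.shiftRight c 88) 15) 20)) (Nat.shiftLeft (Nat.land (Nat.shiftRight c 92) 15) 84)) 0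

theorem mcA15_ok : AtomOK mcA15 := by
  have h : mcA15 = monoC [0, 1, 11, 3, 23, 8, 10, 20, 17, 18, 19, 15, 4, 9, 7, 16, 13, 14, 2, 12, 22, 6, 5, 21] 0 := rfl
  rw [h]
  exact atomOK_mono (mask := 0) (by decide +kernel) (by decide +kernel) (by decide +kernel)

/-- atom -/
def mcA16 (c : ℕ) : ℕ := Nat.xor (Nat.lor (Nat.lor (Nat.lor (Nat.lor (Nat.lor (Nat.lor (Nat.lor (Nat.lor (Nat.lor (Nat.lor (Nat.lor (Nat.lor (Nat.lor (Nat.lor (Nat.lor (Nat.lor (Nat.lor (Nat.lor (Nat.lor (Nat.lor (Nat.lor (Nat.lor (Nat.lor (Nat.lor (0) (Nat.shiftLeft (Nat.land (Nat.shiftRight c 0) 15) 92)) (Nat.shiftLeft (Nat.land (Nat.shiftRight c 4) 15) 60)) (Nat.shiftLeft (Nat.land (Nat.shiftRight c 8) 15) 32)) (Nat.shiftLeft (Nat.land (Nat.shiftRight c 12) 15) 88)) (Nat.shiftLeft (Nat.land (Nat.shiftRight c 16) 15) 68)) (Nat.shiftLeft (Nat.land (Nat.shiftRight c 20) 15) 48)) (Nat.shiftLeft (Nat.land (Nat.shiftRight c 24) 15) 40)) (Nat.shiftLeft (Nat.land (Nat.shiftRight c 28) 15) 0)) (Nat.shiftLeft (Nat.land (Nat.shiftRight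 c 32) 15) 80)) (Nat.shiftLeft (Nat.land (Nat.shiftRight c 36) 15) 72)) (Nat.shiftLeft (Nat.land (Nat.shiftRight c 40) 15) 24)) (Nat.shiftLeft (Nat.land (Nat.shiftRight c 44) 15) 64)) (Nat.shiftLeft (Nat.land (Nat.shiftRight c 48) 15) 8)) (Nat.shiftLeft (Nat.land (Nat.shiftRight c 52) 15) 12)) (Nat.shiftLeft (Nat.land (Nat.shiftRight c 56) 15) 28)) (Nat.shiftLeft (Nat.land (Nat.shiftRight c 60) 15) 20)) (Nat.shiftLeft (Nat.land (Nat.shiftRight c 64) 15) 36)) (Nat.shiftLeft (Nat.land (Nat.shiftRight c 68) 15) 56)) (Nat.shiftLeft (Nat.land (Nat.shiftRight c 72) 15) 16)) (Nat.shiftLeft (Nat.land (Nat.shiftRight c 76) 15) 84)) (Nat.shiftLeft (Nat.land (Nat.shiftRight c 80) 15) 52)) (Nat.shiftLeft (Nat.land (Nat.shiftRight c 84) 15) 76)) (Nat.shiftLeft (Nat.land (Nat.shiftRight c 88) 15) 4)) (Nat.shiftLeft (Nat.land (Nat.shiftRight c 92) 15) 44)) 155349476615963268530864136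

theorem mcA16_ok : AtomOK mcA16 := by
  have h : mcA16 = monoC [23, 15, 8, 22, 17, 12, 10, 0, 20, 18, 6, 16, 2, 3, 7, 5, 9, 14, 4, 21, 13, 19, 1, 11] 155349476615963268530864136 := rfl
  rw [h]
  exact atomOK_mono (mask := 2831545) (by decide +kernel) (by decide +kernel) (by decide +kernel)

/-- atom -/
def mcA17 (c : ℕ) : ℕ := Nat.xor (Nat.lor (Nat.lor (Nat.lor (Nat.lor (Nat.lor (Nat.lor (Nat.lor (Nat.lor (Nat.lor (Nat.lor (Nat.lor (Nat.lor (Nat.lor (Nat.lor (Nat.lor (Nat.lor (Nat.lor (Nat.lor (Nat.lor (Nat.lor (Nat.lor (Nat.lor (Nat.lor (Nat.lor (0) (Nat.shiftLeft (Nat.land (Nat.shiftRight c 0) 15) 44)) (Nat.shiftLeft (Nat.land (Nat.shiftRight c 4) 15) 16)) (Nat.shiftLeft (Nat.land (Nat.shiftRight c 8) 15) 80)) (Nat.shiftLeft (Nat.land (Nat.shiftRight c 12) 15) 48)) (Nat.shiftLeft (Nat.land (Nat.shiftRight c 16) 15) 52)) (Nat.shiftLeft (Nat.land (Nat.shiftRight c 20) 15) 56)) (Nat.shiftLeft (Nat.land (Nat.shiftRight c 24) 15) 76)) (Nat.shiftLeft (Nat.land (Nat.shiftRight c 28) 15) 0)) (Nat.shiftLeft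 (Nat.land (Nat.shiftRight c 32) 15) 32)) (Nat.shiftLeft (Nat.land (Nat.shiftRight c 36) 15) 84)) (Nat.shiftLeft (Nat.land (Nat.shiftRight c 40) 15) 36)) (Nat.shiftLeft (Nat.land (Nat.shiftRight c 44) 15) 60)) (Nat.shiftLeft (Nat.land (Nat.shiftRight c 48) 15) 8)) (Nat.shiftLeft (Nat.land (Nat.shiftRight c 52) 15) 20)) (Nat.shiftLeft (Nat.land (Nat.shiftRight c 56) 15) 24)) (Nat.shiftLeft (Nat.land (Nat.shiftRight c 60) 15) 68)) (Nat.shiftLeft (Nat.land (Nat.shiftRight c 64) 15) 28)) (Nat.shiftLeft (Nat.land (Nat.shiftRight c 68) 15) 72)) (Nat.shiftLeft (Nat.land (Nat.shiftRight c 72) 15) 64)) (Nat.shiftLeft (Nat.land (Nat.shiftRight c 76) 15) 4)) (Nat.shiftLeft (Nat.land (Nat.shiftRight c 80) 15) 40)) (Nat.shiftLeft (Nat.land (Nat.shiftRight c 84) 15) 12)) (Nat.shiftLeft (Nat.land (Nat.shiftRight c 88) 15) 88)) (Nat.shiftLeft (Nat.land (Nat.shiftRight c 92) 15) 92)) 155387256086147666251614336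

theorem mcA17_ok : AtomOK mcA17 := by
  have h : mcA17 = monoC [11, 4, 20, 12, 13, 14, 19, 0, 8, 21, 9, 15, 2, 5, 6, 17, 7, 18, 16, 1, 10, 3, 22, 23] 155387256086147666251614336 := rfl
  rw [h]
  exact atomOK_mono (mask := 3100182) (by decide +kernel) (by decide +kernel) (by decide +kernel)

/-- atom -/
def mcA18 (c : ℕ) : ℕ := Nat.xor (Nat.lor (Nat.lor (Nat.lor (Nat.lor (Nat.lor (Nat.lor (Nat.lor (Nat.lor (Nat.lor (Nat.lor (Nat.lor (Nat.lor (Nat.lor (Nat.lor (Nat.lor (Nat.lor (Nat.lor (Nat.lor (Nat.lor (Nat.lor (Nat.lor (Nat.lor (Nat.lor (Nat.lor (0) (Nat.shiftLeft (Nat.land (Nat.shiftRight c 0) 15) 0)) (Nat.shiftLeft (Nat.land (Nat.shiftRight c 4) 15) 68)) (Nat.shiftLeft (Nat.land (Nat.shiftRight c 8) 15) 84)) (Nat.shiftLeft (Nat.land (Nat.shiftRight c 12) 15) 12)) (Nat.shiftLeft (Nat.land (Nat.shiftRight c 16) 15) 56)) (Nat.shiftLeft (Nat.land (Nat.shiftRight c 20) 15) 36)) (Nat.shiftLeft (Nat.land (Nat.shiftRight c 24) 15) 32)) (Nat.shiftLeft (Nat.land (Nat.shiftRight c 28) 15) 16)) (Nat.shiftLeft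 (Nat.land (Nat.shiftRight c 32) 15) 8)) (Nat.shiftLeft (Nat.land (Nat.shiftRight c 36) 15) 60)) (Nat.shiftLeft (Nat.land (Nat.shiftRight c 40) 15) 80)) (Nat.shiftLeft (Nat.land (Nat.shiftRight c 44) 15) 52)) (Nat.shiftLeft (Nat.land (Nat.shiftRight c 48) 15) 48)) (Nat.shiftLeft (Nat.land (Nat.shiftRight c 52) 15) 44)) (Nat.shiftLeft (Nat.land (Nat.shiftRight c 56) 15) 76)) (Nat.shiftLeft (Nat.land (Nat.shiftRight c 60) 15) 88)) (Nat.shiftLeft (Nat.land (Nat.shiftRight c 64) 15) 64)) (Nat.shiftLeft (Nat.land (Nat.shiftRight c 68) 15) 4)) (Nat.shiftLeft (Nat.land (Nat.shiftRight c 72) 15) 92)) (Nat.shiftLeft (Nat.land (Nat.shiftRight c 76) 15) 28)) (Nat.shiftLeft (Nat.land (Nat.shiftRight c 80) 15) 72)) (Nat.shiftLeft (Nat.land (Nat.shiftRight c 84) 15) 24)) (Nat.shiftLeft (Nat.land (Nat.shiftRight c 88) 15) 20)) (Nat.shiftLeft (Nat.land (Nat.shiftRight c 92) 15) 40)) 604462945977401140578304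

theorem mcA18_ok : AtomOK mcA18 := by
  have h : mcA18 = monoC [0, 17, 21, 3, 14, 9, 8, 4, 2, 15, 20, 13, 12, 11, 19, 22, 16, 1, 23, 7, 18, 6, 5, 10] 604462945977401140578304 := rfl
  rw [h]
  exact atomOK_mono (mask := 535268) (by decide +kernel) (by decide +kernel) (by decide +kernel)

/-- atom -/
def mcA19 (c : ℕ) : ℕ := Nat.xor (Nat.lor (Nat.lor (Nat.lor (Nat.lor (Nat.lor (Nat.lor (Nat.lor (Nat.lor (Nat.lor (Nat.lor (Nat.lor (Nat.lor (Nat.lor (Nat.lor (Nat.lor (Nat.lor (Nat.lor (Nat.lor (Nat.lor (Nat.lor (Nat.lor (Nat.lor (Nat.lor (Nat.lor (0) (Nat.shiftLeft (Nat.land (Nat.shiftRight c 0) 15) 28)) (Nat.shiftLeft (Nat.land (Nat.shiftRight c 4) 15) 88)) (Nat.shiftLeft (Nat.land (Nat.shiftRight c 8) 15) 48)) (Nat.shiftLeft (Nat.land (Nat.shiftRight c 12) 15) 52)) (Nat.shiftLeft (Nat.land (Nat.shiftRight c 16) 15) 72)) (Nat.shiftLeft (Nat.land (Nat.shiftRight c 20) 15) 60)) (Nat.shiftLeft (Nat.land (Nat.shiftRight c 24) 15) 40)) (Nat.shiftLeft (Nat.land (Nat.shiftRight c 28) 15) 56)) (Nat.shiftLeft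 (Nat.land (Nat.shiftRight c 32) 15) 8)) (Nat.shiftLeft (Nat.land (Nat.shiftRight c 36) 15) 64)) (Nat.shiftLeft (Nat.land (Nat.shiftRight c 40) 15) 24)) (Nat.shiftLeft (Nat.land (Nat.shiftRight c 44) 15) 92)) (Nat.shiftLeft (Nat.land (Nat.shiftRight c 48) 15) 20)) (Nat.shiftLeft (Nat.land (Nat.shiftRight c 52) 15) 80)) (Nat.shiftLeft (Nat.land (Nat.shiftRight c 56) 15) 68)) (Nat.shiftLeft (Nat.land (Nat.shiftRight c 60) 15) 4)) (Nat.shiftLeft (Nat.land (Nat.shiftRight c 64) 15) 44)) (Nat.shiftLeft (Nat.land (Nat.shiftRight c 68) 15) 16)) (Nat.shiftLeft (Nat.land (Nat.shiftRight c 72) 15) 36)) (Nat.shiftLeft (Nat.land (Nat.shiftRight c 76) 15) 84)) (Nat.shiftLeft (Nat.land (Nat.shiftRight c 80) 15) 32)) (Nat.shiftLeft (Nat.land (Nat.shiftRight c 84) 15) 76)) (Nat.shiftLeft (Nat.land (Nat.shiftRight c 88) 15) 12)) (Nat.shiftLeft (Nat.land (Nat.shiftRight c 92) 15) 0)) 165056163145262165465235456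

theorem mcA19_ok : AtomOK mcA19 := by
  have h : mcA19 = monoC [7, 22, 12, 13, 18, 15, 10, 14, 2, 16, 6, 23, 5, 20, 17, 1, 11, 4, 9, 21, 8, 19, 3, 0] 165056163145262165465235456 := rfl
  rw [h]
  exact atomOK_mono (mask := 3991792) (by decide +kernel) (by decide +kernel) (by decide +kernel)

/-- the atoms -/
def mcAtoms : List (ℕ → ℕ) := [mcA0, mcA1, mcA2, mcA3, mcA4, xiC, mcA6, xiC', mcA8, mcA9, mcA10, normC, mcA12, mcA13, mcA14, mcA15, mcA16, mcA17, mcA18, mcA19]

theorem mcAtoms_ok : ∀ a ∈ mcAtoms, AtomOK a := by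
  intro a ha
  simp only [mcAtoms, List.mem_cons, List.not_mem_nil, or_false] at ha
  rcases ha with rfl | rfl | rfl | rfl | rfl | rfl | rfl | rfl | rfl | rfl | rfl | rfl | rfl | rfl | rfl | rfl | rfl | rfl | rfl | rfl
  · exact mcA0_ok
  · exact mcA1_ok
  · exact mcA2_ok
  · exact mcA3_ok
  · exact mcA4_ok
  · exact atomOK_xi
  · exact mcA6_ok
  · exact atomOK_xi'
  · exact mcA8_ok
  · exact mcA9_ok
  · exact mcA10_ok
  · exact atomOK_normC
  · exact mcA12_ok
  · exact mcA13_ok
  · exact mcA14_ok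
  · exact mcA15_ok
  · exact mcA16_ok
  · exact mcA17_ok
  · exact mcA18_ok
  · exact mcA19_ok


/-- the words -/
def mcWords : List (List ℕ) := [[0], [1], [2], [3], [4, 5, 6, 7, 8, 5, 9, 7, 10, 11]]

/-- the third vector -/
def wC : ℕ := 5281877500950955839569596699

theorem wC_mem : dv wC ∈ leechLattice := lchk_spec (by decide +kernel)

theorem r552_mem : dv r552 ∈ leechLattice := lchk_spec (by decide +kernel)

theorem mc_fix : checkFix mcAtoms mcWords [uC, r552, wC] = true := by decide +kernel

theorem L552_props : L552.Nodup ∧ L552.length = 552 ∧ ∀ c ∈ L552, c = normC c ∧ FR [uC] (dv r552) (dv c) :=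
  list_props co3Atoms_ok co3_fix (by decide +kernel) r552_mem (by norm_num) L552_ok

theorem card275 : (SS ([(uC, 24)] ++ [(r552, 16)])).ncard = 275 :=
  ncard_filter cover552.1 L552_props.1 (fun c hc => (L552_props.2.2 c hc).1) (k := 1) (by decide +kernel)

theorem hCm {T T' : ℤ} : ∀ p ∈ [(uC, T), (r552, T')], p.1 ∈ [uC, r552, wC] ∧ dv p.1 ∈ leechLattice := by
  intro p hp
  simp only [List.mem_cons, List.not_mem_nil, or_false] at hp
  rcases hp with rfl | rfl
  · exact ⟨by simp, uC_mem⟩
  · exact ⟨by simp, r552_mem⟩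

/-- the base point -/
def r275 : ℕ := 16448

theorem r275_mem : dv r275 ∈ leechLattice := lchk_spec (by decide +kernel)

/-- the list -/
def L275 : List ℕ := runM (genW mcAtoms mcWords) 1 0x200630000200442200000048400083000040042200080180041046000040090002006000840010230000218040008220000400c8018002004211000000c02004800100218001090000008009003200040080118000188011000400c2309400180040900018c0020060004400880000004000830006010801200001900018c600100008c02000611100000044000800046010c800000310021180040006200080184400100008c001880108c000004008c00010801848000044000801802300080088002046000001200440008010023000801880000c8018440000801880108800000240000220023000801802200080084800008000c02180041100020060010031000408c0020003180420000400c801804000421180001900000c600084300800008600844000080090002006010023000021800210003004220008001003008600100200421084a000c80004600100300441 r275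

theorem L275_ok : checkDistinct 1 275 L275 = true := by decide +kernel

theorem cover275 : SS [(uC, 24), (r552, 16)] = dv '' {c | c ∈ L275} ∧
    ∀ x ∈ SS [(uC, 24), (r552, 16)], FR [uC, r552, wC] (dv r275) x :=
  orbit_cover mcAtoms_ok mc_fix hCm (by decide +kernel) (by decide +kernel) card275 (by norm_num) L275_ok

theorem L275_props : L275.Nodup ∧ L275.length = 275 ∧ ∀ c ∈ L275, c = normC c ∧ FR [uC, r552, wC] (dv r275) (dv c) :=
  list_props mcAtoms_ok mc_fix (by decide +kernel) r275_mem (by norm_num) L275_ok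

theorem L275_dots : L275.all (fun c => Nat.beq c r275 || decide (dotZ r275 c = 8) || decide (dotZ r275 c = 16)) = true := by
  decide +kernel

/-- the words of the stabiliser -/
def ucWords : List (List ℕ) := [[12], [13], [14], [15], [16, 5, 6, 7, 8, 5, 9, 7, 17, 5, 6, 7, 18, 5, 9, 7, 19, 11]]

theorem uc_fix : checkFix mcAtoms ucWords [uC, r552, r275] = true := by decide +kernel

theorem card112 : (SS ([(uC, 24), (r552, 16)] ++ [(r275, 8)])).ncard = 112 :=
  ncard_filter cover275.1 L275_props.1 (fun c hc => (L275_props.2.2 c hc).1) (k := 1) (by decide +kernel)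

theorem card162 : (SS ([(uC, 24), (r552, 16)] ++ [(r275, 16)])).ncard = 162 :=
  ncard_filter cover275.1 L275_props.1 (fun c hc => (L275_props.2.2 c hc).1) (k := 1) (by decide +kernel)

theorem hCu {T T' T'' : ℤ} : ∀ p ∈ [(uC, T), (r552, T'), (r275, T'')], p.1 ∈ [uC, r552, r275] ∧ dv p.1 ∈ leechLattice := by
  intro p hp
  simp only [List.mem_cons, List.not_mem_nil, or_false] at hp
  rcases hp with rfl | rfl | rfl
  · exact ⟨by simp, uC_mem⟩
  · exact ⟨by simp, r552_mem⟩
  · exact ⟨by simp, r275_mem⟩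

/-- the base point -/
def r112 : ℕ := 7912537863364260679266677137

/-- the list -/
def L112 : List ℕ := runM (genW mcAtoms ucWords) 1 0x10001888000064000022004008c0018042000800846001000010800046000c4008c000044200080180020044008440000030088008c002000400c60010021000400c2209400010032000300860010031000400c00208240000300480010021800310c000048000c6001002108000008400c800008400c6001002100001100010023000801080018421 r112

theorem L112_ok : checkDistinct 1 112 L112 = true := by decide +kernel

theorem cover112 : ∀ x ∈ SS [(uC, 24), (r552, 16), (r275, 8)], FR [uC, r552, r275] (dv r112) x :=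
  (orbit_cover mcAtoms_ok uc_fix hCu (by decide +kernel) (by decide +kernel) card112 (by norm_num) L112_ok).2

/-- the base point -/
def r162 : ℕ := 17408

/-- the list -/
def L162 : List ℕ := runM (genW mcAtoms ucWords) 1 0x800100218024000801800110c00200601002200003200600080110002084800008009000008830006000c42000211800000c012000400c021800200424000032004300002200040084000c0208800200600044001003008010844000004004800100110004004240000400c0010480010011800400c021000408c0000c0220003000420046001042000040004210000088210940020003190000046001001108000100220004180000000300480010030008200460000801100020c0020042000410944009041 r162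

theorem L162_ok : checkDistinct 1 162 L162 = true := by decide +kernel

theorem cover162 : ∀ x ∈ SS [(uC, 24), (r552, 16), (r275, 16)], FR [uC, r552, r275] (dv r162) x :=
  (orbit_cover mcAtoms_ok uc_fix hCu (by decide +kernel) (by decide +kernel) card162 (by norm_num) L162_ok).2

/-! ### The action on 2025 points -/

/-- the base point -/
def r2025 : ℕ := 16396

/-- the list -/
def L2025 : List ℕ := runM (genW mcAtoms mcWords) 1 0x60008240006008c002000110800100212000000c801100020c001804008800004801046000003200031100010023000801880000461100002006001024000022006300004004801080000c8018003104240000001002004801800200440090002004300080010020044008800008801804000421200002000418044000430000400c011804200001200021046000064000801804008c00200600100308840000011804000c2400001200630000118003088002006010423000002006001003100240000300880010011804000c23000042000400460010010880000c6001040084800000400c022000018c020046000c0200440010010900001003180030044000c0208c00010022000300801180031000400c02004220000220001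1800300421180000048000c011800310003090000100300801200040046300004004220000120003104400000220004008240000418023000021800400c011000020422000040048000042180400842200000008601000209000000440006300801180400006108c0001080000241800400062108002000400860100030002208480000030088000c24000012000400840010030008108c000046001002004400880000c01200030086000044004400100018c001042118000010020048001002180040008010c01100030080020041090002000400c011804000023000620042200002200040086000c020042110000008012000400c0200460004440000400880010030004218004100001900108c0000082000612000418003000821000308821280000008008c002080000c8010480000601100008c001802200460000801900008c4000064000032004300080180400880020021090000100020022000011804008480000400900010c0200460000240080018003084400000320040090002006000c4308c00000801900020c001880000460084800100010023000801000208800200031802118000110001802300062000400844000004210002004008c002006000c40088001804108800000801002400083000620008000c600102120000100240008000c420008118000200630006010800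100211000011003000801800310421200000080020480000600900020042000800086000c411800001080180440008018040084400008018044000022004300800200031804008424000000088018040008230008000c220000418003084800008000c400082400060100230006000c420008000860084600008000c240000220c00004801002200003200411000021000200220004108c000008010003090000100120004180430002200003180400042120000200601100000c601000108c0010022000032006010021180000086010024000600100308c02000800046110000200600104400c220000000880180440004008c001804008801200001002400080010400100208c001800410002088600006010c00180030042110000100240000220c0000c0120040088002004000801084211800000003000612000400c020044000c24000022000400c600104008c0001003200030004200460010000880110004004220000400c00088800008300801180040082120000010021800400c4001003000801842400080180000900300042000211000011000088001842300003000420048001003180001100300442000040008200440000840008018c020846000000204800008400063008011800400c0010801100040004300062090000100010c00088012000020c6000044008400004009002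0006008423000002100008c00108012000400c60000411000300061088002000010c0018022000811800300042004211000001000104800106000080110001880110000190002006010c001880020424000040008018c000880010460000801002400c001084000044004230000020060110002004300801200001900008c0018040088000846000002200640008008c00184400004009000100230002108800000601100020023000220008010480000801900020043000221800018040090002004300062000040844000080180240006010c001002200421094000008000460088002004000c010846000060100020900001023000801800110022100000048000c4000424000012000108c000100220001180021080020061090000006010024000801804000c0208c002006200003180010848000044000801000400c0108c0000c02088002046000004200601000309000008601080000480010600104000421100000048000844000801000408c0000c022004108c00000031804000c240000300880010601002200080084800000120044000030046300002200620008018041180002000400840090001804001023000040048000860004211000018044000011800308c00010800080118042000022006108800000801100000c8008c0000c800880000480010601000400c212000000c80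19000010022006000c4008c00004801880000801200030086000c2118000004801000109000180041000400c0208c000108000c0118022000042006008440000601000308800010032002108440000001000109000008801800210800010800100310021200002000218004008240000118002004400100308c002000400c60100010880000c801804118000008012006000c4000801090000100018c60010021000408c001800300422000800100110001084400000418040000820900000480010430000220060100010880010021090000000420004180011002400080180430000420002100220000118004100212000000c6000844000800086000c400102300060010031080001003008400100300821180002000118001110000100200480010031800400440010030880001080008600084000421100002000410004008240000300480010230006010004088000086001003084230000001002004800086010002004240000400c400100108c00010011800200440010010848000000210030084001003090000088000860010021000108c0000c012000400c01180040084001003008220008001002180040044000c211800020004004601100001003200031800310023000040048000c0200462000001100120004008011800400840010010844000004004800008118000210020900000801200600100108c0020001108002000400c40004210880000004200011800400c021000400824000040086000c4008c00010030048000c020046000801100000900108800000430048000c02004600002110480000030086000c400900001003008012000400c4000c0108c0000c000848000c600080110800010030048001002084600000420004008011800300801100010900001002100030080108c000100118001100220000400c80010002080118040010211000000c002080110004004240000400c8000c021804000c230000400c8000801180021080001003200002086000c2108425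 r2025

theorem L2025_ok : checkDistinct 1 2025 L2025 = true := by decide +kernel

theorem L11178_props : L11178.Nodup ∧ L11178.length = 11178 ∧ ∀ c ∈ L11178, c = normC c ∧ FR [uC] (dv r11178) (dv c) :=
  list_props co3Atoms_ok co3_fix (by decide +kernel) (lchk_spec (by decide +kernel)) (by norm_num) L11178_ok

theorem card2025' : (SS ([(uC, -16)] ++ [(r552, 0)])).ncard = 2025 :=
  ncard_filter cover11178.1 L11178_props.1 (fun c hc => (L11178_props.2.2 c hc).1) (k := 3) (by decide +kernel)

/-- the relation of the three vectors -/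
theorem dv_relation : dv uC = dv r552 + dv wC := by
  funext i
  revert i
  decide +kernel

theorem card2025 : (SS [(r552, 0), (wC, 16)]).ncard = 2025 := by
  rw [← card2025']
  have key : SS ([(uC, -16)] ++ [(r552, 0)]) = (fun x => -x) '' SS [(r552, 0), (wC, 16)] := by
    ext y
    constructor
    · rintro ⟨h1, h2, h3⟩
      have h4 : dotInt (dv uC) y = -16 := h3 (uC, -16) (by simp)
      have h5 : dotInt (dv r552) y = 0 := h3 (r552, 0) (by simp)
      have h6 : dotInt (dv wC) y = -16 := by
        rw [dv_relation] at h4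
        simp only [dotInt, Pi.add_apply, add_mul, Finset.sum_add_distrib] at h4
        have : ∑ i, dv r552 i * y i = 0 := h5
        have h7 : dotInt (dv wC) y = ∑ i, dv wC i * y i := rfl
        rw [h7]
        linarith
      refine ⟨-y, ⟨neg_mem h1, by rw [sqNorm_neg']; exact h2, fun p hp => ?_⟩, by simp⟩
      simp only [List.mem_cons, List.not_mem_nil, or_false] at hp
      rcases hp with rfl | rfl
      · simp only [dotInt, Pi.neg_apply, mul_neg, Finset.sum_neg_distrib]
        have : ∑ i, dv r552 i * y i = 0 := h5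
        rw [this]
        rfl
      · simp only [dotInt, Pi.neg_apply, mul_neg, Finset.sum_neg_distrib]
        have : ∑ i, dv wC i * y i = -16 := h6
        rw [this]
        rfl
    · rintro ⟨x, ⟨h1, h2, h3⟩, rfl⟩
      have h4 : dotInt (dv r552) x = 0 := h3 (r552, 0) (by simp)
      have h5 : dotInt (dv wC) x = 16 := h3 (wC, 16) (by simp)
      refine ⟨neg_mem h1, by rw [sqNorm_neg']; exact h2, fun p hp => ?_⟩
      simp only [List.mem_append, List.mem_cons, List.not_mem_nil, or_false] at hp
      rcases hp with rfl | rfl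
      · rw [dv_relation]
        have h6 : ∑ i, dv r552 i * x i = 0 := h4
        have h7 : ∑ i, dv wC i * x i = 16 := h5
        simp only [dotInt, Pi.add_apply, Pi.neg_apply, mul_neg, add_mul, Finset.sum_neg_distrib, Finset.sum_add_distrib, h6, h7]
        rfl
      · simp only [dotInt, Pi.neg_apply, mul_neg, Finset.sum_neg_distrib]
        have h6 : ∑ i, dv r552 i * x i = 0 := h4
        rw [h6]
        rfl
  rw [key, Set.ncard_image_of_injective _ neg_injective]

theorem hCn : ∀ p ∈ [(r552, (0 : ℤ)), (wC, (16 : ℤ))], p.1 ∈ [uC, r552, wC] ∧ dv p.1 ∈ leechLattice := by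
  intro p hp
  simp only [List.mem_cons, List.not_mem_nil, or_false] at hp
  rcases hp with rfl | rfl
  · exact ⟨by simp, r552_mem⟩
  · exact ⟨by simp, wC_mem⟩

theorem cover2025 : SS [(r552, 0), (wC, 16)] = dv '' {c | c ∈ L2025} ∧
    ∀ x ∈ SS [(r552, 0), (wC, 16)], FR [uC, r552, wC] (dv r2025) x :=
  orbit_cover mcAtoms_ok mc_fix hCn (by decide +kernel) (by decide +kernel) card2025 (by norm_num) L2025_ok

/-- the words of the monomial group -/
def m22Words : List (List ℕ) := [[0], [1], [2], [3]]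

theorem m22_fix : checkFix mcAtoms m22Words [r552, wC, r2025] = true := by decide +kernel

/-- the base point -/
def rZ0 : ℕ := 10561176589657584369198432256
/-- the base point -/
def rZ16 : ℕ := 10561175962459806429400277162
/-- the base point -/
def rZ8 : ℕ := 5282066395610271175142873497

/-- the list -/
def LZ0 : List ℕ := runM (genW mcAtoms m22Words) 1 0x6008800084800008018044008011800000c800900010c0020022000801044000003180440006010022004240000020001090001804008c0020040084800000318040090000886000002180240008008c0001080100020880000c2110000200240008018004008230000208823000002000400840090000100108c00200011080020060010412000001080180010900000c4008c0000c8000860108000048018021180000106000c400900000801200041800410c0000c6001003004220008001040084400008000c01180400900000c8000c0210c001000200422000041800110002084220000000801180400900000880008011000308c00008012000400860100020880000c0120003004600044008480000801000409000010020048000823000032004000c020042200004004800084001003084600000400c012006010004090000100020801200041800300843000800008110003088002000418003084400000400c012000400022004440008001003004601000408c0001003008012000310003004220000400c002048000460000830080108421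 rZ0
/-- the list -/
def LZ16 : List ℕ := runM (genW mcAtoms m22Words) 1 0x8001060090002004300003180220000220003100212000000c400900008c0020004180041080001080004211800020064000800104008c00004801080020060008411000020060008240006010023000801080000c801804109000000042006008c0000c801802200002200020046010480000011804000c240006000c4008c001800400c4000c220008001003008011800400c021000400c2118000008840000220060010400082300022000012006000c4110000200640006000c021000308c0000c02200031804200003200601042300000200041800410024000022000318043000801800410800010032000400c020046000821200002000418024000030086000c23000030080120060010030044200080010021800210021180000108000c601000109000010032000118004008011000308c0020003004600042200080010020046010001084400000400c01200011000309000200030046000c400080108c000006118001088000088001003008210880000003180020042400080008600006108c0000c800046000c0208800008800086001001104800000418040010230000300880004600100110003004220000300801200020046118000008011800010c021000400061090000100220002004600002400c020044000c0208c0000480010220000400063000622000400c6000024100030844000003008002048000c0020860000840044000c020900000c020048000c011800400c00108400100208c000004400c0020042000612000008c0200460008400080108821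 rZ16
/-- the list -/
def LZ8 : List ℕ := runM (genW mcAtoms m22Words) 1 0x32000400c02180002044001000108010900000c800100018863000022000400c011804000c020042200004200030008218040084800000300880180040004210000110010900001000180230088001003004400004308c00010800106000c02004400100108800010030048010460000042000400c001046001002100030080018424000021800400c4000044008010880001003200021800400c020044000c01084400000400c01200040086010004090000100200480010020046000064008400102300003200040080118004100020042200004000620048000c6001003008400100018c21090000000400c012000021003008600006300840010030900000c01180001100008c02004430000018c022000011002004600100020060088011080000c02004800100218001100000900200421200000100300860000801900018c0200021100040002300424000022000300801180031002200003008012000400c0118003008211800000c80010030046001003008011100001002000411800400c02004400004400c0018800104230000400801200041800300442000030080008480010030004200040084600100310004084400000120002004600004400c0110003008010900001002200001900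3000221800400c021000308c0000c02004600004400023004400100018042000210880001002004400100008c020042108c000000400043000420048000c0020022180040006010c02004400008008c020900000044000430006200480010030046001003008011000400080188002042300000110020006120000210002006300800084600008400800184400008011001088000002400c002088001001180400002208480000040008010800200611800009000088000844000044008010900000c02200001900300061180030006208c00010030088000083008000846000023004400008400063000620880000c0010801200001804400043000420046000801100030846000000200601002400043008800002400c0218004000230080008440000820002109000010030006200021200001900300800084600100308c0000084000600880010021200040006008c00180220880000040088012000400063008600008300042004400100020c0018021084400000010024200002006400c002002218000200600900018c002004110000210001080108c00000640008018c0020880000240004300860008400002400c0010801088000008120004000220004008460000230080010440000430006208422000000100020c00088012000008801180040002310004000420008109000000400880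018041200002006011000100230004200021180040004210000210002006300800104230000020043000222000008c00200621800010024008011000020c220000020c0200080104800004400c00100220046000060090001804300801100001100020c010848000000180230006200480000400900018043000820006118000110001802300080180400880020040084400002300060108002006008423000000900018c02200001002400c0010022180001100008c002006008800084400000311000200630080108800000021002400c00208000848000023000600880018460000601100010c00108002002110000190030080018041084600000400c00208002048001000084600004300022000411000400063008010900000060090030008010801200000044400c00180211800008c002082300000180440006300060108012000021000200430008018860010002006010c0020021100001900020021088000006009000200630008000460088800008018800204600008010c0010021100002006010023000801080020421100000008010c001804118000180240044000060100240000210022090000008220000200601100018c00200420000210021180001100020c00188011000020060100240008018800084230000020060010400900000c22000212000400c02000601000108460000240000218800200411000020002110000048018c00088001804108800000801100020023004800100010c00200411800000883000621000020c002006108421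 rZ8

theorem LZ_ok : checkDistinct 1 2025 (r2025 :: (LZ0 ++ (LZ16 ++ LZ8))) = true := by decide +kernel

theorem LZ_len : (countC (fun _ => true) 1 LZ0, countC (fun _ => true) 1 LZ16, countC (fun _ => true) 1 LZ8) =
    ((330, []), (462, []), (1232, [])) := by decide +kernel

end Cfsg.Agent.Lib.LeechMcL
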