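import Mathlib
import Cfsg.Prelude
import Cfsg.Agent.Lib.CoprimeGen

/-!
# The additive structure on a group of exponent an odd prime and class at most two
-/

set_option autoImplicit false
set_option linter.all false

namespace Cfsg.Agent.Lib.LieTrick

open Subgroup Cfsg
open scoped commutatorElement

section class2

variable {W : Type*} [Group W]

/-- commutators are central -/
def Class2 (W : Type*) [Group W] : Prop := ∀ x y z : W, ⁅x, y⁆ * z = z * ⁅x, y⁆

variable (hc : Class2 W)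
include hc

theorem comm_mul_left (x y z : W) : ⁅x * y, z⁆ = ⁅x, z⁆ * ⁅y, z⁆ := by
  simp only [commutatorElement_def]
  have h := hc y z x
  simp only [commutatorElement_def] at h
  calc x * y * z * (x * y)⁻¹ * z⁻¹ = x * (y * z * y⁻¹ * z⁻¹) * z * x⁻¹ * z⁻¹ := by group
    _ = (y * z * y⁻¹ * z⁻¹) * x * z * x⁻¹ * z⁻¹ := by rw [← h]
    _ = (y * z * y⁻¹ * z⁻¹) * (x * z * x⁻¹ * z⁻¹) := by group
    _ = _ := by
      have h2 := hc y z (x * z * x⁻¹ * z⁻¹)
      simp only [commutatorElement_def] at h2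
      exact h2

theorem comm_mul_right (x y z : W) : ⁅x, y * z⁆ = ⁅x, y⁆ * ⁅x, z⁆ := by
  simp only [commutatorElement_def]
  have h := hc x z y
  simp only [commutatorElement_def] at h
  calc x * (y * z) * x⁻¹ * (y * z)⁻¹ = (x * y * x⁻¹) * (x * z * x⁻¹ * z⁻¹) * y⁻¹ := by group
    _ = (x * y * x⁻¹) * ((x * z * x⁻¹ * z⁻¹) * y⁻¹) := by group
    _ = (x * y * x⁻¹) * (y⁻¹ * (x * z * x⁻¹ * z⁻¹)) := by
        have h2 := hc x z y⁻¹
        simp only [commutatorElement_def] at h2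
        rw [h2]
    _ = _ := by group

theorem comm_inv (x y : W) : ⁅x, y⁆⁻¹ = ⁅y, x⁆ := by
  simp only [commutatorElement_def]
  group

theorem comm_self (x : W) : ⁅x, x⁆ = 1 := by
  simp only [commutatorElement_def]
  group

theorem comm_one_left (x : W) : ⁅(1 : W), x⁆ = 1 := by
  simp only [commutatorElement_def]
  group

theorem comm_one_right (x : W) : ⁅x, (1 : W)⁆ = 1 := by
  simp only [commutatorElement_def]
  group

theorem comm_central_left {c : W} (h : ∀ z, c * z = z * c) (x : W) : ⁅c, x⁆ = 1 := by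
  simp only [commutatorElement_def]
  rw [h x]
  group

theorem comm_central_right {c : W} (h : ∀ z, c * z = z * c) (x : W) : ⁅x, c⁆ = 1 := by
  simp only [commutatorElement_def]
  rw [← h x]
  group

theorem comm_pow_central (x y : W) (n : ℕ) (z : W) : ⁅x, y⁆ ^ n * z = z * ⁅x, y⁆ ^ n := by
  have : Commute (⁅x, y⁆) z := hc x y z
  exact (this.pow_left n).eq

theorem comm_pow_right (x y : W) (n : ℕ) : ⁅x, y ^ n⁆ = ⁅x, y⁆ ^ n := by
  induction n with
  | zero =>
    rw [pow_zero, pow_zero]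
    exact comm_one_right hc x
  | succ n ih =>
    rw [pow_succ, pow_succ, comm_mul_right hc, ih]

theorem comm_pow_left (x y : W) (n : ℕ) : ⁅x ^ n, y⁆ = ⁅x, y⁆ ^ n := by
  induction n with
  | zero =>
    rw [pow_zero, pow_zero]
    exact comm_one_left hc y
  | succ n ih =>
    rw [pow_succ, pow_succ, comm_mul_left hc, ih]

/-- the power formula in class two -/
theorem mul_pow_class2 (x y : W) (n : ℕ) : (x * y) ^ n = x ^ n * y ^ n * ⁅y, x⁆ ^ (n.choose 2) := by
  induction n with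
  | zero => simp
  | succ n ih =>
    rw [pow_succ, ih, pow_succ x, pow_succ y]
    have h1 : y ^ n * x = x * y ^ n * ⁅y, x⁆ ^ n := by
      have h2 : ⁅y ^ n, x⁆ = ⁅y, x⁆ ^ n := comm_pow_left hc y x n
      rw [← h2]
      simp only [commutatorElement_def]
      have h3 := hc (y ^ n) x (x * y ^ n)
      simp only [commutatorElement_def] at h3
      rw [← h3]
      group
    have hch : (n + 1).choose 2 = n.choose 2 + n := by
      rw [show (n + 1).choose 2 = n.choose 1 + n.choose 2 from Nat.choose_succ_succ' n 1,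
        Nat.choose_one_right, add_comm]
    rw [hch, pow_add]
    calc x ^ n * y ^ n * ⁅y, x⁆ ^ n.choose 2 * (x * y)
        = x ^ n * y ^ n * (x * y) * ⁅y, x⁆ ^ n.choose 2 := by
          rw [mul_assoc (x ^ n * y ^ n), comm_pow_central hc, ← mul_assoc]
      _ = x ^ n * (y ^ n * x) * y * ⁅y, x⁆ ^ n.choose 2 := by group
      _ = x ^ n * (x * y ^ n * ⁅y, x⁆ ^ n) * y * ⁅y, x⁆ ^ n.choose 2 := by rw [h1]
      _ = x ^ n * x * y ^ n * (⁅y, x⁆ ^ n * y) * ⁅y, x⁆ ^ n.choose 2 := by group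
      _ = x ^ n * x * y ^ n * (y * ⁅y, x⁆ ^ n) * ⁅y, x⁆ ^ n.choose 2 := by rw [comm_pow_central hc]
      _ = x ^ n * x * (y ^ n * y) * ⁅y, x⁆ ^ n * ⁅y, x⁆ ^ n.choose 2 := by group
      _ = _ := by
        rw [mul_assoc (x ^ n * x * (y ^ n * y))]
        congr 1
        have : Commute (⁅y, x⁆ ^ n) (⁅y, x⁆ ^ n.choose 2) := (Commute.refl _).pow_pow _ _
        exact this.eq

end class2

section lie

variable {W : Type*} [Group W]

/-- the half exponent -/
def hh (p : ℕ) : ℕ := (p + 1) / 2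

theorem two_hh {p : ℕ} (hp : Odd p) : 2 * hh p = p + 1 := by
  obtain ⟨k, rfl⟩ := hp
  unfold hh
  omega

/-- the additive law -/
def lieAdd (p : ℕ) (x y : W) : W := x * y * ⁅y, x⁆ ^ hh p

variable {p : ℕ}

theorem lieAdd_comm (hp : Odd p) (hc : Class2 W) (hexp : ∀ x : W, x ^ p = 1) (x y : W) :
    lieAdd p x y = lieAdd p y x := by
  unfold lieAdd
  have h1 : ⁅x, y⁆ = ⁅y, x⁆⁻¹ := by rw [comm_inv hc]
  have h2 : y * x = ⁅y, x⁆ * (x * y) := by
    simp only [commutatorElement_def]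
    group
  have h3 : ⁅y, x⁆ ^ p = 1 := hexp _
  have h4 : ⁅y, x⁆ ^ (2 * hh p) = ⁅y, x⁆ := by
    rw [two_hh hp, pow_succ, h3, one_mul]
  have h5 := hc y x (x * y)
  set c := ⁅y, x⁆ with hcdef
  calc x * y * c ^ hh p = x * y * (c * (c ^ hh p)⁻¹) := by
        congr 1
        rw [eq_mul_inv_iff_mul_eq, ← pow_add, ← two_mul, h4]
    _ = (x * y * c) * (c ^ hh p)⁻¹ := by group
    _ = (c * (x * y)) * (c ^ hh p)⁻¹ := by rw [h5]
    _ = y * x * ⁅x, y⁆ ^ hh p := by rw [← h2, h1, inv_pow]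

theorem lieAdd_assoc (hc : Class2 W) (x y z : W) :
    lieAdd p (lieAdd p x y) z = lieAdd p x (lieAdd p y z) := by
  unfold lieAdd
  have hz1 : ∀ (a b : W) (n : ℕ) (c : W), ⁅c, ⁅a, b⁆ ^ n⁆ = 1 := by
    intro a b n c
    exact comm_central_right hc (comm_pow_central hc a b n) c
  have hz2 : ∀ (a b : W) (n : ℕ) (c : W), ⁅⁅a, b⁆ ^ n, c⁆ = 1 := by
    intro a b n c
    exact comm_central_left hc (comm_pow_central hc a b n) c
  have h1 : ⁅z, x * y * ⁅y, x⁆ ^ hh p⁆ = ⁅z, x⁆ * ⁅z, y⁆ := by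
    rw [comm_mul_right hc, comm_mul_right hc, hz1, mul_one]
  have h2 : ⁅y * z * ⁅z, y⁆ ^ hh p, x⁆ = ⁅y, x⁆ * ⁅z, x⁆ := by
    rw [comm_mul_left hc, comm_mul_left hc, hz2, mul_one]
  rw [h1, h2]
  have c1 : Commute ⁅z, x⁆ ⁅z, y⁆ := hc z x _
  have c2 : Commute ⁅y, x⁆ ⁅z, x⁆ := hc y x _
  rw [c1.mul_pow, c2.mul_pow]
  set A := ⁅y, x⁆ ^ hh p with hA
  set B := ⁅z, x⁆ ^ hh p with hB
  set C := ⁅z, y⁆ ^ hh p with hC
  have hAc : ∀ t, A * t = t * A := comm_pow_central hc y x (hh p)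
  have hBc : ∀ t, B * t = t * B := comm_pow_central hc z x (hh p)
  have hCc : ∀ t, C * t = t * C := comm_pow_central hc z y (hh p)
  calc x * y * A * z * (B * C) = x * y * (A * z) * (B * C) := by group
    _ = x * y * (z * A) * (B * C) := by rw [hAc]
    _ = x * y * z * (A * B * C) := by group
    _ = x * (y * z) * ((A * B) * C) := by group
    _ = x * (y * z) * (C * (A * B)) := by rw [hCc]
    _ = x * (y * z * C) * (A * B) := by group

theorem lieAdd_one_left (hc : Class2 W) (x : W) : lieAdd p 1 x = x := by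
  unfold lieAdd
  rw [comm_one_right hc]
  simp

theorem lieAdd_inv_left (hc : Class2 W) (x : W) : lieAdd p x⁻¹ x = 1 := by
  unfold lieAdd
  have h1 : ⁅x, x⁻¹⁆ = 1 := by
    simp only [commutatorElement_def]
    group
  rw [h1]
  simp

theorem lieAdd_pow (hc : Class2 W) (x : W) (a b : ℕ) : lieAdd p (x ^ a) (x ^ b) = x ^ (a + b) := by
  unfold lieAdd
  have h1 : ⁅x ^ b, x ^ a⁆ = 1 := by
    rw [comm_pow_left hc, comm_pow_right hc, comm_self hc]
    simp
  rw [h1]
  simp [pow_add]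

theorem lieAdd_map {V : Type*} [Group V] (f : W →* V) (x y : W) :
    f (lieAdd p x y) = lieAdd p (f x) (f y) := by
  unfold lieAdd
  rw [map_mul, map_mul, map_pow, map_commutatorElement]

/-- the additive group -/
@[reducible] def lieGroup (hp : Odd p) (hc : Class2 W) (hexp : ∀ x : W, x ^ p = 1) : AddCommGroup W :=
  letI iAdd : Add W := ⟨lieAdd p⟩
  letI iZero : Zero W := ⟨1⟩
  letI iNeg : Neg W := ⟨fun x => x⁻¹⟩
  { AddGroup.ofLeftAxioms (G := W) (lieAdd_assoc hc) (lieAdd_one_left hc) (lieAdd_inv_left hc) with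
    add_comm := lieAdd_comm hp hc hexp }

end lie

section main

variable {W Γ : Type*} [Group W] [Finite W] [Group Γ] [Finite Γ] {p : ℕ} [Fact p.Prime]

/-- Let `A` be a `p`-group normalizing a `p'`-group `Q`, both acting on a group of exponent `p` (odd) and class at
most two, `Q` nontrivially. Then `A` has a nonidentity fixed point not fixed by `Q`. -/
theorem exists_fixed_not_fixed (hp : Odd p) (hc : Class2 W) (hexp : ∀ x : W, x ^ p = 1)
    (ρ : Γ →* MulAut W) (Q A : Subgroup Γ) (hQ : ¬ p ∣ Nat.card Q) (hA : IsPGroup p A)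
    (hAQ : ∀ a ∈ A, ∀ q ∈ Q, a * q * a⁻¹ ∈ Q) (hnt : ∃ q ∈ Q, ∃ v : W, ρ q v ≠ v) :
    ∃ v : W, v ≠ 1 ∧ (∀ a ∈ A, ρ a v = v) ∧ ∃ q ∈ Q, ρ q v ≠ v := by
  classical
  have hpp : p.Prime := Fact.out
  letI hadd : AddCommGroup W := lieGroup hp hc hexp
  have hadd_def : ∀ x y : W, x + y = lieAdd p x y := fun _ _ => rfl
  have hzero : (0 : W) = 1 := rfl
  have hneg : ∀ x : W, -x = x⁻¹ := fun _ => rfl
  have hnsmul : ∀ (n : ℕ) (x : W), n • x = x ^ n := by
    intro n x
    induction n with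
    | zero => simp [hzero]
    | succ n ih =>
      rw [succ_nsmul, ih, hadd_def]
      have := lieAdd_pow (p := p) hc x n 1
      rw [pow_one] at this
      exact this
  letI : Fintype Q := Fintype.ofFinite _
  let σ : Γ → W →+ W := fun g => AddMonoidHom.mk' (ρ g) (fun x y => lieAdd_map (ρ g).toMonoidHom x y)
  have hσ : ∀ g x, σ g x = ρ g x := fun _ _ => rfl
  let τ : W →+ W := ∑ q : Q, σ (q : Γ)
  have hτ : ∀ x, τ x = ∑ q : Q, ρ (q : Γ) x := by
    intro x
    simp only [τ, AddMonoidHom.finset_sum_apply, hσ]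
  set n := Nat.card Q with hn
  have hnc : n.Coprime p := ((Nat.Prime.coprime_iff_not_dvd hpp).2 hQ).symm
  -- taking `n`-th powers is injective
  have hinjn : ∀ x y : W, x ^ n = y ^ n → x = y := by
    intro x y h
    obtain ⟨a, -, hab⟩ := Nat.exists_mul_mod_eq_one_of_coprime hnc hpp.one_lt
    have key : ∀ z : W, (z ^ n) ^ a = z := by
      intro z
      rw [← pow_mul, pow_eq_pow_mod (n * a) (hexp z), hab, pow_one]
    rw [← key x, ← key y, h]
  have hfixτ : ∀ x, (∀ q ∈ Q, ρ q x = x) → τ x = n • x := by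
    intro x hx
    rw [hτ]
    have h1 : ∀ q : Q, ρ (q : Γ) x = x := fun q => hx q q.2
    simp only [h1, Finset.sum_const, Finset.card_univ]
    rw [hn, Nat.card_eq_fintype_card]
  have hτleft : ∀ q₀ ∈ Q, ∀ x, ρ q₀ (τ x) = τ x := by
    intro q₀ hq₀ x
    rw [hτ]
    have h1 : ρ q₀ (∑ q : Q, ρ (q : Γ) x) = ∑ q : Q, σ q₀ (ρ (q : Γ) x) := by
      have := map_sum (σ q₀) (fun q : Q => ρ (q : Γ) x) Finset.univ
      exact this
    rw [h1]
    have h2 : ∀ q : Q, σ q₀ (ρ (q : Γ) x) = ρ (((⟨q₀, hq₀⟩ : Q) * q : Q) : Γ) x := by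
      intro q
      rw [hσ]
      show _ = ρ (q₀ * (q : Γ)) x
      rw [map_mul]
      rfl
    simp only [h2]
    exact Equiv.sum_comp (Equiv.mulLeft (⟨q₀, hq₀⟩ : Q)) (fun q : Q => ρ (q : Γ) x)
  have hτA : ∀ a ∈ A, ∀ x, τ (ρ a x) = ρ a (τ x) := by
    intro a ha x
    rw [hτ, hτ]
    have h1 : ρ a (∑ q : Q, ρ (q : Γ) x) = ∑ q : Q, σ a (ρ (q : Γ) x) := by
      have := map_sum (σ a) (fun q : Q => ρ (q : Γ) x) Finset.univ
      exact this
    rw [h1]
    let e : Q ≃ Q :=
      { toFun := fun q => ⟨a * q * a⁻¹, hAQ a ha q q.2⟩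
        invFun := fun q => ⟨a⁻¹ * q * a, by
          have := hAQ a⁻¹ (A.inv_mem ha) q q.2
          simpa using this⟩
        left_inv := fun q => Subtype.ext (by simp [mul_assoc])
        right_inv := fun q => Subtype.ext (by simp [mul_assoc]) }
    rw [← Equiv.sum_comp e (fun q : Q => ρ (q : Γ) (ρ a x))]
    apply Finset.sum_congr rfl
    intro q _
    rw [hσ]
    show ρ (a * q * a⁻¹) (ρ a x) = ρ a (ρ (q : Γ) x)
    simp [map_mul]
  obtain ⟨q₀, hq₀, v₀, hv₀⟩ := hnt
  set u : W := n • v₀ - τ v₀ with hu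
  have hτu : τ u = 0 := by
    rw [hu, map_sub, map_nsmul, hfixτ (τ v₀) (fun q hq => hτleft q hq v₀), sub_self]
  have hu0 : u ≠ 0 := by
    intro h0
    rw [hu, sub_eq_zero] at h0
    apply hv₀
    apply hinjn
    have h1 := hτleft q₀ hq₀ v₀
    rw [← h0, hnsmul] at h1
    rw [← h1, map_pow]
  set S : Set W := {v | τ v = 0 ∧ v ≠ 1} with hS
  have hSinv : ∀ a ∈ A, ∀ s ∈ S, ρ a s ∈ S := by
    rintro a ha s ⟨h1, h2⟩
    refine ⟨?_, ?_⟩
    · rw [hτA a ha, h1]
      exact map_one (ρ a)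
    · intro h3
      apply h2
      exact (ρ a).injective (h3.trans (map_one (ρ a)).symm)
  have hcard : ¬ p ∣ Nat.card S := by
    intro hd
    have h1 : ((τ.ker : AddSubgroup W) : Set W) = insert (0 : W) S := by
      ext x
      constructor
      · intro hx
        by_cases hx0 : x = 0
        · exact Or.inl hx0
        · exact Or.inr ⟨hx, hx0⟩
      · rintro (rfl | hx)
        · exact map_zero τ
        · exact hx.1
    have hnot : (0 : W) ∉ S := fun h => h.2 rfl
    have h2 : Nat.card ((τ.ker : AddSubgroup W) : Set W) = Nat.card S + 1 := by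
      rw [Nat.card_coe_set_eq, Nat.card_coe_set_eq, h1, Set.ncard_insert_of_notMem hnot (Set.toFinite _)]
    have h3 : addOrderOf (⟨u, hτu⟩ : (τ.ker : AddSubgroup W)) = p := by
      apply addOrderOf_eq_prime
      · apply Subtype.ext
        show p • u = 0
        rw [hnsmul]
        exact hexp u
      · intro h4
        exact hu0 (congrArg Subtype.val h4)
    have h4 : p ∣ Nat.card (τ.ker : AddSubgroup W) := by
      rw [← h3]
      exact addOrderOf_dvd_natCard _
    have h5 : Nat.card (τ.ker : AddSubgroup W) = Nat.card ((τ.ker : AddSubgroup W) : Set W) := rfl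
    rw [h5, h2] at h4
    have h6 : p ∣ 1 := (Nat.dvd_add_right hd).1 h4
    exact hpp.one_lt.ne' (Nat.dvd_one.1 h6)
  obtain ⟨v, hvS, hvfix⟩ := Cfsg.Agent.Lib.CoprimeGen.exists_fixed_abstract ρ hA S hSinv hcard
  refine ⟨v, hvS.2, hvfix, ?_⟩
  by_contra hcon
  push Not at hcon
  apply hvS.2
  apply hinjn
  rw [one_pow, ← hnsmul, ← hfixτ v hcon]
  exact hvS.1

end main

end Cfsg.Agent.Lib.LieTrick
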