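import Mathlib
import Cfsg.Agent.Lib.CharOps
import Cfsg.Agent.Lib.Replacement
import Cfsg.Agent.Lib.H2Basic
import Cfsg.Agent.Lib.CharIrr
import Cfsg.Prelude.Def_OddOrderChar

/-!
# Linear characters of `W₁ ⊔ W₂`, and the cyclic TI set-up
-/

set_option autoImplicit false
set_option linter.all false

namespace Cfsg.Agent.Lib.LinChar

open Cfsg ComplexConjugate

section gen

variable {W : Type*} [Group W] [Fintype W]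

theorem norm_char (ξ : W →* ℂˣ) (w : W) : ‖((ξ w : ℂˣ) : ℂ)‖ = 1 := by
  have h1 : ((ξ w : ℂˣ) : ℂ) ^ (Nat.card W) = 1 := by
    rw [← Units.val_pow_eq_pow_val, ← map_pow, pow_card_eq_one', map_one, Units.val_one]
  exact Complex.norm_eq_one_of_pow_eq_one h1 Nat.card_pos.ne'

theorem conj_char (ξ : W →* ℂˣ) (w : W) : conj ((ξ w : ℂˣ) : ℂ) = ((ξ⁻¹ w : ℂˣ) : ℂ) := by
  rw [← Complex.inv_eq_conj (norm_char ξ w)]
  simp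

theorem sum_char (ξ : W →* ℂˣ) [Decidable (ξ = 1)] :
    ∑ w : W, ((ξ w : ℂˣ) : ℂ) = if ξ = 1 then (Nat.card W : ℂ) else 0 := by
  split_ifs with h
  · subst h
    simp [Nat.card_eq_fintype_card]
  · obtain ⟨w₀, hw₀⟩ : ∃ w₀, ξ w₀ ≠ 1 := by
      by_contra hcon
      push Not at hcon
      exact h (MonoidHom.ext hcon)
    have h1 : ((ξ w₀ : ℂˣ) : ℂ) * ∑ w : W, ((ξ w : ℂˣ) : ℂ) = ∑ w : W, ((ξ w : ℂˣ) : ℂ) := by
      rw [Finset.mul_sum]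
      refine Fintype.sum_equiv (Equiv.mulLeft w₀) _ _ fun w => ?_
      simp
    have h2 : ((ξ w₀ : ℂˣ) : ℂ) ≠ 1 := fun e => hw₀ (Units.ext e)
    have h3 : (((ξ w₀ : ℂˣ) : ℂ) - 1) * ∑ w : W, ((ξ w : ℂˣ) : ℂ) = 0 := by
      rw [sub_mul, h1, one_mul, sub_self]
    exact (mul_eq_zero.1 h3).resolve_left (sub_ne_zero.2 h2)

end gen

variable {G : Type*} [Group G] [Fintype G] {W₁ W₂ : Subgroup G}

/-- A linear character of `W₁ ⊔ W₂` trivial on `W₂`. -/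
def Triv2 (W₁ W₂ : Subgroup G) (φ : ↥(W₁ ⊔ W₂) →* ℂˣ) : Prop := ∀ w : ↥(W₁ ⊔ W₂), (w : G) ∈ W₂ → φ w = 1

/-- A linear character of `W₁ ⊔ W₂` trivial on `W₁`. -/
def Triv1 (W₁ W₂ : Subgroup G) (ψ : ↥(W₁ ⊔ W₂) →* ℂˣ) : Prop := ∀ w : ↥(W₁ ⊔ W₂), (w : G) ∈ W₁ → ψ w = 1

omit [Fintype G] in
theorem triv_both (hcomm : ∀ a ∈ W₁, ∀ b ∈ W₂, a * b = b * a) {ξ : ↥(W₁ ⊔ W₂) →* ℂˣ}
    (h2 : Triv2 W₁ W₂ ξ) (h1 : Triv1 W₁ W₂ ξ) : ξ = 1 := by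
  have hle : W₁ ≤ Subgroup.normalizer (W₂ : Set G) := fun a ha =>
    Cfsg.Agent.Lib.H2Basic.mem_normalizer_of_forall_comm fun b hb => hcomm a ha b hb
  ext w
  obtain ⟨a, ha, b, hb, e⟩ := Cfsg.Agent.Lib.Replacement.mem_sup_of_le_normalizer hle w.2
  have hw : w = ⟨a, (le_sup_left : W₁ ≤ W₁ ⊔ W₂) ha⟩ * ⟨b, (le_sup_right : W₂ ≤ W₁ ⊔ W₂) hb⟩ := Subtype.ext e
  rw [hw, map_mul, h1 _ ha, h2 _ hb]
  simp

omit [Fintype G] in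
theorem triv2_inv {φ : ↥(W₁ ⊔ W₂) →* ℂˣ} (h : Triv2 W₁ W₂ φ) : Triv2 W₁ W₂ φ⁻¹ := fun w hw => by
  simp [h w hw]

omit [Fintype G] in
theorem triv1_inv {φ : ↥(W₁ ⊔ W₂) →* ℂˣ} (h : Triv1 W₁ W₂ φ) : Triv1 W₁ W₂ φ⁻¹ := fun w hw => by
  simp [h w hw]

omit [Fintype G] in
theorem triv2_mul {φ φ' : ↥(W₁ ⊔ W₂) →* ℂˣ} (h : Triv2 W₁ W₂ φ) (h' : Triv2 W₁ W₂ φ') : Triv2 W₁ W₂ (φ * φ') :=
  fun w hw => by simp [h w hw, h' w hw]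

omit [Fintype G] in
theorem triv1_mul {φ φ' : ↥(W₁ ⊔ W₂) →* ℂˣ} (h : Triv1 W₁ W₂ φ) (h' : Triv1 W₁ W₂ φ') : Triv1 W₁ W₂ (φ * φ') :=
  fun w hw => by simp [h w hw, h' w hw]

omit [Fintype G] in
/-- A product `a b` with `a` trivial on `W₂`, `b` on `W₁`, is trivial only if both are. -/
theorem mul_eq_one_iff (hcomm : ∀ a ∈ W₁, ∀ b ∈ W₂, a * b = b * a) {a b : ↥(W₁ ⊔ W₂) →* ℂˣ}
    (ha : Triv2 W₁ W₂ a) (hb : Triv1 W₁ W₂ b) : a * b = 1 ↔ a = 1 ∧ b = 1 := by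
  constructor
  · intro h
    have ha1 : Triv1 W₁ W₂ a := fun w hw => by
      have := DFunLike.congr_fun h w
      simpa [hb w hw] using this
    have hb1 : Triv2 W₁ W₂ b := fun w hw => by
      have := DFunLike.congr_fun h w
      simpa [ha w hw] using this
    exact ⟨triv_both hcomm ha ha1, triv_both hcomm hb1 hb⟩
  · rintro ⟨rfl, rfl⟩
    ext w
    simp

/-- The sum of a product of two characters. -/
theorem sum_mul_char [Fintype ↥(W₁ ⊔ W₂)] [DecidableEq (↥(W₁ ⊔ W₂) →* ℂˣ)] (hcomm : ∀ a ∈ W₁, ∀ b ∈ W₂, a * b = b * a) {a b : ↥(W₁ ⊔ W₂) →* ℂˣ}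
    (ha : Triv2 W₁ W₂ a) (hb : Triv1 W₁ W₂ b) :
    ∑ w : ↥(W₁ ⊔ W₂), ((a w : ℂˣ) : ℂ) * ((b w : ℂˣ) : ℂ) =
      (Nat.card ↥(W₁ ⊔ W₂) : ℂ) * (if a = 1 then 1 else 0) * (if b = 1 then 1 else 0) := by
  have h := sum_char (a * b)
  simp only [MonoidHom.mul_apply, Units.val_mul] at h
  rw [h]
  by_cases h0 : a * b = 1
  · obtain ⟨e1, e2⟩ := (mul_eq_one_iff hcomm ha hb).1 h0
    rw [if_pos h0, if_pos e1, if_pos e2]
    simp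
  · rw [if_neg h0]
    by_cases e1 : a = 1
    · by_cases e2 : b = 1
      · exact absurd ((mul_eq_one_iff hcomm ha hb).2 ⟨e1, e2⟩) h0
      · rw [if_neg e2]
        simp
    · rw [if_neg e1]
      simp

/-- The function `(1 - φ)(1 - ψ)`. -/
def alpha (φ ψ : ↥(W₁ ⊔ W₂) →* ℂˣ) : ↥(W₁ ⊔ W₂) → ℂ :=
  fun w => 1 - (φ w : ℂ) - (ψ w : ℂ) + (φ w : ℂ) * (ψ w : ℂ)

omit [Fintype G] in
theorem alpha_vanish {φ ψ : ↥(W₁ ⊔ W₂) →* ℂˣ} (h2 : Triv2 W₁ W₂ φ) (h1 : Triv1 W₁ W₂ ψ)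
    (w : ↥(W₁ ⊔ W₂)) (hw : (w : G) ∈ W₁ ∨ (w : G) ∈ W₂) : alpha φ ψ w = 0 := by
  rcases hw with hw | hw
  · simp [alpha, h1 w hw]
  · simp [alpha, h2 w hw]

section inner

variable [Fintype ↥(W₁ ⊔ W₂)] [DecidableEq (↥(W₁ ⊔ W₂) →* ℂˣ)]

theorem sum_left (hcomm : ∀ a ∈ W₁, ∀ b ∈ W₂, a * b = b * a) {φ f b : ↥(W₁ ⊔ W₂) →* ℂˣ}
    (hφ : Triv2 W₁ W₂ φ) (hf : Triv2 W₁ W₂ f) (hb : Triv1 W₁ W₂ b) (hφ1 : φ ≠ 1) (hf1 : f ≠ 1) :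
    ∑ w : ↥(W₁ ⊔ W₂), (1 - (φ w : ℂ) - (f w : ℂ) + (φ w : ℂ) * (f w : ℂ)) * ((b w : ℂˣ) : ℂ) =
      (Nat.card ↥(W₁ ⊔ W₂) : ℂ) * (1 + if φ * f = 1 then 1 else 0) * (if b = 1 then 1 else 0) := by
  have e : ∀ w : ↥(W₁ ⊔ W₂), (1 - (φ w : ℂ) - (f w : ℂ) + (φ w : ℂ) * (f w : ℂ)) * ((b w : ℂˣ) : ℂ) =
      (((1 : ↥(W₁ ⊔ W₂) →* ℂˣ) w : ℂˣ) : ℂ) * (b w : ℂ) - (φ w : ℂ) * (b w : ℂ) - (f w : ℂ) * (b w : ℂ)
        + (((φ * f) w : ℂˣ) : ℂ) * (b w : ℂ) := by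
    intro w
    simp only [MonoidHom.one_apply, Units.val_one, MonoidHom.mul_apply, Units.val_mul]
    ring
  simp only [e, Finset.sum_add_distrib, Finset.sum_sub_distrib]
  have h1 : Triv2 W₁ W₂ (1 : ↥(W₁ ⊔ W₂) →* ℂˣ) := fun _ _ => rfl
  rw [sum_mul_char hcomm h1 hb, sum_mul_char hcomm hφ hb, sum_mul_char hcomm hf hb,
    sum_mul_char hcomm (triv2_mul hφ hf) hb, if_pos rfl, if_neg hφ1, if_neg hf1]
  ring

/-- The inner product of `(1 - φ)(1 - ψ)` and the conjugate of `(1 - φ')(1 - ψ')`. -/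
theorem sum_alpha (hcomm : ∀ a ∈ W₁, ∀ b ∈ W₂, a * b = b * a) {φ φ' ψ ψ' : ↥(W₁ ⊔ W₂) →* ℂˣ}
    (hφ : Triv2 W₁ W₂ φ) (hφ' : Triv2 W₁ W₂ φ') (hψ : Triv1 W₁ W₂ ψ) (hψ' : Triv1 W₁ W₂ ψ')
    (hφ1 : φ ≠ 1) (hφ1' : φ' ≠ 1) (hψ1 : ψ ≠ 1) (hψ1' : ψ' ≠ 1) :
    ∑ w : ↥(W₁ ⊔ W₂), alpha φ ψ w * conj (alpha φ' ψ' w) =
      (Nat.card ↥(W₁ ⊔ W₂) : ℂ) * (1 + if φ = φ' then 1 else 0) * (1 + if ψ = ψ' then 1 else 0) := by
  have hinv : ∀ a : ↥(W₁ ⊔ W₂) →* ℂˣ, a ≠ 1 → a⁻¹ ≠ 1 := by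
    intro a ha h
    apply ha
    ext w
    have := DFunLike.congr_fun h w
    simp only [MonoidHom.inv_apply, MonoidHom.one_apply, inv_eq_one] at this
    rw [this]
    rfl
  have hinv1 : φ'⁻¹ ≠ 1 := hinv _ hφ1'
  have hinv2 : ψ'⁻¹ ≠ 1 := hinv _ hψ1'
  have e : ∀ w : ↥(W₁ ⊔ W₂), alpha φ ψ w * conj (alpha φ' ψ' w) =
      (1 - (φ w : ℂ) - ((φ'⁻¹) w : ℂ) + (φ w : ℂ) * ((φ'⁻¹) w : ℂ)) * (((1 : ↥(W₁ ⊔ W₂) →* ℂˣ) w : ℂˣ) : ℂ) -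
      (1 - (φ w : ℂ) - ((φ'⁻¹) w : ℂ) + (φ w : ℂ) * ((φ'⁻¹) w : ℂ)) * (ψ w : ℂ) -
      (1 - (φ w : ℂ) - ((φ'⁻¹) w : ℂ) + (φ w : ℂ) * ((φ'⁻¹) w : ℂ)) * ((ψ'⁻¹) w : ℂ) +
      (1 - (φ w : ℂ) - ((φ'⁻¹) w : ℂ) + (φ w : ℂ) * ((φ'⁻¹) w : ℂ)) * (((ψ * ψ'⁻¹) w : ℂˣ) : ℂ) := by
    intro w
    simp only [alpha, map_add, map_sub, map_mul, map_one, conj_char, MonoidHom.one_apply, Units.val_one,
      MonoidHom.mul_apply, Units.val_mul]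
    ring
  simp only [e, Finset.sum_add_distrib, Finset.sum_sub_distrib]
  have h1 : Triv1 W₁ W₂ (1 : ↥(W₁ ⊔ W₂) →* ℂˣ) := fun _ _ => rfl
  rw [sum_left hcomm hφ (triv2_inv hφ') h1 hφ1 hinv1, sum_left hcomm hφ (triv2_inv hφ') hψ hφ1 hinv1,
    sum_left hcomm hφ (triv2_inv hφ') (triv1_inv hψ') hφ1 hinv1,
    sum_left hcomm hφ (triv2_inv hφ') (triv1_mul hψ (triv1_inv hψ')) hφ1 hinv1,
    if_pos rfl, if_neg hψ1, if_neg hinv2]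
  have e1 : ∀ a b : ↥(W₁ ⊔ W₂) →* ℂˣ, (a * b⁻¹ = 1) ↔ a = b := by
    intro a b
    constructor
    · intro h
      ext w
      have := DFunLike.congr_fun h w
      simp only [MonoidHom.mul_apply, MonoidHom.inv_apply, MonoidHom.one_apply] at this
      rw [mul_inv_eq_one] at this
      rw [this]
    · rintro rfl
      ext w
      simp
  simp only [e1]
  ring

end inner

omit [Fintype G] in
/-- In a cyclic subgroup, two subgroups of equal order coincide. -/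
theorem eq_of_card_eq_of_cyclic [Finite G] {K A B : Subgroup G} (hK : IsCyclic K) (hA : A ≤ K) (hB : B ≤ K)
    (hc : Nat.card A = Nat.card B) : A = B := by
  classical
  haveI := Fintype.ofFinite K
  have hcount := IsCyclic.card_pow_eq_one_le (α := K) (n := Nat.card A) Nat.card_pos
  let F : Finset K := Finset.univ.filter fun a : K => a ^ Nat.card A = 1
  have key : ∀ C : Subgroup G, C ≤ K → Nat.card C = Nat.card A → ∀ x : K, (x : G) ∈ C ↔ x ∈ F := by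
    intro C hC hcc
    let SC : Finset K := Finset.univ.filter fun a : K => (a : G) ∈ C
    have hsub : SC ⊆ F := by
      intro x hx
      have hx' : (x : G) ∈ C := (Finset.mem_filter.1 hx).2
      refine Finset.mem_filter.2 ⟨Finset.mem_univ _, ?_⟩
      apply Subtype.ext
      have h1 : (x : G) ^ Nat.card C = 1 :=
        orderOf_dvd_iff_pow_eq_one.1 (Subgroup.orderOf_dvd_natCard C hx')
      rw [hcc] at h1
      simpa using h1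
    have hcard : SC.card = Nat.card A := by
      rw [← hcc]
      have h2 : Nat.card C = Nat.card {x : K // (x : G) ∈ C} :=
        Nat.card_congr ⟨fun c => ⟨⟨c, hC c.2⟩, c.2⟩, fun x => ⟨x.1.1, x.2⟩, fun _ => rfl, fun _ => rfl⟩
      rw [h2, Nat.card_eq_fintype_card, Fintype.card_subtype]
    have heq : SC = F := Finset.eq_of_subset_of_card_le hsub (by rw [hcard]; exact hcount)
    intro x
    rw [← heq]
    simp [SC]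
  apply le_antisymm
  · intro x hx
    have := (key A hA rfl ⟨x, hA hx⟩).1 hx
    exact (key B hB hc.symm ⟨x, hA hx⟩).2 this
  · intro x hx
    have := (key B hB hc.symm ⟨x, hB hx⟩).1 hx
    exact (key A hA rfl ⟨x, hB hx⟩).2 this

omit [Fintype G] in
theorem mem_norm_singleton {g s : G} (h : g * s * g⁻¹ = s) : g ∈ Subgroup.normalizer ({s} : Set G) := by
  rw [Subgroup.mem_set_normalizer_iff]
  intro y
  simp only [Set.mem_singleton_iff]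
  constructor
  · rintro rfl
    exact h
  · intro h2
    have h3 : g * y * g⁻¹ = g * s * g⁻¹ := by rw [h2, h]
    have h4 := mul_right_cancel h3
    exact mul_left_cancel h4

omit [Fintype G] in
theorem conj_eq_of_mem_norm {g s : G} (h : g ∈ Subgroup.normalizer ({s} : Set G)) : g * s * g⁻¹ = s := by
  rw [Subgroup.mem_set_normalizer_iff] at h
  exact (h s).1 rfl

/-- The trivial intersection property of the cyclic set-up. -/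
theorem ti_conj (hW : IsSelfNormalizingCyclic W₁ W₂) {w x : G} (hw : w ∈ W₁ ⊔ W₂) (hw1 : w ∉ W₁) (hw2 : w ∉ W₂)
    (hy : x⁻¹ * w * x ∈ W₁ ⊔ W₂) (hy1 : x⁻¹ * w * x ∉ W₁) (hy2 : x⁻¹ * w * x ∉ W₂) : x ∈ W₁ ⊔ W₂ := by
  classical
  obtain ⟨-, -, -, -, hcyc, hN⟩ := hW
  have hsub : ∀ v : G, v ∈ W₁ ⊔ W₂ → v ∉ W₁ → v ∉ W₂ →
      ({v} : Set G) ⊆ (↑(W₁ ⊔ W₂) : Set G) \ (↑W₁ ∪ ↑W₂) := by
    intro v h0 h1 h2 u hu
    rw [Set.mem_singleton_iff] at hu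
    subst hu
    refine ⟨h0, ?_⟩
    rintro (h | h)
    · exact h1 h
    · exact h2 h
  have hNw := hN {w} (hsub w hw hw1 hw2) ⟨w, rfl⟩
  have hNy := hN {x⁻¹ * w * x} (hsub _ hy hy1 hy2) ⟨_, rfl⟩
  have hconj : ∀ z ∈ W₁ ⊔ W₂, x⁻¹ * z * x ∈ W₁ ⊔ W₂ := by
    intro z hz
    rw [← hNy]
    apply mem_norm_singleton
    have h1 : z * w * z⁻¹ = w := conj_eq_of_mem_norm (by rw [hNw]; exact hz)
    calc x⁻¹ * z * x * (x⁻¹ * w * x) * (x⁻¹ * z * x)⁻¹ = x⁻¹ * (z * w * z⁻¹) * x := by group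
      _ = x⁻¹ * w * x := by rw [h1]
  have hmap : (W₁ ⊔ W₂).map (MulAut.conj x).toMonoidHom = W₁ ⊔ W₂ := by
    symm
    refine Subgroup.eq_of_le_of_card_ge ?_ ?_
    · intro z hz
      refine (Cfsg.Agent.Lib.H2Basic.mem_map_conj_iff _ _ _).2 (hconj z hz)
    · rw [Cfsg.Agent.Lib.H2Basic.card_map_conj]
  have hmap1 : W₁.map (MulAut.conj x).toMonoidHom = W₁ := by
    refine eq_of_card_eq_of_cyclic hcyc ?_ le_sup_left (Cfsg.Agent.Lib.H2Basic.card_map_conj _ _)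
    rw [← hmap]
    exact Subgroup.map_mono le_sup_left
  have hmap2 : W₂.map (MulAut.conj x).toMonoidHom = W₂ := by
    refine eq_of_card_eq_of_cyclic hcyc ?_ le_sup_right (Cfsg.Agent.Lib.H2Basic.card_map_conj _ _)
    rw [← hmap]
    exact Subgroup.map_mono le_sup_right
  have hX : x ∈ Subgroup.normalizer ((↑(W₁ ⊔ W₂) : Set G) \ (↑W₁ ∪ ↑W₂)) := by
    rw [Subgroup.mem_set_normalizer_iff'']
    intro h
    have e : ∀ K : Subgroup G, K.map (MulAut.conj x).toMonoidHom = K → (h ∈ K ↔ x⁻¹ * h * x ∈ K) := by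
      intro K hK
      rw [← Cfsg.Agent.Lib.H2Basic.mem_map_conj_iff, hK]
    simp only [Set.mem_diff, Set.mem_union, SetLike.mem_coe]
    rw [e _ hmap, e _ hmap1, e _ hmap2]
  rw [hN _ subset_rfl ⟨w, hw, by rintro (h | h); exact hw1 h; exact hw2 h⟩] at hX
  exact hX

theorem W_comm (hW : IsSelfNormalizingCyclic W₁ W₂) {a b : G} (ha : a ∈ W₁ ⊔ W₂) (hb : b ∈ W₁ ⊔ W₂) : a * b = b * a := by
  obtain ⟨-, -, -, -, hcyc, -⟩ := hW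
  have := (IsCyclic.commGroup (α := ↥(W₁ ⊔ W₂))).mul_comm ⟨a, ha⟩ ⟨b, hb⟩
  exact congrArg Subtype.val this

/-- Inducing a function vanishing on `W₁ ∪ W₂`. -/
theorem ind_eq (hW : IsSelfNormalizingCyclic W₁ W₂) (α' : ↥(W₁ ⊔ W₂) → ℂ)
    (hvan : ∀ w : ↥(W₁ ⊔ W₂), ((w : G) ∈ W₁ ∨ (w : G) ∈ W₂) → α' w = 0) (w : ↥(W₁ ⊔ W₂))
    (hw1 : (w : G) ∉ W₁) (hw2 : (w : G) ∉ W₂) : indFun (W₁ ⊔ W₂) α' w = α' w := by
  classical
  rw [Cfsg.Agent.Lib.CharOps.indFun_apply]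
  have h1 : ∀ x : G, extendByZero (W₁ ⊔ W₂) α' (x⁻¹ * w * x) = if x ∈ W₁ ⊔ W₂ then α' w else 0 := by
    intro x
    by_cases hx : x ∈ W₁ ⊔ W₂
    · rw [if_pos hx]
      have e : x⁻¹ * (w : G) * x = w := by
        rw [W_comm hW (Subgroup.inv_mem _ hx) w.2, mul_assoc, W_comm hW (Subgroup.inv_mem _ hx) hx]
        group
      rw [e, Cfsg.Agent.Lib.CharOps.extendByZero_coe]
    · rw [if_neg hx]
      by_cases hy : x⁻¹ * (w : G) * x ∈ W₁ ⊔ W₂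
      · rw [Cfsg.Agent.Lib.CharOps.extendByZero_of_mem _ _ hy]
        apply hvan
        by_contra hcon
        push Not at hcon
        exact hx (ti_conj hW w.2 hw1 hw2 hy hcon.1 hcon.2)
      · exact Cfsg.Agent.Lib.CharOps.extendByZero_of_not_mem _ _ hy
  simp only [h1]
  rw [Cfsg.Agent.Lib.CharOps.sum_ite_subgroup]
  have h0 : (Nat.card ↥(W₁ ⊔ W₂) : ℂ) ≠ 0 := by exact_mod_cast Nat.card_pos.ne'
  field_simp

/-- The sum over `w` of `α_{φ,ψ}(w) · conj (φ₀ ψ₀)(w)`. -/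
theorem sum_alpha_dual [Fintype ↥(W₁ ⊔ W₂)] [DecidableEq (↥(W₁ ⊔ W₂) →* ℂˣ)] (hcomm : ∀ a ∈ W₁, ∀ b ∈ W₂, a * b = b * a)
    {φ ψ φ₀ ψ₀ : ↥(W₁ ⊔ W₂) →* ℂˣ} (hφ : Triv2 W₁ W₂ φ) (hψ : Triv1 W₁ W₂ ψ) (hφ₀ : Triv2 W₁ W₂ φ₀) (hψ₀ : Triv1 W₁ W₂ ψ₀)
    (hφ1 : φ₀ ≠ 1) (hψ1 : ψ₀ ≠ 1) :
    ∑ w : ↥(W₁ ⊔ W₂), alpha φ ψ w * ((φ₀⁻¹ w : ℂˣ) : ℂ) * ((ψ₀⁻¹ w : ℂˣ) : ℂ) =
      (Nat.card ↥(W₁ ⊔ W₂) : ℂ) * (if φ = φ₀ then 1 else 0) * (if ψ = ψ₀ then 1 else 0) := by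
  have hinv : ∀ a : ↥(W₁ ⊔ W₂) →* ℂˣ, a ≠ 1 → a⁻¹ ≠ 1 := by
    intro a ha h
    apply ha
    ext w
    have := DFunLike.congr_fun h w
    simp only [MonoidHom.inv_apply, MonoidHom.one_apply, inv_eq_one] at this
    rw [this]
    rfl
  have e1 : ∀ a b : ↥(W₁ ⊔ W₂) →* ℂˣ, (a * b⁻¹ = 1) ↔ a = b := by
    intro a b
    constructor
    · intro h
      ext w
      have := DFunLike.congr_fun h w
      simp only [MonoidHom.mul_apply, MonoidHom.inv_apply, MonoidHom.one_apply] at this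
      rw [mul_inv_eq_one] at this
      rw [this]
    · rintro rfl
      ext w
      simp
  have e : ∀ w : ↥(W₁ ⊔ W₂), alpha φ ψ w * ((φ₀⁻¹ w : ℂˣ) : ℂ) * ((ψ₀⁻¹ w : ℂˣ) : ℂ) =
      ((φ₀⁻¹ w : ℂˣ) : ℂ) * ((ψ₀⁻¹ w : ℂˣ) : ℂ) - (((φ * φ₀⁻¹) w : ℂˣ) : ℂ) * ((ψ₀⁻¹ w : ℂˣ) : ℂ)
        - ((φ₀⁻¹ w : ℂˣ) : ℂ) * (((ψ * ψ₀⁻¹) w : ℂˣ) : ℂ) + (((φ * φ₀⁻¹) w : ℂˣ) : ℂ) * (((ψ * ψ₀⁻¹) w : ℂˣ) : ℂ) := by
    intro w
    simp only [alpha, MonoidHom.mul_apply, Units.val_mul]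
    ring
  simp only [e, Finset.sum_add_distrib, Finset.sum_sub_distrib]
  have hinvφ := triv2_inv hφ₀
  have hinvψ := triv1_inv hψ₀
  rw [sum_mul_char hcomm hinvφ hinvψ, sum_mul_char hcomm (triv2_mul hφ hinvφ) hinvψ,
    sum_mul_char hcomm hinvφ (triv1_mul hψ hinvψ), sum_mul_char hcomm (triv2_mul hφ hinvφ) (triv1_mul hψ hinvψ),
    if_neg (hinv _ hφ1), if_neg (hinv _ hψ1)]
  simp only [e1]
  ring

/-- A separating character of a quotient of a commutative group. -/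
theorem exists_char_quot {A : Type*} [Group A] [Finite A] (hc : ∀ a b : A, a * b = b * a) (N : Subgroup A)
    {z : A} (hz : z ∉ N) : ∃ φ : A →* ℂˣ, (∀ n ∈ N, φ n = 1) ∧ φ z ≠ 1 := by
  letI instC : CommGroup A := { (inferInstance : Group A) with mul_comm := hc }
  have hne : (QuotientGroup.mk z : A ⧸ N) ≠ 1 := by
    intro h
    exact hz ((QuotientGroup.eq_one_iff z).1 h)
  obtain ⟨χ, hχ⟩ := CommGroup.exists_apply_ne_one_of_hasEnoughRootsOfUnity (A ⧸ N) ℂ hne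
  refine ⟨χ.comp (QuotientGroup.mk' N), ?_, hχ⟩
  intro n hn
  have : (QuotientGroup.mk' N) n = 1 := (QuotientGroup.eq_one_iff n).2 hn
  rw [MonoidHom.comp_apply, this, map_one]

/-- A class function whose restriction annihilates `α` pointwise is orthogonal to `Ind α`. -/
theorem inner_ind_zero {θ : G → ℂ} (hθ : IsClassFunction G θ)
    (α : ↥(W₁ ⊔ W₂) → ℂ) (hα : ∀ w : ↥(W₁ ⊔ W₂), θ w = 0 ∨ α w = 0) :
    classInner (indFun (W₁ ⊔ W₂) α) θ = 0 := by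
  classical
  letI : Fintype ↥(W₁ ⊔ W₂) := Fintype.ofFinite _
  rw [Cfsg.Agent.Lib.CharOps.frobenius_reciprocity _ _ hθ, classInner]
  rw [Finset.sum_eq_zero, mul_zero]
  intro w _
  rcases hα w with h | h
  · simp [h]
  · simp [h]

theorem inner_lin (θ A B C D : G → ℂ) :
    classInner θ (fun g => A g - B g - C g + D g) =
      classInner θ A - classInner θ B - classInner θ C + classInner θ D := by
  simp only [classInner, map_add, map_sub, mul_add, mul_sub, Finset.sum_add_distrib, Finset.sum_sub_distrib]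

theorem inner_one_of_induced {χ : (↥(W₁ ⊔ W₂) →* ℂˣ) → (G → ℂ)} (hχ : IsCyclicTIFamily W₁ W₂ χ)
    (θ : G → ℂ) {φ ψ : ↥(W₁ ⊔ W₂) →* ℂˣ} (hφ1 : φ ≠ 1) (hψ1 : ψ ≠ 1) (hφ : Triv2 W₁ W₂ φ) (hψ : Triv1 W₁ W₂ ψ) :
    classInner θ (indFun (W₁ ⊔ W₂) (fun w => 1 - (φ w : ℂ) - (ψ w : ℂ) + (φ w : ℂ) * (ψ w : ℂ))) =
      classInner θ (χ 1) - classInner θ (χ φ) - classInner θ (χ ψ) + classInner θ (χ (φ * ψ)) := by
  rw [hχ.induced_eq φ ψ hφ1 hψ1 hφ hψ, hχ.map_one]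
  exact inner_lin θ (fun _ => 1) (χ φ) (χ ψ) (χ (φ * ψ))

/-- The additivity of `a(ω) = ⟨θ, χ ω⟩` along `φ ψ`, for a class function `θ` vanishing on `W ∖ (W₁ ∪ W₂)`. -/
theorem a_mul {χ : (↥(W₁ ⊔ W₂) →* ℂˣ) → (G → ℂ)} (hχ : IsCyclicTIFamily W₁ W₂ χ)
    {θ : G → ℂ} (hθ : IsClassFunction G θ)
    (hθV : ∀ w : ↥(W₁ ⊔ W₂), (w : G) ∉ W₁ → (w : G) ∉ W₂ → θ w = 0)
    {φ ψ : ↥(W₁ ⊔ W₂) →* ℂˣ} (hφ : Triv2 W₁ W₂ φ) (hψ : Triv1 W₁ W₂ ψ) :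
    classInner θ (χ (φ * ψ)) = classInner θ (χ φ) + classInner θ (χ ψ) - classInner θ (χ 1) := by
  by_cases hφ1 : φ = 1
  · subst hφ1
    have e : (1 : ↥(W₁ ⊔ W₂) →* ℂˣ) * ψ = ψ := by
      ext w
      simp
    rw [e]
    ring
  by_cases hψ1 : ψ = 1
  · subst hψ1
    have e : φ * (1 : ↥(W₁ ⊔ W₂) →* ℂˣ) = φ := by
      ext w
      simp
    rw [e]
    ring
  have h1 := inner_one_of_induced hχ θ hφ1 hψ1 hφ hψ
  have h2 : classInner (indFun (W₁ ⊔ W₂) (fun w => 1 - (φ w : ℂ) - (ψ w : ℂ) + (φ w : ℂ) * (ψ w : ℂ))) θ = 0 := by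
    apply inner_ind_zero hθ
    intro w
    by_cases hw : (w : G) ∈ W₁ ∨ (w : G) ∈ W₂
    · right
      exact alpha_vanish hφ hψ w hw
    · left
      push Not at hw
      exact hθV w hw.1 hw.2
  have h3 : classInner θ (indFun (W₁ ⊔ W₂) (fun w => 1 - (φ w : ℂ) - (ψ w : ℂ) + (φ w : ℂ) * (ψ w : ℂ))) = 0 := by
    rw [← Cfsg.Agent.Lib.CharIrr.classInner_conj, h2, map_zero]
  rw [h3] at h1
  linear_combination -h1

/-- Dual orthogonality of linear characters trivial on a subgroup `K ≤ W`. -/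
theorem sum_dual [Fintype (↥(W₁ ⊔ W₂) →* ℂˣ)] (hW : IsSelfNormalizingCyclic W₁ W₂) (K : Subgroup ↥(W₁ ⊔ W₂))
    (P : Finset (↥(W₁ ⊔ W₂) →* ℂˣ)) (hP : ∀ f, f ∈ P ↔ ∀ k ∈ K, f k = 1) (z : ↥(W₁ ⊔ W₂)) (hz : z ∉ K) :
    ∑ f ∈ P, ((f z : ℂˣ) : ℂ) = 0 := by
  classical
  have hc : ∀ a b : ↥(W₁ ⊔ W₂), a * b = b * a := fun a b => Subtype.ext (W_comm hW a.2 b.2)
  obtain ⟨f₀, hf₀, hf₀z⟩ := exists_char_quot hc K hz
  have hf₀P : f₀ ∈ P := (hP f₀).2 hf₀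
  have h1 : ((f₀ z : ℂˣ) : ℂ) * ∑ f ∈ P, ((f z : ℂˣ) : ℂ) = ∑ f ∈ P, ((f z : ℂˣ) : ℂ) := by
    rw [Finset.mul_sum]
    refine Finset.sum_bij' (fun f _ => f₀ * f) (fun f _ => f₀⁻¹ * f) ?_ ?_ ?_ ?_ ?_
    · intro f hf
      rw [hP] at hf ⊢
      intro k hk
      simp [hf₀ k hk, hf k hk]
    · intro f hf
      rw [hP] at hf ⊢
      intro k hk
      simp [hf₀ k hk, hf k hk]
    · intro f _
      ext w
      simp
    · intro f _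
      ext w
      simp
    · intro f _
      simp
  have h2 : ((f₀ z : ℂˣ) : ℂ) ≠ 1 := fun e => hf₀z (Units.ext e)
  have h3 : (((f₀ z : ℂˣ) : ℂ) - 1) * ∑ f ∈ P, ((f z : ℂˣ) : ℂ) = 0 := by
    rw [sub_mul, h1, one_mul, sub_self]
  exact (mul_eq_zero.1 h3).resolve_left (sub_ne_zero.2 h2)

end Cfsg.Agent.Lib.LinChar
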