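import Cfsg.Prelude.Def_OddOrderLocal
import Cfsg.Agent.S0071
import Cfsg.Agent.Lib.H6PGroup
import Cfsg.Agent.Lib.FitCore
import Cfsg.Agent.Lib.PNilp
import Cfsg.Agent.Lib.PResidual

/-!
# Normal `p`-complements for metacyclic Sylow subgroups
-/

set_option autoImplicit false
set_option linter.all false

namespace Cfsg.Agent.Lib.MetaNpc

open Cfsg

section Act

variable {p : ℕ} [hp : Fact p.Prime]

theorem prime_of_action {P : Type*} [Group P] [Finite P] (hP : IsPGroup p P)
    (hV : Nat.card (P ⧸ frattini P) ≤ p ^ 2) (α : P ≃* P) {q e : ℕ} [hq : Fact q.Prime] (hqp : q ≠ p)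
    (hα : α ^ (q ^ e) = 1) (hne : α ≠ 1) : q ∣ p ^ 2 - 1 := by
  classical
  letI : Fintype P := Fintype.ofFinite _
  let Φ := frattini P
  have hmap : Φ.map (α : P →* P) = Φ := by
    have h1 := (Subgroup.characteristic_iff_map_eq.1 (inferInstance : Φ.Characteristic)) α
    exact h1
  let β := QuotientGroup.congr Φ Φ α hmap
  have hβmk : ∀ x : P, β (x : P ⧸ Φ) = ((α x : P) : P ⧸ Φ) := fun x => rfl
  have hβpow : ∀ (n : ℕ) (x : P), ((β : (P ⧸ Φ) → (P ⧸ Φ))^[n]) (x : P ⧸ Φ) = (((α ^ n) x : P) : P ⧸ Φ) := by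
    intro n
    induction n with
    | zero =>
      intro x
      rfl
    | succ n ih =>
      intro x
      rw [Function.iterate_succ_apply', ih, hβmk, pow_succ']
      rfl
  let f : Function.End (P ⧸ Φ) := (β : (P ⧸ Φ) → (P ⧸ Φ))
  have hf : f ^ (q ^ e) = 1 := by
    funext v
    obtain ⟨x, rfl⟩ := QuotientGroup.mk_surjective v
    have h0 : ∀ (n : ℕ) (v : P ⧸ Φ), (f ^ n) v = ((β : (P ⧸ Φ) → (P ⧸ Φ))^[n]) v := by
      intro n
      induction n with
      | zero =>
        intro v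
        rfl
      | succ n ih =>
        intro v
        rw [pow_succ', Function.iterate_succ_apply']
        show f ((f ^ n) v) = _
        rw [ih]
    rw [h0, hβpow, hα]
    rfl
  letI : Fintype (P ⧸ Φ) := Fintype.ofFinite _
  have hmod := Equiv.Perm.card_fixedPoints_modEq (f := f) hf
  let V₀ : Subgroup (P ⧸ Φ) :=
    { carrier := {v | β v = v}
      one_mem' := map_one β
      mul_mem' := fun {a b} ha hb => by
        show β (a * b) = a * b
        rw [map_mul, ha, hb]
      inv_mem' := fun {a} ha => by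
        show β a⁻¹ = a⁻¹
        rw [map_inv, ha] }
  have hcardfix : Fintype.card (Function.fixedPoints f) = Nat.card V₀ := by
    rw [← Nat.card_eq_fintype_card]
    rfl
  rw [hcardfix, ← Nat.card_eq_fintype_card] at hmod
  have hV₀ : V₀ ≠ ⊤ := by
    intro htop
    apply hne
    have hfix : ∀ v : P ⧸ Φ, β v = v := fun v => by
      have h1 : v ∈ V₀ := by rw [htop]; trivial
      exact h1
    have hall : ∀ (n : ℕ) (x : P), ((α ^ n) x) * x⁻¹ ∈ frattini P := by
      intro n x
      have h1 : ((β : (P ⧸ Φ) → (P ⧸ Φ))^[n]) (x : P ⧸ Φ) = (x : P ⧸ Φ) := by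
        exact Function.iterate_fixed (hfix _) n
      rw [hβpow] at h1
      have h2 : (x : P)⁻¹ * ((α ^ n) x) ∈ Φ := QuotientGroup.eq.1 h1.symm
      have e1 : ((α ^ n) x) * x⁻¹ = x * (x⁻¹ * ((α ^ n) x)) * x⁻¹ := by group
      rw [e1]
      exact (inferInstance : Φ.Normal).conj_mem _ h2 x
    have hdvd := Cfsg.Agent.Lib.H6PGroup.card_dvd_of_trivial_frattini (Finset.univ : Finset P)
      (by simp) (Subgroup.zpowers α) (by
        intro γ hγ x
        obtain ⟨n, hn⟩ := mem_powers_iff_mem_zpowers.2 hγ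
        have hn' : α ^ n = γ := hn
        rw [← hn']
        exact hall n x)
    rw [Nat.card_zpowers] at hdvd
    obtain ⟨k, hk⟩ := IsPGroup.iff_card.1 (hP.to_subgroup (frattini P))
    rw [hk] at hdvd
    have h1 : orderOf α ∣ q ^ e := orderOf_dvd_of_pow_eq_one hα
    have h3 : Nat.Coprime (orderOf α) (orderOf α) := by
      apply Nat.Coprime.coprime_dvd_left h1
      apply Nat.Coprime.coprime_dvd_right hdvd
      rw [← pow_mul]
      exact Nat.Coprime.pow _ _ ((Nat.coprime_primes hq.out hp.out).2 hqp)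
    rw [Nat.coprime_self] at h3
    exact orderOf_eq_one_iff.1 h3
  have hPV : IsPGroup p (P ⧸ Φ) := hP.to_quotient Φ
  obtain ⟨s, hs⟩ := IsPGroup.iff_card.1 hPV
  obtain ⟨t, ht⟩ := IsPGroup.iff_card.1 (hPV.to_subgroup V₀)
  have hdv : p ^ t ∣ p ^ s := by
    rw [← hs, ← ht]
    exact Subgroup.card_subgroup_dvd_card V₀
  have hts : t ≤ s := (Nat.pow_dvd_pow_iff_le_right hp.out.one_lt).1 hdv
  have hne' : t ≠ s := by
    intro h1
    apply hV₀
    apply Subgroup.eq_top_of_card_eq
    rw [ht, hs, h1]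
  have hs2 : s ≤ 2 := by
    rw [hs] at hV
    exact (Nat.pow_le_pow_iff_right hp.out.one_lt).1 hV
  rw [hs, ht] at hmod
  have h1 : q ∣ p ^ s - p ^ t := (Nat.modEq_iff_dvd' (Nat.pow_le_pow_right hp.out.pos hts)).1 hmod.symm
  obtain ⟨d, rfl⟩ : ∃ d, s = t + d := ⟨s - t, by omega⟩
  have e2 : p ^ (t + d) - p ^ t = p ^ t * (p ^ d - 1) := by
    rw [pow_add, Nat.mul_sub, mul_one]
  rw [e2] at h1
  have hcop : Nat.Coprime q (p ^ t) := Nat.Coprime.pow_right _ ((Nat.coprime_primes hq.out hp.out).2 hqp)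
  have h2 : q ∣ p ^ d - 1 := hcop.dvd_of_dvd_mul_left h1
  have hd : d = 1 ∨ d = 2 := by omega
  rcases hd with rfl | rfl
  · refine h2.trans ?_
    rw [pow_one]
    have e3 : p ^ 2 - 1 = (p - 1) * (p + 1) := by
      have : 1 ≤ p := hp.out.pos
      obtain ⟨r, rfl⟩ : ∃ r, p = r + 1 := ⟨p - 1, by omega⟩
      simp only [Nat.add_sub_cancel]
      have e4 : (r + 1) ^ 2 = r * (r + 1 + 1) + 1 := by ring
      omega
    rw [e3]
    exact dvd_mul_right _ _
  · exact h2

theorem card_frat_le {P : Type*} [Group P] [Finite P] (hP : IsPGroup p P) (K : Subgroup P) [K.Normal]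
    (hK : IsCyclic K) (hQ : IsCyclic (P ⧸ K)) : Nat.card (P ⧸ frattini P) ≤ p ^ 2 := by
  classical
  obtain ⟨a, ha⟩ := hK.exists_generator
  obtain ⟨bb, hb⟩ := hQ.exists_generator
  obtain ⟨b, rfl⟩ := QuotientGroup.mk_surjective bb
  let F : Fin p × Fin p → P ⧸ frattini P := fun ij => ((b ^ (ij.2 : ℕ) * (a : P) ^ (ij.1 : ℕ) : P) : P ⧸ frattini P)
  have hpow : ∀ (y : P) (n : ℕ), ((y : P) : P ⧸ frattini P) ^ n = ((y : P) : P ⧸ frattini P) ^ (n % p) := by
    intro y n
    apply pow_eq_pow_mod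
    exact (QuotientGroup.eq_one_iff _).2 (Cfsg.Agent.Lib.H6PGroup.pow_mem_frattini hP y)
  have hF : Function.Surjective F := by
    intro v
    obtain ⟨x, rfl⟩ := QuotientGroup.mk_surjective v
    obtain ⟨j, hj⟩ := mem_powers_iff_mem_zpowers.2 (hb (x : P ⧸ K))
    have hj' : (b : P ⧸ K) ^ j = (x : P ⧸ K) := hj
    have h1 : (b ^ j)⁻¹ * x ∈ K := QuotientGroup.eq.1 (by rw [QuotientGroup.mk_pow]; exact hj')
    obtain ⟨i, hi⟩ := mem_powers_iff_mem_zpowers.2 (ha ⟨_, h1⟩)
    have hi' : a ^ i = ⟨(b ^ j)⁻¹ * x, h1⟩ := hi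
    have hi2 : (a : P) ^ i = (b ^ j)⁻¹ * x := congrArg Subtype.val hi'
    have hx : x = b ^ j * (a : P) ^ i := by rw [hi2]; group
    have hp0 : 0 < p := hp.out.pos
    refine ⟨(⟨i % p, Nat.mod_lt _ hp0⟩, ⟨j % p, Nat.mod_lt _ hp0⟩), ?_⟩
    show ((b ^ (j % p) * (a : P) ^ (i % p) : P) : P ⧸ frattini P) = (x : P ⧸ frattini P)
    rw [hx, QuotientGroup.mk_mul, QuotientGroup.mk_mul, QuotientGroup.mk_pow, QuotientGroup.mk_pow,
      QuotientGroup.mk_pow, QuotientGroup.mk_pow, ← hpow, ← hpow]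
  have h1 := Nat.card_le_card_of_surjective F hF
  rw [Nat.card_prod, Nat.card_eq_fintype_card (α := Fin p), Fintype.card_fin, ← pow_two] at h1
  exact h1

theorem card_frat_of_meta {R P : Type*} [Group R] [Finite R] [Group P] [Finite P] (hR : IsMetacyclic R)
    (hPp : IsPGroup p P) (ι : P →* R) (hι : Function.Injective ι) : Nat.card (P ⧸ frattini P) ≤ p ^ 2 := by
  obtain ⟨N, hNn, hN1, hN2⟩ := hR
  let g : P →* R ⧸ N := (QuotientGroup.mk' N).comp ι
  haveI hK : g.ker.Normal := MonoidHom.normal_ker g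
  apply card_frat_le hPp g.ker
  · let f : g.ker →* N :=
      { toFun := fun k => ⟨ι k, (QuotientGroup.eq_one_iff _).1 k.2⟩
        map_one' := by
          apply Subtype.ext
          simp
        map_mul' := fun _ _ => by
          apply Subtype.ext
          simp }
    have hinj : Function.Injective f := by
      intro k k' h
      apply Subtype.ext
      apply hι
      exact congrArg (fun w : N => (w : R)) h
    exact isCyclic_of_injective f hinj
  · exact isCyclic_of_injective (QuotientGroup.kerLift g) (QuotientGroup.kerLift_injective g)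

end Act

section Main

variable {G : Type*} [Group G] [Finite G] {p : ℕ} [hp : Fact p.Prime]

/-- Reduction to elements of prime power order. -/
theorem exists_prime_power_not_mem (C : Subgroup G) (n : ℕ) : ∀ g : G, orderOf g = n → g ∉ C →
    ∃ u ∈ Subgroup.zpowers g, u ∉ C ∧ ∃ q e : ℕ, q.Prime ∧ orderOf u = q ^ e := by
  induction n using Nat.strong_induction_on with
  | _ n ih =>
    intro x hn hx
    have hn1 : n ≠ 1 := by
      intro h1
      rw [h1, orderOf_eq_one_iff] at hn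
      rw [hn] at hx
      exact hx (Subgroup.one_mem _)
    let q := n.minFac
    have hq : q.Prime := Nat.minFac_prime hn1
    haveI : Fact q.Prime := ⟨hq⟩
    have hqn : q ∣ n := Nat.minFac_dvd n
    obtain ⟨u, z, huz, hc, hu, ⟨m, hm⟩, huy, hzy⟩ := Cfsg.Agent.Lib.PResidual.exists_decomp (p := q) x
    have hnpos : 0 < n := by
      rw [← hn]
      exact orderOf_pos x
    have hult : orderOf u < n := by
      have h1 : orderOf u ≤ n := Nat.le_of_dvd hnpos (by rw [← hn]; exact orderOf_dvd_of_mem_zpowers huy)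
      refine lt_of_le_of_ne h1 ?_
      intro h2
      rw [h2] at hu
      exact (Nat.Prime.coprime_iff_not_dvd hq).1 hu.symm hqn
    by_cases huc : u ∈ C
    · by_cases hzc : z ∈ C
      · exfalso
        apply hx
        rw [huz]
        exact Subgroup.mul_mem _ huc hzc
      · exact ⟨z, hzy, hzc, q, m, hq, hm⟩
    · obtain ⟨v, hv, hvC, h⟩ := ih _ hult u rfl huc
      exact ⟨v, Subgroup.zpowers_le.2 huy hv, hvC, h⟩

theorem core_of_npc (h : HasNormalPComplement p G) : pPrimePCore p G = ⊤ := by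
  classical
  obtain ⟨N, hNn, hNp, hpow⟩ := Cfsg.Agent.Lib.PNilp.npc_iff.1 h
  have hNL : N ≤ pPrimeCore p G := by
    apply le_sSup
    refine ⟨hNn, ?_⟩
    exact Nat.Coprime.symm ((Nat.Prime.coprime_iff_not_dvd hp.out).2 hNp)
  haveI hLn : (pPrimeCore p G).Normal := Cfsg.Agent.Lib.FitCore.pPrimeCore_normal p
  have hpg : IsPGroup p (G ⧸ pPrimeCore p G) := by
    intro v
    obtain ⟨g, rfl⟩ := QuotientGroup.mk_surjective v
    obtain ⟨k, hk⟩ := hpow g
    exact ⟨k, (QuotientGroup.eq_one_iff _).2 (hNL hk)⟩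
  have h1 : (⊤ : Subgroup (G ⧸ pPrimeCore p G)) ≤ pCore p (G ⧸ pPrimeCore p G) :=
    Cfsg.Agent.Lib.FitCore.le_pCore p _ inferInstance (hpg.to_subgroup _)
  rw [eq_top_iff]
  intro g _
  exact h1 (Subgroup.mem_top _)

theorem main_iff (S : Sylow p G) (hS : IsMetacyclic ↥(S : Subgroup G)) :
    HasNormalPComplement p G ↔ Nat.Coprime (Nat.card (G ⧸ pPrimePCore p G)) (p ^ 2 - 1) := by
  classical
  constructor
  · intro h
    rw [core_of_npc h]
    have h1 : Nat.card (G ⧸ (⊤ : Subgroup G)) = 1 := Subgroup.index_top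
    rw [h1]
    exact Nat.coprime_one_left _
  · intro hcop
    haveI hLn : (pPrimeCore p G).Normal := Cfsg.Agent.Lib.FitCore.pPrimeCore_normal p
    haveI hUn : (pPrimePCore p G).Normal := by
      unfold pPrimePCore
      haveI := Cfsg.Agent.Lib.FitCore.pCore_normal (G := G ⧸ pPrimeCore p G) p
      exact Subgroup.Normal.comap inferInstance _
    suffices hs : ∀ Q : Subgroup G, Q ≤ (S : Subgroup G) → ∀ g ∈ Subgroup.normalizer (Q : Set G),
        Nat.Coprime (orderOf g) p → g ∈ Subgroup.centralizer (Q : Set G) by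
      obtain ⟨N, hNn, hNc⟩ := (Cfsg.Agent.S0071.result S).2 hs
      exact ⟨S, N, hNn, hNc⟩
    intro Q hQS g hg hgc
    by_contra hcon
    obtain ⟨u, huy, hu, q, e, hq, hue⟩ := exists_prime_power_not_mem (Subgroup.centralizer (Q : Set G)) _ g rfl hcon
    haveI : Fact q.Prime := ⟨hq⟩
    have hug : u ∈ Subgroup.normalizer (Q : Set G) := Subgroup.zpowers_le.2 hg huy
    have hqdvd : q ∣ orderOf u := by
      rw [hue]
      rcases e with _ | e
      · exfalso
        rw [pow_zero, orderOf_eq_one_iff] at hue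
        apply hu
        rw [hue]
        exact Subgroup.one_mem _
      · exact dvd_pow_self q (by omega)
    have hqp : q ≠ p := by
      rintro rfl
      have h1 : orderOf u ∣ orderOf g := orderOf_dvd_of_mem_zpowers huy
      exact (Nat.Prime.coprime_iff_not_dvd hq).1 hgc.symm (hqdvd.trans h1)
    -- the action on `Q`
    let α : MulAut Q := Subgroup.normalizerMonoidHom Q ⟨u, hug⟩
    have hα : ∀ x : Q, ((α x : Q) : G) = u * x * u⁻¹ := fun x => rfl
    have hαpow : ∀ (n : ℕ) (x : Q), (((α ^ n) x : Q) : G) = u ^ n * x * (u ^ n)⁻¹ := by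
      intro n x
      induction n with
      | zero => simp
      | succ n ih =>
        rw [pow_succ', MulAut.mul_apply, hα, ih, pow_succ']
        group
    have hα1 : α ^ (q ^ e) = 1 := by
      ext x
      rw [hαpow, ← hue, pow_orderOf_eq_one]
      simp
    have hαne : α ≠ 1 := by
      intro h1
      apply hu
      rw [Subgroup.mem_centralizer_iff]
      intro x hx
      have h2 := hα ⟨x, hx⟩
      rw [h1] at h2
      have h3 : x = u * x * u⁻¹ := h2
      exact (mul_inv_eq_iff_eq_mul.1 h3.symm).symm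
    -- the Frattini quotient of `Q`
    have hQp : IsPGroup p Q := S.isPGroup'.to_le hQS
    have hV : Nat.card (↥Q ⧸ frattini ↥Q) ≤ p ^ 2 := by
      exact card_frat_of_meta hS hQp (Subgroup.inclusion hQS) (Subgroup.inclusion_injective hQS)
    have hqd : q ∣ p ^ 2 - 1 := prime_of_action hQp hV α hqp hα1 hαne
    -- `u` is not in `O_{p',p}(G)`
    have huU : u ∉ pPrimePCore p G := by
      intro hmem
      apply hu
      have hmem2 : ((u : G) : G ⧸ pPrimeCore p G) ∈ pCore p (G ⧸ pPrimeCore p G) := hmem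
      have hpg := Cfsg.Agent.Lib.FitCore.pCore_isPGroup (G := G ⧸ pPrimeCore p G) p
      obtain ⟨k, hk⟩ := hpg ⟨_, hmem2⟩
      have hk' : ((u : G) : G ⧸ pPrimeCore p G) ^ (p ^ k) = 1 := congrArg Subtype.val hk
      have h1 : orderOf ((u : G) : G ⧸ pPrimeCore p G) ∣ p ^ k := orderOf_dvd_of_pow_eq_one hk'
      have h2 : orderOf ((u : G) : G ⧸ pPrimeCore p G) ∣ q ^ e := by
        rw [← hue]
        exact orderOf_map_dvd (QuotientGroup.mk' (pPrimeCore p G)) u
      have h3 : orderOf ((u : G) : G ⧸ pPrimeCore p G) = 1 := by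
        have h4 : Nat.Coprime (q ^ e) (p ^ k) := Nat.Coprime.pow _ _ ((Nat.coprime_primes hq hp.out).2 hqp)
        exact Nat.Coprime.eq_one_of_dvd (Nat.Coprime.coprime_dvd_left h2 h4) h1
      rw [orderOf_eq_one_iff] at h3
      have huL : u ∈ pPrimeCore p G := (QuotientGroup.eq_one_iff u).1 h3
      rw [Subgroup.mem_centralizer_iff]
      intro x hx
      have hc : u * x * u⁻¹ * x⁻¹ ∈ Q := by
        refine Q.mul_mem ?_ (Q.inv_mem hx)
        exact (Subgroup.mem_normalizer_iff.1 hug x).1 hx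
      have hcL : u * x * u⁻¹ * x⁻¹ ∈ pPrimeCore p G := by
        have e1 : u * x * u⁻¹ * x⁻¹ = u * (x * u⁻¹ * x⁻¹) := by group
        rw [e1]
        exact Subgroup.mul_mem _ huL (hLn.conj_mem _ (Subgroup.inv_mem _ huL) x)
      have h5 : u * x * u⁻¹ * x⁻¹ = 1 := by
        have h6 := Cfsg.Agent.Lib.FitCore.not_dvd_card_pPrimeCore (G := G) p hp.out
        obtain ⟨k', hk'⟩ := hQp ⟨_, hc⟩
        have h7 : (u * x * u⁻¹ * x⁻¹) ^ (p ^ k') = 1 := congrArg Subtype.val hk'
        have h8 : orderOf (u * x * u⁻¹ * x⁻¹) ∣ p ^ k' := orderOf_dvd_of_pow_eq_one h7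
        have h9 : orderOf (u * x * u⁻¹ * x⁻¹) ∣ Nat.card (pPrimeCore p G) := by
          have := Subgroup.orderOf_dvd_natCard (pPrimeCore p G) hcL
          exact this
        have h10 : Nat.Coprime (p ^ k') (Nat.card (pPrimeCore p G)) := Nat.Coprime.pow_left _ ((Nat.Prime.coprime_iff_not_dvd hp.out).2 h6)
        have h11 := Nat.Coprime.eq_one_of_dvd (Nat.Coprime.coprime_dvd_left h8 h10) h9
        exact orderOf_eq_one_iff.1 h11
      have h12 : u * x * u⁻¹ = x := mul_inv_eq_one.1 h5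
      exact (mul_inv_eq_iff_eq_mul.1 h12).symm
    -- `q` divides the index
    have hqU : q ∣ Nat.card (G ⧸ pPrimePCore p G) := by
      have h1 : orderOf ((u : G) : G ⧸ pPrimePCore p G) ≠ 1 := by
        rw [Ne, orderOf_eq_one_iff]
        exact fun h => huU ((QuotientGroup.eq_one_iff u).1 h)
      have h2 : orderOf ((u : G) : G ⧸ pPrimePCore p G) ∣ q ^ e := by
        rw [← hue]
        exact orderOf_map_dvd (QuotientGroup.mk' (pPrimePCore p G)) u
      obtain ⟨k, -, hk⟩ := (Nat.dvd_prime_pow hq).1 h2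
      rcases k with _ | k
      · rw [pow_zero] at hk
        exact absurd hk h1
      · refine Dvd.dvd.trans ?_ (orderOf_dvd_natCard ((u : G) : G ⧸ pPrimePCore p G))
        rw [hk]
        exact dvd_pow_self q (by omega)
    have h3 := Nat.dvd_gcd hqU hqd
    rw [hcop] at h3
    exact hq.one_lt.ne' (Nat.dvd_one.1 h3)

end Main

end Cfsg.Agent.Lib.MetaNpc
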