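import Mathlib
import Cfsg.Prelude.Def_Transfer
import Cfsg.Prelude.Def_LocalStructure

/-! Minimal non-`p`-closed groups: the irreducible action of a group of order `p` on an elementary
abelian `q`-group. -/

set_option autoImplicit false
set_option linter.all false

namespace Cfsg.Agent.Lib.MinPClosed

open Cfsg

theorem card_le_of_simple {q : ℕ} [hq : Fact q.Prime] {B : Type*} [AddCommGroup B] [Module (ZMod q) B]
    [Finite B] [Nontrivial B] (φ : Module.End (ZMod q) B) (N : ℕ) (hN : 1 ≤ N) (hφ : φ ^ (q ^ N) = φ)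
    (hsimple : ∀ W : Submodule (ZMod q) B, (∀ v ∈ W, φ v ∈ W) → W = ⊥ ∨ W = ⊤) :
    Nat.card B ≤ q ^ N := by
  classical
  have hfrob : ∀ f : Polynomial (ZMod q), (Polynomial.aeval φ f) ^ (q ^ N) = Polynomial.aeval φ f := by
    intro f
    have h1 : ∀ n, f ^ (q ^ n) = Polynomial.expand (ZMod q) (q ^ n) f := by
      intro n
      induction n with
      | zero => simp
      | succ n ih =>
        rw [pow_succ q n, pow_mul, ih, ← ZMod.expand_card, Polynomial.expand_expand, mul_comm]
    rw [← map_pow, h1, Polynomial.expand_aeval, hφ]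
  let Rs : Subalgebra (ZMod q) (Module.End (ZMod q) B) := (Polynomial.aeval φ).range
  have hcomm : ∀ a b : Rs, a * b = b * a := by
    rintro ⟨a, f, hf⟩ ⟨b, g, hg⟩
    apply Subtype.ext
    show a * b = b * a
    rw [← hf, ← hg]
    rw [← map_mul, ← map_mul, mul_comm]
  letI cr : CommRing Rs := { (inferInstance : Ring Rs) with mul_comm := hcomm }
  let φR : Rs := ⟨φ, Polynomial.X, by simp⟩
  haveI hfin : Finite (Module.End (ZMod q) B) := DFunLike.finite _
  haveI : Finite Rs := inferInstance
  haveI : Nontrivial Rs := by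
    refine ⟨⟨0, 1, fun h => ?_⟩⟩
    have h1 : (0 : Module.End (ZMod q) B) = 1 := congrArg Subtype.val h
    obtain ⟨v, hv⟩ := exists_ne (0 : B)
    have h2 := LinearMap.congr_fun h1 v
    simp at h2
    exact hv h2.symm
  have hinj : ∀ b : Rs, b ≠ 0 → Function.Injective (b : Module.End (ZMod q) B) := by
    intro b hb
    have h1 := hsimple (LinearMap.ker (b : Module.End (ZMod q) B)) (by
      intro v hv
      have h2 : b * φR = φR * b := mul_comm _ _
      have h3 : ((b * φR : Rs) : Module.End (ZMod q) B) v = ((φR * b : Rs) : Module.End (ZMod q) B) v := by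
        rw [h2]
      change (b : Module.End (ZMod q) B) (φ v) = φ ((b : Module.End (ZMod q) B) v) at h3
      rw [LinearMap.mem_ker] at hv ⊢
      rw [h3, hv, map_zero])
    rcases h1 with h1 | h1
    · exact LinearMap.ker_eq_bot.mp h1
    · exfalso
      apply hb
      apply Subtype.ext
      exact LinearMap.ker_eq_top.mp h1
  haveI : NoZeroDivisors Rs := by
    refine ⟨fun {a b} hab => ?_⟩
    by_contra hcon
    push Not at hcon
    have hb := hinj b hcon.2
    have hsurj : Function.Surjective (b : Module.End (ZMod q) B) := Finite.surjective_of_injective hb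
    apply hcon.1
    apply Subtype.ext
    apply LinearMap.ext
    intro v
    obtain ⟨u, rfl⟩ := hsurj v
    have h1 : ((a * b : Rs) : Module.End (ZMod q) B) u = 0 := by rw [hab]; rfl
    exact h1
  haveI : IsDomain Rs := NoZeroDivisors.to_isDomain _
  haveI : Fintype Rs := Fintype.ofFinite Rs
  have hfr : ∀ T : Rs, T ^ (q ^ N) = T := by
    rintro ⟨T, f, hf⟩
    apply Subtype.ext
    show T ^ (q ^ N) = T
    rw [← hf]
    exact hfrob f
  have hcardR : Nat.card Rs ≤ q ^ N := by
    have hqN : 1 < q ^ N := Nat.one_lt_pow (by omega) hq.out.one_lt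
    let P : Polynomial Rs := Polynomial.X ^ (q ^ N) - Polynomial.X
    have hdeg : P.natDegree = q ^ N := by
      have h1 : (Polynomial.X : Polynomial Rs).degree < (Polynomial.X ^ (q ^ N) : Polynomial Rs).degree := by
        rw [Polynomial.degree_X_pow, Polynomial.degree_X]
        exact_mod_cast hqN
      rw [Polynomial.natDegree_eq_of_degree_eq (Polynomial.degree_sub_eq_left_of_degree_lt h1),
        Polynomial.natDegree_X_pow]
    have hP0 : P ≠ 0 := by
      intro h
      rw [h] at hdeg
      simp at hdeg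
      omega
    have hsub : (Finset.univ : Finset Rs).val ⊆ P.roots := by
      intro T _
      rw [Polynomial.mem_roots hP0]
      simp [P, hfr T]
    have h2 := Polynomial.card_le_degree_of_subset_roots hsub
    rw [hdeg, Finset.card_univ] at h2
    rwa [Nat.card_eq_fintype_card]
  obtain ⟨a, ha⟩ := exists_ne (0 : B)
  let W : Submodule (ZMod q) B :=
    { carrier := {v | ∃ T : Rs, (T : Module.End (ZMod q) B) a = v}
      add_mem' := by
        rintro _ _ ⟨S, rfl⟩ ⟨T, rfl⟩
        exact ⟨S + T, rfl⟩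
      zero_mem' := ⟨0, rfl⟩
      smul_mem' := by
        rintro c _ ⟨T, rfl⟩
        exact ⟨c • T, rfl⟩ }
  have hW : W = ⊤ := by
    rcases hsimple W (by
      rintro _ ⟨T, rfl⟩
      exact ⟨φR * T, rfl⟩) with h | h
    · exfalso
      have h1 : a ∈ W := ⟨1, rfl⟩
      rw [h, Submodule.mem_bot] at h1
      exact ha h1
    · exact h
  have hsurj : Function.Surjective (fun T : Rs => (T : Module.End (ZMod q) B) a) := by
    intro v
    have : v ∈ W := by rw [hW]; trivial
    exact this
  exact (Nat.card_le_card_of_surjective _ hsurj).trans hcardR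

theorem card_le_of_simple' {q : ℕ} [hq : Fact q.Prime] {B : Type*} [AddCommGroup B]
    [Finite B] [Nontrivial B] (hqB : ∀ v : B, q • v = 0) (φ : B →+ B) (N : ℕ) (hN : 1 ≤ N)
    (hφ : ∀ v, φ^[q ^ N] v = φ v)
    (hsimple : ∀ W : AddSubgroup B, (∀ v ∈ W, φ v ∈ W) → W = ⊥ ∨ W = ⊤) :
    Nat.card B ≤ q ^ N := by
  letI hmod : Module (ZMod q) B := AddCommGroup.zmodModule (n := q) hqB
  let ψ : Module.End (ZMod q) B := φ.toZModLinearMap q
  have hψa : ∀ v, ψ v = φ v := fun v => rfl
  have hψn : ∀ (n : ℕ) (v : B), (ψ ^ n) v = φ^[n] v := by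
    intro n
    induction n with
    | zero => intro v; simp
    | succ n ih =>
      intro v
      rw [pow_succ', Module.End.mul_apply, ih, hψa, Function.iterate_succ_apply']
  refine card_le_of_simple ψ N hN ?_ ?_
  · apply LinearMap.ext
    intro v
    rw [hψn, hφ]
    rfl
  · intro W hW
    rcases hsimple W.toAddSubgroup (fun v hv => hW v hv) with h | h
    · left
      rw [eq_bot_iff]
      intro v hv
      have h1 : v ∈ W.toAddSubgroup := hv
      rw [h, AddSubgroup.mem_bot] at h1
      rw [Submodule.mem_bot]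
      exact h1
    · right
      rw [eq_top_iff]
      intro v _
      have h1 : v ∈ W.toAddSubgroup := by rw [h]; trivial
      exact h1

theorem mem_normalizer_of_conj_le {G : Type*} [Group G] [Finite G] {S : Subgroup G} {x : G}
    (h : ∀ s ∈ S, x * s * x⁻¹ ∈ S) : x ∈ Subgroup.normalizer (S : Set G) := by
  rw [Subgroup.mem_normalizer_iff]
  intro s
  refine ⟨h s, fun hs => ?_⟩
  let f : S → S := fun a => ⟨x * a * x⁻¹, h a a.2⟩
  have hf : Function.Injective f := by
    intro a b hab
    have := congrArg Subtype.val hab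
    apply Subtype.ext
    simpa [f] using this
  obtain ⟨a, ha⟩ := Finite.surjective_of_injective hf ⟨x * s * x⁻¹, hs⟩
  have h2 : x * a * x⁻¹ = x * s * x⁻¹ := congrArg Subtype.val ha
  have h3 : (a : G) = s := by simpa using h2
  rw [← h3]; exact a.2

theorem top_of_not_le {G : Type*} [Group G] {p : ℕ} (hp : p.Prime) {A L : Subgroup G}
    (hidx : A.index = p) (hAL : A ≤ L) (hne : ¬ L ≤ A) : L = ⊤ := by
  have h1 := Subgroup.relIndex_mul_index hAL
  rw [hidx] at h1
  have h2 : A.relIndex L ≠ 1 := fun h => hne (Subgroup.relIndex_eq_one.mp h)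
  have h3 : L.index = 1 := by
    rcases (Nat.dvd_prime hp).mp (Dvd.intro_left _ h1) with h | h
    · exact h
    · exfalso
      rw [h] at h1
      have : A.relIndex L = 1 := by
        have hpos := hp.pos
        nlinarith
      exact h2 this
  exact Subgroup.index_eq_one.mp h3

theorem comm_of_central {G : Type*} [Group G] {A : Subgroup G} [A.Normal] {t : G}
    (hA : ∀ a ∈ A, ∀ b ∈ A, a * b = b * a) (hgen : Subgroup.zpowers t ⊔ A = ⊤)
    (h : ∀ a ∈ A, t * a = a * t) (g g' : G) : g * g' = g' * g := by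
  have hg : g ∈ Subgroup.zpowers t ⊔ A := by rw [hgen]; trivial
  have hg' : g' ∈ Subgroup.zpowers t ⊔ A := by rw [hgen]; trivial
  obtain ⟨u, hu, a, ha, rfl⟩ := Subgroup.mem_sup_of_normal_right.mp hg
  obtain ⟨v, hv, b, hb, rfl⟩ := Subgroup.mem_sup_of_normal_right.mp hg'
  obtain ⟨i, rfl⟩ := Subgroup.mem_zpowers_iff.mp hu
  obtain ⟨j, rfl⟩ := Subgroup.mem_zpowers_iff.mp hv
  have hc : ∀ (k : ℤ) (c : G), c ∈ A → Commute (t ^ k) c := by
    intro k c hc
    exact Commute.zpow_left (h c hc) k
  have h1 : Commute (t ^ i * a) (t ^ j * b) := by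
    refine Commute.mul_left (Commute.mul_right ?_ (hc i b hb)) (Commute.mul_right ?_ ?_)
    · exact (Commute.refl t).zpow_zpow i j
    · exact (hc j a ha).symm
    · exact hA a ha b hb
  exact h1

section Core

variable {G : Type*} [Group G] [Finite G] {p q : ℕ} [hp : Fact p.Prime] (hq : q.Prime) (hpq : q ≠ p)
  (hna : ¬ IsMulCommutative G) (A : Subgroup G) [hAn : A.Normal] (hA : IsElementaryAbelian q A)
  (hidx : A.index = p) (hmin : ∀ B : Subgroup G, B.Normal → B ≤ A → B = ⊥ ∨ B = A)

include hq in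
theorem pgroup_A (hA : IsElementaryAbelian q A) : IsPGroup q A := by
  intro a
  refine ⟨1, ?_⟩
  apply Subtype.ext
  show ((a : G)) ^ q ^ 1 = 1
  rw [pow_one]
  exact hA.2 a a.2

theorem comm_A (hA : IsElementaryAbelian q A) : ∀ a ∈ A, ∀ b ∈ A, a * b = b * a := by
  intro a ha b hb
  have h := hA.1.is_comm.comm (⟨a, ha⟩ : A) ⟨b, hb⟩
  exact congrArg Subtype.val h

include hq hpq hA in
theorem p_element_not_mem {x : G} (hx : x ≠ 1) {k : ℕ} (hxp : x ^ (p ^ k) = 1) : x ∉ A := by
  intro hxA
  have h1 : x ^ q = 1 := hA.2 x hxA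
  have h2 : orderOf x ∣ q := orderOf_dvd_of_pow_eq_one h1
  have h3 : orderOf x ∣ p ^ k := orderOf_dvd_of_pow_eq_one hxp
  have hc : Nat.Coprime (p ^ k) q := Nat.Coprime.pow_left k ((Nat.coprime_primes hp.out hq).mpr hpq.symm)
  have h4 : orderOf x = 1 := Nat.eq_one_of_dvd_coprimes hc h3 h2
  exact hx (orderOf_eq_one_iff.mp h4)

include hq hpq hA hidx in
theorem no_normal_pgroup (hna : ¬ IsMulCommutative G) (T : Subgroup G) [hT : T.Normal] (hTp : IsPGroup p T)
    (hne : T ≠ ⊥) : False := by
  classical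
  obtain ⟨t, ht1⟩ := (Subgroup.ne_bot_iff_exists_ne_one.mp hne)
  have ht1' : (t : G) ≠ 1 := fun h => ht1 (Subtype.ext h)
  have hpel : ∀ y : T, ∃ k, (y : G) ^ (p ^ k) = 1 := by
    intro y
    obtain ⟨k, hk⟩ := hTp y
    exact ⟨k, congrArg Subtype.val hk⟩
  obtain ⟨k, hk⟩ := hpel t
  have htA : (t : G) ∉ A := p_element_not_mem hq hpq A hA ht1' hk
  have hgen : Subgroup.zpowers (t : G) ⊔ A = ⊤ := by
    refine top_of_not_le hp.out hidx le_sup_right ?_
    intro h
    exact htA (h (Subgroup.mem_sup_left (Subgroup.mem_zpowers _)))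
  have hcen : ∀ a ∈ A, (t : G) * a = a * t := by
    intro a ha
    by_contra hne'
    set c : G := (t : G) * a * (t : G)⁻¹ * a⁻¹ with hc
    have hcA : c ∈ A := A.mul_mem (hAn.conj_mem a ha _) (A.inv_mem ha)
    have hcT : c ∈ T := by
      have h1 : c = t * (a * (t : G)⁻¹ * a⁻¹) := by simp [hc, mul_assoc]
      rw [h1]
      exact T.mul_mem t.2 (hT.conj_mem _ (T.inv_mem t.2) a)
    have hc1 : c ≠ 1 := by
      intro h
      apply hne'
      have h2 : (t : G) * a * (t : G)⁻¹ = a := by
        rw [hc] at h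
        exact mul_inv_eq_one.mp h
      calc (t : G) * a = (t : G) * a * (t : G)⁻¹ * t := by group
        _ = a * t := by rw [h2]
    obtain ⟨j, hj⟩ := hpel ⟨c, hcT⟩
    exact p_element_not_mem hq hpq A hA hc1 hj hcA
  exact hna ⟨⟨comm_of_central (comm_A A hA) hgen hcen⟩⟩

include hq hpq hna hA hidx hmin in
/-- The core statement: the order of a minimal normal elementary abelian subgroup of index `p`. -/
theorem card_eq_of_min : Nat.card A = q ^ orderOf (q : ZMod p) := by
  classical
  haveI hqf : Fact q.Prime := ⟨hq⟩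
  have hcomm := comm_A A hA
  have hApg : IsPGroup q A := pgroup_A hq A hA
  obtain ⟨d, hd⟩ := IsPGroup.iff_card.mp hApg
  have hcardG : Nat.card G = Nat.card A * p := by
    rw [← hidx]; exact (A.card_mul_index).symm
  -- an element of order `p`
  obtain ⟨x, hx⟩ := exists_prime_orderOf_dvd_card' (G := G) p (Dvd.intro_left _ hcardG.symm)
  have hx1 : x ≠ 1 := by
    rintro rfl
    rw [orderOf_one] at hx
    exact hp.out.one_lt.ne hx
  have hxp : x ^ p = 1 := by rw [← hx]; exact pow_orderOf_eq_one x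
  have hxA : x ∉ A := p_element_not_mem hq hpq A hA hx1 (k := 1) (by rw [pow_one]; exact hxp)
  have hgen : Subgroup.zpowers x ⊔ A = ⊤ := by
    refine top_of_not_le hp.out hidx le_sup_right ?_
    intro h
    exact hxA (h (Subgroup.mem_sup_left (Subgroup.mem_zpowers _)))
  have hnormal : ∀ S : Subgroup G, x ∈ Subgroup.normalizer (S : Set G) → A ≤ Subgroup.normalizer (S : Set G) →
      S.Normal := by
    intro S h1 h2
    have h3 : Subgroup.normalizer (S : Set G) = ⊤ := by
      rw [eq_top_iff, ← hgen]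
      exact sup_le ((Subgroup.zpowers_le).mpr h1) h2
    exact Subgroup.normalizer_eq_top_iff.mp h3
  have hA_norm : ∀ S : Subgroup G, S ≤ A → A ≤ Subgroup.normalizer (S : Set G) := by
    intro S hS a ha
    apply mem_normalizer_of_conj_le
    intro s hs
    have : a * s * a⁻¹ = s := by
      rw [hcomm a ha s (hS hs)]; group
    rw [this]; exact hs
  -- no nontrivial fixed points
  let F : Subgroup G :=
    { carrier := {a | a ∈ A ∧ x * a * x⁻¹ = a}
      mul_mem' := fun {a b} ha hb => ⟨A.mul_mem ha.1 hb.1, by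
        have h1 : x * (a * b) * x⁻¹ = (x * a * x⁻¹) * (x * b * x⁻¹) := by group
        rw [h1, ha.2, hb.2]⟩
      one_mem' := ⟨A.one_mem, by group⟩
      inv_mem' := fun {a} ha => ⟨A.inv_mem ha.1, by
        have h1 : x * a⁻¹ * x⁻¹ = (x * a * x⁻¹)⁻¹ := by group
        rw [h1, ha.2]⟩ }
  have hFA : F ≤ A := fun a ha => ha.1
  have hFn : F.Normal := hnormal F (by
    apply mem_normalizer_of_conj_le
    intro s hs
    have h1 : x * s * x⁻¹ = s := hs.2
    rw [h1]; exact hs) (hA_norm F hFA)
  have hFbot : F = ⊥ := by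
    rcases hmin F hFn hFA with h | h
    · exact h
    · exfalso
      apply hna
      refine ⟨⟨comm_of_central hcomm hgen ?_⟩⟩
      intro a ha
      have h1 : a ∈ F := by rw [h]; exact ha
      have h2 : x * a * x⁻¹ = a := h1.2
      calc x * a = x * a * x⁻¹ * x := by group
        _ = a * x := by rw [h2]
  have hAne : A ≠ ⊥ := by
    intro hb
    apply hna
    refine ⟨⟨comm_of_central hcomm hgen ?_⟩⟩
    intro a ha
    rw [hb, Subgroup.mem_bot] at ha
    rw [ha]; simp
  -- the order is one modulo p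
  have hKp : IsPGroup p (Subgroup.zpowers x) := by
    apply IsPGroup.of_card (n := 1)
    rw [Nat.card_zpowers, hx, pow_one]
  letI hact : MulAction (Subgroup.zpowers x) A :=
    MulAction.compHom A ((MulAut.conjNormal (H := A)).comp (Subgroup.zpowers x).subtype)
  have hsmul : ∀ (k : Subgroup.zpowers x) (a : A), ((k • a : A) : G) = (k : G) * a * (k : G)⁻¹ := by
    intro k a
    rfl
  have hfix : Nat.card (MulAction.fixedPoints (Subgroup.zpowers x) A) = 1 := by
    have h1 : ∀ a : MulAction.fixedPoints (Subgroup.zpowers x) A, a = ⟨1, by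
        intro k
        apply Subtype.ext
        rw [hsmul]
        simp⟩ := by
      intro a
      apply Subtype.ext
      apply Subtype.ext
      have h2 : ((a : A) : G) ∈ F := by
        refine ⟨(a : A).2, ?_⟩
        have h3 := a.2 ⟨x, Subgroup.mem_zpowers x⟩
        have h4 := congrArg Subtype.val h3
        rw [hsmul] at h4
        exact h4
      rw [hFbot, Subgroup.mem_bot] at h2
      exact h2
    haveI : Unique (MulAction.fixedPoints (Subgroup.zpowers x) A) := ⟨⟨_⟩, h1⟩
    exact Nat.card_unique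
  have hmod := hKp.card_modEq_card_fixedPoints A
  rw [hfix, hd] at hmod
  have hz : (q : ZMod p) ^ d = 1 := by
    have h1 := (ZMod.natCast_eq_natCast_iff (q ^ d) 1 p).mpr hmod
    simpa using h1
  have hd0 : d ≠ 0 := by
    rintro rfl
    rw [pow_zero] at hd
    exact hAne (Subgroup.eq_bot_of_card_eq _ hd)
  have hedvd : orderOf (q : ZMod p) ∣ d := orderOf_dvd_of_pow_eq_one hz
  set e := orderOf (q : ZMod p) with he
  have he1 : 1 ≤ e := Nat.pos_of_dvd_of_pos hedvd (Nat.pos_of_ne_zero hd0)
  have hlow : q ^ e ≤ Nat.card A := by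
    rw [hd]
    exact Nat.pow_le_pow_right hq.pos (Nat.le_of_dvd (Nat.pos_of_ne_zero hd0) hedvd)
  -- the upper bound
  letI cg : CommGroup A :=
    { (inferInstance : Group A) with mul_comm := fun a b => Subtype.ext (hcomm a a.2 b b.2) }
  let φ₀ : Additive A →+ Additive A :=
    MonoidHom.toAdditive ((MulAut.conjNormal (H := A) x).toMonoidHom)
  have hφa : ∀ v : Additive A, φ₀ v = Additive.ofMul (MulAut.conjNormal (H := A) x (Additive.toMul v)) :=
    fun v => rfl
  have hφn : ∀ (n : ℕ) (v : Additive A), φ₀^[n] v =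
      Additive.ofMul (MulAut.conjNormal (H := A) (x ^ n) (Additive.toMul v)) := by
    intro n
    induction n with
    | zero => intro v; simp
    | succ n ih =>
      intro v
      rw [Function.iterate_succ_apply', ih, hφa, pow_succ', map_mul]
      rfl
  have hxe : x ^ (q ^ e) = x := by
    have h1 : (q : ZMod p) ^ e = 1 := pow_orderOf_eq_one _
    have h2 : q ^ e ≡ 1 [MOD p] := by
      apply (ZMod.natCast_eq_natCast_iff _ _ _).mp
      simpa using h1
    have h3 : x ^ (q ^ e) = x ^ 1 := by
      rw [pow_eq_pow_iff_modEq, hx]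
      exact h2
    simpa using h3
  have hφe : ∀ v, φ₀^[q ^ e] v = φ₀ v := by
    intro v
    rw [hφn, hxe]
    rfl
  haveI hnt : Nontrivial (Additive A) := by
    have : Nontrivial A := (Subgroup.nontrivial_iff_ne_bot A).mpr hAne
    exact Additive.instNontrivial
  have hsimple : ∀ W : AddSubgroup (Additive A), (∀ v ∈ W, φ₀ v ∈ W) → W = ⊥ ∨ W = ⊤ := by
    intro W hW
    let S : Subgroup G :=
      { carrier := {g | ∃ h : g ∈ A, Additive.ofMul (⟨g, h⟩ : A) ∈ W}
        mul_mem' := by
          rintro a b ⟨ha, ha'⟩ ⟨hb, hb'⟩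
          exact ⟨A.mul_mem ha hb, W.add_mem ha' hb'⟩
        one_mem' := ⟨A.one_mem, W.zero_mem⟩
        inv_mem' := by
          rintro a ⟨ha, ha'⟩
          exact ⟨A.inv_mem ha, W.neg_mem ha'⟩ }
    have hSA : S ≤ A := fun g hg => hg.1
    have hSn : S.Normal := hnormal S (by
      apply mem_normalizer_of_conj_le
      rintro s ⟨hs, hs'⟩
      exact ⟨hAn.conj_mem s hs x, hW _ hs'⟩) (hA_norm S hSA)
    rcases hmin S hSn hSA with h | h
    · left
      rw [eq_bot_iff]
      intro v hv
      have h1 : ((Additive.toMul v : A) : G) ∈ S := ⟨(Additive.toMul v).2, hv⟩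
      rw [h, Subgroup.mem_bot] at h1
      rw [AddSubgroup.mem_bot]
      apply Additive.toMul.injective
      exact Subtype.ext h1
    · right
      rw [eq_top_iff]
      intro v _
      have h1 : ((Additive.toMul v : A) : G) ∈ S := by rw [h]; exact (Additive.toMul v).2
      obtain ⟨_, h2⟩ := h1
      exact h2
  have hqB : ∀ v : Additive A, q • v = 0 := by
    intro v
    apply Additive.toMul.injective
    apply Subtype.ext
    show ((Additive.toMul v : A) : G) ^ q = 1
    exact hA.2 _ (Additive.toMul v).2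
  have hup := card_le_of_simple' hqB φ₀ e he1 hφe hsimple
  have hcAdd : Nat.card (Additive A) = Nat.card A := Nat.card_congr Additive.toMul
  rw [hcAdd] at hup
  exact le_antisymm hup hlow

end Core

theorem isPClosed_of_isPGroup {X : Type*} [Group X] {p : ℕ} [Fact p.Prime] (h : IsPGroup p X) :
    IsPClosed p X := by
  intro P
  have h1 : (⊤ : Subgroup X) = P := P.3 (h.to_subgroup ⊤) le_top
  rw [← h1]
  infer_instance

theorem isPClosed_of_not_dvd {X : Type*} [Group X] [Finite X] {p : ℕ} [hp : Fact p.Prime]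
    (h : ¬ p ∣ Nat.card X) : IsPClosed p X := by
  intro P
  have h1 : (P : Subgroup X) = ⊥ := by
    by_contra hne
    obtain ⟨k, hk⟩ := IsPGroup.iff_card.mp P.2
    have hk0 : k ≠ 0 := by
      rintro rfl
      rw [pow_zero] at hk
      exact hne (Subgroup.eq_bot_of_card_eq _ hk)
    apply h
    exact (dvd_pow_self p hk0).trans (hk ▸ Subgroup.card_subgroup_dvd_card _)
  rw [h1]
  infer_instance

theorem index_eq_card_of_compl {G : Type*} [Group G] (N H : Subgroup G) [N.Normal] (h1 : H ⊓ N = ⊥)
    (h2 : H ⊔ N = ⊤) : N.index = Nat.card H := by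
  have h3 := Subgroup.relIndex_sup_right (H := H) (K := N)
  rw [h2, Subgroup.relIndex_top_right] at h3
  rw [h3, Subgroup.relIndex]
  have h4 : N.subgroupOf H = ⊥ := by
    rw [Subgroup.subgroupOf_eq_bot, disjoint_iff, inf_comm]
    exact h1
  rw [h4, Subgroup.index_bot]

theorem index_dvd_of_sup {G : Type*} [Group G] [Finite G] (L N : Subgroup G) [N.Normal] (h : L ⊔ N = ⊤) :
    L.index ∣ Nat.card N := by
  have h1 := Subgroup.relIndex_sup_right (H := L) (K := N)
  rw [h, Subgroup.relIndex_top_right] at h1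
  have h2 := N.card_mul_index
  have h3 := L.card_mul_index
  have h4 := (N.subgroupOf L).card_mul_index
  have h5 : (N.subgroupOf L).index = N.index := h1.symm
  rw [h5] at h4
  have h6 : Nat.card N * N.index = (Nat.card (N.subgroupOf L) * L.index) * N.index := by
    rw [h2, ← h3, ← h4]; ring
  have h7 : N.index ≠ 0 := Subgroup.index_ne_zero_of_finite
  have h8 := Nat.eq_of_mul_eq_mul_right (Nat.pos_of_ne_zero h7) h6
  exact Dvd.intro_left _ h8.symm

theorem normal_of_closed {G : Type*} [Group G] [Finite G] {p : ℕ} [Fact p.Prime] (T : Subgroup G) [T.Normal]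
    (P : Sylow p G) (hPT : (P : Subgroup G) ≤ T) (hcl : IsPClosed p T) : (P : Subgroup G).Normal := by
  have h1 := Sylow.normalizer_sup_eq_top' P hPT
  have h2 : T ≤ Subgroup.normalizer ((P : Subgroup G) : Set G) := by
    intro t ht
    apply mem_normalizer_of_conj_le
    intro a ha
    have h3 := (hcl (P.subtype hPT)).conj_mem ⟨a, hPT ha⟩ (by
      show a ∈ (P : Subgroup G)
      exact ha) ⟨t, ht⟩
    exact h3
  have h3 : Subgroup.normalizer ((P : Subgroup G) : Set G) = ⊤ := by
    rw [eq_top_iff, ← h1]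
    exact sup_le le_rfl h2
  exact Subgroup.normalizer_eq_top_iff.mp h3

theorem min_normal_elem {G : Type*} [Group G] [Finite G] {q : ℕ} [hq : Fact q.Prime] (N : Subgroup G)
    [hN : N.Normal] (hne : N ≠ ⊥) (hp : IsPGroup q N)
    (hmin : ∀ B : Subgroup G, B.Normal → B ≤ N → B = ⊥ ∨ B = N) : IsElementaryAbelian q N := by
  classical
  haveI : Nontrivial N := (Subgroup.nontrivial_iff_ne_bot N).mpr hne
  let Z : Subgroup G :=
    { carrier := {g | g ∈ N ∧ ∀ n ∈ N, n * g = g * n}
      mul_mem' := fun {a b} ha hb => ⟨N.mul_mem ha.1 hb.1, fun n hn => by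
        rw [← mul_assoc, ha.2 n hn, mul_assoc, hb.2 n hn, mul_assoc]⟩
      one_mem' := ⟨N.one_mem, fun n _ => by simp⟩
      inv_mem' := fun {a} ha => ⟨N.inv_mem ha.1, fun n hn => by
        have h1 := ha.2 n hn
        calc n * a⁻¹ = a⁻¹ * (a * n) * a⁻¹ := by group
          _ = a⁻¹ * (n * a) * a⁻¹ := by rw [h1]
          _ = a⁻¹ * n := by group⟩ }
  have hZn : Z.Normal := by
    constructor
    rintro y ⟨hy, hy'⟩ g
    refine ⟨hN.conj_mem y hy g, fun n hn => ?_⟩
    have h1 := hy' (g⁻¹ * n * g) (by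
      have := hN.conj_mem n hn g⁻¹
      simpa using this)
    calc n * (g * y * g⁻¹) = g * ((g⁻¹ * n * g) * y) * g⁻¹ := by group
      _ = g * (y * (g⁻¹ * n * g)) * g⁻¹ := by rw [h1]
      _ = g * y * g⁻¹ * n := by group
  have hZne : Z ≠ ⊥ := by
    haveI : Nontrivial (Subgroup.center N) := hp.center_nontrivial
    obtain ⟨z, hz⟩ := exists_ne (1 : Subgroup.center N)
    intro hb
    have h1 : ((z : N) : G) ∈ Z := ⟨(z : N).2, fun n hn => by
      have h2 := Subgroup.mem_center_iff.mp z.2 ⟨n, hn⟩
      exact congrArg Subtype.val h2⟩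
    rw [hb, Subgroup.mem_bot] at h1
    exact hz (Subtype.ext (Subtype.ext h1))
  have hZeq : Z = N := (hmin Z hZn (fun g hg => hg.1)).resolve_left hZne
  have hcomm : ∀ a ∈ N, ∀ b ∈ N, a * b = b * a := by
    intro a ha b hb
    have h1 : b ∈ Z := by rw [hZeq]; exact hb
    exact h1.2 a ha
  let M : Subgroup G :=
    { carrier := {y | y ∈ N ∧ y ^ q = 1}
      one_mem' := ⟨N.one_mem, one_pow q⟩
      mul_mem' := by
        rintro a b ⟨ha, ha'⟩ ⟨hb, hb'⟩
        refine ⟨N.mul_mem ha hb, ?_⟩
        have hc : Commute a b := hcomm a ha b hb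
        rw [hc.mul_pow, ha', hb', one_mul]
      inv_mem' := by
        rintro a ⟨ha, ha'⟩
        exact ⟨N.inv_mem ha, by rw [inv_pow, ha', inv_one]⟩ }
  have hMn : M.Normal := by
    constructor
    rintro y ⟨hy, hy'⟩ g
    refine ⟨hN.conj_mem y hy g, ?_⟩
    rw [conj_pow, hy']
    simp
  have hcd : q ∣ Nat.card N := by
    obtain ⟨k, hk⟩ := IsPGroup.iff_card.mp hp
    have hk0 : k ≠ 0 := by
      rintro rfl
      rw [pow_zero] at hk
      exact hne (Subgroup.eq_bot_of_card_eq _ hk)
    rw [hk]
    exact dvd_pow_self q hk0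
  have hMne : M ≠ ⊥ := by
    obtain ⟨x, hx⟩ := exists_prime_orderOf_dvd_card' (G := N) q hcd
    intro hb
    have h1 : (x : G) ∈ M := by
      refine ⟨x.2, ?_⟩
      have h2 : x ^ q = 1 := by rw [← hx]; exact pow_orderOf_eq_one x
      exact congrArg Subtype.val h2
    rw [hb, Subgroup.mem_bot] at h1
    have h3 : x = 1 := Subtype.ext h1
    rw [h3, orderOf_one] at hx
    exact hq.out.one_lt.ne hx
  have hMeq : M = N := (hmin M hMn (fun y hy => hy.1)).resolve_left hMne
  refine ⟨⟨⟨fun a b => Subtype.ext (hcomm a a.2 b b.2)⟩⟩, fun a ha => ?_⟩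
  rw [← hMeq] at ha
  exact ha.2

theorem eq_one_of_mem_of_not_dvd {G : Type*} [Group G] [Finite G] {p : ℕ} [hp : Fact p.Prime] (N : Subgroup G)
    (hpN : ¬ p ∣ Nat.card N) {a : G} (haN : a ∈ N) {k : ℕ} (h : a ^ (p ^ k) = 1) : a = 1 := by
  have h1 : orderOf a ∣ p ^ k := orderOf_dvd_of_pow_eq_one h
  have h2 : orderOf a ∣ Nat.card N := by
    have := Subgroup.orderOf_dvd_natCard N haN
    exact this
  have hc : Nat.Coprime (p ^ k) (Nat.card N) :=
    Nat.Coprime.pow_left k ((Nat.Prime.coprime_iff_not_dvd hp.out).mpr hpN)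
  exact orderOf_eq_one_iff.mp (Nat.eq_one_of_dvd_coprimes hc h1 h2)

theorem frattini_alt {G : Type*} [Group G] [Finite G] {p : ℕ} [hp : Fact p.Prime] (N : Subgroup G)
    [hN : N.Normal] (hpN : ¬ p ∣ Nat.card N) (P : Sylow p G) (hPN : (P : Subgroup G) ⊔ N = ⊤)
    (hstep : ∀ (r : ℕ) [Fact r.Prime] (R : Subgroup G) (P₁ : Sylow p G), r ≠ p → IsPGroup r R → R ≤ N →
      (P₁ : Subgroup G) ≤ Subgroup.normalizer (R : Set G) → (P₁ : Subgroup G) ⊔ R ≠ ⊤ →
      (P₁ : Subgroup G) ≤ Subgroup.centralizer (R : Set G)) :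
    (P : Subgroup G) ≤ Subgroup.centralizer (N : Set G) ∨ ∃ r, r.Prime ∧ IsPGroup r N := by
  classical
  by_contra hcon
  push Not at hcon
  obtain ⟨hP, hrr⟩ := hcon
  set C : Subgroup G := N ⊓ Subgroup.centralizer ((P : Subgroup G) : Set G) with hC
  have hCN : C ≤ N := inf_le_left
  have hrel : C.relIndex N = 1 := by
    by_contra hne
    obtain ⟨r, hr, hrd⟩ := Nat.exists_prime_and_dvd hne
    haveI : Fact r.Prime := ⟨hr⟩
    have hrN : r ∣ Nat.card N := hrd.trans (Subgroup.relIndex_dvd_card C N)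
    have hrp : r ≠ p := by
      rintro rfl
      exact hpN hrN
    obtain ⟨S⟩ := (inferInstance : Nonempty (Sylow r N))
    set R : Subgroup G := (S : Subgroup N).map N.subtype with hR
    have hRN : R ≤ N := Subgroup.map_subtype_le _
    have hRp : IsPGroup r R := S.2.map _
    have hsup : Subgroup.normalizer (R : Set G) ⊔ N = ⊤ := Sylow.normalizer_sup_eq_top S
    set L : Subgroup G := Subgroup.normalizer (R : Set G) with hL
    have hLidx : L.index ∣ Nat.card N := index_dvd_of_sup L N hsup
    obtain ⟨Q⟩ := (inferInstance : Nonempty (Sylow p L))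
    set Q' : Subgroup G := (Q : Subgroup L).map L.subtype with hQ'
    have hQ'p : IsPGroup p Q' := Q.2.map _
    have hQ'idx : ¬ p ∣ Q'.index := by
      rw [hQ', Subgroup.index_map_subtype]
      intro h
      rcases (Nat.Prime.dvd_mul hp.out).mp h with h1 | h1
      · exact Q.not_dvd_index h1
      · exact hpN (h1.trans hLidx)
    let P₁ : Sylow p G := hQ'p.toSylow hQ'idx
    have hP₁ : (P₁ : Subgroup G) = Q' := hQ'p.toSylow_coe hQ'idx
    have hP₁L : (P₁ : Subgroup G) ≤ L := by
      rw [hP₁]
      exact Subgroup.map_subtype_le _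
    by_cases htop : (P₁ : Subgroup G) ⊔ R = ⊤
    · apply hrr r hr
      haveI hRn : R.Normal := by
        have h1 : L = ⊤ := by
          rw [eq_top_iff, ← htop]
          exact sup_le hP₁L Subgroup.le_normalizer
        exact Subgroup.normalizer_eq_top_iff.mp h1
      have hNR : N ≤ R := by
        intro n hn
        have hn' : n ∈ (P₁ : Subgroup G) ⊔ R := by rw [htop]; trivial
        obtain ⟨a, ha, b, hb, rfl⟩ := Subgroup.mem_sup_of_normal_right.mp hn'
        have haN : a ∈ N := by
          have := N.mul_mem hn (N.inv_mem (hRN hb))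
          simpa using this
        have ha1 : a = 1 := by
          obtain ⟨k, hk⟩ := P₁.2 ⟨a, ha⟩
          exact eq_one_of_mem_of_not_dvd N hpN haN (congrArg Subtype.val hk)
        rw [ha1, one_mul]
        exact hb
      have h1 : N = R := le_antisymm hNR hRN
      rw [h1]
      exact hRp
    · have hc := hstep r R P₁ hrp hRp hRN hP₁L htop
      obtain ⟨g, hg⟩ := MulAction.exists_smul_eq G P P₁
      have hgm : g⁻¹ ∈ (P : Subgroup G) ⊔ N := by rw [hPN]; trivial
      obtain ⟨y, hy, u, hu, hyu⟩ := Subgroup.mem_sup_of_normal_right.mp hgm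
      let R₂ : Subgroup G := R.map (MulAut.conj u).toMonoidHom
      have hR₂C : R₂ ≤ C := by
        rintro _ ⟨b, hb, rfl⟩
        refine ⟨?_, ?_⟩
        · exact hN.conj_mem b (hRN hb) u
        · refine Subgroup.mem_centralizer_iff.mpr ?_
          intro a ha
          have h1 : g * (y * a * y⁻¹) * g⁻¹ ∈ (P₁ : Subgroup G) := by
            rw [← hg]
            exact ⟨y * a * y⁻¹, P.1.mul_mem (P.1.mul_mem hy ha) (P.1.inv_mem hy), rfl⟩
          have h2 : g * (y * a * y⁻¹) * g⁻¹ = u⁻¹ * a * u := by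
            have hg' : g = u⁻¹ * y⁻¹ := by
              have : g = (g⁻¹)⁻¹ := by group
              rw [this, ← hyu]; group
            rw [hg']; group
          rw [h2] at h1
          have h3 := Subgroup.mem_centralizer_iff.mp (hc h1) b hb
          show a * (u * b * u⁻¹) = (u * b * u⁻¹) * a
          have h4 : b * (u⁻¹ * a * u) = (u⁻¹ * a * u) * b := h3
          calc a * (u * b * u⁻¹) = u * ((u⁻¹ * a * u) * b) * u⁻¹ := by group
            _ = u * (b * (u⁻¹ * a * u)) * u⁻¹ := by rw [h4]
            _ = (u * b * u⁻¹) * a := by group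
      have hcR₂ : Nat.card R₂ = Nat.card S := by
        have h1 : Nat.card R₂ = Nat.card R :=
          Nat.card_congr (R.equivMapOfInjective _ (MulAut.conj u).injective).toEquiv.symm
        rw [h1]
        exact Nat.card_congr (((S : Subgroup N).equivMapOfInjective _ N.subtype_injective).toEquiv.symm)
      have hdvd : Nat.card S ∣ Nat.card C := by
        rw [← hcR₂]
        exact Subgroup.card_dvd_of_le hR₂C
      obtain ⟨t, ht⟩ := hdvd
      have hS := (S : Subgroup N).card_mul_index
      have hC2 := (C.subgroupOf N).card_mul_index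
      have hC3 : Nat.card (C.subgroupOf N) = Nat.card C :=
        Nat.card_congr (Subgroup.subgroupOfEquivOfLe hCN).toEquiv
      rw [hC3] at hC2
      have hidx : (C.subgroupOf N).index = C.relIndex N := rfl
      rw [hidx, ht] at hC2
      have hpos : 0 < Nat.card (S : Subgroup N) := Nat.card_pos
      have h5 : (S : Subgroup N).index = t * C.relIndex N := by
        apply Nat.eq_of_mul_eq_mul_left hpos
        rw [hS, ← hC2]
        have : Nat.card (S : Subgroup N) = Nat.card S := rfl
        rw [this]; ring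
      apply S.not_dvd_index
      rw [h5]
      exact hrd.trans (Dvd.intro_left _ rfl)
  have hNC : N ≤ C := Subgroup.relIndex_eq_one.mp hrel
  apply hP
  rw [Subgroup.le_centralizer_iff]
  exact hNC.trans inf_le_right

end Cfsg.Agent.Lib.MinPClosed
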