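import Cfsg.Agent.Lib.UniqueSub
import Cfsg.Agent.Lib.ThompsonFpf
import Cfsg.Agent.Lib.Quaternion
import Cfsg.Agent.Lib.PResidual

/-!
# Nilpotent groups in which centralizers of noncentral elements are cyclic
-/

set_option autoImplicit false
set_option linter.all false

namespace Cfsg.Agent.Lib.NilCyc

open QuaternionGroup

section Quat

variable (n : ℕ) [NeZero n]

theorem quat_cent_le (q : QuaternionGroup n) (hq : q ∉ Subgroup.center (QuaternionGroup n)) :
    ∃ w : QuaternionGroup n, ∀ y : QuaternionGroup n, y * q = q * y → y ∈ Subgroup.zpowers w := by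
  haveI : NeZero (2 * n) := ⟨by have := NeZero.ne n; omega⟩
  rcases q with i | i
  · refine ⟨a 1, ?_⟩
    rintro (j | j) hy
    · have h1 := a_one_pow (n := n) j.val
      rw [ZMod.natCast_zmod_val] at h1
      rw [← h1]
      exact Subgroup.pow_mem _ (Subgroup.mem_zpowers _) _
    · exfalso
      apply hq
      rw [xa_mul_a, a_mul_xa, xa.injEq] at hy
      have h2 : i + i = 0 := by
        have h3 : j + i - (j - i) = 0 := by rw [hy]; ring
        have h4 : j + i - (j - i) = i + i := by ring
        rwa [h4] at h3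
      rw [Subgroup.mem_center_iff]
      rintro (l | l)
      · rw [a_mul_a, a_mul_a, add_comm]
      · rw [xa_mul_a, a_mul_xa, xa.injEq]
        have h5 : l + i - (l - i) = 0 := by
          have h6 : l + i - (l - i) = i + i := by ring
          rw [h6, h2]
        exact sub_eq_zero.1 h5
  · refine ⟨xa i, ?_⟩
    rintro (j | j) hy
    · rw [a_mul_xa, xa_mul_a, xa.injEq] at hy
      have h2 : j + j = 0 := by
        have h3 : i + j - (i - j) = 0 := by rw [← hy]; ring
        have h4 : i + j - (i - j) = j + j := by ring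
        rwa [h4] at h3
      rcases Cfsg.Agent.Lib.Quaternion.add_self_eq_zero_zmod n j h2 with h3 | h3
      · rw [h3]
        exact Subgroup.one_mem _
      · rw [h3, ← xa_sq i]
        exact Subgroup.pow_mem _ (Subgroup.mem_zpowers _) _
    · rw [xa_mul_xa, xa_mul_xa, a.injEq] at hy
      have h2 : (i - j) + (i - j) = 0 := by
        have h3 : (n : ZMod (2 * n)) + i - j - ((n : ZMod (2 * n)) + j - i) = 0 := by rw [hy]; ring
        have h4 : (n : ZMod (2 * n)) + i - j - ((n : ZMod (2 * n)) + j - i) = (i - j) + (i - j) := by ring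
        rwa [h4] at h3
      rcases Cfsg.Agent.Lib.Quaternion.add_self_eq_zero_zmod n _ h2 with h3 | h3
      · have h4 : j = i := (sub_eq_zero.1 h3).symm
        rw [h4]
        exact Subgroup.mem_zpowers _
      · have h4 : j = i - (n : ZMod (2 * n)) := by rw [← h3]; ring
        have h5 : xa (i - (n : ZMod (2 * n))) = (xa i : QuaternionGroup n) ^ 3 := by
          rw [pow_succ, xa_sq, a_mul_xa]
        rw [h4, h5]
        exact Subgroup.pow_mem _ (Subgroup.mem_zpowers _) _

end Quat

section Back

variable {G : Type*} [Group G] [Finite G]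

theorem cyc_of_equiv (k m : ℕ) (hm : Odd m)
    (e : G ≃* QuaternionGroup (2 ^ k) × Multiplicative (ZMod m)) (x : G) (hx : x ∉ Subgroup.center G) :
    IsCyclic (Subgroup.centralizer ({x} : Set G)) := by
  haveI : NeZero (2 ^ k) := ⟨pow_ne_zero _ two_ne_zero⟩
  have hm0 : m ≠ 0 := by
    rintro rfl
    simp at hm
  haveI : NeZero m := ⟨hm0⟩
  have hq : (e x).1 ∉ Subgroup.center (QuaternionGroup (2 ^ k)) := by
    intro hc
    apply hx
    rw [Subgroup.mem_center_iff]
    intro g
    apply e.injective
    rw [map_mul, map_mul]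
    refine Prod.ext ?_ ?_
    · exact Subgroup.mem_center_iff.1 hc (e g).1
    · exact mul_comm _ _
  obtain ⟨w, hw⟩ := quat_cent_le (2 ^ k) (e x).1 hq
  have hmem : ∀ y : Subgroup.centralizer ({x} : Set G), (e y).1 ∈ Subgroup.zpowers w := by
    intro y
    apply hw
    have h1 : (y : G) * x = x * y := Subgroup.mem_centralizer_singleton_iff.1 y.2
    have h2 := congrArg (fun g => (e g).1) h1
    simpa using h2
  let f1 : Subgroup.centralizer ({x} : Set G) →* QuaternionGroup (2 ^ k) :=
    (MonoidHom.fst _ _).comp (e.toMonoidHom.comp (Subgroup.subtype _))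
  let f2 : Subgroup.centralizer ({x} : Set G) →* Multiplicative (ZMod m) :=
    (MonoidHom.snd _ _).comp (e.toMonoidHom.comp (Subgroup.subtype _))
  let f : Subgroup.centralizer ({x} : Set G) →* (Subgroup.zpowers w) × Multiplicative (ZMod m) :=
    (f1.codRestrict (Subgroup.zpowers w) hmem).prod f2
  have hinj : Function.Injective f := by
    intro y y' he
    have h1 : (e y).1 = (e y').1 := congrArg (fun p => ((p.1 : Subgroup.zpowers w) : QuaternionGroup (2 ^ k))) he
    have h2 : (e y).2 = (e y').2 := congrArg (fun p : (Subgroup.zpowers w) × Multiplicative (ZMod m) => p.2) he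
    have h3 : e y = e y' := Prod.ext h1 h2
    exact Subtype.ext (e.injective h3)
  have hcyc : IsCyclic ((Subgroup.zpowers w) × Multiplicative (ZMod m)) := by
    rw [Group.isCyclic_prod_iff]
    refine ⟨inferInstance, inferInstance, ?_⟩
    rw [Nat.card_zpowers]
    have h1 : orderOf w ∣ 2 ^ (k + 2) := by
      have h2 := orderOf_dvd_natCard w
      have h3 : Nat.card (QuaternionGroup (2 ^ k)) = 2 ^ (k + 2) := by
        rw [Nat.card_eq_fintype_card, QuaternionGroup.card]
        ring
      rwa [h3] at h2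
    have h4 : Nat.card (Multiplicative (ZMod m)) = m := by
      simp [Nat.card_eq_fintype_card, ZMod.card]
    rw [h4]
    exact Nat.Coprime.coprime_dvd_left h1 (Nat.Coprime.pow_left _ (Nat.coprime_two_left.2 hm))
  exact isCyclic_of_injective f hinj

end Back

section Fwd

variable {G : Type*} [Group G] [Finite G]

theorem exists_prime_power_noncentral (n : ℕ) : ∀ x : G, orderOf x = n → x ∉ Subgroup.center G →
    ∃ y : G, y ∉ Subgroup.center G ∧ ∃ p e : ℕ, p.Prime ∧ orderOf y = p ^ e := by
  induction n using Nat.strong_induction_on with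
  | _ n ih =>
    intro x hn hx
    have hn1 : n ≠ 1 := by
      intro h1
      rw [h1, orderOf_eq_one_iff] at hn
      rw [hn] at hx
      exact hx (Subgroup.one_mem _)
    let p := n.minFac
    have hp : p.Prime := Nat.minFac_prime hn1
    haveI : Fact p.Prime := ⟨hp⟩
    have hpn : p ∣ n := Nat.minFac_dvd n
    obtain ⟨u, z, huz, hc, hu, ⟨m, hm⟩, huy, hzy⟩ := Cfsg.Agent.Lib.PResidual.exists_decomp (p := p) x
    have hdvd : ∀ v ∈ Subgroup.zpowers x, orderOf v ∣ n := by
      intro v hv
      rw [← hn]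
      exact orderOf_dvd_of_mem_zpowers hv
    have hnpos : 0 < n := by
      rw [← hn]
      exact orderOf_pos x
    have hult : orderOf u < n := by
      have h1 := Nat.le_of_dvd hnpos (hdvd u huy)
      refine lt_of_le_of_ne h1 ?_
      intro h2
      rw [h2] at hu
      exact (Nat.Prime.coprime_iff_not_dvd hp).1 hu.symm hpn
    by_cases huc : u ∈ Subgroup.center G
    · by_cases hzc : z ∈ Subgroup.center G
      · exfalso
        apply hx
        rw [huz]
        exact Subgroup.mul_mem _ huc hzc
      · exact ⟨z, hzc, p, m, hp, hm⟩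
    · exact ih _ hult u rfl huc

theorem mem_zpowers_of_cyclic {C : Subgroup G} [hC : IsCyclic C] {p : ℕ} (hp : p.Prime) {a b : G} (ha : a ∈ C) (hb : b ∈ C)
    (hoa : orderOf a = p) (hob : orderOf b = p) : b ∈ Subgroup.zpowers a := by
  classical
  letI : Fintype C := Fintype.ofFinite _
  by_contra hcon
  have h1 := IsCyclic.card_pow_eq_one_le (α := C) (n := p) hp.pos
  let a' : C := ⟨a, ha⟩
  let b' : C := ⟨b, hb⟩
  have hoa' : orderOf a' = p := by
    rw [← hoa]
    exact Subgroup.orderOf_mk a ha
  have hob' : orderOf b' = p := by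
    rw [← hob]
    exact Subgroup.orderOf_mk b hb
  let S : Finset C := (Finset.range p).image (fun i => a' ^ i)
  have hS : S.card = p := by
    rw [Finset.card_image_of_injOn, Finset.card_range]
    intro i hi j hj hij
    have hi' : i < orderOf a' := by rw [hoa']; simpa using hi
    have hj' : j < orderOf a' := by rw [hoa']; simpa using hj
    exact pow_injOn_Iio_orderOf hi' hj' hij
  have hbS : b' ∉ S := by
    intro hm
    obtain ⟨i, -, hi⟩ := Finset.mem_image.1 hm
    apply hcon
    have h2 : a ^ i = b := congrArg Subtype.val hi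
    rw [← h2]
    exact Subgroup.pow_mem _ (Subgroup.mem_zpowers _) _
  have hsub : insert b' S ⊆ Finset.univ.filter (fun g : C => g ^ p = 1) := by
    intro g hg
    rw [Finset.mem_filter]
    refine ⟨Finset.mem_univ _, ?_⟩
    rcases Finset.mem_insert.1 hg with rfl | hg
    · rw [← hob']
      exact pow_orderOf_eq_one _
    · obtain ⟨i, -, rfl⟩ := Finset.mem_image.1 hg
      rw [← pow_mul, mul_comm, pow_mul, ← hoa', pow_orderOf_eq_one, one_pow]
  have h2 := Finset.card_le_card hsub
  rw [Finset.card_insert_of_notMem hbS, hS] at h2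
  omega

theorem fwd (hG : Group.IsNilpotent G) (hna : ¬ IsMulCommutative G)
    (hC : ∀ x : G, x ∉ Subgroup.center G → IsCyclic (Subgroup.centralizer ({x} : Set G))) :
    ∃ k m : ℕ, 1 ≤ k ∧ Odd m ∧ Nonempty (G ≃* QuaternionGroup (2 ^ k) × Multiplicative (ZMod m)) := by
  classical
  haveI := hG
  obtain ⟨x₀, hx₀⟩ : ∃ x : G, x ∉ Subgroup.center G := by
    by_contra hcon
    push_neg at hcon
    exact hna ⟨⟨fun a b => Subgroup.mem_center_iff.1 (hcon b) a⟩⟩
  obtain ⟨x, hx, p, e, hp, hord⟩ := exists_prime_power_noncentral _ x₀ rfl hx₀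
  haveI : Fact p.Prime := ⟨hp⟩
  obtain ⟨P, K, hKn, hKc⟩ := Cfsg.Agent.Lib.ThompsonFpf.npc_of_nilpotent (N := G) p
  haveI hPn : (P : Subgroup G).Normal := Sylow.normal_of_normalizerCondition normalizerCondition_of_isNilpotent P
  have hxP : x ∈ (P : Subgroup G) := by
    have h1 : IsPGroup p (Subgroup.zpowers x) := IsPGroup.of_card (n := e) (by rw [Nat.card_zpowers, hord])
    obtain ⟨Q, hQ⟩ := h1.exists_le_sylow
    haveI := Sylow.unique_of_normal P hPn
    have h2 : Q = P := Subsingleton.elim _ _
    rw [← h2]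
    exact hQ (Subgroup.mem_zpowers x)
  have hcomm : ∀ k ∈ K, ∀ z ∈ (P : Subgroup G), k * z = z * k := fun k hk z hz =>
    Subgroup.commute_of_normal_of_disjoint K P hKn hPn hKc.disjoint k z hk hz
  haveI hcx := hC x hx
  have hKle : K ≤ Subgroup.centralizer ({x} : Set G) := fun k hk =>
    Subgroup.mem_centralizer_singleton_iff.2 (hcomm k hk x hxP)
  have hKcyc : IsCyclic K := isCyclic_of_injective (Subgroup.inclusion hKle) (Subgroup.inclusion_injective hKle)
  -- `P` is not commutative
  have hPna : ∃ g ∈ (P : Subgroup G), g * x ≠ x * g := by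
    have h1 : ∃ g : G, g * x ≠ x * g := by
      by_contra hcon
      push_neg at hcon
      exact hx (Subgroup.mem_center_iff.2 hcon)
    obtain ⟨g, hg⟩ := h1
    have hgt : g ∈ K ⊔ (P : Subgroup G) := by
      rw [hKc.sup_eq_top]
      trivial
    obtain ⟨k, hk, z, hz, rfl⟩ := Subgroup.mem_sup_of_normal_left.1 hgt
    refine ⟨z, hz, fun h1 => hg ?_⟩
    calc k * z * x = k * (z * x) := by group
      _ = k * (x * z) := by rw [h1]
      _ = (k * x) * z := by group
      _ = (x * k) * z := by rw [hcomm k hk x hxP]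
      _ = x * (k * z) := by group
  -- a central element of order `p`
  haveI : Nontrivial (P : Subgroup G) := by
    obtain ⟨g, hg, hne⟩ := hPna
    refine ⟨⟨⟨x, hxP⟩, 1, fun h => hne ?_⟩⟩
    have : x = 1 := congrArg Subtype.val h
    rw [this]
    simp
  haveI : Nontrivial (Subgroup.center (P : Subgroup G)) := P.isPGroup'.center_nontrivial
  have hdvd : p ∣ Nat.card (Subgroup.center (P : Subgroup G)) := by
    obtain ⟨n, hn⟩ := IsPGroup.iff_card.1 (P.isPGroup'.to_subgroup (Subgroup.center (P : Subgroup G)))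
    have h1 : Nat.card (Subgroup.center (P : Subgroup G)) ≠ 1 := (Finite.one_lt_card (α := Subgroup.center (P : Subgroup G))).ne'
    rcases n with _ | n
    · rw [hn] at h1
      simp at h1
    · rw [hn, pow_succ]
      exact dvd_mul_left _ _
  obtain ⟨z, hz⟩ := exists_prime_orderOf_dvd_card' p hdvd
  have hzcomm : ∀ y ∈ (P : Subgroup G), y * ((z : (P : Subgroup G)) : G) = ((z : (P : Subgroup G)) : G) * y := by
    intro y hy
    have h1 := Subgroup.mem_center_iff.1 z.2 ⟨y, hy⟩
    exact congrArg Subtype.val h1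
  have hzo : orderOf ((z : (P : Subgroup G)) : G) = p := by
    rw [Subgroup.orderOf_coe, Subgroup.orderOf_coe]
    exact hz
  have hmemz : ∀ y : (P : Subgroup G), orderOf y = p → (y : G) ∈ Subgroup.zpowers ((z : (P : Subgroup G)) : G) := by
    intro y hy
    have hyo : orderOf (y : G) = p := by rw [Subgroup.orderOf_coe]; exact hy
    by_cases hyc : (y : G) ∈ Subgroup.center G
    · exact mem_zpowers_of_cyclic (C := Subgroup.centralizer ({x} : Set G)) hp
        (Subgroup.mem_centralizer_singleton_iff.2 (hzcomm x hxP).symm)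
        (Subgroup.mem_centralizer_singleton_iff.2 (Subgroup.mem_center_iff.1 hyc x).symm) hzo hyo
    · haveI := hC y hyc
      exact mem_zpowers_of_cyclic (C := Subgroup.centralizer ({(y : G)} : Set G)) hp
        (Subgroup.mem_centralizer_singleton_iff.2 (hzcomm y y.2).symm)
        (Subgroup.mem_centralizer_singleton_iff.2 rfl) hzo hyo
  have hU : Cfsg.Agent.Lib.UniqueSub.UniqueP p (P : Subgroup G) := by
    intro y₁ y₂ h1 h2
    have h3 := hmemz y₁ h1
    have h4 := hmemz y₂ h2
    have hy1 : orderOf (y₁ : G) = p := by rw [Subgroup.orderOf_coe]; exact h1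
    -- `zpowers y₁` is everything
    have h5 : ((z : (P : Subgroup G)) : G) ∈ Subgroup.zpowers (y₁ : G) := by
      haveI : IsCyclic (Subgroup.zpowers ((z : (P : Subgroup G)) : G)) := inferInstance
      exact mem_zpowers_of_cyclic (C := Subgroup.zpowers ((z : (P : Subgroup G)) : G)) hp h3 (Subgroup.mem_zpowers _) hy1 hzo
    have h6 : (y₂ : G) ∈ Subgroup.zpowers (y₁ : G) := Subgroup.zpowers_le.2 h5 h4
    obtain ⟨i, hi⟩ := Subgroup.mem_zpowers_iff.1 h6
    refine Subgroup.mem_zpowers_iff.2 ⟨i, Subtype.ext ?_⟩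
    simpa using hi
  rcases Cfsg.Agent.Lib.UniqueSub.cyclic_or_quaternion (p := p) P.isPGroup' hU with hcy | ⟨hp2, k, hk, ⟨eQ⟩⟩
  · exfalso
    haveI := hcy
    obtain ⟨g, hg, hne⟩ := hPna
    apply hne
    have h1 : (⟨g, hg⟩ : (P : Subgroup G)) * ⟨x, hxP⟩ = ⟨x, hxP⟩ * ⟨g, hg⟩ := mul_comm' _ _
    exact congrArg Subtype.val h1
  · subst hp2
    let φ : ↥(P : Subgroup G) × ↥K →* G := (P : Subgroup G).subtype.noncommCoprod K.subtype (fun a b =>
      (hcomm b b.2 a a.2).symm)
    have hφ : ∀ a b, φ (a, b) = (a : G) * (b : G) := fun a b => rfl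
    have hinj : Function.Injective φ := by
      rw [injective_iff_map_eq_one]
      rintro ⟨a, b⟩ h1
      rw [hφ] at h1
      have h2 : (a : G) = (b : G)⁻¹ := eq_inv_of_mul_eq_one_left h1
      have h3 : (a : G) ∈ K ⊓ (P : Subgroup G) := ⟨by rw [h2]; exact K.inv_mem b.2, a.2⟩
      rw [hKc.disjoint.eq_bot, Subgroup.mem_bot] at h3
      have h4 : (b : G) = 1 := by
        rw [h3, one_mul] at h1
        exact h1
      exact Prod.ext (Subtype.ext h3) (Subtype.ext h4)
    have hbij : Function.Bijective φ := hinj.bijective_of_nat_card_le (by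
      rw [Nat.card_prod, mul_comm, hKc.card_mul])
    have hodd : Odd (Nat.card K) := by
      rw [← Nat.not_even_iff_odd, even_iff_two_dvd, ← hKc.index_eq_card]
      exact P.not_dvd_index
    refine ⟨k, Nat.card K, hk, hodd, ⟨(MulEquiv.ofBijective φ hbij).symm.trans
      (MulEquiv.prodCongr eQ (zmodCyclicMulEquiv hKcyc).symm)⟩⟩

end Fwd

end Cfsg.Agent.Lib.NilCyc
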