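import Mathlib
import Cfsg.Prelude
import Cfsg.Agent.Lib.PComps2

/-!
# Solvable groups are `p`-constrained
-/

set_option autoImplicit false
set_option linter.all false

namespace Cfsg.Agent.Lib.SolvP

open Subgroup Cfsg Cfsg.Agent.Lib.Comps Cfsg.Agent.Lib.PComps Cfsg.Agent.Lib.PComps2

variable {X : Type*} [Group X] [Finite X] {p : ℕ} [Fact p.Prime]

/-- a `p`-solvable-type condition: a quotient of a solvable group has trivial layer -/
theorem layer_eq_bot_of_solvable {Y : Type*} [Group Y] (hs : Group.IsSolvable Y) : layer Y = ⊥ := by
  rw [eq_bot_iff]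
  refine sSup_le fun K hK => ?_
  exfalso
  haveI : Group.IsSolvable K := solvable_of_solvable_injective K.subtype_injective
  exact not_solvable_of_quasisimple hK.2 inferInstance

theorem isPConstrained_of_solvable (hs : Group.IsSolvable X) : IsPConstrained p X := by
  rw [isPConstrained_iff, pLayer_eq_bot_iff]
  apply layer_eq_bot_of_solvable
  infer_instance

end Cfsg.Agent.Lib.SolvP
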