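import Mathlib
import Cfsg.Prelude
import Cfsg.Agent.Lib.CompsLocal
import Cfsg.Agent.Lib.CoprimeGen
import Cfsg.Agent.Lib.Comps
import Cfsg.Agent.Lib.SolvP
import Cfsg.Agent.Lib.FitCore
import Cfsg.Agent.Lib.PCore
import Cfsg.Agent.Lib.Dihedral
import Cfsg.Agent.Lib.H2Basic
import Cfsg.Agent.Lib.WielandtCount
import Cfsg.Agent.Lib.BalanceL5

/-!
# Dihedral decomposition for an elementary abelian two-group acting on an odd solvable group
-/

set_option autoImplicit false
set_option linter.all false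

namespace Cfsg.Agent.Lib.OddDihedral

open Subgroup Cfsg

section

variable {G : Type*} [Group G] [Finite G]

/-- The `p`-core of `L`, inside `G`. -/
def coreIn (p : ℕ) (L : Subgroup G) : Subgroup G := (pCore p ↥L).map L.subtype

theorem coreIn_le (p : ℕ) (L : Subgroup G) : coreIn p L ≤ L := Subgroup.map_subtype_le _

theorem coreIn_isPGroup (p : ℕ) [Fact p.Prime] (L : Subgroup G) : IsPGroup p (coreIn p L) :=
  (Cfsg.Agent.Lib.FitCore.pCore_isPGroup p).map _

theorem conj_mem_coreIn {p : ℕ} {L : Subgroup G} {a x : G} (ha : a ∈ normalizer (L : Set G))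
    (hx : x ∈ coreIn p L) : a * x * a⁻¹ ∈ coreIn p L := by
  obtain ⟨u, hu, rfl⟩ := hx
  let e : ↥L ≃* ↥L := (L.equivMapOfInjective _ (MulAut.conj a).injective).trans
    (MulEquiv.subgroupCongr (Cfsg.Agent.Lib.H2Basic.map_conj_eq_of_mem_normalizer ha))
  have h1 : (pCore p ↥L).map e.toMonoidHom = pCore p ↥L := Cfsg.Agent.Lib.PCore.pCore_map_equiv e
  have h2 : e u ∈ pCore p ↥L := by
    rw [← h1]
    exact ⟨u, hu, rfl⟩
  exact ⟨e u, h2, rfl⟩

theorem comm_coreIn_of_ne {p q : ℕ} [Fact p.Prime] [Fact q.Prime] (hpq : p ≠ q) {L : Subgroup G} {x y : G}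
    (hx : x ∈ coreIn p L) (hy : y ∈ coreIn q L) : x * y = y * x := by
  obtain ⟨u, hu, rfl⟩ := hx
  obtain ⟨v, hv, rfl⟩ := hy
  have h1 : Commute u v := Subgroup.commute_of_normal_of_disjoint _ _
    (Cfsg.Agent.Lib.FitCore.pCore_normal p) (Cfsg.Agent.Lib.FitCore.pCore_normal q)
    (IsPGroup.disjoint_of_ne p q hpq _ _ (Cfsg.Agent.Lib.FitCore.pCore_isPGroup p)
      (Cfsg.Agent.Lib.FitCore.pCore_isPGroup q)) u v hu hv
  exact congrArg Subtype.val h1.eq

/-- an involution centralizing every `p`-core of a solvable odd group centralizes the group -/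
theorem centralizes_of_coreIn {L : Subgroup G} (hLs : Group.IsSolvable ↥L) (hLodd : Odd (Nat.card ↥L))
    {t : G} (ht : t ∈ normalizer (L : Set G)) (ht2 : t ^ 2 = 1)
    (hc : ∀ p : ℕ, p.Prime → ∀ x ∈ coreIn p L, t * x = x * t) : ∀ l ∈ L, t * l = l * t := by
  classical
  set C₀ : Subgroup ↥L := (centralizer ({t} : Set G)).subgroupOf L with hC₀
  have hmemC : ∀ l : ↥L, l ∈ C₀ ↔ t * (l : G) = l * t := by
    intro l
    show (l : G) ∈ centralizer ({t} : Set G) ↔ _
    rw [Subgroup.mem_centralizer_singleton_iff]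
    exact eq_comm
  set F := fittingSubgroup ↥L with hF
  set T : Subgroup ↥L := ⨆ p : {p : ℕ // p.Prime}, pCore (p : ℕ) ↥L with hT
  have hTC : T ≤ C₀ := by
    refine iSup_le fun p => ?_
    intro u hu
    exact (hmemC u).2 (hc p p.2 u ⟨u, hu, rfl⟩)
  have hFT : F ≤ T := by
    rw [← Subgroup.relIndex_eq_one]
    by_contra hne
    obtain ⟨p, hp, hpd⟩ := Nat.exists_prime_and_dvd hne
    haveI : Fact p.Prime := ⟨hp⟩
    have h1 : pCore p ↥L ≤ T := le_iSup (fun p : {p : ℕ // p.Prime} => pCore (p : ℕ) ↥L) ⟨p, hp⟩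
    exact Cfsg.Agent.Lib.FitCore.relIndex_pCore_not_dvd_fitting p
      (dvd_trans hpd (Subgroup.relIndex_dvd_of_le_left _ h1))
  have hFC : ∀ f ∈ F, t * ((f : ↥L) : G) = f * t := fun f hf => (hmemC f).1 (hTC (hFT hf))
  have hcent : centralizer (F : Set ↥L) ≤ F :=
    (Cfsg.Agent.Lib.Comps.centralizer_fitting_le_iff).2 (Cfsg.Agent.Lib.SolvP.layer_eq_bot_of_solvable hLs)
  intro l hl
  have hFn : F.Normal := Cfsg.Agent.Lib.FitCore.fitting_normal
  let l' : ↥L := ⟨t * l * t⁻¹, (Subgroup.mem_normalizer_iff.1 ht l).1 hl⟩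
  let l₀ : ↥L := ⟨l, hl⟩
  set u : ↥L := l₀⁻¹ * l' with hu
  have huF : u ∈ F := by
    apply hcent
    apply Subgroup.mem_centralizer_iff.2
    intro f hf
    have h1 := hFC f hf
    have h2 := hFC _ (hFn.conj_mem f hf l₀)
    apply Subtype.ext
    show (f : G) * (l⁻¹ * (t * l * t⁻¹)) = l⁻¹ * (t * l * t⁻¹) * f
    have h3 : t * (l * (f : G) * l⁻¹) = (l * (f : G) * l⁻¹) * t := h2
    have h4 : (f : G) * t = t * (f : G) := h1.symm
    -- `t l t⁻¹ f = l f l⁻¹ t l t⁻¹`
    have h5 : (t * l * t⁻¹) * (f : G) = (l * (f : G) * l⁻¹) * (t * l * t⁻¹) := by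
      calc (t * l * t⁻¹) * (f : G) = t * l * (t⁻¹ * (f : G)) := by group
        _ = t * l * ((f : G) * t⁻¹) := by
            congr 1
            rw [inv_mul_eq_iff_eq_mul, ← mul_assoc, ← h4, mul_inv_cancel_right]
        _ = t * (l * (f : G) * l⁻¹) * (l * t⁻¹) := by group
        _ = (l * (f : G) * l⁻¹) * t * (l * t⁻¹) := by rw [h3]
        _ = _ := by group
    calc (f : G) * (l⁻¹ * (t * l * t⁻¹)) = l⁻¹ * ((l * (f : G) * l⁻¹) * (t * l * t⁻¹)) := by group
      _ = l⁻¹ * ((t * l * t⁻¹) * (f : G)) := by rw [h5]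
      _ = _ := by group
  have huC : t * (u : G) = u * t := hFC u huF
  have hl' : t * l * t⁻¹ = l * u := by
    show t * l * t⁻¹ = l * (l⁻¹ * (t * l * t⁻¹))
    group
  have hu2 : (u : G) ^ 2 = 1 := by
    have h1 : t * (t * l * t⁻¹) * t⁻¹ = l := by
      have ht' : t * t = 1 := by rw [← pow_two]; exact ht2
      calc t * (t * l * t⁻¹) * t⁻¹ = (t * t) * l * (t * t)⁻¹ := by group
        _ = l := by rw [ht']; group
    rw [hl'] at h1
    have h2 : t * (l * (u : G)) * t⁻¹ = (t * l * t⁻¹) * (t * (u : G) * t⁻¹) := by group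
    rw [h2, hl'] at h1
    have h3 : t * (u : G) * t⁻¹ = u := by rw [huC]; group
    rw [h3] at h1
    rw [pow_two]
    have h4 : l * ((u : G) * u) = l := by
      rw [← mul_assoc]
      exact h1
    exact mul_left_cancel (h4.trans (mul_one l).symm)
  have hu1 : u = 1 := by
    by_contra hne
    have h1 : u ^ 2 = 1 := Subtype.ext hu2
    have h2 : orderOf u = 2 := orderOf_eq_prime h1 hne
    have h3 : orderOf u ∣ Nat.card ↥L := orderOf_dvd_natCard u
    rw [h2] at h3
    exact (Nat.not_even_iff_odd.2 hLodd) (even_iff_two_dvd.2 h3)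
  rw [hu1] at hl'
  have h6 : t * l * t⁻¹ = l := by
    simpa using hl'
  rw [mul_inv_eq_iff_eq_mul] at h6
  exact h6

/-- a new element inverted by `t` and normalized by `A` -/
theorem exists_inverted {A M : Subgroup G} (hA : IsElementaryAbelian 2 A) (hM : ¬ 2 ∣ Nat.card M)
    (hAM : ∀ a ∈ A, ∀ x ∈ M, a * x * a⁻¹ ∈ M) {t c : G} (ht : t ∈ A) (hc : c ∈ M) (htc : t * c ≠ c * t) :
    ∃ y ∈ M, y ≠ 1 ∧ t * y * t⁻¹ = y⁻¹ ∧ ∀ b ∈ A, b * y * b⁻¹ = y ∨ b * y * b⁻¹ = y⁻¹ := by
  classical
  haveI hf : Fact (Nat.Prime 2) := ⟨Nat.prime_two⟩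
  have hAc := (Cfsg.Agent.Lib.BalanceL5.imc_iff' A).1 hA.1
  have hsq : ∀ a ∈ A, a * a = 1 := fun a ha => by rw [← pow_two]; exact hA.2 a ha
  have ht1 : t ≠ 1 := by
    rintro rfl
    exact htc (by simp)
  have hkey : ∃ B : Subgroup G, B ≤ A ∧ t ∉ B ∧ (∀ b ∈ A, b ∈ B ∨ b * t ∈ B) ∧
      ∃ n ∈ M ⊓ centralizer (B : Set G), t * n ≠ n * t := by
    by_cases h4 : 2 ^ 2 ≤ Nat.card A
    · have hgen := Cfsg.Agent.Lib.CoprimeGen.gen_all (p := 2) A M hAc hA.2 h4 hAM hM
      by_contra hcon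
      push Not at hcon
      apply htc
      have hle : (⨆ B : {B : Subgroup G // B ≤ A ∧ B.relIndex A = 2}, M ⊓ centralizer ((B : Subgroup G) : Set G)) ≤
          centralizer ({t} : Set G) := by
        refine iSup_le fun B => ?_
        intro n hn
        apply Subgroup.mem_centralizer_singleton_iff.2
        by_cases htB : t ∈ (B : Subgroup G)
        · exact (Subgroup.mem_centralizer_iff.1 hn.2 t htB).symm
        · have hidx : ((B : Subgroup G).subgroupOf A).index = 2 := B.2.2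
          refine (hcon B B.2.1 htB ?_ n hn).symm
          intro b hb
          by_cases hbB : b ∈ (B : Subgroup G)
          · exact Or.inl hbB
          · right
            have h1 := Subgroup.mul_mem_iff_of_index_two hidx (a := ⟨b, hb⟩) (b := ⟨t, ht⟩)
            exact h1.2 ⟨fun h => absurd h hbB, fun h => absurd h htB⟩
      exact (Subgroup.mem_centralizer_singleton_iff.1 (hle (hgen hc))).symm
    · refine ⟨⊥, bot_le, ?_, ?_, c, ⟨hc, ?_⟩, htc⟩
      · simpa using ht1
      · intro b hb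
        by_contra hcon
        push Not at hcon
        have hb1 : b ≠ 1 := by simpa using hcon.1
        have hbt : b * t ≠ 1 := by simpa using hcon.2
        apply h4
        have hbtne : b ≠ t := by
          rintro rfl
          exact hbt (hsq b hb)
        have h5 : Nat.card A = (A : Set G).ncard := (Nat.card_coe_set_eq _).symm
        rw [h5]
        have h6 : (({1, b, t, b * t} : Finset G) : Set G) ⊆ (A : Set G) := by
          intro z hz
          simp only [Finset.coe_insert, Finset.coe_singleton, Set.mem_insert_iff, Set.mem_singleton_iff] at hz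
          rcases hz with rfl | rfl | rfl | rfl
          · exact A.one_mem
          · exact hb
          · exact ht
          · exact A.mul_mem hb ht
        have h7 := Set.ncard_le_ncard h6 (Set.toFinite _)
        rw [Set.ncard_coe_finset] at h7
        have h8 : ({1, b, t, b * t} : Finset G).card = 4 := by
          rw [Finset.card_insert_of_notMem, Finset.card_insert_of_notMem, Finset.card_insert_of_notMem,
            Finset.card_singleton]
          · simp only [Finset.mem_singleton]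
            intro h
            exact hb1 (by simpa using h.symm)
          · simp only [Finset.mem_insert, Finset.mem_singleton, not_or]
            refine ⟨hbtne, ?_⟩
            intro h
            exact ht1 (by simpa using h.symm)
          · simp only [Finset.mem_insert, Finset.mem_singleton, not_or]
            refine ⟨hb1.symm, ht1.symm, ?_⟩
            exact fun h => hbt h.symm
        omega
      · show c ∈ centralizer ((⊥ : Subgroup G) : Set G)
        rw [Subgroup.mem_centralizer_iff]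
        intro h hh
        have h0 : h = 1 := by simpa using hh
        rw [h0]
        simp
  obtain ⟨B, hBA, htB, hsplit, n, hn, hne⟩ := hkey
  set y := n⁻¹ * (t * n * t⁻¹) with hy
  have htinv : t⁻¹ = t := by
    rw [inv_eq_iff_mul_eq_one]
    exact hsq t ht
  have hinv : t * y * t⁻¹ = y⁻¹ := by
    rw [hy]
    have h1 : t * t = 1 := hsq t ht
    calc t * (n⁻¹ * (t * n * t⁻¹)) * t⁻¹ = (t * n⁻¹ * t⁻¹) * ((t * t) * n * (t * t)⁻¹) := by group
      _ = (t * n⁻¹ * t⁻¹) * n := by rw [h1]; group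
      _ = _ := by group
  have hyM : y ∈ M := M.mul_mem (M.inv_mem hn.1) (hAM t ht n hn.1)
  have hy1 : y ≠ 1 := by
    intro h
    apply hne
    rw [hy, inv_mul_eq_one, eq_comm, mul_inv_eq_iff_eq_mul] at h
    exact h.symm ▸ rfl
  have hBc : ∀ b ∈ B, b * y * b⁻¹ = y := by
    intro b hb
    have h1 : b * n = n * b := Subgroup.mem_centralizer_iff.1 hn.2 b hb
    have h2 : b * t = t * b := hAc b (hBA hb) t ht
    have h3 : b * y = y * b := by
      have c1 : Commute b n := h1
      have c2 : Commute b t := h2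
      have c3 : Commute b y := c1.inv_right.mul_right ((c2.mul_right c1).mul_right c2.inv_right)
      exact c3.eq
    rw [h3]
    group
  refine ⟨y, hyM, hy1, hinv, ?_⟩
  intro b hb
  rcases hsplit b hb with h | h
  · exact Or.inl (hBc b h)
  · right
    have h1 := hBc _ h
    have h2 : b * y * b⁻¹ = (b * t) * (t * y * t⁻¹) * (b * t)⁻¹ := by
      have h3 : t * t = 1 := hsq t ht
      calc b * y * b⁻¹ = b * (t * t) * y * (t * t)⁻¹ * b⁻¹ := by rw [h3]; group
        _ = _ := by group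
    rw [h2, hinv]
    have h4 : (b * t) * y⁻¹ * (b * t)⁻¹ = ((b * t) * y * (b * t)⁻¹)⁻¹ := by group
    rw [h4, h1]

/-- a partial system of commuting inverted elements, with dual elements -/
structure Sys (L A : Subgroup G) (s : ℕ) where
  y : Fin s → G
  a : Fin s → G
  p : Fin s → ℕ
  hp : ∀ i, (p i).Prime
  hy : ∀ i, y i ∈ coreIn (p i) L
  ho : ∀ i, orderOf (y i) = p i
  ha : ∀ i, a i ∈ A
  hinv : ∀ i, a i * y i * (a i)⁻¹ = (y i)⁻¹
  hcen : ∀ i j, i ≠ j → a j * y i * (a j)⁻¹ = y i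
  hall : ∀ i, ∀ b ∈ A, b * y i * b⁻¹ = y i ∨ b * y i * b⁻¹ = (y i)⁻¹
  hcomm : ∀ i j, y i * y j = y j * y i

/-- existence of a new element if there is a common centralizing element of `A` -/
theorem exists_new {L A : Subgroup G} (hLs : Group.IsSolvable ↥L) (hLodd : Odd (Nat.card ↥L))
    (hA : IsElementaryAbelian 2 A) (hAL : A ≤ normalizer (L : Set G))
    (hfaith : A ⊓ centralizer (L : Set G) = ⊥) {s : ℕ} (S : Sys L A s)
    {t : G} (ht : t ∈ A) (ht1 : t ≠ 1) (htc : ∀ i, t * S.y i = S.y i * t) :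
    ∃ (q : ℕ) (y' : G), q.Prime ∧ y' ∈ coreIn q L ∧ orderOf y' = q ∧ t * y' * t⁻¹ = y'⁻¹ ∧
      (∀ b ∈ A, b * y' * b⁻¹ = y' ∨ b * y' * b⁻¹ = y'⁻¹) ∧ ∀ i, y' * S.y i = S.y i * y' := by
  classical
  have hAc := (Cfsg.Agent.Lib.BalanceL5.imc_iff' A).1 hA.1
  have ht2 : t ^ 2 = 1 := hA.2 t ht
  have hnc : ¬ ∀ l ∈ L, t * l = l * t := by
    intro h
    have h1 : t ∈ A ⊓ centralizer (L : Set G) :=
      ⟨ht, Subgroup.mem_centralizer_iff.2 fun l hl => (h l hl).symm⟩
    rw [hfaith] at h1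
    exact ht1 h1
  have hex : ∃ p : ℕ, p.Prime ∧ ∃ x ∈ coreIn p L, t * x ≠ x * t := by
    by_contra hcon
    push Not at hcon
    exact hnc (centralizes_of_coreIn hLs hLodd (hAL ht) ht2 hcon)
  obtain ⟨p, hp, x, hx, htx⟩ := hex
  haveI hfp : Fact p.Prime := ⟨hp⟩
  have hRp := coreIn_isPGroup p L
  have hx1 : x ≠ 1 := by
    rintro rfl
    exact htx (by simp)
  have hp2 : p ≠ 2 := by
    rintro rfl
    obtain ⟨k, hk⟩ := hRp ⟨x, hx⟩
    have h1 : (⟨x, hx⟩ : coreIn 2 L) ≠ 1 := fun h => hx1 (congrArg Subtype.val h)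
    have hoL : orderOf x ∣ Nat.card ↥L := by
      have := Subgroup.orderOf_dvd_natCard L (coreIn_le 2 L hx)
      exact this
    have hox : orderOf x ∣ 2 ^ k := by
      apply orderOf_dvd_of_pow_eq_one
      exact congrArg Subtype.val hk
    obtain ⟨m, hm, hm2⟩ := (Nat.dvd_prime_pow Nat.prime_two).1 hox
    have hm0 : m ≠ 0 := by
      rintro rfl
      rw [pow_zero] at hm2
      exact hx1 (orderOf_eq_one_iff.1 hm2)
    have h2 : 2 ∣ Nat.card ↥L := dvd_trans (by rw [hm2]; exact dvd_pow_self 2 hm0) hoL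
    exact (Nat.not_even_iff_odd.2 hLodd) (even_iff_two_dvd.2 h2)
  set R := coreIn p L with hR
  set T₀ : Subgroup G := Subgroup.closure {u | ∃ i, S.p i = p ∧ u = S.y i} with hT₀
  have hT₀R : T₀ ≤ R := by
    rw [hT₀, Subgroup.closure_le]
    rintro _ ⟨i, hi, rfl⟩
    have := S.hy i
    rw [hi] at this
    exact this
  have htT₀ : T₀ ≤ centralizer ({t} : Set G) := by
    rw [hT₀, Subgroup.closure_le]
    rintro _ ⟨i, hi, rfl⟩
    exact Subgroup.mem_centralizer_singleton_iff.2 (htc i).symm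
  have hoddt : (orderOf t).Coprime p := by
    have h1 : orderOf t = 2 := orderOf_eq_prime ht2 ht1
    rw [h1]
    exact (Nat.coprime_primes Nat.prime_two hp).2 (Ne.symm hp2)
  have hnorm : ∀ b ∈ A, ∀ u ∈ R, b * u * b⁻¹ ∈ R := fun b hb u hu => conj_mem_coreIn (hAL hb) hu
  have htN : t ∈ normalizer (R : Set G) :=
    Cfsg.Agent.Lib.H2Basic.mem_normalizer_of_conj_le (fun u hu => hnorm t ht u hu)
  have hex2 : ∃ c ∈ R, (∀ u ∈ T₀, c * u = u * c) ∧ t * c ≠ c * t := by
    by_contra hcon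
    push Not at hcon
    have := Cfsg.Agent.Lib.CompsLocal.centralizes_of_centralizer hRp hoddt htN hT₀R
      (fun u hu => (Subgroup.mem_centralizer_singleton_iff.1 (htT₀ hu)).symm) hcon x hx
    exact htx this
  obtain ⟨c, hcR, hcT, htcc⟩ := hex2
  set M : Subgroup G := R ⊓ ⨅ i, centralizer ({S.y i} : Set G) with hM
  have hmemM : ∀ {u : G}, u ∈ M ↔ u ∈ R ∧ ∀ i, u * S.y i = S.y i * u := by
    intro u
    rw [hM, Subgroup.mem_inf, Subgroup.mem_iInf]
    simp only [Subgroup.mem_centralizer_singleton_iff]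
  have hcM : c ∈ M := by
    refine hmemM.2 ⟨hcR, fun i => ?_⟩
    by_cases hi : S.p i = p
    · exact hcT _ (Subgroup.subset_closure ⟨i, hi, rfl⟩)
    · haveI : Fact (S.p i).Prime := ⟨S.hp i⟩
      exact comm_coreIn_of_ne (Ne.symm hi) hcR (S.hy i)
  have hMc : ¬ 2 ∣ Nat.card M := by
    intro h
    have h1 : Nat.card M ∣ Nat.card L :=
      Subgroup.card_dvd_of_le (le_trans inf_le_left (coreIn_le p L))
    exact (Nat.not_even_iff_odd.2 hLodd) (even_iff_two_dvd.2 (dvd_trans h h1))
  have hMn : ∀ b ∈ A, ∀ u ∈ M, b * u * b⁻¹ ∈ M := by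
    intro b hb u hu
    obtain ⟨hu1, hu2⟩ := hmemM.1 hu
    refine hmemM.2 ⟨hnorm b hb u hu1, fun i => ?_⟩
    have h1 : (b * u * b⁻¹) * (b * S.y i * b⁻¹) = (b * S.y i * b⁻¹) * (b * u * b⁻¹) := by
      calc (b * u * b⁻¹) * (b * S.y i * b⁻¹) = b * (u * S.y i) * b⁻¹ := by group
        _ = b * (S.y i * u) * b⁻¹ := by rw [hu2 i]
        _ = _ := by group
    rcases S.hall i b hb with h | h
    · rw [h] at h1
      exact h1
    · rw [h] at h1
      have c1 : Commute (b * u * b⁻¹) (S.y i)⁻¹ := h1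
      have c2 := c1.inv_right
      rw [inv_inv] at c2
      exact c2.eq
  obtain ⟨y₀, hy₀M, hy₀1, hy₀t, hy₀b⟩ := exists_inverted hA hMc hMn ht hcM htcc
  have hy₀R : y₀ ∈ R := (hmemM.1 hy₀M).1
  have hdvd : p ∣ orderOf y₀ := by
    obtain ⟨k, hk⟩ := hRp ⟨y₀, hy₀R⟩
    have hox : orderOf y₀ ∣ p ^ k := by
      apply orderOf_dvd_of_pow_eq_one
      exact congrArg Subtype.val hk
    obtain ⟨m, hm, hm2⟩ := (Nat.dvd_prime_pow hp).1 hox
    have hm0 : m ≠ 0 := by
      rintro rfl
      rw [pow_zero] at hm2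
      exact hy₀1 (orderOf_eq_one_iff.1 hm2)
    rw [hm2]
    exact dvd_pow_self p hm0
  set e := orderOf y₀ / p with he
  have hy' : orderOf (y₀ ^ e) = p := orderOf_pow_orderOf_div (orderOf_pos y₀).ne' hdvd
  have hconj : ∀ b : G, b * y₀ ^ e * b⁻¹ = (b * y₀ * b⁻¹) ^ e := fun b => (conj_pow).symm
  refine ⟨p, y₀ ^ e, hp, R.pow_mem hy₀R e, hy', ?_, ?_, ?_⟩
  · rw [hconj, hy₀t, inv_pow]
  · intro b hb
    rcases hy₀b b hb with h | h
    · left
      rw [hconj, h]
    · right
      rw [hconj, h, inv_pow]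
  · intro i
    have h1 : Commute y₀ (S.y i) := (hmemM.1 hy₀M).2 i
    exact (h1.pow_left e).eq

/-- extension of a system -/
theorem sys_succ {L A : Subgroup G} (hLs : Group.IsSolvable ↥L) (hLodd : Odd (Nat.card ↥L))
    (hA : IsElementaryAbelian 2 A) (hAL : A ≤ normalizer (L : Set G))
    (hfaith : A ⊓ centralizer (L : Set G) = ⊥) {s : ℕ} (S : Sys L A s)
    {t : G} (ht : t ∈ A) (ht1 : t ≠ 1) (htc : ∀ i, t * S.y i = S.y i * t) :
    Nonempty (Sys L A (s + 1)) := by
  classical
  obtain ⟨q, y', hq, hy'L, hy'o, hy't, hy'b, hy'c⟩ := exists_new hLs hLodd hA hAL hfaith S ht ht1 htc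
  have hsq : ∀ a ∈ A, a * a = 1 := fun a ha => by rw [← pow_two]; exact hA.2 a ha
  have hAc := (Cfsg.Agent.Lib.BalanceL5.imc_iff' A).1 hA.1
  have hyi : ∀ i, t * S.y i * t⁻¹ = S.y i := fun i => by rw [htc i]; group
  let a' : Fin s → G := fun i => if S.a i * y' * (S.a i)⁻¹ = y' then S.a i else S.a i * t
  have ha'A : ∀ i, a' i ∈ A := by
    intro i
    show (if S.a i * y' * (S.a i)⁻¹ = y' then S.a i else S.a i * t) ∈ A
    split_ifs
    · exact S.ha i
    · exact A.mul_mem (S.ha i) ht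
  have ha'y : ∀ i, a' i * y' * (a' i)⁻¹ = y' := by
    intro i
    show (if S.a i * y' * (S.a i)⁻¹ = y' then S.a i else S.a i * t) * y' *
      (if S.a i * y' * (S.a i)⁻¹ = y' then S.a i else S.a i * t)⁻¹ = y'
    split_ifs with h
    · exact h
    · have h1 : S.a i * y' * (S.a i)⁻¹ = y'⁻¹ := (hy'b _ (S.ha i)).resolve_left h
      calc S.a i * t * y' * (S.a i * t)⁻¹ = S.a i * (t * y' * t⁻¹) * (S.a i)⁻¹ := by group
        _ = S.a i * y'⁻¹ * (S.a i)⁻¹ := by rw [hy't]
        _ = (S.a i * y' * (S.a i)⁻¹)⁻¹ := by group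
        _ = y' := by rw [h1, inv_inv]
  have ha'z : ∀ (j : Fin s) (z : G), t * z * t⁻¹ = z → S.a j * z * (S.a j)⁻¹ = a' j * z * (a' j)⁻¹ := by
    intro j z hz
    show _ = (if S.a j * y' * (S.a j)⁻¹ = y' then S.a j else S.a j * t) * z *
      (if S.a j * y' * (S.a j)⁻¹ = y' then S.a j else S.a j * t)⁻¹
    split_ifs with h
    · rfl
    · calc S.a j * z * (S.a j)⁻¹ = S.a j * (t * z * t⁻¹) * (S.a j)⁻¹ := by rw [hz]
        _ = _ := by group
  have hinvS : ∀ i, a' i * S.y i * (a' i)⁻¹ = (S.y i)⁻¹ := by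
    intro i
    rw [← ha'z i _ (hyi i)]
    exact S.hinv i
  have hcenAll : ∀ i j : Fin (s + 1), i ≠ j →
      (Fin.cons t a' : Fin (s + 1) → G) j * (Fin.cons y' S.y : Fin (s + 1) → G) i *
        ((Fin.cons t a' : Fin (s + 1) → G) j)⁻¹ = (Fin.cons y' S.y : Fin (s + 1) → G) i := by
    intro i j
    induction i using Fin.cases with
    | zero =>
      induction j using Fin.cases with
      | zero => exact fun h => absurd rfl h
      | succ j =>
        intro _
        exact ha'y j
    | succ i =>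
      induction j using Fin.cases with
      | zero =>
        intro _
        exact hyi i
      | succ j =>
        intro h
        show a' j * S.y i * (a' j)⁻¹ = S.y i
        rw [← ha'z j _ (hyi i)]
        exact S.hcen i j (fun h' => h (by rw [h']))
  have hcommAll : ∀ i j : Fin (s + 1),
      (Fin.cons y' S.y : Fin (s + 1) → G) i * (Fin.cons y' S.y : Fin (s + 1) → G) j =
        (Fin.cons y' S.y : Fin (s + 1) → G) j * (Fin.cons y' S.y : Fin (s + 1) → G) i := by
    intro i j
    induction i using Fin.cases with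
    | zero =>
      induction j using Fin.cases with
      | zero => rfl
      | succ j => exact hy'c j
    | succ i =>
      induction j using Fin.cases with
      | zero => exact (hy'c i).symm
      | succ j => exact S.hcomm i j
  exact ⟨{
    y := Fin.cons y' S.y
    a := Fin.cons t a'
    p := Fin.cons q S.p
    hp := fun i => Fin.cases hq S.hp i
    hy := fun i => Fin.cases hy'L S.hy i
    ho := fun i => Fin.cases hy'o S.ho i
    ha := fun i => Fin.cases ht ha'A i
    hinv := fun i => Fin.cases hy't hinvS i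
    hcen := hcenAll
    hall := fun i => Fin.cases hy'b S.hall i
    hcomm := hcommAll }⟩

theorem dihedral_of_inverted {a y : G} {n : ℕ} (hn : Odd n) (hy : orderOf y = n) (ha : orderOf a = 2)
    (hinv : a * y * a⁻¹ = y⁻¹) : Nonempty (↥(zpowers a ⊔ zpowers y) ≃* DihedralGroup n) := by
  classical
  have hn0 : n ≠ 0 := fun h => by rw [h] at hn; exact (by decide : ¬ Odd 0) hn
  haveI : NeZero n := ⟨hn0⟩
  have ha2 : a ^ 2 = 1 := by rw [← ha]; exact pow_orderOf_eq_one a
  have hN : zpowers a ≤ normalizer ((zpowers y : Subgroup G) : Set G) := by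
    rw [Subgroup.zpowers_le]
    apply Cfsg.Agent.Lib.H2Basic.mem_normalizer_of_conj_le
    intro u hu
    obtain ⟨k, rfl⟩ := Subgroup.mem_zpowers_iff.1 hu
    rw [← conj_zpow, hinv]
    exact Subgroup.zpow_mem _ (Subgroup.inv_mem _ (Subgroup.mem_zpowers y)) k
  have hco := Subgroup.coe_mul_of_left_le_normalizer_right (zpowers a) (zpowers y) hN
  have hinf : zpowers a ⊓ zpowers y = ⊥ := by
    rw [eq_bot_iff]
    rintro u ⟨hu1, hu2⟩
    have h1 : orderOf u ∣ 2 := by
      have := Subgroup.orderOf_dvd_natCard _ hu1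
      rwa [Nat.card_zpowers, ha] at this
    have h2 : orderOf u ∣ n := by
      have := Subgroup.orderOf_dvd_natCard _ hu2
      rwa [Nat.card_zpowers, hy] at this
    have h3 : Nat.Coprime 2 n := Nat.coprime_two_left.2 hn
    have h4 := Nat.Coprime.eq_one_of_dvd (Nat.Coprime.coprime_dvd_left h1 h3) h2
    exact orderOf_eq_one_iff.1 h4
  have hcard : Nat.card ↥(zpowers a ⊔ zpowers y) = 2 * n := by
    have h1 := Cfsg.Agent.Lib.WielandtCount.card_mul_set (zpowers a) (zpowers y)
    rw [hinf, Subgroup.card_bot, mul_one, Nat.card_zpowers, Nat.card_zpowers, ha, hy] at h1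
    rw [← h1]
    exact Nat.card_congr (Equiv.setCongr hco)
  have hyT : y ∈ zpowers a ⊔ zpowers y := (le_sup_right : zpowers y ≤ _) (Subgroup.mem_zpowers y)
  have haT : a ∈ zpowers a ⊔ zpowers y := (le_sup_left : zpowers a ≤ _) (Subgroup.mem_zpowers a)
  refine Cfsg.Agent.Lib.Dihedral.nonempty_mulEquiv_dihedral n (⟨y, hyT⟩ : ↥(zpowers a ⊔ zpowers y)) ⟨a, haT⟩ ?_ ?_ ?_ ?_ hcard
  · rw [Subgroup.orderOf_mk, hy]
  · exact Subtype.ext ha2
  · exact Subtype.ext hinv
  · intro h
    obtain ⟨k, hk⟩ := Subgroup.mem_zpowers_iff.1 h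
    have h1 : y ^ k = a := congrArg Subtype.val hk
    have h2 : a ∈ zpowers y := h1 ▸ Subgroup.zpow_mem _ (Subgroup.mem_zpowers y) k
    have h3 : a ∈ zpowers a ⊓ zpowers y := ⟨Subgroup.mem_zpowers a, h2⟩
    rw [hinf] at h3
    have h4 : a = 1 := h3
    rw [h4, orderOf_one] at ha
    omega

theorem exists_comm_of_lt {L A : Subgroup G} (hA : IsElementaryAbelian 2 A) {s d : ℕ} (S : Sys L A s)
    (hcard : Nat.card A = 2 ^ d) (hsd : s < d) : ∃ t ∈ A, t ≠ 1 ∧ ∀ i, t * S.y i = S.y i * t := by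
  classical
  let sg : ↥A → (Fin s → Bool) := fun b i => decide ((b : G) * S.y i * (b : G)⁻¹ = S.y i)
  have hlt : Nat.card (Fin s → Bool) < Nat.card A := by
    rw [hcard]
    simp only [Nat.card_eq_fintype_card, Fintype.card_fun, Fintype.card_bool, Fintype.card_fin]
    exact Nat.pow_lt_pow_right (by norm_num) hsd
  have hni : ¬ Function.Injective sg := fun hi => absurd (Nat.card_le_card_of_injective sg hi) (not_le.2 hlt)
  obtain ⟨b, c, hsig, hbc⟩ := Function.not_injective_iff.1 hni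
  refine ⟨(b : G) * (c : G)⁻¹, A.mul_mem b.2 (A.inv_mem c.2), ?_, ?_⟩
  · intro h
    apply hbc
    apply Subtype.ext
    exact mul_inv_eq_one.1 h
  · intro i
    have h1 := congrFun hsig i
    have h2 : ((b : G) * S.y i * (b : G)⁻¹ = S.y i) ↔ ((c : G) * S.y i * (c : G)⁻¹ = S.y i) := by
      simpa [sg] using h1
    have hh : ∀ c y z : G, c * y * c⁻¹ = z → c⁻¹ * z * c = y := by
      rintro c y z rfl
      group
    have h3 : (b : G) * (c : G)⁻¹ * S.y i * ((b : G) * (c : G)⁻¹)⁻¹ = S.y i := by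
      by_cases hc : (c : G) * S.y i * (c : G)⁻¹ = S.y i
      · have hb := h2.2 hc
        have hc' : (c : G)⁻¹ * S.y i * (c : G) = S.y i := hh _ _ _ hc
        calc (b : G) * (c : G)⁻¹ * S.y i * ((b : G) * (c : G)⁻¹)⁻¹ =
            (b : G) * ((c : G)⁻¹ * S.y i * (c : G)) * (b : G)⁻¹ := by group
          _ = S.y i := by rw [hc', hb]
      · have hb : ¬ ((b : G) * S.y i * (b : G)⁻¹ = S.y i) := fun h => hc (h2.1 h)
        have hb' := (S.hall i b b.2).resolve_left hb
        have hc' := (S.hall i c c.2).resolve_left hc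
        have hc'' : (c : G)⁻¹ * S.y i * (c : G) = (S.y i)⁻¹ := by
          apply hh
          have : (c : G) * (S.y i)⁻¹ * (c : G)⁻¹ = ((c : G) * S.y i * (c : G)⁻¹)⁻¹ := by group
          rw [this, hc', inv_inv]
        calc (b : G) * (c : G)⁻¹ * S.y i * ((b : G) * (c : G)⁻¹)⁻¹ =
            (b : G) * ((c : G)⁻¹ * S.y i * (c : G)) * (b : G)⁻¹ := by group
          _ = (b : G) * (S.y i)⁻¹ * (b : G)⁻¹ := by rw [hc'']
          _ = ((b : G) * S.y i * (b : G)⁻¹)⁻¹ := by group
          _ = S.y i := by rw [hb', inv_inv]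
    rw [mul_inv_eq_iff_eq_mul] at h3
    exact h3

theorem exists_sys {L A : Subgroup G} (hLs : Group.IsSolvable ↥L) (hLodd : Odd (Nat.card ↥L))
    (hA : IsElementaryAbelian 2 A) (hAL : A ≤ normalizer (L : Set G))
    (hfaith : A ⊓ centralizer (L : Set G) = ⊥) {d : ℕ} (hcard : Nat.card A = 2 ^ d) :
    ∀ s, s ≤ d → Nonempty (Sys L A s) := by
  intro s
  induction s with
  | zero =>
    intro _
    exact ⟨{ y := Fin.elim0, a := Fin.elim0, p := Fin.elim0, hp := fun i => i.elim0, hy := fun i => i.elim0,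
             ho := fun i => i.elim0, ha := fun i => i.elim0, hinv := fun i => i.elim0, hcen := fun i => i.elim0,
             hall := fun i => i.elim0, hcomm := fun i => i.elim0 }⟩
  | succ s ih =>
    intro hs
    obtain ⟨S⟩ := ih (by omega)
    obtain ⟨t, ht, ht1, htc⟩ := exists_comm_of_lt hA S hcard (by omega)
    exact sys_succ hLs hLodd hA hAL hfaith S ht ht1 htc

/-- realizing any pattern of signs by a product of the dual elements -/
theorem exists_pattern {L A : Subgroup G} {s : ℕ} (S : Sys L A s) (I : Finset (Fin s)) :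
    ∃ b ∈ ⨆ i, zpowers (S.a i), ∀ i, (i ∈ I → b * S.y i * b⁻¹ = (S.y i)⁻¹) ∧ (i ∉ I → b * S.y i * b⁻¹ = S.y i) := by
  classical
  induction I using Finset.induction_on with
  | empty =>
    exact ⟨1, Subgroup.one_mem _, fun i => ⟨fun h => absurd h (Finset.notMem_empty i), fun _ => by simp⟩⟩
  | insert j I hj ih =>
    obtain ⟨b, hb, hbI⟩ := ih
    refine ⟨S.a j * b, Subgroup.mul_mem _ ((le_iSup (fun i => zpowers (S.a i)) j) (Subgroup.mem_zpowers _)) hb, ?_⟩
    intro i
    have hconj : (S.a j * b) * S.y i * (S.a j * b)⁻¹ = S.a j * (b * S.y i * b⁻¹) * (S.a j)⁻¹ := by group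
    by_cases hij : i = j
    · subst hij
      refine ⟨fun _ => ?_, fun h => absurd (Finset.mem_insert_self _ _) h⟩
      rw [hconj, (hbI i).2 hj, S.hinv i]
    · have hcen := S.hcen i j hij
      refine ⟨fun h => ?_, fun h => ?_⟩
      · have h1 : i ∈ I := (Finset.mem_insert.1 h).resolve_left hij
        rw [hconj, (hbI i).1 h1]
        have : S.a j * (S.y i)⁻¹ * (S.a j)⁻¹ = (S.a j * S.y i * (S.a j)⁻¹)⁻¹ := by group
        rw [this, hcen]
      · have h1 : i ∉ I := fun h' => h (Finset.mem_insert_of_mem h')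
        rw [hconj, (hbI i).2 h1, hcen]

/-- S1349 -/
theorem main (L A : Subgroup G) (hLs : Group.IsSolvable ↥L) (hLodd : Odd (Nat.card ↥L))
    (hA : IsElementaryAbelian 2 A) (d : ℕ) (hAd : Nat.card ↥A = 2 ^ d)
    (hAL : A ≤ normalizer (L : Set G)) (hfaith : A ⊓ centralizer (L : Set G) = ⊥) :
    ∃ (Ai : Fin d → Subgroup G) (Li : Fin d → Subgroup G) (n : Fin d → ℕ),
      (∀ i, Ai i ≤ A ∧ Nat.card ↥(Ai i) = 2 ∧ Li i ≤ L ∧ Odd (n i) ∧ 3 ≤ n i ∧
        Nonempty (↥(Ai i ⊔ Li i) ≃* DihedralGroup (n i))) ∧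
      (⨆ i, Ai i) = A ∧ ∀ i j, i ≠ j → ∀ x ∈ Ai i ⊔ Li i, ∀ y ∈ Ai j ⊔ Li j, x * y = y * x := by
  classical
  obtain ⟨S⟩ := exists_sys hLs hLodd hA hAL hfaith hAd d le_rfl
  have hAc := (Cfsg.Agent.Lib.BalanceL5.imc_iff' A).1 hA.1
  have hyL : ∀ i, S.y i ∈ L := fun i => coreIn_le _ _ (S.hy i)
  have hoddp : ∀ i, Odd (S.p i) := by
    intro i
    have h1 : S.p i ∣ Nat.card L := by
      rw [← S.ho i]
      exact Subgroup.orderOf_dvd_natCard L (hyL i)
    exact Odd.of_dvd_nat hLodd h1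
  have hp3 : ∀ i, 3 ≤ S.p i := by
    intro i
    have h1 := (S.hp i).two_le
    have h2 := hoddp i
    rcases Nat.lt_or_ge (S.p i) 3 with h | h
    · have : S.p i = 2 := by omega
      rw [this] at h2
      exact absurd h2 (by decide)
    · exact h
  have hyne : ∀ i, (S.y i)⁻¹ ≠ S.y i := by
    intro i h
    have h1 : S.y i ^ 2 = 1 := by
      rw [pow_two]
      nth_rewrite 1 [← h]
      exact inv_mul_cancel _
    have h2 := orderOf_dvd_of_pow_eq_one h1
    rw [S.ho i] at h2
    have h3 := Nat.le_of_dvd (by norm_num) h2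
    have h4 := hp3 i
    omega
  have haord : ∀ i, orderOf (S.a i) = 2 := by
    intro i
    apply orderOf_eq_prime (hA.2 _ (S.ha i))
    intro h
    have h1 := S.hinv i
    rw [h] at h1
    simp only [one_mul, inv_one, mul_one] at h1
    exact hyne i h1.symm
  let sg : ↥A → (Fin d → Bool) := fun b i => decide ((b : G) * S.y i * (b : G)⁻¹ = S.y i)
  have hsurj : Function.Surjective sg := by
    intro f
    obtain ⟨b, hb, hbI⟩ := exists_pattern S (Finset.univ.filter fun i => f i = false)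
    have hbA : b ∈ A := by
      have h0 : (⨆ i, zpowers (S.a i)) ≤ A := iSup_le fun i => (Subgroup.zpowers_le).2 (S.ha i)
      exact h0 hb
    refine ⟨⟨b, hbA⟩, ?_⟩
    funext i
    by_cases hfi : f i = false
    · have h1 := (hbI i).1 (by simp [hfi])
      have h2 : ¬ (b * S.y i * b⁻¹ = S.y i) := by
        rw [h1]
        exact hyne i
      simp [sg, h2, hfi]
    · have h1 := (hbI i).2 (by simp [hfi])
      have hfi' : f i = true := by simpa using hfi
      simp [sg, h1, hfi']
  have hinj : Function.Injective sg := by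
    have hc : Nat.card ↥A = Nat.card (Fin d → Bool) := by
      rw [hAd]
      simp only [Nat.card_eq_fintype_card, Fintype.card_fun, Fintype.card_bool, Fintype.card_fin]
    have hbij := (Nat.bijective_iff_surjective_and_card sg).2 ⟨hsurj, hc⟩
    exact hbij.1
  refine ⟨fun i => zpowers (S.a i), fun i => zpowers (S.y i), S.p, ?_, ?_, ?_⟩
  · intro i
    refine ⟨(Subgroup.zpowers_le).2 (S.ha i), ?_, (Subgroup.zpowers_le).2 (hyL i), hoddp i, hp3 i, ?_⟩
    · rw [Nat.card_zpowers, haord i]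
    · exact dihedral_of_inverted (hoddp i) (S.ho i) (haord i) (S.hinv i)
  · apply le_antisymm
    · exact iSup_le fun i => (Subgroup.zpowers_le).2 (S.ha i)
    · intro a ha
      obtain ⟨b, hb, hbI⟩ := exists_pattern S (Finset.univ.filter fun i => ¬ (a * S.y i * a⁻¹ = S.y i))
      have hbA : b ∈ A := by
        have h0 : (⨆ i, zpowers (S.a i)) ≤ A := iSup_le fun i => (Subgroup.zpowers_le).2 (S.ha i)
        exact h0 hb
      have hsame : sg ⟨a, ha⟩ = sg ⟨b, hbA⟩ := by
        funext i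
        by_cases hi : a * S.y i * a⁻¹ = S.y i
        · have h1 := (hbI i).2 (by simp [hi])
          simp [sg, hi, h1]
        · have h1 := (hbI i).1 (by simp [hi])
          have h2 : ¬ (b * S.y i * b⁻¹ = S.y i) := by
            rw [h1]
            exact hyne i
          simp [sg, hi, h2]
      have h1 := hinj hsame
      have h2 : a = b := congrArg Subtype.val h1
      rw [h2]
      exact hb
  · intro i j hij x hx y hy
    have hcen1 : ∀ u ∈ ({S.a i, S.y i} : Set G), zpowers (S.a j) ⊔ zpowers (S.y j) ≤ centralizer ({u} : Set G) := by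
      intro u hu
      refine sup_le ((Subgroup.zpowers_le).2 ?_) ((Subgroup.zpowers_le).2 ?_)
      · apply Subgroup.mem_centralizer_singleton_iff.2
        rcases hu with rfl | rfl
        · exact hAc _ (S.ha j) _ (S.ha i)
        · have h1 := S.hcen i j hij
          rw [mul_inv_eq_iff_eq_mul] at h1
          exact h1
      · apply Subgroup.mem_centralizer_singleton_iff.2
        rcases hu with rfl | rfl
        · have h1 := S.hcen j i hij.symm
          rw [mul_inv_eq_iff_eq_mul] at h1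
          exact h1.symm
        · exact S.hcomm j i
    have hle : zpowers (S.a i) ⊔ zpowers (S.y i) ≤ centralizer ((zpowers (S.a j) ⊔ zpowers (S.y j) : Subgroup G) : Set G) := by
      refine sup_le ((Subgroup.zpowers_le).2 ?_) ((Subgroup.zpowers_le).2 ?_)
      · apply Subgroup.mem_centralizer_iff.2
        intro v hv
        exact Subgroup.mem_centralizer_singleton_iff.1 (hcen1 _ (Or.inl rfl) hv)
      · apply Subgroup.mem_centralizer_iff.2
        intro v hv
        exact Subgroup.mem_centralizer_singleton_iff.1 (hcen1 _ (Or.inr rfl) hv)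
    exact (Subgroup.mem_centralizer_iff.1 (hle hx) y hy).symm

end

end Cfsg.Agent.Lib.OddDihedral
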