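import Mathlib
import Cfsg.Prelude

/-!
# Involutions acting on subgroups of odd order
-/

set_option autoImplicit false
set_option linter.all false

namespace Cfsg.Agent.Lib.OddInv

open Subgroup Cfsg

section

variable {M : Type*} [Group M] [Finite M]

theorem odd_orderOf_of_mem {X : Subgroup M} (hodd : Odd (Nat.card X)) {v : M} (hv : v ∈ X) : Odd (orderOf v) := by
  have h1 : orderOf v ∣ Nat.card X := by
    have := Subgroup.orderOf_dvd_natCard X hv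
    exact this
  exact Odd.of_dvd_nat hodd h1

/-- square roots in elements of odd order -/
theorem exists_sqrt {v : M} (hv : Odd (orderOf v)) : ∃ k : ℕ, (v ^ k) ^ 2 = v := by
  obtain ⟨m, hm⟩ := hv
  refine ⟨m + 1, ?_⟩
  rw [← pow_mul]
  have h : (m + 1) * 2 = orderOf v + 1 := by omega
  rw [h, pow_succ, pow_orderOf_eq_one, one_mul]

theorem sq_inj {X : Subgroup M} (hodd : Odd (Nat.card X)) {a b : M} (ha : a ∈ X) (hb : b ∈ X)
    (h : a ^ 2 = b ^ 2) : a = b := by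
  obtain ⟨m, hm⟩ := hodd
  have key : ∀ x ∈ X, (x ^ 2) ^ (m + 1) = x := by
    intro x hx
    rw [← pow_mul]
    have h1 : 2 * (m + 1) = Nat.card X + 1 := by omega
    rw [h1, pow_succ]
    have h2 : x ^ Nat.card X = 1 := orderOf_dvd_iff_pow_eq_one.1 (Subgroup.orderOf_dvd_natCard X hx)
    rw [h2, one_mul]
  rw [← key a ha, ← key b hb, h]

variable {t : M} {X : Subgroup M}

theorem conj_inv_of_sq (ht : t * t = 1) : t⁻¹ = t := inv_eq_of_mul_eq_one_left ht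

/-- decomposition: every element is a product of a fixed element and an inverted one -/
theorem exists_decomp (ht : t * t = 1) (hodd : Odd (Nat.card X))
    (hnorm : ∀ x ∈ X, t * x * t⁻¹ ∈ X) {x : M} (hx : x ∈ X) :
    ∃ y z : M, y ∈ X ∧ y * t = t * y ∧ z ∈ X ∧ t * z * t⁻¹ = z⁻¹ ∧ x = y * z := by
  have htinv := conj_inv_of_sq ht
  -- v = (τ x)⁻¹ x is inverted
  obtain ⟨v, hvdef⟩ : ∃ v, v = (t * x * t⁻¹)⁻¹ * x := ⟨_, rfl⟩
  have hvX : v ∈ X := by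
    rw [hvdef]
    exact X.mul_mem (X.inv_mem (hnorm x hx)) hx
  have hvinv : t * v * t⁻¹ = v⁻¹ := by
    rw [hvdef]
    calc t * ((t * x * t⁻¹)⁻¹ * x) * t⁻¹ = (t * t) * x⁻¹ * t⁻¹ * x * t⁻¹ := by group
      _ = x⁻¹ * t⁻¹ * x * t⁻¹ := by rw [ht, one_mul]
      _ = x⁻¹ * t * x * t⁻¹ := by rw [htinv]
      _ = ((t * x * t⁻¹)⁻¹ * x)⁻¹ := by group
  obtain ⟨k, hk⟩ := exists_sqrt (odd_orderOf_of_mem hodd hvX)
  obtain ⟨z, hzdef⟩ : ∃ z, z = v ^ k := ⟨_, rfl⟩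
  have hzX : z ∈ X := hzdef ▸ X.pow_mem hvX k
  have hz2 : z ^ 2 = v := by rw [hzdef]; exact hk
  have hzinv : t * z * t⁻¹ = z⁻¹ := by
    rw [hzdef, ← conj_pow, hvinv, inv_pow]
  refine ⟨x * z⁻¹, z, X.mul_mem hx (X.inv_mem hzX), ?_, hzX, hzinv, by group⟩
  -- t (x z⁻¹) t⁻¹ = x z⁻¹
  have h1 : t * (x * z⁻¹) * t⁻¹ = x * z⁻¹ := by
    have h2 : t * (x * z⁻¹) * t⁻¹ = (t * x * t⁻¹) * (t * z * t⁻¹)⁻¹ := by group
    rw [h2, hzinv, inv_inv]
    have h3 : t * x * t⁻¹ = x * v⁻¹ := by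
      rw [hvdef]; group
    rw [h3, ← hz2]
    group
  calc x * z⁻¹ * t = (t * (x * z⁻¹) * t⁻¹) * t := by rw [h1]
    _ = t * (x * z⁻¹) := by group

/-- uniqueness of the decomposition -/
theorem decomp_unique (hodd : Odd (Nat.card X)) {y y' z z' : M}
    (hy : y * t = t * y) (hy' : y' * t = t * y') (hz : z ∈ X) (hz' : z' ∈ X)
    (hzi : t * z * t⁻¹ = z⁻¹) (hzi' : t * z' * t⁻¹ = z'⁻¹) (h : y * z = y' * z') : y = y' ∧ z = z' := by
  have h1 : t * (y * z) * t⁻¹ = y * z⁻¹ := by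
    have : t * (y * z) * t⁻¹ = (t * y * t⁻¹) * (t * z * t⁻¹) := by group
    rw [this, hzi]
    have h2 : t * y * t⁻¹ = y := by rw [← hy]; group
    rw [h2]
  have h2 : t * (y' * z') * t⁻¹ = y' * z'⁻¹ := by
    have : t * (y' * z') * t⁻¹ = (t * y' * t⁻¹) * (t * z' * t⁻¹) := by group
    rw [this, hzi']
    have h2 : t * y' * t⁻¹ = y' := by rw [← hy']; group
    rw [h2]
  rw [h] at h1
  have h3 : y * z⁻¹ = y' * z'⁻¹ := by rw [← h1, h2]
  -- (y z⁻¹)⁻¹ (y z) = z²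
  have h4 : z ^ 2 = z' ^ 2 := by
    calc z ^ 2 = (y * z⁻¹)⁻¹ * (y * z) := by rw [pow_two]; group
      _ = (y' * z'⁻¹)⁻¹ * (y' * z') := by rw [h3, h]
      _ = z' ^ 2 := by rw [pow_two]; group
  have h5 : z = z' := sq_inj hodd hz hz' h4
  refine ⟨?_, h5⟩
  rw [h5] at h
  exact mul_right_cancel h

end

end Cfsg.Agent.Lib.OddInv
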