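/-
The parity formula for maximal totally singular subspaces over an arbitrary field, and the
standard hyperbolic form.
-/
import Mathlib
import Cfsg.Agent.Lib.QuadFamily

set_option autoImplicit false
set_option linter.all false

open scoped MatrixGroups Matrix commutatorElement
open Cfsg Cfsg.Geo
open Cfsg.Agent.Lib.Transvection Cfsg.Agent.Lib.LinAlgAux Cfsg.Agent.Lib.QuadBase
  Cfsg.Agent.Lib.QuadSiegel Cfsg.Agent.Lib.QuadSim Cfsg.Agent.Lib.SubspaceStab
  Cfsg.Agent.Lib.QuadStab Cfsg.Agent.Lib.QuadLag Cfsg.Agent.Lib.QuadFamily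
open Cfsg.Agent.Lib.SymplecticTv (Ind finrank_inf_ker_add_one)
open QuadraticMap (polar)

namespace Cfsg.Agent.Lib.QuadFamGen

variable {ι : Type} [Fintype ι] [DecidableEq ι] {F : Type*} [Field F] {Q : (ι → F) → F}

variable (hQ : IsNondegenerateQuadraticForm Q)

/-- The form map as a linear map. -/
noncomputable def formLL : (ι → F) →ₗ[F] Module.Dual F (ι → F) where
  toFun a := formL hQ a
  map_add' a b := by
    ext x
    simp [formL_apply, pol_add_right hQ]
  map_smul' c a := by
    ext x
    simp [formL_apply, pol_smul_right hQ]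

include hQ in
/-- Riesz representation over any field. -/
theorem exists_riesz_gen (φ : (ι → F) →ₗ[F] F) : ∃ a, ∀ x, polar Q x a = φ x := by
  have hinj : Function.Injective (formLL hQ) := fun a b h => formL_injective hQ h
  have hsurj : Function.Surjective (formLL hQ) := by
    apply (LinearMap.injective_iff_surjective_of_finrank_eq_finrank _).1 hinj
    rw [Subspace.dual_finrank_eq]
  obtain ⟨a, ha⟩ := hsurj φ
  exact ⟨a, fun x => by
    have := LinearMap.congr_fun ha x
    simpa [formLL, formL_apply] using this⟩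

theorem finrank_orthQ (T : Submodule F (ι → F)) :
    Module.finrank F (orthQ hQ T) + Module.finrank F T = Fintype.card ι := by
  have h1 : LinearMap.ker (orthMap hQ T) = orthQ hQ T := by
    ext x
    constructor
    · intro h t ht
      have := LinearMap.congr_fun (LinearMap.mem_ker.1 h) ⟨t, ht⟩
      rw [QuadraticMap.polar_comm]
      simpa [orthMap] using this
    · intro h
      rw [LinearMap.mem_ker]
      ext t
      have h5 := h t t.2
      rw [QuadraticMap.polar_comm] at h5
      simpa [orthMap] using h5
  have h2 : LinearMap.range (orthMap hQ T) = ⊤ := by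
    rw [LinearMap.range_eq_top]
    intro ψ
    obtain ⟨φ, hφ⟩ := LinearMap.exists_extend ψ
    obtain ⟨x, hx⟩ := exists_riesz_gen hQ φ
    refine ⟨x, ?_⟩
    ext t
    simp only [orthMap, LinearMap.coe_mk, AddHom.coe_mk, LinearMap.comp_apply, formL_apply,
      Submodule.subtype_apply]
    rw [hx, ← hφ]
    rfl
  have h3 := LinearMap.finrank_range_add_finrank_ker (orthMap hQ T)
  rw [h1, h2, finrank_top, Subspace.dual_finrank_eq, Module.finrank_fintype_fun_eq_card] at h3
  omega

include hQ in
theorem two_finrank_totSing_le {W : Submodule F (ι → F)}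
    (hW : IsTotallySingularQuad Q W) : 2 * Module.finrank F W ≤ Fintype.card ι := by
  have h1 := finrank_orthQ hQ W
  have h2 := Submodule.finrank_mono (totSing_le_orth hQ hW)
  omega

include hQ in
theorem maxTS_orth_eq {T : Submodule F (ι → F)} (hT : MaxTS Q T) : orthQ hQ T = T := by
  symm
  apply Submodule.eq_of_le_of_finrank_eq (totSing_le_orth hQ hT.ts)
  have h1 := finrank_orthQ hQ T
  have h2 := hT.dim
  omega

include hQ in
/-- Two adjacent maximal totally singular subspaces meet a third one with different parities. -/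
theorem adj_parity {T₁ T₂ T₂' : Submodule F (ι → F)} (hT₁ : MaxTS Q T₁) (hT₂ : MaxTS Q T₂)
    (hT₂' : MaxTS Q T₂')
    (hP : Module.finrank F (T₂ ⊓ T₂' : Submodule F (ι → F)) + 1 = Module.finrank F T₂) :
    Module.finrank F (T₁ ⊓ T₂ : Submodule F (ι → F)) +
      Module.finrank F (T₁ ⊓ T₂' : Submodule F (ι → F)) =
      2 * Module.finrank F (T₁ ⊓ (T₂ ⊓ T₂') : Submodule F (ι → F)) + 1 := by
  classical
  set P : Submodule F (ι → F) := T₂ ⊓ T₂' with hPdef
  have hd₁ := hT₁.dim
  have hd₂ := hT₂.dim
  have hd₂' := hT₂'.dim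
  -- two vectors outside of `P` are not orthogonal
  have key1 : ∀ a ∈ T₂, ∀ b ∈ T₂', a ∉ P → b ∉ P → polar Q a b ≠ 0 := by
    intro a ha b hb haP hbP hab
    have h1 : T₂ ≤ P ⊔ Submodule.span F {a} := by
      apply le_of_eq
      symm
      apply Submodule.eq_of_le_of_finrank_eq
      · refine sup_le inf_le_left ?_
        rw [Submodule.span_le]
        rintro z rfl
        exact ha
      · rw [Submodule.finrank_sup_span_singleton haP]
        exact hP
    have h2 : ∀ t ∈ T₂, polar Q t b = 0 := by
      intro t ht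
      obtain ⟨p, hp, y, hy, rfl⟩ := Submodule.mem_sup.1 (h1 ht)
      obtain ⟨μ, rfl⟩ := Submodule.mem_span_singleton.1 hy
      rw [pol_add_left hQ, pol_smul_left hQ, hab, mul_zero, add_zero]
      exact pol_of_totSing hT₂'.ts hp.2 hb
    have hbT : b ∉ T₂ := fun h => hbP ⟨h, hb⟩
    have h3 := two_finrank_totSing_le hQ (totSing_sup hQ hT₂.ts (hT₂'.ts b hb) h2)
    rw [Submodule.finrank_sup_span_singleton hbT] at h3
    omega
  have hPT₂ : P ≤ T₂ := inf_le_left
  have hPT₂' : P ≤ T₂' := inf_le_right
  have hk : Module.finrank F T₂' = Module.finrank F T₂ := by omega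
  -- the bounds
  have hb1 := finrank_inf_add_le T₁ T₂ P hPT₂
  have hb2 := finrank_inf_add_le T₁ T₂' P hPT₂'
  have hb3 : Module.finrank F (T₁ ⊓ P : Submodule F (ι → F)) ≤
      Module.finrank F (T₁ ⊓ T₂ : Submodule F (ι → F)) :=
    Submodule.finrank_mono (inf_le_inf_left _ hPT₂)
  have hb4 : Module.finrank F (T₁ ⊓ P : Submodule F (ι → F)) ≤
      Module.finrank F (T₁ ⊓ T₂' : Submodule F (ι → F)) :=
    Submodule.finrank_mono (inf_le_inf_left _ hPT₂')
  have hex : ∀ T : Submodule F (ι → F), P ≤ T →
      Module.finrank F (T₁ ⊓ P : Submodule F (ι → F)) ≠ Module.finrank F (T₁ ⊓ T : Submodule F (ι → F)) →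
      ∃ a ∈ T₁ ⊓ T, a ∉ P := by
    intro T hPT hne
    by_contra hcon
    push Not at hcon
    apply hne
    apply le_antisymm (Submodule.finrank_mono (inf_le_inf_left _ hPT))
    exact Submodule.finrank_mono (fun a ha => ⟨ha.1, hcon a ha⟩)
  -- not both bigger
  have hnot : Module.finrank F (T₁ ⊓ P : Submodule F (ι → F)) =
        Module.finrank F (T₁ ⊓ T₂ : Submodule F (ι → F)) ∨
      Module.finrank F (T₁ ⊓ P : Submodule F (ι → F)) =
        Module.finrank F (T₁ ⊓ T₂' : Submodule F (ι → F)) := by
    by_contra hcon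
    push Not at hcon
    obtain ⟨a, ha, haP⟩ := hex T₂ hPT₂ hcon.1
    obtain ⟨b, hb, hbP⟩ := hex T₂' hPT₂' hcon.2
    exact key1 a ha.2 b hb.2 haP hbP (pol_of_totSing hT₁.ts ha.1 hb.1)
  -- at least one bigger
  have hone : ∃ c ∈ T₁, c ∉ P ∧ (c ∈ T₂ ∨ c ∈ T₂') := by
    set E := orthQ hQ (T₁ ⊔ P) with hE
    have h1 : Module.finrank F E + Module.finrank F (T₁ ⊔ P : Submodule F (ι → F)) =
        Fintype.card ι := finrank_orthQ hQ (T₁ ⊔ P)
    have h2 := Submodule.finrank_sup_add_finrank_inf_eq T₁ P
    have hET : E ≤ T₁ := by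
      intro y hy
      rw [← maxTS_orth_eq hQ hT₁]
      exact fun t ht => hy t (Submodule.mem_sup_left ht)
    have hEP : E ≤ orthQ hQ P := fun y hy t ht => hy t (Submodule.mem_sup_right ht)
    obtain ⟨c, hcE, hcP⟩ : ∃ c ∈ E, c ∉ T₁ ⊓ P := by
      by_contra hcon
      push Not at hcon
      have := Submodule.finrank_mono (show E ≤ _ from hcon)
      omega
    have hcT₁ := hET hcE
    have hcP' : c ∉ P := fun h => hcP ⟨hcT₁, h⟩
    have hsup : orthQ hQ P = T₂ ⊔ T₂' := by
      symm
      apply Submodule.eq_of_le_of_finrank_eq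
      · refine sup_le ?_ ?_
        · intro t ht p hp
          exact pol_of_totSing hT₂.ts ht (hPT₂ hp)
        · intro t ht p hp
          exact pol_of_totSing hT₂'.ts ht (hPT₂' hp)
      · have h3 := finrank_orthQ hQ P
        have h4 : Module.finrank F (T₂ ⊔ T₂' : Submodule F (ι → F)) + Module.finrank F P =
            Module.finrank F T₂ + Module.finrank F T₂' :=
          Submodule.finrank_sup_add_finrank_inf_eq T₂ T₂'
        omega
    have hcs : c ∈ T₂ ⊔ T₂' := by
      rw [← hsup]
      exact hEP hcE
    obtain ⟨t, ht, t', ht', rfl⟩ := Submodule.mem_sup.1 hcs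
    refine ⟨t + t', hcT₁, hcP', ?_⟩
    have h5 : polar Q t t' = 0 := by
      have h6 := hT₁.ts _ hcT₁
      rw [Q_add (Q := Q), hT₂.ts t ht, hT₂'.ts t' ht'] at h6
      simpa using h6
    by_cases htP : t ∈ P
    · right
      exact T₂'.add_mem (hPT₂' htP) ht'
    · by_cases ht'P : t' ∈ P
      · left
        exact T₂.add_mem ht (hPT₂ ht'P)
      · exact absurd h5 (key1 t ht t' ht' htP ht'P)
  obtain ⟨c, hcT₁, hcP, hc⟩ := hone
  have hstrict : Module.finrank F (T₁ ⊓ P : Submodule F (ι → F)) <
        Module.finrank F (T₁ ⊓ T₂ : Submodule F (ι → F)) ∨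
      Module.finrank F (T₁ ⊓ P : Submodule F (ι → F)) <
        Module.finrank F (T₁ ⊓ T₂' : Submodule F (ι → F)) := by
    rcases hc with hc | hc
    · left
      apply Submodule.finrank_lt_finrank_of_lt
      refine lt_of_le_of_ne (inf_le_inf_left _ hPT₂) ?_
      intro h
      have : c ∈ T₁ ⊓ P := by
        rw [h]
        exact ⟨hcT₁, hc⟩
      exact hcP this.2
    · right
      apply Submodule.finrank_lt_finrank_of_lt
      refine lt_of_le_of_ne (inf_le_inf_left _ hPT₂') ?_
      intro h
      have : c ∈ T₁ ⊓ P := by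
        rw [h]
        exact ⟨hcT₁, hc⟩
      exact hcP this.2
  omega

include hQ in
/-- The parity formula for three maximal totally singular subspaces. -/
theorem parity_add {A C : Submodule F (ι → F)} (hA : MaxTS Q A) (hC : MaxTS Q C) :
    ∀ (d : ℕ) (B : Submodule F (ι → F)), MaxTS Q B →
      Module.finrank F B - Module.finrank F (B ⊓ C : Submodule F (ι → F)) ≤ d →
      Even (Module.finrank F (A ⊓ B : Submodule F (ι → F)) +
        Module.finrank F (B ⊓ C : Submodule F (ι → F)) +
        Module.finrank F (A ⊓ C : Submodule F (ι → F)) + Module.finrank F A) := by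
  classical
  intro d
  induction d with
  | zero =>
    intro B hB hd
    have hle : Module.finrank F B ≤ Module.finrank F (B ⊓ C : Submodule F (ι → F)) := by omega
    have h1 : B ⊓ C = B := Submodule.eq_of_le_of_finrank_le inf_le_left hle
    have h2 : B ⊓ C = C := by
      apply Submodule.eq_of_le_of_finrank_le inf_le_right
      have := hB.dim
      have := hC.dim
      omega
    have hBC : B = C := h1.symm.trans h2
    subst hBC
    have := hB.dim
    have := hA.dim
    rw [inf_idem]
    exact ⟨Module.finrank F (A ⊓ B : Submodule F (ι → F)) + Module.finrank F B, by omega⟩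
  | succ d ih =>
    intro B hB hd
    by_cases hCB : C ≤ B
    · apply ih B hB
      have h1 : B ⊓ C = C := inf_eq_right.2 hCB
      have := hB.dim
      have := hC.dim
      rw [h1]
      omega
    · obtain ⟨x, hxC, hxB⟩ : ∃ x ∈ C, x ∉ B := by
        by_contra hcon
        push Not at hcon
        exact hCB hcon
      have hx : Q x = 0 := hC.ts x hxC
      set B₀ : Submodule F (ι → F) := B ⊓ LinearMap.ker (formL hQ x) with hB₀
      have hB₀B : B₀ ≤ B := inf_le_left
      have hfB₀ : ∀ t ∈ B₀, polar Q t x = 0 := fun t ht => ht.2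
      have hxB₀ : x ∉ B₀ := fun h => hxB h.1
      have hlt : Module.finrank F B₀ < Module.finrank F B := by
        apply Submodule.finrank_lt_finrank_of_lt
        refine lt_of_le_of_ne hB₀B ?_
        intro h
        apply hxB
        rw [← maxTS_orth_eq hQ hB]
        intro t ht
        rw [QuadraticMap.polar_comm]
        rw [← h] at ht
        exact ht.2
      have hge : Module.finrank F B ≤ Module.finrank F B₀ + 1 :=
        finrank_inf_ker_add_one B (formL hQ x)
      set B' : Submodule F (ι → F) := B₀ ⊔ Submodule.span F {x} with hB'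
      have hB'f : Module.finrank F B' = Module.finrank F B₀ + 1 :=
        Submodule.finrank_sup_span_singleton hxB₀
      have hB'M : MaxTS Q B' := by
        refine ⟨totSing_sup hQ (fun t ht => hB.ts t (hB₀B ht)) hx hfB₀, ?_⟩
        have := hB.dim
        omega
      have hxB' : x ∈ B' := Submodule.mem_sup_right (Submodule.mem_span_singleton_self x)
      have hinter : Module.finrank F (B ⊓ B' : Submodule F (ι → F)) + 1 = Module.finrank F B := by
        have h1 : Module.finrank F B₀ ≤ Module.finrank F (B ⊓ B' : Submodule F (ι → F)) :=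
          Submodule.finrank_mono (le_inf hB₀B le_sup_left)
        have h2 : Module.finrank F (B ⊓ B' : Submodule F (ι → F)) < Module.finrank F B' := by
          apply Submodule.finrank_lt_finrank_of_lt
          refine lt_of_le_of_ne inf_le_right ?_
          intro h
          have : x ∈ B ⊓ B' := by
            rw [h]
            exact hxB'
          exact hxB this.1
        omega
      have hadjA := adj_parity hQ hA hB hB'M hinter
      have hadjC := adj_parity hQ hC hB hB'M hinter
      have hmeas : Module.finrank F (B ⊓ C : Submodule F (ι → F)) <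
          Module.finrank F (B' ⊓ C : Submodule F (ι → F)) := by
        apply Submodule.finrank_lt_finrank_of_lt
        refine lt_of_le_of_ne ?_ ?_
        · intro y hy
          refine ⟨Submodule.mem_sup_left ⟨hy.1, ?_⟩, hy.2⟩
          exact pol_of_totSing hC.ts hy.2 hxC
        · intro h
          have : x ∈ B ⊓ C := by
            rw [h]
            exact ⟨hxB', hxC⟩
          exact hxB this.1
      have hih := ih B' hB'M (by omega)
      rw [Nat.even_iff] at hih ⊢
      rw [inf_comm C B, inf_comm C B'] at hadjC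
      omega

include hQ in
theorem parity_add' {A B C : Submodule F (ι → F)} (hA : MaxTS Q A) (hB : MaxTS Q B)
    (hC : MaxTS Q C) :
    Even (Module.finrank F (A ⊓ B : Submodule F (ι → F)) +
        Module.finrank F (B ⊓ C : Submodule F (ι → F)) +
        Module.finrank F (A ⊓ C : Submodule F (ι → F)) + Module.finrank F A) :=
  parity_add hQ hA hC _ B hB le_rfl


end Cfsg.Agent.Lib.QuadFamGen
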