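import Mathlib
import Cfsg.Prelude
import Cfsg.Agent.Lib.Dih2
import Cfsg.Agent.Lib.ConjFamily
import Cfsg.Agent.Lib.StronglyEmbedded
import Cfsg.Agent.Lib.GolayFusionChain

set_option autoImplicit false
set_option linter.all false

namespace Cfsg.Agent.Lib.StrongEmb2

open Cfsg.Agent.Lib.ConjFamily Cfsg.Agent.Lib.Dih2 Cfsg.Agent.Lib.SylowIn

variable {S : Type*} [Group S] [Finite S]

theorem sq_of_order {x : S} (h : orderOf x = 2) : x * x = 1 := by
  rw [← pow_two, ← h]; exact pow_orderOf_eq_one x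

theorem ne_one_of_order {x : S} (h : orderOf x = 2) : x ≠ 1 := by
  rintro rfl
  simp at h

theorem order_of_sq {x : S} (h : x * x = 1) (h1 : x ≠ 1) : orderOf x = 2 :=
  orderOf_eq_prime (by rw [pow_two]; exact h) h1

theorem order_conj (c x : S) : orderOf (c * x * c⁻¹) = orderOf x := by
  have := (MulAut.conj c).orderOf_eq x
  simpa [MulAut.conj_apply] using this

theorem mem_cent {x y : S} (h : x * y = y * x) : x ∈ Subgroup.centralizer ({y} : Set S) := by
  rw [Subgroup.mem_centralizer_singleton_iff]; exact h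

theorem mem_of_not_conj (M : Subgroup S)
    (hC : ∀ i ∈ M, orderOf i = 2 → Subgroup.centralizer ({i} : Set S) ≤ M)
    {i y : S} (hi : i ∈ M) (hi2 : orderOf i = 2) (hy2 : orderOf y = 2) (hn : ¬ IsConj i y) : y ∈ M := by
  have hii := sq_of_order hi2
  have hyy := sq_of_order hy2
  have hnodd : ¬ Odd (orderOf (i * y)) := fun h =>
    hn (Cfsg.Agent.Lib.ThreeInv.conj_of_odd hii hyy h)
  have hev : Even (orderOf (i * y)) := Nat.not_odd_iff_even.mp hnodd
  obtain ⟨w, hww, hw1, hwi, hwy, -⟩ := exists_central_of_even hii hyy hev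
  have hw2 := order_of_sq hww hw1
  have hwM : w ∈ M := hC i hi hi2 (mem_cent hwi)
  exact hC w hwM hw2 (mem_cent hwy.symm)

theorem exists_invol (M : Subgroup S) (hM : Even (Nat.card M)) : ∃ i ∈ M, orderOf i = 2 := by
  have h2 : 2 ∣ Nat.card M := hM.two_dvd
  haveI : Fact (Nat.Prime 2) := ⟨Nat.prime_two⟩
  obtain ⟨x, hx⟩ := exists_prime_orderOf_dvd_card' 2 h2
  exact ⟨x, x.2, by rw [← Subgroup.orderOf_coe] at hx; exact hx⟩

theorem not_mem_core (M : Subgroup S) (hcore : Odd (Nat.card M.normalCore)) {y : S}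
    (hy2 : orderOf y = 2) : y ∉ M.normalCore := by
  intro hy
  have h1 : orderOf (⟨y, hy⟩ : M.normalCore) = 2 := by
    rw [Subgroup.orderOf_mk]; exact hy2
  have h2 : 2 ∣ Nat.card M.normalCore := by
    rw [← h1]; exact orderOf_dvd_natCard _
  obtain ⟨k, hk⟩ := hcore
  omega

theorem all_conj (M : Subgroup S) (hM : Even (Nat.card M))
    (hC : ∀ i ∈ M, orderOf i = 2 → Subgroup.centralizer ({i} : Set S) ≤ M)
    (hcore : Odd (Nat.card M.normalCore)) :
    ∀ x y : S, orderOf x = 2 → orderOf y = 2 → IsConj x y := by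
  obtain ⟨i, hi, hi2⟩ := exists_invol M hM
  have key : ∀ y : S, orderOf y = 2 → IsConj i y := by
    intro y hy2
    by_contra hn
    apply not_mem_core M hcore hy2
    show ∀ g : S, g * y * g⁻¹ ∈ M
    intro g
    apply mem_of_not_conj M hC hi hi2 ((order_conj g y).trans hy2)
    intro h
    apply hn
    exact h.trans (isConj_iff.mpr ⟨g⁻¹, by group⟩)
  intro x y hx hy
  exact (key x hx).symm.trans (key y hy)

theorem cent_of_cj {M : Subgroup S}
    (hC : ∀ i ∈ M, orderOf i = 2 → Subgroup.centralizer ({i} : Set S) ≤ M) (g : S) :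
    ∀ i ∈ cj g M, orderOf i = 2 → Subgroup.centralizer ({i} : Set S) ≤ cj g M := by
  intro i hi hi2 x hx
  rw [mem_cj] at hi ⊢
  have h1 : orderOf (g⁻¹ * i * g) = 2 := by
    have := order_conj g⁻¹ i
    rwa [inv_inv, hi2] at this
  apply hC _ hi h1
  rw [Subgroup.mem_centralizer_singleton_iff] at hx ⊢
  calc g⁻¹ * x * g * (g⁻¹ * i * g) = g⁻¹ * (x * i) * g := by group
    _ = g⁻¹ * (i * x) * g := by rw [hx]
    _ = g⁻¹ * i * g * (g⁻¹ * x * g) := by group

/-- A nontrivial `2`-subgroup normalized by a `2`-group contains an involution central in that group. -/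
theorem exists_central_invol {T Y : Subgroup S} (hY : IsPGroup 2 Y) (hne : T ≠ ⊥) (hTY : T ≤ Y)
    (hn : ∀ s ∈ Y, ∀ t ∈ T, s * t * s⁻¹ ∈ T) :
    ∃ z ∈ T, orderOf z = 2 ∧ ∀ s ∈ Y, s * z = z * s := by
  haveI : Fact (Nat.Prime 2) := ⟨Nat.prime_two⟩
  obtain ⟨t, htT, ht1, hts⟩ := Cfsg.Agent.Lib.GolayFusionChain.exists_central_of_normal hY hne hTY hn
  have hT : IsPGroup 2 T := hY.to_le hTY
  obtain ⟨m, hm⟩ := IsPGroup.iff_orderOf.1 hT ⟨t, htT⟩
  rw [Subgroup.orderOf_mk] at hm
  have hm0 : m ≠ 0 := by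
    rintro rfl
    rw [pow_zero, orderOf_eq_one_iff] at hm
    exact ht1 hm
  obtain ⟨k, rfl⟩ := Nat.exists_eq_succ_of_ne_zero hm0
  refine ⟨t ^ 2 ^ k, T.pow_mem htT _, ?_, ?_⟩
  · have h1 := orderOf_pow_orderOf_div (x := t) (n := 2) (by rw [hm]; positivity)
      ⟨2 ^ k, by rw [hm, pow_succ, mul_comm]⟩
    have h2 : orderOf t / 2 = 2 ^ k := by
      rw [hm, pow_succ]
      exact Nat.mul_div_cancel _ (by norm_num)
    rwa [h2] at h1
  · intro s hs
    exact ((show Commute s t from hts s hs).pow_right _).eq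

theorem sylow_of_inf {K K' T : Subgroup S}
    (hC' : ∀ i ∈ K', orderOf i = 2 → Subgroup.centralizer ({i} : Set S) ≤ K')
    (hT : IsSylowIn 2 T (K ⊓ K')) (hTle : T ≤ K ⊓ K') (hne : T ≠ ⊥) : IsSylowIn 2 T K := by
  haveI : Fact (Nat.Prime 2) := ⟨Nat.prime_two⟩
  have hTp : IsPGroup 2 T := hT.isPGroup hTle
  obtain ⟨U, hTU, hUK, hU⟩ := exists_isSylowIn_ge (hTle.trans inf_le_left) hTp
  by_cases hEq : T = U
  · rw [hEq]; exact hU
  · exfalso
    have hlt : T < U := lt_of_le_of_ne hTU hEq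
    have hUp : IsPGroup 2 U := hU.isPGroup hUK
    obtain ⟨x, hxU, hxT, hxN⟩ := Cfsg.Agent.Lib.StronglyEmbedded.exists_mem_normalizer_of_lt hUp hlt
    set Y : Subgroup S := U ⊓ Subgroup.normalizer (T : Set S) with hY
    have hTN : T ≤ Subgroup.normalizer (T : Set S) := Subgroup.le_normalizer
    have hTY : T ≤ Y := le_inf hTU hTN
    have hYp : IsPGroup 2 Y := hUp.to_le inf_le_left
    obtain ⟨z, hzT, hz2, hzc⟩ := exists_central_invol hYp hne hTY (by
      intro s hs t ht
      exact (Subgroup.mem_normalizer_iff.mp hs.2 t).mp ht)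
    have hYK' : Y ≤ K' := by
      intro s hs
      exact hC' z (hTle hzT).2 hz2 (mem_cent (hzc s hs))
    have hYinf : Y ≤ K ⊓ K' := le_inf ((inf_le_left.trans hUK)) hYK'
    have := isSylowIn_eq_of_le hT hTle hTY hYinf hYp
    apply hxT
    rw [← this]
    exact ⟨hxU, hxN⟩

/-- The key property behind strongly embedded subgroups. -/
theorem strongly (M X : Subgroup S)
    (hC : ∀ i ∈ M, orderOf i = 2 → Subgroup.centralizer ({i} : Set S) ≤ M)
    (hX : IsSylowIn 2 X M) (hXM : X ≤ M) (hN : Subgroup.normalizer (X : Set S) ≤ M)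
    {g t : S} (ht : t ∈ M) (ht' : t ∈ cj g M) (h2 : orderOf t = 2) : g ∈ M := by
  haveI : Fact (Nat.Prime 2) := ⟨Nat.prime_two⟩
  have hC' := cent_of_cj hC g
  have hzp : IsPGroup 2 (Subgroup.zpowers t) := by
    rw [IsPGroup.iff_card, Nat.card_zpowers, h2]
    exact ⟨1, by norm_num⟩
  obtain ⟨T, htT, hTle, hT⟩ := exists_isSylowIn_ge (A := Subgroup.zpowers t) (K := M ⊓ cj g M)
    (by rw [Subgroup.zpowers_le]; exact ⟨ht, ht'⟩) hzp
  have htTm : t ∈ T := htT (Subgroup.mem_zpowers t)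
  have hTne : T ≠ ⊥ := by
    rintro rfl
    exact ne_one_of_order h2 ((Subgroup.mem_bot).mp htTm)
  have hTp : IsPGroup 2 T := hT.isPGroup hTle
  have hT1 : IsSylowIn 2 T M := sylow_of_inf hC' hT hTle hTne
  have hT2 : IsSylowIn 2 T (cj g M) := by
    refine sylow_of_inf (K' := M) hC ?_ (by rw [inf_comm]; exact hTle) hTne
    rw [inf_comm]; exact hT
  have hTM : T ≤ M := hTle.trans inf_le_left
  have hTM' : T ≤ cj g M := hTle.trans inf_le_right
  have hcard : Nat.card T = Nat.card X :=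
    le_antisymm (hX.card_le hXM hTM hTp) (hT1.card_le hTM hXM (hX.isPGroup hXM))
  obtain ⟨y, hyM, hy⟩ := exists_conj_le_of_isSylowIn hX hTM hTp
  have hyE : cj y T = X := Subgroup.eq_of_le_of_card_ge hy (by rw [card_cj, hcard])
  have hT3 : cj g⁻¹ T ≤ M := by
    rw [cj_le_iff, inv_inv]; exact hTM'
  obtain ⟨y', hy'M, hy'⟩ := exists_conj_le_of_isSylowIn hX hT3 (hTp.map _)
  have hy'E : cj y' (cj g⁻¹ T) = X :=
    Subgroup.eq_of_le_of_card_ge hy' (by rw [card_cj, card_cj, hcard])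
  rw [cj_cj] at hy'E
  -- `n = y⁻¹ y' g⁻¹` normalizes `T`
  have hnT : cj (y⁻¹ * (y' * g⁻¹)) T = T := by
    rw [← cj_cj, hy'E, ← hyE, cj_cj, inv_mul_cancel, cj_one]
  have hnN : y⁻¹ * (y' * g⁻¹) ∈ Subgroup.normalizer (T : Set S) := mem_normalizer_of_cj_eq hnT
  have hNT : Subgroup.normalizer (T : Set S) ≤ M := by
    intro n hn
    have h1 : y * n * y⁻¹ ∈ Subgroup.normalizer (X : Set S) := by
      rw [← hyE, normalizer_cj]
      exact cj_mem hn
    have h2 := hN h1
    have h3 : n = y⁻¹ * (y * n * y⁻¹) * y := by group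
    rw [h3]
    exact M.mul_mem (M.mul_mem (M.inv_mem hyM) h2) hyM
  have h4 := hNT hnN
  have h5 : g⁻¹ = y'⁻¹ * y * (y⁻¹ * (y' * g⁻¹)) := by group
  have h6 : g⁻¹ ∈ M := by
    rw [h5]
    exact M.mul_mem (M.mul_mem (M.inv_mem hy'M) hyM) h4
  simpa using M.inv_mem h6

theorem main_two (M X : Subgroup S) (hM : Even (Nat.card M))
    (hC : ∀ i ∈ M, orderOf i = 2 → Subgroup.centralizer ({i} : Set S) ≤ M)
    (hcore : Odd (Nat.card M.normalCore))
    (hX : IsSylowIn 2 X M) (hXM : X ≤ M) (hN : Subgroup.normalizer (X : Set S) ≤ M)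
    {I : S} (hIM : I ∈ M) (hI : orderOf I = 2) :
    (∀ x y : S, x ∈ M → y ∈ M → orderOf x = 2 → orderOf y = 2 → ∃ c ∈ M, c * x * c⁻¹ = y) ∧
    ∃ M₀ : Subgroup S, M₀ ≤ M ∧ Odd (Nat.card M₀) ∧
      ∀ m ∈ M, ∃ a ∈ M₀, ∃ c ∈ M, c * I = I * c ∧ m = a * c := by
  have hSE := @strongly S _ _ M X hC hX hXM hN
  have hall := all_conj M hM hC hcore
  constructor
  · intro x y hx hy hx2 hy2
    obtain ⟨c, hc⟩ := isConj_iff.mp (hall x y hx2 hy2)
    refine ⟨c, ?_, hc⟩
    apply hSE (t := y) hy _ hy2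
    rw [← hc]
    exact cj_mem hx
  · -- an involution outside `M`
    obtain ⟨t, htM, ht2⟩ : ∃ t : S, t ∉ M ∧ orderOf t = 2 := by
      by_contra hno
      push Not at hno
      apply not_mem_core M hcore hI
      show ∀ g : S, g * I * g⁻¹ ∈ M
      intro g
      by_contra hg
      exact hno _ hg ((order_conj g I).trans hI)
    have htt := sq_of_order ht2
    have hti : t⁻¹ = t := inv_eq_of_mul_eq_one_left htt
    refine ⟨M ⊓ cj t M, inf_le_left, ?_, ?_⟩
    · by_contra hodd
      have hev : Even (Nat.card ↥(M ⊓ cj t M)) := Nat.not_odd_iff_even.mp hodd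
      obtain ⟨w, hw, hw2⟩ := exists_invol _ hev
      exact htM (hSE hw.1 hw.2 hw2)
    · intro m hm
      set I' := m * I * m⁻¹ with hI'
      have hI'M : I' ∈ M := M.mul_mem (M.mul_mem hm hIM) (M.inv_mem hm)
      have hI'2 : orderOf I' = 2 := (order_conj m I).trans hI
      set j := t * I' * t with hj
      have hj2 : orderOf j = 2 := by
        have := order_conj t I'
        rwa [hti, hI'2] at this
      have hjM : j ∈ cj t M := by
        have := cj_mem (g := t) hI'M
        rwa [hti] at this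
      have hII := sq_of_order hI
      have hjj := sq_of_order hj2
      have hodd : Odd (orderOf (I * j)) := by
        by_contra hno
        have hev := Nat.not_odd_iff_even.mp hno
        obtain ⟨w, hww, hw1, hwI, hwj, -⟩ := exists_central_of_even hII hjj hev
        have hw2 := order_of_sq hww hw1
        have hw3 : w ∈ M := hC I hIM hI (mem_cent hwI)
        have hw4 : w ∈ cj t M := cent_of_cj hC t j hjM hj2 (mem_cent hwj)
        exact htM (hSE hw3 hw4 hw2)
      obtain ⟨ρ, hρρ, hρ, -, -⟩ := exists_swap_of_odd hII hjj hodd (ne_one_of_order hI)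
      have hρi : ρ⁻¹ = ρ := inv_eq_of_mul_eq_one_left hρρ
      have h1 : ρ * t ∈ M := by
        apply hSE (t := I) hIM _ hI
        rw [mem_cj]
        have : (ρ * t)⁻¹ * I * (ρ * t) = I' := by
          rw [mul_inv_rev, hρi, hti]
          calc t * ρ * I * (ρ * t) = t * (ρ * I * ρ) * t := by group
            _ = t * (t * I' * t) * t := by rw [hρ]
            _ = (t * t) * I' * (t * t) := by group
            _ = I' := by rw [htt]; group
        rw [this]; exact hI'M
      have hkdef : (t * ρ) = (ρ * t)⁻¹ := by rw [mul_inv_rev, hρi, hti]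
      have hkM : t * ρ ∈ M := by rw [hkdef]; exact M.inv_mem h1
      have hkM' : t * ρ ∈ cj t M := by
        rw [mem_cj, hti]
        have : t * (t * ρ) * t = ρ * t := by
          calc t * (t * ρ) * t = (t * t) * ρ * t := by group
            _ = ρ * t := by rw [htt, one_mul]
        rw [this]; exact h1
      have hkI : (t * ρ) * I * (t * ρ)⁻¹ = I' := by
        rw [mul_inv_rev, hρi, hti]
        calc t * ρ * I * (ρ * t) = t * (ρ * I * ρ) * t := by group
          _ = t * (t * I' * t) * t := by rw [hρ]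
          _ = (t * t) * I' * (t * t) := by group
          _ = I' := by rw [htt]; group
      refine ⟨t * ρ, ⟨hkM, hkM'⟩, (t * ρ)⁻¹ * m, M.mul_mem (M.inv_mem hkM) hm, ?_, by group⟩
      have h7 : m * I = I' * m := by rw [hI']; group
      have h8 : (t * ρ)⁻¹ * I' = I * (t * ρ)⁻¹ := by rw [← hkI]; group
      calc (t * ρ)⁻¹ * m * I = (t * ρ)⁻¹ * (m * I) := by group
        _ = (t * ρ)⁻¹ * (I' * m) := by rw [h7]
        _ = ((t * ρ)⁻¹ * I') * m := by group
        _ = (I * (t * ρ)⁻¹) * m := by rw [h8]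
        _ = I * ((t * ρ)⁻¹ * m) := by group

end Cfsg.Agent.Lib.StrongEmb2
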