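import Mathlib
import Cfsg.Prelude
import Cfsg.Agent.Lib.StrongEmb2New
import Cfsg.Agent.Lib.CharIrr
import Cfsg.Agent.Lib.H6ClassSize

set_option autoImplicit false
set_option linter.all false

namespace Cfsg.Agent.Lib.OnePoint

open Cfsg.Agent.Lib.ConjFamily Cfsg.Agent.Lib.Dih2 Cfsg.Agent.Lib.SylowIn Cfsg.Agent.Lib.StrongEmb2

theorem even_card_of_invol {α : Type*} (A : Finset α) (f : α → α) (hmem : ∀ a ∈ A, f a ∈ A)
    (hinv : ∀ a ∈ A, f (f a) = a) (hfix : ∀ a ∈ A, f a ≠ a) : Even A.card := by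
  have h := Finset.sum_involution (s := A) (f := fun _ => (1 : ZMod 2)) (fun a _ => f a)
    (fun _ _ => by decide) (fun a ha _ => hfix a ha) hmem hinv
  rw [Finset.sum_const, nsmul_one] at h
  exact (ZMod.natCast_eq_zero_iff_even).mp h

theorem odd_card_of_invol {α : Type*} [DecidableEq α] (A : Finset α) (f : α → α) (a₀ : α) (ha₀ : a₀ ∈ A)
    (h0 : f a₀ = a₀) (hmem : ∀ a ∈ A, f a ∈ A)
    (hinv : ∀ a ∈ A, f (f a) = a) (hfix : ∀ a ∈ A, a ≠ a₀ → f a ≠ a) : Odd A.card := by
  have h1 : Even (A.erase a₀).card := by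
    apply even_card_of_invol _ f
    · intro a ha
      rw [Finset.mem_erase] at ha ⊢
      refine ⟨?_, hmem a ha.2⟩
      intro h
      apply ha.1
      rw [← hinv a ha.2, h, h0]
    · intro a ha
      exact hinv a (Finset.mem_of_mem_erase ha)
    · intro a ha
      rw [Finset.mem_erase] at ha
      exact hfix a ha.2 ha.1
  have h2 := Finset.card_erase_add_one ha₀
  rw [← h2]
  exact h1.add_one

variable {G : Type*} [Group G] [Finite G]

section
variable {z : G} {H : Subgroup G}

theorem mem_base (h0 : ∀ g : G, z ∈ cj g H ↔ g ∈ H) : z ∈ H := by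
  have := (h0 1).mpr H.one_mem
  rwa [cj_one] at this

theorem mem_of_comm (h0 : ∀ g : G, z ∈ cj g H ↔ g ∈ H) {x : G} (h : x * z = z * x) : x ∈ H := by
  rw [← h0 x, mem_cj]
  have : x⁻¹ * z * x = z := by
    rw [mul_assoc, ← h]; group
  rw [this]
  exact mem_base h0

theorem conj_mem_iff (h0 : ∀ g : G, z ∈ cj g H ↔ g ∈ H) (y x : G) :
    y * z * y⁻¹ ∈ cj x H ↔ y⁻¹ * x ∈ H := by
  rw [← h0 (y⁻¹ * x), mem_cj, mem_cj]
  have : x⁻¹ * (y * z * y⁻¹) * x = (y⁻¹ * x)⁻¹ * z * (y⁻¹ * x) := by group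
  rw [this]

theorem mem_of_cj_eq (h0 : ∀ g : G, z ∈ cj g H ↔ g ∈ H) {g : G} (h : cj g H = H) : g ∈ H := by
  rw [← h0 g, h]
  exact mem_base h0

theorem conj_sq (hz : z * z = 1) {s : G} (hs : IsConj z s) : s * s = 1 := by
  obtain ⟨d, rfl⟩ := isConj_iff.mp hs
  calc d * z * d⁻¹ * (d * z * d⁻¹) = d * (z * z) * d⁻¹ := by group
    _ = 1 := by rw [hz]; group

theorem odd_of_not_mem (hz : z * z = 1) (h0 : ∀ g : G, z ∈ cj g H ↔ g ∈ H)
    (h1 : ∀ t : G, IsConj z t → t ≠ z → t * z = z * t → ∀ g : G, z * t ∈ cj g H ↔ g ∈ H)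
    {s : G} (hs : IsConj z s) (hsH : s ∉ H) : Odd (orderOf (z * s)) := by
  by_contra hno
  have hev := Nat.not_odd_iff_even.mp hno
  have hss := conj_sq hz hs
  obtain ⟨w, hww, hw1, hwz, hws, hc⟩ := exists_central_of_even hz hss hev
  obtain ⟨x, rfl⟩ := isConj_iff.mp hs
  have hzt : IsConj z (z * w) := by
    rcases hc with hc | hc
    · exact hc
    · exact hs.trans hc
  have htne : z * w ≠ z := by
    intro h
    exact hw1 (mul_left_cancel (h.trans (mul_one z).symm))
  have htc : z * w * z = z * (z * w) := by rw [mul_assoc, hwz]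
  have h2 := h1 (z * w) hzt htne htc x
  have h3 : z * (z * w) = w := by rw [← mul_assoc, hz, one_mul]
  rw [h3] at h2
  have hwx : w ∈ cj x H := by
    rw [mem_cj]
    apply mem_of_comm h0
    have h5 : w * (x * z * x⁻¹) = (x * z * x⁻¹) * w := hws
    have h6 : x⁻¹ * w * x * z = x⁻¹ * (w * (x * z * x⁻¹)) * x := by group
    have h7 : z * (x⁻¹ * w * x) = x⁻¹ * ((x * z * x⁻¹) * w) * x := by group
    rw [h6, h7, h5]
  have hxH := h2.mp hwx
  apply hsH
  exact H.mul_mem (H.mul_mem hxH (mem_base h0)) (H.inv_mem hxH)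

theorem odd_class (hz : z * z = 1) (hz1 : z ≠ 1) (hH : H ≠ ⊤) (h0 : ∀ g : G, z ∈ cj g H ↔ g ∈ H)
    (h1 : ∀ t : G, IsConj z t → t ≠ z → t * z = z * t → ∀ g : G, z * t ∈ cj g H ↔ g ∈ H) :
    Odd (Nat.card {x : G // IsConj x z}) := by
  classical
  haveI := Fintype.ofFinite G
  obtain ⟨x, hx⟩ : ∃ x : G, x ∉ H := by
    by_contra hno
    push Not at hno
    exact hH ((Subgroup.eq_top_iff' H).mpr hno)
  have hzH := mem_base h0
  set c := x⁻¹ with hc
  set s₀ := c * z * c⁻¹ with hs₀
  have hcH : c ∉ H := fun h => hx (by simpa [hc] using H.inv_mem h)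
  have hs₀H : s₀ ∉ H := by
    intro h
    have : (z : G) ∈ cj x H := by
      rw [mem_cj]
      have h2 : x⁻¹ * z * x = s₀ := by rw [hs₀, hc]; group
      rw [h2]; exact h
    exact hx ((h0 x).mp this)
  have hs₀c : IsConj z s₀ := isConj_iff.mpr ⟨c, rfl⟩
  have hs₀s := conj_sq hz hs₀c
  have hs₀i : s₀⁻¹ = s₀ := inv_eq_of_mul_eq_one_left hs₀s
  set H' := cj s₀ H with hH'
  have hzH' : z ∉ H' := fun h => hs₀H ((h0 s₀).mp h)
  have hinvol : ∀ s : G, s * s = 1 → s⁻¹ = s := fun s h => inv_eq_of_mul_eq_one_left h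
  set AT := Finset.univ.filter (fun s : G => IsConj z s ∧ cj s H = H') with hAT
  set A1 := Finset.univ.filter (fun s : G => IsConj z s ∧ s ∈ H') with hA1
  set A2 := Finset.univ.filter (fun s : G => IsConj z s ∧ s ∈ H) with hA2
  set A3 := Finset.univ.filter (fun s : G => IsConj z s ∧ s ∉ H) with hA3
  have hnotH : ∀ s : G, cj s H = H' → s ∉ H := by
    intro s hs hsH
    apply hzH'
    rw [← hs, cj_eq_self_of_mem hsH]
    exact hzH
  -- step 1
  have step1 : Odd AT.card := by
    apply odd_card_of_invol AT (fun s => s₀ * s * s₀) s₀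
    · simp only [hAT, Finset.mem_filter, Finset.mem_univ, true_and]
      exact ⟨hs₀c, rfl⟩
    · show s₀ * s₀ * s₀ = s₀
      rw [hs₀s, one_mul]
    · intro s hs
      simp only [hAT, Finset.mem_filter, Finset.mem_univ, true_and] at hs ⊢
      obtain ⟨hs1, hs2⟩ := hs
      have hss := conj_sq hz hs1
      constructor
      · exact hs1.trans (isConj_iff.mpr ⟨s₀, by rw [hs₀i]⟩)
      · have : cj (s₀ * s * s₀) H = cj s₀ (cj s (cj s₀ H)) := by
          rw [cj_cj, cj_cj, mul_assoc]
        have e1 : cj s H' = H := by rw [← hs2, cj_cj, hss, cj_one]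
        rw [this, ← hH', e1]
    · intro s hs
      show s₀ * (s₀ * s * s₀) * s₀ = s
      calc s₀ * (s₀ * s * s₀) * s₀ = (s₀ * s₀) * s * (s₀ * s₀) := by group
        _ = s := by rw [hs₀s]; group
    · intro s hs hne hfix
      simp only [hAT, Finset.mem_filter, Finset.mem_univ, true_and] at hs
      obtain ⟨hs1, hs2⟩ := hs
      have hss := conj_sq hz hs1
      have hcomm : s₀ * s = s * s₀ := by
        have h3 : s₀ * (s₀ * s * s₀) = s₀ * s := by rw [hfix]
        calc s₀ * s = s₀ * (s₀ * s * s₀) := h3.symm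
          _ = (s₀ * s₀) * (s * s₀) := by group
          _ = s * s₀ := by rw [hs₀s, one_mul]
      -- `t = c⁻¹ s c`
      set t := c⁻¹ * s * c with ht
      have htc : IsConj z t := hs1.trans (isConj_iff.mpr ⟨c⁻¹, by rw [ht]; group⟩)
      have htne : t ≠ z := by
        intro h
        apply hne
        have : s = c * t * c⁻¹ := by rw [ht]; group
        rw [this, h]
      have hzs₀ : z = c⁻¹ * s₀ * c := by rw [hs₀]; group
      have htz : t * z = z * t := by
        rw [ht, hzs₀]
        calc c⁻¹ * s * c * (c⁻¹ * s₀ * c) = c⁻¹ * (s * s₀) * c := by group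
          _ = c⁻¹ * (s₀ * s) * c := by rw [hcomm]
          _ = c⁻¹ * s₀ * c * (c⁻¹ * s * c) := by group
      have h5 := h1 t htc htne htz c⁻¹
      have h6 : s₀ * s ∈ H := by
        apply mem_of_cj_eq h0
        rw [← cj_cj, hs2, hH', cj_cj, hs₀s, cj_one]
      have h7 : z * t ∈ cj c⁻¹ H := by
        rw [mem_cj, inv_inv]
        have : c * (z * t) * c⁻¹ = s₀ * s := by
          rw [ht, hs₀]; group
        rw [this]; exact h6
      have h8 := h5.mp h7
      exact hcH (by simpa using H.inv_mem h8)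
  -- step 2
  have step2 : AT.card = A1.card := by
    apply Finset.card_bij (fun s _ => s * z * s)
    · intro s hs
      simp only [hAT, hA1, Finset.mem_filter, Finset.mem_univ, true_and] at hs ⊢
      obtain ⟨hs1, hs2⟩ := hs
      have hsi := hinvol s (conj_sq hz hs1)
      constructor
      · exact isConj_iff.mpr ⟨s, by rw [hsi]⟩
      · rw [← hs2]
        have := cj_mem (g := s) hzH
        rwa [hsi] at this
    · intro s₁ hs₁ s₂ hs₂ he
      simp only [hAT, Finset.mem_filter, Finset.mem_univ, true_and] at hs₁ hs₂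
      exact swap_unique hz (conj_sq hz hs₁.1) (conj_sq hz hs₂.1) he rfl
        (odd_of_not_mem hz h0 h1 hs₁.1 (hnotH _ hs₁.2)) (odd_of_not_mem hz h0 h1 hs₂.1 (hnotH _ hs₂.2))
    · intro y hy
      simp only [hA1, Finset.mem_filter, Finset.mem_univ, true_and] at hy
      obtain ⟨hy1, hy2⟩ := hy
      have hyy := conj_sq hz hy1
      have hyH : y ∉ H := by
        intro h
        obtain ⟨d, rfl⟩ := isConj_iff.mp hy1
        have h3 : d * z * d⁻¹ ∈ cj 1 H := by rwa [cj_one]
        rw [conj_mem_iff h0] at h3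
        rw [hH', conj_mem_iff h0] at hy2
        apply hs₀H
        have h4 : d⁻¹ * 1 = d⁻¹ := mul_one _
        rw [h4] at h3
        have h5 : s₀ = d * (d⁻¹ * s₀) := by group
        rw [h5]
        exact H.mul_mem (by simpa using H.inv_mem h3) hy2
      obtain ⟨ρ, hρρ, hρ, hρc, -⟩ := exists_swap_of_odd hz hyy (odd_of_not_mem hz h0 h1 hy1 hyH) hz1
      have hρi := hinvol ρ hρρ
      refine ⟨ρ, ?_, hρ⟩
      simp only [hAT, Finset.mem_filter, Finset.mem_univ, true_and]
      refine ⟨hρc, ?_⟩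
      have h3 : ρ * z * ρ⁻¹ ∈ cj s₀ H := by
        rw [hρi, hρ]; exact hy2
      rw [conj_mem_iff h0] at h3
      rw [hH']
      have h4 : s₀ = ρ * (ρ⁻¹ * s₀) := by group
      conv_rhs => rw [h4]
      rw [← cj_cj, cj_eq_self_of_mem h3]
  -- step 3
  have step3 : A1.card = A2.card := by
    apply Finset.card_bij (fun y _ => s₀ * y * s₀)
    · intro y hy
      simp only [hA1, hA2, Finset.mem_filter, Finset.mem_univ, true_and] at hy ⊢
      refine ⟨hy.1.trans (isConj_iff.mpr ⟨s₀, by rw [hs₀i]⟩), ?_⟩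
      have := hy.2
      rw [hH', mem_cj, hs₀i] at this
      exact this
    · intro a _ b _ he
      exact mul_left_cancel (mul_right_cancel he)
    · intro y hy
      simp only [hA2, Finset.mem_filter, Finset.mem_univ, true_and] at hy
      refine ⟨s₀ * y * s₀, ?_, ?_⟩
      · simp only [hA1, Finset.mem_filter, Finset.mem_univ, true_and]
        refine ⟨hy.1.trans (isConj_iff.mpr ⟨s₀, by rw [hs₀i]⟩), ?_⟩
        rw [hH', mem_cj, hs₀i]
        have : s₀ * (s₀ * y * s₀) * s₀ = y := by
          calc s₀ * (s₀ * y * s₀) * s₀ = (s₀ * s₀) * y * (s₀ * s₀) := by group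
            _ = y := by rw [hs₀s]; group
        rw [this]; exact hy.2
      · calc s₀ * (s₀ * y * s₀) * s₀ = (s₀ * s₀) * y * (s₀ * s₀) := by group
          _ = y := by rw [hs₀s]; group
  -- step 4
  have hzi : z⁻¹ = z := hinvol z hz
  have step4 : Even A3.card := by
    apply even_card_of_invol A3 (fun y => z * y * z)
    · intro y hy
      simp only [hA3, Finset.mem_filter, Finset.mem_univ, true_and] at hy ⊢
      refine ⟨hy.1.trans (isConj_iff.mpr ⟨z, by rw [hzi]⟩), ?_⟩
      intro h
      apply hy.2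
      have h5 : y = z * (z * y * z) * z := by
        calc y = (z * z) * y * (z * z) := by rw [hz]; group
          _ = z * (z * y * z) * z := by group
      rw [h5]
      exact H.mul_mem (H.mul_mem hzH h) hzH
    · intro y _
      show z * (z * y * z) * z = y
      calc z * (z * y * z) * z = (z * z) * y * (z * z) := by group
        _ = y := by rw [hz]; group
    · intro y hy hfix
      simp only [hA3, Finset.mem_filter, Finset.mem_univ, true_and] at hy
      apply hy.2
      apply mem_of_comm h0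
      have h3 : z * y * z = y := hfix
      calc y * z = (z * y * z) * z := by rw [h3]
        _ = z * y * (z * z) := by group
        _ = z * y := by rw [hz, mul_one]
  have hpart : Nat.card {x : G // IsConj x z} = A2.card + A3.card := by
    rw [Nat.card_eq_fintype_card, Fintype.card_subtype, hA2, hA3]
    rw [← Finset.card_union_of_disjoint]
    · congr 1
      ext y
      simp only [Finset.mem_filter, Finset.mem_univ, true_and, Finset.mem_union]
      have : IsConj y z ↔ IsConj z y := ⟨fun h => h.symm, fun h => h.symm⟩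
      rw [this]
      tauto
    · rw [Finset.disjoint_left]
      intro y hy hy'
      simp only [Finset.mem_filter, Finset.mem_univ, true_and] at hy hy'
      exact hy'.2 hy.2
  rw [hpart, ← step3, ← step2]
  exact step1.add_even step4

theorem one_to_two (hz2 : orderOf z = 2) (hH : H ≠ ⊤) (h0 : ∀ g : G, z ∈ cj g H ↔ g ∈ H)
    (h1 : ∀ t : G, IsConj z t → t ≠ z → t * z = z * t → ∀ g : G, z * t ∈ cj g H ↔ g ∈ H) :
    ∃ P : Sylow 2 G, z ∈ (Subgroup.center ↥(P : Subgroup G)).map (P : Subgroup G).subtype := by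
  haveI : Fact (Nat.Prime 2) := ⟨Nat.prime_two⟩
  haveI := Fintype.ofFinite G
  have hz := sq_of_order hz2
  have hodd := odd_class hz (ne_one_of_order hz2) hH h0 h1
  have h3 := Cfsg.Agent.Lib.CharIrr.card_class_mul_card_centralizer z
  have h4 := Subgroup.card_mul_index (Subgroup.centralizer ({z} : Set G))
  have hidx : (Subgroup.centralizer ({z} : Set G)).index = Nat.card {x : G // IsConj x z} := by
    have hpos : 0 < Nat.card (Subgroup.centralizer ({z} : Set G)) := Nat.card_pos
    apply Nat.eq_of_mul_eq_mul_left hpos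
    rw [h4, mul_comm, h3]
  obtain ⟨P₁⟩ : Nonempty (Sylow 2 G) := inferInstance
  obtain ⟨g, hg⟩ := Cfsg.Agent.Lib.H6ClassSize.exists_conj_sylow_le P₁ (Subgroup.centralizer ({z} : Set G)) (by
    rw [hidx]
    exact hodd.not_two_dvd_nat)
  set P := g • P₁ with hP
  have hzP : z ∈ (P : Subgroup G) := by
    have hzp : IsPGroup 2 (Subgroup.zpowers z) := by
      rw [IsPGroup.iff_card, Nat.card_zpowers, hz2]
      exact ⟨1, by norm_num⟩
    have hnorm : ((P : Subgroup G)) ≤ Subgroup.normalizer (Subgroup.zpowers z : Set G) := by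
      intro y hy
      rw [Subgroup.mem_normalizer_iff]
      intro w
      have hyc : y * z = z * y := by
        have := hg hy
        rwa [Subgroup.mem_centralizer_singleton_iff] at this
      constructor
      · rintro ⟨k, rfl⟩
        refine ⟨k, ?_⟩
        show z ^ k = y * z ^ k * y⁻¹
        have : Commute y (z ^ k) := (show Commute y z from hyc).zpow_right k
        rw [this.eq]; group
      · rintro ⟨k, hk⟩
        refine ⟨k, ?_⟩
        have h5 : y * w * y⁻¹ = z ^ k := hk.symm
        have : Commute y (z ^ k) := (show Commute y z from hyc).zpow_right k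
        show z ^ k = w
        have h6 : y * w * y⁻¹ = y * z ^ k * y⁻¹ := by rw [h5, this.eq]; group
        exact (mul_left_cancel (mul_right_cancel h6)).symm
    have hsup := IsPGroup.to_sup_of_normal_right' P.isPGroup' hzp hnorm
    have hmax := P.is_maximal' hsup le_sup_left
    rw [← hmax]
    exact (le_sup_right : Subgroup.zpowers z ≤ _) (Subgroup.mem_zpowers z)
  refine ⟨P, ⟨⟨z, hzP⟩, ?_, rfl⟩⟩
  rw [SetLike.mem_coe, Subgroup.mem_center_iff]
  intro y
  apply Subtype.ext
  have := hg y.2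
  rw [Subgroup.mem_centralizer_singleton_iff] at this
  exact this

theorem two_to_one (hz2 : orderOf z = 2) (h0 : ∀ g : G, z ∈ cj g H ↔ g ∈ H)
    (P : Sylow 2 G) (hP : z ∈ (Subgroup.center ↥(P : Subgroup G)).map (P : Subgroup G).subtype)
    (h2 : ∀ t : G, IsConj z t → t ≠ z → t * z = z * t → Subgroup.centralizer ({z * t} : Set G) ≤ H) :
    ∀ t : G, IsConj z t → t ≠ z → t * z = z * t → ∀ g : G, z * t ∈ cj g H ↔ g ∈ H := by
  haveI : Fact (Nat.Prime 2) := ⟨Nat.prime_two⟩
  have hz := sq_of_order hz2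
  obtain ⟨⟨z', hz'P⟩, hz'c, hz'e⟩ := hP
  simp only [Subgroup.coe_subtype] at hz'e
  subst hz'e
  rw [SetLike.mem_coe, Subgroup.mem_center_iff] at hz'c
  have hcen : ∀ y ∈ (P : Subgroup G), y * z' = z' * y := by
    intro y hy
    have := hz'c ⟨y, hy⟩
    exact congrArg Subtype.val this
  have hPH : (P : Subgroup G) ≤ H := fun y hy => mem_of_comm h0 (hcen y hy)
  have hPsyl : IsSylowIn 2 (P : Subgroup G) H := by
    refine isSylowIn_of_card hPH P.isPGroup' ?_
    intro T _ hT
    obtain ⟨g, hg⟩ := exists_conj_le_sylow P hT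
    have h5 := Subgroup.card_le_of_le hg
    rwa [card_map_conj] at h5
  intro t htc htne htz g
  have htH : t ∈ H := mem_of_comm h0 htz
  have hzH := mem_base h0
  constructor
  · intro hu
    rw [mem_cj] at hu
    set u := z' * t with hudef
    have huu : u * u = 1 := by
      calc u * u = z' * (t * z') * t := by rw [hudef]; group
        _ = z' * (z' * t) * t := by rw [htz]
        _ = (z' * z') * (t * t) := by group
        _ = 1 := by rw [hz, conj_sq hz htc, one_mul]
    have hv : g⁻¹ * u * g ∈ H := hu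
    have hvv : (g⁻¹ * u * g) * (g⁻¹ * u * g) = 1 := by
      calc (g⁻¹ * u * g) * (g⁻¹ * u * g) = g⁻¹ * (u * u) * g := by group
        _ = 1 := by rw [huu]; group
    have hzp : IsPGroup 2 (Subgroup.zpowers (g⁻¹ * u * g)) := by
      rw [IsPGroup.iff_card, Nat.card_zpowers]
      have h9 : orderOf (g⁻¹ * u * g) ∣ 2 := orderOf_dvd_of_pow_eq_one (by rw [pow_two]; exact hvv)
      obtain ⟨k, hk⟩ := (Nat.dvd_prime_pow Nat.prime_two).mp (by simpa using h9 : orderOf (g⁻¹ * u * g) ∣ 2 ^ 1)
      exact ⟨k, hk.2⟩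
    obtain ⟨h, hhH, hh⟩ := exists_conj_le_of_isSylowIn hPsyl
      (by rw [Subgroup.zpowers_le]; exact hv) hzp
    have h5 : h * (g⁻¹ * u * g) * h⁻¹ ∈ (P : Subgroup G) :=
      hh (cj_mem (Subgroup.mem_zpowers _))
    set y := g * h⁻¹ with hy
    have h6 : y⁻¹ * u * y ∈ (P : Subgroup G) := by
      have : y⁻¹ * u * y = h * (g⁻¹ * u * g) * h⁻¹ := by rw [hy]; group
      rw [this]; exact h5
    have h7 := hcen _ h6
    have h8 : (y * z' * y⁻¹) * u = u * (y * z' * y⁻¹) := by
      have e1 : (y * z' * y⁻¹) * u = y * (z' * (y⁻¹ * u * y)) * y⁻¹ := by group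
      have e2 : u * (y * z' * y⁻¹) = y * ((y⁻¹ * u * y) * z') * y⁻¹ := by group
      rw [e1, e2, h7]
    have h9 : y * z' * y⁻¹ ∈ H := h2 t htc htne htz (mem_cent h8)
    have h10 : y * z' * y⁻¹ ∈ cj 1 H := by rwa [cj_one]
    rw [conj_mem_iff h0, mul_one] at h10
    have hyH : y ∈ H := by simpa using H.inv_mem h10
    have : g = y * h := by rw [hy]; group
    rw [this]
    exact H.mul_mem hyH hhH
  · intro hg
    rw [cj_eq_self_of_mem hg]
    exact H.mul_mem hzH htH

theorem cent_le_of_one (h0 : ∀ g : G, z ∈ cj g H ↔ g ∈ H)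
    {t : G} (h : ∀ g : G, z * t ∈ cj g H ↔ g ∈ H) :
    Subgroup.centralizer ({z * t} : Set G) ≤ H := by
  intro x hx
  rw [Subgroup.mem_centralizer_singleton_iff] at hx
  rw [← h x, mem_cj]
  have : x⁻¹ * (z * t) * x = z * t := by
    rw [mul_assoc, ← hx]; group
  rw [this]
  have := (h 1).mpr H.one_mem
  rwa [cj_one] at this

end

end Cfsg.Agent.Lib.OnePoint
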