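import Cfsg.Agent.Lib.Dihedral
import Cfsg.Agent.Lib.SylowCount

/-!
Nonabelian groups of order eight.
-/

set_option autoImplicit false
set_option linter.all false

namespace Cfsg.Agent.Lib.Order8

open Subgroup

variable {T : Type*} [Group T] [Finite T]

/-- A group all of whose squares are trivial is commutative. -/
theorem comm_of_sq_eq_one (h : ∀ x : T, x ^ 2 = 1) (a b : T) : a * b = b * a := by
  have h1 : ∀ x : T, x⁻¹ = x := fun x => by
    apply inv_eq_of_mul_eq_one_left
    rw [← pow_two]; exact h x
  calc a * b = (a * b)⁻¹ := (h1 _).symm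
    _ = b⁻¹ * a⁻¹ := by group
    _ = b * a := by rw [h1, h1]

/-- Existence of an element of order four. -/
theorem exists_order_four (hT : Nat.card T = 8) (hn : ¬ ∀ a b : T, a * b = b * a) :
    ∃ a : T, orderOf a = 4 := by
  by_contra hcon
  push Not at hcon
  apply hn
  apply comm_of_sq_eq_one
  intro x
  have h5 : orderOf x ∣ 8 := by rw [← hT]; exact orderOf_dvd_natCard x
  have h6 : orderOf x ≠ 8 := by
    intro h7
    apply hn
    haveI : IsCyclic T := isCyclic_of_orderOf_eq_card x (by rw [h7, hT])
    exact (IsCyclic.commutative : IsMulCommutative T).is_comm.comm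
  have h7 : orderOf x ∣ 2 := by
    have hle := Nat.le_of_dvd (by norm_num) h5
    have h8 := hcon x
    generalize orderOf x = m at *
    interval_cases m <;> first | omega | decide
  exact orderOf_dvd_iff_pow_eq_one.1 h7

/-- The elements of the cyclic subgroup generated by an element of order four. -/
theorem mem_zpowers_four {a x : T} (ha : orderOf a = 4) (hx : x ∈ zpowers a) :
    x = 1 ∨ x = a ∨ x = a ^ 2 ∨ x = a⁻¹ := by
  obtain ⟨k, hk⟩ := hx
  simp only at hk
  have ha4 : a ^ (4 : ℤ) = 1 := by
    have := pow_orderOf_eq_one a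
    rw [ha] at this
    exact_mod_cast this
  have hk2 : x = a ^ (k % 4) := by
    rw [← hk]
    conv_lhs => rw [← Int.emod_add_mul_ediv k 4]
    rw [zpow_add, zpow_mul, ha4, one_zpow, mul_one]
  have hcases : k % 4 = 0 ∨ k % 4 = 1 ∨ k % 4 = 2 ∨ k % 4 = 3 := by omega
  rcases hcases with h | h | h | h <;> rw [h] at hk2
  · left; simpa using hk2
  · right; left; simpa using hk2
  · right; right; left; rw [hk2]; norm_cast
  · right; right; right
    rw [hk2]
    have h3 : a ^ (3 : ℤ) * a = 1 := by
      rw [← zpow_add_one]; exact ha4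
    exact eq_inv_of_mul_eq_one_left h3

theorem sq_ne_one_of_four {a : T} (ha : orderOf a = 4) : a ^ 2 ≠ 1 := by
  intro h
  have := orderOf_dvd_of_pow_eq_one h
  rw [ha] at this
  omega

theorem ne_one_of_four {a : T} (ha : orderOf a = 4) : a ≠ 1 := by
  rintro rfl
  rw [orderOf_one] at ha
  omega

theorem inv_ne_of_four {a : T} (ha : orderOf a = 4) : a⁻¹ ≠ a := by
  intro h
  apply sq_ne_one_of_four ha
  rw [pow_two]
  nth_rewrite 1 [← h]
  exact inv_mul_cancel a

theorem index_zpowers_four (hT : Nat.card T = 8) {a : T} (ha : orderOf a = 4) : (zpowers a).index = 2 := by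
  have := (zpowers a).card_mul_index
  rw [Nat.card_zpowers, ha, hT] at this
  omega

/-- Conjugates of an element of order four. -/
theorem conj_eq (hT : Nat.card T = 8) {a : T} (ha : orderOf a = 4) (y : T) :
    y * a * y⁻¹ = a ∨ y * a * y⁻¹ = a⁻¹ := by
  haveI : (zpowers a).Normal := Subgroup.normal_of_index_eq_two (index_zpowers_four hT ha)
  have h1 : y * a * y⁻¹ ∈ zpowers a := (inferInstance : (zpowers a).Normal).conj_mem a (mem_zpowers a) y
  have hord : orderOf (y * a * y⁻¹) = 4 := by
    rw [← ha]
    exact (Cfsg.Agent.Lib.SylowCount.orderOf_eq_of_isConj (isConj_iff.2 ⟨y, rfl⟩)).symm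
  rcases mem_zpowers_four ha h1 with h | h | h | h
  · rw [h, orderOf_one] at hord; omega
  · exact Or.inl h
  · exfalso
    rw [h] at hord
    have := orderOf_dvd_of_pow_eq_one (show (a ^ 2) ^ 2 = 1 by
      rw [← pow_mul]; norm_num; rw [← ha]; exact pow_orderOf_eq_one a)
    rw [hord] at this
    omega
  · exact Or.inr h

/-- The square of an element of order four is central in a group of order eight. -/
theorem sq_central (hT : Nat.card T = 8) {a : T} (ha : orderOf a = 4) (y : T) : y * a ^ 2 = a ^ 2 * y := by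
  have h4 : a ^ 4 = 1 := by rw [← ha]; exact pow_orderOf_eq_one a
  rcases conj_eq hT ha y with h | h
  · have h2 : y * a = a * y := by
      calc y * a = (y * a * y⁻¹) * y := by group
        _ = a * y := by rw [h]
    calc y * a ^ 2 = y * a * a := by rw [pow_two, mul_assoc]
      _ = a * y * a := by rw [h2]
      _ = a * (y * a) := by rw [mul_assoc]
      _ = a * (a * y) := by rw [h2]
      _ = a ^ 2 * y := by rw [pow_two, mul_assoc]
  · have h2 : y * a = a⁻¹ * y := by
      calc y * a = (y * a * y⁻¹) * y := by group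
        _ = a⁻¹ * y := by rw [h]
    have h3 : a⁻¹ * a⁻¹ = a * a := by
      have : a * a * (a * a) = 1 := by
        rw [← h4, pow_succ, pow_succ, pow_two]; group
      calc a⁻¹ * a⁻¹ = a⁻¹ * a⁻¹ * 1 := by group
        _ = a⁻¹ * a⁻¹ * (a * a * (a * a)) := by rw [this]
        _ = a * a := by simp [mul_assoc]
    calc y * a ^ 2 = y * a * a := by rw [pow_two, mul_assoc]
      _ = a⁻¹ * y * a := by rw [h2]
      _ = a⁻¹ * (y * a) := by rw [mul_assoc]
      _ = a⁻¹ * (a⁻¹ * y) := by rw [h2]
      _ = (a⁻¹ * a⁻¹) * y := by rw [mul_assoc]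
      _ = a ^ 2 * y := by rw [h3, ← pow_two]

/-- Group elements are in the cyclic subgroup or in its other coset. -/
theorem mem_or_mul_mem (hT : Nat.card T = 8) {a s : T} (ha : orderOf a = 4) (hs : s ∉ zpowers a) (y : T) :
    y ∈ zpowers a ∨ s * y ∈ zpowers a := by
  have h := index_zpowers_four hT ha
  by_cases hy : y ∈ zpowers a
  · exact Or.inl hy
  · right
    rw [Subgroup.mul_mem_iff_of_index_two h]
    exact ⟨fun h1 => absurd h1 hs, fun h1 => absurd h1 hy⟩

/-- If an element outside `⟨a⟩` centralizes `a` then the group is abelian. -/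
theorem comm_of_commute (hT : Nat.card T = 8) {a s : T} (ha : orderOf a = 4) (hs : s ∉ zpowers a)
    (hc : s * a = a * s) (x y : T) : x * y = y * x := by
  -- every element has the form a^i or s⁻¹ a^i
  have hform : ∀ y : T, ∃ k : ℤ, y = a ^ k ∨ y = s⁻¹ * a ^ k := by
    intro y
    rcases mem_or_mul_mem hT ha hs y with h | h
    · obtain ⟨k, hk⟩ := h
      exact ⟨k, Or.inl hk.symm⟩
    · obtain ⟨k, hk⟩ := h
      refine ⟨k, Or.inr ?_⟩
      have hk2 : a ^ k = s * y := hk
      rw [hk2]; group
  have hc2 : Commute s⁻¹ a := ((show Commute s a from hc).inv_left)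
  obtain ⟨k, hk⟩ := hform x
  obtain ⟨l, hl⟩ := hform y
  have hca : ∀ k l : ℤ, Commute (a ^ k) (a ^ l) := fun k l => (Commute.refl a).zpow_zpow k l
  have hcs : ∀ k : ℤ, Commute s⁻¹ (a ^ k) := fun k => hc2.zpow_right k
  rcases hk with rfl | rfl <;> rcases hl with rfl | rfl
  · exact (hca k l).eq
  · exact ((hcs k).symm.mul_right (hca k l)).eq
  · exact ((hcs l).mul_left (hca k l)).eq
  · exact (((Commute.refl s⁻¹).mul_right (hcs l)).mul_left ((hcs k).symm.mul_right (hca k l))).eq

/-- Centralizer of an element of order four in a nonabelian group of order eight. -/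
theorem mem_zpowers_of_commute (hT : Nat.card T = 8) (hn : ¬ ∀ a b : T, a * b = b * a) {a y : T}
    (ha : orderOf a = 4) (hc : y * a = a * y) : y ∈ zpowers a := by
  by_contra hy
  exact hn (comm_of_commute hT ha hy hc)

/-- Recognition of the dihedral group of order eight. -/
theorem nonempty_mulEquiv_dihedral_four (hT : Nat.card T = 8) (hn : ¬ ∀ a b : T, a * b = b * a)
    {a s : T} (ha : orderOf a = 4) (hs : s ^ 2 = 1) (hsn : s ∉ zpowers a) :
    Nonempty (T ≃* DihedralGroup 4) := by
  have h1 : s * a * s⁻¹ = a⁻¹ := by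
    rcases conj_eq hT ha s with h | h
    · exfalso
      apply hn
      refine comm_of_commute hT ha hsn ?_
      calc s * a = (s * a * s⁻¹) * s := by group
        _ = a * s := by rw [h]
    · exact h
  exact Cfsg.Agent.Lib.Dihedral.nonempty_mulEquiv_dihedral 4 a s ha hs h1 hsn (by rw [hT])

end Cfsg.Agent.Lib.Order8
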