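import Mathlib
import Cfsg.Agent.Lib.FitCore
import Cfsg.Agent.Lib.PComps
import Cfsg.Prelude.Def_Local

/-!
# The upper `p`-series and `p`-length at most `1`
-/

set_option autoImplicit false
set_option linter.all false

namespace Cfsg.Agent.Lib.PLength

open Cfsg

variable {G : Type*} [Group G] [Finite G] {p : ℕ} [hp : Fact p.Prime]

omit [Finite G] hp in
theorem pPrimePCore_normal : (pPrimePCore p G).Normal := by
  rw [pPrimePCore]
  exact Subgroup.Normal.comap (Cfsg.Agent.Lib.FitCore.pCore_normal p) _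

omit [Finite G] hp in
theorem comap_pCore_congr {A B : Subgroup G} (h : A = B) [A.Normal] [B.Normal] :
    (pCore p (G ⧸ A)).comap (QuotientGroup.mk' A) = (pCore p (G ⧸ B)).comap (QuotientGroup.mk' B) := by
  subst h
  rfl

omit [Finite G] hp in
theorem comap_pPrimeCore_congr {A B : Subgroup G} (h : A = B) [A.Normal] [B.Normal] :
    (pPrimeCore p (G ⧸ A)).comap (QuotientGroup.mk' A) = (pPrimeCore p (G ⧸ B)).comap (QuotientGroup.mk' B) := by
  subst h
  rfl

theorem upper_one : (upperPSeries p G 1).1 = pPrimeCore p G := by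
  have h0 : (upperPSeries p G 1).1 = (pPrimeCore p (G ⧸ (⊥ : Subgroup G))).comap (QuotientGroup.mk' ⊥) := by
    simp [upperPSeries]
    rfl
  rw [h0]
  have h1 := Cfsg.Agent.Lib.PComps.pPrimeCore_map_equiv (p := p) (QuotientGroup.quotientBot (G := G)).symm
  rw [← h1]
  ext x
  simp only [Subgroup.mem_comap, Subgroup.mem_map]
  constructor
  · rintro ⟨y, hy, e⟩
    have : y = x := by
      have e2 : (QuotientGroup.mk y : G ⧸ (⊥ : Subgroup G)) = QuotientGroup.mk x := e
      have e3 := QuotientGroup.eq.1 e2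
      rw [Subgroup.mem_bot] at e3
      exact inv_mul_eq_one.1 e3
    rwa [← this]
  · intro hx
    exact ⟨x, hx, by simp⟩

theorem upper_two : (upperPSeries p G 2).1 = pPrimePCore p G := by
  have h0 : (upperPSeries p G 2).1 = (pCore p (G ⧸ (upperPSeries p G 1).1)).comap (QuotientGroup.mk' _) := by
    conv_lhs => unfold upperPSeries
    simp
  rw [h0, pPrimePCore]
  exact comap_pCore_congr upper_one

theorem index_coprime (h : PLengthLE p 1 G) : ((pPrimePCore p G).index).Coprime p := by
  haveI : (pPrimePCore p G).Normal := pPrimePCore_normal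
  have h0 : (upperPSeries p G 3).1 = (pPrimeCore p (G ⧸ (upperPSeries p G 2).1)).comap (QuotientGroup.mk' _) := by
    conv_lhs => unfold upperPSeries
    simp [show Even 2 from ⟨1, rfl⟩]
  have h1 : (upperPSeries p G 3).1 = ⊤ := h
  rw [h0, comap_pPrimeCore_congr upper_two] at h1
  have h2 : pPrimeCore p (G ⧸ pPrimePCore p G) = ⊤ := by
    rw [eq_top_iff]
    rintro y -
    obtain ⟨g, rfl⟩ := QuotientGroup.mk'_surjective _ y
    have : g ∈ (pPrimeCore p (G ⧸ pPrimePCore p G)).comap (QuotientGroup.mk' (pPrimePCore p G)) := by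
      rw [h1]
      trivial
    exact this
  have h3 := Cfsg.Agent.Lib.PComps.card_coprime_pPrimeCore (p := p) (G := G ⧸ pPrimePCore p G)
  rw [h2, Subgroup.card_top] at h3
  rw [Subgroup.index]
  exact h3

theorem sylow_le (h : PLengthLE p 1 G) (S : Sylow p G) : (S : Subgroup G) ≤ pPrimePCore p G := by
  haveI : (pPrimePCore p G).Normal := pPrimePCore_normal
  intro s hs
  rw [← QuotientGroup.eq_one_iff]
  obtain ⟨k, hk⟩ := S.isPGroup' ⟨s, hs⟩
  have hk' : s ^ p ^ k = 1 := congrArg Subtype.val hk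
  have h1 : orderOf (QuotientGroup.mk s : G ⧸ pPrimePCore p G) ∣ p ^ k := by
    apply orderOf_dvd_of_pow_eq_one
    rw [← QuotientGroup.mk_pow, hk']
    rfl
  have h2 : orderOf (QuotientGroup.mk s : G ⧸ pPrimePCore p G) ∣ (pPrimePCore p G).index := by
    rw [Subgroup.index]
    exact orderOf_dvd_natCard _
  have h3 : ((pPrimePCore p G).index).Coprime (p ^ k) := (index_coprime h).pow_right k
  have h4 := Nat.eq_one_of_dvd_coprimes h3 h2 h1
  exact orderOf_eq_one_iff.1 h4

omit hp in
theorem pPrimeCore_le : pPrimeCore p G ≤ pPrimePCore p G := by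
  intro x hx
  have : QuotientGroup.mk' (pPrimeCore p G) x = 1 := (QuotientGroup.eq_one_iff x).2 hx
  rw [pPrimePCore, Subgroup.mem_comap, this]
  exact Subgroup.one_mem _

/-- `O_{p',p}(G) = O_{p'}(G) S`. -/
theorem pPrimePCore_le_sup (S : Sylow p G) : pPrimePCore p G ≤ pPrimeCore p G ⊔ S := by
  intro t ht
  let f := QuotientGroup.mk' (pPrimeCore p G)
  have hf : Function.Surjective f := QuotientGroup.mk'_surjective _
  let S' : Sylow p (G ⧸ pPrimeCore p G) := S.mapSurjective hf
  have h1 : f t ∈ (S' : Subgroup (G ⧸ pPrimeCore p G)) :=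
    Cfsg.Agent.Lib.FitCore.pCore_le_sylow p S' ht
  rw [Sylow.coe_mapSurjective] at h1
  obtain ⟨s, hs, e⟩ := h1
  have h2 : s⁻¹ * t ∈ pPrimeCore p G := by
    rw [← QuotientGroup.eq_one_iff]
    change f (s⁻¹ * t) = 1
    rw [map_mul, map_inv, ← e, inv_mul_cancel]
  have e3 : t = s * (s⁻¹ * t) := by group
  rw [e3]
  exact Subgroup.mul_mem _ ((le_sup_right : (S : Subgroup G) ≤ _) hs) ((le_sup_left : pPrimeCore p G ≤ _) h2)

theorem sup_eq (h : PLengthLE p 1 G) (S : Sylow p G) : pPrimeCore p G ⊔ (S : Subgroup G) = pPrimePCore p G :=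
  le_antisymm (sup_le pPrimeCore_le (sylow_le h S)) (pPrimePCore_le_sup S)

theorem sup_normalizer_eq_top (h : PLengthLE p 1 G) (S : Sylow p G) :
    pPrimeCore p G ⊔ Subgroup.normalizer ((S : Subgroup G) : Set G) = ⊤ := by
  haveI : (pPrimePCore p G).Normal := pPrimePCore_normal
  have h1 := Sylow.normalizer_sup_eq_top' S (sylow_le h S)
  rw [eq_top_iff, ← h1]
  apply sup_le le_sup_right
  rw [← sup_eq h S]
  exact sup_le le_sup_left ((Subgroup.le_normalizer).trans le_sup_right)

end Cfsg.Agent.Lib.PLength
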