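import Mathlib
import Cfsg.Prelude.Def_LocalStructure
import Cfsg.Agent.Lib.CharP

/-! Weakly closed subgroups, Y-minimal groups. -/

namespace Cfsg.Agent.Lib.WeaklyClosed

open Cfsg Cfsg.Agent.Lib.PCore Cfsg.Agent.Lib.PResidual Cfsg.Agent.Lib.AmalgamChar
  Cfsg.Agent.Lib.PIrreducible Cfsg.Agent.Lib.Commutators
open scoped commutatorElement

variable {H : Type*} [Group H] {p : ℕ}

theorem map_conj_one (A : Subgroup H) : A.map (MulAut.conj (1 : H)).toMonoidHom = A := by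
  ext x
  rw [mem_conj_iff]
  simp

theorem map_conj_inv_map (A : Subgroup H) (g : H) :
    (A.map (MulAut.conj g).toMonoidHom).map (MulAut.conj g⁻¹).toMonoidHom = A := by
  rw [← map_conj_mul, inv_mul_cancel, map_conj_one]

theorem map_conj_map_inv (A : Subgroup H) (g : H) :
    (A.map (MulAut.conj g⁻¹).toMonoidHom).map (MulAut.conj g).toMonoidHom = A := by
  rw [← map_conj_mul, mul_inv_cancel, map_conj_one]

theorem card_lt_of_lt {A B : Subgroup H} [Finite H] (h : A < B) : Nat.card A < Nat.card B := by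
  have h1 : (A : Set H) ⊂ (B : Set H) := h
  have h2 := Set.ncard_lt_ncard h1 (Set.toFinite _)
  have e : ∀ C : Subgroup H, Nat.card C = (C : Set H).ncard := fun C => Nat.card_coe_set_eq (C : Set H)
  rw [e, e]
  exact h2

/-- Normalizers grow in `p`-groups. -/
theorem exists_mem_normalizer_not_mem [Fact p.Prime] [Finite H] {A T : Subgroup H}
    (hT : IsPGroup p T) (hAT : A ≤ T) (hne : A ≠ T) :
    ∃ t ∈ T, t ∉ A ∧ t ∈ Subgroup.normalizer (A : Set H) := by
  haveI : Group.IsNilpotent T := hT.isNilpotent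
  have hcond := Group.normalizerCondition_of_isNilpotent (G := T)
  have hlt : A.subgroupOf T < ⊤ := by
    rw [lt_top_iff_ne_top]
    intro h
    apply hne
    apply le_antisymm hAT
    intro t ht
    have : (⟨t, ht⟩ : T) ∈ A.subgroupOf T := by rw [h]; trivial
    exact this
  have h1 := hcond _ hlt
  obtain ⟨t, ht1, ht2⟩ := SetLike.exists_of_lt h1
  refine ⟨t, t.2, ht2, ?_⟩
  rw [Subgroup.mem_normalizer_iff]
  intro a
  constructor
  · intro ha
    have h3 := (Subgroup.mem_normalizer_iff.1 ht1 ⟨a, hAT ha⟩).1 ha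
    exact h3
  · intro ha
    have hat : a ∈ T := by
      have h4 : (t : H) * a * (t : H)⁻¹ ∈ T := hAT ha
      have h5 := T.mul_mem (T.mul_mem (T.inv_mem t.2) h4) t.2
      have h6 : (t : H)⁻¹ * ((t : H) * a * (t : H)⁻¹) * (t : H) = a := by group
      rwa [h6] at h5
    exact (Subgroup.mem_normalizer_iff.1 ht1 ⟨a, hat⟩).2 ha

theorem sylow_eq_of_le {T₁ T₂ : Sylow p H} (h : (T₁ : Subgroup H) ≤ T₂) : T₁ = T₂ := by
  have := T₁.is_maximal' T₂.isPGroup' h
  exact Sylow.ext this.symm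

/-! ### Weakly closed subgroups -/

theorem all_sylow [Fact p.Prime] [Finite H] {Q : Subgroup H} (hwc : IsWeaklyClosedSubgroup p Q)
    {S : Sylow p H} (hQS : Q ≤ S) : IsWeaklyClosed Q (S : Subgroup H) := by
  obtain ⟨T, hQT, hT⟩ := hwc
  obtain ⟨a, rfl⟩ := MulAction.exists_smul_eq H T S
  rw [coe_smul_sylow] at hQS ⊢
  have h1 : Q.map (MulAut.conj a⁻¹).toMonoidHom ≤ T := by
    have := Subgroup.map_mono (f := (MulAut.conj a⁻¹).toMonoidHom) hQS
    rwa [map_conj_inv_map] at this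
  have h2 := hT a⁻¹ h1
  have h3 : Q.map (MulAut.conj a).toMonoidHom = Q := by
    conv_lhs => rw [← h2]
    rw [map_conj_map_inv]
  refine ⟨hQS, fun g hg => ?_⟩
  have h4 : Q.map (MulAut.conj (a⁻¹ * g)).toMonoidHom ≤ T := by
    rw [map_conj_mul]
    have := Subgroup.map_mono (f := (MulAut.conj a⁻¹).toMonoidHom) hg
    rwa [map_conj_inv_map] at this
  have h5 := hT _ h4
  rw [map_conj_mul] at h5
  calc Q.map (MulAut.conj g).toMonoidHom
      = ((Q.map (MulAut.conj g).toMonoidHom).map (MulAut.conj a⁻¹).toMonoidHom).map (MulAut.conj a).toMonoidHom := by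
        rw [map_conj_map_inv]
    _ = Q := by rw [h5, h3]

theorem sylow_le_normalizer [Fact p.Prime] [Finite H] {Q : Subgroup H}
    (hwc : IsWeaklyClosedSubgroup p Q) {S : Sylow p H} (hQS : Q ≤ S) :
    (S : Subgroup H) ≤ Subgroup.normalizer (Q : Set H) := by
  intro s hs
  apply mem_normalizer_of_map_eq
  have h := all_sylow hwc hQS
  apply h.2
  rintro _ ⟨q, hq, rfl⟩
  exact (S : Subgroup H).mul_mem ((S : Subgroup H).mul_mem hs (hQS hq)) ((S : Subgroup H).inv_mem hs)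

/-- Conjugacy of Sylow subgroups containing `Q` under `N(Q)`. -/
theorem sylow_conj_of_normalizer [Fact p.Prime] [Finite H] {Q : Subgroup H}
    (h2 : ∀ R : Subgroup H, IsPGroup p R → Q ≤ R → Subgroup.normalizer (R : Set H) ≤ Subgroup.normalizer (Q : Set H)) :
    ∀ T₁ T₂ : Sylow p H, Q ≤ T₁ → Q ≤ T₂ →
      ∃ x ∈ Subgroup.normalizer (Q : Set H), x • T₁ = T₂ := by
  have key : ∀ n : ℕ, ∀ T₁ T₂ : Sylow p H, Q ≤ T₁ → Q ≤ T₂ →
      Nat.card H - Nat.card ↥((T₁ : Subgroup H) ⊓ T₂) = n →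
      ∃ x ∈ Subgroup.normalizer (Q : Set H), x • T₁ = T₂ := by
    intro n
    induction n using Nat.strong_induction_on with
    | _ n ih =>
    intro T₁ T₂ hQ1 hQ2 hn
    by_cases hT : T₁ = T₂
    · exact ⟨1, Subgroup.one_mem _, by rw [hT, one_smul]⟩
    set D : Subgroup H := (T₁ : Subgroup H) ⊓ T₂ with hD
    have hcardH : ∀ A : Subgroup H, Nat.card A ≤ Nat.card H := fun A =>
      Nat.le_of_dvd Nat.card_pos (Subgroup.card_subgroup_dvd_card A)
    -- the measure drops when the intersection grows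
    have hdrop : ∀ T₃ T₄ : Sylow p H, Q ≤ T₃ → Q ≤ T₄ → D < (T₃ : Subgroup H) ⊓ T₄ →
        ∃ x ∈ Subgroup.normalizer (Q : Set H), x • T₃ = T₄ := by
      intro T₃ T₄ h3 h4 hlt
      have h5 := card_lt_of_lt hlt
      have h6 := hcardH ((T₃ : Subgroup H) ⊓ T₄)
      exact ih _ (by omega) T₃ T₄ h3 h4 rfl
    have hDQ : Q ≤ D := le_inf hQ1 hQ2
    have hDp : IsPGroup p D := T₁.isPGroup'.to_le inf_le_left
    have hN := h2 D hDp hDQ
    have hne1 : D ≠ T₁ := by
      intro h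
      exact hT (sylow_eq_of_le (by rw [← h]; exact inf_le_right))
    have hne2 : D ≠ T₂ := by
      intro h
      exact hT (sylow_eq_of_le (by rw [← h]; exact inf_le_left)).symm
    obtain ⟨t₁, ht₁, ht₁D, ht₁N⟩ := exists_mem_normalizer_not_mem T₁.isPGroup' inf_le_left hne1
    obtain ⟨t₂, ht₂, ht₂D, ht₂N⟩ := exists_mem_normalizer_not_mem T₂.isPGroup' inf_le_right hne2
    set K : Subgroup H := Subgroup.normalizer (D : Set H) with hK
    have hDK : D ≤ K := Subgroup.le_normalizer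
    set A₁ : Subgroup H := (T₁ : Subgroup H) ⊓ K with hA₁
    set A₂ : Subgroup H := (T₂ : Subgroup H) ⊓ K with hA₂
    have hDA₁ : D < A₁ := by
      rw [lt_iff_le_not_ge]
      exact ⟨le_inf inf_le_left hDK, fun h => ht₁D (h ⟨ht₁, ht₁N⟩)⟩
    have hDA₂ : D < A₂ := by
      rw [lt_iff_le_not_ge]
      exact ⟨le_inf inf_le_right hDK, fun h => ht₂D (h ⟨ht₂, ht₂N⟩)⟩
    have hpA₁ : IsPGroup p ↥(A₁.subgroupOf K) :=
      isPGroup_subgroupOf (T₁.isPGroup'.to_le inf_le_left) K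
    have hpA₂ : IsPGroup p ↥(A₂.subgroupOf K) :=
      isPGroup_subgroupOf (T₂.isPGroup'.to_le inf_le_left) K
    obtain ⟨S₁, hS₁⟩ := hpA₁.exists_le_sylow
    obtain ⟨S₂, hS₂⟩ := hpA₂.exists_le_sylow
    obtain ⟨k, hk⟩ := MulAction.exists_smul_eq K S₁ S₂
    obtain ⟨U₁, hU₁⟩ := (S₁.isPGroup'.map K.subtype).exists_le_sylow
    obtain ⟨U₂, hU₂⟩ := (S₂.isPGroup'.map K.subtype).exists_le_sylow
    have hA₁B : A₁ ≤ (S₁ : Subgroup K).map K.subtype := by
      intro a ha
      exact ⟨⟨a, ha.2⟩, hS₁ ha, rfl⟩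
    have hA₂B : A₂ ≤ (S₂ : Subgroup K).map K.subtype := by
      intro a ha
      exact ⟨⟨a, ha.2⟩, hS₂ ha, rfl⟩
    have hkN : (k : H) ∈ Subgroup.normalizer (Q : Set H) := hN k.2
    have hQU₁ : Q ≤ U₁ := hDQ.trans (hDA₁.le.trans (hA₁B.trans hU₁))
    have hQU₂ : Q ≤ U₂ := hDQ.trans (hDA₂.le.trans (hA₂B.trans hU₂))
    have hB₂ : (S₂ : Subgroup K).map K.subtype =
        ((S₁ : Subgroup K).map K.subtype).map (MulAut.conj (k : H)).toMonoidHom := by
      rw [← hk, map_smul_sylow]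
    have hxU₁ : ((k : H) • U₁ : Sylow p H).1 = (U₁ : Subgroup H).map (MulAut.conj (k : H)).toMonoidHom :=
      coe_smul_sylow U₁ (k : H)
    have hQxU₁ : Q ≤ ((k : H) • U₁ : Sylow p H) := by
      show Q ≤ ((k : H) • U₁ : Sylow p H).1
      rw [hxU₁]
      have := Subgroup.map_mono (f := (MulAut.conj (k : H)).toMonoidHom) hQU₁
      rwa [map_conj_eq_of_mem_normalizer hkN] at this
    obtain ⟨y₁, hy₁, h1⟩ := hdrop T₁ U₁ hQ1 hQU₁ (lt_of_lt_of_le hDA₁ (le_inf inf_le_left (hA₁B.trans hU₁)))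
    obtain ⟨y₂, hy₂, h3⟩ := hdrop ((k : H) • U₁) U₂ hQxU₁ hQU₂ (by
      refine lt_of_lt_of_le hDA₂ (le_inf ?_ (hA₂B.trans hU₂))
      show A₂ ≤ ((k : H) • U₁ : Sylow p H).1
      rw [hxU₁]
      refine hA₂B.trans ?_
      rw [hB₂]
      exact Subgroup.map_mono hU₁)
    obtain ⟨y₃, hy₃, h4⟩ := hdrop U₂ T₂ hQU₂ hQ2 (lt_of_lt_of_le hDA₂ (le_inf (hA₂B.trans hU₂) inf_le_left))
    refine ⟨y₃ * (y₂ * ((k : H) * y₁)), ?_, ?_⟩
    · exact Subgroup.mul_mem _ hy₃ (Subgroup.mul_mem _ hy₂ (Subgroup.mul_mem _ hkN hy₁))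
    · rw [mul_smul, mul_smul, mul_smul, h1, h3, h4]
  exact fun T₁ T₂ h1 h2 => key _ T₁ T₂ h1 h2 rfl

/-- Criterion: `Q` is weakly closed iff normal in the normalizers of all `p`-overgroups. -/
theorem isWeaklyClosed_of_normalizer [Fact p.Prime] [Finite H] {Q : Subgroup H} (hQp : IsPGroup p Q)
    (h2 : ∀ R : Subgroup H, IsPGroup p R → Q ≤ R → Subgroup.normalizer (R : Set H) ≤ Subgroup.normalizer (Q : Set H)) :
    IsWeaklyClosedSubgroup p Q := by
  obtain ⟨T, hT⟩ := hQp.exists_le_sylow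
  refine ⟨T, hT, fun g hg => ?_⟩
  -- `Q ≤ g⁻¹ T g`
  have hQT' : Q ≤ ((g⁻¹ • T : Sylow p H) : Subgroup H) := by
    rw [coe_smul_sylow]
    have := Subgroup.map_mono (f := (MulAut.conj g⁻¹).toMonoidHom) hg
    rwa [map_conj_inv_map] at this
  obtain ⟨x, hx, hxT⟩ := sylow_conj_of_normalizer h2 T (g⁻¹ • T) hT hQT'
  -- `g x` normalizes `T`
  have h3 : (g * x) • T = T := by
    rw [mul_smul, hxT, smul_inv_smul]
  have h4 : g * x ∈ Subgroup.normalizer ((T : Subgroup H) : Set H) :=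
    Sylow.smul_eq_iff_mem_normalizer.1 h3
  have h5 := h2 T T.isPGroup' hT h4
  have h6 : g = (g * x) * x⁻¹ := by group
  have h7 : g ∈ Subgroup.normalizer (Q : Set H) := by
    rw [h6]
    exact Subgroup.mul_mem _ h5 (Subgroup.inv_mem _ hx)
  exact map_conj_eq_of_mem_normalizer h7

theorem normalizer_le_of_isWeaklyClosed [Fact p.Prime] [Finite H] {Q : Subgroup H}
    (hwc : IsWeaklyClosedSubgroup p Q) {R : Subgroup H} (hR : IsPGroup p R) (hQR : Q ≤ R) :
    Subgroup.normalizer (R : Set H) ≤ Subgroup.normalizer (Q : Set H) := by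
  intro x hx
  obtain ⟨S, hS⟩ := hR.exists_le_sylow
  apply mem_normalizer_of_map_eq
  refine (all_sylow hwc (hQR.trans hS)).2 x ?_
  refine le_trans (Subgroup.map_mono hQR) ?_
  rw [map_conj_eq_of_mem_normalizer hx]
  exact hS

/-- If two conjugates normalize each other, then they are equal, for `Q` weakly closed. -/
theorem eq_of_isWeaklyClosed [Fact p.Prime] [Finite H] {Q : Subgroup H}
    (hwc : IsWeaklyClosedSubgroup p Q) (hQp : IsPGroup p Q) {g : H}
    (hc : Q ≤ Subgroup.normalizer ((Q.map (MulAut.conj g).toMonoidHom : Subgroup H) : Set H)) :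
    Q.map (MulAut.conj g).toMonoidHom = Q := by
  have hPp : IsPGroup p (Q.map (MulAut.conj g).toMonoidHom) := hQp.map _
  have hR : IsPGroup p ↥(Q ⊔ Q.map (MulAut.conj g).toMonoidHom) :=
    IsPGroup.to_sup_of_normal_right' hQp hPp hc
  obtain ⟨S, hS⟩ := hR.exists_le_sylow
  exact (all_sylow hwc (le_sup_left.trans hS)).2 g (le_sup_right.trans hS)

/-- A conjugate: `x ∈ N(A)` gives `g x g⁻¹ ∈ N(A^g)`. -/
theorem conj_mem_normalizer_map {A : Subgroup H} {g x : H} (hx : x ∈ Subgroup.normalizer (A : Set H)) :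
    g * x * g⁻¹ ∈ Subgroup.normalizer ((A.map (MulAut.conj g).toMonoidHom : Subgroup H) : Set H) := by
  apply mem_normalizer_of_map_eq
  rw [← map_conj_mul, show g * x * g⁻¹ * g = g * x by group, map_conj_mul,
    map_conj_eq_of_mem_normalizer hx]

/-- Normalizing each other via commutator containment. -/
theorem le_normalizer_of_commutator_le {A B : Subgroup H} (h : ⁅A, B⁆ ≤ A ⊓ B) :
    A ≤ Subgroup.normalizer (B : Set H) := by
  have key : ∀ a ∈ A, ∀ b ∈ B, a * b * a⁻¹ ∈ B := by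
    intro a ha b hb
    have h1 : ⁅a, b⁆ ∈ A ⊓ B := h (Subgroup.commutator_mem_commutator ha hb)
    have h2 : a * b * a⁻¹ = ⁅a, b⁆ * b := by
      rw [commutatorElement_def]; group
    rw [h2]
    exact B.mul_mem h1.2 hb
  intro a ha
  apply mem_normalizer_of_conj_mem (key a ha)
  intro b hb
  have := key a⁻¹ (A.inv_mem ha) b hb
  simpa using this

theorem commutator_le_inf_of_normalizes {A B : Subgroup H}
    (h1 : A ≤ Subgroup.normalizer (B : Set H)) (h2 : B ≤ Subgroup.normalizer (A : Set H)) :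
    ⁅A, B⁆ ≤ A ⊓ B := by
  rw [Subgroup.commutator_le]
  intro a ha b hb
  rw [commutatorElement_def]
  refine ⟨?_, ?_⟩
  · have : a * b * a⁻¹ * b⁻¹ = a * (b * a⁻¹ * b⁻¹) := by group
    rw [this]
    exact A.mul_mem ha (conj_mem_of_mem_normalizer (h2 hb) (A.inv_mem ha))
  · exact B.mul_mem (conj_mem_of_mem_normalizer (h1 ha) hb) (B.inv_mem hb)

/-- The property "two conjugates normalizing each other coincide". -/
def ConjProp (A : Subgroup H) : Prop :=
  ∀ g : H, ⁅A, A.map (MulAut.conj g).toMonoidHom⁆ ≤ A ⊓ A.map (MulAut.conj g).toMonoidHom →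
    A.map (MulAut.conj g).toMonoidHom = A

theorem ConjProp.map {Q : Subgroup H} (h : ConjProp Q) (g : H) :
    ConjProp (Q.map (MulAut.conj g).toMonoidHom) := by
  intro k hk
  have e : (Q.map (MulAut.conj g).toMonoidHom).map (MulAut.conj k).toMonoidHom =
      (Q.map (MulAut.conj (g⁻¹ * k * g)).toMonoidHom).map (MulAut.conj g).toMonoidHom := by
    rw [← map_conj_mul, ← map_conj_mul]
    congr 2
    group
  rw [e] at hk ⊢
  have h1 : ⁅Q, Q.map (MulAut.conj (g⁻¹ * k * g)).toMonoidHom⁆ ≤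
      Q ⊓ Q.map (MulAut.conj (g⁻¹ * k * g)).toMonoidHom := by
    have h2 := Subgroup.map_mono (f := (MulAut.conj g⁻¹).toMonoidHom) hk
    rw [Subgroup.map_commutator, map_conj_inv_map, map_conj_inv_map] at h2
    refine h2.trans (Subgroup.map_inf_le _ _ _ |>.trans ?_)
    rw [map_conj_inv_map, map_conj_inv_map]
  rw [h _ h1]

theorem ConjProp.le_normalizer [Fact p.Prime] [Finite H] {A T : Subgroup H} (h : ConjProp A)
    (hT : IsPGroup p T) (hAT : A ≤ T) : T ≤ Subgroup.normalizer (A : Set H) := by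
  by_contra hcon
  set M := T ⊓ Subgroup.normalizer (A : Set H) with hM
  have hne : M ≠ T := fun he => hcon (by rw [← he]; exact inf_le_right)
  obtain ⟨t, htT, htM, htN⟩ := exists_mem_normalizer_not_mem hT (inf_le_left : M ≤ T) hne
  have hAM : A ≤ M := le_inf hAT Subgroup.le_normalizer
  have hMt : M.map (MulAut.conj t).toMonoidHom = M := map_conj_eq_of_mem_normalizer htN
  have hBM : A.map (MulAut.conj t).toMonoidHom ≤ M := by
    have := Subgroup.map_mono (f := (MulAut.conj t).toMonoidHom) hAM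
    rwa [hMt] at this
  have h1 : A.map (MulAut.conj t).toMonoidHom ≤ Subgroup.normalizer (A : Set H) :=
    hBM.trans inf_le_right
  have h2 : A ≤ Subgroup.normalizer ((A.map (MulAut.conj t).toMonoidHom : Subgroup H) : Set H) := by
    intro a ha
    have h3 : a ∈ M.map (MulAut.conj t).toMonoidHom := by rw [hMt]; exact hAM ha
    obtain ⟨m, hm, rfl⟩ := h3
    exact conj_mem_normalizer_map hm.2
  have h3 := h t (commutator_le_inf_of_normalizes h2 h1)
  exact htM ⟨htT, mem_normalizer_of_map_eq h3⟩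

theorem isWeaklyClosed_of_conjProp [Fact p.Prime] [Finite H] {Q : Subgroup H} (hQp : IsPGroup p Q)
    (h : ConjProp Q) : IsWeaklyClosedSubgroup p Q := by
  obtain ⟨T, hT⟩ := hQp.exists_le_sylow
  refine ⟨T, hT, fun g hg => ?_⟩
  have h1 := h.le_normalizer T.isPGroup' hT
  have h2 := (h.map g).le_normalizer T.isPGroup' hg
  exact h g (commutator_le_inf_of_normalizes (hT.trans h2) (hg.trans h1))

theorem conjProp_of_isWeaklyClosed [Fact p.Prime] [Finite H] {Q : Subgroup H} (hQp : IsPGroup p Q)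
    (h : IsWeaklyClosedSubgroup p Q) : ConjProp Q := fun _ hg =>
  eq_of_isWeaklyClosed h hQp (le_normalizer_of_commutator_le hg)

/-! ### Large subgroups -/

theorem center_ne_bot [Fact p.Prime] [Finite H] {R : Subgroup H} (hR : IsPGroup p R) (h1 : R ≠ ⊥) :
    R ⊓ Subgroup.centralizer (R : Set H) ≠ ⊥ := by
  have : Nontrivial R := Subgroup.nontrivial_iff_ne_bot R |>.2 h1
  have := hR.center_nontrivial
  obtain ⟨z, hz⟩ := exists_ne (1 : Subgroup.center R)
  intro hbot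
  apply hz
  have h2 : ((z : R) : H) ∈ R ⊓ Subgroup.centralizer (R : Set H) := by
    refine ⟨(z : R).2, ?_⟩
    show ((z : R) : H) ∈ Subgroup.centralizer (R : Set H)
    rw [Subgroup.mem_centralizer_iff]
    intro r hr
    have := (Subgroup.mem_center_iff.1 z.2) ⟨r, hr⟩
    exact congrArg Subtype.val this
  rw [hbot, Subgroup.mem_bot] at h2
  exact Subtype.ext (Subtype.ext h2)

theorem isWeaklyClosed_of_isLarge [Fact p.Prime] [Finite H] {Q : Subgroup H} (hQp : IsPGroup p Q)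
    (hQ1 : Q ≠ ⊥) (hL : IsLarge Q) : IsWeaklyClosedSubgroup p Q := by
  refine isWeaklyClosed_of_normalizer hQp fun R hR hQR => ?_
  have hR1 : R ≠ ⊥ := fun h => hQ1 (by rw [eq_bot_iff, ← h]; exact hQR)
  have hZ := center_ne_bot hR hR1
  have hZC : R ⊓ Subgroup.centralizer (R : Set H) ≤ Subgroup.centralizer (Q : Set H) :=
    inf_le_right.trans (Subgroup.centralizer_le hQR)
  refine le_trans ?_ (hL.2 _ hZC hZ)
  intro x hx
  apply mem_normalizer_of_map_eq
  rw [center_map_conj, map_conj_eq_of_mem_normalizer hx]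

/-! ### Weakly closed subgroups inside overgroups -/

theorem exists_sylow_in [Fact p.Prime] [Finite H] {Q K : Subgroup H} (hQp : IsPGroup p Q) (hQK : Q ≤ K) :
    ∃ T₀ : Sylow p K, Q.subgroupOf K ≤ T₀ := by
  have : IsPGroup p ↥(Q.subgroupOf K) := isPGroup_subgroupOf hQp K
  exact this.exists_le_sylow

theorem exists_conj_of_le [Fact p.Prime] [Finite H] {Q K : Subgroup H} (hQp : IsPGroup p Q)
    (hwc : IsWeaklyClosedSubgroup p Q) (hQK : Q ≤ K) {g : H}
    (hg : Q.map (MulAut.conj g).toMonoidHom ≤ K) :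
    ∃ k ∈ K, Q.map (MulAut.conj g).toMonoidHom = Q.map (MulAut.conj k).toMonoidHom := by
  obtain ⟨T₀, hT₀⟩ := exists_sylow_in hQp hQK
  obtain ⟨T₁, hT₁⟩ := exists_sylow_in (hQp.map (MulAut.conj g).toMonoidHom) hg
  obtain ⟨k, rfl⟩ := MulAction.exists_smul_eq K T₀ T₁
  obtain ⟨S, hS⟩ := (T₀.isPGroup'.map K.subtype).exists_le_sylow
  have hQS : Q ≤ S := by
    intro q hq
    exact hS ⟨⟨q, hQK hq⟩, hT₀ hq, rfl⟩
  refine ⟨k, k.2, ?_⟩
  have h1 : Q.map (MulAut.conj g).toMonoidHom ≤ ((T₀ : Subgroup K).map K.subtype).map (MulAut.conj (k : H)).toMonoidHom := by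
    rw [← map_smul_sylow]
    intro x hx
    exact ⟨⟨x, hg hx⟩, hT₁ hx, rfl⟩
  have h2 : Q.map (MulAut.conj ((k : H)⁻¹ * g)).toMonoidHom ≤ S := by
    rw [map_conj_mul]
    have := Subgroup.map_mono (f := (MulAut.conj (k : H)⁻¹).toMonoidHom) h1
    rw [map_conj_inv_map] at this
    exact this.trans hS
  have h3 := (all_sylow hwc hQS).2 _ h2
  rw [map_conj_mul] at h3
  conv_rhs => rw [← h3]
  rw [map_conj_map_inv]

theorem isWeaklyClosed_subgroupOf [Fact p.Prime] [Finite H] {Q K : Subgroup H} (hQp : IsPGroup p Q)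
    (hwc : IsWeaklyClosedSubgroup p Q) (hQK : Q ≤ K) :
    IsWeaklyClosedSubgroup p (Q.subgroupOf K) := by
  obtain ⟨T₀, hT₀⟩ := exists_sylow_in hQp hQK
  obtain ⟨S, hS⟩ := (T₀.isPGroup'.map K.subtype).exists_le_sylow
  have hQS : Q ≤ S := by
    intro q hq
    exact hS ⟨⟨q, hQK hq⟩, hT₀ hq, rfl⟩
  refine ⟨T₀, hT₀, fun k hk => ?_⟩
  have h1 : Q.map (MulAut.conj (k : H)).toMonoidHom ≤ S := by
    rintro _ ⟨q, hq, rfl⟩
    have : (MulAut.conj k).toMonoidHom (⟨q, hQK hq⟩ : K) ∈ (T₀ : Subgroup K) := hk ⟨⟨q, hQK hq⟩, hq, rfl⟩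
    exact hS ⟨_, this, rfl⟩
  have h2 := (all_sylow hwc hQS).2 _ h1
  ext x
  rw [mem_conj_iff, Subgroup.mem_subgroupOf, Subgroup.mem_subgroupOf]
  have h3 : ((k⁻¹ * x * k : K) : H) = (k : H)⁻¹ * x * k := rfl
  rw [h3, ← mem_conj_iff, h2]

theorem isParabolic_normalizer_subgroupOf [Fact p.Prime] [Finite H] {Q K : Subgroup H}
    (hQp : IsPGroup p Q) (hwc : IsWeaklyClosedSubgroup p Q) (hQK : Q ≤ K) :
    IsParabolic p ((Subgroup.normalizer (Q : Set H)).subgroupOf K) := by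
  obtain ⟨T₀, hT₀⟩ := exists_sylow_in hQp hQK
  obtain ⟨S, hS⟩ := (T₀.isPGroup'.map K.subtype).exists_le_sylow
  have hQS : Q ≤ S := by
    intro q hq
    exact hS ⟨⟨q, hQK hq⟩, hT₀ hq, rfl⟩
  refine ⟨T₀, fun t ht => ?_⟩
  exact sylow_le_normalizer hwc hQS (hS ⟨t, ht, rfl⟩)

/-- Conjugates of `Q` stay in every subnormal overgroup. -/
theorem conj_le_of_subnormal [Fact p.Prime] [Finite H] {Q : Subgroup H} (hQp : IsPGroup p Q)
    (hwc : IsWeaklyClosedSubgroup p Q) {X : Subgroup H} (hX : X.IsSubnormal) (hQX : Q ≤ X) (g : H) :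
    Q.map (MulAut.conj g).toMonoidHom ≤ X := by
  induction hX with
  | top => exact le_top
  | step A B hle hB hN ih =>
    have h1 := ih (hQX.trans hle)
    obtain ⟨k, hk, hkk⟩ := exists_conj_of_le hQp hwc (hQX.trans hle) h1
    rw [hkk]
    have hNB := (Subgroup.normal_subgroupOf_iff_le_normalizer hle).1 hN
    have h2 : A.map (MulAut.conj k).toMonoidHom = A := map_conj_eq_of_mem_normalizer (hNB hk)
    calc Q.map (MulAut.conj k).toMonoidHom ≤ A.map (MulAut.conj k).toMonoidHom := Subgroup.map_mono hQX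
      _ = A := h2

theorem map_map_conj {G' : Type*} [Group G'] (f : H →* G') (A : Subgroup H) (g : H) :
    (A.map (MulAut.conj g).toMonoidHom).map f = (A.map f).map (MulAut.conj (f g)).toMonoidHom := by
  rw [Subgroup.map_map, Subgroup.map_map]
  congr 1
  ext x
  simp [MulAut.conj_apply]

end Cfsg.Agent.Lib.WeaklyClosed
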