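import Cfsg.Agent.Lib.PReduced
import Cfsg.Agent.Lib.FStarAct
import Cfsg.Agent.Lib.CoprimeGen
import Cfsg.Agent.Lib.WeaklyClosed

/-! `p`-reduced normal subgroups of subnormal subgroups. -/

set_option autoImplicit false

namespace Cfsg.Agent.Lib.PReducedSub

open scoped commutatorElement
open Cfsg Subgroup
open Cfsg.Agent.Lib
open Cfsg.Agent.Lib.PReduced
open Cfsg.Agent.Lib.FStarAct (le_normalizer_of_forall inf_normalizer_le)

section key
variable {W : Type*} [Group W] {p : ℕ}

/-- The norm of `x` under `α`. -/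
def normAux (α : MulAut W) (x : W) : ℕ → W
  | 0 => 1
  | k + 1 => normAux α x k * (α ^ k) x

theorem normAux_mul (hWc : ∀ a b : W, a * b = b * a) (α : MulAut W) (x y : W) (k : ℕ) :
    normAux α (x * y) k = normAux α x k * normAux α y k := by
  induction k with
  | zero => simp [normAux]
  | succ k ih =>
    simp only [normAux, ih, map_mul]
    rw [mul_assoc, mul_assoc, ← mul_assoc (normAux α y k), hWc (normAux α y k) ((α ^ k) x)]
    simp only [mul_assoc]

theorem normAux_one (α : MulAut W) (k : ℕ) : normAux α (1 : W) k = 1 := by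
  induction k with
  | zero => rfl
  | succ k ih => simp [normAux, ih]

theorem normAux_inv (hWc : ∀ a b : W, a * b = b * a) (α : MulAut W) (x : W) (k : ℕ) :
    normAux α x⁻¹ k = (normAux α x k)⁻¹ := by
  have h := normAux_mul hWc α x x⁻¹ k
  rw [mul_inv_cancel, normAux_one] at h
  exact (inv_eq_of_mul_eq_one_right h.symm).symm

theorem normAux_comm (r α : MulAut W) (h : r * α = α * r) (x : W) (k : ℕ) :
    normAux α (r x) k = r (normAux α x k) := by
  induction k with
  | zero => simp [normAux]
  | succ k ih =>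
    simp only [normAux, ih, map_mul]
    congr 1
    have h1 : Commute r (α ^ k) := Commute.pow_right h k
    have h2 := congrArg (fun f : MulAut W => f x) h1.eq
    exact h2.symm

theorem normAux_succ (α : MulAut W) (x : W) (k : ℕ) :
    normAux α x (k + 1) = x * α (normAux α x k) := by
  induction k with
  | zero => simp [normAux]
  | succ k ih =>
    calc normAux α x (k + 1 + 1) = normAux α x (k + 1) * (α ^ (k + 1)) x := rfl
      _ = x * α (normAux α x k) * (α ^ (k + 1)) x := by rw [ih]
      _ = x * α (normAux α x k * (α ^ k) x) := by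
        rw [map_mul, mul_assoc, pow_succ']; rfl
      _ = x * α (normAux α x (k + 1)) := rfl

theorem normAux_fixed (hWc : ∀ a b : W, a * b = b * a) (α : MulAut W) (x : W) {m : ℕ} (hm : α ^ m = 1) :
    α (normAux α x m) = normAux α x m := by
  have h1 := normAux_succ α x m
  rw [normAux, hm] at h1
  have h2 : normAux α x m * x = x * α (normAux α x m) := h1
  rw [hWc] at h2
  exact (mul_left_cancel h2).symm

theorem normAux_of_fixed (α : MulAut W) {x : W} (hx : α x = x) (k : ℕ) : normAux α x k = x ^ k := by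
  have h : ∀ j : ℕ, (α ^ j) x = x := by
    intro j
    induction j with
    | zero => rfl
    | succ j ih =>
      rw [pow_succ, MulAut.mul_apply, hx, ih]
  induction k with
  | zero => simp [normAux]
  | succ k ih => rw [normAux, ih, h, pow_succ]

variable [Finite W] [Fact p.Prime]

theorem key_aut (hWc : ∀ a b : W, a * b = b * a) (hWp : IsPGroup p W) (α : MulAut W)
    (hα : (orderOf α).Coprime p) (R : Subgroup (MulAut W)) (hR : IsPGroup p R)
    (hcomm : ∀ r ∈ R, r * α = α * r) (hfix : ∀ x : W, (∀ r ∈ R, r x = x) → α x = x) : α = 1 := by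
  classical
  set m := orderOf α with hm
  have hm1 : α ^ m = 1 := pow_orderOf_eq_one α
  let Ker : Subgroup W :=
    { carrier := {x | normAux α x m = 1}
      one_mem' := normAux_one α m
      mul_mem' := by
        intro a b ha hb
        change normAux α (a * b) m = 1
        rw [normAux_mul hWc, show normAux α a m = 1 from ha, show normAux α b m = 1 from hb, one_mul]
      inv_mem' := by
        intro a ha
        change normAux α a⁻¹ m = 1
        rw [normAux_inv hWc, show normAux α a m = 1 from ha, inv_one] }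
  have hKer : Ker = ⊥ := by
    by_contra hne
    have hKp : IsPGroup p Ker := hWp.to_subgroup Ker
    obtain ⟨k, hk⟩ := IsPGroup.iff_card.1 hKp
    have hk0 : k ≠ 0 := by
      rintro rfl
      apply hne
      rw [pow_zero] at hk
      exact Subgroup.card_eq_one.1 hk
    have hpK : p ∣ Nat.card Ker := by rw [hk]; exact dvd_pow_self p hk0
    let S : Set W := (Ker : Set W) \ {1}
    have hS1 : (S.ncard) + 1 = Nat.card Ker := by
      have h1 : (1 : W) ∈ (Ker : Set W) := Ker.one_mem
      have h2 := Set.ncard_diff_singleton_add_one h1 (Set.toFinite _)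
      have h3 : Nat.card Ker = (Ker : Set W).ncard := Nat.card_coe_set_eq _
      rw [h3]
      exact h2
    have hc : ¬ p ∣ Nat.card S := by
      rw [Nat.card_coe_set_eq]
      intro h
      have h3 : p ∣ 1 := by
        have : p ∣ S.ncard + 1 := by rw [hS1]; exact hpK
        exact (Nat.dvd_add_right h).1 this
      exact (Fact.out : p.Prime).one_lt.ne' (Nat.dvd_one.1 h3)
    obtain ⟨s, hs, hsfix⟩ := CoprimeGen.exists_fixed_abstract (p := p) (MonoidHom.id (MulAut W)) hR S (by
      rintro r hr x ⟨hx1, hx2⟩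
      refine ⟨?_, ?_⟩
      · change normAux α (r x) m = 1
        rw [normAux_comm r α (hcomm r hr), show normAux α x m = 1 from hx1, map_one]
      · intro h
        apply hx2
        have h1 : r x = 1 := h
        exact (map_eq_one_iff r r.injective).1 h1) hc
    obtain ⟨hs1, hs2⟩ := hs
    have hsα : α s = s := hfix s hsfix
    have h1 : normAux α s m = 1 := hs1
    rw [normAux_of_fixed α hsα] at h1
    obtain ⟨j, hj⟩ := IsPGroup.iff_orderOf.1 hWp s
    have h2 : orderOf s ∣ m := orderOf_dvd_of_pow_eq_one h1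
    have h3 : (orderOf s).Coprime p := Nat.Coprime.coprime_dvd_left h2 hα
    rw [hj] at h3
    have h4 : j = 0 := by
      by_contra hj0
      have := Nat.Coprime.eq_one_of_dvd h3.symm (dvd_pow_self p hj0)
      exact (Fact.out : p.Prime).one_lt.ne' this
    rw [h4, pow_zero, orderOf_eq_one_iff] at hj
    exact hs2 hj
  refine MulEquiv.ext fun x => ?_
  have h1 : x⁻¹ * α x ∈ Ker := by
    change normAux α (x⁻¹ * α x) m = 1
    rw [normAux_mul hWc, normAux_inv hWc, normAux_comm α α rfl, normAux_fixed hWc α x hm1, inv_mul_cancel]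
  rw [hKer, Subgroup.mem_bot] at h1
  have h2 : α x = x := by
    have := inv_mul_eq_one.1 h1
    exact this.symm
  simpa using h2

end key

section aut
variable {A : Type*} [Group A] [Finite A] {p : ℕ} [Fact p.Prime]

theorem comm_of_pCore_eq_bot {ΓL ΓK R : Subgroup A} (hLK : ΓL ≤ ΓK)
    (hKL : ΓK ≤ normalizer (ΓL : Set A)) (hO : pCore p ΓL = ⊥) (hRp : IsPGroup p R) (hRK : R ≤ ΓK)
    (hKR : ΓK ≤ normalizer (R : Set A)) : ∀ r ∈ R, ∀ g ∈ ΓL, r * g = g * r := by
  have hinf : R ⊓ ΓL = ⊥ := by
    have hn : ((R ⊓ ΓL).subgroupOf ΓL).Normal := by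
      apply (Subgroup.normal_subgroupOf_iff_le_normalizer inf_le_right).2
      exact le_trans (le_inf (hLK.trans hKR) Subgroup.le_normalizer) (inf_normalizer_le R ΓL)
    have hp : IsPGroup p ((R ⊓ ΓL).subgroupOf ΓL) := by
      have h1 : IsPGroup p ↥(R ⊓ ΓL) := hRp.to_le inf_le_left
      exact h1.of_injective (Subgroup.subgroupOfEquivOfLe (inf_le_right : R ⊓ ΓL ≤ ΓL)).toMonoidHom
        (Subgroup.subgroupOfEquivOfLe (inf_le_right : R ⊓ ΓL ≤ ΓL)).injective
    have h1 := FitCore.le_pCore p _ hn hp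
    rw [hO] at h1
    rw [eq_bot_iff]
    intro x hx
    have h2 : (⟨x, hx.2⟩ : ΓL) ∈ (R ⊓ ΓL).subgroupOf ΓL := hx
    have h3 := h1 h2
    rw [Subgroup.mem_bot] at h3
    rw [Subgroup.mem_bot]
    exact congrArg Subtype.val h3
  intro r hr g hg
  have h1 : r * g * r⁻¹ * g⁻¹ ∈ R ⊓ ΓL := by
    constructor
    · have h2 := (mem_normalizer_iff.1 (hKR (hLK hg)) _).1 (R.inv_mem hr)
      have e : r * g * r⁻¹ * g⁻¹ = r * (g * r⁻¹ * g⁻¹) := by group
      rw [e]
      exact R.mul_mem hr h2
    · have h2 := (mem_normalizer_iff.1 (hKL (hRK hr)) _).1 hg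
      exact ΓL.mul_mem h2 (ΓL.inv_mem hg)
  rw [hinf, Subgroup.mem_bot] at h1
  have h2 : r * g * r⁻¹ = g := mul_inv_eq_one.1 h1
  exact mul_inv_eq_iff_eq_mul.1 h2

end aut

section delta
variable {W : Type*} [Group W] [Finite W] {p : ℕ} [Fact p.Prime]

theorem delta_trivial (hWc : ∀ a b : W, a * b = b * a) (hWp : IsPGroup p W) {ΓL R : Subgroup (MulAut W)}
    (hO : pCore p ΓL = ⊥) (hRp : IsPGroup p R) (hcomm : ∀ r ∈ R, ∀ g ∈ ΓL, r * g = g * r)
    {g : MulAut W} (hg : g ∈ ΓL) (hfix : ∀ x : W, (∀ r ∈ R, r x = x) → g x = x) : g = 1 := by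
  classical
  haveI : Finite (MulAut W) := inferInstanceAs (Finite (W ≃* W))
  let Δ : Subgroup (MulAut W) :=
    { carrier := {g | g ∈ ΓL ∧ ∀ x : W, (∀ r ∈ R, r x = x) → g x = x}
      one_mem' := ⟨ΓL.one_mem, fun _ _ => rfl⟩
      mul_mem' := by
        rintro a b ⟨ha, ha'⟩ ⟨hb, hb'⟩
        refine ⟨ΓL.mul_mem ha hb, fun x hx => ?_⟩
        rw [MulAut.mul_apply, hb' x hx, ha' x hx]
      inv_mem' := by
        rintro a ⟨ha, ha'⟩
        refine ⟨ΓL.inv_mem ha, fun x hx => ?_⟩
        conv_lhs => rw [← ha' x hx]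
        simp }
  have hΔp : IsPGroup p Δ := by
    rintro ⟨a, ha⟩
    obtain ⟨k, m, hm, hkm⟩ := Nat.exists_eq_pow_mul_and_not_dvd (orderOf_pos a).ne' p
      (Fact.out : p.Prime).ne_one
    refine ⟨k, Subtype.ext ?_⟩
    have hord : orderOf (a ^ p ^ k) = m := by
      rw [orderOf_pow_of_dvd (by
        intro h; exact (pow_ne_zero k (Fact.out : p.Prime).ne_zero) h) (by rw [hkm]; exact dvd_mul_right _ _), hkm]
      exact Nat.mul_div_cancel_left _ (pow_pos (Fact.out : p.Prime).pos k)
    have hmem : a ^ p ^ k ∈ Δ := Subgroup.pow_mem _ ha _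
    apply key_aut hWc hWp (a ^ p ^ k) (by
      rw [hord]; exact (((Fact.out : p.Prime).coprime_iff_not_dvd).2 hm).symm) R hRp
    · intro r hr
      exact hcomm r hr _ hmem.1
    · exact hmem.2
  have hΔn : (Δ.subgroupOf ΓL).Normal := by
    refine ⟨?_⟩
    rintro ⟨a, haL⟩ ha ⟨b, hb⟩
    refine ⟨ΓL.mul_mem (ΓL.mul_mem hb haL) (ΓL.inv_mem hb), fun x hx => ?_⟩
    have h1 : ∀ r ∈ R, r (b⁻¹ x) = b⁻¹ x := by
      intro r hr
      have h2 : r * b⁻¹ = b⁻¹ * r := hcomm r hr _ (ΓL.inv_mem hb)
      have h3 := congrArg (fun f : MulAut W => f x) h2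
      simp only [MulAut.mul_apply] at h3
      rw [h3, hx r hr]
    have h4 : a (b⁻¹ x) = b⁻¹ x := ha.2 _ h1
    change b (a (b⁻¹ x)) = x
    rw [h4]
    simp
  have hp' : IsPGroup p (Δ.subgroupOf ΓL) := by
    have hle : Δ ≤ ΓL := fun _ h => h.1
    exact hΔp.of_injective (Subgroup.subgroupOfEquivOfLe hle).toMonoidHom (Subgroup.subgroupOfEquivOfLe hle).injective
  have h1 := FitCore.le_pCore p _ hΔn hp'
  rw [hO] at h1
  have h2 : (⟨g, hg⟩ : ΓL) ∈ Δ.subgroupOf ΓL := ⟨hg, hfix⟩
  have h3 := h1 h2
  rw [Subgroup.mem_bot] at h3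
  exact congrArg Subtype.val h3

end delta

section reduced
variable {A B : Type*} [Group A] [Group B] {p : ℕ}

theorem isPReducedNormal_map (e : A ≃* B) {V : Subgroup A} (hV : IsPReducedNormal p V) :
    IsPReducedNormal p (V.map e.toMonoidHom) := by
  obtain ⟨hn, he, hC, hcore⟩ := hV
  have hn' : (V.map e.toMonoidHom).Normal := hn.map _ e.surjective
  refine ⟨hn', isElementaryAbelian_map _ he, inferInstance, ?_⟩
  let f₀ : A →* A ⧸ centralizer (V : Set A) := QuotientGroup.mk' _
  let f : B →* A ⧸ centralizer (V : Set A) := f₀.comp e.symm.toMonoidHom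
  have hf : f.ker = centralizer ((V.map e.toMonoidHom : Subgroup B) : Set B) := by
    ext b
    rw [MonoidHom.mem_ker]
    change (QuotientGroup.mk (e.symm b) : A ⧸ centralizer (V : Set A)) = 1
      ↔ b ∈ centralizer ((V.map e.toMonoidHom : Subgroup B) : Set B)
    rw [QuotientGroup.eq_one_iff, mem_centralizer_iff, mem_centralizer_iff]
    constructor
    · rintro h _ ⟨v, hv, rfl⟩
      have h1 := h v hv
      have h2 := congrArg e h1
      simpa using h2
    · intro h v hv
      have h1 := h (e v) ⟨v, hv, rfl⟩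
      have h2 := congrArg e.symm h1
      simpa using h2
  have hrange : f.range = f₀.range := by
    rw [QuotientGroup.range_mk']
    rw [eq_top_iff]
    intro y _
    obtain ⟨a, rfl⟩ := QuotientGroup.mk_surjective y
    exact ⟨e a, by simp [f, f₀]⟩
  have h1 := (pCore_quotient_eq_bot_iff (p := p) f₀ (centralizer (V : Set A)) (QuotientGroup.ker_mk' _)).1 hcore
  rw [← hrange] at h1
  exact (pCore_quotient_eq_bot_iff (p := p) f _ hf).2 h1

theorem largestPReduced_map [Finite A] [Finite B] (e : A ≃* B) :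
    (largestPReduced p A).map e.toMonoidHom = largestPReduced p B := by
  apply Layer.eq_map_of_le_of_symm_le
  · exact Layer.map_sSup_le_sSup _ _ _ (fun V hV => isPReducedNormal_map e hV)
  · exact Layer.map_sSup_le_sSup _ _ _ (fun V hV => isPReducedNormal_map e.symm hV)

theorem largestPReduced_characteristic [Finite A] : (largestPReduced p A).Characteristic := by
  rw [Subgroup.characteristic_iff_map_eq]
  intro e
  exact largestPReduced_map e

end reduced

section step
variable {G : Type*} [Group G] [Finite G] {p : ℕ} [Fact p.Prime]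

theorem pcore_facts {A : Type*} [Group A] [Finite A] (Γ : Subgroup A) :
    IsPGroup p ((pCore p Γ).map Γ.subtype) ∧ (pCore p Γ).map Γ.subtype ≤ Γ ∧
      Γ ≤ normalizer (((pCore p Γ).map Γ.subtype : Subgroup A) : Set A) := by
  refine ⟨(FitCore.pCore_isPGroup p).map _, Subgroup.map_subtype_le _, ?_⟩
  apply le_normalizer_of_forall
  rintro g hg _ ⟨r, hr, rfl⟩
  haveI := FitCore.pCore_normal (G := Γ) p
  exact ⟨⟨g, hg⟩ * r * ⟨g, hg⟩⁻¹, Subgroup.Normal.conj_mem inferInstance r hr _, rfl⟩

theorem step_aux {L K : Subgroup G} (hLK : L ≤ K) (hKL : K ≤ normalizer (L : Set G)) :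
    ∀ (n : ℕ) (V : Subgroup G), Nat.card V = n → V ≤ L → ∀ hKV : K ≤ normalizer (V : Set G),
      IsElementaryAbelian p V → pCore p (actHom V (hLK.trans hKV)).range = ⊥ →
      L ⊓ centralizer (largestPReducedOf p K : Set G) ≤ centralizer (V : Set G) := by
  intro n
  induction n using Nat.strong_induction_on with
  | _ n ih =>
  intro V hVn hVL hKV hV hred
  have hVK : V ≤ K := hVL.trans hLK
  haveI : Finite (MulAut V) := inferInstanceAs (Finite (V ≃* V))
  let fK := actHom V hKV
  let fL := actHom V (hLK.trans hKV)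
  have hfLK : ∀ l : L, fL l = fK ⟨l, hLK l.2⟩ := fun l => rfl
  have hWc : ∀ a b : V, a * b = b * a := hV.1.is_comm.comm
  have hWp : IsPGroup p V := IsElementaryAbelian.isPGroup hV
  have hLKΓ : fL.range ≤ fK.range := by
    rintro _ ⟨l, rfl⟩
    exact ⟨⟨l, hLK l.2⟩, rfl⟩
  have hconjf : ∀ (k : K) (l : L), fK k * fL l * (fK k)⁻¹ =
      fL ⟨k * l * (k : G)⁻¹, (mem_normalizer_iff.1 (hKL k.2) _).1 l.2⟩ := by
    intro k l
    rw [hfLK, ← map_inv, ← map_mul, ← map_mul]
    rfl
  have hKLΓ : fK.range ≤ normalizer (fL.range : Set (MulAut V)) := by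
    apply le_normalizer_of_forall
    rintro _ ⟨k, rfl⟩ _ ⟨l, rfl⟩
    rw [hconjf]
    exact ⟨_, rfl⟩
  obtain ⟨hRp, hRK, hKR⟩ := pcore_facts (p := p) fK.range
  obtain ⟨R, hR⟩ : ∃ R, R = (pCore p fK.range).map fK.range.subtype := ⟨_, rfl⟩
  rw [← hR] at hRp hRK hKR
  have hcomm := comm_of_pCore_eq_bot hLKΓ hKLΓ hred hRp hRK hKR
  by_cases hRb : pCore p fK.range = ⊥
  · have hred' : IsPReducedNormal p (V.subgroupOf K) := by
      have hn : (V.subgroupOf K).Normal := (Subgroup.normal_subgroupOf_iff_le_normalizer hVK).2 hKV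
      refine ⟨hn, isElementaryAbelian_subgroupOf hV, inferInstance, ?_⟩
      exact (pCore_quotient_eq_bot_iff (p := p) fK _ (actHom_ker V hKV hVK)).2 hRb
    have h := le_largestPReduced hred'
    have hVY : V ≤ largestPReducedOf p K := by
      intro v hv
      exact ⟨⟨v, hVK hv⟩, h hv, rfl⟩
    intro x hx
    exact Subgroup.centralizer_le hVY hx.2
  · -- the fixed points of `R`
    let V₁' : Subgroup V :=
      { carrier := {x | ∀ r ∈ R, r x = x}
        one_mem' := fun r _ => map_one r
        mul_mem' := by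
          intro a b ha hb r hr
          rw [map_mul, ha r hr, hb r hr]
        inv_mem' := by
          intro a ha r hr
          rw [map_inv, ha r hr] }
    let V₁ : Subgroup G := V₁'.map V.subtype
    have hV₁V : V₁ ≤ V := Subgroup.map_subtype_le _
    have hmem₁ : ∀ x : V, (x : G) ∈ V₁ ↔ x ∈ V₁' := by
      intro x
      constructor
      · rintro ⟨y, hy, hyx⟩
        have : y = x := Subtype.ext hyx
        rwa [← this]
      · intro h
        exact ⟨x, h, rfl⟩
    have hlt : V₁ < V := by
      refine lt_of_le_of_ne hV₁V ?_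
      intro heq
      apply hRb
      rw [eq_bot_iff]
      rintro ⟨g, hg⟩ hgc
      have hgR : g ∈ R := by rw [hR]; exact ⟨⟨g, hg⟩, hgc, rfl⟩
      have h1 : g = 1 := by
        refine MulEquiv.ext fun x => ?_
        have h2 : (x : G) ∈ V₁ := by rw [heq]; exact x.2
        exact ((hmem₁ x).1 h2) g hgR
      rw [Subgroup.mem_bot]
      exact Subtype.ext h1
    have hKV₁ : K ≤ normalizer (V₁ : Set G) := by
      apply le_normalizer_of_forall
      rintro k hk _ ⟨y, hy, rfl⟩
      have hz : fK ⟨k, hk⟩ y ∈ V₁' := by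
        intro r hr
        have hg : fK ⟨k, hk⟩ ∈ fK.range := ⟨_, rfl⟩
        have h1 := (mem_normalizer_iff.1 (hKR (fK.range.inv_mem hg)) r).1 hr
        have h2 : ((fK ⟨k, hk⟩)⁻¹ * r * fK ⟨k, hk⟩) y = y := hy _ (by simpa using h1)
        have h3 : r (fK ⟨k, hk⟩ y) = fK ⟨k, hk⟩ (((fK ⟨k, hk⟩)⁻¹ * r * (fK ⟨k, hk⟩)) y) := by
          simp [MulAut.mul_apply]
        rw [h3, h2]
      exact ⟨fK ⟨k, hk⟩ y, hz, rfl⟩
    have hV₁e : IsElementaryAbelian p V₁ := by
      refine ⟨⟨⟨fun a b => Subtype.ext ?_⟩⟩, fun a ha => hV.2 a (hV₁V ha)⟩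
      have := hV.1.is_comm.comm ⟨a, hV₁V a.2⟩ ⟨b, hV₁V b.2⟩
      have h : (a : G) * b = b * a := congrArg Subtype.val this
      exact h
    have hkey : ∀ l : L, (∀ y ∈ V₁, (l : G) * y * (l : G)⁻¹ = y) → fL l = 1 := by
      intro l hl
      apply delta_trivial hWc hWp hred hRp hcomm (⟨l, rfl⟩ : fL l ∈ fL.range)
      intro x hx
      apply Subtype.ext
      exact hl x ((hmem₁ x).2 hx)
    have hL₁ : L ≤ normalizer (V₁ : Set G) := hLK.trans hKV₁
    have hker₁ : (actHom V₁ hL₁).ker = fL.ker := by
      ext l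
      rw [MonoidHom.mem_ker, MonoidHom.mem_ker]
      constructor
      · intro h
        apply hkey
        intro y hy
        have h1 := congrArg (fun f : MulAut V₁ => ((f ⟨y, hy⟩ : V₁) : G)) h
        exact h1
      · intro h
        refine MulEquiv.ext fun y => Subtype.ext ?_
        have h1 := congrArg (fun f : MulAut V => ((f ⟨y, hV₁V y.2⟩ : V) : G)) h
        exact h1
    have hred₁ : pCore p (actHom V₁ hL₁).range = ⊥ := by
      have h1 := (pCore_quotient_eq_bot_iff (p := p) fL fL.ker rfl).2 hred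
      exact (pCore_quotient_eq_bot_iff (p := p) (actHom V₁ hL₁) fL.ker hker₁).1 h1
    have hcard : Nat.card V₁ < n := by
      rw [← hVn]
      exact WeaklyClosed.card_lt_of_lt hlt
    have hI := ih _ hcard V₁ rfl (hV₁V.trans hVL) hKV₁ hV₁e hred₁
    intro x hx
    have h1 := hI hx
    have h2 : fL ⟨x, hx.1⟩ = 1 := by
      apply hkey
      intro y hy
      have h3 : y * x = x * y := mem_centralizer_iff.1 h1 y hy
      change x * y * x⁻¹ = y
      rw [← h3]
      group
    refine mem_centralizer_iff.2 ?_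
    intro v hv
    have h3 := congrArg (fun f : MulAut V => ((f ⟨v, hv⟩ : V) : G)) h2
    have h4 : x * v * x⁻¹ = v := h3
    calc v * x = (x * v * x⁻¹) * x := by rw [h4]
      _ = x * v := by group

theorem step_main {L K : Subgroup G} (hLK : L ≤ K) (hKL : K ≤ normalizer (L : Set G)) :
    L ⊓ centralizer (largestPReducedOf p K : Set G) ≤ centralizer (largestPReducedOf p L : Set G) := by
  haveI : (largestPReduced p L).Characteristic := largestPReduced_characteristic
  have hKN : K ≤ normalizer ((largestPReducedOf p L : Subgroup G) : Set G) :=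
    hKL.trans (SchurZ2.normalizer_le_normalizer_map_char L _)
  apply step_aux hLK hKL _ _ rfl (largestPReducedOf_le L) hKN (isElementaryAbelian_largestPReducedOf L)
  obtain ⟨_, _, hn, hcore⟩ := isPReducedNormal_largestPReduced (p := p) (L := L)
  have hC : (actHom (largestPReducedOf p L) (hLK.trans hKN)).ker =
      centralizer ((largestPReduced p L : Subgroup L) : Set L) := by
    rw [actHom_ker _ _ (largestPReducedOf_le L)]
    congr 2
    unfold largestPReducedOf
    exact Subgroup.comap_map_eq_self_of_injective L.subtype_injective _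
  exact (pCore_quotient_eq_bot_iff (p := p) _ _ hC).1 hcore

theorem largestPReducedOf_top (H : Type*) [Group H] [Finite H] :
    largestPReducedOf p (⊤ : Subgroup H) = largestPReduced p H :=
  largestPReduced_map (Subgroup.topEquiv (G := H))

theorem le_centralizer_of_subnormal {L : Subgroup G} (hL : L.IsSubnormal) :
    L ⊓ centralizer (largestPReduced p G : Set G) ≤ centralizer (largestPReducedOf p L : Set G) := by
  induction hL with
  | top =>
    rw [largestPReducedOf_top]
    exact inf_le_right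
  | step L K hLK hK hN ih =>
    have hKL : K ≤ normalizer (L : Set G) := (Subgroup.normal_subgroupOf_iff_le_normalizer hLK).1 hN
    intro x hx
    have h1 := ih ⟨hLK hx.1, hx.2⟩
    exact step_main hLK hKL ⟨hx.1, h1⟩

/-- `C_L(Y ∩ L) ≤ C(Y)` for `Y` `p`-reduced normal and `L` subnormal. -/
theorem inf_centralizer_le {Y L : Subgroup G} (hY : IsPReducedNormal p Y) (hL : L.IsSubnormal) :
    L ⊓ centralizer ((Y ⊓ L : Subgroup G) : Set G) ≤ centralizer (Y : Set G) := by
  obtain ⟨hYn, hYe, hCn, hcore⟩ := hY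
  set C := L ⊓ centralizer ((Y ⊓ L : Subgroup G) : Set G) with hC
  have hCL : C ≤ L := inf_le_left
  have hLC : L ≤ normalizer (C : Set G) := by
    refine le_trans (le_inf Subgroup.le_normalizer ?_) (inf_normalizer_le L _)
    refine le_trans ?_ (FStarAct.normalizer_le_normalizer_centralizer' _)
    refine le_trans (le_inf ?_ Subgroup.le_normalizer) (inf_normalizer_le Y L)
    rw [normalizer_eq_top]; exact le_top
  have hCsub : C.IsSubnormal :=
    Subgroup.IsSubnormal.trans hCL ((Subgroup.normal_subgroupOf_iff_le_normalizer hCL).2 hLC).isSubnormal hL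
  have hCN : C ≤ normalizer (Y : Set G) := by
    rw [normalizer_eq_top]; exact le_top
  obtain ⟨m, hm⟩ := Comps.exists_iter_le hL C Y hCL
  have hIY : ∀ n, Comps.iter C Y n ≤ Y := Comps.iter_le_self hCN
  have hfix : ∀ a ∈ C, (orderOf a).Coprime p → ∀ y ∈ Y, a * y * a⁻¹ = y := by
    intro a ha hco
    have hstep : ∀ k n, n + k = m → ∀ y ∈ Comps.iter C Y n, a * y * a⁻¹ = y := by
      intro k
      induction k with
      | zero =>
        intro n hn y hy
        have hnm : n = m := by omega
        subst hnm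
        have h1 : y * a = a * y := mem_centralizer_iff.1 ha.2 y ⟨hIY _ hy, hm hy⟩
        rw [← h1]; group
      | succ k ih =>
        intro n hn y hy
        have hz : ⁅y, a⁆ ∈ Comps.iter C Y (n + 1) := Subgroup.commutator_mem_commutator hy ha
        have hfz := ih (n + 1) (by omega) _ hz
        set z := ⁅y, a⁆⁻¹ with hzdef
        have hzz : a * z * a⁻¹ = z := by
          have key : ∀ c : G, a * c⁻¹ * a⁻¹ = (a * c * a⁻¹)⁻¹ := fun c => by group
          rw [hzdef, key, hfz]
        have hay : a * y * a⁻¹ = z * y := by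
          rw [hzdef]; simp only [commutatorElement_def]; group
        have hpow : ∀ j : ℕ, a ^ j * y * (a ^ j)⁻¹ = z ^ j * y := by
          intro j
          induction j with
          | zero => simp
          | succ j ih2 =>
            have e1 : a ^ (j + 1) * y * (a ^ (j + 1))⁻¹ = a * (a ^ j * y * (a ^ j)⁻¹) * a⁻¹ := by
              rw [pow_succ']; group
            rw [e1, ih2]
            have e2 : a * (z ^ j * y) * a⁻¹ = (a * z * a⁻¹) ^ j * (a * y * a⁻¹) := by
              rw [conj_pow]; group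
            rw [e2, hzz, hay, pow_succ]
            group
        have h1 := hpow (orderOf a)
        rw [pow_orderOf_eq_one] at h1
        simp only [one_mul, inv_one, mul_one] at h1
        have hz1 : z ^ orderOf a = 1 := by
          have := h1
          exact (mul_eq_right.1 this.symm)
        have hzY : z ∈ Y := by
          have : ⁅y, a⁆ ∈ Y := hIY _ hz
          exact Y.inv_mem this
        have hzp : z ^ p = 1 := hYe.2 z hzY
        have h2 : orderOf z ∣ Nat.gcd (orderOf a) p :=
          Nat.dvd_gcd (orderOf_dvd_of_pow_eq_one hz1) (orderOf_dvd_of_pow_eq_one hzp)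
        rw [hco, Nat.dvd_one, orderOf_eq_one_iff] at h2
        rw [hay, h2, one_mul]
    intro y hy
    exact hstep m 0 (by omega) y hy
  have hp : IsPGroup p (C.map (QuotientGroup.mk' (centralizer (Y : Set G)))) := by
    rintro ⟨_, x, hx, rfl⟩
    obtain ⟨k, m', hm', hkm⟩ := Nat.exists_eq_pow_mul_and_not_dvd (orderOf_pos x).ne' p
      (Fact.out : p.Prime).ne_one
    refine ⟨k, Subtype.ext ?_⟩
    have hord : orderOf (x ^ p ^ k) = m' := by
      rw [orderOf_pow_of_dvd (by
        intro h; exact (pow_ne_zero k (Fact.out : p.Prime).ne_zero) h) (by rw [hkm]; exact dvd_mul_right _ _), hkm]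
      exact Nat.mul_div_cancel_left _ (pow_pos (Fact.out : p.Prime).pos k)
    have h1 := hfix (x ^ p ^ k) (C.pow_mem hx _) (by
      rw [hord]; exact (((Fact.out : p.Prime).coprime_iff_not_dvd).2 hm').symm)
    have h2 : x ^ p ^ k ∈ centralizer (Y : Set G) := by
      refine mem_centralizer_iff.2 ?_
      intro y hy
      have h3 := h1 y hy
      rw [mul_inv_eq_iff_eq_mul] at h3
      exact h3.symm
    change QuotientGroup.mk' _ x ^ p ^ k = 1
    rw [← map_pow]
    exact (QuotientGroup.eq_one_iff _).2 h2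
  have h1 := CharP.le_pCore_of_subnormal (hCsub.map (QuotientGroup.mk'_surjective _)) hp
  rw [hcore] at h1
  intro x hx
  have h2 := h1 ⟨x, hx, rfl⟩
  rw [Subgroup.mem_bot] at h2
  exact (QuotientGroup.eq_one_iff _).1 h2

theorem reduced_inf {Y L : Subgroup G} (hY : IsPReducedNormal p Y) (hL : L.IsSubnormal) :
    IsPReducedNormal p ((Y ⊓ L).subgroupOf L) := by
  have hK := inf_centralizer_le hY hL
  obtain ⟨hYn, hYe, hCn, hcore⟩ := hY
  have hle : Y ⊓ L ≤ L := inf_le_right
  have hnorm : ((Y ⊓ L).subgroupOf L).Normal := by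
    apply (Subgroup.normal_subgroupOf_iff_le_normalizer hle).2
    refine le_trans (le_inf ?_ Subgroup.le_normalizer) (inf_normalizer_le Y L)
    rw [normalizer_eq_top]; exact le_top
  have hYLe : IsElementaryAbelian p (Y ⊓ L) := by
    refine ⟨⟨⟨fun a b => Subtype.ext ?_⟩⟩, fun a ha => hYe.2 a ha.1⟩
    have := hYe.1.is_comm.comm ⟨a, a.2.1⟩ ⟨b, b.2.1⟩
    have h : (a : G) * b = b * a := congrArg Subtype.val this
    exact h
  refine ⟨hnorm, isElementaryAbelian_subgroupOf hYLe, inferInstance, ?_⟩
  let f : L →* G ⧸ centralizer (Y : Set G) := (QuotientGroup.mk' _).comp L.subtype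
  have hf : f.ker = centralizer (((Y ⊓ L).subgroupOf L : Subgroup L) : Set L) := by
    ext l
    rw [mem_centralizer_subgroupOf_iff hle, MonoidHom.mem_ker]
    change (QuotientGroup.mk (l : G) : G ⧸ centralizer (Y : Set G)) = 1 ↔ _
    rw [QuotientGroup.eq_one_iff]
    constructor
    · intro h
      exact Subgroup.centralizer_le (inf_le_left : Y ⊓ L ≤ Y) h
    · intro h
      exact hK ⟨l.2, h⟩
  have hrange : f.range = L.map (QuotientGroup.mk' (centralizer (Y : Set G))) := by
    rw [MonoidHom.range_comp, Subgroup.range_subtype]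
  apply (pCore_quotient_eq_bot_iff (p := p) f _ hf).2
  rw [hrange]
  exact FStarAct.pCore_sub_eq_bot hcore (hL.map (QuotientGroup.mk'_surjective _))

end step

end Cfsg.Agent.Lib.PReducedSub
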