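import Mathlib

set_option autoImplicit false
set_option linter.style.haveILetI false
open scoped Pointwise

namespace Cfsg.Agent.Lib.PSL2Eleven

section a5
set_option maxRecDepth 100000

/-- The alternating group of degree five. -/
abbrev A5 := alternatingGroup (Fin 5)

/-- Double transpositions. -/
def b1 : A5 := ⟨Equiv.swap 0 1 * Equiv.swap 2 3, Equiv.Perm.mem_alternatingGroup.2 (by decide)⟩
/-- Double transpositions. -/
def b2 : A5 := ⟨Equiv.swap 0 2 * Equiv.swap 1 3, Equiv.Perm.mem_alternatingGroup.2 (by decide)⟩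
/-- Double transpositions. -/
def b3 : A5 := ⟨Equiv.swap 0 3 * Equiv.swap 1 2, Equiv.Perm.mem_alternatingGroup.2 (by decide)⟩
/-- A three-cycle. -/
def a0 : A5 := ⟨c[0,1,2], Equiv.Perm.mem_alternatingGroup.2 (by decide)⟩

/-- A Klein four subgroup of `A₅`. -/
def V0 : Subgroup A5 where
  carrier := {x | x = 1 ∨ x = b1 ∨ x = b2 ∨ x = b3}
  one_mem' := Or.inl rfl
  mul_mem' := by
    rintro _ _ (rfl | rfl | rfl | rfl) (rfl | rfl | rfl | rfl) <;> simp only [Set.mem_setOf_eq] <;> decide
  inv_mem' := by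
    rintro _ (rfl | rfl | rfl | rfl) <;> simp only [Set.mem_setOf_eq] <;> decide

theorem card_V0 : Nat.card V0 = 4 := by
  classical
  have e : (V0 : Set A5) = ↑({1, b1, b2, b3} : Finset A5) := by
    ext x
    simp [V0]
  have h1 : Nat.card V0 = Nat.card (↑({1, b1, b2, b3} : Finset A5) : Set A5) :=
    Nat.card_congr (Equiv.setCongr e)
  rw [h1, Nat.card_coe_set_eq, Set.ncard_coe_finset]
  decide

theorem a0_norm (x : A5) (hx : x ∈ V0) : a0 * x * a0⁻¹ ∈ V0 := by
  rcases hx with rfl | rfl | rfl | rfl <;> change _ ∨ _ <;> decide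

theorem a0_pow : a0 ^ 3 = 1 := by decide
theorem a0_ne : a0 ≠ 1 := by decide

theorem card_A5 : Nat.card A5 = 60 := by
  rw [Nat.card_eq_fintype_card]
  decide

end a5

section abstract

variable {G : Type*} [Group G] [Finite G]

theorem no_small_index (H : Subgroup G) (hs : IsSimpleGroup H) (hc : Nat.card H = 60) (K : Subgroup H) (hK : K.index = 2 ∨ K.index = 4) : False := by
  have h1 : K.normalCore = ⊥ ∨ K.normalCore = ⊤ := hs.eq_bot_or_eq_top_of_normal _ (Subgroup.normalCore_normal K)
  rcases h1 with h1 | h1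
  · have h2 : K.normalCore.index ∣ K.index.factorial := by
      rw [Subgroup.normalCore_eq_ker, Subgroup.index_ker, Subgroup.index_eq_card, ← Nat.card_perm]
      exact Subgroup.card_subgroup_dvd_card (MulAction.toPermHom H (H ⧸ K)).range
    rw [h1, Subgroup.index_bot, hc] at h2
    rcases hK with h3 | h3 <;> rw [h3] at h2 <;> norm_num [Nat.factorial] at h2
  · have h2 : K = ⊤ := by
      apply top_le_iff.1
      rw [← h1]
      exact Subgroup.normalCore_le K
    rw [h2, Subgroup.index_top] at hK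
    omega

theorem conj_in_H (H : Subgroup G) (hc : Nat.card H = 60) (W₁ W₂ : Subgroup G) (h1 : W₁ ≤ H) (h2 : W₂ ≤ H)
    (c1 : Nat.card W₁ = 4) (c2 : Nat.card W₂ = 4) :
    ∃ h ∈ H, ∀ v ∈ W₁, h * v * h⁻¹ ∈ W₂ := by
  haveI : Fact (Nat.Prime 2) := ⟨Nat.prime_two⟩
  have key : ∀ W : Subgroup G, W ≤ H → Nat.card W = 4 → ∃ Q : Sylow 2 H, (Q : Subgroup H) = W.subgroupOf H := by
    intro W hW cW
    have e : Nat.card (W.subgroupOf H) = 4 := by
      rw [Nat.card_congr (Subgroup.subgroupOfEquivOfLe hW).toEquiv, cW]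
    have hp : IsPGroup 2 (W.subgroupOf H) := IsPGroup.of_card (n := 2) (by rw [e]; norm_num)
    have hi : ¬ 2 ∣ (W.subgroupOf H).index := by
      have := Subgroup.index_mul_card (W.subgroupOf H)
      rw [e, hc] at this
      have h15 : (W.subgroupOf H).index = 15 := by omega
      rw [h15]
      norm_num
    exact ⟨hp.toSylow hi, IsPGroup.toSylow_coe hp hi⟩
  obtain ⟨Q₁, hQ₁⟩ := key W₁ h1 c1
  obtain ⟨Q₂, hQ₂⟩ := key W₂ h2 c2
  obtain ⟨h, hh⟩ := MulAction.exists_smul_eq H Q₁ Q₂
  refine ⟨h, h.2, fun v hv => ?_⟩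
  have hv' : (⟨v, h1 hv⟩ : H) ∈ (Q₁ : Subgroup H) := by
    rw [hQ₁]
    exact hv
  have h3 : (MulAut.conj h) • (⟨v, h1 hv⟩ : H) ∈ MulAut.conj h • (Q₁ : Subgroup H) :=
    Subgroup.smul_mem_pointwise_smul _ _ _ hv'
  have h4 : MulAut.conj h • (Q₁ : Subgroup H) = (Q₂ : Subgroup H) := by
    rw [← hh]
    rfl
  rw [h4, hQ₂] at h3
  exact h3

theorem main_abstract (hG : Nat.card G = 660) (H : Subgroup G) (e : H ≃* alternatingGroup (Fin 5))
    (hK : 55 ≤ Nat.card (Sylow 2 G)) :
    H.index = 11 ∧ MulAction.IsMultiplyPretransitive G (G ⧸ H) 2 := by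
  classical
  haveI : Fact (Nat.Prime 2) := ⟨Nat.prime_two⟩
  have hc : Nat.card H = 60 := by
    rw [Nat.card_congr e.toEquiv, card_A5]
  have hidx : H.index = 11 := by
    have := Subgroup.index_mul_card H
    rw [hc, hG] at this
    omega
  refine ⟨hidx, ?_⟩
  haveI hsimp : IsSimpleGroup (alternatingGroup (Fin 5)) := alternatingGroup.isSimpleGroup (by simp)
  have hHs : IsSimpleGroup H := e.isSimpleGroup
  let ι : A5 →* G := H.subtype.comp e.symm.toMonoidHom
  have hι : Function.Injective ι := by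
    intro x y hxy
    exact e.symm.injective (Subtype.ext hxy)
  have hιH : ∀ x, ι x ∈ H := fun x => (e.symm x).2
  set V : Subgroup G := V0.map ι with hV
  have cV : Nat.card V = 4 := by
    rw [hV, Nat.card_congr (V0.equivMapOfInjective ι hι).symm.toEquiv, card_V0]
  have hVH : V ≤ H := by
    rintro _ ⟨x, -, rfl⟩
    exact hιH x
  -- the normalizer of `V`
  have hVp : IsPGroup 2 V := IsPGroup.of_card (n := 2) (by rw [cV]; norm_num)
  have hVi : ¬ 2 ∣ V.index := by
    have := Subgroup.index_mul_card V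
    rw [cV, hG] at this
    have h15 : V.index = 165 := by omega
    rw [h15]
    norm_num
  let P : Sylow 2 G := hVp.toSylow hVi
  have hPV : (P : Subgroup G) = V := IsPGroup.toSylow_coe hVp hVi
  have hn : Nat.card (Sylow 2 G) = (Subgroup.normalizer ((P : Subgroup G) : Set G)).index := P.card_eq_index_normalizer
  have hN12 : Nat.card (Subgroup.normalizer ((V : Subgroup G) : Set G)) ≤ 12 := by
    have h1 := Subgroup.index_mul_card (Subgroup.normalizer ((P : Subgroup G) : Set G))
    rw [← hn, hG] at h1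
    rw [← hPV]
    by_contra hcon
    have h2 : 13 ≤ Nat.card (Subgroup.normalizer ((P : Subgroup G) : Set G)) := by omega
    have := Nat.mul_le_mul hK h2
    omega
  -- the normalizer lies in `H`
  set a := ι a0 with ha
  have haH : a ∈ H := hιH a0
  have hanorm : a ∈ Subgroup.normalizer ((V : Subgroup G) : Set G) := by
    rw [Subgroup.mem_normalizer_iff]
    have hinj : ∀ v ∈ V, a * v * a⁻¹ ∈ V := by
      rintro _ ⟨x, hx, rfl⟩
      refine ⟨a0 * x * a0⁻¹, a0_norm x hx, ?_⟩
      simp [ha]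
    have hpow : a ^ 3 = 1 := by rw [ha, ← map_pow, a0_pow, map_one]
    intro v
    constructor
    · exact hinj v
    · intro hv
      have h1 := hinj _ (hinj _ hv)
      have e2 : a * (a * (a * v * a⁻¹) * a⁻¹) * a⁻¹ = v := by
        have : a * (a * (a * v * a⁻¹) * a⁻¹) * a⁻¹ = a ^ 3 * v * (a ^ 3)⁻¹ := by
          simp only [pow_succ, pow_zero, one_mul, mul_inv_rev, mul_assoc]
        rw [this, hpow]
        simp
      rwa [e2] at h1
  have hordera : orderOf a = 3 := by
    apply orderOf_eq_prime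
    · rw [ha, ← map_pow, a0_pow, map_one]
    · intro e0
      apply a0_ne
      apply hι
      rw [← ha, e0, map_one]
  set N : Subgroup G := H ⊓ Subgroup.normalizer ((V : Subgroup G) : Set G) with hN
  have hVN : V ≤ N := le_inf hVH (Subgroup.le_normalizer)
  have h4N : 4 ∣ Nat.card N := by
    rw [← cV]
    exact Subgroup.card_dvd_of_le hVN
  have h3N : 3 ∣ Nat.card N := by
    rw [← hordera, ← Nat.card_zpowers]
    apply Subgroup.card_dvd_of_le
    rw [Subgroup.zpowers_le]
    exact ⟨haH, hanorm⟩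
  have h12N : 12 ∣ Nat.card N := Nat.Coprime.mul_dvd_of_dvd_of_dvd (by norm_num : Nat.Coprime 4 3) h4N h3N
  have hNpos : 0 < Nat.card N := Nat.card_pos
  have hNle : Subgroup.normalizer ((V : Subgroup G) : Set G) ≤ H := by
    have hle : N ≤ Subgroup.normalizer ((V : Subgroup G) : Set G) := inf_le_right
    have hEq : N = Subgroup.normalizer ((V : Subgroup G) : Set G) := by
      apply Subgroup.eq_of_le_of_card_ge hle
      calc Nat.card (Subgroup.normalizer ((V : Subgroup G) : Set G)) ≤ 12 := hN12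
        _ ≤ Nat.card N := Nat.le_of_dvd hNpos h12N
    rw [← hEq]
    exact inf_le_left
  -- conjugates of `V` in `H`
  have L1 : ∀ x : G, (∀ v ∈ V, x * v * x⁻¹ ∈ H) → x ∈ H := by
    intro x hx
    set W : Subgroup G := V.map (MulAut.conj x).toMonoidHom with hW
    have cW : Nat.card W = 4 := by
      rw [hW, Nat.card_congr (V.equivMapOfInjective _ (MulAut.conj x).injective).symm.toEquiv, cV]
    have hWH : W ≤ H := by
      rintro _ ⟨v, hv, rfl⟩
      exact hx v hv
    obtain ⟨h, hh, hv⟩ := conj_in_H H hc V W hVH hWH cV cW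
    have h1 : x⁻¹ * h ∈ Subgroup.normalizer ((V : Subgroup G) : Set G) := by
      have hsub : ∀ v ∈ V, (x⁻¹ * h) * v * (x⁻¹ * h)⁻¹ ∈ V := by
        intro v hv'
        obtain ⟨u, hu, e⟩ := hv v hv'
        have e' : x * u * x⁻¹ = h * v * h⁻¹ := e
        have : (x⁻¹ * h) * v * (x⁻¹ * h)⁻¹ = u := by
          calc (x⁻¹ * h) * v * (x⁻¹ * h)⁻¹ = x⁻¹ * (h * v * h⁻¹) * x := by group
            _ = u := by rw [← e']; group
        rw [this]
        exact hu
      rw [Subgroup.mem_normalizer_iff]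
      intro v
      constructor
      · exact hsub v
      · intro hv2
        -- the conjugation map is injective on the finite set `V`
        let f : V → V := fun u => ⟨(x⁻¹ * h) * u * (x⁻¹ * h)⁻¹, hsub u u.2⟩
        have hf : Function.Injective f := by
          intro u₁ u₂ hu
          have := congrArg Subtype.val hu
          simp only [f] at this
          exact Subtype.ext (by simpa using this)
        have hs := (Finite.injective_iff_surjective.1 hf) ⟨_, hv2⟩
        obtain ⟨u, hu⟩ := hs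
        have := congrArg Subtype.val hu
        simp only [f] at this
        have e3 : (u : G) = v := by simpa using this
        rw [← e3]
        exact u.2
    have h2 := hNle h1
    have h3 : x = h * (x⁻¹ * h)⁻¹ := by group
    rw [h3]
    exact H.mul_mem hh (H.inv_mem h2)
  -- orbits of `H` on the cosets
  let x₀ : G ⧸ H := ((1 : G) : G ⧸ H)
  have hstab : ∀ g : G, (g : G ⧸ H) ≠ x₀ → 6 ≤ (MulAction.orbit H (g : G ⧸ H)).ncard := by
    intro g hg
    set K := MulAction.stabilizer H (g : G ⧸ H) with hK'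
    have hidxK : K.index = (MulAction.orbit H (g : G ⧸ H)).ncard := MulAction.index_stabilizer H _
    have hmul : K.index * Nat.card K = 60 := by
      rw [Subgroup.index_mul_card, hc]
    have h4 : ¬ 4 ∣ Nat.card K := by
      intro h4
      obtain ⟨W', hW'⟩ := Sylow.exists_subgroup_card_pow_prime (G := K) 2 (n := 2) (by simpa using h4)
      set W : Subgroup G := (W'.map K.subtype).map H.subtype with hW
      have cW : Nat.card W = 4 := by
        rw [hW, Nat.card_congr ((W'.map K.subtype).equivMapOfInjective _ H.subtype_injective).symm.toEquiv,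
          Nat.card_congr (W'.equivMapOfInjective _ K.subtype_injective).symm.toEquiv, hW']
        norm_num
      have hWH : W ≤ H := by
        rintro _ ⟨y, -, rfl⟩
        exact y.2
      obtain ⟨h, hh, hv⟩ := conj_in_H H hc V W hVH hWH cV cW
      apply hg
      have h5 : g⁻¹ * h ∈ H := by
        apply L1
        intro v hv'
        obtain ⟨y, hy, e⟩ := hv v hv'
        obtain ⟨z, hz, e2⟩ := hy
        have hzK : ((z : K) : H) • (g : G ⧸ H) = (g : G ⧸ H) := z.2
        have e3 : ((((z : K) : H) : G) * g : G) = ((g : G)) * (g⁻¹ * ((z : K) : H) * g) := by group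
        have hmem : g⁻¹ * (((z : K) : H) : G) * g ∈ H := by
          have h6 : (((((z : K) : H) : G) * g : G) : G ⧸ H) = (g : G ⧸ H) := hzK
          rw [eq_comm, QuotientGroup.eq] at h6
          simpa [mul_assoc] using h6
        have e4 : h * v * h⁻¹ = ((z : K) : H) := by
          rw [← e]
          rw [← e2]
          rfl
        have : (g⁻¹ * h) * v * (g⁻¹ * h)⁻¹ = g⁻¹ * (((z : K) : H) : G) * g := by
          rw [← e4]
          group
        rw [this]
        exact hmem
      have h7 : (g : G ⧸ H) = x₀ := by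
        change (g : G ⧸ H) = ((1 : G) : G ⧸ H)
        rw [QuotientGroup.eq]
        have : g⁻¹ * 1 = (g⁻¹ * h) * h⁻¹ := by group
        rw [this]
        exact H.mul_mem h5 (H.inv_mem hh)
      exact h7
    rw [← hidxK]
    by_contra hlt
    have hlt' : K.index < 6 := by omega
    generalize hk : K.index = k at hmul hlt'
    generalize hc' : Nat.card K = c at hmul h4
    interval_cases k
    · omega
    · apply h4
      have : c = 60 := by omega
      rw [this]
      norm_num
    · exact no_small_index H hHs hc K (Or.inl hk)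
    · apply h4
      have : c = 20 := by omega
      rw [this]
      norm_num
    · exact no_small_index H hHs hc K (Or.inr hk)
    · apply h4
      have : c = 12 := by omega
      rw [this]
      norm_num
  have hcardX : Nat.card (G ⧸ H) = 11 := hidx
  haveI : Fintype (G ⧸ H) := Fintype.ofFinite _
  have htrans : ∀ y y' : G ⧸ H, y ≠ x₀ → y' ≠ x₀ → ∃ h : H, h • y = y' := by
    intro y y' hy hy'
    by_contra hcon
    obtain ⟨g, rfl⟩ := QuotientGroup.mk_surjective y
    obtain ⟨g', rfl⟩ := QuotientGroup.mk_surjective y'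
    have h1 := hstab g hy
    have h2 := hstab g' hy'
    have hfix : ∀ h : H, (h : H) • x₀ = x₀ := by
      intro h
      change (((h : G) * 1 : G) : G ⧸ H) = ((1 : G) : G ⧸ H)
      rw [QuotientGroup.eq]
      simpa using h.2
    have hdisj : Disjoint (MulAction.orbit H ((g : G) : G ⧸ H)) (MulAction.orbit H ((g' : G) : G ⧸ H)) := by
      rw [Set.disjoint_left]
      rintro _ ⟨a₁, rfl⟩ ⟨a₂, ha₂⟩
      apply hcon
      refine ⟨a₂⁻¹ * a₁, ?_⟩
      change (a₂⁻¹ * a₁) • ((g : G) : G ⧸ H) = ((g' : G) : G ⧸ H)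
      rw [mul_smul]
      change a₂⁻¹ • (a₁ • ((g : G) : G ⧸ H)) = _
      have e5 : a₁ • ((g : G) : G ⧸ H) = a₂ • ((g' : G) : G ⧸ H) := ha₂.symm
      rw [e5, inv_smul_smul]
    have hsub : MulAction.orbit H ((g : G) : G ⧸ H) ∪ MulAction.orbit H ((g' : G) : G ⧸ H) ⊆ {x₀}ᶜ := by
      have hOrb : ∀ z : G ⧸ H, z ≠ x₀ → MulAction.orbit H z ⊆ {x₀}ᶜ := by
        rintro z hz _ ⟨a₁, rfl⟩ hmem
        apply hz
        have : a₁ • z = x₀ := hmem
        have h9 : z = a₁⁻¹ • x₀ := by rw [← this, inv_smul_smul]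
        rw [h9, hfix]
      exact Set.union_subset (hOrb _ hy) (hOrb _ hy')
    have hc1 := Set.ncard_le_ncard hsub (Set.toFinite _)
    rw [Set.ncard_union_eq hdisj (Set.toFinite _) (Set.toFinite _), Set.ncard_compl, Set.ncard_singleton, hcardX] at hc1
    omega
  -- two-transitivity
  rw [MulAction.isMultiplyPretransitive_iff]
  have htr0 : ∀ a : G ⧸ H, ∃ g : G, g • a = x₀ := by
    intro a
    obtain ⟨g, rfl⟩ := QuotientGroup.mk_surjective a
    refine ⟨g⁻¹, ?_⟩
    change ((g⁻¹ * g : G) : G ⧸ H) = ((1 : G) : G ⧸ H)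
    rw [inv_mul_cancel]
  intro x y
  obtain ⟨g₁, hg₁⟩ := htr0 (x 0)
  obtain ⟨g₂, hg₂⟩ := htr0 (y 0)
  have hne : ∀ (z : Fin 2 ↪ G ⧸ H) (g : G), g • z 0 = x₀ → g • z 1 ≠ x₀ := by
    intro z g h1 h2
    have : z 0 = z 1 := smul_left_cancel g (h1.trans h2.symm)
    exact absurd (z.injective this) (by decide)
  obtain ⟨h, hh⟩ := htrans _ _ (hne x g₁ hg₁) (hne y g₂ hg₂)
  refine ⟨g₂⁻¹ * (h : G) * g₁, ?_⟩
  have hfix' : (h : G) • x₀ = x₀ := by
    change (((h : G) * 1 : G) : G ⧸ H) = ((1 : G) : G ⧸ H)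
    rw [QuotientGroup.eq]
    simpa using h.2
  ext i
  fin_cases i
  · change (g₂⁻¹ * (h : G) * g₁) • x 0 = y 0
    rw [mul_smul, mul_smul, hg₁, hfix', ← hg₂, inv_smul_smul]
  · change (g₂⁻¹ * (h : G) * g₁) • x 1 = y 1
    have hh' : (h : G) • (g₁ • x 1) = g₂ • y 1 := hh
    rw [mul_smul, mul_smul, hh', inv_smul_smul]

end abstract

end Cfsg.Agent.Lib.PSL2Eleven
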