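import Mathlib
import Cfsg.Agent.Lib.PSL2Eleven

/-! Subgroups `A₅` in a group of order 660. -/

set_option autoImplicit false
set_option linter.style.haveILetI false
open scoped Pointwise

namespace Cfsg.Agent.Lib.PSL2Eleven2

open Cfsg.Agent.Lib.PSL2Eleven

variable {G : Type*} [Group G] [Finite G]

theorem mem_norm_of_sub (V : Subgroup G) (g : G) (h : ∀ v ∈ V, g * v * g⁻¹ ∈ V) :
    g ∈ Subgroup.normalizer ((V : Subgroup G) : Set G) := by
  rw [Subgroup.mem_normalizer_iff]
  intro v
  constructor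
  · exact h v
  · intro hv2
    let f : V → V := fun u => ⟨g * u * g⁻¹, h u u.2⟩
    have hf : Function.Injective f := by
      intro u₁ u₂ hu
      have := congrArg Subtype.val hu
      simp only [f] at this
      exact Subtype.ext (by simpa using this)
    obtain ⟨u, hu⟩ := (Finite.injective_iff_surjective.1 hf) ⟨_, hv2⟩
    have := congrArg Subtype.val hu
    simp only [f] at this
    have e3 : (u : G) = v := by simpa using this
    rw [← e3]
    exact u.2

theorem norm_le (hG : Nat.card G = 660) (hK : 55 ≤ Nat.card (Sylow 2 G)) (V : Subgroup G) (cV : Nat.card V = 4) :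
    Nat.card (Subgroup.normalizer ((V : Subgroup G) : Set G)) ≤ 12 := by
  haveI : Fact (Nat.Prime 2) := ⟨Nat.prime_two⟩
  have hVp : IsPGroup 2 V := IsPGroup.of_card (n := 2) (by rw [cV]; norm_num)
  have hVi : ¬ 2 ∣ V.index := by
    have := Subgroup.index_mul_card V
    rw [cV, hG] at this
    have h15 : V.index = 165 := by omega
    rw [h15]
    norm_num
  let P : Sylow 2 G := hVp.toSylow hVi
  have hPV : (P : Subgroup G) = V := IsPGroup.toSylow_coe hVp hVi
  have hn : Nat.card (Sylow 2 G) = (Subgroup.normalizer ((P : Subgroup G) : Set G)).index := P.card_eq_index_normalizer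
  have h1 := Subgroup.index_mul_card (Subgroup.normalizer ((P : Subgroup G) : Set G))
  rw [← hn, hG] at h1
  rw [← hPV]
  by_contra hcon
  have h2 : 13 ≤ Nat.card (Subgroup.normalizer ((P : Subgroup G) : Set G)) := by omega
  have := Nat.mul_le_mul hK h2
  omega

section H

variable (hG : Nat.card G = 660) (hK : 55 ≤ Nat.card (Sylow 2 G)) (H : Subgroup G)
  (e : H ≃* alternatingGroup (Fin 5)) (V : Subgroup G) (cV : Nat.card V = 4) (hVH : V ≤ H)

include e in
theorem card_H : Nat.card H = 60 := by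
  rw [Nat.card_congr e.toEquiv, card_A5]

include hG hK e cV hVH in
theorem norm_le_H : Subgroup.normalizer ((V : Subgroup G) : Set G) ≤ H := by
  have hc := card_H H e
  let ι : A5 →* G := H.subtype.comp e.symm.toMonoidHom
  have hι : Function.Injective ι := by
    intro x y hxy
    exact e.symm.injective (Subtype.ext hxy)
  have hιH : ∀ x, ι x ∈ H := fun x => (e.symm x).2
  set V₁ : Subgroup G := V0.map ι with hV₁
  have cV₁ : Nat.card V₁ = 4 := by
    rw [hV₁, Nat.card_congr (V0.equivMapOfInjective ι hι).symm.toEquiv, card_V0]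
  have hV₁H : V₁ ≤ H := by
    rintro _ ⟨x, -, rfl⟩
    exact hιH x
  obtain ⟨h, hh, hv⟩ := conj_in_H H hc V₁ V hV₁H hVH cV₁ cV
  -- every element of `V` is a conjugate of an element of `V₁`
  have hsurj : ∀ v ∈ V, ∃ u ∈ V₁, h * u * h⁻¹ = v := by
    intro v hv'
    let f : V₁ → V := fun u => ⟨h * u * h⁻¹, hv u u.2⟩
    have hf : Function.Injective f := by
      intro u₁ u₂ hu
      have := congrArg Subtype.val hu
      simp only [f] at this
      exact Subtype.ext (by simpa using this)
    have hb : Function.Bijective f := by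
      rw [Nat.bijective_iff_injective_and_card]
      exact ⟨hf, by rw [cV₁, cV]⟩
    obtain ⟨u, hu⟩ := hb.2 ⟨v, hv'⟩
    exact ⟨u, u.2, congrArg Subtype.val hu⟩
  set a := h * ι a0 * h⁻¹ with ha
  have haH : a ∈ H := H.mul_mem (H.mul_mem hh (hιH a0)) (H.inv_mem hh)
  have hanorm : a ∈ Subgroup.normalizer ((V : Subgroup G) : Set G) := by
    apply mem_norm_of_sub
    intro v hv'
    obtain ⟨u, hu, rfl⟩ := hsurj v hv'
    obtain ⟨x, hx, rfl⟩ := hu
    have e1 : a * (h * ι x * h⁻¹) * a⁻¹ = h * ι (a0 * x * a0⁻¹) * h⁻¹ := by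
      rw [ha]
      simp only [map_mul, map_inv]
      group
    rw [e1]
    exact hv _ ⟨_, a0_norm x hx, rfl⟩
  have hordera : orderOf a = 3 := by
    apply orderOf_eq_prime
    · have : a ^ 3 = h * (ι a0) ^ 3 * h⁻¹ := by
        rw [ha]
        exact conj_pow
      rw [this, ← map_pow, a0_pow, map_one]
      simp
    · intro e0
      apply a0_ne
      apply hι
      rw [map_one]
      have : ι a0 = h⁻¹ * a * h := by
        rw [ha]
        group
      rw [this, e0]
      simp
  set N : Subgroup G := H ⊓ Subgroup.normalizer ((V : Subgroup G) : Set G) with hN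
  have hVN : V ≤ N := le_inf hVH (Subgroup.le_normalizer)
  have h4N : 4 ∣ Nat.card N := by
    rw [← cV]
    exact Subgroup.card_dvd_of_le hVN
  have h3N : 3 ∣ Nat.card N := by
    rw [← hordera, ← Nat.card_zpowers]
    apply Subgroup.card_dvd_of_le
    rw [Subgroup.zpowers_le]
    exact ⟨haH, hanorm⟩
  have h12N : 12 ∣ Nat.card N := Nat.Coprime.mul_dvd_of_dvd_of_dvd (by norm_num : Nat.Coprime 4 3) h4N h3N
  have hNpos : 0 < Nat.card N := Nat.card_pos
  have hle : N ≤ Subgroup.normalizer ((V : Subgroup G) : Set G) := inf_le_right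
  have hEq : N = Subgroup.normalizer ((V : Subgroup G) : Set G) := by
    apply Subgroup.eq_of_le_of_card_ge hle
    calc Nat.card (Subgroup.normalizer ((V : Subgroup G) : Set G)) ≤ 12 := norm_le hG hK V cV
      _ ≤ Nat.card N := Nat.le_of_dvd hNpos h12N
  rw [← hEq]
  exact inf_le_left

include hG hK e cV hVH in
theorem conj_mem (x : G) (hx : ∀ v ∈ V, x * v * x⁻¹ ∈ H) : x ∈ H := by
  have hc := card_H H e
  have hNle := norm_le_H hG hK H e V cV hVH
  set W : Subgroup G := V.map (MulAut.conj x).toMonoidHom with hW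
  have cW : Nat.card W = 4 := by
    rw [hW, Nat.card_congr (V.equivMapOfInjective _ (MulAut.conj x).injective).symm.toEquiv, cV]
  have hWH : W ≤ H := by
    rintro _ ⟨v, hv, rfl⟩
    exact hx v hv
  obtain ⟨h, hh, hv⟩ := conj_in_H H hc V W hVH hWH cV cW
  have h1 : x⁻¹ * h ∈ Subgroup.normalizer ((V : Subgroup G) : Set G) := by
    apply mem_norm_of_sub
    intro v hv'
    obtain ⟨u, hu, e1⟩ := hv v hv'
    have e' : x * u * x⁻¹ = h * v * h⁻¹ := e1
    have : (x⁻¹ * h) * v * (x⁻¹ * h)⁻¹ = u := by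
      calc (x⁻¹ * h) * v * (x⁻¹ * h)⁻¹ = x⁻¹ * (h * v * h⁻¹) * x := by group
        _ = u := by rw [← e']; group
    rw [this]
    exact hu
  have h2 := hNle h1
  have h3 : x = h * (x⁻¹ * h)⁻¹ := by group
  rw [h3]
  exact H.mul_mem hh (H.inv_mem h2)

end H

theorem conj_smul_mem (L : Subgroup G) (g x : G) : x ∈ MulAut.conj g • L ↔ g⁻¹ * x * g ∈ L := by
  rw [Subgroup.mem_smul_pointwise_iff_exists]
  constructor
  · rintro ⟨y, hy, rfl⟩
    have : g⁻¹ * (MulAut.conj g • y) * g = y := by
      change g⁻¹ * (g * y * g⁻¹) * g = y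
      group
    rw [this]
    exact hy
  · intro h
    refine ⟨_, h, ?_⟩
    change g * (g⁻¹ * x * g) * g⁻¹ = x
    group

theorem iso_conj (L : Subgroup G) (g : G) (h : Nonempty (L ≃* alternatingGroup (Fin 5))) :
    Nonempty ((MulAut.conj g • L : Subgroup G) ≃* alternatingGroup (Fin 5)) := by
  obtain ⟨e⟩ := h
  have e1 : MulAut.conj g • L = L.map (MulAut.conj g).toMonoidHom := rfl
  rw [e1]
  exact ⟨((MulAut.conj g).subgroupMap L).symm.trans e⟩

theorem conj_smul_self (L : Subgroup G) (g : G) (hg : g ∈ L) : MulAut.conj g • L = L := by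
  ext x
  rw [conj_smul_mem]
  constructor
  · intro h
    have : x = g * (g⁻¹ * x * g) * g⁻¹ := by group
    rw [this]
    exact L.mul_mem (L.mul_mem hg h) (L.inv_mem hg)
  · intro h
    exact L.mul_mem (L.mul_mem (L.inv_mem hg) h) hg

theorem abstract_count (hG : Nat.card G = 660) (hK : 55 ≤ Nat.card (Sylow 2 G)) (V H₀ K₀ : Subgroup G)
    (cV : Nat.card V = 4) (hVH : V ≤ H₀) (hVK : V ≤ K₀) (e₁ : H₀ ≃* alternatingGroup (Fin 5))
    (e₂ : K₀ ≃* alternatingGroup (Fin 5)) (hne : H₀ ≠ K₀)
    (hcl : ∀ L : Subgroup G, Nonempty (L ≃* alternatingGroup (Fin 5)) →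
      Subgroup.normalizer ((V : Subgroup G) : Set G) ≤ L → L = H₀ ∨ L = K₀) :
    Nat.card {H : Subgroup G // Nonempty (H ≃* alternatingGroup (Fin 5))} = 22 ∧
    ∃ H K : Subgroup G, Nonempty (H ≃* alternatingGroup (Fin 5)) ∧ Nonempty (K ≃* alternatingGroup (Fin 5)) ∧
      (∀ g : G, MulAut.conj g • H ≠ K) ∧
      ∀ L : Subgroup G, Nonempty (L ≃* alternatingGroup (Fin 5)) → ∃ g : G, MulAut.conj g • L = H ∨ MulAut.conj g • L = K := by
  classical
  haveI : Fact (Nat.Prime 2) := ⟨Nat.prime_two⟩
  have hC : ∀ L : Subgroup G, Nonempty (L ≃* alternatingGroup (Fin 5)) →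
      ∃ g : G, MulAut.conj g • L = H₀ ∨ MulAut.conj g • L = K₀ := by
    intro L hL
    obtain ⟨e⟩ := id hL
    have hc := card_H L e
    obtain ⟨W', hW'⟩ := Sylow.exists_subgroup_card_pow_prime (G := L) 2 (n := 2) (by rw [hc]; norm_num)
    set W : Subgroup G := W'.map L.subtype with hW
    have cW : Nat.card W = 4 := by
      rw [hW, Nat.card_congr (W'.equivMapOfInjective _ L.subtype_injective).symm.toEquiv, hW']
      norm_num
    have hWL : W ≤ L := by
      rintro _ ⟨y, -, rfl⟩
      exact y.2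
    have key : ∀ U : Subgroup G, Nat.card U = 4 → ∃ Q : Sylow 2 G, (Q : Subgroup G) = U := by
      intro U cU
      have hp : IsPGroup 2 U := IsPGroup.of_card (n := 2) (by rw [cU]; norm_num)
      have hi : ¬ 2 ∣ U.index := by
        have := Subgroup.index_mul_card U
        rw [cU, hG] at this
        have h15 : U.index = 165 := by omega
        rw [h15]
        norm_num
      exact ⟨hp.toSylow hi, IsPGroup.toSylow_coe hp hi⟩
    obtain ⟨Q₁, hQ₁⟩ := key W cW
    obtain ⟨Q₂, hQ₂⟩ := key V cV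
    obtain ⟨g, hg⟩ := MulAction.exists_smul_eq G Q₁ Q₂
    have h4 : MulAut.conj g • (Q₁ : Subgroup G) = (Q₂ : Subgroup G) := by
      rw [← hg]
      rfl
    rw [hQ₁, hQ₂] at h4
    have hL' := iso_conj L g hL
    obtain ⟨e'⟩ := id hL'
    have hVL' : V ≤ MulAut.conj g • L := by
      rw [← h4]
      intro x hx
      rw [conj_smul_mem] at hx ⊢
      exact hWL hx
    refine ⟨g, hcl _ hL' (norm_le_H hG hK _ e' V cV hVL')⟩
  have hN : ∀ g : G, MulAut.conj g • H₀ ≠ K₀ := by
    intro g hg
    apply hne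
    have hmem : g⁻¹ ∈ H₀ := by
      apply conj_mem hG hK H₀ e₁ V cV hVH
      intro v hv
      have := hVK hv
      rw [← hg, conj_smul_mem] at this
      simpa using this
    have hg' : g ∈ H₀ := by simpa using H₀.inv_mem hmem
    rw [← hg, conj_smul_self _ _ hg']
  refine ⟨?_, H₀, K₀, ⟨e₁⟩, ⟨e₂⟩, hN, hC⟩
  -- counting
  let f : (G ⧸ H₀) ⊕ (G ⧸ K₀) → {H : Subgroup G // Nonempty (H ≃* alternatingGroup (Fin 5))} := fun c =>
    match c with
    | Sum.inl c => ⟨MulAut.conj c.out • H₀, iso_conj _ _ ⟨e₁⟩⟩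
    | Sum.inr c => ⟨MulAut.conj c.out • K₀, iso_conj _ _ ⟨e₂⟩⟩
  have hf : Function.Bijective f := by
    constructor
    · have aux : ∀ (M : Subgroup G) (eM : M ≃* alternatingGroup (Fin 5)) (hVM : V ≤ M) (c c' : G ⧸ M),
          MulAut.conj c.out • M = MulAut.conj c'.out • M → c = c' := by
        intro M eM hVM c c' h
        have hmem : c'.out⁻¹ * c.out ∈ M := by
          apply conj_mem hG hK M eM V cV hVM
          intro v hv
          have h1 : c.out * v * c.out⁻¹ ∈ MulAut.conj c.out • M := by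
            rw [conj_smul_mem]
            have : c.out⁻¹ * (c.out * v * c.out⁻¹) * c.out = v := by group
            rw [this]
            exact hVM hv
          rw [h, conj_smul_mem] at h1
          have : c'.out⁻¹ * c.out * v * (c'.out⁻¹ * c.out)⁻¹ = c'.out⁻¹ * (c.out * v * c.out⁻¹) * c'.out := by group
          rw [this]
          exact h1
        rw [← QuotientGroup.out_eq' c, ← QuotientGroup.out_eq' c']
        exact (QuotientGroup.eq.2 (by simpa using (M.inv_mem hmem))) 
      rintro (c | c) (c' | c') h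
      · have h1 := congrArg Subtype.val h
        rw [aux H₀ e₁ hVH c c' h1]
      · exfalso
        have h1 : MulAut.conj c.out • H₀ = MulAut.conj c'.out • K₀ := congrArg Subtype.val h
        apply hN (c'.out⁻¹ * c.out)
        ext x
        rw [conj_smul_mem]
        have h2 : c'.out * x * c'.out⁻¹ ∈ MulAut.conj c'.out • K₀ ↔ x ∈ K₀ := by
          rw [conj_smul_mem]
          have : c'.out⁻¹ * (c'.out * x * c'.out⁻¹) * c'.out = x := by group
          rw [this]
        rw [← h2, ← h1, conj_smul_mem]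
        have : (c'.out⁻¹ * c.out)⁻¹ * x * (c'.out⁻¹ * c.out) = c.out⁻¹ * (c'.out * x * c'.out⁻¹) * c.out := by group
        rw [this]
      · exfalso
        have h1 : MulAut.conj c.out • K₀ = MulAut.conj c'.out • H₀ := congrArg Subtype.val h
        apply hN (c.out⁻¹ * c'.out)
        ext x
        rw [conj_smul_mem]
        have h2 : c.out * x * c.out⁻¹ ∈ MulAut.conj c.out • K₀ ↔ x ∈ K₀ := by
          rw [conj_smul_mem]
          have : c.out⁻¹ * (c.out * x * c.out⁻¹) * c.out = x := by group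
          rw [this]
        rw [← h2, h1, conj_smul_mem]
        have : (c.out⁻¹ * c'.out)⁻¹ * x * (c.out⁻¹ * c'.out) = c'.out⁻¹ * (c.out * x * c.out⁻¹) * c'.out := by group
        rw [this]
      · have h1 := congrArg Subtype.val h
        rw [aux K₀ e₂ hVK c c' h1]
    · rintro ⟨L, hL⟩
      have aux2 : ∀ (M : Subgroup G) (g : G), ∃ c : G ⧸ M, MulAut.conj c.out • M = MulAut.conj g • M := by
        intro M g
        refine ⟨(g : G ⧸ M), ?_⟩
        have hm : g⁻¹ * ((g : G ⧸ M)).out ∈ M := by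
          have := QuotientGroup.out_eq' (g : G ⧸ M)
          exact QuotientGroup.eq.1 this.symm
        ext x
        rw [conj_smul_mem, conj_smul_mem]
        set y := ((g : G ⧸ M)).out with hy
        have e1 : y⁻¹ * x * y = (g⁻¹ * y)⁻¹ * (g⁻¹ * x * g) * (g⁻¹ * y) := by group
        rw [e1]
        constructor
        · intro h
          have : g⁻¹ * x * g = (g⁻¹ * y) * ((g⁻¹ * y)⁻¹ * (g⁻¹ * x * g) * (g⁻¹ * y)) * (g⁻¹ * y)⁻¹ := by group
          rw [this]
          exact M.mul_mem (M.mul_mem hm h) (M.inv_mem hm)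
        · intro h
          exact M.mul_mem (M.mul_mem (M.inv_mem hm) h) hm
      obtain ⟨g, hg | hg⟩ := hC L hL
      · obtain ⟨c, hc⟩ := aux2 H₀ g⁻¹
        refine ⟨Sum.inl c, Subtype.ext ?_⟩
        change MulAut.conj c.out • H₀ = L
        rw [hc, ← hg, smul_smul]
        simp
      · obtain ⟨c, hc⟩ := aux2 K₀ g⁻¹
        refine ⟨Sum.inr c, Subtype.ext ?_⟩
        change MulAut.conj c.out • K₀ = L
        rw [hc, ← hg, smul_smul]
        simp
  rw [← Nat.card_congr (Equiv.ofBijective f hf), Nat.card_sum]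
  have h1 : Nat.card (G ⧸ H₀) = 11 := by
    have := Subgroup.index_mul_card H₀
    rw [card_H H₀ e₁, hG] at this
    change H₀.index = 11
    omega
  have h2 : Nat.card (G ⧸ K₀) = 11 := by
    have := Subgroup.index_mul_card K₀
    rw [card_H K₀ e₂, hG] at this
    change K₀.index = 11
    omega
  rw [h1, h2]

end Cfsg.Agent.Lib.PSL2Eleven2
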