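import Mathlib
import Cfsg.Agent.Lib.PSL2Eleven2
import Cfsg.Agent.Lib.PSL2Inv

/-! Explicit computations in `SL₂(11)`: the group `2.A₅` and its conjugate under the diagonal
automorphism. -/

set_option autoImplicit false
set_option linter.all false
set_option maxRecDepth 100000

open scoped MatrixGroups

namespace Cfsg.Agent.Lib.PSL2Eleven3

instance fact11 : Fact (Nat.Prime 11) := ⟨by norm_num⟩

abbrev S := SL(2, ZMod 11)

def enc (a b c d : ℕ) : ℕ := a * 1331 + b * 121 + c * 11 + d
def d0 (x : ℕ) : ℕ := x / 1331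
def d1 (x : ℕ) : ℕ := x / 121 % 11
def d2 (x : ℕ) : ℕ := x / 11 % 11
def d3 (x : ℕ) : ℕ := x % 11

def mulc (x y : ℕ) : ℕ :=
  enc ((d0 x * d0 y + d1 x * d2 y) % 11) ((d0 x * d1 y + d1 x * d3 y) % 11)
    ((d2 x * d0 y + d3 x * d2 y) % 11) ((d2 x * d1 y + d3 x * d3 y) % 11)

def dlt (x : ℕ) : ℕ := enc (d0 x) ((11 - d1 x) % 11) ((11 - d2 x) % 11) (d3 x)

def detc (x : ℕ) : Bool := Nat.beq ((d0 x * d3 x) % 11) ((d1 x * d2 x + 1) % 11)

def okc (x : ℕ) : Bool := Nat.ble x 14640 && detc x

def meml (l : List ℕ) (x : ℕ) : Bool := l.any (fun y => Nat.beq x y)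

theorem meml_iff (l : List ℕ) (x : ℕ) : meml l x = true ↔ x ∈ l := by
  unfold meml
  simp only [List.any_eq_true, Nat.beq_eq]
  constructor
  · rintro ⟨y, hy, rfl⟩
    exact hy
  · intro h
    exact ⟨x, h, rfl⟩

def tup (M : S) : ℕ := enc (M 0 0).val (M 0 1).val (M 1 0).val (M 1 1).val

theorem d_enc {a b c d : ℕ} (ha : a < 11) (hb : b < 11) (hc : c < 11) (hd : d < 11) :
    d0 (enc a b c d) = a ∧ d1 (enc a b c d) = b ∧ d2 (enc a b c d) = c ∧ d3 (enc a b c d) = d := by
  unfold d0 d1 d2 d3 enc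
  omega

theorem enc_d {x : ℕ} (hx : x < 14641) : enc (d0 x) (d1 x) (d2 x) (d3 x) = x := by
  unfold d0 d1 d2 d3 enc
  omega

theorem vlt (x : ZMod 11) : x.val < 11 := ZMod.val_lt x

theorem tup_d (M : S) : d0 (tup M) = (M 0 0).val ∧ d1 (tup M) = (M 0 1).val ∧
    d2 (tup M) = (M 1 0).val ∧ d3 (tup M) = (M 1 1).val :=
  d_enc (vlt _) (vlt _) (vlt _) (vlt _)

theorem tup_lt (M : S) : tup M < 14641 := by
  have h0 := vlt (M 0 0)
  have h1 := vlt (M 0 1)
  have h2 := vlt (M 1 0)
  have h3 := vlt (M 1 1)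
  unfold tup enc
  omega

theorem mul_ij (M N : S) (i j : Fin 2) : (M * N) i j = M i 0 * N 0 j + M i 1 * N 1 j := by
  rw [Matrix.SpecialLinearGroup.coe_mul, Matrix.mul_apply, Fin.sum_univ_two]

theorem tup_mul (M N : S) : tup (M * N) = mulc (tup M) (tup N) := by
  obtain ⟨a0, a1, a2, a3⟩ := tup_d M
  obtain ⟨b0, b1, b2, b3⟩ := tup_d N
  unfold mulc
  rw [a0, a1, a2, a3, b0, b1, b2, b3]
  unfold tup
  simp only [mul_ij, ZMod.val_add, ZMod.val_mul, ← Nat.add_mod]

theorem tup_inj {M N : S} (h : tup M = tup N) : M = N := by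
  obtain ⟨a0, a1, a2, a3⟩ := tup_d M
  obtain ⟨b0, b1, b2, b3⟩ := tup_d N
  rw [h] at a0 a1 a2 a3
  ext i j
  fin_cases i <;> fin_cases j
  · exact ZMod.val_injective 11 (a0.symm.trans b0)
  · exact ZMod.val_injective 11 (a1.symm.trans b1)
  · exact ZMod.val_injective 11 (a2.symm.trans b2)
  · exact ZMod.val_injective 11 (a3.symm.trans b3)

theorem okc_tup (M : S) : okc (tup M) = true := by
  obtain ⟨a0, a1, a2, a3⟩ := tup_d M
  have hl := tup_lt M
  unfold okc detc
  rw [Bool.and_eq_true, Nat.ble_eq, Nat.beq_eq]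
  refine ⟨by omega, ?_⟩
  rw [a0, a1, a2, a3]
  have hdet := M.2
  rw [Matrix.det_fin_two] at hdet
  have e : (M 0 0) * (M 1 1) = (M 0 1) * (M 1 0) + 1 := by
    have : (M 0 0) * (M 1 1) - (M 0 1) * (M 1 0) = 1 := hdet
    linear_combination this
  have := congrArg ZMod.val e
  rw [ZMod.val_mul, ZMod.val_add, ZMod.val_mul, ZMod.val_one] at this
  rw [this, Nat.add_mod (_ * _) 1 11]

theorem exists_of_code {x : ℕ} (h : okc x = true) : ∃ M : S, tup M = x := by
  unfold okc detc at h
  rw [Bool.and_eq_true, Nat.ble_eq, Nat.beq_eq] at h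
  obtain ⟨h1, h2⟩ := h
  have hlt : x < 14641 := by omega
  have l0 : d0 x < 11 := by unfold d0; omega
  have l1 : d1 x < 11 := by unfold d1; omega
  have l2 : d2 x < 11 := by unfold d2; omega
  have l3 : d3 x < 11 := by unfold d3; omega
  have hdet : (!![(d0 x : ZMod 11), (d1 x : ZMod 11); (d2 x : ZMod 11), (d3 x : ZMod 11)]).det = 1 := by
    rw [Matrix.det_fin_two_of]
    have : ((d0 x * d3 x : ℕ) : ZMod 11) = ((d1 x * d2 x + 1 : ℕ) : ZMod 11) :=
      (ZMod.natCast_eq_natCast_iff' _ _ _).2 h2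
    push_cast at this
    linear_combination this
  refine ⟨⟨_, hdet⟩, ?_⟩
  unfold tup
  simp only [Matrix.SpecialLinearGroup.coe_mk, Matrix.of_apply, Matrix.cons_val', Matrix.cons_val_zero, Matrix.cons_val_one,
    Matrix.cons_val_fin_one, ZMod.val_natCast, Nat.mod_eq_of_lt l0, Nat.mod_eq_of_lt l1, Nat.mod_eq_of_lt l2, Nat.mod_eq_of_lt l3]
  exact enc_d hlt

theorem tup_one : tup (1 : S) = 1332 := by
  decide +kernel

/-- The subgroup with a given list of codes. -/
def carr (l : List ℕ) (h1 : 1332 ∈ l) (hm : ∀ x ∈ l, ∀ y ∈ l, mulc x y ∈ l) : Subgroup S where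
  carrier := {M | tup M ∈ l}
  mul_mem' := by
    intro a b ha hb
    show tup (a * b) ∈ l
    rw [tup_mul]
    exact hm _ ha _ hb
  one_mem' := by
    show tup (1 : S) ∈ l
    rw [tup_one]
    exact h1
  inv_mem' := by
    intro a ha
    have hpow : ∀ n : ℕ, tup (a ^ n) ∈ l := by
      intro n
      induction n with
      | zero =>
        rw [pow_zero, tup_one]
        exact h1
      | succ n ih =>
        rw [pow_succ, tup_mul]
        exact hm _ ih _ ha
    have e : a⁻¹ = a ^ (orderOf a - 1) := by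
      apply inv_eq_of_mul_eq_one_right
      rw [mul_pow_sub_one (orderOf_pos a).ne', pow_orderOf_eq_one]
    show tup a⁻¹ ∈ l
    rw [e]
    exact hpow _

theorem mem_carr (l : List ℕ) (h1 : 1332 ∈ l) (hm : ∀ x ∈ l, ∀ y ∈ l, mulc x y ∈ l) (M : S) :
    M ∈ carr l h1 hm ↔ tup M ∈ l := Iff.rfl

theorem card_carr (l : List ℕ) (h1 : 1332 ∈ l) (hm : ∀ x ∈ l, ∀ y ∈ l, mulc x y ∈ l)
    (hnd : l.Nodup) (hok : ∀ x ∈ l, okc x = true) : Nat.card (carr l h1 hm) = l.length := by
  classical
  let f : carr l h1 hm → l.toFinset := fun M => ⟨tup M.1, by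
    rw [List.mem_toFinset]
    exact M.2⟩
  have hf : Function.Bijective f := by
    constructor
    · intro a b hab
      have := congrArg Subtype.val hab
      exact Subtype.ext (tup_inj this)
    · rintro ⟨x, hx⟩
      rw [List.mem_toFinset] at hx
      obtain ⟨M, hM⟩ := exists_of_code (hok x hx)
      refine ⟨⟨M, ?_⟩, Subtype.ext hM⟩
      show tup M ∈ l
      rw [hM]
      exact hx
  rw [Nat.card_congr (Equiv.ofBijective f hf), Nat.card_eq_fintype_card, Fintype.card_coe,
    List.toFinset_card_of_nodup hnd]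

def closedB (l : List ℕ) : Bool := l.all fun x => l.all fun y => meml l (mulc x y)

theorem closed_of {l : List ℕ} (h : closedB l = true) : ∀ x ∈ l, ∀ y ∈ l, mulc x y ∈ l := by
  intro x hx y hy
  unfold closedB at h
  rw [List.all_eq_true] at h
  have := h x hx
  rw [List.all_eq_true] at this
  exact (meml_iff _ _).1 (this y hy)

def listH : List ℕ :=
  [231, 301, 441, 582, 631, 832, 881, 1022, 1162, 1221, 1332, 1561, 1613, 1723, 1903, 2011, 2121, 2261, 2343, 2441, 2653, 2712, 2795, 2946, 3056, 3152, 3343, 3453, 3627, 3723, 3858, 3957, 4008, 4118, 4309, 4408, 4518, 4658, 4749, 4959, 5056, 5190, 5289, 5437, 5507, 5609, 5719, 5859, 5947, 6149, 6255, 6388, 6479, 6537, 6708, 6803, 6913, 7053, 7148, 7354, 7450, 7589, 7684, 7859, 7969, 8065, 8135, 8245, 8420, 8515, 8654, 8750, 8835, 9051, 9191, 9301, 9336, 9446, 9614, 9716, 9849, 9944, 10157, 10245, 10385, 10495, 10597, 10765, 10815, 10914, 11048, 11145, 11355, 11446, 11586, 11696, 11795, 11865, 12061, 12147, 12246, 12381, 12477,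 12651, 12761, 12831, 13048, 13158, 13309, 13320, 13451, 13663, 13750, 13843, 13983, 14093, 14190, 14381, 14491, 14543]

def listA : List ℕ :=
  [231, 1221, 1332, 2011, 2121, 3343, 3453, 5859, 6255, 6803, 6913, 7859, 7969, 8135, 8245, 9191, 9301, 9849, 10245, 12651, 12761, 13320, 13983, 14093]

def listV : List ℕ :=
  [231, 1221, 1332, 5859, 6255, 9849, 10245, 13320]

theorem closed_H : closedB listH = true := by decide +kernel
theorem closed_V : closedB listV = true := by decide +kernel
theorem one_H : 1332 ∈ listH := by decide +kernel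
theorem one_V : 1332 ∈ listV := by decide +kernel
theorem mO_V : 13320 ∈ listV := by decide +kernel
theorem mO_H : 13320 ∈ listH := by decide +kernel
theorem nd_H : listH.Nodup := by decide +kernel
theorem nd_V : listV.Nodup := by decide +kernel
theorem ok_H : ∀ x ∈ listH, okc x = true := by decide +kernel
theorem ok_V : ∀ x ∈ listV, okc x = true := by decide +kernel
theorem ok_A : ∀ x ∈ listA, okc x = true := by decide +kernel
theorem V_sub_H : ∀ x ∈ listV, x ∈ listH := by decide +kernel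
theorem dlt_V : ∀ x ∈ listV, dlt x ∈ listV := by decide +kernel
theorem len_H : listH.length = 120 := by decide +kernel
theorem len_V : listV.length = 8 := by decide +kernel

/-- `s` normalizes the group `V`. -/
def normB (s : ℕ) : Bool := listV.all fun v => listV.any fun w => Nat.beq (mulc s v) (mulc w s)

theorem norm_A : ∀ s ∈ listA, normB s = true := by decide +kernel

def badE (x : ℕ) : Bool := !(Nat.beq x 1332) && !(Nat.beq x 13320)

def bad (x : ℕ) : Bool :=
  badE (mulc x x) && badE (mulc (mulc x x) x) && badE (mulc (mulc x x) (mulc (mulc x x) x))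

def fc (x : ℕ) : Bool := meml listH x || meml listH (dlt x) || listA.any fun s => bad (mulc s x)

theorem fc_all : (List.range 14641).all (fun x => !okc x || fc x) = true := by decide +kernel

theorem witness : okc 301 = true ∧ 301 ∈ listH ∧ dlt 301 ∉ listH := by decide +kernel

theorem fc_tup (M : S) : fc (tup M) = true := by
  have h := fc_all
  rw [List.all_eq_true] at h
  have := h (tup M) (List.mem_range.2 (tup_lt M))
  rw [okc_tup] at this
  simpa using this

end Cfsg.Agent.Lib.PSL2Eleven3
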