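import Mathlib
import Cfsg.Agent.Lib.QdStable
import Cfsg.Agent.Lib.ZJFunctor
import Cfsg.Agent.Lib.FusionApps
import Cfsg.Agent.Lib.KInf

/-! The subgroups of Glauberman's theorems do not control strong fusion in `Qd(p)`. -/

set_option autoImplicit false
set_option linter.all false

universe u

namespace Cfsg.Agent.Lib.QdControl

open Cfsg Cfsg.Agent.Lib.QdSection Cfsg.Agent.Lib.QdStable Cfsg.Agent.Lib.ZJReplace Cfsg.Agent.Lib.ZJ
  Cfsg.Agent.Lib.ZJApps Cfsg.Agent.Lib.PCore
open scoped commutatorElement Pointwise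

/-- A group with the structure of `Qd(p)`. -/
structure QdData (p : ℕ) (X : Type*) [Group X] where
  ν : (Fin 2 → ZMod p) → X
  τ : X →* Matrix.SpecialLinearGroup (Fin 2) (ZMod p)
  hadd : ∀ u v, ν (u + v) = ν u * ν v
  hinj : Function.Injective ν
  hτ : Function.Surjective τ
  hact : ∀ x u, x * ν u * x⁻¹ = ν ((τ x : Matrix (Fin 2) (Fin 2) (ZMod p)).mulVec u)
  hker : ∀ x, τ x = 1 → ∃ u, x = ν u

variable {p : ℕ} [hpp : Fact p.Prime]

theorem qdData_qd (hp : p ≠ 2) : Nonempty (QdData p ↥(Cfsg.qd p)) := by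
  obtain ⟨τ, hτ⟩ := exists_tau (p := p)
  let ν : (Fin 2 → ZMod p) → ↥(Cfsg.qd p) := fun u => ⟨blk 1 u, blk_mem 1 u⟩
  have hadd : ∀ u v, ν (u + v) = ν u * ν v := by
    intro u v
    apply Subtype.ext
    show blk 1 (u + v) = blk 1 u * blk 1 v
    rw [blk_mul, one_mul, Matrix.SpecialLinearGroup.coe_one, Matrix.one_mulVec]
  refine ⟨⟨ν, τ, hadd, ?_, ?_, ?_, ?_⟩⟩
  · intro u v h
    have h1 : blk 1 u = blk 1 v := congrArg Subtype.val h
    have h2 : ∀ i : Fin 2, (blk 1 u : Matrix (Fin 3) (Fin 3) (ZMod p)) (Fin.castLE (by omega) i) 2 =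
        (blk 1 v : Matrix (Fin 3) (Fin 3) (ZMod p)) (Fin.castLE (by omega) i) 2 := by
      intro i
      rw [h1]
    ext i
    have := h2 i
    fin_cases i <;> simpa [blk] using this
  · intro B
    exact ⟨⟨blk B 0, blk_mem B 0⟩, hτ B 0⟩
  · rintro ⟨M, hM⟩ u
    obtain ⟨B, w, rfl⟩ := exists_blk M hM
    rw [mul_inv_eq_iff_eq_mul]
    have hB : τ ⟨blk B w, blk_mem B w⟩ = B := hτ B w
    rw [hB]
    apply Subtype.ext
    show blk B w * blk 1 u = blk 1 _ * blk B w
    rw [blk_mul, blk_mul]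
    simp [Matrix.mulVec_add, add_comm]
  · rintro ⟨M, hM⟩ h
    obtain ⟨B, w, rfl⟩ := exists_blk M hM
    have hB : τ ⟨blk B w, blk_mem B w⟩ = B := hτ B w
    rw [hB] at h
    subst h
    exact ⟨w, rfl⟩

/-- Transport along an isomorphism. -/
def QdData.ofEquiv {X Y : Type*} [Group X] [Group Y] (D : QdData p Y) (e : X ≃* Y) : QdData p X where
  ν u := e.symm (D.ν u)
  τ := D.τ.comp e.toMonoidHom
  hadd u v := by rw [D.hadd, map_mul]
  hinj u v h := D.hinj (e.symm.injective h)
  hτ := D.hτ.comp e.surjective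
  hact x u := by
    apply e.injective
    simp only [map_mul, map_inv, MulEquiv.apply_symm_apply, MonoidHom.comp_apply]
    exact D.hact _ _
  hker x h := by
    obtain ⟨u, hu⟩ := D.hker (e x) h
    exact ⟨u, by rw [← hu]; simp⟩

namespace QdData

variable {X : Type*} [Group X] (D : QdData p X)

theorem nu_zero : D.ν 0 = 1 := by
  have := D.hadd 0 0
  rw [add_zero] at this
  exact (mul_eq_left.mp this.symm)

theorem nu_nsmul (n : ℕ) (u : Fin 2 → ZMod p) : D.ν (n • u) = D.ν u ^ n := by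
  induction n with
  | zero => simp [D.nu_zero]
  | succ k ih => rw [succ_nsmul, D.hadd, ih, pow_succ]

theorem nu_pow (u : Fin 2 → ZMod p) : D.ν u ^ p = 1 := by
  rw [← D.nu_nsmul]
  have : p • u = 0 := by
    ext i
    simp
  rw [this, D.nu_zero]

theorem nu_comm (u v : Fin 2 → ZMod p) : D.ν u * D.ν v = D.ν v * D.ν u := by
  rw [← D.hadd, ← D.hadd, add_comm]

theorem tau_nu (u : Fin 2 → ZMod p) : D.τ (D.ν u) = 1 := by
  apply Matrix.SpecialLinearGroup.ext
  have : ∀ w, (D.τ (D.ν u) : Matrix (Fin 2) (Fin 2) (ZMod p)).mulVec w = w := by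
    intro w
    apply D.hinj
    rw [← D.hact, D.nu_comm, mul_inv_cancel_right]
  have h2 : (D.τ (D.ν u) : Matrix (Fin 2) (Fin 2) (ZMod p)) = 1 := by
    apply Matrix.ext_iff_mulVec.2
    intro w
    rw [this, Matrix.one_mulVec]
  intro i j
  rw [h2]
  rfl

theorem mem_ker_iff (x : X) : x ∈ D.τ.ker ↔ ∃ u, x = D.ν u := by
  rw [MonoidHom.mem_ker]
  constructor
  · exact D.hker x
  · rintro ⟨u, rfl⟩
    exact D.tau_nu u

theorem ker_isP : IsPGroup p D.τ.ker := by
  rintro ⟨x, hx⟩
  obtain ⟨u, rfl⟩ := (D.mem_ker_iff x).1 hx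
  refine ⟨1, ?_⟩
  apply Subtype.ext
  simpa using D.nu_pow u

theorem nu_mem_sylow [Finite X] (T : Sylow p X) (u : Fin 2 → ZMod p) : D.ν u ∈ T := by
  have h1 : D.τ.ker ≤ pCore p X := le_pCore inferInstance D.ker_isP
  exact pCore_le_sylow T (h1 ((D.mem_ker_iff _).2 ⟨u, rfl⟩))

theorem mulVec_mul (x y : X) (u : Fin 2 → ZMod p) :
    (D.τ (x * y) : Matrix (Fin 2) (Fin 2) (ZMod p)).mulVec u =
      (D.τ x : Matrix (Fin 2) (Fin 2) (ZMod p)).mulVec ((D.τ y : Matrix (Fin 2) (Fin 2) (ZMod p)).mulVec u) := by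
  rw [map_mul, Matrix.SpecialLinearGroup.coe_mul, Matrix.mulVec_mulVec]

theorem mulVec_one (u : Fin 2 → ZMod p) :
    (D.τ 1 : Matrix (Fin 2) (Fin 2) (ZMod p)).mulVec u = u := by
  rw [map_one, Matrix.SpecialLinearGroup.coe_one, Matrix.one_mulVec]

/-- A `p`-subgroup of the group has a non-zero fixed vector. -/
theorem exists_fix [Finite X] {T : Subgroup X} (hT : IsPGroup p T) :
    ∃ z : Fin 2 → ZMod p, z ≠ 0 ∧ ∀ x ∈ T, (D.τ x : Matrix (Fin 2) (Fin 2) (ZMod p)).mulVec z = z := by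
  classical
  letI : MulAction ↥T (Fin 2 → ZMod p) :=
    { smul := fun x u => (D.τ x : Matrix (Fin 2) (Fin 2) (ZMod p)).mulVec u
      one_smul := fun u => D.mulVec_one u
      mul_smul := fun x y u => D.mulVec_mul x y u }
  have hcard : p ∣ Nat.card (Fin 2 → ZMod p) := by
    rw [Nat.card_eq_fintype_card, Fintype.card_fun, ZMod.card]
    simp
  have h0 : (0 : Fin 2 → ZMod p) ∈ MulAction.fixedPoints ↥T (Fin 2 → ZMod p) := by
    intro x
    show (D.τ x : Matrix (Fin 2) (Fin 2) (ZMod p)).mulVec 0 = 0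
    simp
  obtain ⟨z, hz, hne⟩ := hT.exists_fixed_point_of_prime_dvd_card_of_fixed_point _ hcard h0
  refine ⟨z, hne.symm, fun x hx => ?_⟩
  exact hz ⟨x, hx⟩

end QdData

/-- `SL₂` moves the first basis vector to any non-zero vector. -/
theorem exists_sl_col {a : Fin 2 → ZMod p} (ha : a ≠ 0) :
    ∃ M : Matrix.SpecialLinearGroup (Fin 2) (ZMod p),
      (M : Matrix (Fin 2) (Fin 2) (ZMod p)).mulVec ![1, 0] = a := by
  by_cases h0 : a 0 = 0
  · have h1 : a 1 ≠ 0 := by
      intro h1
      apply ha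
      ext i
      fin_cases i
      · exact h0
      · exact h1
    refine ⟨⟨!![0, -(a 1)⁻¹; a 1, 0], ?_⟩, ?_⟩
    · rw [Matrix.det_fin_two_of]
      field_simp
      ring
    · ext i
      fin_cases i
      · simp [Matrix.mulVec, dotProduct, Fin.sum_univ_two, h0]
      · simp [Matrix.mulVec, dotProduct, Fin.sum_univ_two]
  · refine ⟨⟨!![a 0, 0; a 1, (a 0)⁻¹], ?_⟩, ?_⟩
    · rw [Matrix.det_fin_two_of]
      field_simp
      ring
    · ext i
      fin_cases i <;> simp [Matrix.mulVec, dotProduct, Fin.sum_univ_two]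

namespace QdData

variable {X : Type*} [Group X] (D : QdData p X)

theorem exists_move {a b : Fin 2 → ZMod p} (ha : a ≠ 0) (hb : b ≠ 0) :
    ∃ x : X, (D.τ x : Matrix (Fin 2) (Fin 2) (ZMod p)).mulVec a = b := by
  obtain ⟨Ma, hMa⟩ := exists_sl_col ha
  obtain ⟨Mb, hMb⟩ := exists_sl_col hb
  obtain ⟨x, hx⟩ := D.hτ (Mb * Ma⁻¹)
  refine ⟨x, ?_⟩
  have h1 : (Mb * Ma⁻¹) * Ma = Mb := inv_mul_cancel_right Mb Ma
  rw [hx, ← hMa, Matrix.mulVec_mulVec, ← Matrix.SpecialLinearGroup.coe_mul, h1, hMb]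

/-- The criterion: a subgroup `U` whose normalizer keeps a subgroup `U₂` which contains a non-zero
vector but not all vectors does not control strong fusion. -/
theorem not_control [Finite X] {U U₂ : Subgroup X} {z v : Fin 2 → ZMod p} (hz : z ≠ 0)
    (hzU : D.ν z ∈ U₂) (hvU : D.ν v ∉ U₂)
    (hN : Subgroup.normalizer (U : Set X) ≤ Subgroup.normalizer (U₂ : Set X)) :
    ¬ ControlsStrongFusion p U := by
  rintro ⟨T', -, hT'⟩
  have hv0 : v ≠ 0 := by
    rintro rfl
    apply hvU
    rw [D.nu_zero]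
    exact Subgroup.one_mem _
  obtain ⟨g, hg⟩ := D.exists_move hv0 hz
  have hgv : g * D.ν v * g⁻¹ = D.ν z := by rw [D.hact, hg]
  have hA : ({D.ν v} : Set X) ⊆ (T' : Subgroup X) := by
    rintro _ rfl
    exact D.nu_mem_sylow T' v
  obtain ⟨-, h2⟩ := hT' {D.ν v} hA
  obtain ⟨x, hx, hxv⟩ := h2 g (by
    rintro _ ⟨a, rfl, rfl⟩
    show g * D.ν v * g⁻¹ ∈ (T' : Subgroup X)
    rw [hgv]
    exact D.nu_mem_sylow T' z)
  have h3 := hxv (D.ν v) rfl
  rw [hgv] at h3
  have hx2 := hN hx
  have h4 : x⁻¹ * D.ν z * x ∈ U₂ := by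
    have := (Subgroup.mem_normalizer_iff.1 (Subgroup.inv_mem _ hx2) (D.ν z)).1 hzU
    simpa using this
  apply hvU
  have h5 : x⁻¹ * D.ν z * x = D.ν v := by
    rw [h3]
    group
  rwa [h5] at h4

/-- A Sylow subgroup contains an element acting non-trivially. -/
theorem exists_moving [Finite X] (T : Sylow p X) : ∃ t ∈ T, D.τ t ≠ 1 := by
  classical
  by_contra hcon
  push Not at hcon
  let S' : Sylow p (Matrix.SpecialLinearGroup (Fin 2) (ZMod p)) := T.mapSurjective D.hτ
  have hS' : (S' : Subgroup (Matrix.SpecialLinearGroup (Fin 2) (ZMod p))) = ⊥ := by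
    rw [eq_bot_iff]
    rintro _ ⟨t, ht, rfl⟩
    exact Subgroup.mem_bot.2 (hcon t ht)
  have h1 : ¬ p ∣ (S' : Subgroup (Matrix.SpecialLinearGroup (Fin 2) (ZMod p))).index := S'.not_dvd_index
  rw [hS', Subgroup.index_bot] at h1
  apply h1
  have h2 : (Cfsg.Agent.Lib.DicksonLite.t₁ (1 : ZMod p)) ^ p = 1 := by
    rw [Cfsg.Agent.Lib.DicksonLite.t₁_pow]
    simp [Cfsg.Agent.Lib.DicksonLite.t₁_zero]
  have h3 : Cfsg.Agent.Lib.DicksonLite.t₁ (1 : ZMod p) ≠ 1 := by
    intro h
    have := congrArg (fun M : Matrix.SpecialLinearGroup (Fin 2) (ZMod p) => (M : Matrix (Fin 2) (Fin 2) (ZMod p)) 0 1) h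
    simp at this
  have h4 : orderOf (Cfsg.Agent.Lib.DicksonLite.t₁ (1 : ZMod p)) = p := orderOf_eq_prime h2 h3
  have h5 := orderOf_dvd_natCard (Cfsg.Agent.Lib.DicksonLite.t₁ (1 : ZMod p))
  rwa [h4] at h5

/-- A fixed non-zero vector of `T` gives a central element of `T`. -/
theorem nu_central {T : Subgroup X} {z : Fin 2 → ZMod p}
    (hz : ∀ x ∈ T, (D.τ x : Matrix (Fin 2) (Fin 2) (ZMod p)).mulVec z = z) (x : X) (hx : x ∈ T) :
    x * D.ν z = D.ν z * x := by
  have := D.hact x z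
  rw [hz x hx] at this
  rwa [mul_inv_eq_iff_eq_mul] at this

/-- The key lemma for the Thompson subgroup. -/
theorem exists_maxPr_moving [Finite X] (T : Sylow p X) :
    ∃ A, IsMaxPr 0 (T : Subgroup X) A ∧ ∃ a ∈ A, D.τ a ≠ 1 := by
  classical
  by_contra hcon
  push Not at hcon
  have hall : ∀ A, IsMaxPr 0 (T : Subgroup X) A → ∀ a ∈ A, ∃ u, a = D.ν u := fun A hA a ha =>
    D.hker a (hcon A hA a ha)
  obtain ⟨z, hz0, hz⟩ := D.exists_fix T.isPGroup'
  obtain ⟨t, htT, ht1⟩ := D.exists_moving T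
  let A₁ : Subgroup X := Subgroup.closure {t, D.ν z}
  have hzT : D.ν z ∈ T := D.nu_mem_sylow T z
  have hA₁T : A₁ ≤ T := by
    rw [Subgroup.closure_le]
    rintro _ (rfl | rfl)
    · exact htT
    · exact hzT
  have hcomm : ∀ a ∈ A₁, ∀ b ∈ A₁, a * b = b * a := by
    have hc : ∀ a ∈ ({t, D.ν z} : Set X), ∀ b ∈ ({t, D.ν z} : Set X), a * b = b * a := by
      intro a ha b hb
      rcases ha with rfl | ha <;> rcases hb with rfl | hb
      · rfl
      · rw [hb]
        exact D.nu_central hz _ htT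
      · rw [ha]
        exact (D.nu_central hz _ htT).symm
      · rw [ha, hb]
    intro a ha b hb
    letI := Subgroup.closureCommGroupOfComm hc
    exact congrArg Subtype.val (mul_comm (⟨a, ha⟩ : ↥(Subgroup.closure ({t, D.ν z} : Set X))) ⟨b, hb⟩)
  have hA₁pr : PrE 0 A₁ := ⟨hcomm, fun a _ => pow_zero a⟩
  -- all the maximal subgroups have order at most `p²`
  obtain ⟨B, hB⟩ := exists_maxPr 0 (T : Subgroup X)
  have hBcard : Nat.card B ≤ p ^ 2 := by
    have hinj : ∃ f : B → (Fin 2 → ZMod p), Function.Injective f := by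
      choose f hf using fun b : B => hall B hB b b.2
      refine ⟨f, fun a b hab => ?_⟩
      apply Subtype.ext
      rw [hf a, hf b, hab]
    obtain ⟨f, hf⟩ := hinj
    have := Nat.card_le_card_of_injective f hf
    have h2 : Nat.card (Fin 2 → ZMod p) = p ^ 2 := by
      rw [Nat.card_eq_fintype_card, Fintype.card_fun, ZMod.card]
      simp
    rwa [h2] at this
  -- `A₁` has order at least `p²`
  have hA₁p : IsPGroup p A₁ := T.isPGroup'.to_le hA₁T
  obtain ⟨k, hk⟩ := IsPGroup.iff_card.1 hA₁p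
  have hA₁card : p ^ 2 ≤ Nat.card A₁ := by
    rw [hk]
    apply Nat.pow_le_pow_right (hpp.out.pos)
    by_contra hk2
    have hk1 : k ≤ 1 := by omega
    -- `A₁` is then the cyclic group generated by the image of `z`
    have hzne : D.ν z ≠ 1 := by
      intro h
      apply hz0
      apply D.hinj
      rw [h, D.nu_zero]
    have hord : orderOf (D.ν z) = p := orderOf_eq_prime (D.nu_pow z) hzne
    have hZ : Subgroup.zpowers (D.ν z) ≤ A₁ := by
      rw [Subgroup.zpowers_le]
      exact Subgroup.subset_closure (Or.inr rfl)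
    have hcardZ : Nat.card (Subgroup.zpowers (D.ν z)) = p := by
      rw [Nat.card_zpowers, hord]
    have hle : Nat.card A₁ ≤ Nat.card (Subgroup.zpowers (D.ν z)) := by
      rw [hcardZ, hk]
      calc p ^ k ≤ p ^ 1 := Nat.pow_le_pow_right hpp.out.pos hk1
        _ = p := pow_one p
    have heq : Subgroup.zpowers (D.ν z) = A₁ := Subgroup.eq_of_le_of_card_ge hZ hle
    have htz : t ∈ Subgroup.zpowers (D.ν z) := by
      rw [heq]
      exact Subgroup.subset_closure (Or.inl rfl)
    obtain ⟨m, rfl⟩ := htz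
    apply ht1
    show D.τ (D.ν z ^ m) = 1
    rw [map_zpow, D.tau_nu, one_zpow]
  have hA₁max : IsMaxPr 0 (T : Subgroup X) A₁ := by
    refine ⟨hA₁T, hA₁pr, fun A' hA'T hA'pr => ?_⟩
    exact (hB.2.2 A' hA'T hA'pr).trans (hBcard.trans hA₁card)
  exact ht1 (hcon A₁ hA₁max t (Subgroup.subset_closure (Or.inl rfl)))

/-- Non-trivial elements of `SL₂` move a vector. -/
theorem exists_moved {a : X} (ha : D.τ a ≠ 1) :
    ∃ w, (D.τ a : Matrix (Fin 2) (Fin 2) (ZMod p)).mulVec w ≠ w := by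
  by_contra hcon
  push Not at hcon
  apply ha
  apply Matrix.SpecialLinearGroup.ext
  have h2 : (D.τ a : Matrix (Fin 2) (Fin 2) (ZMod p)) = 1 := by
    apply Matrix.ext_iff_mulVec.2
    intro w
    rw [hcon, Matrix.one_mulVec]
  intro i j
  rw [h2]
  rfl

theorem nu_not_comm {a : X} {w : Fin 2 → ZMod p} (hw : (D.τ a : Matrix (Fin 2) (Fin 2) (ZMod p)).mulVec w ≠ w) :
    a * D.ν w ≠ D.ν w * a := by
  intro h
  apply hw
  apply D.hinj
  rw [← D.hact, h, mul_inv_cancel_right]

/-- `Z(J(T))` does not control strong fusion. -/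
theorem not_control_centerA {X : Type*} [Group X] (D : QdData p X) [Finite X] (T : Sylow p X) :
    ¬ ControlsStrongFusion p (centerThompsonAOf (T : Subgroup X)) := by
  classical
  obtain ⟨z, hz0, hz⟩ := D.exists_fix T.isPGroup'
  obtain ⟨A, hA, a, haA, ha⟩ := D.exists_maxPr_moving T
  obtain ⟨w, hw⟩ := D.exists_moved ha
  refine D.not_control (z := z) (v := w) hz0 ?_ ?_ le_rfl
  · rw [centerThompsonAOf_eq]
    refine ⟨?_, ?_⟩
    · obtain ⟨B, hB⟩ := exists_maxPr 0 (T : Subgroup X)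
      apply le_JJ hB
      exact hB.mem_of_commute (D.nu_mem_sylow T z) (pow_zero _)
        (fun b hb => (D.nu_central hz b (hB.1 hb)))
    · show D.ν z ∈ Subgroup.centralizer ((JJ 0 (T : Subgroup X) : Subgroup X) : Set X)
      rw [Subgroup.mem_centralizer_iff]
      intro h hh
      exact D.nu_central hz h (JJ_le _ hh)
  · rw [centerThompsonAOf_eq]
    rintro ⟨-, h2⟩
    exact D.nu_not_comm hw (Subgroup.mem_centralizer_iff.1 h2 a (le_JJ hA haA))


/-- `p`-subgroups of `SL₂(p)` have order at most `p`. -/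
theorem card_le_of_fix {H : Subgroup (Matrix.SpecialLinearGroup (Fin 2) (ZMod p))} {w : Fin 2 → ZMod p}
    (hw : w ≠ 0) (hfix : ∀ x ∈ H, (x : Matrix (Fin 2) (Fin 2) (ZMod p)).mulVec w = w) :
    Nat.card H ≤ p := by
  classical
  obtain ⟨M, hM⟩ := exists_sl_col hw
  have hcol : ∀ x ∈ H, ((M⁻¹ * x * M : Matrix.SpecialLinearGroup (Fin 2) (ZMod p)) : Matrix (Fin 2) (Fin 2) (ZMod p)).mulVec ![1, 0] = ![1, 0] := by
    intro x hx
    rw [Matrix.SpecialLinearGroup.coe_mul, Matrix.SpecialLinearGroup.coe_mul, ← Matrix.mulVec_mulVec,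
      ← Matrix.mulVec_mulVec, hM, hfix x hx, ← hM, Matrix.mulVec_mulVec, ← Matrix.SpecialLinearGroup.coe_mul,
      inv_mul_cancel, Matrix.SpecialLinearGroup.coe_one, Matrix.one_mulVec]
  let f : H → ZMod p := fun x => ((M⁻¹ * (x : Matrix.SpecialLinearGroup (Fin 2) (ZMod p)) * M : Matrix.SpecialLinearGroup (Fin 2) (ZMod p)) : Matrix (Fin 2) (Fin 2) (ZMod p)) 0 1
  have hf : Function.Injective f := by
    intro x y hxy
    apply Subtype.ext
    have h1 := hcol x x.2
    have h2 := hcol y y.2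
    set A := (M⁻¹ * (x : Matrix.SpecialLinearGroup (Fin 2) (ZMod p)) * M : Matrix.SpecialLinearGroup (Fin 2) (ZMod p)) with hA
    set B := (M⁻¹ * (y : Matrix.SpecialLinearGroup (Fin 2) (ZMod p)) * M : Matrix.SpecialLinearGroup (Fin 2) (ZMod p)) with hB
    have hAB : A = B := by
      have ha00 : (A : Matrix (Fin 2) (Fin 2) (ZMod p)) 0 0 = 1 := by
        have := congrFun h1 0
        simpa [Matrix.mulVec, dotProduct, Fin.sum_univ_two] using this
      have ha10 : (A : Matrix (Fin 2) (Fin 2) (ZMod p)) 1 0 = 0 := by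
        have := congrFun h1 1
        simpa [Matrix.mulVec, dotProduct, Fin.sum_univ_two] using this
      have hb00 : (B : Matrix (Fin 2) (Fin 2) (ZMod p)) 0 0 = 1 := by
        have := congrFun h2 0
        simpa [Matrix.mulVec, dotProduct, Fin.sum_univ_two] using this
      have hb10 : (B : Matrix (Fin 2) (Fin 2) (ZMod p)) 1 0 = 0 := by
        have := congrFun h2 1
        simpa [Matrix.mulVec, dotProduct, Fin.sum_univ_two] using this
      have hda := A.2
      have hdb := B.2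
      rw [Matrix.det_fin_two] at hda hdb
      rw [ha00, ha10] at hda
      rw [hb00, hb10] at hdb
      have ha11 : (A : Matrix (Fin 2) (Fin 2) (ZMod p)) 1 1 = 1 := by
        have e : ((A : Matrix (Fin 2) (Fin 2) (ZMod p)) 1 1) = 1 * (A : Matrix (Fin 2) (Fin 2) (ZMod p)) 1 1 - (A : Matrix (Fin 2) (Fin 2) (ZMod p)) 0 1 * 0 := by ring
        rw [e]
        exact hda
      have hb11 : (B : Matrix (Fin 2) (Fin 2) (ZMod p)) 1 1 = 1 := by
        have e : ((B : Matrix (Fin 2) (Fin 2) (ZMod p)) 1 1) = 1 * (B : Matrix (Fin 2) (Fin 2) (ZMod p)) 1 1 - (B : Matrix (Fin 2) (Fin 2) (ZMod p)) 0 1 * 0 := by ring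
        rw [e]
        exact hdb
      apply Matrix.SpecialLinearGroup.ext
      intro i j
      fin_cases i <;> fin_cases j
      · simp only [Fin.zero_eta, Fin.isValue, Fin.mk_one]; rw [ha00, hb00]
      · exact hxy
      · simp only [Fin.zero_eta, Fin.isValue, Fin.mk_one]; rw [ha10, hb10]
      · simp only [Fin.zero_eta, Fin.isValue, Fin.mk_one]; rw [ha11, hb11]
    have := congrArg (fun C => M * C * M⁻¹) hAB
    simpa [hA, hB, mul_assoc] using this
  have := Nat.card_le_card_of_injective f hf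
  rwa [Nat.card_zmod] at this

/-- A Sylow subgroup has order at most `p³`. -/
theorem card_sylow_le {X : Type*} [Group X] (D : QdData p X) [Finite X] (T : Sylow p X) : Nat.card T ≤ p ^ 3 := by
  classical
  obtain ⟨z, hz0, hz⟩ := D.exists_fix T.isPGroup'
  let f : ↥(T : Subgroup X) →* Matrix.SpecialLinearGroup (Fin 2) (ZMod p) := D.τ.comp (T : Subgroup X).subtype
  have h1 : Nat.card f.ker * f.ker.index = Nat.card T := Subgroup.card_mul_index _
  have h2 : f.ker.index = Nat.card f.range := Subgroup.index_ker f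
  have h3 : Nat.card f.range ≤ p := by
    apply card_le_of_fix hz0
    rintro _ ⟨x, rfl⟩
    exact hz x x.2
  have h4 : Nat.card f.ker ≤ p ^ 2 := by
    have hinj : ∃ g : f.ker → (Fin 2 → ZMod p), Function.Injective g := by
      have hex : ∀ b : f.ker, ∃ u, ((b : ↥(T : Subgroup X)) : X) = D.ν u := fun b => D.hker _ b.2
      choose g hg using hex
      refine ⟨g, fun a b hab => ?_⟩
      apply Subtype.ext
      apply Subtype.ext
      rw [hg a, hg b, hab]
    obtain ⟨g, hg⟩ := hinj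
    have := Nat.card_le_card_of_injective g hg
    have h2 : Nat.card (Fin 2 → ZMod p) = p ^ 2 := by
      rw [Nat.card_eq_fintype_card, Fintype.card_fun, ZMod.card]
      simp
    rwa [h2] at this
  rw [← h1, h2]
  calc Nat.card f.ker * Nat.card f.range ≤ p ^ 2 * p := Nat.mul_le_mul h4 h3
    _ = p ^ 3 := by ring

end QdData

/-- A group of order dividing `p³` has class at most two. -/
theorem class_two_of_card {P : Type*} [Group P] [Finite P] (hP : IsPGroup p P) (h : Nat.card P ≤ p ^ 3)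
    (a b : P) : ⁅a, b⁆ ∈ Subgroup.center P := by
  classical
  obtain ⟨n, hn⟩ := IsPGroup.iff_card.1 hP
  have hn3 : n ≤ 3 := by
    rw [hn] at h
    exact (Nat.pow_le_pow_iff_right hpp.out.one_lt).1 h
  by_cases htriv : Nontrivial P
  · have hcZ := hP.center_nontrivial
    have hZp : IsPGroup p (Subgroup.center P) := hP.to_subgroup _
    obtain ⟨m, hm⟩ := IsPGroup.iff_card.1 hZp
    have hm0 : m ≠ 0 := by
      rintro rfl
      have := Finite.one_lt_card_iff_nontrivial.2 hcZ
      rw [hm] at this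
      simp at this
    have hprod := Subgroup.card_eq_card_quotient_mul_card_subgroup (Subgroup.center P)
    have hQdvd : Nat.card (P ⧸ Subgroup.center P) ∣ p ^ n := by
      rw [← hn, hprod]
      exact dvd_mul_right _ _
    obtain ⟨k, hk, hQk⟩ := (Nat.dvd_prime_pow hpp.out).1 hQdvd
    have hk2 : k ≤ 2 := by
      rw [hn, hm, hQk, ← pow_add] at hprod
      have := Nat.pow_right_injective hpp.out.two_le hprod
      omega
    have hcomm : ∀ x y : P ⧸ Subgroup.center P, x * y = y * x := by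
      have hQp : IsPGroup p (P ⧸ Subgroup.center P) := IsPGroup.iff_card.2 ⟨k, hQk⟩
      interval_cases k
      · have h1 : Nat.card (P ⧸ Subgroup.center P) = 1 := by simpa using hQk
        have : Subsingleton (P ⧸ Subgroup.center P) := (Nat.card_eq_one_iff_unique.1 h1).1
        intro x y
        exact Subsingleton.elim _ _
      · haveI : Fact p.Prime := hpp
        haveI : IsCyclic (P ⧸ Subgroup.center P) := isCyclic_of_prime_card (by simpa using hQk)
        exact (IsCyclic.commutative (α := P ⧸ Subgroup.center P)).is_comm.comm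
      · exact IsPGroup.commutative_of_card_eq_prime_sq hQk
    rw [← QuotientGroup.eq_one_iff]
    have h1 : (QuotientGroup.mk ⁅a, b⁆ : P ⧸ Subgroup.center P) =
        ⁅(QuotientGroup.mk a : P ⧸ Subgroup.center P), (QuotientGroup.mk b : P ⧸ Subgroup.center P)⁆ := by
      rfl
    rw [h1, commutatorElement_def, hcomm (QuotientGroup.mk a) (QuotientGroup.mk b)]
    group
  · rw [not_nontrivial_iff_subsingleton] at htriv
    have : ⁅a, b⁆ = 1 := Subsingleton.elim _ _
    rw [this]
    exact Subgroup.one_mem _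

/-- Groups of class at most two have `K_∞ = 1`'s complement: the lower `K`-infinity subgroup is everything. -/
theorem kInfLower_eq_top {P : Type*} [Group P] (h : ∀ a b : P, ⁅a, b⁆ ∈ Subgroup.center P) :
    kInfLower P = ⊤ := by
  rw [eq_top_iff]
  have hmem : (⊤ : Subgroup P) ∈ kLowerStarFamily (kSeqOdd P 0) := by
    refine ⟨?_, ?_, ?_⟩
    · show ⁅(⊤ : Subgroup P), (⊤ : Subgroup P)⁆ ≤ Subgroup.centralizer ((⊤ : Subgroup P) : Set P)
      rw [Subgroup.commutator_le]
      intro a _ b _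
      rw [Subgroup.mem_centralizer_iff]
      intro y _
      exact (Subgroup.mem_center_iff.1 (h a b) y)
    · intro x _
      rw [Subgroup.mem_normalizer_iff]
      intro y
      simp
    · intro A _ _ _ _ _
      rw [Subgroup.commutator_le]
      intro a _ b _
      refine ⟨trivial, ?_⟩
      refine Subgroup.mem_centralizer_iff.2 ?_
      intro y _
      exact (Subgroup.mem_center_iff.1 (h a b) y)
  have h1 : (⊤ : Subgroup P) ≤ kSeqEven P 0 := le_sSup hmem
  exact h1.trans (le_iSup (fun n => kSeqEven P n) 0)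

namespace QdData

/-- The lower `K`-infinity subgroup of `T` does not control strong fusion. -/
theorem not_control_kInf {X : Type u} [Group X] (D : QdData p X) [Finite X] (T : Sylow p X) :
    ¬ ControlsStrongFusion p (inducedFunctor kInfLower (T : Subgroup X)) := by
  classical
  have htop : kInfLower ↥(T : Subgroup X) = ⊤ :=
    kInfLower_eq_top (class_two_of_card T.isPGroup' (D.card_sylow_le T))
  have hU : inducedFunctor kInfLower (T : Subgroup X) = T := by
    rw [inducedFunctor, htop, ← MonoidHom.range_eq_map, Subgroup.range_subtype]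
  rw [hU]
  obtain ⟨z, hz0, hz⟩ := D.exists_fix T.isPGroup'
  obtain ⟨t, htT, ht⟩ := D.exists_moving T
  obtain ⟨w, hw⟩ := D.exists_moved ht
  refine D.not_control (U₂ := (T : Subgroup X) ⊓ Subgroup.centralizer ((T : Subgroup X) : Set X))
    (z := z) (v := w) hz0 ?_ ?_ ?_
  · refine ⟨D.nu_mem_sylow T z, ?_⟩
    show D.ν z ∈ Subgroup.centralizer ((T : Subgroup X) : Set X)
    rw [Subgroup.mem_centralizer_iff]
    intro h hh
    exact D.nu_central hz h hh
  · rintro ⟨-, h2⟩
    exact D.nu_not_comm hw (Subgroup.mem_centralizer_iff.1 h2 t htT)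
  · intro x hx
    rw [Subgroup.mem_normalizer_iff] at hx ⊢
    intro y
    constructor
    · rintro ⟨h1, h2⟩
      refine ⟨(hx y).1 h1, ?_⟩
      replace h2 := Subgroup.mem_centralizer_iff.1 h2
      refine Subgroup.mem_centralizer_iff.2 ?_
      intro h hh
      have h3 : x⁻¹ * h * x ∈ (T : Subgroup X) := by
        have := (hx (x⁻¹ * h * x)).2 (by
          have e : x * (x⁻¹ * h * x) * x⁻¹ = h := by group
          rw [e]
          exact hh)
        exact this
      have h4 := h2 _ h3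
      have h5 : h * (x * y * x⁻¹) = x * ((x⁻¹ * h * x) * y) * x⁻¹ := by group
      rw [h5, h4]
      group
    · rintro ⟨h1, h2⟩
      refine ⟨(hx y).2 h1, ?_⟩
      replace h2 := Subgroup.mem_centralizer_iff.1 h2
      refine Subgroup.mem_centralizer_iff.2 ?_
      intro h hh
      have h3 : x * h * x⁻¹ ∈ (T : Subgroup X) := (hx h).1 hh
      have h4 := h2 _ h3
      have h5 : x * (h * y) * x⁻¹ = (x * h * x⁻¹) * (x * y * x⁻¹) := by group
      have h6 : x * (y * h) * x⁻¹ = (x * y * x⁻¹) * (x * h * x⁻¹) := by group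
      have h7 : x * (h * y) * x⁻¹ = x * (y * h) * x⁻¹ := by rw [h5, h6, h4]
      exact mul_left_cancel (mul_right_cancel h7)

end QdData

/-- Data from an isomorphism of a section. -/
theorem qdData_of_equiv (hp : p ≠ 2) {X : Type*} [Group X] (e : X ≃* ↥(Cfsg.qd p)) : Nonempty (QdData p X) := by
  obtain ⟨D⟩ := qdData_qd (p := p) hp
  exact ⟨D.ofEquiv e⟩

/-- The stable sections of a group without `Qd(p)`. -/
theorem stable_of_sec {G Y : Type u} [Group G] [Group Y] [Finite G] [Finite Y] (hp : p ≠ 2)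
    (h : ¬ Cfsg.Involves ↥(Cfsg.qd p) G) (hY : Cfsg.Agent.Lib.SecFunctor.IsSec Y G) :
    Cfsg.IsNormalizerPStable p Y := by
  by_contra hst
  apply h
  obtain ⟨K, f, hf⟩ := hY
  exact involves_iff.2 ((invTo_of_not_stable hp hst).of_hom K f hf)

open Cfsg.Agent.Lib.SylowIn Cfsg.Agent.Lib.ConjFamily Cfsg.Agent.Lib.FamilyFusion
  Cfsg.Agent.Lib.SecFunctor Cfsg.Agent.Lib.StrongFusion in
/-- Control of strong fusion with a prescribed Sylow subgroup. -/
theorem control_of_family' {W : ∀ (Q : Type u) [Group Q], Subgroup Q} (hW : IsCharPFunctor.{u} p W)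
    {X : Type u} [Group X] [Finite X]
    (h : FamilyControlsStrongFusionIn p (Fam ({W} : Set (∀ (Q : Type u) [Group Q], Subgroup Q)) X) ⊤)
    (T : Sylow p X) (A : Set X) (hA : A ⊆ (T : Subgroup X)) (g : X)
    (himg : (fun a => g * a * g⁻¹) '' A ⊆ (T : Subgroup X)) :
    ∃ x ∈ Subgroup.normalizer ((inducedFunctor W (T : Subgroup X) : Subgroup X) : Set X),
      ∀ a ∈ A, g * a * g⁻¹ = x * a * x⁻¹ := by
  have h𝓦 : ∀ W' ∈ ({W} : Set (∀ (Q : Type u) [Group Q], Subgroup Q)), IsCharPFunctor.{u} p W' := by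
    rintro _ rfl
    exact hW
  obtain ⟨m, c, hc0, hstep, hcimg, hclast⟩ := family_control_transport (fam_conj h𝓦) h
    (Cfsg.Agent.Lib.WeakCl.isSylowIn_top T) le_top A g trivial hA himg
  have hmem : c (Fin.last m) ∈ Subgroup.normalizer ((inducedFunctor W (T : Subgroup X) : Subgroup X) : Set X) := by
    refine chain_last c hc0 (P := fun x => x ∈ Subgroup.normalizer ((inducedFunctor W (T : Subgroup X) : Subgroup X) : Set X))
      (Subgroup.one_mem _) (fun i hi => ?_)
    obtain ⟨_, ⟨W', hW', rfl⟩, -, hy⟩ := hstep i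
    rw [Set.mem_singleton_iff.1 hW'] at hy
    have e : c i.succ = (c i.succ * (c i.castSucc)⁻¹) * c i.castSucc := by group
    rw [e]
    exact Subgroup.mul_mem _ hy hi
  exact ⟨_, hmem, fun a ha => (hclast a ha).symm⟩

end Cfsg.Agent.Lib.QdControl
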