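import Mathlib
import Cfsg.Agent.Lib.QdControl

/-! Groups with abelian Sylow `p`-subgroups do not involve `Qd(p)`. -/

set_option autoImplicit false
set_option linter.all false

universe u

namespace Cfsg.Agent.Lib.QdAbelian

open Cfsg Cfsg.Agent.Lib.QdSection Cfsg.Agent.Lib.QdControl

variable {p : ℕ} [hpp : Fact p.Prime]

/-- A Sylow subgroup of `Qd(p)` is not abelian. -/
theorem QdData.not_comm_sylow {X : Type*} [Group X] [Finite X] (D : QdData p X) (T : Sylow p X) :
    ∃ a ∈ T, ∃ b ∈ T, a * b ≠ b * a := by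
  obtain ⟨t, ht, ht1⟩ := D.exists_moving T
  obtain ⟨w, hw⟩ := D.exists_moved ht1
  exact ⟨t, ht, D.ν w, D.nu_mem_sylow T w, D.nu_not_comm hw⟩

/-- If all `p`-subgroups of `G` are abelian, `Qd(p)` is not involved in `G`. -/
theorem not_involves_of_comm {G : Type*} [Group G] [Finite G] (hp : p ≠ 2)
    (h : ∀ H : Subgroup G, IsPGroup p H → ∀ x ∈ H, ∀ y ∈ H, x * y = y * x) :
    ¬ Cfsg.Involves ↥(Cfsg.qd p) G := by
  intro hinv
  obtain ⟨L, Θ, hΘ⟩ := involves_iff.1 hinv
  obtain ⟨D⟩ := qdData_qd (p := p) hp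
  obtain ⟨T₀⟩ : Nonempty (Sylow p ↥L) := inferInstance
  let T : Sylow p ↥(Cfsg.qd p) := T₀.mapSurjective hΘ
  obtain ⟨a, ha, b, hb, hab⟩ := QdData.not_comm_sylow D T
  obtain ⟨x, hx, rfl⟩ := ha
  obtain ⟨y, hy, rfl⟩ := hb
  apply hab
  rw [← map_mul, ← map_mul]
  congr 1
  apply Subtype.ext
  have hH : IsPGroup p ((T₀ : Subgroup ↥L).map L.subtype) := T₀.isPGroup'.map _
  exact h _ hH _ ⟨x, hx, rfl⟩ _ ⟨y, hy, rfl⟩

section sl

variable {K : Type*} [Field K]

/-- `SL₂` moves the first basis vector to any non-zero vector. -/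
theorem exists_sl_col' {a : Fin 2 → K} (ha : a ≠ 0) :
    ∃ M : Matrix.SpecialLinearGroup (Fin 2) K,
      (M : Matrix (Fin 2) (Fin 2) K).mulVec ![1, 0] = a := by
  by_cases h0 : a 0 = 0
  · have h1 : a 1 ≠ 0 := by
      intro h1
      apply ha
      ext i
      fin_cases i
      · exact h0
      · exact h1
    refine ⟨⟨!![0, -(a 1)⁻¹; a 1, 0], ?_⟩, ?_⟩
    · rw [Matrix.det_fin_two_of]
      field_simp
      ring
    · ext i
      fin_cases i
      · simp [Matrix.mulVec, dotProduct, Fin.sum_univ_two, h0]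
      · simp [Matrix.mulVec, dotProduct, Fin.sum_univ_two]
  · refine ⟨⟨!![a 0, 0; a 1, (a 0)⁻¹], ?_⟩, ?_⟩
    · rw [Matrix.det_fin_two_of]
      field_simp
      ring
    · ext i
      fin_cases i <;> simp [Matrix.mulVec, dotProduct, Fin.sum_univ_two]

/-- The stabilizer of a non-zero vector in `SL₂(K)` is abelian. -/
theorem comm_of_fix {w : Fin 2 → K} (hw : w ≠ 0) {x y : Matrix.SpecialLinearGroup (Fin 2) K}
    (hx : (x : Matrix (Fin 2) (Fin 2) K).mulVec w = w)
    (hy : (y : Matrix (Fin 2) (Fin 2) K).mulVec w = w) : x * y = y * x := by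
  obtain ⟨M, hM⟩ := exists_sl_col' hw
  have hcol : ∀ z : Matrix.SpecialLinearGroup (Fin 2) K, (z : Matrix (Fin 2) (Fin 2) K).mulVec w = w →
      ∃ a : K, ((M⁻¹ * z * M : Matrix.SpecialLinearGroup (Fin 2) K) : Matrix (Fin 2) (Fin 2) K) = !![1, a; 0, 1] := by
    intro z hz
    set A := (M⁻¹ * z * M : Matrix.SpecialLinearGroup (Fin 2) K) with hA
    have h1 : (A : Matrix (Fin 2) (Fin 2) K).mulVec ![1, 0] = ![1, 0] := by
      rw [hA, Matrix.SpecialLinearGroup.coe_mul, Matrix.SpecialLinearGroup.coe_mul, ← Matrix.mulVec_mulVec,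
        ← Matrix.mulVec_mulVec, hM, hz, ← hM, Matrix.mulVec_mulVec, ← Matrix.SpecialLinearGroup.coe_mul,
        inv_mul_cancel, Matrix.SpecialLinearGroup.coe_one, Matrix.one_mulVec]
    have ha00 : (A : Matrix (Fin 2) (Fin 2) K) 0 0 = 1 := by
      have := congrFun h1 0
      simpa [Matrix.mulVec, dotProduct, Fin.sum_univ_two] using this
    have ha10 : (A : Matrix (Fin 2) (Fin 2) K) 1 0 = 0 := by
      have := congrFun h1 1
      simpa [Matrix.mulVec, dotProduct, Fin.sum_univ_two] using this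
    have hda := A.2
    rw [Matrix.det_fin_two, ha00, ha10] at hda
    have ha11 : (A : Matrix (Fin 2) (Fin 2) K) 1 1 = 1 := by
      have e : ((A : Matrix (Fin 2) (Fin 2) K) 1 1) = 1 * (A : Matrix (Fin 2) (Fin 2) K) 1 1 - (A : Matrix (Fin 2) (Fin 2) K) 0 1 * 0 := by ring
      rw [e]
      exact hda
    refine ⟨(A : Matrix (Fin 2) (Fin 2) K) 0 1, ?_⟩
    ext i j
    fin_cases i <;> fin_cases j <;> simp [ha00, ha10, ha11]
  obtain ⟨a, ha⟩ := hcol x hx
  obtain ⟨b, hb⟩ := hcol y hy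
  have h1 : (M⁻¹ * x * M) * (M⁻¹ * y * M) = (M⁻¹ * y * M) * (M⁻¹ * x * M) := by
    apply Matrix.SpecialLinearGroup.ext
    rw [Matrix.SpecialLinearGroup.coe_mul (M⁻¹ * x * M) (M⁻¹ * y * M), Matrix.SpecialLinearGroup.coe_mul (M⁻¹ * y * M) (M⁻¹ * x * M), ha, hb]
    intro i j
    fin_cases i <;> fin_cases j <;> simp [Matrix.mul_apply, Fin.sum_univ_two, add_comm]
  have h2 : M⁻¹ * (x * y) * M = M⁻¹ * (y * x) * M := by
    calc M⁻¹ * (x * y) * M = (M⁻¹ * x * M) * (M⁻¹ * y * M) := by group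
      _ = (M⁻¹ * y * M) * (M⁻¹ * x * M) := h1
      _ = _ := by group
  exact mul_left_cancel (mul_right_cancel h2)

/-- `p`-subgroups of `SL₂(K)` are abelian in characteristic `p`. -/
theorem comm_of_pgroup [Finite K] [CharP K p] {H : Subgroup (Matrix.SpecialLinearGroup (Fin 2) K)} (hH : IsPGroup p H)
    {x y : Matrix.SpecialLinearGroup (Fin 2) K} (hx : x ∈ H) (hy : y ∈ H) : x * y = y * x := by
  classical
  haveI := Fintype.ofFinite K
  letI : MulAction ↥H (Fin 2 → K) :=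
    { smul := fun x u => ((x : Matrix.SpecialLinearGroup (Fin 2) K) : Matrix (Fin 2) (Fin 2) K).mulVec u
      one_smul := fun u => by
        show ((1 : Matrix.SpecialLinearGroup (Fin 2) K) : Matrix (Fin 2) (Fin 2) K).mulVec u = u
        rw [Matrix.SpecialLinearGroup.coe_one, Matrix.one_mulVec]
      mul_smul := fun x y u => by
        show (((x : Matrix.SpecialLinearGroup (Fin 2) K) * (y : Matrix.SpecialLinearGroup (Fin 2) K) : Matrix.SpecialLinearGroup (Fin 2) K) : Matrix (Fin 2) (Fin 2) K).mulVec u = _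
        rw [Matrix.SpecialLinearGroup.coe_mul, ← Matrix.mulVec_mulVec]
        rfl }
  have hcard : p ∣ Nat.card (Fin 2 → K) := by
    rw [Nat.card_eq_fintype_card, Fintype.card_fun, Fintype.card_fin]
    have h1 : ((Fintype.card K : ℕ) : K) = 0 := Nat.cast_card_eq_zero K
    have h2 : p ∣ Fintype.card K := (CharP.cast_eq_zero_iff K p _).1 h1
    exact h2.trans (dvd_pow_self _ (by norm_num))
  have h0 : (0 : Fin 2 → K) ∈ MulAction.fixedPoints ↥H (Fin 2 → K) := by
    intro x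
    show ((x : Matrix.SpecialLinearGroup (Fin 2) K) : Matrix (Fin 2) (Fin 2) K).mulVec 0 = 0
    simp
  obtain ⟨z, hz, hne⟩ := hH.exists_fixed_point_of_prime_dvd_card_of_fixed_point _ hcard h0
  exact comm_of_fix hne.symm (hz ⟨x, hx⟩) (hz ⟨y, hy⟩)

end sl

/-- `Qd(p)` is not involved in `PSL₂(K)` or `SL₂(K)`. -/
theorem not_involves_sl (hp : p ≠ 2) {K : Type*} [Field K] [Finite K] [CharP K p] :
    ¬ Cfsg.Involves ↥(Cfsg.qd p) (Matrix.SpecialLinearGroup (Fin 2) K) := by
  haveI : Finite (Matrix.SpecialLinearGroup (Fin 2) K) := by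
    haveI := Fintype.ofFinite K
    classical
    infer_instance
  exact not_involves_of_comm hp fun H hH x hx y hy => comm_of_pgroup hH hx hy

end Cfsg.Agent.Lib.QdAbelian
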