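import Mathlib
import Cfsg.Agent.Lib.ZJControl
import Cfsg.Agent.Lib.StrongFusion
import Cfsg.Agent.Lib.QdControl

/-! Control of strong fusion by `Z(J(D))` without `p`-constraint. -/

set_option autoImplicit false
set_option linter.all false

universe u

namespace Cfsg.Agent.Lib.QdFusion

open Cfsg Cfsg.Agent.Lib.ConjFamily Cfsg.Agent.Lib.SylowIn Cfsg.Agent.Lib.FamilyFusion
  Cfsg.Agent.Lib.ZJControl Cfsg.Agent.Lib.ZJ Cfsg.Agent.Lib.ZJGood Cfsg.Agent.Lib.ZJQuot
  Cfsg.Agent.Lib.PCore Cfsg.Agent.Lib.SecFunctor Cfsg.Agent.Lib.StrongFusion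

section lift

variable {L : Type*} [Group L] [Finite L] {p : ℕ} [Fact p.Prime]

theorem frattini_norm {O V : Subgroup L} [hOn : O.Normal] (hO : ¬ p ∣ Nat.card O) (hV : IsPGroup p V)
    {g : L} (h1 : cj g V ≤ O ⊔ V) : ∃ o ∈ O, ∃ n ∈ Subgroup.normalizer (V : Set L), g = o * n := by
  have hSyl := isSylowIn_sup hO hV
  obtain ⟨y, hy, hyV⟩ := exists_conj_le_of_isSylowIn hSyl h1 (hV.map _)
  rw [cj_cj] at hyV
  have h3 : cj (y * g) V = V := Subgroup.eq_of_le_of_card_ge hyV (by rw [card_cj])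
  have h4 : y * g ∈ Subgroup.normalizer (V : Set L) := mem_normalizer_of_cj_eq h3
  have hy' : y⁻¹ ∈ O ⊔ V := Subgroup.inv_mem _ hy
  rw [Subgroup.mem_sup_of_normal_left] at hy'
  obtain ⟨o, ho, v, hv, hov⟩ := hy'
  refine ⟨o, ho, v * (y * g), Subgroup.mul_mem _ (Subgroup.le_normalizer hv) h4, ?_⟩
  calc g = y⁻¹ * (y * g) := by group
    _ = o * v * (y * g) := by rw [hov]
    _ = _ := by group

/-- Lifting the action of an element modulo a normal `p'`-subgroup. -/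
theorem lift_action' {O K : Subgroup L} [hOn : O.Normal] (hO : ¬ p ∣ Nat.card O)
    {T : Subgroup L} (hTp : IsPGroup p T) (hTK : T ≤ K)
    {g k : L} (hk : k ∈ K) (hgK : cj g T ≤ K)
    (hcong : ∀ t ∈ T, (k * t * k⁻¹) * (g * t * g⁻¹)⁻¹ ∈ O) :
    ∃ m ∈ K, ∀ t ∈ T, g * t * g⁻¹ = m * t * m⁻¹ := by
  classical
  set T₂ := cj g T with hT₂
  set T₁ := cj k T with hT₁
  have hT₁K : T₁ ≤ K := by
    rintro _ ⟨t, ht, rfl⟩
    exact K.mul_mem (K.mul_mem hk (hTK ht)) (K.inv_mem hk)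
  have hT₂p : IsPGroup p T₂ := hTp.map _
  have hT₁p : IsPGroup p T₁ := hTp.map _
  set O₀ := O ⊓ K with hO₀
  have hT₂n : T₂ ≤ Subgroup.normalizer (O₀ : Set L) := by
    intro t ht
    have htK := hgK ht
    rw [Subgroup.mem_normalizer_iff]
    intro z
    constructor
    · rintro ⟨h1, h2⟩
      exact ⟨hOn.conj_mem z h1 t, K.mul_mem (K.mul_mem htK h2) (K.inv_mem htK)⟩
    · rintro ⟨h1, h2⟩
      have e : z = t⁻¹ * (t * z * t⁻¹) * t := by group
      rw [e]
      refine ⟨?_, K.mul_mem (K.mul_mem (K.inv_mem htK) h2) htK⟩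
      have := hOn.conj_mem _ h1 t⁻¹
      rwa [inv_inv] at this
  set J := T₂ ⊔ O₀ with hJ
  have hmemJ : ∀ w ∈ J, ∃ a ∈ T₂, ∃ b ∈ O₀, w = a * b := fun w hw =>
    Cfsg.Agent.Lib.Replacement.mem_sup_of_le_normalizer hT₂n hw
  have hok : ∀ z ∈ O, QuotientGroup.mk' O z = 1 := fun z hz => (QuotientGroup.eq_one_iff z).2 hz
  have hSyl : IsSylowIn p T₂ J := by
    refine isSylowIn_of_card le_sup_left hT₂p fun W hW hWp => ?_
    rw [← card_map_mk hO hWp, ← card_map_mk hO hT₂p]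
    apply Subgroup.card_le_of_le
    rintro _ ⟨w, hw, rfl⟩
    obtain ⟨a, ha, b, hb, rfl⟩ := hmemJ w (hW hw)
    refine ⟨a, ha, ?_⟩
    rw [map_mul, hok b hb.1, mul_one]
  have hT₁J : T₁ ≤ J := by
    rintro _ ⟨t, ht, rfl⟩
    set a₁ := k * t * k⁻¹ with ha₁
    have ha₁K : a₁ ∈ K := hT₁K ⟨t, ht, rfl⟩
    set a₂ := g * t * g⁻¹ with ha₂
    have ha₂T : a₂ ∈ T₂ := ⟨t, ht, rfl⟩
    have ha₂K : a₂ ∈ K := hgK ha₂T
    have h1 : a₁ * a₂⁻¹ ∈ O₀ := ⟨hcong t ht, K.mul_mem ha₁K (K.inv_mem ha₂K)⟩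
    have e : a₁ = a₂ * (a₂⁻¹ * (a₁ * a₂⁻¹) * a₂) := by group
    show a₁ ∈ J
    rw [e]
    refine J.mul_mem (Subgroup.mem_sup_left ha₂T) (Subgroup.mem_sup_right ?_)
    exact (Subgroup.mem_normalizer_iff.1 (hT₂n (T₂.inv_mem ha₂T)) _).1 h1 |> fun h => by
      simpa using h
  obtain ⟨y, hy, hyT⟩ := exists_conj_le_of_isSylowIn hSyl hT₁J hT₁p
  obtain ⟨a, ha, b, hb, rfl⟩ := hmemJ y hy
  have hbT : cj b T₁ ≤ T₂ := by
    have h1 : cj b T₁ = cj a⁻¹ (cj (a * b) T₁) := by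
      have e : a⁻¹ * (a * b) = b := by group
      rw [cj_cj a⁻¹ (a * b) T₁, e]
    rw [h1]
    have h2 : cj a⁻¹ T₂ = T₂ := cj_eq_of_mem_normalizer
      (Subgroup.inv_mem _ (Subgroup.le_normalizer ha))
    calc cj a⁻¹ (cj (a * b) T₁) ≤ cj a⁻¹ T₂ := cj_mono _ hyT
      _ = T₂ := h2
  refine ⟨b * k, K.mul_mem hb.2 hk, fun t ht => ?_⟩
  have h1 : (b * k) * t * (b * k)⁻¹ ∈ T₂ := by
    have := hbT ⟨k * t * k⁻¹, ⟨t, ht, rfl⟩, rfl⟩
    have e : (MulAut.conj b).toMonoidHom (k * t * k⁻¹) = (b * k) * t * (b * k)⁻¹ := by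
      show b * (k * t * k⁻¹) * b⁻¹ = _
      group
    rwa [e] at this
  have h2 : g * t * g⁻¹ ∈ T₂ := ⟨t, ht, rfl⟩
  have h3 : ((b * k) * t * (b * k)⁻¹) * (g * t * g⁻¹)⁻¹ ∈ O := by
    have e : ((b * k) * t * (b * k)⁻¹) * (g * t * g⁻¹)⁻¹ =
        (b * (k * t * k⁻¹) * b⁻¹ * (k * t * k⁻¹)⁻¹) * ((k * t * k⁻¹) * (g * t * g⁻¹)⁻¹) := by group
    rw [e]
    refine O.mul_mem ?_ (hcong t ht)
    have e2 : b * (k * t * k⁻¹) * b⁻¹ * (k * t * k⁻¹)⁻¹ = b * ((k * t * k⁻¹) * b⁻¹ * (k * t * k⁻¹)⁻¹) := by group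
    rw [e2]
    exact O.mul_mem hb.1 (hOn.conj_mem _ (O.inv_mem hb.1) _)
  have h5 := eq_one_of_mem hO hT₂p h3 (T₂.mul_mem h1 (T₂.inv_mem h2))
  exact (mul_inv_eq_one.1 h5).symm

end lift

section strongly

variable {G : Type*} [Group G] [Finite G] {p : ℕ} [Fact p.Prime]

/-- The image of a strongly closed subgroup modulo a normal `p`-subgroup. -/
theorem stronglyClosed_map_p {Q : Subgroup G} [hQn : Q.Normal] {S : Subgroup G} (hQS : Q ≤ S)
    {D : Subgroup G} (hD : IsStronglyClosed D S) :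
    IsStronglyClosed (D.map (QuotientGroup.mk' Q)) (S.map (QuotientGroup.mk' Q)) := by
  refine ⟨Subgroup.map_mono hD.1, ?_⟩
  have hback : ∀ z : G, QuotientGroup.mk' Q z ∈ S.map (QuotientGroup.mk' Q) → z ∈ S := by
    rintro z ⟨s, hs, he⟩
    have h2 : s⁻¹ * z ∈ Q := QuotientGroup.eq.1 he
    have e : z = s * (s⁻¹ * z) := by group
    rw [e]
    exact S.mul_mem hs (hQS h2)
  rintro _ ⟨x, hx, rfl⟩ gb hg
  obtain ⟨g, rfl⟩ := QuotientGroup.mk'_surjective Q gb
  have e : QuotientGroup.mk' Q g * QuotientGroup.mk' Q x * (QuotientGroup.mk' Q g)⁻¹ =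
      QuotientGroup.mk' Q (g * x * g⁻¹) := by simp
  rw [e] at hg ⊢
  exact ⟨_, hD.2 x hx g (hback _ hg), rfl⟩

/-- Chains inside a subgroup. -/
theorem mem_of_fGood {S : Set G} {M : Subgroup G} {A : Set G} {c : G} (h : FGood S (M : Set G) A c) : c ∈ M := by
  induction h with
  | nil _ => exact M.one_mem
  | cons hy _ _ ih => exact M.mul_mem ih hy

end strongly

section main

variable {p : ℕ} [hpp : Fact p.Prime] {Y : ∀ (X : Type u) [Group X], Subgroup X → Subgroup X}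

/-- Control of strong fusion in `G`. -/
def Ctl (p : ℕ) [Fact p.Prime] (Y : ∀ (X : Type u) [Group X], Subgroup X → Subgroup X)
    (G : Type u) [Group G] [Finite G] : Prop :=
  ∀ (S : Sylow p G) (D : Subgroup G), IsStronglyClosed D (S : Subgroup G) →
    ∀ T : Subgroup G, T ≤ (S : Subgroup G) → ∀ g : G, cj g T ≤ (S : Subgroup G) →
      Ct (Subgroup.normalizer (Y G D : Set G)) T g

variable {G : Type u} [Group G] [Finite G]

/-- Local control from control in a subgroup. -/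
theorem ctl_sub (hY : GoodY p Y) (S : Sylow p G) {D : Subgroup G}
    (hD : IsStronglyClosed D (S : Subgroup G)) {H : Subgroup G}
    (hctl : Ctl p Y ↥H) (hH : IsSylowIn p ((S : Subgroup G) ⊓ H) H)
    (T : Subgroup G) (hT : T ≤ (S : Subgroup G) ⊓ H) (k : G) (hk : k ∈ H)
    (hkT : cj k T ≤ (S : Subgroup G) ⊓ H) :
    Ct (Subgroup.normalizer (Y G (D ⊓ ((S : Subgroup G) ⊓ H)) : Set G)) T k := by
  classical
  obtain ⟨R, hR⟩ := hH
  set D₁ := D ⊓ ((S : Subgroup G) ⊓ H) with hD₁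
  have hD₁H : D₁ ≤ H := inf_le_right.trans inf_le_right
  set DH := D₁.subgroupOf H with hDHd
  have hDH : IsStronglyClosed DH (R : Subgroup ↥H) := by
    constructor
    · rw [hR]
      intro x hx
      exact hx.2
    · intro a ha g hg
      rw [hR] at hg
      have h1 : ((g : G) * a * (g : G)⁻¹) ∈ D := hD.2 a ha.1 g hg.1
      exact ⟨h1, hg⟩
  set TH := T.subgroupOf H with hTHd
  have hTHR : TH ≤ R := by
    rw [hR]
    exact fun x hx => hT hx
  have hkH : cj (⟨k, hk⟩ : ↥H) TH ≤ R := by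
    rintro _ ⟨t, ht, rfl⟩
    rw [hR]
    exact hkT ⟨t, ht, rfl⟩
  obtain ⟨m, hm, hact⟩ := hctl R DH hDH TH hTHR ⟨k, hk⟩ hkH
  have hK : (m : G) ∈ Subgroup.normalizer (Y G D₁ : Set G) := by
    have h1 := Subgroup.le_normalizer_map H.subtype ⟨m, hm, rfl⟩
    rw [hY.map ↥H G H.subtype DH (fun a _ b _ h => H.subtype_injective h),
      hDHd, Subgroup.map_subgroupOf_eq_of_le hD₁H] at h1
    exact h1
  refine ⟨m, hK, fun t ht => ?_⟩
  have := hact ⟨t, (hT ht).2⟩ ht
  exact congrArg Subtype.val this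

/-- Control in a subgroup containing the Sylow subgroup. -/
theorem ctl_sub_top (hY : GoodY p Y) (S : Sylow p G) {D : Subgroup G}
    (hD : IsStronglyClosed D (S : Subgroup G)) {H : Subgroup G}
    (hctl : Ctl p Y ↥H) (hSH : (S : Subgroup G) ≤ H)
    (T : Subgroup G) (hT : T ≤ (S : Subgroup G)) (k : G) (hk : k ∈ H)
    (hkT : cj k T ≤ (S : Subgroup G)) :
    Ct (Subgroup.normalizer (Y G D : Set G)) T k := by
  have e : (S : Subgroup G) ⊓ H = S := inf_eq_left.2 hSH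
  have hH : IsSylowIn p ((S : Subgroup G) ⊓ H) H := by
    rw [e]
    exact SylowIn.IsSylowIn.mono (Cfsg.Agent.Lib.WeakCl.isSylowIn_top S) hSH le_top
  have := ctl_sub hY S hD hctl hH T (by rw [e]; exact hT) k hk (by rw [e]; exact hkT)
  rwa [e, inf_eq_left.2 hD.1] at this

/-- The case of a non-trivial normal `p'`-subgroup. -/
theorem ctl_pprime (hY : GoodY p Y) {O : Subgroup G} [hOn : O.Normal] (hO : ¬ p ∣ Nat.card O)
    (hctl : Ctl p Y (G ⧸ O)) : Ctl p Y G := by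
  classical
  intro S D hD T hTS g hg
  have hDp : IsPGroup p D := S.isPGroup'.to_le hD.1
  have hinj := mk_inj (V := D) hO hDp
  set π := QuotientGroup.mk' O with hπ
  have hsurj : Function.Surjective π := QuotientGroup.mk'_surjective O
  let Sb : Sylow p (G ⧸ O) := S.mapSurjective hsurj
  have hSb : (Sb : Subgroup (G ⧸ O)) = (S : Subgroup G).map π := rfl
  have hDb : IsStronglyClosed (D.map π) (Sb : Subgroup (G ⧸ O)) := stronglyClosed_map hO S hD
  obtain ⟨mb, hmb, hact⟩ := hctl Sb (D.map π) hDb (T.map π) (Subgroup.map_mono hTS) (π g) (by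
    rintro _ ⟨_, ⟨t, ht, rfl⟩, rfl⟩
    refine ⟨g * t * g⁻¹, hg ⟨t, ht, rfl⟩, ?_⟩
    show π (g * t * g⁻¹) = π g * π t * (π g)⁻¹
    simp)
  rw [← hY.map _ _ _ _ hinj] at hmb
  obtain ⟨x, rfl⟩ := hsurj mb
  set V := Y G D with hV
  have hVp : IsPGroup p V := hDp.to_le (hY.le _ D)
  have hcjV : cj x V ≤ O ⊔ V := by
    rintro _ ⟨v, hv, rfl⟩
    have h1 : π (x * v * x⁻¹) ∈ V.map π := by
      have h2 := (Subgroup.mem_normalizer_iff.1 hmb (π v)).1 ⟨v, hv, rfl⟩
      simpa using h2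
    obtain ⟨v', hv', he⟩ := h1
    have h2 : v'⁻¹ * (x * v * x⁻¹) ∈ O := QuotientGroup.eq.1 he
    have e : (MulAut.conj x).toMonoidHom v = v' * (v'⁻¹ * (x * v * x⁻¹)) := by
      show x * v * x⁻¹ = _
      group
    rw [e]
    exact Subgroup.mul_mem _ (Subgroup.mem_sup_right hv') (Subgroup.mem_sup_left h2)
  obtain ⟨o, ho, n, hn, rfl⟩ := frattini_norm hO hVp hcjV
  have hSK : (S : Subgroup G) ≤ Subgroup.normalizer (V : Set G) := sylow_le_normalizer hY _ hD
  have hTp : IsPGroup p T := S.isPGroup'.to_le hTS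
  refine lift_action' hO hTp (hTS.trans hSK) hn (hg.trans hSK) fun t ht => ?_
  rw [← QuotientGroup.eq_one_iff]
  have h1 := hact (π t) ⟨t, ht, rfl⟩
  have hok : π o = 1 := (QuotientGroup.eq_one_iff o).2 ho
  have h2 : π ((n * t * n⁻¹) * (g * t * g⁻¹)⁻¹) = 1 := by
    simp only [map_mul, map_inv]
    rw [map_mul, hok, one_mul] at h1
    rw [h1]
    group
  exact h2

/-- The case without normal `p`-subgroups. -/
theorem ctl_no_core (hY : GoodY p Y) (hQ : pCore p G = ⊥)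
    (IHsub : ∀ H : Subgroup G, H ≠ ⊤ → Ctl p Y ↥H) : Ctl p Y G := by
  classical
  intro S D hD X hX g hg
  by_cases hDne : D = ⊥
  · refine ⟨g, ?_, fun _ _ => rfl⟩
    have h1 : Y G D = ⊥ := by
      rw [eq_bot_iff]
      exact (hY.le G D).trans hDne.le
    rw [h1]
    apply mem_normalizer_of_cj_eq
    exact Subgroup.map_bot _
  have hmain := fusion_of_local S (fun R => Y G (D ⊓ R))
    (fun R _ => (hY.le _ _).trans inf_le_right)
    (fun R _ => by
      refine le_trans ?_ (normalizer_le hY (D ⊓ R))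
      refine le_trans ?_ (inf_normalizer_le D R)
      exact inf_le_inf_right _ (sylow_le_normalizer_D _ hD))
    (fun V hV _ => sylow_inf_normalizer_ne_bot hY S hD hDne hV)
    (fun V hV hne ht T hT k hk hkT => by
      have hntop : Subgroup.normalizer (V : Set G) ≠ ⊤ := by
        intro htop
        have hVn : V.Normal := (Subgroup.normalizer_eq_top_iff).1 htop
        have : V ≤ pCore p G := le_pCore hVn (S.isPGroup'.to_le hV)
        rw [hQ] at this
        exact hne (le_bot_iff.1 this)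
      exact ctl_sub hY S hD (IHsub _ hntop) ht T hT k hk hkT)
    X hX g hg
  have e : D ⊓ (S : Subgroup G) = D := inf_eq_left.2 hD.1
  simp only [e] at hmain
  exact hmain

/-- The inductive step. -/
theorem ctl_step (hY : GoodY p Y) (hst : IsNormalizerPStable p G)
    (IHsub : ∀ H : Subgroup G, H ≠ ⊤ → Ctl p Y ↥H)
    (IHquot : ∀ (N : Subgroup G) [N.Normal], N ≠ ⊥ → Ctl p Y (G ⧸ N)) : Ctl p Y G := by
  classical
  by_cases hL : pPrimeCore p G = ⊥
  swap
  · haveI := Cfsg.Agent.Lib.FitCore.pPrimeCore_normal (G := G) p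
    exact ctl_pprime hY (Cfsg.Agent.Lib.FitCore.not_dvd_card_pPrimeCore p Fact.out) (IHquot _ hL)
  by_cases hQbot : pCore p G = ⊥
  · exact ctl_no_core hY hQbot IHsub
  set Q : Subgroup G := pCore p G with hQ
  haveI hQn : Q.Normal := pCore_normal p G
  have hQp : IsPGroup p Q := isPGroup_pCore p G
  intro S D hD T hTS g hg
  have hQS : Q ≤ (S : Subgroup G) := pCore_le_sylow S
  have htriv : (Subgroup.normalizer (Y G D : Set G)) = ⊤ → Ct (Subgroup.normalizer (Y G D : Set G)) T g := by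
    intro ht
    refine ⟨g, ?_, fun _ _ => rfl⟩
    rw [ht]
    trivial
  by_cases hc : Subgroup.centralizer ((Q : Subgroup G) : Set G) ≤ Q
  · apply htriv
    rw [Subgroup.normalizer_eq_top_iff]
    exact hY.nrm G S D hD hc fun B hB hBp =>
      Cfsg.Agent.Lib.ZJApps.stabOn_of_normalizerStable hst hB hBp
  by_cases hDQ : D ≤ Q
  · apply htriv
    have hDn : D.Normal := by
      refine ⟨fun x hx y => ?_⟩
      have h1 : y * x * y⁻¹ ∈ Q := hQn.conj_mem x (hDQ hx) y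
      exact hD.2 x hx y (hQS h1)
    have h2 : Subgroup.normalizer (D : Set G) = ⊤ := (Subgroup.normalizer_eq_top_iff).2 hDn
    rw [eq_top_iff, ← h2]
    exact normalizer_le hY D
  have hSC := inf_centralizer_not_le S hL hc
  have hCne : Subgroup.normalizer (((S : Subgroup G) ⊓ Subgroup.centralizer ((Q : Subgroup G) : Set G) : Subgroup G) : Set G) ≠ ⊤ := by
    intro htop
    have hn : ((S : Subgroup G) ⊓ Subgroup.centralizer ((Q : Subgroup G) : Set G)).Normal :=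
      (Subgroup.normalizer_eq_top_iff).1 htop
    exact hSC (le_pCore hn (S.isPGroup'.to_le inf_le_left))
  set M := Subgroup.normalizer (Y G D : Set G) with hM
  have hreal : ∀ (A : Subgroup G) (h : G), A ≤ (S : Subgroup G) → cj h A ≤ (S : Subgroup G) →
      Ct M A h → Realized ((S : Subgroup G) : Set G) (M : Set G) (A : Set G) h := by
    rintro A h hA hhA ⟨m, hm, hact⟩
    refine ⟨m, FGood.single hm (SetLike.coe_subset_coe.2 hA) ?_, fun a ha => (hact a ha).symm⟩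
    rintro _ ⟨a, ha, rfl⟩
    show m * a * m⁻¹ ∈ (S : Subgroup G)
    rw [← hact a ha]
    exact hhA ⟨a, ha, rfl⟩
  have hH1 : ∀ H : Subgroup G, H ≠ ⊤ → (S : Subgroup G) ≤ H → ∀ (A : Set G) (h : G),
      A ⊆ ((S : Subgroup G) : Set G) → h ∈ H → lc h A ⊆ ((S : Subgroup G) : Set G) →
      Realized ((S : Subgroup G) : Set G) (M : Set G) A h := by
    intro H hH hSH A h hA hh himg
    have hcl : Subgroup.closure A ≤ (S : Subgroup G) := (Subgroup.closure_le _).2 hA
    have hcl2 : cj h (Subgroup.closure A) ≤ (S : Subgroup G) := by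
      show (Subgroup.closure A).map _ ≤ _
      rw [MonoidHom.map_closure, Subgroup.closure_le]
      exact himg
    exact (hreal _ h hcl hcl2 (ctl_sub_top hY S hD (IHsub H hH) hSH _ hcl h hh hcl2)).mono Subgroup.subset_closure
  -- the quotient by `Q`
  set π := QuotientGroup.mk' Q with hπ
  have hsurj : Function.Surjective π := QuotientGroup.mk'_surjective Q
  let Sb : Sylow p (G ⧸ Q) := S.mapSurjective hsurj
  have hSb : (Sb : Subgroup (G ⧸ Q)) = (S : Subgroup G).map π := rfl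
  have hDb : IsStronglyClosed (D.map π) (Sb : Subgroup (G ⧸ Q)) := stronglyClosed_map_p hQS hD
  have hback : ∀ z : G, π z ∈ (S : Subgroup G).map π → z ∈ (S : Subgroup G) := by
    rintro z ⟨s, hs, he⟩
    have h2 : s⁻¹ * z ∈ Q := QuotientGroup.eq.1 he
    have e : z = s * (s⁻¹ * z) := by group
    rw [e]
    exact Subgroup.mul_mem _ hs (hQS h2)
  have hDbne : D.map π ≠ ⊥ := by
    intro h0
    apply hDQ
    intro d hd
    have h1 : π d ∈ D.map π := ⟨d, hd, rfl⟩
    rw [h0] at h1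
    exact (QuotientGroup.eq_one_iff d).1 h1
  set Vb := Y (G ⧸ Q) (D.map π) with hVb
  have hVbne : Vb ≠ ⊥ := hY.ne _ _ (hDb.1.trans le_rfl |> fun h => Sb.isPGroup'.to_le h) hDbne
  have hVbp : IsPGroup p Vb := (Sb.isPGroup'.to_le hDb.1).to_le (hY.le _ _)
  set LW : Subgroup G := (Subgroup.normalizer (Vb : Set (G ⧸ Q))).comap π with hLW
  have hmap : LW.map π = Subgroup.normalizer (Vb : Set (G ⧸ Q)) :=
    Subgroup.map_comap_eq_self_of_surjective hsurj _
  have hLWtop : LW ≠ ⊤ := by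
    intro htop
    have h1 : Subgroup.normalizer (Vb : Set (G ⧸ Q)) = ⊤ := by
      rw [← hmap, htop, Subgroup.map_top_of_surjective _ hsurj]
    have hVn : Vb.Normal := (Subgroup.normalizer_eq_top_iff).1 h1
    have h2 : Vb ≤ pCore p (G ⧸ Q) := le_pCore hVn hVbp
    rw [pCore_quotient_eq_bot] at h2
    exact hVbne (le_bot_iff.1 h2)
  have hSLW : (S : Subgroup G) ≤ LW := by
    intro s hs
    exact sylow_le_normalizer hY _ hDb ⟨s, hs, rfl⟩
  have hH2 : ∀ (T : Subgroup G) (x : G), T ≤ (S : Subgroup G) → lc x (T : Set G) ⊆ ((S : Subgroup G) : Set G) →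
      ∃ l : G, Realized ((S : Subgroup G) : Set G) (M : Set G) (T : Set G) l ∧
        ∀ t ∈ T, (l * t * l⁻¹) * (x * t * x⁻¹)⁻¹ ∈ Q := by
    intro T x hT hx
    obtain ⟨mb, hmb, hact⟩ := IHquot Q hQbot Sb (D.map π) hDb (T.map π) (Subgroup.map_mono hT) (π x) (by
      rintro _ ⟨_, ⟨t, ht, rfl⟩, rfl⟩
      refine ⟨x * t * x⁻¹, hx ⟨t, ht, rfl⟩, ?_⟩
      show π (x * t * x⁻¹) = π x * π t * (π x)⁻¹
      simp)
    obtain ⟨m, rfl⟩ := hsurj mb
    have hcong : ∀ t ∈ T, π (m * t * m⁻¹) = π (x * t * x⁻¹) := by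
      intro t ht
      have h1 := hact (π t) ⟨t, ht, rfl⟩
      simp only [map_mul, map_inv]
      exact h1.symm
    have hmT : cj m T ≤ (S : Subgroup G) := by
      rintro _ ⟨t, ht, rfl⟩
      apply hback
      show π (m * t * m⁻¹) ∈ _
      rw [hcong t ht]
      exact ⟨_, hx ⟨t, ht, rfl⟩, rfl⟩
    refine ⟨m, hH1 LW hLWtop hSLW _ m (SetLike.coe_subset_coe.2 hT) hmb ?_, fun t ht => ?_⟩
    · rintro _ ⟨t, ht, rfl⟩
      exact hmT ⟨t, ht, rfl⟩
    · rw [← QuotientGroup.eq_one_iff]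
      have h2 : π ((m * t * m⁻¹) * (x * t * x⁻¹)⁻¹) = 1 := by
        rw [map_mul, map_inv, hcong t ht]
        group
      exact h2
  have hinv : ∀ y ∈ (M : Set G), y⁻¹ ∈ (M : Set G) := fun y hy => M.inv_mem hy
  obtain ⟨c, hc1, hc2⟩ := core_main S hinv Q hQS hH1 hH2 hCne (T : Set G) g
    (SetLike.coe_subset_coe.2 hTS) (by
      rintro _ ⟨t, ht, rfl⟩
      exact hg ⟨t, ht, rfl⟩)
  exact ⟨c, mem_of_fGood hc1, fun t ht => (hc2 t ht).symm⟩

/-- The main induction. -/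
theorem ctl_main (hY : GoodY p Y) (n : ℕ) :
    ∀ (G : Type u) [Group G] [Finite G], Nat.card G = n →
      (∀ (X : Type u) [Group X] [Finite X], IsSec X G → IsNormalizerPStable p X) →
      Ctl p Y G := by
  induction n using Nat.strong_induction_on with
  | _ n IH =>
    intro G _ _ hn hyp
    refine ctl_step hY (hyp G (isSec_self G)) ?_ ?_
    · intro H hH
      have hlt : Nat.card H < n := by
        rw [← hn]
        refine lt_of_le_of_ne (Subgroup.card_le_card_group H) ?_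
        intro hc
        exact hH (Subgroup.eq_top_of_card_eq H hc)
      exact IH _ hlt H rfl fun Y _ _ hY => hyp Y (hY.trans (isSec_subgroup H))
    · intro N _ hN
      have hlt : Nat.card (G ⧸ N) < n := by
        rw [← hn, Subgroup.card_eq_card_quotient_mul_card_subgroup N]
        have h1 : 1 < Nat.card N := by
          rw [Finite.one_lt_card_iff_nontrivial]
          exact (Subgroup.nontrivial_iff_ne_bot N).2 hN
        have h2 : 0 < Nat.card (G ⧸ N) := Nat.card_pos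
        nlinarith
      exact IH _ hlt (G ⧸ N) rfl fun Y _ _ hY => hyp Y (hY.trans (isSec_quotient N))

end main

end Cfsg.Agent.Lib.QdFusion
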