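/-
Tables of the binary polyhedral groups modulo the centre.
-/
import Mathlib
import Cfsg.Agent.Lib.QuatFrame

set_option autoImplicit false
set_option linter.all false
set_option maxRecDepth 100000
set_option synthInstance.maxHeartbeats 200000

open Cfsg.Agent.Lib.QuatFrame

namespace Cfsg.Agent.Lib.QuatTables

/-- Look up in a table. -/
def look (t : List (ℕ × Q4)) (n : ℕ) : Q4 := (t.lookup n).getD ⟨(0, 0), (0, 0), (0, 0), (0, 0)⟩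

/-- A code for a permutation of four letters. -/
def code4 (g : Equiv.Perm (Fin 4)) : ℕ := (g 0).val + 4 * (g 1).val + 16 * (g 2).val

/-- A code for a permutation of five letters. -/
def code5 (g : Equiv.Perm (Fin 5)) : ℕ := (g 0).val + 5 * (g 1).val + 25 * (g 2).val + 125 * (g 3).val

/-- The table for `a4`. -/
def tbl_a4 : List (ℕ × Q4) := [
  (36, ⟨(2, 0), (0, 0), (0, 0), (0, 0)⟩),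
  (9, ⟨(-1, 0), (-1, 0), (-1, 0), (-1, 0)⟩),
  (49, ⟨(0, 0), (-2, 0), (0, 0), (0, 0)⟩),
  (18, ⟨(-1, 0), (1, 0), (1, 0), (1, 0)⟩),
  (54, ⟨(-1, 0), (1, 0), (1, 0), (-1, 0)⟩),
  (28, ⟨(-1, 0), (1, 0), (-1, 0), (1, 0)⟩),
  (56, ⟨(1, 0), (1, 0), (-1, 0), (1, 0)⟩),
  (45, ⟨(1, 0), (-1, 0), (1, 0), (1, 0)⟩),
  (7, ⟨(1, 0), (1, 0), (1, 0), (-1, 0)⟩),
  (35, ⟨(1, 0), (1, 0), (-1, 0), (-1, 0)⟩),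
  (14, ⟨(0, 0), (0, 0), (0, 0), (-2, 0)⟩),
  (27, ⟨(0, 0), (0, 0), (-2, 0), (0, 0)⟩)]

/-- The table for `s4`. -/
def tbl_s4 : List (ℕ × Q4) := [
  (36, ⟨(2, 0), (0, 0), (0, 0), (0, 0)⟩),
  (57, ⟨(0, -1), (0, -1), (0, 0), (0, 0)⟩),
  (33, ⟨(0, 0), (0, -1), (0, -1), (0, 0)⟩),
  (14, ⟨(0, 0), (2, 0), (0, 0), (0, 0)⟩),
  (54, ⟨(-1, 0), (1, 0), (1, 0), (1, 0)⟩),
  (56, ⟨(-1, 0), (1, 0), (1, 0), (-1, 0)⟩),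
  (19, ⟨(0, 1), (0, -1), (0, 0), (0, 0)⟩),
  (11, ⟨(0, 1), (0, 0), (0, 0), (0, -1)⟩),
  (13, ⟨(0, 1), (0, 0), (0, -1), (0, 0)⟩),
  (30, ⟨(0, 1), (0, 0), (0, 0), (0, 1)⟩),
  (50, ⟨(0, 1), (0, 0), (0, 1), (0, 0)⟩),
  (28, ⟨(-1, 0), (-1, 0), (-1, 0), (1, 0)⟩),
  (18, ⟨(-1, 0), (-1, 0), (1, 0), (1, 0)⟩),
  (35, ⟨(-1, 0), (-1, 0), (1, 0), (-1, 0)⟩),
  (7, ⟨(-1, 0), (-1, 0), (-1, 0), (-1, 0)⟩),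
  (27, ⟨(0, 0), (0, 0), (-2, 0), (0, 0)⟩),
  (39, ⟨(0, 0), (0, 1), (0, 0), (0, -1)⟩),
  (52, ⟨(0, 0), (0, 1), (0, -1), (0, 0)⟩),
  (24, ⟨(0, 0), (0, 1), (0, 0), (0, 1)⟩),
  (44, ⟨(0, 0), (0, 0), (0, 1), (0, 1)⟩),
  (6, ⟨(0, 0), (0, 0), (0, 1), (0, -1)⟩),
  (9, ⟨(1, 0), (-1, 0), (1, 0), (1, 0)⟩),
  (45, ⟨(1, 0), (-1, 0), (1, 0), (-1, 0)⟩),
  (49, ⟨(0, 0), (0, 0), (0, 0), (-2, 0)⟩)]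

/-- The table for `a5`. -/
def tbl_a5 : List (ℕ × Q4) := [
  (430, ⟨(4, 0), (0, 0), (0, 0), (0, 0)⟩),
  (586, ⟨(-1, -1), (-2, 0), (0, 0), (-1, 1)⟩),
  (326, ⟨(0, 0), (-4, 0), (0, 0), (0, 0)⟩),
  (117, ⟨(-1, 1), (1, 1), (0, 0), (-2, 0)⟩),
  (482, ⟨(-2, 0), (1, 1), (1, -1), (0, 0)⟩),
  (565, ⟨(-2, 0), (1, 1), (-1, 1), (0, 0)⟩),
  (148, ⟨(-1, 1), (-1, -1), (0, 0), (2, 0)⟩),
  (513, ⟨(1, 1), (1, -1), (2, 0), (0, 0)⟩),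
  (96, ⟨(1, 1), (-2, 0), (0, 0), (1, -1)⟩),
  (238, ⟨(1, 1), (1, -1), (-2, 0), (0, 0)⟩),
  (353, ⟨(1, 1), (2, 0), (0, 0), (-1, 1)⟩),
  (279, ⟨(-1, -1), (2, 0), (0, 0), (1, -1)⟩),
  (44, ⟨(-1, -1), (1, -1), (-2, 0), (0, 0)⟩),
  (227, ⟨(-1, -1), (0, 0), (1, -1), (2, 0)⟩),
  (269, ⟨(-1, -1), (0, 0), (-1, 1), (2, 0)⟩),
  (384, ⟨(-2, 0), (-1, -1), (-1, 1), (0, 0)⟩),
  (47, ⟨(-1, -1), (1, -1), (2, 0), (0, 0)⟩),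
  (542, ⟨(1, -1), (-1, -1), (0, 0), (-2, 0)⟩),
  (195, ⟨(-2, 0), (-1, -1), (1, -1), (0, 0)⟩),
  (258, ⟨(2, 0), (2, 0), (2, 0), (-2, 0)⟩),
  (420, ⟨(2, 0), (-1, 1), (0, 0), (-1, -1)⟩),
  (535, ⟨(0, 0), (1, 1), (-2, 0), (1, -1)⟩),
  (178, ⟨(2, 0), (2, 0), (-2, 0), (-2, 0)⟩),
  (73, ⟨(0, 0), (1, 1), (-2, 0), (-1, 1)⟩),
  (139, ⟨(1, -1), (1, 1), (0, 0), (2, 0)⟩),
  (108, ⟨(0, 0), (1, 1), (2, 0), (-1, 1)⟩),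
  (414, ⟨(0, 0), (1, 1), (2, 0), (1, -1)⟩),
  (551, ⟨(0, 0), (-2, 0), (1, -1), (1, 1)⟩),
  (66, ⟨(2, 0), (-2, 0), (2, 0), (2, 0)⟩),
  (334, ⟨(0, 0), (-2, 0), (-1, 1), (1, 1)⟩),
  (204, ⟨(-1, 1), (-2, 0), (1, 1), (0, 0)⟩),
  (290, ⟨(2, 0), (-2, 0), (2, 0), (-2, 0)⟩),
  (402, ⟨(2, 0), (-2, 0), (-2, 0), (-2, 0)⟩),
  (271, ⟨(-1, 1), (-2, 0), (-1, -1), (0, 0)⟩),
  (516, ⟨(1, 1), (0, 0), (1, -1), (2, 0)⟩),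
  (82, ⟨(2, 0), (-2, 0), (-2, 0), (2, 0)⟩),
  (222, ⟨(1, 1), (0, 0), (-1, 1), (2, 0)⟩),
  (485, ⟨(-2, 0), (-1, 1), (0, 0), (-1, -1)⟩),
  (355, ⟨(-2, 0), (0, 0), (-1, -1), (1, -1)⟩),
  (446, ⟨(-2, 0), (0, 0), (-1, -1), (-1, 1)⟩),
  (558, ⟨(-2, 0), (-1, 1), (0, 0), (1, 1)⟩),
  (580, ⟨(-2, 0), (0, 0), (1, 1), (-1, 1)⟩),
  (210, ⟨(-2, 0), (-2, 0), (2, 0), (-2, 0)⟩),
  (429, ⟨(-2, 0), (0, 0), (1, 1), (1, -1)⟩),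
  (59, ⟨(-2, 0), (1, -1), (0, 0), (-1, -1)⟩),
  (386, ⟨(-2, 0), (-2, 0), (-2, 0), (-2, 0)⟩),
  (577, ⟨(-1, 1), (2, 0), (1, 1), (0, 0)⟩),
  (89, ⟨(-1, 1), (0, 0), (2, 0), (-1, -1)⟩),
  (111, ⟨(-1, 1), (0, 0), (-2, 0), (-1, -1)⟩),
  (366, ⟨(-1, 1), (2, 0), (-1, -1), (0, 0)⟩),
  (476, ⟨(0, 0), (2, 0), (1, -1), (1, 1)⟩),
  (345, ⟨(0, 0), (2, 0), (-1, 1), (1, 1)⟩),
  (240, ⟨(0, 0), (1, -1), (-1, -1), (2, 0)⟩),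
  (142, ⟨(0, 0), (0, 0), (0, 0), (4, 0)⟩),
  (397, ⟨(0, 0), (1, -1), (1, 1), (2, 0)⟩),
  (507, ⟨(0, 0), (1, -1), (1, 1), (-2, 0)⟩),
  (194, ⟨(0, 0), (1, -1), (-1, -1), (-2, 0)⟩),
  (298, ⟨(1, -1), (0, 0), (2, 0), (-1, -1)⟩),
  (528, ⟨(1, -1), (0, 0), (-2, 0), (-1, -1)⟩),
  (38, ⟨(0, 0), (0, 0), (-4, 0), (0, 0)⟩)]

/-- The table for `A₄`. -/
def L_a4 (g : alternatingGroup (Fin 4)) : Q4 := look tbl_a4 (code4 g.1)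

/-- The table for `S₄`. -/
def L_s4 (g : Equiv.Perm (Fin 4)) : Q4 := look tbl_s4 (code4 g)

/-- The table for `A₅`. -/
def L_a5 (g : alternatingGroup (Fin 5)) : Q4 := look tbl_a5 (code5 g.1)

theorem a4_norm : ∀ g, normZ 0 (L_a4 g) = ((2 : ℤ) * 2, 0) := by decide +kernel

theorem a4_mul : ∀ g h, hamZ 0 (L_a4 g) (L_a4 h) = scale 2 (L_a4 (g * h)) ∨
    hamZ 0 (L_a4 g) (L_a4 h) = scale (-2) (L_a4 (g * h)) := by decide +kernel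

theorem a4_ne : ∀ g, g ≠ 1 → neZ 0 (L_a4 g) := by decide +kernel

theorem s4_norm : ∀ g, normZ 2 (L_s4 g) = ((2 : ℤ) * 2, 0) := by decide +kernel

theorem s4_mul : ∀ g h, hamZ 2 (L_s4 g) (L_s4 h) = scale 2 (L_s4 (g * h)) ∨
    hamZ 2 (L_s4 g) (L_s4 h) = scale (-2) (L_s4 (g * h)) := by decide +kernel

theorem s4_ne : ∀ g, g ≠ 1 → neZ 2 (L_s4 g) := by decide +kernel

theorem a5_norm : ∀ g, normZ 5 (L_a5 g) = ((4 : ℤ) * 4, 0) := by decide +kernel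

theorem a5_mul : ∀ g h, hamZ 5 (L_a5 g) (L_a5 h) = scale 4 (L_a5 (g * h)) ∨
    hamZ 5 (L_a5 g) (L_a5 h) = scale (-4) (L_a5 (g * h)) := by decide +kernel

theorem a5_ne : ∀ g, g ≠ 1 → neZ 5 (L_a5 g) := by decide +kernel

end Cfsg.Agent.Lib.QuatTables
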