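import Mathlib
import Cfsg.Prelude.Def_PLocal
import Cfsg.Agent.Lib.H6Regular

/-! In a regular `p`-group the `p^n`-th powers form a subgroup. -/

set_option linter.all false

namespace Cfsg.Agent.Lib.RegularPow

open Cfsg Cfsg.Agent.Lib.H6Regular
open scoped commutatorElement

universe u

variable {p : ℕ}

/-- The `p`-th power form of regularity. -/
def WeakReg (p : ℕ) (G : Type*) [Group G] : Prop :=
  IsPGroup p G ∧ ∀ a b : G, ∃ c ∈ powerClosure p 1 ⁅Subgroup.closure ({a, b} : Set G), Subgroup.closure ({a, b} : Set G)⁆,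
    (a * b) ^ p = a ^ p * b ^ p * c

theorem WeakReg.of_regular {G : Type*} [Group G] (h : IsRegularPGroup p G) : WeakReg p G :=
  ⟨h.1, fun a b => by
    obtain ⟨c, hc, he⟩ := h.2 a b 1
    rw [pow_one] at he
    exact ⟨c, hc, he⟩⟩

theorem WeakReg.sub {G : Type*} [Group G] (h : WeakReg p G) (H : Subgroup G) : WeakReg p H := by
  refine ⟨h.1.to_subgroup H, ?_⟩
  intro a b
  obtain ⟨c, hc, he⟩ := h.2 a b
  set K : Subgroup H := Subgroup.closure ({a, b} : Set H) with hK
  have hKmap : K.map H.subtype = Subgroup.closure ({(a : G), (b : G)} : Set G) := by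
    rw [hK, MonoidHom.map_closure]
    congr 1
    ext y
    simp [eq_comm]
  rw [← hKmap, ← Subgroup.map_commutator, ← powerClosure_map] at hc
  obtain ⟨c', hc', rfl⟩ := hc
  refine ⟨c', hc', ?_⟩
  apply Subtype.ext
  simpa using he

/-- If the `q`-th powers of `X` are closed under products, the closure of `q`-th powers consists of `q`-th powers. -/
theorem mem_of_closed {X : Type*} [Group X] {q : ℕ} (hcl : ∀ a b : X, ∃ c, a ^ q * b ^ q = c ^ q) (T : Subgroup X)
    (hT : T = ⊤) {y : X} (hy : y ∈ Subgroup.closure {y : X | ∃ x, y = x ^ q}) : ∃ c, y = c ^ q := by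
  induction hy using Subgroup.closure_induction with
  | mem z hz => exact hz
  | one => exact ⟨1, (one_pow _).symm⟩
  | mul a b _ _ ih1 ih2 =>
    obtain ⟨c₁, rfl⟩ := ih1
    obtain ⟨c₂, rfl⟩ := ih2
    obtain ⟨c, hc⟩ := hcl c₁ c₂
    exact ⟨c, hc⟩
  | inv a _ ih =>
    obtain ⟨c, rfl⟩ := ih
    exact ⟨c⁻¹, (inv_pow _ _).symm⟩

theorem key [hp : Fact p.Prime] : ∀ (N : ℕ) (G : Type u) [Group G] [Finite G], Nat.card G = N → WeakReg p G →
    ∀ a b : G, ∃ c ∈ Subgroup.closure ({a, b} : Set G), a ^ p * b ^ p = c ^ p := by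
  intro N
  induction N using Nat.strong_induction_on with
  | _ N ih =>
    intro G _ _ hN hreg a b
    have hsub : ∀ Y : Subgroup G, Y ≠ ⊤ → ∀ u v : Y, ∃ c ∈ Subgroup.closure ({u, v} : Set Y), u ^ p * v ^ p = c ^ p := by
      intro Y hY u v
      have hlt : Nat.card Y < N := by
        rw [← hN]
        apply lt_of_le_of_ne (Subgroup.card_le_card_group Y)
        intro h
        exact hY (Subgroup.eq_top_of_card_eq Y h)
      exact ih _ hlt Y rfl (hreg.sub Y) u v
    have hab : a ∈ Subgroup.closure ({a, b} : Set G) := Subgroup.subset_closure (by simp)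
    have hbb : b ∈ Subgroup.closure ({a, b} : Set G) := Subgroup.subset_closure (by simp)
    by_cases hH : Subgroup.closure ({a, b} : Set G) = ⊤
    · by_cases hcomm : a * b = b * a
      · exact ⟨a * b, Subgroup.mul_mem _ hab hbb, ((show Commute a b from hcomm).mul_pow p).symm⟩
      · -- `G` is not abelian
        have hG'ne : ⁅(⊤ : Subgroup G), (⊤ : Subgroup G)⁆ ≠ ⊤ := by
          intro h
          have hle : (⊤ : Subgroup G) ≤ frattini G := by
            rw [← h, Subgroup.commutator_le]
            intro x _ y _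
            rw [commutatorElement_def]
            exact Cfsg.Agent.Lib.H6PGroup.comm_mem_frattini hreg.1 x y
          have hfr : frattini G = ⊤ := top_le_iff.mp hle
          have hs : (⊥ : Subgroup G) ⊔ frattini G = ⊤ := by rw [hfr]; exact sup_top_eq _
          have hbot := frattini_nongenerating hs
          apply hcomm
          have hx : a = 1 := by
            have : a ∈ (⊤ : Subgroup G) := trivial
            rw [← hbot] at this
            exact Subgroup.mem_bot.mp this
          rw [hx]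
          group
        obtain ⟨d, hd, hpow⟩ := hreg.2 a b
        rw [hH] at hd
        set D := ⁅(⊤ : Subgroup G), (⊤ : Subgroup G)⁆ with hD
        -- `d` is a `p`-th power of an element of `D`
        have hcl : ∀ u v : D, ∃ c : D, u ^ p * v ^ p = c ^ p := by
          intro u v
          obtain ⟨c, _, hc⟩ := hsub D hG'ne u v
          exact ⟨c, hc⟩
        have hdp : ∃ e : D, (e : G) ^ p = d := by
          have hgen : ∀ d ∈ powerClosure p 1 D, ∃ e : D, (e : G) ^ p = d := by
            intro d hd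
            unfold powerClosure at hd
            induction hd using Subgroup.closure_induction with
            | mem z hz =>
              obtain ⟨x, hx, rfl⟩ := hz
              exact ⟨⟨x, hx⟩, by simp⟩
            | one => exact ⟨1, by simp⟩
            | mul x y _ _ ih1 ih2 =>
              obtain ⟨e₁, rfl⟩ := ih1
              obtain ⟨e₂, rfl⟩ := ih2
              obtain ⟨c, hc⟩ := hcl e₁ e₂
              exact ⟨c, (congrArg Subtype.val hc).symm⟩
            | inv x _ ih =>
              obtain ⟨e, rfl⟩ := ih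
              exact ⟨e⁻¹, by simp⟩
          exact hgen d hd
        obtain ⟨e, rfl⟩ := hdp
        set f : G := (e : G)⁻¹ with hf
        have hfD : f ∈ D := D.inv_mem e.2
        have hK : Subgroup.closure ({a * b, f} : Set G) ≠ ⊤ := by
          intro htop
          have hfr : D ≤ frattini G := by
            rw [hD, Subgroup.commutator_le]
            intro x _ y _
            rw [commutatorElement_def]
            exact Cfsg.Agent.Lib.H6PGroup.comm_mem_frattini hreg.1 x y
          have hs : Subgroup.zpowers (a * b) ⊔ frattini G = ⊤ := by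
            apply top_le_iff.mp
            rw [← htop, Subgroup.closure_le]
            rintro y (rfl | hy)
            · exact Subgroup.mem_sup_left (Subgroup.mem_zpowers _)
            · rw [Set.mem_singleton_iff] at hy
              subst hy
              exact Subgroup.mem_sup_right (hfr hfD)
          have htop2 := frattini_nongenerating hs
          have hcy : ∀ x y : G, x * y = y * x := by
            intro x y
            have hx : x ∈ Subgroup.zpowers (a * b) := by rw [htop2]; trivial
            have hy : y ∈ Subgroup.zpowers (a * b) := by rw [htop2]; trivial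
            obtain ⟨m, rfl⟩ := hx
            obtain ⟨n, rfl⟩ := hy
            show (a * b) ^ m * (a * b) ^ n = (a * b) ^ n * (a * b) ^ m
            rw [← zpow_add, ← zpow_add, add_comm]
          exact hcomm (hcy a b)
        obtain ⟨c, -, hc⟩ := hsub _ hK ⟨a * b, Subgroup.subset_closure (by simp)⟩ ⟨f, Subgroup.subset_closure (by simp)⟩
        have hc' : (a * b) ^ p * f ^ p = (c : G) ^ p := congrArg Subtype.val hc
        refine ⟨c, by rw [hH]; trivial, ?_⟩
        rw [← hc', hpow, hf, inv_pow]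
        group
    · obtain ⟨c, hc, he⟩ := hsub _ hH ⟨a, hab⟩ ⟨b, hbb⟩
      refine ⟨c, c.2, ?_⟩
      exact congrArg Subtype.val he

theorem pow_closed [hp : Fact p.Prime] {X : Type u} [Group X] [Finite X] (hreg : WeakReg p X) (n : ℕ) :
    ∀ a b : X, ∃ c, a ^ p ^ n * b ^ p ^ n = c ^ p ^ n := by
  induction n with
  | zero =>
    intro a b
    exact ⟨a * b, by simp⟩
  | succ n ih =>
    intro a b
    obtain ⟨d, hd, he⟩ := key _ X rfl hreg (a ^ p ^ n) (b ^ p ^ n)
    have hd' : d ∈ Subgroup.closure {y : X | ∃ x, y = x ^ p ^ n} := by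
      refine Subgroup.closure_mono ?_ hd
      rintro y (rfl | hy)
      · exact ⟨a, rfl⟩
      · rw [Set.mem_singleton_iff] at hy
        exact ⟨b, hy⟩
    obtain ⟨e, rfl⟩ := mem_of_closed ih ⊤ rfl hd'
    refine ⟨e, ?_⟩
    rw [pow_succ p n, pow_mul, pow_mul, pow_mul]
    exact he

theorem pow_set_eq [hp : Fact p.Prime] {G : Type u} [Group G] [Finite G] (hG : WeakReg p G) (H : Subgroup G) (n : ℕ) :
    {y : G | ∃ x ∈ H, y = x ^ (p ^ n)} = (powerClosure p n H : Set G) := by
  apply Set.Subset.antisymm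
  · intro y hy
    exact Subgroup.subset_closure hy
  · have hcl := pow_closed (hG.sub H) n
    have hgen : ∀ y ∈ powerClosure p n H, ∃ x ∈ H, y = x ^ (p ^ n) := by
      intro y hy
      unfold powerClosure at hy
      induction hy using Subgroup.closure_induction with
      | mem z hz => exact hz
      | one => exact ⟨1, H.one_mem, (one_pow _).symm⟩
      | mul a b _ _ ih1 ih2 =>
        obtain ⟨x₁, hx₁, rfl⟩ := ih1
        obtain ⟨x₂, hx₂, rfl⟩ := ih2
        obtain ⟨c, hc⟩ := hcl ⟨x₁, hx₁⟩ ⟨x₂, hx₂⟩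
        exact ⟨c, c.2, congrArg Subtype.val hc⟩
      | inv a _ ih =>
        obtain ⟨x, hx, rfl⟩ := ih
        exact ⟨x⁻¹, H.inv_mem hx, (inv_pow _ _).symm⟩
    intro y hy
    exact hgen y hy

theorem powerClosure_le {G' : Type*} [Group G'] (n : ℕ) (H : Subgroup G') : powerClosure p n H ≤ H := by
  unfold powerClosure
  rw [Subgroup.closure_le]
  rintro y ⟨x, hx, rfl⟩
  exact H.pow_mem hx _

theorem comm_le_aux [hp : Fact p.Prime] {G : Type u} [Group G] [Finite G] (hW : WeakReg p G) (n : ℕ)
    (hG : ∀ a b : G, ∃ c ∈ powerClosure p n ⁅Subgroup.closure ({a, b} : Set G), Subgroup.closure ({a, b} : Set G)⁆,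
      (a * b) ^ (p ^ n) = a ^ (p ^ n) * b ^ (p ^ n) * c) (H : Subgroup G) :
    ⁅powerClosure p n H, powerClosure p n H⁆ ≤ powerClosure p n ⁅H, H⁆ := by
  have hconj : ∀ h ∈ H, ∀ z ∈ powerClosure p n ⁅H, H⁆, h * z * h⁻¹ ∈ powerClosure p n ⁅H, H⁆ := by
    intro h hh z hz
    have hmap : (⁅H, H⁆ : Subgroup G).map (MulAut.conj h).toMonoidHom = ⁅H, H⁆ := by
      have hH : H.map (MulAut.conj h).toMonoidHom = H := by
        apply le_antisymm
        · rintro _ ⟨t, ht, rfl⟩
          exact H.mul_mem (H.mul_mem hh ht) (H.inv_mem hh)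
        · intro t ht
          refine ⟨h⁻¹ * t * h, H.mul_mem (H.mul_mem (H.inv_mem hh) ht) hh, by simp [mul_assoc]⟩
      rw [Subgroup.map_commutator, hH]
    have h1 := powerClosure_map (p := p) (MulAut.conj h).toMonoidHom n (⁅H, H⁆ : Subgroup G)
    rw [hmap] at h1
    rw [← h1]
    exact ⟨z, hz, rfl⟩
  rw [Subgroup.commutator_le]
  intro x hx y hy
  have hx' : x ∈ {y : G | ∃ x ∈ H, y = x ^ (p ^ n)} := by
    rw [pow_set_eq hW H n]
    exact hx
  obtain ⟨a, ha, rfl⟩ := hx'
  have hyH : y ∈ H := powerClosure_le n H hy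
  set q := p ^ n with hq
  set c := a⁻¹ * (y * a * y⁻¹) with hc
  have hcH : c ∈ ⁅H, H⁆ := by
    have : c = ⁅a⁻¹, y⁆ := by
      rw [commutatorElement_def, hc]
      group
    rw [this]
    exact Subgroup.commutator_mem_commutator (H.inv_mem ha) hyH
  obtain ⟨d, hd, he⟩ := hG a c
  have hcH' : c ∈ H := by
    rw [hc]
    exact H.mul_mem (H.inv_mem ha) (H.mul_mem (H.mul_mem hyH ha) (H.inv_mem hyH))
  have hclo : Subgroup.closure ({a, c} : Set G) ≤ H := by
    rw [Subgroup.closure_le]
    rintro t (rfl | ht)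
    · exact ha
    · rw [Set.mem_singleton_iff] at ht
      rw [ht]
      exact hcH'
  have hdH : d ∈ powerClosure p n ⁅H, H⁆ := by
    unfold powerClosure at hd ⊢
    refine Subgroup.closure_mono ?_ hd
    rintro t ⟨w, hw, rfl⟩
    exact ⟨w, Subgroup.commutator_mono hclo hclo hw, rfl⟩
  have hcq : c ^ q ∈ powerClosure p n ⁅H, H⁆ := Subgroup.subset_closure ⟨c, hcH, rfl⟩
  have hac : a * c = y * a * y⁻¹ := by
    rw [hc]
    group
  rw [hac, conj_pow] at he
  have hfinal : ⁅a ^ q, y⁆ = a ^ q * (c ^ q * d)⁻¹ * (a ^ q)⁻¹ := by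
    rw [commutatorElement_def]
    have h2 : y * a ^ q * y⁻¹ = a ^ q * c ^ q * d := he
    have h3 : y * (a ^ q)⁻¹ * y⁻¹ = (y * a ^ q * y⁻¹)⁻¹ := by group
    calc a ^ q * y * (a ^ q)⁻¹ * y⁻¹ = a ^ q * (y * (a ^ q)⁻¹ * y⁻¹) := by group
      _ = a ^ q * (a ^ q * c ^ q * d)⁻¹ := by rw [h3, h2]
      _ = _ := by group
  rw [hfinal]
  apply hconj _ (H.pow_mem ha q)
  exact Subgroup.inv_mem _ (Subgroup.mul_mem _ hcq hdH)

theorem comm_le [hp : Fact p.Prime] {G : Type u} [Group G] [Finite G] (hG : IsRegularPGroup p G) (H : Subgroup G) (n : ℕ) :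
    ⁅powerClosure p n H, powerClosure p n H⁆ ≤ powerClosure p n ⁅H, H⁆ :=
  comm_le_aux (WeakReg.of_regular hG) n (fun a b => hG.2 a b n) H

theorem regular_of_weak [hp : Fact p.Prime] {G : Type u} [Group G] [Finite G] (hW : WeakReg p G) : IsRegularPGroup p G := by
  refine ⟨hW.1, ?_⟩
  intro a b n
  revert a b
  induction n with
  | zero =>
    intro a b
    refine ⟨1, one_mem _, by simp⟩
  | succ n ih =>
    intro a b
    set K := Subgroup.closure ({a, b} : Set G) with hK
    set q := p ^ n with hq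
    have hqs : p ^ (n + 1) = p * q := by rw [hq, pow_succ']
    have haK : a ∈ K := Subgroup.subset_closure (by simp)
    have hbK : b ∈ K := Subgroup.subset_closure (by simp)
    obtain ⟨d₀, hd₀, he₀⟩ := hW.2 a b
    -- `d₀` is a `p`-th power of an element of `K'`
    have hset := pow_set_eq hW ⁅K, K⁆ 1
    have hd₀' : d₀ ∈ (powerClosure p 1 ⁅K, K⁆ : Set G) := hd₀
    rw [← hset] at hd₀'
    obtain ⟨c, hc, hdc⟩ := hd₀'
    rw [pow_one] at hdc
    subst hdc
    -- the closure `℧₁(K)`
    have hclosure : ⁅powerClosure p 1 K, powerClosure p 1 K⁆ ≤ powerClosure p 1 ⁅K, K⁆ :=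
      comm_le_aux hW 1 (fun a b => by
        obtain ⟨e, he, h⟩ := hW.2 a b
        exact ⟨e, he, by simpa using h⟩) K
    have hpK : ∀ t ∈ K, t ^ p ∈ powerClosure p 1 K := fun t ht =>
      Subgroup.subset_closure ⟨t, ht, by simp⟩
    have hcK : c ∈ K := by
      have : ⁅K, K⁆ ≤ K := by
        rw [Subgroup.commutator_le]
        intro g₁ h₁ g₂ h₂
        rw [commutatorElement_def]
        exact K.mul_mem (K.mul_mem (K.mul_mem h₁ h₂) (K.inv_mem h₁)) (K.inv_mem h₂)
      exact this hc
    -- membership transfer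
    have htrans : ∀ u v : G, u ∈ powerClosure p 1 K → v ∈ powerClosure p 1 K →
        ∀ d ∈ powerClosure p n ⁅Subgroup.closure ({u, v} : Set G), Subgroup.closure ({u, v} : Set G)⁆,
          d ∈ powerClosure p (n + 1) ⁅K, K⁆ := by
      intro u v hu hv d hd
      have hcl : Subgroup.closure ({u, v} : Set G) ≤ powerClosure p 1 K := by
        rw [Subgroup.closure_le]
        rintro t (rfl | ht)
        · exact hu
        · rw [Set.mem_singleton_iff] at ht
          rw [ht]
          exact hv
      have hle : ⁅Subgroup.closure ({u, v} : Set G), Subgroup.closure ({u, v} : Set G)⁆ ≤ powerClosure p 1 ⁅K, K⁆ :=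
        (Subgroup.commutator_mono hcl hcl).trans hclosure
      unfold powerClosure at hd
      refine (Subgroup.closure_le _).mpr ?_ hd
      rintro y ⟨w, hw, rfl⟩
      have hw' := hle hw
      have hw'' : w ∈ (powerClosure p 1 ⁅K, K⁆ : Set G) := hw'
      rw [← hset] at hw''
      obtain ⟨t, ht, rfl⟩ := hw''
      apply Subgroup.subset_closure
      refine ⟨t, ht, ?_⟩
      rw [← pow_mul, pow_one, pow_succ']
    have hx := hpK a haK
    have hy := hpK b hbK
    have hz : c ^ p ^ 1 ∈ powerClosure p 1 K := by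
      rw [pow_one]
      exact hpK c hcK
    have hzz : c ^ p ∈ powerClosure p 1 K := by simpa using hz
    obtain ⟨d₁, hd₁, he₁⟩ := ih (a ^ p) (b ^ p * c ^ p)
    obtain ⟨d₂, hd₂, he₂⟩ := ih (b ^ p) (c ^ p)
    have hd₁' := htrans _ _ hx (Subgroup.mul_mem _ hy hzz) d₁ hd₁
    have hd₂' := htrans _ _ hy hzz d₂ hd₂
    have hcq : (c ^ p) ^ q ∈ powerClosure p (n + 1) ⁅K, K⁆ := by
      apply Subgroup.subset_closure
      refine ⟨c, hc, ?_⟩
      rw [← pow_mul, pow_succ']
    refine ⟨(c ^ p) ^ q * d₂ * d₁, Subgroup.mul_mem _ (Subgroup.mul_mem _ hcq hd₂') hd₁', ?_⟩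
    rw [hqs, pow_mul, pow_mul, pow_mul]
    have he₀' : (a * b) ^ p = a ^ p * (b ^ p * c ^ p) := by
      rw [he₀, mul_assoc]
    rw [he₀', he₁, he₂]
    group

theorem regular_iff [hp : Fact p.Prime] {G : Type u} [Group G] [Finite G] (hG : IsPGroup p G) :
    IsRegularPGroup p G ↔ ∀ a b : G, ∃ c ∈ ⁅Subgroup.closure ({a, b} : Set G), Subgroup.closure ({a, b} : Set G)⁆,
      (a * b) ^ p = a ^ p * b ^ p * c ^ p := by
  constructor
  · intro h a b
    have hW := WeakReg.of_regular h
    obtain ⟨d, hd, he⟩ := hW.2 a b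
    have hd' : d ∈ (powerClosure p 1 ⁅Subgroup.closure ({a, b} : Set G), Subgroup.closure ({a, b} : Set G)⁆ : Set G) := hd
    rw [← pow_set_eq hW _ 1] at hd'
    obtain ⟨c, hc, hdc⟩ := hd'
    rw [pow_one] at hdc
    exact ⟨c, hc, by rw [he, hdc]⟩
  · intro h
    apply regular_of_weak
    refine ⟨hG, fun a b => ?_⟩
    obtain ⟨c, hc, he⟩ := h a b
    exact ⟨c ^ p, Subgroup.subset_closure ⟨c, hc, by simp⟩, he⟩

end Cfsg.Agent.Lib.RegularPow
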