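import Mathlib
import Cfsg.Agent.Lib.SLn

/-! The structure of `SL₂(3)`. -/

namespace Cfsg.Agent.Lib.SL23

open Matrix
open scoped commutatorElement

abbrev G3 := Matrix.SpecialLinearGroup (Fin 2) (ZMod 3)

theorem card_G3 : Fintype.card G3 = 24 := by decide +kernel

theorem Q_mul : ∀ a b : G3, a ^ 4 = 1 → b ^ 4 = 1 → (a * b) ^ 4 = 1 := by decide +kernel

theorem Q_inv : ∀ a : G3, a ^ 4 = 1 → a⁻¹ ^ 4 = 1 := by decide +kernel

/-- The quaternion subgroup. -/
def Q : Subgroup G3 where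
  carrier := {g | g ^ 4 = 1}
  mul_mem' := fun {a b} ha hb => Q_mul a b ha hb
  one_mem' := by simp
  inv_mem' := fun {a} ha => Q_inv a ha

theorem mem_Q {g : G3} : g ∈ Q ↔ g ^ 4 = 1 := Iff.rfl

instance : DecidablePred (· ∈ Q) := fun g => inferInstanceAs (Decidable (g ^ 4 = 1))

theorem card_Q : Nat.card Q = 8 := by
  rw [Nat.card_eq_fintype_card]
  decide +kernel

theorem comm_in : ∀ g h : G3, (g * h * g⁻¹ * h⁻¹) ^ 4 = 1 := by decide +kernel

theorem comm_all : ∀ q : G3, q ^ 4 = 1 → ∃ g h : G3, g * h * g⁻¹ * h⁻¹ = q := by decide +kernel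

theorem commutator_eq : commutator G3 = Q := by
  apply le_antisymm
  · rw [commutator_def, Subgroup.commutator_le]
    intro g _ h _
    exact comm_in g h
  · intro q hq
    obtain ⟨g, h, rfl⟩ := comm_all q hq
    exact Subgroup.commutator_mem_commutator (Subgroup.mem_top g) (Subgroup.mem_top h)

theorem center_iff : ∀ x : G3, (∀ g : G3, g * x = x * g) ↔ x * x = 1 := by decide +kernel

theorem mem_center_iff' (x : G3) : x ∈ Subgroup.center G3 ↔ x * x = 1 := by
  rw [Subgroup.mem_center_iff]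
  exact center_iff x

theorem card_center : Nat.card (Subgroup.center G3) = 2 := by
  rw [Cfsg.Agent.Lib.SLn.card_center_SL, Fintype.card_fin, ZMod.card]
  rfl

/-- The elements `i`, `j`. -/
def iE : G3 := ⟨!![0, 2; 1, 0], by decide +kernel⟩
def jE : G3 := ⟨!![1, 1; 1, 2], by decide +kernel⟩

/-- The homomorphism from the quaternion group. -/
def fQ : QuaternionGroup 2 → G3
  | QuaternionGroup.a k => iE ^ k.val
  | QuaternionGroup.xa k => jE * iE ^ k.val

theorem fQ_mul : ∀ x y : QuaternionGroup 2, fQ (x * y) = fQ x * fQ y := by decide +kernel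

theorem fQ_mem : ∀ x : QuaternionGroup 2, (fQ x) ^ 4 = 1 := by decide +kernel

theorem fQ_inj : ∀ x y : QuaternionGroup 2, fQ x = fQ y → x = y := by decide +kernel

theorem fQ_one : fQ 1 = 1 := by decide +kernel

/-- The isomorphism. -/
noncomputable def eQ : QuaternionGroup 2 ≃* Q := by
  classical
  let φ : QuaternionGroup 2 →* Q :=
    { toFun := fun x => ⟨fQ x, fQ_mem x⟩
      map_one' := Subtype.ext fQ_one
      map_mul' := fun x y => Subtype.ext (fQ_mul x y) }
  have hinj : Function.Injective φ := fun x y h => fQ_inj x y (congrArg Subtype.val h)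
  have hcard : Nat.card Q ≤ Nat.card (QuaternionGroup 2) := by
    rw [card_Q, Nat.card_eq_fintype_card, QuaternionGroup.card]
  have hbij : Function.Bijective φ := by
    refine (Function.Injective.bijective_of_nat_card_le hinj hcard)
  exact MulEquiv.ofBijective φ hbij

theorem fact_sylow (P : Sylow 3 G3) : Nat.card (P : Subgroup G3) = 3 := by
  haveI : Fact (Nat.Prime 3) := ⟨by norm_num⟩
  obtain ⟨k, hk⟩ := IsPGroup.iff_card.1 P.isPGroup'
  have hG : Nat.card G3 = 24 := by rw [Nat.card_eq_fintype_card, card_G3]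
  have h1 := Subgroup.card_mul_index (P : Subgroup G3)
  rw [hG, hk] at h1
  have h2 := P.not_dvd_index
  match k, h1, hk with
  | 0, h1, _ =>
    exfalso
    apply h2
    simp at h1
    rw [h1]
    norm_num
  | 1, _, hk => simpa using hk
  | (k + 2), h1, _ =>
    exfalso
    have : 9 ∣ 24 := by
      refine ⟨3 ^ k * (P : Subgroup G3).index, ?_⟩
      rw [← h1, pow_add]
      ring
    norm_num at this

theorem complement (P : Sylow 3 G3) : Subgroup.IsComplement' (commutator G3) (P : Subgroup G3) := by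
  apply Subgroup.isComplement'_of_coprime
  · rw [commutator_eq, card_Q, fact_sylow, Nat.card_eq_fintype_card, card_G3]
  · rw [commutator_eq, card_Q, fact_sylow]
    norm_num

theorem fact1 : ∀ x q : G3, x ^ 4 ≠ 1 → q ^ 4 = 1 → ∃ c₁ c₂ : G3, q = (c₁ * x * c₁⁻¹ * x⁻¹) * (c₂ * x * c₂⁻¹ * x⁻¹) := by
  decide +kernel

theorem fact2 : ∀ x g : G3, x ^ 4 ≠ 1 → ∃ q : G3, q ^ 4 = 1 ∧ (g = q ∨ g = x * q ∨ g = x * x * q) := by
  decide +kernel

theorem fact3 : ∀ x q : G3, x ^ 4 = 1 → x * x ≠ 1 → q ^ 4 = 1 → ∃ c₁ c₂ : G3, q = (c₁ * x * c₁⁻¹) * (c₂ * x * c₂⁻¹) := by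
  decide +kernel

theorem fact4 : ∀ x z : G3, x * x = 1 → x ≠ 1 → z * z = 1 → z = 1 ∨ z = x := by
  decide +kernel

theorem fact5 : ∀ x : G3, x ^ 4 ≠ 1 ∨ x * x = 1 ∨ (x ^ 4 = 1 ∧ x * x ≠ 1) := by
  decide +kernel

theorem fact6 : ∀ x : G3, x * x = 1 → x ^ 4 = 1 := by
  decide +kernel

theorem normal_cases (N : Subgroup G3) (hN : N.Normal) :
    N = ⊥ ∨ N = ⊤ ∨ N = Subgroup.center G3 ∨ N = commutator G3 := by
  classical
  by_cases h1 : ∃ x ∈ N, x ^ 4 ≠ 1
  · obtain ⟨x, hx, hx4⟩ := h1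
    right; left
    have hQ : ∀ q : G3, q ^ 4 = 1 → q ∈ N := by
      intro q hq
      obtain ⟨c₁, c₂, rfl⟩ := fact1 x q hx4 hq
      exact N.mul_mem (N.mul_mem (hN.conj_mem x hx c₁) (N.inv_mem hx)) (N.mul_mem (hN.conj_mem x hx c₂) (N.inv_mem hx))
    rw [eq_top_iff]
    intro g _
    obtain ⟨q, hq, h | h | h⟩ := fact2 x g hx4
    · rw [h]; exact hQ q hq
    · rw [h]; exact N.mul_mem hx (hQ q hq)
    · rw [h]; exact N.mul_mem (N.mul_mem hx hx) (hQ q hq)
  · push Not at h1
    by_cases h2 : ∃ x ∈ N, x * x ≠ 1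
    · obtain ⟨x, hx, hx2⟩ := h2
      right; right; right
      rw [commutator_eq]
      apply le_antisymm
      · intro y hy
        exact h1 y hy
      · intro q hq
        obtain ⟨c₁, c₂, rfl⟩ := fact3 x q (h1 x hx) hx2 hq
        exact N.mul_mem (hN.conj_mem x hx c₁) (hN.conj_mem x hx c₂)
    · push Not at h2
      by_cases h3 : ∃ x ∈ N, x ≠ 1
      · obtain ⟨x, hx, hx1⟩ := h3
        right; right; left
        apply le_antisymm
        · intro y hy
          exact (mem_center_iff' y).2 (h2 y hy)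
        · intro z hz
          rcases fact4 x z (h2 x hx) hx1 ((mem_center_iff' z).1 hz) with rfl | rfl
          · exact N.one_mem
          · exact hx
      · push Not at h3
        left
        rw [eq_bot_iff]
        intro y hy
        exact h3 y hy

end Cfsg.Agent.Lib.SL23
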