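import Mathlib
import Cfsg.Prelude
import Cfsg.Agent.Lib.SL23
import Cfsg.Agent.Lib.Quaternion

/-! Recognition of `SL₂(3)` as `Q₈ ⋊ Z₃`. -/

set_option autoImplicit false
set_option linter.all false

namespace Cfsg.Agent.Lib.SL3Rec

open Cfsg Subgroup Cfsg.Agent.Lib.SL23

theorem iso_of_intertwine {U V : Type*} [Group U] [Group V] (N : Subgroup U) [hN : N.Normal]
    (M : Subgroup V) [hM : M.Normal] (ψ : N ≃* M) (t : U) (s : V) (hts : orderOf t = orderOf s)
    (hU : N.IsComplement' (zpowers t)) (hV : M.IsComplement' (zpowers s))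
    (hint : ∀ n : N, ((ψ (MulAut.conjNormal t n) : M) : V) = s * (ψ n).1 * s⁻¹) : Nonempty (U ≃* V) := by
  have hg : ∀ x : zpowers t, x ∈ zpowers (⟨t, mem_zpowers t⟩ : zpowers t) := by
    rintro ⟨_, k, rfl⟩
    exact ⟨k, Subtype.ext (by simp)⟩
  have hg' : ∀ x : zpowers s, x ∈ zpowers (⟨s, mem_zpowers s⟩ : zpowers s) := by
    rintro ⟨_, k, rfl⟩
    exact ⟨k, Subtype.ext (by simp)⟩
  have hord : orderOf (⟨t, mem_zpowers t⟩ : zpowers t) = orderOf (⟨s, mem_zpowers s⟩ : zpowers s) := by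
    rw [Subgroup.orderOf_mk, Subgroup.orderOf_mk, hts]
  let fg : zpowers t ≃* zpowers s := mulEquivOfOrderOfEq hg hg' hord
  have hgen : fg ⟨t, mem_zpowers t⟩ = ⟨s, mem_zpowers s⟩ := mulEquivOfOrderOfEq_apply_gen hg hg' hord
  let φ₁ : zpowers t →* MulAut N := (N.normalizerMonoidHom).comp (inclusion (N.normalizer_eq_top ▸ le_top))
  let φ₂ : zpowers s →* MulAut M := (M.normalizerMonoidHom).comp (inclusion (M.normalizer_eq_top ▸ le_top))
  have key : φ₁ = ((MulAut.congr ψ.symm).toMonoidHom).comp (φ₂.comp fg.toMonoidHom) := by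
    rw [MonoidHom.eq_iff_eq_on_generator hg]
    apply MulEquiv.ext
    intro n
    apply ψ.injective
    apply Subtype.ext
    have h1 := hint n
    have h2 : (((((MulAut.congr ψ.symm).toMonoidHom).comp (φ₂.comp fg.toMonoidHom)) ⟨t, mem_zpowers t⟩) n) =
        ψ.symm (φ₂ (fg ⟨t, mem_zpowers t⟩) (ψ n)) := rfl
    rw [h2, hgen, MulEquiv.apply_symm_apply]
    exact h1
  refine ⟨(SemidirectProduct.mulEquivSubgroup hU).symm.trans
    ((SemidirectProduct.congr ψ fg ?_).trans (SemidirectProduct.mulEquivSubgroup hV))⟩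
  intro g
  apply MulEquiv.ext
  intro n
  have h3 := congrArg (fun f : MulAut N => f n) (DFunLike.congr_fun key g)
  have h4 : φ₁ g n = ψ.symm (φ₂ (fg g) (ψ n)) := h3
  show ψ (φ₁ g n) = φ₂ (fg g) (ψ n)
  rw [h4, MulEquiv.apply_symm_apply]

theorem conj_order3 {A : Type*} [Group A] [Finite A] (hA : Nat.card A ∣ 24) (α β : A) (hα : orderOf α = 3)
    (hβ : orderOf β = 3) : ∃ δ : A, δ * α * δ⁻¹ = β ∨ δ * α * δ⁻¹ = β⁻¹ := by
  haveI hF3 : Fact (Nat.Prime 3) := ⟨by norm_num⟩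
  have hz : ∀ γ : A, orderOf γ = 3 → ∃ P : Sylow 3 A, (P : Subgroup A) = zpowers γ := by
    intro γ hγ
    have hc : Nat.card (zpowers γ) = 3 ^ 1 := by rw [Nat.card_zpowers, hγ, pow_one]
    obtain ⟨P, hP⟩ := (IsPGroup.of_card hc).exists_le_sylow
    refine ⟨P, (Subgroup.eq_of_le_of_card_ge hP ?_).symm⟩
    rw [hc]
    obtain ⟨k, hk⟩ := IsPGroup.iff_card.1 P.isPGroup'
    have hd : Nat.card (P : Subgroup A) ∣ 24 := (Subgroup.card_subgroup_dvd_card _).trans hA
    rw [hk] at hd ⊢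
    have hk2 : k ≤ 1 := by
      by_contra hcon
      have h9 : 3 ^ 2 ∣ 24 := (pow_dvd_pow 3 (by omega)).trans hd
      omega
    exact Nat.pow_le_pow_right (by norm_num) hk2
  obtain ⟨P₁, hP₁⟩ := hz α hα
  obtain ⟨P₂, hP₂⟩ := hz β hβ
  obtain ⟨δ, hδ⟩ := MulAction.exists_smul_eq A P₁ P₂
  refine ⟨δ, ?_⟩
  have h1 : δ * α * δ⁻¹ ∈ (P₂ : Subgroup A) := by
    rw [← hδ, Sylow.coe_subgroup_smul]
    refine ⟨α, ?_, rfl⟩
    rw [SetLike.mem_coe, hP₁]
    exact mem_zpowers α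
  rw [hP₂] at h1
  obtain ⟨k, hk⟩ := mem_zpowers_iff.1 h1
  have ho : orderOf (δ * α * δ⁻¹) = 3 := by
    have := (MulAut.conj δ).orderOf_eq α
    rw [hα] at this
    exact this
  have h3 : β ^ (3 : ℤ) = 1 := by
    have := pow_orderOf_eq_one β
    rw [hβ] at this
    exact_mod_cast this
  have hm := zpow_mod_orderOf β k
  rw [hβ] at hm
  have hm0 : 0 ≤ k % ((3 : ℕ) : ℤ) := Int.emod_nonneg _ (by norm_num)
  have hm1 : k % ((3 : ℕ) : ℤ) < 3 := by
    have := Int.emod_lt_of_pos k (show (0 : ℤ) < ((3 : ℕ) : ℤ) by norm_num)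
    simpa using this
  rcases (show k % ((3 : ℕ) : ℤ) = 0 ∨ k % ((3 : ℕ) : ℤ) = 1 ∨ k % ((3 : ℕ) : ℤ) = 2 by omega) with h | h | h
  · rw [h, zpow_zero, hk] at hm
    rw [← hm, orderOf_one] at ho
    omega
  · rw [h, zpow_one, hk] at hm
    exact Or.inl hm.symm
  · right
    rw [h, hk] at hm
    rw [← hm]
    have : β ^ (2 : ℤ) * β = 1 := by
      rw [← zpow_add_one]
      exact h3
    exact eq_inv_of_mul_eq_one_left this

/-- The action on `Q₈` through an identification. -/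
noncomputable def kap {U : Type*} [Group U] (N : Subgroup U) [hN : N.Normal] (e : N ≃* QuaternionGroup 2) :
    U →* MulAut (QuaternionGroup 2) :=
  (MulAut.congr e).toMonoidHom.comp (MulAut.conjNormal (H := N))

theorem kap_apply {U : Type*} [Group U] (N : Subgroup U) [hN : N.Normal] (e : N ≃* QuaternionGroup 2) (t : U)
    (n : N) : kap N e t (e n) = e (MulAut.conjNormal t n) := by
  show e (MulAut.conjNormal t (e.symm (e n))) = _
  rw [MulEquiv.symm_apply_apply]

theorem kap_order {U : Type*} [Group U] (N : Subgroup U) [hN : N.Normal] (e : N ≃* QuaternionGroup 2) (t : U)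
    (ht : t ^ 3 = 1) (hne : ∃ n : N, MulAut.conjNormal t n ≠ n) : orderOf (kap N e t) = 3 := by
  haveI hF3 : Fact (Nat.Prime 3) := ⟨by norm_num⟩
  apply orderOf_eq_prime
  · rw [← map_pow, ht, map_one]
  · intro h
    obtain ⟨n, hn⟩ := hne
    apply hn
    have h1 := kap_apply N e t n
    rw [h] at h1
    exact (e.injective h1).symm

theorem Q_normal : (Q : Subgroup G3).Normal := by
  constructor
  intro q hq g
  rw [mem_Q] at hq ⊢
  rw [conj_pow, hq]
  group

/-- Element of order three. -/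
def y₀ : G3 := ⟨!![1, 1; 0, 1], by decide +kernel⟩

theorem y₀_pow : y₀ ^ 3 = 1 := by decide +kernel

theorem y₀_inv_pow : y₀⁻¹ ^ 3 = 1 := by decide +kernel

theorem y₀_ne : ∃ q : G3, q ^ 4 = 1 ∧ y₀ * q * y₀⁻¹ ≠ q := by decide +kernel

theorem y₀_inv_ne : ∃ q : G3, q ^ 4 = 1 ∧ y₀⁻¹ * q * y₀⁻¹⁻¹ ≠ q := by decide +kernel

theorem card_G3' : Nat.card G3 = 24 := by rw [Nat.card_eq_fintype_card, card_G3]

/-- Recognition. -/
theorem rec_sl23 {U : Type*} [Group U] [Finite U] (N : Subgroup U) [hN : N.Normal]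
    (eN : N ≃* QuaternionGroup 2) (t : U) (ht : t ^ 3 = 1) (hne : ∃ n : N, MulAut.conjNormal t n ≠ n)
    (hU : Nat.card U = 24) : Nonempty (U ≃* G3) := by
  classical
  haveI hF3 : Fact (Nat.Prime 3) := ⟨by norm_num⟩
  haveI hQn : (Q : Subgroup G3).Normal := Q_normal
  have hcardK : Nat.card (MulAut (QuaternionGroup 2)) ∣ 24 := Cfsg.Agent.Lib.Quaternion.card_mulAut_q8_dvd
  haveI : Finite (MulAut (QuaternionGroup 2)) := inferInstance
  let eV : (Q : Subgroup G3) ≃* QuaternionGroup 2 := eQ.symm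
  have hα := kap_order N eN t ht hne
  have hβ : orderOf (kap Q eV y₀) = 3 := by
    apply kap_order Q eV y₀ y₀_pow
    obtain ⟨q, hq, hne⟩ := y₀_ne
    exact ⟨⟨q, hq⟩, fun h => hne (congrArg Subtype.val h)⟩
  obtain ⟨δ, hδ⟩ := conj_order3 hcardK _ _ hα hβ
  -- the element of `G₃`
  obtain ⟨s, hs3, hsact⟩ : ∃ s : G3, s ^ 3 = 1 ∧ δ * kap N eN t * δ⁻¹ = kap Q eV s := by
    rcases hδ with h | h
    · exact ⟨y₀, y₀_pow, h⟩
    · exact ⟨y₀⁻¹, y₀_inv_pow, by rw [h, map_inv]⟩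
  have hKcard : Nat.card (QuaternionGroup 2) = 8 := by
    rw [Nat.card_eq_fintype_card, QuaternionGroup.card]
  have hNcard : Nat.card N = 8 := by rw [← hKcard]; exact Nat.card_congr eN.toEquiv
  have hQcard : Nat.card (Q : Subgroup G3) = 8 := card_Q
  have hto : orderOf t = 3 := by
    apply orderOf_eq_prime ht
    rintro rfl
    obtain ⟨n, hn⟩ := hne
    apply hn
    rw [map_one]
    rfl
  have hso : orderOf s = 3 := by
    have h1 : orderOf (kap Q eV s) = 3 := by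
      rw [← hsact]
      have := (MulAut.conj δ).orderOf_eq (kap N eN t)
      rw [hα] at this
      exact this
    apply orderOf_eq_prime hs3
    rintro rfl
    rw [map_one, orderOf_one] at h1
    omega
  have hcomp1 : N.IsComplement' (zpowers t) := by
    apply Subgroup.isComplement'_of_coprime
    · rw [hNcard, Nat.card_zpowers, hto, hU]
    · rw [hNcard, Nat.card_zpowers, hto]
      norm_num
  have hcomp2 : (Q : Subgroup G3).IsComplement' (zpowers s) := by
    apply Subgroup.isComplement'_of_coprime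
    · rw [hQcard, Nat.card_zpowers, hso, card_G3']
    · rw [hQcard, Nat.card_zpowers, hso]
      norm_num
  let ψ : N ≃* (Q : Subgroup G3) := eN.trans (MulEquiv.trans δ eV.symm)
  refine iso_of_intertwine N Q ψ t s (hto.trans hso.symm) hcomp1 hcomp2 ?_
  intro n
  have h1 := kap_apply N eN t n
  have h2 := kap_apply Q eV s (eV.symm (δ (eN n)))
  rw [MulEquiv.apply_symm_apply] at h2
  have h3 : kap Q eV s (δ (eN n)) = δ (kap N eN t (eN n)) := by
    rw [← hsact]
    show δ (kap N eN t (δ⁻¹ (δ (eN n)))) = _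
    congr 2
    show (δ⁻¹ * δ) (eN n) = _
    rw [inv_mul_cancel]
    rfl
  rw [h1, h2] at h3
  have h4 : ψ (MulAut.conjNormal t n) = MulAut.conjNormal s (ψ n) := by
    show eV.symm (δ (eN (MulAut.conjNormal t n))) = MulAut.conjNormal s (eV.symm (δ (eN n)))
    rw [← h3, MulEquiv.symm_apply_apply]
  rw [h4]
  rfl

end Cfsg.Agent.Lib.SL3Rec
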