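import Mathlib
import Cfsg.Agent.Lib.SLn
import Cfsg.Agent.Lib.GrpMisc
import Cfsg.Agent.Lib.PSL2Spec

/-! Subgroups of `GL_n(F)` normalized by `SL_n(F)`. -/

namespace Cfsg.Agent.Lib.SLNormal

open Matrix Matrix.SpecialLinearGroup
open scoped MatrixGroups commutatorElement
open Cfsg.Agent.Lib.SLn Cfsg.Agent.Lib.MkSL Cfsg.Agent.Lib.GL2Conj

variable {F : Type*} [Field F]

theorem trans_01 (c : F) (h : (0 : Fin 2) ≠ 1) : (transvection h c : SL(2, F)) = mkSL 1 c 0 1 (by ring) := by
  apply Subtype.ext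
  ext i j
  fin_cases i <;> fin_cases j <;> simp [Matrix.single_apply, mkSL, transvection_coe]

theorem trans_10 (c : F) (h : (1 : Fin 2) ≠ 0) : (transvection h c : SL(2, F)) = mkSL 1 0 c 1 (by ring) := by
  apply Subtype.ext
  ext i j
  fin_cases i <;> fin_cases j <;> simp [Matrix.single_apply, mkSL, transvection_coe]

/-- `SL₂(F)` is perfect if some nonzero `a` has `a² ≠ 1`. -/
theorem perfect_SL2 (h : ∃ a : F, a ≠ 0 ∧ a ^ 2 ≠ 1) : commutator (SL(2, F)) = ⊤ := by
  classical
  obtain ⟨a, ha, ha2⟩ := h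
  have hb : a ^ 2 - 1 ≠ 0 := sub_ne_zero.2 ha2
  rw [eq_top_iff]
  rintro x -
  refine transvection_induction (fun x ↦ x ∈ commutator (SL(2, F))) ?_
    (fun A B hA hB ↦ mul_mem hA hB) (one_mem _) x
  intro i j hij c
  set d : SL(2, F) := mkSL a 0 0 a⁻¹ (by field_simp; ring) with hd
  obtain ⟨b, hb'⟩ : ∃ b : F, b * (a ^ 2 - 1) = c := ⟨c / (a ^ 2 - 1), by field_simp⟩
  have hcases : (i = 0 ∧ j = 1) ∨ (i = 1 ∧ j = 0) := by
    fin_cases i <;> fin_cases j <;> simp at hij ⊢
  rcases hcases with ⟨rfl, rfl⟩ | ⟨rfl, rfl⟩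
  · -- upper
    have key : transvection hij c = ⁅d, mkSL 1 b 0 1 (by ring)⁆ := by
      rw [trans_01, commutatorElement_def, eq_mul_inv_iff_mul_eq, eq_mul_inv_iff_mul_eq]
      apply ext2
      · simp [mul_ij, hd]
      · simp [mul_ij, hd]
        field_simp
        linear_combination -hb'
      · simp [mul_ij, hd]
      · simp [mul_ij, hd]
    rw [key]
    exact Subgroup.commutator_mem_commutator (Subgroup.mem_top _) (Subgroup.mem_top _)
  · obtain ⟨b', hb''⟩ : ∃ b : F, b * (a⁻¹ ^ 2 - 1) = c := ⟨c / (a⁻¹ ^ 2 - 1), by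
      have : a⁻¹ ^ 2 - 1 ≠ 0 := by
        intro h
        apply ha2
        have h3 : a⁻¹ ^ 2 = 1 := sub_eq_zero.1 h
        field_simp at h3
        exact h3.symm
      field_simp⟩
    have key : transvection hij c = ⁅d, mkSL 1 0 b' 1 (by ring)⁆ := by
      rw [trans_10, commutatorElement_def, eq_mul_inv_iff_mul_eq, eq_mul_inv_iff_mul_eq]
      apply ext2
      · simp [mul_ij, hd]
      · simp [mul_ij, hd]
      · simp [mul_ij, hd]
        have h5 : c = b' * a⁻¹ ^ 2 - b' := by rw [← hb'']; ring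
        rw [h5]
        field_simp
        ring
      · simp [mul_ij, hd]
    rw [key]
    exact Subgroup.commutator_mem_commutator (Subgroup.mem_top _) (Subgroup.mem_top _)

/-- Commuting with all elementary matrices forces a scalar. -/
theorem scalar_of_comm {n : ℕ} (hn : 1 ≤ n) (M : Matrix (Fin n) (Fin n) F)
    (h : ∀ i j : Fin n, i ≠ j → Matrix.single i j (1 : F) * M = M * Matrix.single i j (1 : F)) :
    ∃ c : F, M = c • (1 : Matrix (Fin n) (Fin n) F) := by
  refine ⟨M ⟨0, hn⟩ ⟨0, hn⟩, ?_⟩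
  have hoff : ∀ a b : Fin n, a ≠ b → M a b = 0 := by
    intro a b hab
    have h1 := congrFun (congrFun (h b a hab.symm) b) b
    rw [Matrix.single_mul_apply_same, one_mul, Matrix.mul_single_apply_of_ne _ _ _ _ _ (Ne.symm hab)] at h1
    exact h1
  have hdiag : ∀ a b : Fin n, a ≠ b → M a a = M b b := by
    intro a b hab
    have h1 := congrFun (congrFun (h a b hab) a) b
    rw [Matrix.single_mul_apply_same, one_mul, Matrix.mul_single_apply_same, mul_one] at h1
    exact h1.symm
  ext a b
  by_cases hab : a = b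
  · subst hab
    by_cases ha : a = ⟨0, hn⟩
    · subst ha; simp
    · simp [hdiag a _ ha]
  · simp [hoff a b hab, hab]

theorem core [Fintype F] (n : ℕ) (hn : 1 ≤ n) (hex : ¬ (n = 2 ∧ Fintype.card F ≤ 3))
    (G : Subgroup (Matrix.GeneralLinearGroup (Fin n) F))
    (hG : ∀ s : Matrix.SpecialLinearGroup (Fin n) F, ∀ g ∈ G, (Matrix.SpecialLinearGroup.toGL s) * g * (Matrix.SpecialLinearGroup.toGL s)⁻¹ ∈ G) :
    (∀ g ∈ G, ∃ c : F, (g : Matrix (Fin n) (Fin n) F) = c • (1 : Matrix (Fin n) (Fin n) F)) ∨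
      (Matrix.SpecialLinearGroup.toGL : Matrix.SpecialLinearGroup (Fin n) F →* _).range ≤ G := by
  classical
  by_cases hall : ∀ g ∈ G, ∃ c : F, (g : Matrix (Fin n) (Fin n) F) = c • (1 : Matrix (Fin n) (Fin n) F)
  · exact Or.inl hall
  right
  push Not at hall
  obtain ⟨g₀, hg₀, hns⟩ := hall
  have hn2 : 2 ≤ n := by
    by_contra h
    have h1 : n = 1 := by omega
    subst h1
    apply hns ((g₀ : Matrix (Fin 1) (Fin 1) F) 0 0)
    ext i j
    have hi : i = 0 := Subsingleton.elim _ _
    have hj : j = 0 := Subsingleton.elim _ _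
    subst hi hj
    simp
  haveI : Nontrivial (Fin n) := Fin.nontrivial_iff_two_le.2 hn2
  have hperf : commutator (Matrix.SpecialLinearGroup (Fin n) F) = ⊤ := by
    rcases eq_or_lt_of_le hn2 with h | h
    · subst h
      apply perfect_SL2
      have h4 : 4 ≤ Fintype.card F := by
        by_contra h4
        exact hex ⟨rfl, by omega⟩
      exact exists_not_sq_one' h4
    · exact commutator_eq_top_of_three (by rw [Fintype.card_fin]; omega)
  haveI hsimp : IsSimpleGroup (Matrix.ProjectiveSpecialLinearGroup (Fin n) F) := isSimpleGroup_PSL_of_perfect hperf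
  set K : Subgroup (Matrix.SpecialLinearGroup (Fin n) F) := G.comap Matrix.SpecialLinearGroup.toGL with hK
  have hKn : K.Normal := ⟨fun k hk s => by
    show Matrix.SpecialLinearGroup.toGL (s * k * s⁻¹) ∈ G
    rw [map_mul, map_mul, map_inv]
    exact hG s _ hk⟩
  set π : Matrix.SpecialLinearGroup (Fin n) F →* Matrix.ProjectiveSpecialLinearGroup (Fin n) F := QuotientGroup.mk' _ with hπ
  have hπ1 : ∀ x, π x = 1 ↔ x ∈ Subgroup.center (Matrix.SpecialLinearGroup (Fin n) F) :=
    fun x => QuotientGroup.eq_one_iff x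
  have hπs : Function.Surjective π := QuotientGroup.mk'_surjective _
  have hKbn : (K.map π).Normal := hKn.map _ hπs
  rcases hKbn.eq_bot_or_eq_top with hb | ht
  · exfalso
    suffices hsuff : ∃ c : F, (g₀ : Matrix (Fin n) (Fin n) F) = c • (1 : Matrix (Fin n) (Fin n) F) by
      obtain ⟨c, hc⟩ := hsuff
      exact hns c hc
    have hKc : ∀ k ∈ K, k ∈ Subgroup.center (Matrix.SpecialLinearGroup (Fin n) F) := by
      intro k hk
      rw [← hπ1]
      have : π k ∈ K.map π := ⟨k, hk, rfl⟩
      rw [hb] at this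
      exact this
    apply scalar_of_comm hn
    intro i j hij
    set E : Matrix (Fin n) (Fin n) F := Matrix.single i j (1 : F) with hE
    set M : Matrix (Fin n) (Fin n) F := (g₀ : Matrix (Fin n) (Fin n) F) with hM
    have hEE : E * E = 0 := by
      rw [hE, Matrix.single_mul_single_of_ne _ _ _ _ hij.symm]
    set s := transvection hij (1 : F) with hs
    have hS : ((Matrix.SpecialLinearGroup.toGL s : GL (Fin n) F) : Matrix (Fin n) (Fin n) F) = 1 + E := by
      rfl
    have hc : Matrix.SpecialLinearGroup.toGL s * g₀ * (Matrix.SpecialLinearGroup.toGL s)⁻¹ * g₀⁻¹ ∈ G :=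
      G.mul_mem (hG s g₀ hg₀) (G.inv_mem hg₀)
    have hdet : Matrix.GeneralLinearGroup.det (Matrix.SpecialLinearGroup.toGL s * g₀ * (Matrix.SpecialLinearGroup.toGL s)⁻¹ * g₀⁻¹) = 1 := by
      simp only [map_mul, map_inv]
      rw [mul_comm (Matrix.GeneralLinearGroup.det (Matrix.SpecialLinearGroup.toGL s)) (Matrix.GeneralLinearGroup.det g₀)]
      simp
    have hker : Matrix.SpecialLinearGroup.toGL s * g₀ * (Matrix.SpecialLinearGroup.toGL s)⁻¹ * g₀⁻¹ ∈ (Matrix.SpecialLinearGroup.toGL : Matrix.SpecialLinearGroup (Fin n) F →* _).range := by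
      rw [← ker_det_eq_range]
      exact hdet
    obtain ⟨c', hc'⟩ := hker
    have hc'K : c' ∈ K := by
      show Matrix.SpecialLinearGroup.toGL c' ∈ G
      rw [hc']
      exact hc
    obtain ⟨r, _, hr⟩ := Matrix.SpecialLinearGroup.mem_center_iff.1 (hKc c' hc'K)
    -- the scalar relation
    have hrel : (1 + E) * M = r • (M * (1 + E)) := by
      have h1 : Matrix.SpecialLinearGroup.toGL c' * g₀ * Matrix.SpecialLinearGroup.toGL s = Matrix.SpecialLinearGroup.toGL s * g₀ := by
        rw [hc']
        group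
      have h2 := congrArg (fun x : GL (Fin n) F => (x : Matrix (Fin n) (Fin n) F)) h1
      simp only [Units.val_mul, hS] at h2
      rw [← h2]
      have h3 : ((Matrix.SpecialLinearGroup.toGL c' : GL (Fin n) F) : Matrix (Fin n) (Fin n) F) = r • 1 := by
        show (c' : Matrix (Fin n) (Fin n) F) = r • 1
        rw [← hr]
        ext a b
        simp [Matrix.scalar_apply, Matrix.diagonal_apply, Matrix.one_apply]
      rw [h3]
      simp [Matrix.smul_mul, mul_assoc, hM]
    have hr0 : r ≠ 0 := by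
      rintro rfl
      have hS' : IsUnit (1 + E) := by
        rw [← hS]; exact (Matrix.SpecialLinearGroup.toGL s).isUnit
      have h4 : IsUnit ((1 + E) * M) := hS'.mul g₀.isUnit
      rw [hrel, zero_smul] at h4
      exact not_isUnit_zero h4
    -- `r = 1`
    have hr1 : r = 1 := by
      -- conjugating `E²=0`
      have hMinv : ((g₀⁻¹ : GL (Fin n) F) : Matrix (Fin n) (Fin n) F) * M = 1 := by
        rw [hM, ← Units.val_mul, inv_mul_cancel]; rfl
      set Mi := ((g₀⁻¹ : GL (Fin n) F) : Matrix (Fin n) (Fin n) F) with hMi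
      have h5 : Mi * (1 + E) * M = r • (1 + E) := by
        rw [mul_assoc, hrel, Matrix.mul_smul, ← mul_assoc, hMinv, one_mul]
      have h6 : (r • (1 + E) - 1) * (r • (1 + E) - 1) = 0 := by
        have h7 : r • (1 + E) - 1 = Mi * E * M := by
          rw [← h5, mul_add, add_mul, mul_one, hMinv]
          abel
        rw [h7]
        have h8 : M * Mi = 1 := by
          rw [hM, hMi, ← Units.val_mul, mul_inv_cancel]; rfl
        calc Mi * E * M * (Mi * E * M) = Mi * E * (M * Mi) * E * M := by simp only [mul_assoc]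
          _ = Mi * (E * E) * M := by rw [h8, mul_one]; simp only [mul_assoc]
          _ = 0 := by rw [hEE]; simp
      have h9 := congrFun (congrFun h6 i) i
      have h10 : (r • (1 + E) - 1) = (r - 1) • (1 : Matrix (Fin n) (Fin n) F) + r • E := by
        rw [sub_smul, smul_add]
        simp only [one_smul]
        abel
      rw [h10] at h9
      have h11 : ((r - 1) • (1 : Matrix (Fin n) (Fin n) F) + r • E) * ((r - 1) • (1 : Matrix (Fin n) (Fin n) F) + r • E)
          = ((r - 1) ^ 2) • (1 : Matrix (Fin n) (Fin n) F) + (2 * r * (r - 1)) • E + (r ^ 2) • (E * E) := by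
        simp only [add_mul, mul_add, Matrix.smul_mul, Matrix.mul_smul, one_mul, mul_one, smul_smul, smul_add]
        rw [two_mul, add_mul, add_smul]
        have e1 : (r - 1) * (r - 1) = (r - 1) ^ 2 := by ring
        have e2 : r * r = r ^ 2 := by ring
        have e3 : r * (r - 1) = (r - 1) * r := by ring
        rw [e1, e2, e3]
        abel
      rw [h11, hEE] at h9
      have hEii : E i i = 0 := by
        rw [hE, Matrix.single_apply]
        simp [hij.symm]
      simp [hEii] at h9
      exact sub_eq_zero.1 h9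
    subst hr1
    have h12 : (1 + E) * M = M * (1 + E) := by simpa using hrel
    have h13 : M + E * M = M + M * E := by
      simpa [add_mul, mul_add] using h12
    exact add_left_cancel h13
  · have hle : commutator (Matrix.SpecialLinearGroup (Fin n) F) ≤ K := by
      rw [commutator_def, Subgroup.commutator_le]
      intro a _ b _
      have hdec : ∀ x : Matrix.SpecialLinearGroup (Fin n) F, ∃ z ∈ Subgroup.center (Matrix.SpecialLinearGroup (Fin n) F), ∃ k ∈ K, x = z * k := by
        intro x
        have : π x ∈ K.map π := by rw [ht]; trivial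
        obtain ⟨k, hk, hkx⟩ := this
        have h1 : x * k⁻¹ ∈ Subgroup.center (Matrix.SpecialLinearGroup (Fin n) F) := by
          rw [← hπ1, map_mul, map_inv, ← hkx, mul_inv_cancel]
        exact ⟨_, h1, k, hk, by group⟩
      obtain ⟨z₁, hz₁, k₁, hk₁, rfl⟩ := hdec a
      obtain ⟨z₂, hz₂, k₂, hk₂, rfl⟩ := hdec b
      rw [Cfsg.Agent.Lib.GrpMisc.comm_central (fun c => (Subgroup.mem_center_iff.1 hz₁ c).symm) (fun c => (Subgroup.mem_center_iff.1 hz₂ c).symm)]
      rw [commutatorElement_def]
      exact K.mul_mem (K.mul_mem (K.mul_mem hk₁ hk₂) (K.inv_mem hk₁)) (K.inv_mem hk₂)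
    rw [hperf, top_le_iff] at hle
    rintro _ ⟨s, rfl⟩
    have : s ∈ K := by rw [hle]; trivial
    exact this

end Cfsg.Agent.Lib.SLNormal
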