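import Mathlib
import Cfsg.Agent.Lib.ThreeTrU

/-! Transvections of `SU_n(q)`, `n ≥ 3`, are conjugate. -/

set_option autoImplicit false
set_option linter.all false

namespace Cfsg.Agent.Lib.SUTv

open scoped MatrixGroups Matrix
open Cfsg Cfsg.Geo Cfsg.Agent.Lib.Transvection Cfsg.Agent.Lib.LinAlgAux Cfsg.Agent.Lib.UnitaryBase
  Cfsg.Agent.Lib.UnitaryGen Cfsg.Agent.Lib.Unitary3
open Cfsg.Agent.Lib.SymplecticTv (IsIsom Ind)

variable {F : Type*} [Field F] {n q : ℕ} {σ : F ≃+* F}

local notation "hh" => hermForm n F q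

abbrev mat (A : SU n F q) : Matrix (Fin n) (Fin n) F :=
  ((A : Matrix.SpecialLinearGroup (Fin n) F) : Matrix (Fin n) (Fin n) F)

/-- Classification of transvections in `SU`. -/
theorem exists_tt (hf : IsUnitaryForm σ (hermForm n F q)) (g : SU n F q)
    (h : (mat g - 1 : Matrix (Fin n) (Fin n) F).rank = 1)
    (hsq : (mat g - 1 : Matrix (Fin n) (Fin n) F) * (mat g - 1) = 0) :
    ∃ (u : Fin n → F) (b : F), u ≠ 0 ∧ hh u u = 0 ∧ b ≠ 0 ∧ b + σ b = 0 ∧ suHom n q F g = tt hf u b := by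
  classical
  have h1 : Module.finrank F (LinearMap.range ((mat g - 1 : Matrix (Fin n) (Fin n) F).mulVecLin)) = 1 := h
  obtain ⟨u, hu0, hu⟩ := finrank_eq_one_iff'.1 h1
  obtain ⟨u, hur⟩ := u
  have hu0' : u ≠ 0 := fun e => hu0 (Subtype.ext e)
  have hlam : ∀ x : Fin n → F, ∃ c : F, mat g *ᵥ x = x + c • u := by
    intro x
    obtain ⟨c, hc⟩ := hu ⟨_, LinearMap.mem_range_self _ x⟩
    refine ⟨c, ?_⟩
    have h2 := congrArg Subtype.val hc
    simp only [SetLike.val_smul] at h2
    have h3 : (mat g - 1 : Matrix (Fin n) (Fin n) F).mulVecLin x = mat g *ᵥ x - x := by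
      simp [Matrix.sub_mulVec]
    rw [h3] at h2
    rw [h2]
    abel
  choose lam hl using hlam
  have pres : ∀ x y, hh (mat g *ᵥ x) (mat g *ᵥ y) = hh x y := fun x y => suHom_isIsom g x y
  have hR : ∀ x y, lam x * hh u y + σ (lam y) * hh x u + lam x * σ (lam y) * hh u u = 0 := by
    intro x y
    have h3 := pres x y
    rw [hl x, hl y, hf.add_left, hf.smul_left, f_add_right hf, f_add_right hf, f_smul_right hf,
      f_smul_right hf] at h3
    linear_combination h3
  -- `g - 1` is not zero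
  have hne : ∃ x, lam x ≠ 0 := by
    by_contra hcon
    push Not at hcon
    have : (mat g - 1 : Matrix (Fin n) (Fin n) F) = 0 := by
      apply Matrix.ext_of_mulVec_single
      intro j
      rw [Matrix.sub_mulVec, hl, hcon, zero_smul, add_zero, Matrix.one_mulVec, sub_self, Matrix.zero_mulVec]
    rw [this, Matrix.rank_zero] at h
    omega
  obtain ⟨x₂, hx₂⟩ := hne
  have hlamu : lam u = 0 := by
    have h3 : (mat g - 1 : Matrix (Fin n) (Fin n) F) *ᵥ ((mat g - 1 : Matrix (Fin n) (Fin n) F) *ᵥ x₂) = 0 := by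
      rw [Matrix.mulVec_mulVec, hsq, Matrix.zero_mulVec]
    have h4 : (mat g - 1 : Matrix (Fin n) (Fin n) F) *ᵥ x₂ = lam x₂ • u := by
      rw [Matrix.sub_mulVec, hl, Matrix.one_mulVec]
      abel
    rw [h4, Matrix.mulVec_smul, Matrix.sub_mulVec, hl u, Matrix.one_mulVec] at h3
    have h5 : lam x₂ • (lam u • u) = 0 := by
      rw [← h3]
      congr 1
      abel
    rw [smul_smul] at h5
    rcases smul_eq_zero.1 h5 with h6 | h6
    · exact (mul_eq_zero.1 h6).resolve_left hx₂
    · exact absurd h6 hu0'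
  have huu : hh u u = 0 := by
    have h3 := hR x₂ u
    rw [hlamu, map_zero, zero_mul, mul_zero, zero_mul, add_zero, add_zero] at h3
    exact (mul_eq_zero.1 h3).resolve_left hx₂
  obtain ⟨y₀, hy₀⟩ := exists_right_ne hf hu0'
  obtain ⟨x₁, hx₁⟩ := exists_left_ne hf hu0'
  obtain ⟨b, hb⟩ : ∃ b, b = -(σ (lam y₀)) / hh u y₀ := ⟨_, rfl⟩
  have hlb : ∀ x, lam x = b * hh x u := by
    intro x
    have := hR x y₀
    rw [huu, mul_zero, add_zero] at this
    rw [hb]
    field_simp
    linear_combination this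
  have hb0 : b ≠ 0 := by
    intro h0
    apply hx₂
    rw [hlb, h0, zero_mul]
  have htr : b + σ b = 0 := by
    have h3 := hR x₁ y₀
    rw [huu, mul_zero, add_zero, hlb x₁, hlb y₀, map_mul, ← hf.herm] at h3
    have h4 : (b + σ b) * (hh x₁ u * hh u y₀) = 0 := by linear_combination h3
    exact (mul_eq_zero.1 h4).resolve_right (mul_ne_zero hx₁ hy₀)
  refine ⟨u, b, hu0', huu, hb0, htr, ?_⟩
  apply gl_ext_mulVec
  intro x
  rw [tt_mulVec hf b huu, ← hlb, ← hl]
  rfl

section two

open Cfsg.Agent.Lib.ThreeTrU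

variable {F : Type*} [Field F] {n : ℕ} {σ : F ≃+* F}
  (hf : IsUnitaryForm σ (hermForm n F 2)) (h2 : (2 : F) = 0)

theorem conj_of_ne (hnorm : ∀ e : F, e ≠ 0 → e * σ e = 1) {u w : Fin n → F}
    (hu : hermForm n F 2 u u = 0) (hw : hermForm n F 2 w w = 0) (h0 : hermForm n F 2 u w ≠ 0) :
    IsConj (T hf h2 u) (T hf h2 w) := by
  obtain ⟨w', hw', hw1, hTw⟩ : ∃ w' : Fin n → F, hermForm n F 2 w' w' = 0 ∧ hermForm n F 2 u w' = 1 ∧
      T hf h2 w' = T hf h2 w := by
    obtain ⟨e, he⟩ : ∃ e, e = σ (hermForm n F 2 u w)⁻¹ := ⟨_, rfl⟩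
    have he0 : e ≠ 0 := by
      rw [he]
      exact (map_ne_zero σ).2 (inv_ne_zero h0)
    refine ⟨e • w, ?_, ?_, T_smul hf h2 hnorm hw he0⟩
    · rw [hf.smul_left, f_smul_right hf, hw, mul_zero, mul_zero]
    · rw [f_smul_right hf, he, hf.involutive, inv_mul_cancel₀ h0]
  rw [← hTw]
  have h1' : hermForm n F 2 w' u = 1 := by
    rw [hf.herm, hw1, map_one]
  have e1 : T hf h2 u * T hf h2 w' * T hf h2 u = T hf h2 (w' + u) := by
    have := conj_T hf h2 (T hf h2 u) hw'
    rw [T_inv hf h2 hu, T_mv hf h2 hu, h1', one_smul] at this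
    exact this
  have e2 : T hf h2 w' * T hf h2 u * T hf h2 w' = T hf h2 (u + w') := by
    have := conj_T hf h2 (T hf h2 w') hu
    rw [T_inv hf h2 hw', T_mv hf h2 hw', hw1, one_smul] at this
    exact this
  generalize ha : T hf h2 u = a at *
  generalize hb : T hf h2 w' = b at *
  have haa : a * a = 1 := by rw [← ha, T_sq hf h2 hu]
  have hbb : b * b = 1 := by rw [← hb, T_sq hf h2 hw']
  have haba : a * b * a = b * a * b := by rw [e1, e2, add_comm]
  have hai : a⁻¹ = a := inv_eq_of_mul_eq_one_left haa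
  have hbi : b⁻¹ = b := inv_eq_of_mul_eq_one_left hbb
  refine isConj_iff.2 ⟨a * b, ?_⟩
  calc a * b * a * (a * b)⁻¹ = (a * b * a) * b * a := by rw [mul_inv_rev, hai, hbi]; group
    _ = (b * a * b) * b * a := by rw [haba]
    _ = b * a * (b * b) * a := by group
    _ = b * (a * a) := by rw [hbb]; group
    _ = b := by rw [haa, mul_one]

theorem conj_all (hnorm : ∀ e : F, e ≠ 0 → e * σ e = 1) {u w : Fin n → F}
    (hu0 : u ≠ 0) (hw0 : w ≠ 0)
    (hu : hermForm n F 2 u u = 0) (hw : hermForm n F 2 w w = 0) :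
    IsConj (T hf h2 u) (T hf h2 w) := by
  by_cases h0 : hermForm n F 2 u w = 0
  · -- a common non-orthogonal isotropic vector
    have hherm : ∀ {a b : Fin n → F}, hermForm n F 2 a b ≠ 0 → hermForm n F 2 b a ≠ 0 := by
      intro a b hab hba
      apply hab
      rw [hf.herm, hba, map_zero]
    have key : ∃ y, hermForm n F 2 y y = 0 ∧ hermForm n F 2 y u ≠ 0 ∧ hermForm n F 2 y w ≠ 0 := by
      obtain ⟨y₁, -, h1u, h1⟩ := (proj_top (hermForm n F 2)).exists_partner hf Submodule.mem_top hu0 hu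
      obtain ⟨y₂, -, h2w, h3⟩ := (proj_top (hermForm n F 2)).exists_partner hf Submodule.mem_top hw0 hw
      by_cases h4 : hermForm n F 2 y₁ w = 0
      · by_cases h5 : hermForm n F 2 y₂ u = 0
        · obtain ⟨c, hc0, hc⟩ : ∃ c : F, c ≠ 0 ∧ σ (c * hermForm n F 2 y₂ y₁) + c * hermForm n F 2 y₂ y₁ = 0 := by
            by_cases ha : hermForm n F 2 y₂ y₁ = 0
            · exact ⟨1, one_ne_zero, by rw [ha]; simp⟩
            · refine ⟨(hermForm n F 2 y₂ y₁)⁻¹, inv_ne_zero ha, ?_⟩
              rw [inv_mul_cancel₀ ha, map_one]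
              linear_combination h2
          refine ⟨y₁ + c • y₂, ?_, ?_, ?_⟩
          · have h6 : hermForm n F 2 y₁ y₂ = σ (hermForm n F 2 y₂ y₁) := hf.herm _ _
            rw [hf.add_left, f_add_right hf, f_add_right hf, hf.smul_left, f_smul_right hf, f_smul_right hf,
              hf.smul_left, h1, h3, h6]
            rw [map_mul] at hc
            linear_combination hc
          · rw [hf.add_left, hf.smul_left, h1u, h5]
            simp
          · rw [hf.add_left, hf.smul_left, h2w, h4]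
            simpa using hc0
        · exact ⟨y₂, h3, h5, by rw [h2w]; exact one_ne_zero⟩
      · exact ⟨y₁, h1, by rw [h1u]; exact one_ne_zero, h4⟩
    obtain ⟨y, hy, hyu, hyw⟩ := key
    exact (conj_of_ne hf h2 hnorm hu hy (hherm hyu)).trans (conj_of_ne hf h2 hnorm hy hw hyw)
  · exact conj_of_ne hf h2 hnorm hu hw h0

end two

theorem main {K : Type*} [Field K] [Fintype K] {q n : ℕ} (hK : Fintype.card K = q ^ 2) (hn : 3 ≤ n)
    (s t : ↥(Cfsg.SU n K q)) (hs : Cfsg.IsTransvection (((s : GL (Fin n) K) : Matrix (Fin n) (Fin n) K)))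
    (ht : Cfsg.IsTransvection (((t : GL (Fin n) K) : Matrix (Fin n) (Fin n) K))) : IsConj s t := by
  classical
  obtain ⟨σ, hσ⟩ := Cfsg.Agent.Lib.UnitaryHerm.exists_sigma hK
  have hf : IsUnitaryForm σ (hermForm n K q) := Cfsg.Agent.Lib.UnitaryHerm.hermForm_isUnitary hK hσ
  have hN := Cfsg.Agent.Lib.UnitaryHerm.norm_surjective hK hσ
  have hq2 := Cfsg.Agent.Lib.UnitaryHerm.q_two_le hK
  by_cases hcase : q = 2 ∧ n = 3
  · obtain ⟨rfl, rfl⟩ := hcase
    have hF4 : Fintype.card K = 4 := by rw [hK]; norm_num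
    have h2 : (2 : K) = 0 := by
      have h3 := FiniteField.pow_card (-1 : K)
      rw [hF4] at h3
      have h4 : (-1 : K) ^ 4 = 1 := by norm_num
      rw [h4] at h3
      linear_combination h3
    have hnorm : ∀ e : K, e ≠ 0 → e * σ e = 1 := by
      intro e he
      have h3 := FiniteField.pow_card_sub_one_eq_one e he
      rw [hF4] at h3
      rw [hσ]
      linear_combination h3
    obtain ⟨u, hu, hu0, rfl⟩ := Cfsg.Agent.Lib.ThreeTrU.eq_T_of_rank hf h2 hσ s hs.1
    obtain ⟨w, hw, hw0, rfl⟩ := Cfsg.Agent.Lib.ThreeTrU.eq_T_of_rank hf h2 hσ t ht.1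
    exact conj_all hf h2 hnorm hu0 hw0 hu hw
  · have hcard : 3 ≤ Fintype.card (Fin n) := by simpa using hn
    have hfinT : Module.finrank K (⊤ : Submodule K (Fin n → K)) = n := by
      rw [finrank_top, Module.finrank_fintype_fun_eq_card, Fintype.card_fin]
    have hmove : ∀ {u v : Fin n → K}, u ≠ 0 → v ≠ 0 → hermForm n K q u u = 0 → hermForm n K q v v = 0 →
        ∃ s ∈ uG hf ⊤, (s : Matrix (Fin n) (Fin n) K) *ᵥ u = v := by
      intro u v hu hv huu hvv
      by_cases h4 : 4 ≤ n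
      · exact move_any hf hN (proj_top _) (by rw [hfinT]; omega) Submodule.mem_top Submodule.mem_top hu hv huu hvv
      · have hq3 : 3 ≤ q := by
          by_contra hq3
          apply hcase
          constructor <;> omega
        obtain ⟨μ, hμ, hμ0, hμ1⟩ := exists_fix_ne hK hq3 hσ
        exact move_any3 hf hμ hμ0 hμ1 hN hcard hu hv huu hvv
    obtain ⟨u, b, hu0, hu, hb0, hb, hsu⟩ := exists_tt hf s hs.1 hs.2
    obtain ⟨w, d, hw0, hw, hd0, hd, htw⟩ := exists_tt hf t ht.1 ht.2
    -- scale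
    have hr : σ (d / b) = d / b := by
      have e1 : σ b = -b := by linear_combination hb
      have e2 : σ d = -d := by linear_combination hd
      rw [map_div₀, e1, e2, neg_div_neg_eq]
    obtain ⟨l, hl⟩ := hN _ hr
    have hl0 : l ≠ 0 := by
      rintro rfl
      rw [zero_mul] at hl
      exact div_ne_zero hd0 hb0 hl.symm
    have hw' : hermForm n K q (l • w) (l • w) = 0 := by
      rw [hf.smul_left, f_smul_right hf, hw, mul_zero, mul_zero]
    have htw' : suHom n q K t = tt hf (l • w) b := by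
      rw [htw, tt_smul hf l b hw, hl]
      congr 1
      field_simp
    obtain ⟨g, hg, hgv⟩ := hmove hu0 (smul_ne_zero hl0 hw0) hu hw'
    obtain ⟨A, hA⟩ := exists_suHom_eq (q := q) (uG_isIsom hg) (uG_det hg)
    refine isConj_iff.2 ⟨A, suHom_injective ?_⟩
    rw [map_mul, map_mul, map_inv, hA, hsu, htw', conj_tt hf (uG_isIsom hg) b hu, hgv]

end Cfsg.Agent.Lib.SUTv
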