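import Mathlib

/-!
A primitive group all of whose point stabilisers act primitively on their orbits: the point
stabiliser acts faithfully on each nontrivial orbit.  The proof shows that the fixed point set of
the kernel is a block.
-/

set_option autoImplicit false
set_option linter.unusedVariables false
set_option linter.style.haveILetI false
set_option linter.unusedSectionVars false

namespace Cfsg.Agent.Lib.SuborbitFaithful

open MulAction
open scoped Pointwise

variable {G Ω : Type*} [Group G] [MulAction G Ω]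

/-- An equivariant family of subgroups of point stabilisers. -/
structure Fam (T : Ω → Subgroup G) : Prop where
  conj : ∀ (g : G) (x : Ω) (h : G), h ∈ T (g • x) ↔ g⁻¹ * h * g ∈ T x
  stab : ∀ (x : Ω), ∀ h ∈ T x, h • x = x
  triv_or_trans : ∀ (x z : Ω), (∀ h ∈ T x, h • z = z) ∨
    (∀ g : G, g • x = x → ∃ h ∈ T x, h • z = g • z)
  ne_bot : ∀ (x : Ω), T x ≠ ⊥

/-- Fixed points of the member of the family at `x`. -/
def Fx (T : Ω → Subgroup G) (x : Ω) : Set Ω := {y | ∀ h ∈ T x, h • y = y}

variable {T : Ω → Subgroup G}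

theorem mem_Fx_smul (hT : Fam T) (g : G) (x y : Ω) : y ∈ Fx T (g • x) ↔ g⁻¹ • y ∈ Fx T x := by
  constructor
  · intro hy k hk
    have h1 : g * k * g⁻¹ ∈ T (g • x) := by
      rw [hT.conj]
      have : g⁻¹ * (g * k * g⁻¹) * g = k := by group
      rw [this]
      exact hk
    have h2 := hy _ h1
    rw [mul_smul, mul_smul] at h2
    exact eq_inv_smul_iff.2 h2
  · intro hy h hh
    have h1 := hy _ ((hT.conj g x h).1 hh)
    rw [mul_smul, mul_smul, smul_inv_smul] at h1
    exact smul_left_cancel _ h1

theorem self_mem (hT : Fam T) (x : Ω) : x ∈ Fx T x := fun h hh => hT.stab x h hh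

/-- Stabiliser invariance. -/
theorem smul_mem_of_stab (hT : Fam T) {g : G} {x y : Ω} (hg : g • x = x) (hy : y ∈ Fx T x) :
    g • y ∈ Fx T x := by
  have := (mem_Fx_smul hT g x (g • y)).2 (by rwa [inv_smul_smul])
  rwa [hg] at this

theorem claim1 (hT : Fam T) {x y z : Ω} (hy : y ∈ Fx T x) (hz : z ∈ Fx T y) (hzx : z ∉ Fx T x)
    {g : G} (hg : g • x = x) : g • z ∈ Fx T y := by
  rcases hT.triv_or_trans x z with h | h
  · exact absurd h hzx
  obtain ⟨k, hk, hkz⟩ := h g hg
  rw [← hkz]
  have hky : k • y = y := hy k hk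
  have := (mem_Fx_smul hT k y (k • z)).2 (by rwa [inv_smul_smul])
  rwa [hky] at this

variable [Finite G]

section main

variable [FaithfulSMul G Ω] [IsPretransitive G Ω]

/-- Maximality of a stabiliser in a convenient form. -/
def MaxStab (G Ω : Type*) [Group G] [MulAction G Ω] : Prop :=
  ∀ (x : Ω) (S : Subgroup G) (g : G), stabilizer G x ≤ S → g ∈ S → g • x ≠ x → S = ⊤

theorem claim_sym [Finite Ω] (hT : Fam T) (hmax : MaxStab G Ω) {x y : Ω} (hy : y ∈ Fx T x) :
    x ∈ Fx T y := by
  classical
  by_cases hsub : Fx T y ⊆ Fx T x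
  · obtain ⟨g, hg⟩ := exists_smul_eq G x y
    have himg : Fx T y = (fun w => g • w) '' Fx T x := by
      ext w
      subst hg
      rw [mem_Fx_smul hT]
      constructor
      · intro h
        exact ⟨g⁻¹ • w, h, by simp⟩
      · rintro ⟨u, hu, rfl⟩
        simpa using hu
    have hcard : (Fx T y).ncard = (Fx T x).ncard := by
      rw [himg]
      exact Set.ncard_image_of_injective _ (MulAction.injective g)
    have heq : Fx T y = Fx T x := Set.eq_of_subset_of_ncard_le hsub (by rw [hcard]) (Set.toFinite _)
    rw [heq]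
    exact self_mem hT x
  · rw [Set.not_subset] at hsub
    obtain ⟨z, hz, hzx⟩ := hsub
    by_contra hx
    have hx' : ∃ l ∈ T y, l • x ≠ x := by
      by_contra hcon
      push Not at hcon
      exact hx hcon
    obtain ⟨l, hl, hlx⟩ := hx'
    let N : Subgroup G := ⨆ g : stabilizer G x, T ((g : G) • y)
    have hlN : l ∈ N := by
      have h1 : T y ≤ N := by
        have := le_iSup (fun g : stabilizer G x => T ((g : G) • y)) 1
        simpa using this
      exact h1 hl
    have hNz : ∀ n ∈ N, n • z = z := by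
      have h1 : N ≤ stabilizer G z := by
        apply iSup_le
        intro g h hh
        rw [mem_stabilizer_iff]
        have hgi : (g : G)⁻¹ • x = x := by
          have := g.2
          rw [mem_stabilizer_iff] at this
          rw [inv_smul_eq_iff, this]
        have h2 := claim1 hT hy hz hzx hgi
        have h3 : z ∈ Fx T ((g : G) • y) := (mem_Fx_smul hT (g : G) y z).2 h2
        exact h3 h hh
      intro n hn
      exact h1 hn
    have hconj : ∀ g₀ : G, g₀ • x = x → ∀ n ∈ N, g₀ * n * g₀⁻¹ ∈ N := by
      intro g₀ hg₀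
      have h1 : N ≤ N.comap (MulAut.conj g₀).toMonoidHom := by
        apply iSup_le
        intro g h hh
        rw [Subgroup.mem_comap]
        have hmem : (g₀ * (g : G)) • x = x := by
          have := g.2
          rw [mem_stabilizer_iff] at this
          rw [mul_smul, this, hg₀]
        let g' : stabilizer G x := ⟨g₀ * (g : G), hmem⟩
        have h2 : T ((g' : G) • y) ≤ N :=
          le_iSup (fun g : stabilizer G x => T ((g : G) • y)) g'
        apply h2
        rw [hT.conj]
        change ((g₀ * (g : G))⁻¹ * (g₀ * h * g₀⁻¹) * (g₀ * (g : G))) ∈ T y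
        have h3 := (hT.conj (g : G) y h).1 hh
        have h4 : (g₀ * (g : G))⁻¹ * (g₀ * h * g₀⁻¹) * (g₀ * (g : G)) = (g : G)⁻¹ * h * (g : G) := by
          group
        rw [h4]
        exact h3
      intro n hn
      exact h1 hn
    have hnorm : Subgroup.normalizer (N : Set G) = ⊤ := by
      apply hmax x _ l _ (Subgroup.le_normalizer hlN) hlx
      intro g hg
      rw [mem_stabilizer_iff] at hg
      rw [Subgroup.mem_normalizer_iff]
      intro n
      refine ⟨hconj g hg n, fun h => ?_⟩
      have hgi : g⁻¹ • x = x := by rw [inv_smul_eq_iff, hg]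
      have := hconj g⁻¹ hgi _ h
      have h2 : g⁻¹ * (g * n * g⁻¹) * g⁻¹⁻¹ = n := by group
      rwa [h2] at this
    have hNbot : N = ⊥ := by
      rw [eq_bot_iff]
      intro n hn
      rw [Subgroup.mem_bot]
      apply FaithfulSMul.eq_of_smul_eq_smul (α := Ω)
      intro w
      rw [one_smul]
      obtain ⟨g, hg⟩ := exists_smul_eq G z w
      subst hg
      have h1 : g⁻¹ * n * g ∈ N := by
        have h2 : g⁻¹ ∈ Subgroup.normalizer (N : Set G) := by rw [hnorm]; trivial
        rw [Subgroup.mem_normalizer_iff] at h2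
        have h3 := (h2 n).1 hn
        simpa using h3
      have h2 := hNz _ h1
      rw [mul_smul, mul_smul, inv_smul_eq_iff] at h2
      exact h2
    apply hT.ne_bot y
    rw [eq_bot_iff]
    have h1 : T y ≤ N := by
      have := le_iSup (fun g : stabilizer G x => T ((g : G) • y)) 1
      simpa using this
    rw [← hNbot]
    exact h1

theorem claim_trans [Finite Ω] (hT : Fam T) (hmax : MaxStab G Ω) {x y z : Ω} (hy : y ∈ Fx T x)
    (hz : z ∈ Fx T y) : z ∈ Fx T x := by
  classical
  by_contra hzx
  have hxz : x ∉ Fx T z := fun h => hzx (claim_sym hT hmax h)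
  let C : Set Ω := {w | w ∈ Fx T x ∧ w ∈ Fx T z}
  have hyC : y ∈ C := ⟨hy, claim_sym hT hmax hz⟩
  have hinvx : ∀ g : G, g • x = x → ∀ w ∈ C, g • w ∈ C := by
    intro g hg w hw
    refine ⟨smul_mem_of_stab hT hg hw.1, claim_sym hT hmax ?_⟩
    rw [mem_Fx_smul hT]
    have hgi : g⁻¹ • x = x := by rw [inv_smul_eq_iff, hg]
    exact claim1 hT hw.1 (claim_sym hT hmax hw.2) hzx hgi
  have hinvz : ∀ g : G, g • z = z → ∀ w ∈ C, g • w ∈ C := by
    intro g hg w hw
    refine ⟨claim_sym hT hmax ?_, smul_mem_of_stab hT hg hw.2⟩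
    rw [mem_Fx_smul hT]
    have hgi : g⁻¹ • z = z := by rw [inv_smul_eq_iff, hg]
    exact claim1 hT hw.2 (claim_sym hT hmax hw.1) hxz hgi
  have hl : ∃ l ∈ T z, l • x ≠ x := by
    by_contra hcon
    push Not at hcon
    exact hxz hcon
  obtain ⟨l, hl, hlx⟩ := hl
  let S : Subgroup G :=
    { carrier := {g | ∀ w, w ∈ C ↔ g • w ∈ C}
      one_mem' := by
        intro w
        simp
      mul_mem' := by
        intro a b ha hb w
        rw [mul_smul, hb w, ha (b • w)]
      inv_mem' := by
        intro a ha w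
        have := ha (a⁻¹ • w)
        rw [smul_inv_smul] at this
        exact this.symm }
  have hS : S = ⊤ := by
    apply hmax x S l
    · intro g hg
      rw [mem_stabilizer_iff] at hg
      intro w
      refine ⟨hinvx g hg w, fun h => ?_⟩
      have hgi : g⁻¹ • x = x := by rw [inv_smul_eq_iff, hg]
      have := hinvx g⁻¹ hgi _ h
      rwa [inv_smul_smul] at this
    · have hlz : l • z = z := hT.stab z l hl
      intro w
      refine ⟨hinvz l hlz w, fun h => ?_⟩
      have hgi : l⁻¹ • z = z := by rw [inv_smul_eq_iff, hlz]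
      have := hinvz l⁻¹ hgi _ h
      rwa [inv_smul_smul] at this
    · exact hlx
  obtain ⟨g, hg⟩ := exists_smul_eq G y x
  have hgS : g ∈ S := by rw [hS]; trivial
  have hxC : x ∈ C := by
    have := (hgS y).1 hyC
    rwa [hg] at this
  exact hxz hxC.2

theorem block_of_fam [Finite Ω] [IsPreprimitive G Ω] (hT : Fam T) (hmax : MaxStab G Ω) (x : Ω) :
    (Fx T x).Subsingleton := by
  classical
  have hblock : IsBlock G (Fx T x) := by
    rw [isBlock_iff_smul_eq_or_disjoint]
    intro g
    by_cases hd : Disjoint (g • Fx T x) (Fx T x)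
    · exact Or.inr hd
    left
    rw [Set.not_disjoint_iff] at hd
    obtain ⟨w, hw1, hw2⟩ := hd
    have himg : g • Fx T x = Fx T (g • x) := by
      ext u
      rw [mem_Fx_smul hT, Set.mem_smul_set_iff_inv_smul_mem]
    rw [himg] at hw1 ⊢
    have h1 : g • x ∈ Fx T x :=
      claim_trans hT hmax hw2 (claim_sym hT hmax hw1)
    have h2 : x ∈ Fx T (g • x) := claim_sym hT hmax h1
    ext u
    exact ⟨fun h => claim_trans hT hmax h1 h, fun h => claim_trans hT hmax h2 h⟩
  rcases IsPreprimitive.isTrivialBlock_of_isBlock hblock with h | h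
  · exact h
  · exfalso
    apply hT.ne_bot x
    rw [eq_bot_iff]
    intro k hk
    rw [Subgroup.mem_bot]
    apply FaithfulSMul.eq_of_smul_eq_smul (α := Ω)
    intro w
    rw [one_smul]
    have : w ∈ Fx T x := by rw [h]; trivial
    exact this k hk

end main

/-- The kernel of a stabiliser on an orbit. -/
def kerOn (α ω : Ω) : Subgroup G where
  carrier := {g | g • α = α ∧ ∀ x ∈ orbit (stabilizer G α) ω, g • x = x}
  one_mem' := by simp
  mul_mem' := by
    rintro a b ⟨ha, ha'⟩ ⟨hb, hb'⟩
    refine ⟨by rw [mul_smul, hb, ha], fun x hx => ?_⟩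
    rw [mul_smul, hb' x hx, ha' x hx]
  inv_mem' := by
    rintro a ⟨ha, ha'⟩
    refine ⟨by rw [inv_smul_eq_iff, ha], fun x hx => ?_⟩
    rw [inv_smul_eq_iff, ha' x hx]

/-- Transport of the kernel along the transitive action. -/
def famOf (K : Subgroup G) (α x : Ω) : Subgroup G where
  carrier := {g | ∀ t : G, t • α = x → t⁻¹ * g * t ∈ K}
  one_mem' := by
    intro t _
    simp [K.one_mem]
  mul_mem' := by
    intro a b ha hb t ht
    have : t⁻¹ * (a * b) * t = (t⁻¹ * a * t) * (t⁻¹ * b * t) := by group
    rw [this]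
    exact K.mul_mem (ha t ht) (hb t ht)
  inv_mem' := by
    intro a ha t ht
    have : t⁻¹ * a⁻¹ * t = (t⁻¹ * a * t)⁻¹ := by group
    rw [this]
    exact K.inv_mem (ha t ht)

theorem main_faithful [Finite Ω] [FaithfulSMul G Ω] (hprim : IsPreprimitive G Ω)
    (hep : ∀ (α ω : Ω), IsPreprimitive (stabilizer G α) (orbit (stabilizer G α) ω))
    (α ω : Ω) (hω : ω ≠ α) (h : G) (hα : h • α = α)
    (hfix : ∀ x ∈ orbit (stabilizer G α) ω, h • x = x) : h = 1 := by
  classical
  by_contra hne
  haveI := hprim
  haveI : IsPretransitive G Ω := hprim.toIsPretransitive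
  haveI : Nontrivial Ω := ⟨⟨ω, α, hω⟩⟩
  set K : Subgroup G := kerOn α ω with hK
  have hKnorm : ∀ s : G, s • α = α → ∀ k ∈ K, s * k * s⁻¹ ∈ K := by
    rintro s hs k ⟨hk1, hk2⟩
    have hsi : s⁻¹ • α = α := by rw [inv_smul_eq_iff, hs]
    refine ⟨?_, fun x hx => ?_⟩
    · rw [mul_smul, mul_smul, hsi, hk1, hs]
    · have h1 : s⁻¹ • x ∈ orbit (stabilizer G α) ω := by
        have : (⟨s⁻¹, hsi⟩ : stabilizer G α) • x ∈ orbit (stabilizer G α) ω :=
          mem_orbit_of_mem_orbit _ hx
        exact this
      rw [mul_smul, mul_smul, hk2 _ h1, smul_inv_smul]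
  have hhK : h ∈ K := ⟨hα, hfix⟩
  let T : Ω → Subgroup G := famOf K α
  have hTfam : Fam T := by
    refine ⟨?_, ?_, ?_, ?_⟩
    · intro g x k
      constructor
      · intro hk t ht
        have h1 := hk (g * t) (by rw [mul_smul, ht])
        have h2 : (g * t)⁻¹ * k * (g * t) = t⁻¹ * (g⁻¹ * k * g) * t := by group
        rw [← h2]
        exact h1
      · intro hk t ht
        have h1 := hk (g⁻¹ * t) (by rw [mul_smul, ht, inv_smul_smul])
        have h2 : (g⁻¹ * t)⁻¹ * (g⁻¹ * k * g) * (g⁻¹ * t) = t⁻¹ * k * t := by group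
        rw [← h2]
        exact h1
    · intro x k hk
      obtain ⟨t, ht⟩ := exists_smul_eq G α x
      have h1 := (hk t ht).1
      have h2 : k • t • α = t • α := by
        rw [mul_smul, mul_smul, inv_smul_eq_iff] at h1
        exact h1
      rwa [ht] at h2
    · intro x z
      let S := stabilizer G x
      let N : Subgroup S := (T x).subgroupOf S
      have hstabT : ∀ (k : G), k ∈ T x → k ∈ S := by
        intro k hk
        rw [mem_stabilizer_iff]
        obtain ⟨t, ht⟩ := exists_smul_eq G α x
        have h1 := (hk t ht).1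
        have h2 : k • t • α = t • α := by
          rw [mul_smul, mul_smul, inv_smul_eq_iff] at h1
          exact h1
        rwa [ht] at h2
      haveI hNn : N.Normal := by
        constructor
        intro n hn g
        rw [Subgroup.mem_subgroupOf] at hn ⊢
        have hg : (g : G) • x = x := g.2
        have h1 : ∀ t : G, t • α = x → t⁻¹ * ((g : G) * (n : G) * (g : G)⁻¹) * t ∈ K := by
          intro t ht
          have h2 := hn ((g : G)⁻¹ * t) (by rw [mul_smul, ht, inv_smul_eq_iff, hg])
          have h3 : ((g : G)⁻¹ * t)⁻¹ * (n : G) * ((g : G)⁻¹ * t) =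
              t⁻¹ * ((g : G) * (n : G) * (g : G)⁻¹) * t := by group
          rwa [h3] at h2
        exact h1
      haveI := hep x z
      by_cases hfp : fixedPoints N (orbit S z) = Set.univ
      · left
        intro k hk
        have h1 : (⟨z, mem_orbit_self z⟩ : orbit S z) ∈ fixedPoints N (orbit S z) := by
          rw [hfp]; trivial
        have h2 := h1 ⟨⟨k, hstabT k hk⟩, by
          rw [Subgroup.mem_subgroupOf]; exact hk⟩
        exact congrArg Subtype.val h2
      · right
        intro g hg
        haveI : IsPretransitive N (orbit S z) :=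
          IsQuasiPreprimitive.isPretransitive_of_normal hfp
        have hgz : g • z ∈ orbit S z := ⟨⟨g, hg⟩, rfl⟩
        obtain ⟨n, hn⟩ := exists_smul_eq N (⟨z, mem_orbit_self z⟩ : orbit S z) ⟨g • z, hgz⟩
        refine ⟨((n : S) : G), ?_, ?_⟩
        · have := n.2
          rwa [Subgroup.mem_subgroupOf] at this
        · exact congrArg Subtype.val hn
    · intro x hbot
      obtain ⟨t, ht⟩ := exists_smul_eq G α x
      have h1 : t * h * t⁻¹ ∈ T x := by
        intro t' ht'
        have hs : (t'⁻¹ * t) • α = α := by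
          rw [mul_smul, ht, ← ht', inv_smul_smul]
        have h2 := hKnorm _ hs h hhK
        have h3 : (t'⁻¹ * t) * h * (t'⁻¹ * t)⁻¹ = t'⁻¹ * (t * h * t⁻¹) * t' := by group
        rwa [h3] at h2
      rw [hbot, Subgroup.mem_bot] at h1
      apply hne
      have h4 : h = t⁻¹ * (t * h * t⁻¹) * t := by group
      rw [h4, h1]
      group
  have hmax : MaxStab G Ω := by
    intro x S g hS hg hgx
    have hco : IsCoatom (stabilizer G x) := IsPreprimitive.isCoatom_stabilizer_of_isPreprimitive G x
    apply hco.2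
    refine lt_of_le_of_ne hS ?_
    intro he
    apply hgx
    have : g ∈ stabilizer G x := by rw [he]; exact hg
    exact this
  have hsub := block_of_fam hTfam hmax α
  have hωF : ω ∈ Fx T α := by
    intro k hk
    have h1 := hk 1 (one_smul _ _)
    simp only [inv_one, one_mul, mul_one] at h1
    exact h1.2 ω (mem_orbit_self ω)
  exact hω (hsub hωF (self_mem hTfam α))

end Cfsg.Agent.Lib.SuborbitFaithful
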