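import Mathlib
import Cfsg.Prelude.Def_SolvableStructure
import Cfsg.Agent.Lib.Supersolvable
import Cfsg.Agent.Lib.H5Basic

/-!
# Hall subgroups of supersolvable type
-/

set_option autoImplicit false
set_option linter.unusedVariables false
set_option linter.style.haveILetI false
set_option linter.unusedSectionVars false

namespace Cfsg.Agent.Lib.SuperHall

open Cfsg Subgroup
open Cfsg.Agent.Lib.Supersolvable

universe u

/-- Sylow subgroups for a largest prime of a supersolvable group are normal. -/
theorem normal_sylow_largest (n : ℕ) : ∀ (G : Type u) [Group G] [Finite G], Nat.card G = n →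
    IsSupersolvable G → ∀ p : ℕ, p.Prime → (∀ q, q.Prime → q ∣ Nat.card G → q ≤ p) →
    ∀ P : Sylow p G, (P : Subgroup G).Normal := by
  induction n using Nat.strong_induction_on with
  | _ n ih =>
  intro G _ _ hn hG p hp hmax P
  haveI : Fact p.Prime := ⟨hp⟩
  by_cases hd : p ∣ Nat.card G
  · obtain ⟨Q, hQn, hQc⟩ := exists_largest_normal _ G rfl hG p hp hd hmax
    haveI := hQn
    let π := QuotientGroup.mk' Q
    have hπ : Function.Surjective π := QuotientGroup.mk'_surjective Q
    have hcard : Nat.card (G ⧸ Q) * Nat.card Q = Nat.card G :=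
      (Subgroup.card_eq_card_quotient_mul_card_subgroup Q).symm
    have hlt : Nat.card (G ⧸ Q) < n := by
      rw [← hn, ← hcard, hQc]
      have hpos : 0 < Nat.card (G ⧸ Q) := Nat.card_pos
      nlinarith [hp.two_le]
    have hdvd : Nat.card (G ⧸ Q) ∣ Nat.card G := Dvd.intro _ hcard
    let S : Sylow p (G ⧸ Q) := default
    have hSn : (S : Subgroup (G ⧸ Q)).Normal :=
      ih _ hlt (G ⧸ Q) rfl (super_quotient hG Q) p hp (fun q hq hqd => hmax q hq (dvd_trans hqd hdvd)) S
    let T : Subgroup G := (S : Subgroup (G ⧸ Q)).comap π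
    have hTn : T.Normal := hSn.comap π
    have hker : π.ker = Q := QuotientGroup.ker_mk' Q
    have hQp : IsPGroup p Q := IsPGroup.of_card (n := 1) (by rw [hQc, pow_one])
    have hTp : IsPGroup p T :=
      IsPGroup.comap_of_ker_isPGroup S.isPGroup' π (by rw [hker]; exact hQp)
    have hPT : (P : Subgroup G) ≤ T := by
      have h1 : IsPGroup p ((P : Subgroup G).map π) := P.isPGroup'.map _
      obtain ⟨S', hS'⟩ := h1.exists_le_sylow
      have hS'' : S' = S := by
        letI := Sylow.unique_of_normal S hSn
        exact Subsingleton.elim _ _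
      intro x hx
      have : π x ∈ (S' : Subgroup (G ⧸ Q)) := hS' ⟨x, hx, rfl⟩
      rw [hS''] at this
      exact this
    have : (T : Subgroup G) = P := P.is_maximal' hTp hPT
    rw [← this]; exact hTn
  · have hb : (P : Subgroup G) = ⊥ := by
      rw [← Subgroup.card_eq_one, P.card_eq_multiplicity, Nat.factorization_eq_zero_of_not_dvd hd, pow_zero]
    rw [hb]; exact inferInstance

/-- Conjugacy of supersolvable Hall subgroups of equal order. -/
theorem hall_conj (n : ℕ) : ∀ (G : Type u) [Group G] [Finite G], Nat.card G = n →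
    ∀ H K : Subgroup G, IsSupersolvable H → IsSupersolvable K → Nat.card H = Nat.card K →
    (Nat.card H).Coprime H.index → ∃ x : G, H.map (MulAut.conj x).toMonoidHom = K := by
  induction n using Nat.strong_induction_on with
  | _ n ih =>
  intro G _ _ hn H K hH hK hcard hHall
  have step : ∀ H₁ Q : Subgroup G, IsSupersolvable H₁ → Nat.card H₁ = Nat.card K →
      (Nat.card H₁).Coprime H₁.index → Q ≠ ⊥ → Q ≤ H₁ → Q ≤ K →
      H₁ ≤ Subgroup.normalizer (Q : Set G) → K ≤ Subgroup.normalizer (Q : Set G) →
      ∃ x : G, H₁.map (MulAut.conj x).toMonoidHom = K := by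
    intro H₁ Q hS₁ hc₁ hcop₁ hQ1 hQH hQK hHN hKN
    have hfin : ∀ x : G, (∀ h ∈ H₁, x * h * x⁻¹ ∈ K) → H₁.map (MulAut.conj x).toMonoidHom = K := by
      intro x hx
      refine Subgroup.eq_of_le_of_card_ge ?_ ?_
      · rintro _ ⟨h, hh, rfl⟩
        exact hx h hh
      · rw [Cfsg.Agent.Lib.H5Basic.card_map_conj, hc₁]
    have hidx : K.index = H₁.index := by
      have h1 := K.card_mul_index
      have h2 := H₁.card_mul_index
      rw [← hc₁] at h1
      exact Nat.eq_of_mul_eq_mul_left Nat.card_pos (h1.trans h2.symm)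
    by_cases hN : Subgroup.normalizer (Q : Set G) = ⊤
    · haveI hQn : Q.Normal := Subgroup.normalizer_eq_top_iff.1 hN
      let π := QuotientGroup.mk' Q
      have hπ : Function.Surjective π := QuotientGroup.mk'_surjective Q
      have hker : π.ker = Q := QuotientGroup.ker_mk' Q
      have hcard' : Nat.card (G ⧸ Q) * Nat.card Q = Nat.card G :=
        (Subgroup.card_eq_card_quotient_mul_card_subgroup Q).symm
      have hQc : 1 < Nat.card Q := by
        have h0 : Nat.card Q ≠ 1 := fun h => hQ1 (Subgroup.card_eq_one.1 h)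
        have h2 : 0 < Nat.card Q := Nat.card_pos
        omega
      have hlt : Nat.card (G ⧸ Q) < n := by
        rw [← hn, ← hcard']
        have hpos : 0 < Nat.card (G ⧸ Q) := Nat.card_pos
        nlinarith
      have hcomH : (H₁.map π).comap π = H₁ := by
        rw [Subgroup.comap_map_eq, hker]; exact sup_eq_left.2 hQH
      have hcomK : (K.map π).comap π = K := by
        rw [Subgroup.comap_map_eq, hker]; exact sup_eq_left.2 hQK
      have hiH : (H₁.map π).index = H₁.index := by
        conv_rhs => rw [← hcomH]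
        exact (Subgroup.index_comap_of_surjective _ hπ).symm
      have hiK : (K.map π).index = K.index := by
        conv_rhs => rw [← hcomK]
        exact (Subgroup.index_comap_of_surjective _ hπ).symm
      have hc3 : Nat.card (H₁.map π) = Nat.card (K.map π) := by
        have h1 := (H₁.map π).card_mul_index
        have h2 := (K.map π).card_mul_index
        rw [hiH] at h1
        rw [hiK, hidx] at h2
        have hpos : 0 < H₁.index := by
          rw [← hiH]; exact Nat.pos_of_ne_zero Subgroup.index_ne_zero_of_finite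
        exact Nat.eq_of_mul_eq_mul_right hpos (h1.trans h2.symm)
      have hcop3 : (Nat.card (H₁.map π)).Coprime (H₁.map π).index := by
        rw [hiH]
        refine Nat.Coprime.coprime_dvd_left ?_ hcop₁
        exact Subgroup.card_dvd_of_surjective (π.subgroupMap H₁) (π.subgroupMap_surjective H₁)
      obtain ⟨y, hy⟩ := ih _ hlt (G ⧸ Q) rfl (H₁.map π) (K.map π)
        (super_map hS₁ (π.subgroupMap H₁) (π.subgroupMap_surjective H₁))
        (super_map hK (π.subgroupMap K) (π.subgroupMap_surjective K)) hc3 hcop3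
      obtain ⟨x, rfl⟩ := hπ y
      refine ⟨x, hfin x ?_⟩
      intro h hh
      have h1 : π x * π h * (π x)⁻¹ ∈ K.map π := by
        rw [← hy]
        exact ⟨π h, ⟨h, hh, rfl⟩, rfl⟩
      have h2 : x * h * x⁻¹ ∈ (K.map π).comap π := by
        rw [Subgroup.mem_comap, map_mul, map_mul, map_inv]
        exact h1
      rwa [hcomK] at h2
    · let N : Subgroup G := Subgroup.normalizer (Q : Set G)
      have hlt : Nat.card N < n := by
        rw [← hn]
        refine lt_of_le_of_ne (Subgroup.card_le_card_group N) ?_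
        intro h
        exact hN ((Subgroup.card_eq_iff_eq_top N).1 h)
      have hcH : Nat.card (H₁.subgroupOf N) = Nat.card H₁ :=
        Nat.card_congr (Subgroup.subgroupOfEquivOfLe hHN).toEquiv
      have hcK : Nat.card (K.subgroupOf N) = Nat.card K :=
        Nat.card_congr (Subgroup.subgroupOfEquivOfLe hKN).toEquiv
      have hcop2 : (Nat.card (H₁.subgroupOf N)).Coprime (H₁.subgroupOf N).index := by
        rw [hcH]
        refine Nat.Coprime.coprime_dvd_right ?_ hcop₁
        exact Dvd.intro _ (Subgroup.relIndex_mul_index hHN)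
      obtain ⟨y, hy⟩ := ih _ hlt N rfl (H₁.subgroupOf N) (K.subgroupOf N)
        (super_map hS₁ (Subgroup.subgroupOfEquivOfLe hHN).symm.toMonoidHom (MulEquiv.surjective _))
        (super_map hK (Subgroup.subgroupOfEquivOfLe hKN).symm.toMonoidHom (MulEquiv.surjective _))
        (by rw [hcH, hcK, hc₁]) hcop2
      refine ⟨y, hfin y ?_⟩
      intro h hh
      have h1 : (y * ⟨h, hHN hh⟩ * y⁻¹ : N) ∈ K.subgroupOf N := by
        rw [← hy]
        exact ⟨⟨h, hHN hh⟩, Subgroup.mem_subgroupOf.2 hh, rfl⟩
      exact Subgroup.mem_subgroupOf.1 h1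
  by_cases h1 : Nat.card H = 1
  · have hHb : H = ⊥ := Subgroup.card_eq_one.1 h1
    have hKb : K = ⊥ := Subgroup.card_eq_one.1 (hcard ▸ h1)
    refine ⟨1, ?_⟩
    rw [hHb, hKb]
    simp
  · have h1' : 1 < Nat.card H := by
      have h2 : 0 < Nat.card H := Nat.card_pos
      omega
    obtain ⟨p, hp, hpd, hmax⟩ := exists_largest_prime h1'
    haveI : Fact p.Prime := ⟨hp⟩
    let A : Sylow p H := default
    let B : Sylow p K := default
    have hAn : (A : Subgroup H).Normal := normal_sylow_largest _ H rfl hH p hp hmax A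
    have hBn : (B : Subgroup K).Normal :=
      normal_sylow_largest _ K rfl hK p hp (fun q hq hqd => hmax q hq (hcard ▸ hqd)) B
    have hidx : K.index = H.index := by
      have h1 := K.card_mul_index
      have h2 := H.card_mul_index
      rw [← hcard] at h1
      exact Nat.eq_of_mul_eq_mul_left Nat.card_pos (h1.trans h2.symm)
    have hnd : ¬ p ∣ H.index := fun h =>
      (Nat.Prime.coprime_iff_not_dvd hp).1 (Nat.Coprime.coprime_dvd_left hpd hHall) h
    have hA1 : ¬ p ∣ ((A : Subgroup H).map H.subtype).index := by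
      rw [Subgroup.index_map_subtype, hp.dvd_mul]
      rintro (h | h)
      · exact A.not_dvd_index h
      · exact hnd h
    have hB1 : ¬ p ∣ ((B : Subgroup K).map K.subtype).index := by
      rw [Subgroup.index_map_subtype, hp.dvd_mul, hidx]
      rintro (h | h)
      · exact B.not_dvd_index h
      · exact hnd h
    let A' : Sylow p G := (A.isPGroup'.map H.subtype).toSylow hA1
    let B' : Sylow p G := (B.isPGroup'.map K.subtype).toSylow hB1
    have hA'c : (A' : Subgroup G) = (A : Subgroup H).map H.subtype := IsPGroup.toSylow_coe _ _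
    have hB'c : (B' : Subgroup G) = (B : Subgroup K).map K.subtype := IsPGroup.toSylow_coe _ _
    obtain ⟨g, hg⟩ := MulAction.exists_smul_eq G A' B'
    have hconj : ∀ (L : Subgroup G) (C : Subgroup L), C.Normal → ∀ h ∈ L, ∀ a ∈ C.map L.subtype,
        h * a * h⁻¹ ∈ C.map L.subtype := by
      rintro L C hC h hh _ ⟨a, ha, rfl⟩
      exact ⟨(⟨h, hh⟩ : L) * a * (⟨h, hh⟩ : L)⁻¹, hC.conj_mem a ha _, rfl⟩
    have hA'H : (A' : Subgroup G) ≤ H := by
      rw [hA'c]; exact Subgroup.map_subtype_le _
    have hB'K : (B' : Subgroup G) ≤ K := by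
      rw [hB'c]; exact Subgroup.map_subtype_le _
    have hB'1 : (B' : Subgroup G) ≠ ⊥ := by
      rw [hB'c]
      intro h0
      exact B.ne_bot_of_dvd_card (hcard ▸ hpd)
        ((Subgroup.map_eq_bot_iff_of_injective _ K.subtype_injective).1 h0)
    have hB'2 : ∀ b ∈ (B' : Subgroup G), g⁻¹ * b * g ∈ (A' : Subgroup G) := by
      intro b hb
      rw [← hg] at hb
      exact Cfsg.Agent.Lib.H5Basic.mem_of_mem_smul_sylow A' g b hb
    have hB'3 : ∀ a ∈ (A' : Subgroup G), g * a * g⁻¹ ∈ (B' : Subgroup G) := by
      intro a ha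
      have := Cfsg.Agent.Lib.H5Basic.conj_mem_smul_sylow A' g a ha
      rwa [hg] at this
    have hcardH₁ : Nat.card (H.map (MulAut.conj g).toMonoidHom) = Nat.card H :=
      Cfsg.Agent.Lib.H5Basic.card_map_conj H g
    have hidxH₁ : (H.map (MulAut.conj g).toMonoidHom).index = H.index := by
      have h1 := (H.map (MulAut.conj g).toMonoidHom).card_mul_index
      have h2 := H.card_mul_index
      rw [hcardH₁] at h1
      exact Nat.eq_of_mul_eq_mul_left Nat.card_pos (h1.trans h2.symm)
    obtain ⟨x, hx⟩ := step (H.map (MulAut.conj g).toMonoidHom) (B' : Subgroup G)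
      (super_map hH ((MulAut.conj g).toMonoidHom.subgroupMap H)
        ((MulAut.conj g).toMonoidHom.subgroupMap_surjective H))
      (hcardH₁.trans hcard) (by rw [hcardH₁, hidxH₁]; exact hHall) hB'1
      (by
        intro b hb
        refine ⟨g⁻¹ * b * g, hA'H (hB'2 b hb), ?_⟩
        simp [MulAut.conj_apply, mul_assoc])
      hB'K
      (by
        rintro _ ⟨h, hh, rfl⟩
        apply Cfsg.Agent.Lib.H5Basic.mem_normalizer_of_map_conj_le
        rintro _ ⟨b, hb, rfl⟩
        have h1 := hB'2 b hb
        have h2 : h * (g⁻¹ * b * g) * h⁻¹ ∈ (A' : Subgroup G) := by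
          rw [hA'c] at h1 ⊢
          exact hconj H _ hAn h hh _ h1
        have h3 := hB'3 _ h2
        have h4 : g * (h * (g⁻¹ * b * g) * h⁻¹) * g⁻¹ =
            (MulAut.conj ((MulAut.conj g).toMonoidHom h)).toMonoidHom b := by
          simp [MulAut.conj_apply, mul_assoc]
        rwa [h4] at h3)
      (by
        intro k hk
        apply Cfsg.Agent.Lib.H5Basic.mem_normalizer_of_map_conj_le
        rintro _ ⟨b, hb, rfl⟩
        have h1 : k * b * k⁻¹ ∈ (B' : Subgroup G) := by
          rw [hB'c] at hb ⊢
          exact hconj K _ hBn k hk _ hb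
        exact h1)
    refine ⟨x * g, ?_⟩
    rw [← hx, Subgroup.map_map]
    congr 1
    ext y
    simp [MulAut.conj_apply, mul_assoc]

end Cfsg.Agent.Lib.SuperHall
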