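import Mathlib
import Cfsg.Prelude.Def_LieExceptional

/-! The Suzuki groups as stabilisers of the Suzuki–Tits ovoid: explicit elements and the
two-point stabiliser. -/

set_option autoImplicit false
set_option linter.unusedSectionVars false
set_option linter.unusedVariables false
set_option linter.unusedSimpArgs false

namespace Cfsg.Agent.Lib.Suzuki

open Cfsg
open scoped Matrix MatrixGroups LinearAlgebra.Projectivization Pointwise

variable {F : Type*} [Field F] {m : ℕ}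

/-- The function of the ovoid. -/
def fS (m : ℕ) (x y : F) : F := x * y + x ^ (2 ^ (m + 1) + 2) + y ^ (2 ^ (m + 1))

theorem vec_ne (a b c : F) : (![a, b, c, 1] : Fin 4 → F) ≠ 0 := by
  intro h
  have := congrFun h 3
  simp at this

/-- The vector of the point with parameters `(x, y)`. -/
def vP (m : ℕ) (x y : F) : Fin 4 → F := ![fS m x y, y, x, 1]

theorem vP_ne (x y : F) : vP m x y ≠ 0 := vec_ne _ _ _

/-- The point with parameters `(x, y)`. -/
def P (m : ℕ) (x y : F) : ℙ F (Fin 4 → F) := Projectivization.mk F (vP m x y) (vP_ne x y)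

theorem mem_ovoid {p : ℙ F (Fin 4 → F)} :
    p ∈ suzukiOvoid F m ↔ p = suzukiPointInfinity F ∨ ∃ x y : F, p = P m x y := by
  constructor
  · rintro ⟨v, hv, rfl, rfl | ⟨x, y, rfl⟩⟩
    · exact Or.inl rfl
    · exact Or.inr ⟨x, y, rfl⟩
  · rintro (rfl | ⟨x, y, rfl⟩)
    · exact ⟨_, _, rfl, Or.inl rfl⟩
    · exact ⟨_, _, rfl, Or.inr ⟨x, y, rfl⟩⟩

theorem P_zero : P m (0 : F) 0 = suzukiPointZero F := by
  apply (Projectivization.mk_eq_mk_iff' F _ _ _ _).2
  refine ⟨1, ?_⟩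
  funext i
  fin_cases i <;> simp [vP, fS]

theorem P_inj {x y x' y' : F} (h : P m x y = P m x' y') : x = x' ∧ y = y' := by
  obtain ⟨a, ha⟩ := (Projectivization.mk_eq_mk_iff' F _ _ _ _).1 h
  have h3 := congrFun ha 3
  have h2 := congrFun ha 2
  have h1 := congrFun ha 1
  simp [vP] at h1 h2 h3
  subst h3
  simp at h1 h2
  exact ⟨h2.symm, h1.symm⟩

theorem P_ne_inf (x y : F) : P m x y ≠ suzukiPointInfinity F := by
  intro h
  obtain ⟨a, ha⟩ := (Projectivization.mk_eq_mk_iff' F _ _ _ _).1 h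
  have h3 := congrFun ha 3
  simp [vP] at h3

/-! ### Algebra in characteristic two -/

section Alg

variable [CharP F 2]

theorem two_eq : (2 : F) = 0 := CharTwo.two_eq_zero

theorem frob (a b : F) : (a + b) ^ (2 ^ (m + 1)) = a ^ (2 ^ (m + 1)) + b ^ (2 ^ (m + 1)) :=
  add_pow_char_pow a b 2 (m + 1)

/-- The defining property of the field automorphism. -/
def SqProp (F : Type*) [Field F] (m : ℕ) : Prop := ∀ a : F, (a ^ (2 ^ (m + 1))) ^ (2 ^ (m + 1)) = a ^ 2

theorem sqProp [Fintype F] (hF : Fintype.card F = 2 ^ (2 * m + 1)) : SqProp F m := by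
  intro a
  rw [← pow_mul, ← pow_add]
  have : m + 1 + (m + 1) = (2 * m + 1) + 1 := by ring
  rw [this, pow_succ, pow_mul, ← hF, FiniteField.pow_card]

variable (hs : SqProp F m)
include hs

theorem sq_inj {a b : F} (h : a ^ 2 = b ^ 2) : a = b := CharTwo.sq_injective h

theorem pow_s_inj {a b : F} (h : a ^ (2 ^ (m + 1)) = b ^ (2 ^ (m + 1))) : a = b := by
  apply sq_inj hs
  rw [← hs, ← hs, h]

theorem pow_s_eq_zero {a : F} (h : a ^ (2 ^ (m + 1)) = 0) : a = 0 := by
  by_contra hne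
  exact (pow_ne_zero _ hne) h

theorem fS_pow_s (x y : F) : (fS m x y) ^ (2 ^ (m + 1)) =
    x ^ (2 ^ (m + 1)) * y ^ (2 ^ (m + 1)) + (x ^ (2 ^ (m + 1))) ^ 2 * x ^ 2 + y ^ 2 := by
  rw [fS, frob, frob, mul_pow, hs y]
  congr 2
  rw [pow_add, mul_pow, hs x, ← pow_mul, ← pow_mul, mul_comm]
  ring

/-- The function `fS` vanishes only at the origin. -/
theorem fS_eq_zero {x y : F} (h : fS m x y = 0) : x = 0 ∧ y = 0 := by
  have hspos : 0 < 2 ^ (m + 1) := by positivity
  by_cases hx : x = 0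
  · subst hx
    refine ⟨rfl, ?_⟩
    simp [fS] at h
    exact h
  exfalso
  -- put `u = y / x ^ (s + 1)`
  set u : F := y / x ^ (2 ^ (m + 1) + 1) with hu
  have hx1 : x ^ (2 ^ (m + 1) + 1) ≠ 0 := pow_ne_zero _ hx
  have hy : y = u * x ^ (2 ^ (m + 1) + 1) := by
    rw [hu]
    field_simp
  have h2 : y ^ (2 ^ (m + 1)) = u ^ (2 ^ (m + 1)) * x ^ (2 ^ (m + 1) + 2) := by
    have e : (x ^ (2 ^ (m + 1) + 1)) ^ (2 ^ (m + 1)) = x ^ (2 ^ (m + 1) + 2) := by
      rw [pow_succ x, mul_pow, hs x, pow_add x _ 2]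
      ring
    rw [hy, mul_pow, e]
  have h3 : fS m x y = x ^ (2 ^ (m + 1) + 2) * (u + 1 + u ^ (2 ^ (m + 1))) := by
    rw [fS, h2]
    nth_rewrite 1 [hy]
    ring
  rw [h3] at h
  have h4 : u + 1 + u ^ (2 ^ (m + 1)) = 0 := (mul_eq_zero.1 h).resolve_left (pow_ne_zero _ hx)
  have h5 : u ^ (2 ^ (m + 1)) + 1 + u ^ 2 = 0 := by
    have h6 := congrArg (fun z ↦ z ^ (2 ^ (m + 1))) h4
    simp only [frob, hs u, one_pow, zero_pow hspos.ne'] at h6
    exact h6
  clear_value u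
  have h7 : u * (u + 1) = 0 := by
    have h2' : (2 : F) = 0 := two_eq
    linear_combination h5 - h4 + u * h2'
  rcases mul_eq_zero.1 h7 with h8 | h8
  · rw [h8] at h4
    simp [hspos.ne'] at h4
  · have h9 : u = 1 := by
      have h2' : (2 : F) = 0 := two_eq
      linear_combination h8 - h2'
    rw [h9] at h4
    simp at h4
    have h2' : (2 : F) = 0 := two_eq
    have : (1 : F) = 0 := by
      linear_combination h4 - h2'
    exact one_ne_zero this

theorem pow_succ_s_eq_one {a : F} (h : a ^ (2 ^ (m + 1) + 1) = 1) : a = 1 := by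
  have h0 : a ≠ 0 := by
    rintro rfl
    simp at h
  have e : (a ^ (2 ^ (m + 1) + 1)) ^ (2 ^ (m + 1)) = a ^ (2 ^ (m + 1) + 2) := by
    rw [pow_succ a, mul_pow, hs a, pow_add a _ 2]
    ring
  rw [h, one_pow] at e
  have h1 : a ^ (2 ^ (m + 1) + 2) = a ^ (2 ^ (m + 1) + 1) * a := by ring
  rw [h1, h, one_mul] at e
  exact e.symm

/-! ### Identities behind the action on the ovoid -/

omit hs in
theorem tr_alg (x y a b xs ys as bs : F) :
    (x + a) * (y + b + as * x) + (xs + as) * (x ^ 2 + a ^ 2) + (ys + bs + a ^ 2 * xs) =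
      (x * y + xs * x ^ 2 + ys) + a * y + (b + as * a) * x + (as * a ^ 2 + a * b + bs) := by
  have h2 : (2 : F) = 0 := two_eq
  linear_combination (as * x ^ 2 + xs * a ^ 2) * h2

theorem fS_tr (x y a b : F) : fS m (x + a) (y + b + a ^ (2 ^ (m + 1)) * x) =
    fS m x y + a * y + (b + a ^ (2 ^ (m + 1)) * a) * x + (a ^ (2 ^ (m + 1)) * a ^ 2 + a * b + b ^ (2 ^ (m + 1))) := by
  have h1 : (x + a) ^ (2 ^ (m + 1) + 2) = (x ^ (2 ^ (m + 1)) + a ^ (2 ^ (m + 1))) * (x ^ 2 + a ^ 2) := by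
    rw [pow_add, frob, CharTwo.add_sq]
  have h3 : (y + b + a ^ (2 ^ (m + 1)) * x) ^ (2 ^ (m + 1)) = y ^ (2 ^ (m + 1)) + b ^ (2 ^ (m + 1)) + a ^ 2 * x ^ (2 ^ (m + 1)) := by
    rw [frob, frob, mul_pow, hs]
  rw [fS, fS, h1, h3, pow_add x]
  exact tr_alg _ _ _ _ _ _ _ _

theorem fS_dg (a x y : F) : fS m (a * x) (a ^ (2 ^ (m + 1) + 1) * y) = a ^ (2 ^ (m + 1) + 2) * fS m x y := by
  have e : (a ^ (2 ^ (m + 1) + 1)) ^ (2 ^ (m + 1)) = a ^ (2 ^ (m + 1) + 2) := by
    rw [pow_succ a, mul_pow, hs a, pow_add a _ 2]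
    ring
  rw [fS, fS, mul_pow, mul_pow, e]
  ring

omit hs in
theorem w_alg (x y X Y G f : F) (hf : f = x * y + X * x ^ 2 + Y) (hG : G = X * Y + X ^ 2 * x ^ 2 + y ^ 2) :
    x * y * G + Y * y ^ 2 + X * f ^ 2 = G * f := by
  have h2 : (2 : F) = 0 := two_eq
  subst hf hG
  linear_combination (X ^ 2 * x ^ 3 * y + X * x * y * Y) * h2

/-- The inversion of the ovoid. -/
theorem fS_w {x y : F} (h : fS m x y ≠ 0) :
    fS m x y * fS m (y / fS m x y) (x / fS m x y) = 1 := by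
  set f := fS m x y with hf
  have hG := fS_pow_s hs x y
  rw [← hf] at hG
  set G := f ^ (2 ^ (m + 1)) with hGd
  have hG0 : G ≠ 0 := pow_ne_zero _ h
  have hid := w_alg x y (x ^ (2 ^ (m + 1))) (y ^ (2 ^ (m + 1))) G f (by
    rw [hf, fS, pow_add x]) hG
  have e1 : (y / f) ^ (2 ^ (m + 1) + 2) = y ^ (2 ^ (m + 1)) * y ^ 2 / (G * f ^ 2) := by
    rw [div_pow, pow_add y, pow_add f, hGd]
  have e2 : (x / f) ^ (2 ^ (m + 1)) = x ^ (2 ^ (m + 1)) / G := by
    rw [div_pow]
  rw [fS, e1, e2]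
  field_simp
  linear_combination hid

end Alg

/-! ### The elements -/

section Elements

variable [CharP F 2]

/-- The translations (matrix). -/
def trM (m : ℕ) (a b : F) : Matrix (Fin 4) (Fin 4) F :=
  !![1, a, b + a ^ (2 ^ (m + 1)) * a, a ^ (2 ^ (m + 1)) * a ^ 2 + a * b + b ^ (2 ^ (m + 1));
     0, 1, a ^ (2 ^ (m + 1)), b;
     0, 0, 1, a;
     0, 0, 0, 1]

theorem trM_det (a b : F) : (trM m a b).det = 1 := by
  rw [Matrix.det_of_upperTriangular]
  · simp [trM, Fin.prod_univ_four]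
  · intro i j hij
    fin_cases i <;> fin_cases j <;> simp_all [trM]

/-- The translations. -/
def tr (m : ℕ) (a b : F) : SL(4, F) := ⟨trM m a b, trM_det a b⟩

theorem tr_mulVec (a b : F) (v : Fin 4 → F) : (tr m a b) • v =
    ![v 0 + a * v 1 + (b + a ^ (2 ^ (m + 1)) * a) * v 2 + (a ^ (2 ^ (m + 1)) * a ^ 2 + a * b + b ^ (2 ^ (m + 1))) * v 3,
      v 1 + a ^ (2 ^ (m + 1)) * v 2 + b * v 3, v 2 + a * v 3, v 3] := by
  change (trM m a b) *ᵥ v = _
  funext i
  fin_cases i <;> simp [trM, Matrix.mulVec, dotProduct, Fin.sum_univ_four]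

theorem smul_mk' (g : SL(4, F)) {v : Fin 4 → F} (hv : v ≠ 0) (h : g • v ≠ 0) :
    g • Projectivization.mk F v hv = Projectivization.mk F (g • v) h :=
  Projectivization.smul_mk g hv

theorem tr_smul_inf (a b : F) : tr m a b • suzukiPointInfinity F = suzukiPointInfinity F := by
  have h : tr m a b • (![1, 0, 0, 0] : Fin 4 → F) = ![1, 0, 0, 0] := by
    rw [tr_mulVec]
    funext i
    fin_cases i <;> simp
  rw [suzukiPointInfinity, smul_mk' _ _ (by rw [h]; simp)]
  congr 1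

theorem tr_smul_P (hs : SqProp F m) (a b x y : F) : tr m a b • P m x y = P m (x + a) (y + b + a ^ (2 ^ (m + 1)) * x) := by
  have h : tr m a b • vP m x y = vP m (x + a) (y + b + a ^ (2 ^ (m + 1)) * x) := by
    rw [tr_mulVec, vP, vP]
    funext i
    fin_cases i
    · simp [fS_tr hs]
    · simp
      ring
    · simp
    · simp
  rw [P, smul_mk' _ _ (by rw [h]; exact vP_ne _ _)]
  simp only [h]
  rfl

/-- The involution swapping the point at infinity and the origin. -/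
def wS (F : Type*) [Field F] : SL(4, F) := ⟨suzukiForm F, by
  rw [suzukiForm]
  simp [Matrix.det_succ_row_zero, Fin.sum_univ_succ]
  rw [show Fin.succAbove (3 : Fin 4) 2 = 2 from rfl]
  simp
  ring⟩

theorem wS_mulVec (v : Fin 4 → F) : wS F • v = ![v 3, v 2, v 1, v 0] := by
  change (suzukiForm F) *ᵥ v = _
  funext i
  fin_cases i <;> simp [suzukiForm, Matrix.mulVec, dotProduct, Fin.sum_univ_four]

theorem wS_smul_inf : wS F • suzukiPointInfinity F = P m (0 : F) 0 := by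
  rw [P_zero]
  have h : wS F • (![1, 0, 0, 0] : Fin 4 → F) = ![0, 0, 0, 1] := by
    rw [wS_mulVec]
    funext i
    fin_cases i <;> simp
  rw [suzukiPointInfinity, suzukiPointZero, smul_mk' _ _ (by rw [h]; simp)]
  congr 1

theorem wS_smul_zero : wS F • P m (0 : F) 0 = suzukiPointInfinity F := by
  rw [P_zero]
  have h : wS F • (![0, 0, 0, 1] : Fin 4 → F) = ![1, 0, 0, 0] := by
    rw [wS_mulVec]
    funext i
    fin_cases i <;> simp
  rw [suzukiPointInfinity, suzukiPointZero, smul_mk' _ _ (by rw [h]; simp)]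
  congr 1

theorem wS_smul_P (hs : SqProp F m) {x y : F} (h : fS m x y ≠ 0) :
    wS F • P m x y = P m (y / fS m x y) (x / fS m x y) := by
  have h1 : wS F • vP m x y = ![1, x, y, fS m x y] := by
    rw [wS_mulVec, vP]
    funext i
    fin_cases i <;> simp
  rw [P, smul_mk' _ _ (by rw [h1]; intro h2; have := congrFun h2 0; simp at this)]
  apply (Projectivization.mk_eq_mk_iff' F _ _ _ _).2
  refine ⟨fS m x y, ?_⟩
  rw [h1, vP]
  funext i
  fin_cases i
  · simp
    exact fS_w hs h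
  · simp
    field_simp
  · simp
    field_simp
  · simp

/-- The diagonal elements (matrix). -/
noncomputable def dgM (m : ℕ) (α : Fˣ) : Matrix (Fin 4) (Fin 4) F :=
  Matrix.diagonal ![(α : F) * (α : F) ^ (2 ^ m), (α : F) ^ (2 ^ m), ((α : F) ^ (2 ^ m))⁻¹, ((α : F) * (α : F) ^ (2 ^ m))⁻¹]

theorem dgM_det (α : Fˣ) : (dgM m α).det = 1 := by
  have h0 : (α : F) ≠ 0 := α.ne_zero
  have hr : (α : F) ^ (2 ^ m) ≠ 0 := pow_ne_zero _ h0
  rw [dgM, Matrix.det_diagonal, Fin.prod_univ_four]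
  simp
  field_simp

/-- The diagonal elements. -/
noncomputable def dg (m : ℕ) (α : Fˣ) : SL(4, F) := ⟨dgM m α, dgM_det α⟩

theorem dg_mulVec (α : Fˣ) (v : Fin 4 → F) : dg m α • v =
    ![(α : F) * (α : F) ^ (2 ^ m) * v 0, (α : F) ^ (2 ^ m) * v 1, ((α : F) ^ (2 ^ m))⁻¹ * v 2, ((α : F) * (α : F) ^ (2 ^ m))⁻¹ * v 3] := by
  change (dgM m α) *ᵥ v = _
  funext i
  rw [dgM, Matrix.mulVec_diagonal]
  fin_cases i <;> simp

theorem dg_smul_inf (α : Fˣ) : dg m α • suzukiPointInfinity F = suzukiPointInfinity F := by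
  have h0 : (α : F) ≠ 0 := α.ne_zero
  have hr : (α : F) ^ (2 ^ m) ≠ 0 := pow_ne_zero _ h0
  rw [suzukiPointInfinity, smul_mk' _ _ (by rw [dg_mulVec]; intro h; have := congrFun h 0; simp [h0, hr] at this)]
  apply (Projectivization.mk_eq_mk_iff' F _ _ _ _).2
  refine ⟨(α : F) * (α : F) ^ (2 ^ m), ?_⟩
  rw [dg_mulVec]
  funext i
  fin_cases i <;> simp

theorem r_sq (α : F) : (α ^ (2 ^ m)) ^ 2 = α ^ (2 ^ (m + 1)) := by
  rw [← pow_mul, pow_succ]

theorem dg_smul_P (hs : SqProp F m) (α : Fˣ) (x y : F) :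
    dg m α • P m x y = P m ((α : F) * x) ((α : F) ^ (2 ^ (m + 1) + 1) * y) := by
  have h0 : (α : F) ≠ 0 := α.ne_zero
  have hr : (α : F) ^ (2 ^ m) ≠ 0 := pow_ne_zero _ h0
  rw [P, smul_mk' _ _ (by rw [dg_mulVec]; intro h; have := congrFun h 3; simp [vP, h0, hr] at this)]
  apply (Projectivization.mk_eq_mk_iff' F _ _ _ _).2
  refine ⟨((α : F) * (α : F) ^ (2 ^ m))⁻¹, ?_⟩
  rw [dg_mulVec, vP, vP]
  have h1 : (α : F) ^ (2 ^ (m + 1)) = ((α : F) ^ (2 ^ m)) ^ 2 := (r_sq _).symm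
  funext i
  fin_cases i
  · simp [fS_dg hs]
    rw [pow_add, h1]
    field_simp
  · simp
    rw [pow_add, h1]
    field_simp
  · simp
    field_simp
  · simp

end Elements

/-! ### Membership in the group -/

section Group

variable [Fintype F] [CharP F 2]

theorem mem_Sz_of_subset (g : SL(4, F)) (h : ∀ p ∈ suzukiOvoid F m, g • p ∈ suzukiOvoid F m) : g ∈ Sz F m := by
  rw [MulAction.mem_stabilizer_iff]
  apply Set.eq_of_subset_of_ncard_le
  · rintro _ ⟨p, hp, rfl⟩
    exact h p hp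
  · rw [Set.ncard_smul_set]
  · exact Set.toFinite _

theorem smul_mem_ovoid {g : SL(4, F)} (hg : g ∈ Sz F m) {p : ℙ F (Fin 4 → F)} (hp : p ∈ suzukiOvoid F m) :
    g • p ∈ suzukiOvoid F m := by
  have h : g • suzukiOvoid F m = suzukiOvoid F m := hg
  rw [← h]
  exact ⟨p, hp, rfl⟩

variable (hs : SqProp F m)
include hs

theorem tr_mem (a b : F) : tr m a b ∈ Sz F m := by
  apply mem_Sz_of_subset
  intro p hp
  rcases mem_ovoid.1 hp with rfl | ⟨x, y, rfl⟩
  · rw [tr_smul_inf]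
    exact mem_ovoid.2 (Or.inl rfl)
  · rw [tr_smul_P hs]
    exact mem_ovoid.2 (Or.inr ⟨_, _, rfl⟩)

theorem dg_mem (α : Fˣ) : dg m α ∈ Sz F m := by
  apply mem_Sz_of_subset
  intro p hp
  rcases mem_ovoid.1 hp with rfl | ⟨x, y, rfl⟩
  · rw [dg_smul_inf]
    exact mem_ovoid.2 (Or.inl rfl)
  · rw [dg_smul_P hs]
    exact mem_ovoid.2 (Or.inr ⟨_, _, rfl⟩)

theorem wS_mem : wS F ∈ Sz F m := by
  apply mem_Sz_of_subset
  intro p hp
  rcases mem_ovoid.1 hp with rfl | ⟨x, y, rfl⟩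
  · rw [wS_smul_inf]
    exact mem_ovoid.2 (Or.inr ⟨_, _, rfl⟩)
  · by_cases h : fS m x y = 0
    · obtain ⟨rfl, rfl⟩ := fS_eq_zero hs h
      rw [wS_smul_zero]
      exact mem_ovoid.2 (Or.inl rfl)
    · rw [wS_smul_P hs h]
      exact mem_ovoid.2 (Or.inr ⟨_, _, rfl⟩)

end Group

/-! ### The two-point stabiliser -/

section TwoPoint

variable [Fintype F] [CharP F 2]

omit [CharP F 2] in
open Polynomial in
theorem coeffs4 {s : ℕ} (h4 : 4 ≤ s) (hq : s + 2 < Fintype.card F) {a b c d : F}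
    (h : ∀ t : F, a * t ^ (s + 2) + b * t ^ s + c * t ^ 2 + d * t = 0) : a = 0 ∧ b = 0 ∧ c = 0 ∧ d = 0 := by
  classical
  let p : F[X] := C a * X ^ (s + 2) + C b * X ^ s + C c * X ^ 2 + C d * X
  have hdeg : p.natDegree < Fintype.card F := by
    refine lt_of_le_of_lt ?_ hq
    apply Polynomial.natDegree_add_le_of_degree_le
    · apply Polynomial.natDegree_add_le_of_degree_le
      · apply Polynomial.natDegree_add_le_of_degree_le
        · exact (Polynomial.natDegree_C_mul_X_pow_le _ _)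
        · exact (Polynomial.natDegree_C_mul_X_pow_le _ _).trans (by omega)
      · exact (Polynomial.natDegree_C_mul_X_pow_le _ _).trans (by omega)
    · exact (Polynomial.natDegree_C_mul_le _ _).trans (Polynomial.natDegree_X_le.trans (by omega))
  have hzero : p = 0 := Polynomial.eq_zero_of_natDegree_lt_card_of_eval_eq_zero p (f := fun t : F ↦ t) (fun _ _ h ↦ h)
    (fun t ↦ by simpa [p] using h t) hdeg
  have h1 := congrArg (fun r ↦ Polynomial.coeff r (s + 2)) hzero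
  have h2 := congrArg (fun r ↦ Polynomial.coeff r s) hzero
  have h3 := congrArg (fun r ↦ Polynomial.coeff r 2) hzero
  have h5 := congrArg (fun r ↦ Polynomial.coeff r 1) hzero
  simp only [p, coeff_add, coeff_C_mul, coeff_X_pow, coeff_X, coeff_zero] at h1 h2 h3 h5
  have e1 : s + 2 ≠ s := by omega
  have e2 : s + 2 ≠ 2 := by omega
  have e3 : s ≠ 2 := by omega
  have e4 : s + 2 ≠ 1 := by omega
  have e5 : s ≠ 1 := by omega
  have e6 : (2 : ℕ) ≠ 1 := by omega
  have e7 : s ≠ 0 := by omega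
  simp [e1, e2, e3, e4, e5, e6, e7, Ne.symm e1, Ne.symm e2, Ne.symm e3, Ne.symm e4, Ne.symm e5, Ne.symm e6] at h1 h2 h3 h5
  exact ⟨h1, h2, h3, h5⟩

variable (hs : SqProp F m) (h4 : 4 ≤ 2 ^ (m + 1)) (hq : 2 ^ (m + 1) + 2 < Fintype.card F)
include hs h4 hq

/-- The affine maps preserving the function `fS` are diagonal. -/
theorem param_of_identity {A B D E κ ℓ₁ ℓ₂ : F}
    (hI : ∀ x y : F, fS m (A * x + B * y) (D * x + E * y) = κ * fS m x y + ℓ₂ * y + ℓ₁ * x) :
    B = 0 ∧ D = 0 ∧ ℓ₁ = 0 ∧ ℓ₂ = 0 ∧ κ = A ^ (2 ^ (m + 1) + 2) ∧ A * E = κ := by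
  have hspos : 2 ^ (m + 1) ≠ 0 := by positivity
  have hs2 : 2 ^ (m + 1) + 2 ≠ 0 := by omega
  have c1 : ∀ y : F, B ^ (2 ^ (m + 1) + 2) * y ^ (2 ^ (m + 1) + 2) + (E ^ (2 ^ (m + 1)) - κ) * y ^ (2 ^ (m + 1)) + (B * E) * y ^ 2 + (-ℓ₂) * y = 0 := by
    intro y
    have h := hI 0 y
    simp only [fS, mul_zero, zero_add, zero_mul, zero_pow hs2, zero_pow hspos, add_zero] at h
    rw [mul_pow, mul_pow] at h
    linear_combination h
  have c2 : ∀ x : F, (A ^ (2 ^ (m + 1) + 2) - κ) * x ^ (2 ^ (m + 1) + 2) + (D ^ (2 ^ (m + 1))) * x ^ (2 ^ (m + 1)) + (A * D) * x ^ 2 + (-ℓ₁) * x = 0 := by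
    intro x
    have h := hI x 0
    simp only [fS, mul_zero, zero_add, add_zero, zero_pow hspos] at h
    rw [mul_pow, mul_pow] at h
    linear_combination h
  obtain ⟨h1, h2, h3, h5⟩ := coeffs4 h4 hq c1
  obtain ⟨h6, h7, h8, h9⟩ := coeffs4 h4 hq c2
  have hB : B = 0 := by
    by_contra hne
    exact (pow_ne_zero _ hne) h1
  have hD : D = 0 := pow_s_eq_zero hs h7
  have hl1 : ℓ₁ = 0 := by simpa using h9
  have hl2 : ℓ₂ = 0 := by simpa using h5
  have hκ : κ = A ^ (2 ^ (m + 1) + 2) := (sub_eq_zero.1 h6).symm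
  have hE : E ^ (2 ^ (m + 1)) = κ := sub_eq_zero.1 h2
  refine ⟨hB, hD, hl1, hl2, hκ, ?_⟩
  have h := hI 1 1
  subst hB hD hl1 hl2
  simp only [fS, mul_one, zero_mul, add_zero, zero_add, one_pow, zero_mul] at h
  rw [hE, ← hκ] at h
  linear_combination h

/-- The stabiliser of two points of the ovoid. -/
theorem two_pt {g : SL(4, F)} (hg : g ∈ Sz F m) (h1 : g • suzukiPointInfinity F = suzukiPointInfinity F)
    (h2 : g • P m (0 : F) 0 = P m (0 : F) 0) : ∃ α : Fˣ, g = dg m α := by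
  classical
  have hinj : ∀ {v : Fin 4 → F}, v ≠ 0 → g • v ≠ 0 := by
    intro v hv h
    apply hv
    have := congrArg (fun w ↦ g⁻¹ • w) h
    simpa using this
  set M : Matrix (Fin 4) (Fin 4) F := g.1 with hM
  have hcoord : ∀ (v : Fin 4 → F) i, (g • v) i = M i 0 * v 0 + M i 1 * v 1 + M i 2 * v 2 + M i 3 * v 3 := by
    intro v i
    change (M *ᵥ v) i = _
    simp [Matrix.mulVec, dotProduct, Fin.sum_univ_four]
  -- first column
  obtain ⟨c, hc⟩ : ∃ c : F, c • (![1, 0, 0, 0] : Fin 4 → F) = g • (![1, 0, 0, 0] : Fin 4 → F) := by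
    rw [suzukiPointInfinity, smul_mk' _ _ (hinj (by simp))] at h1
    exact (Projectivization.mk_eq_mk_iff' F _ _ _ _).1 h1
  have hc0 : c ≠ 0 := by
    rintro rfl
    rw [zero_smul] at hc
    exact hinj (v := ![1, 0, 0, 0]) (by simp) hc.symm
  have col0 : ∀ i, M i 0 = (![c, 0, 0, 0] : Fin 4 → F) i := by
    intro i
    have := congrFun hc i
    rw [hcoord] at this
    fin_cases i <;> simpa using this.symm
  -- last column
  obtain ⟨b, hb⟩ : ∃ b : F, b • (![0, 0, 0, 1] : Fin 4 → F) = g • (![0, 0, 0, 1] : Fin 4 → F) := by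
    rw [P_zero, suzukiPointZero, smul_mk' _ _ (hinj (by simp))] at h2
    exact (Projectivization.mk_eq_mk_iff' F _ _ _ _).1 h2
  have hb0 : b ≠ 0 := by
    rintro rfl
    rw [zero_smul] at hb
    exact hinj (v := ![0, 0, 0, 1]) (by simp) hb.symm
  have col3 : ∀ i, M i 3 = (![0, 0, 0, b] : Fin 4 → F) i := by
    intro i
    have := congrFun hb i
    rw [hcoord] at this
    fin_cases i <;> simpa using this.symm
  have h00 : M 0 0 = c := col0 0
  have h10 : M 1 0 = 0 := col0 1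
  have h20 : M 2 0 = 0 := col0 2
  have h30 : M 3 0 = 0 := col0 3
  have h03 : M 0 3 = 0 := col3 0
  have h13 : M 1 3 = 0 := col3 1
  have h23 : M 2 3 = 0 := col3 2
  have h33 : M 3 3 = b := col3 3
  have h2' : (2 : F) = 0 := two_eq
  -- the images of the other points
  have hpt : ∀ x y : F, ∃ x' y' t : F, t • vP m x' y' = g • vP m x y := by
    intro x y
    have h3 : g • P m x y ∈ suzukiOvoid F m := smul_mem_ovoid hg (mem_ovoid.2 (Or.inr ⟨x, y, rfl⟩))
    rcases mem_ovoid.1 h3 with h4 | ⟨x', y', h4⟩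
    · exfalso
      rw [← h1] at h4
      exact P_ne_inf x y (smul_left_cancel g h4)
    · refine ⟨x', y', ?_⟩
      rw [P, P, smul_mk' _ _ (hinj (vP_ne x y))] at h4
      exact (Projectivization.mk_eq_mk_iff' F _ _ _ _).1 h4
  have hne : ∀ x y : F, M 3 1 * y + M 3 2 * x + b ≠ 0 := by
    intro x y h
    obtain ⟨x', y', t, ht⟩ := hpt x y
    have h3 := congrFun ht 3
    rw [hcoord] at h3
    have h3' : t = M 3 1 * y + M 3 2 * x + b := by
      simpa [vP, h30, h33] using h3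
    rw [h] at h3'
    apply hinj (vP_ne x y)
    rw [← ht, h3', zero_smul]
  have h31 : M 3 1 = 0 := by
    by_contra hn
    apply hne 0 (b / M 3 1)
    field_simp
    linear_combination b * h2'
  have h32 : M 3 2 = 0 := by
    by_contra hn
    apply hne (b / M 3 2) 0
    field_simp
    linear_combination b * h2'
  -- the identity
  have hI : ∀ x y : F, fS m (M 2 2 / b * x + M 2 1 / b * y) (M 1 2 / b * x + M 1 1 / b * y) =
      c / b * fS m x y + M 0 1 / b * y + M 0 2 / b * x := by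
    intro x y
    obtain ⟨x', y', t, ht⟩ := hpt x y
    have e3 := congrFun ht 3
    have e2 := congrFun ht 2
    have e1 := congrFun ht 1
    have e0 := congrFun ht 0
    rw [hcoord] at e3 e2 e1 e0
    simp [vP, h00, h10, h20, h30, h03, h13, h23, h33, h31, h32] at e3 e2 e1 e0
    subst e3
    have hx' : x' = M 2 2 / t * x + M 2 1 / t * y := by
      field_simp
      linear_combination e2
    have hy' : y' = M 1 2 / t * x + M 1 1 / t * y := by
      field_simp
      linear_combination e1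
    rw [← hx', ← hy']
    field_simp
    linear_combination e0
  obtain ⟨hB, hD, hl1, hl2, hκ, hAE⟩ := param_of_identity hs h4 hq hI
  have h21 : M 2 1 = 0 := by
    rcases div_eq_zero_iff.1 hB with h | h
    · exact h
    · exact absurd h hb0
  have h12 : M 1 2 = 0 := by
    rcases div_eq_zero_iff.1 hD with h | h
    · exact h
    · exact absurd h hb0
  have h02 : M 0 2 = 0 := by
    rcases div_eq_zero_iff.1 hl1 with h | h
    · exact h
    · exact absurd h hb0
  have h01 : M 0 1 = 0 := by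
    rcases div_eq_zero_iff.1 hl2 with h | h
    · exact h
    · exact absurd h hb0
  have hMd : M = Matrix.diagonal ![c, M 1 1, M 2 2, b] := by
    ext i j
    rw [Matrix.diagonal_apply]
    fin_cases i <;> fin_cases j <;> simp [h00, h10, h20, h30, h01, h02, h03, h12, h13, h21, h23, h31, h32, h33]
  have hdet : c * M 1 1 * M 2 2 * b = 1 := by
    have h5 : M.det = 1 := g.2
    rw [hMd, Matrix.det_diagonal, Fin.prod_univ_four] at h5
    simpa using h5
  set A := M 2 2 / b with hA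
  set E := M 1 1 / b with hE
  have hM22 : M 2 2 = A * b := by
    rw [hA]; field_simp
  have hM11 : M 1 1 = E * b := by
    rw [hE]; field_simp
  have hκ' : c = A ^ (2 ^ (m + 1) + 2) * b := by
    rw [← hκ]; field_simp
  have hcb : c = A * E * b := by
    rw [hAE]; field_simp
  have hc2 : A * E = A ^ (2 ^ (m + 1) + 2) := hAE.trans hκ
  have hA0 : A ≠ 0 := by
    intro h
    rw [h, zero_mul, zero_mul] at hcb
    exact hc0 hcb
  let α : Fˣ := Units.mk0 A hA0
  set r := A ^ (2 ^ m) with hr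
  have hr0 : r ≠ 0 := pow_ne_zero _ hA0
  have hr2 : A ^ (2 ^ (m + 1)) = r ^ 2 := (r_sq A).symm
  have hpw : A ^ (2 ^ (m + 1) + 2) = r ^ 2 * A ^ 2 := by
    rw [pow_add, hr2]
  have hone : A * r * b = 1 := by
    have h5 : ((A * r * b) ^ 2) ^ 2 = (1 : F) ^ 2 := by
      rw [hM11, hM22, hcb] at hdet
      have h6 : A * E * b * (E * b) * (A * b) * b = (A * E) ^ 2 * b ^ 4 := by ring
      rw [h6, hc2, hpw] at hdet
      linear_combination hdet
    have h6 : (A * r * b) ^ 2 = 1 := CharTwo.sq_injective h5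
    exact CharTwo.sq_injective (h6.trans (one_pow 2).symm)
  have hbval : b = (A * r)⁻¹ := by
    field_simp
    linear_combination hone
  have hEval : E = r ^ 2 * A := by
    have : A * E = A * (r ^ 2 * A) := by
      rw [hc2, hpw]
      ring
    exact mul_left_cancel₀ hA0 this
  refine ⟨α, Subtype.ext ?_⟩
  change M = dgM m α
  rw [hMd, dgM]
  congr 1
  have hα : ((α : Fˣ) : F) = A := rfl
  rw [hα, ← hr]
  have e1 : c = A * r := by
    rw [hcb, hEval, hbval]
    field_simp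
  have e2 : M 1 1 = r := by
    rw [hM11, hEval, hbval]
    field_simp
  have e3 : M 2 2 = r⁻¹ := by
    rw [hM22, hbval]
    field_simp
  rw [e1, e2, e3, hbval]

end TwoPoint

/-! ### The group laws -/

section Laws

variable [CharP F 2] (hs : SqProp F m)

theorem tr_val (a b : F) : ((tr m a b : SL(4, F)) : Matrix (Fin 4) (Fin 4) F) = trM m a b := rfl

include hs in
theorem tr_mul (a b c e : F) : tr m a b * tr m c e = tr m (a + c) (b + e + a ^ (2 ^ (m + 1)) * c) := by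
  have h2 : (2 : F) = 0 := two_eq
  apply Subtype.ext
  change trM m a b * trM m c e = trM m (a + c) (b + e + a ^ (2 ^ (m + 1)) * c)
  have e1 : (a + c) ^ (2 ^ (m + 1)) = a ^ (2 ^ (m + 1)) + c ^ (2 ^ (m + 1)) := frob a c
  have e2 : (b + e + a ^ (2 ^ (m + 1)) * c) ^ (2 ^ (m + 1)) = b ^ (2 ^ (m + 1)) + e ^ (2 ^ (m + 1)) + a ^ 2 * c ^ (2 ^ (m + 1)) := by
    rw [frob, frob, mul_pow, hs]
  ext i j
  rw [Matrix.mul_apply, Fin.sum_univ_four]
  fin_cases i <;> fin_cases j <;> simp [trM, e1, e2]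
  · ring
  · linear_combination (-(a ^ (2 ^ (m + 1)) * c)) * h2
  · linear_combination (-(a ^ (2 ^ (m + 1)) * c ^ 2 + c ^ (2 ^ (m + 1)) * a ^ 2 + c * c ^ (2 ^ (m + 1)) * a + c * a * a ^ (2 ^ (m + 1)))) * h2
  · ring
  · ring
  · ring

theorem tr_zero : tr m (0 : F) 0 = 1 := by
  apply Subtype.ext
  change trM m (0 : F) 0 = 1
  have h0 : (0 : F) ^ (2 ^ (m + 1)) = 0 := zero_pow (by positivity)
  ext i j
  fin_cases i <;> fin_cases j <;> simp [trM, h0]

include hs in
theorem tr_inv (a b : F) : (tr m a b)⁻¹ = tr m a (b + a ^ (2 ^ (m + 1)) * a) := by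
  have h2 : (2 : F) = 0 := two_eq
  rw [inv_eq_iff_mul_eq_one, tr_mul hs]
  have e1 : a + a = 0 := CharTwo.add_self_eq_zero a
  have e2 : b + (b + a ^ (2 ^ (m + 1)) * a) + a ^ (2 ^ (m + 1)) * a = 0 := by
    linear_combination (b + a ^ (2 ^ (m + 1)) * a) * h2
  rw [e1, e2, tr_zero]

theorem dg_mul (α β : Fˣ) : dg m (α * β) = dg m α * dg m β := by
  have h0 : (α : F) ≠ 0 := α.ne_zero
  have h1 : (β : F) ≠ 0 := β.ne_zero
  apply Subtype.ext
  change dgM m (α * β) = dgM m α * dgM m β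
  rw [dgM, dgM, dgM, Matrix.diagonal_mul_diagonal]
  congr 1
  funext i
  fin_cases i <;> simp [mul_pow] <;> field_simp

theorem dg_one : dg m (1 : Fˣ) = 1 := by
  apply Subtype.ext
  change dgM m (1 : Fˣ) = 1
  rw [dgM]
  ext i j
  rw [Matrix.diagonal_apply, Matrix.one_apply]
  fin_cases i <;> fin_cases j <;> simp

theorem dg_inj {α β : Fˣ} (h : dg m α = dg m β) : α = β := by
  have h0 : (α : F) ≠ 0 := α.ne_zero
  have h1 : (β : F) ≠ 0 := β.ne_zero
  have hM : dgM m α = dgM m β := congrArg Subtype.val h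
  have e0 := congrFun (congrFun hM 0) 0
  have e1 := congrFun (congrFun hM 1) 1
  simp [dgM] at e0 e1
  apply Units.ext
  rw [e1] at e0
  exact mul_right_cancel₀ (pow_ne_zero _ h1) e0

theorem wS_sq : wS F * wS F = 1 := by
  apply Subtype.ext
  change suzukiForm F * suzukiForm F = 1
  ext i j
  rw [suzukiForm, Matrix.mul_apply, Fin.sum_univ_four]
  fin_cases i <;> fin_cases j <;> simp

end Laws

/-! ### Moving points -/

section Move

variable [Fintype F] [CharP F 2] (hs : SqProp F m)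
include hs

theorem tr_smul_zero (a b : F) : tr m a b • P m (0 : F) 0 = P m a b := by
  rw [tr_smul_P hs]
  simp

theorem tr_inv_smul (a b : F) : (tr m a b)⁻¹ • P m a b = P m (0 : F) 0 := by
  rw [inv_smul_eq_iff, tr_smul_zero hs]

theorem tr_inv_smul_inf (a b : F) : (tr m a b)⁻¹ • suzukiPointInfinity F = suzukiPointInfinity F := by
  rw [inv_smul_eq_iff, tr_smul_inf]

/-- Transitivity on the ovoid: every point goes to infinity. -/
theorem exists_to_inf {p : ℙ F (Fin 4 → F)} (hp : p ∈ suzukiOvoid F m) :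
    ∃ g ∈ Sz F m, g • p = suzukiPointInfinity F := by
  rcases mem_ovoid.1 hp with rfl | ⟨x, y, rfl⟩
  · exact ⟨1, one_mem _, one_smul _ _⟩
  · refine ⟨(tr m x y * wS F)⁻¹, inv_mem (mul_mem (tr_mem hs x y) (wS_mem hs)), ?_⟩
    rw [inv_smul_eq_iff, mul_smul, wS_smul_inf, tr_smul_zero hs]

/-- Double transitivity on the ovoid. -/
theorem exists_to_two {p p' : ℙ F (Fin 4 → F)} (hp : p ∈ suzukiOvoid F m) (hp' : p' ∈ suzukiOvoid F m) (hne : p ≠ p') :
    ∃ g ∈ Sz F m, g • p = suzukiPointInfinity F ∧ g • p' = P m (0 : F) 0 := by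
  obtain ⟨g, hg, hgp⟩ := exists_to_inf hs hp
  have h1 : g • p' ∈ suzukiOvoid F m := smul_mem_ovoid hg hp'
  rcases mem_ovoid.1 h1 with h2 | ⟨x, y, h2⟩
  · exfalso
    apply hne
    rw [← hgp] at h2
    exact (smul_left_cancel g h2).symm
  · refine ⟨(tr m x y)⁻¹ * g, mul_mem (inv_mem (tr_mem hs x y)) hg, ?_, ?_⟩
    · rw [mul_smul, hgp, tr_inv_smul_inf hs]
    · rw [mul_smul, h2, tr_inv_smul hs]

variable (h4 : 4 ≤ 2 ^ (m + 1)) (hq : 2 ^ (m + 1) + 2 < Fintype.card F)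
include h4 hq

/-- The stabiliser of the point at infinity. -/
theorem stab_inf {g : SL(4, F)} (hg : g ∈ Sz F m) (h1 : g • suzukiPointInfinity F = suzukiPointInfinity F) :
    ∃ (a b : F) (α : Fˣ), g = tr m a b * dg m α := by
  have h3 : g • P m (0 : F) 0 ∈ suzukiOvoid F m := smul_mem_ovoid hg (mem_ovoid.2 (Or.inr ⟨0, 0, rfl⟩))
  rcases mem_ovoid.1 h3 with h4' | ⟨a, b, h4'⟩
  · exfalso
    rw [← h1] at h4'
    exact P_ne_inf _ _ (smul_left_cancel g h4')
  · obtain ⟨α, hα⟩ := two_pt hs h4 hq (g := (tr m a b)⁻¹ * g) (mul_mem (inv_mem (tr_mem hs a b)) hg)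
      (by rw [mul_smul, h1, tr_inv_smul_inf hs]) (by rw [mul_smul, h4', tr_inv_smul hs])
    refine ⟨a, b, α, ?_⟩
    rw [← hα]
    group

/-- Decomposition of the elements of the group. -/
theorem decomp {g : SL(4, F)} (hg : g ∈ Sz F m) :
    (∃ (a b : F) (α : Fˣ), g = tr m a b * dg m α) ∨
    ∃ (a b c e : F) (α : Fˣ), g = tr m a b * wS F * (tr m c e * dg m α) := by
  have h1 : g • suzukiPointInfinity F ∈ suzukiOvoid F m := smul_mem_ovoid hg (mem_ovoid.2 (Or.inl rfl))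
  rcases mem_ovoid.1 h1 with h2 | ⟨a, b, h2⟩
  · exact Or.inl (stab_inf hs h4 hq hg h2)
  · right
    have h3 : (tr m a b * wS F)⁻¹ * g ∈ Sz F m := mul_mem (inv_mem (mul_mem (tr_mem hs a b) (wS_mem hs))) hg
    obtain ⟨c, e, α, hα⟩ := stab_inf hs h4 hq h3 (by
      rw [mul_smul, h2, inv_smul_eq_iff, mul_smul, wS_smul_inf, tr_smul_zero hs])
    refine ⟨a, b, c, e, α, ?_⟩
    rw [← hα]
    group

end Move

end Cfsg.Agent.Lib.Suzuki
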