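import Cfsg.Agent.Lib.Suzuki

/-! Orders and transitivity properties of the Suzuki groups. -/

set_option autoImplicit false
set_option linter.unusedSectionVars false
set_option linter.unusedVariables false
set_option linter.unusedSimpArgs false

namespace Cfsg.Agent.Lib.Suzuki

open Cfsg
open scoped Matrix MatrixGroups LinearAlgebra.Projectivization Pointwise

variable {F : Type*} [Field F] [Fintype F] {m : ℕ}

theorem charTwo (hF : Fintype.card F = 2 ^ (2 * m + 1)) : CharP F 2 := by
  obtain ⟨p, hp⟩ := CharP.exists F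
  obtain ⟨n, hprime, hn⟩ := FiniteField.card F p
  have h1 : p ∣ 2 ^ (2 * m + 1) := by
    rw [← hF, hn]
    exact dvd_pow_self _ n.ne_zero
  have h2 : p = 2 := (Nat.prime_dvd_prime_iff_eq hprime Nat.prime_two).1 (hprime.dvd_of_dvd_pow h1)
  rwa [h2] at hp

theorem four_le (hm : 1 ≤ m) : 4 ≤ 2 ^ (m + 1) := by
  calc 4 = 2 ^ 2 := by norm_num
    _ ≤ 2 ^ (m + 1) := Nat.pow_le_pow_right (by norm_num) (by omega)

theorem s_lt (hm : 1 ≤ m) (hF : Fintype.card F = 2 ^ (2 * m + 1)) : 2 ^ (m + 1) + 2 < Fintype.card F := by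
  rw [hF]
  have h1 : 2 ^ (2 * m + 1) = 2 ^ (m + 1) * 2 ^ m := by
    rw [← pow_add]
    congr 1
    omega
  have h2 : 2 ≤ 2 ^ m := by
    calc 2 = 2 ^ 1 := by norm_num
      _ ≤ 2 ^ m := Nat.pow_le_pow_right (by norm_num) hm
  have h3 := four_le hm
  rw [h1]
  nlinarith

section Main

variable [CharP F 2] (hs : SqProp F m) (h4 : 4 ≤ 2 ^ (m + 1)) (hq : 2 ^ (m + 1) + 2 < Fintype.card F)
include hs h4 hq

/-- The diagonal elements as elements of the two-point stabiliser. -/
noncomputable def toTwo : Fˣ →* ↥(MulAction.stabilizer (Sz F m) (suzukiPointInfinity F) ⊓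
    MulAction.stabilizer (Sz F m) (suzukiPointZero F)) where
  toFun α := ⟨⟨dg m α, dg_mem hs α⟩, by
    constructor
    · exact dg_smul_inf α
    · change dg m α • suzukiPointZero F = suzukiPointZero F
      rw [← P_zero (m := m), dg_smul_P hs]
      simp⟩
  map_one' := by
    apply Subtype.ext
    apply Subtype.ext
    exact dg_one
  map_mul' α β := by
    apply Subtype.ext
    apply Subtype.ext
    exact dg_mul α β

theorem toTwo_bijective : Function.Bijective (toTwo hs) := by
  constructor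
  · intro α β h
    have h1 := congrArg (fun g ↦ ((g : ↥(MulAction.stabilizer (Sz F m) (suzukiPointInfinity F) ⊓
      MulAction.stabilizer (Sz F m) (suzukiPointZero F))).1).1) h
    exact dg_inj h1
  · rintro ⟨⟨g, hg⟩, h1, h2⟩
    have h1' : g • suzukiPointInfinity F = suzukiPointInfinity F := h1
    have h2' : g • suzukiPointZero F = suzukiPointZero F := h2
    rw [← P_zero (m := m)] at h2'
    obtain ⟨α, hα⟩ := two_pt hs h4 hq hg h1' h2'
    refine ⟨α, ?_⟩
    apply Subtype.ext
    apply Subtype.ext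
    exact hα.symm

/-- The stabiliser of the point at infinity: parametrisation. -/
noncomputable def toInf (t : F × F × Fˣ) : MulAction.stabilizer (Sz F m) (suzukiPointInfinity F) :=
  ⟨⟨tr m t.1 t.2.1 * dg m t.2.2, mul_mem (tr_mem hs _ _) (dg_mem hs _)⟩, by
    change (tr m t.1 t.2.1 * dg m t.2.2) • suzukiPointInfinity F = suzukiPointInfinity F
    rw [mul_smul, dg_smul_inf, tr_smul_inf]⟩

theorem toInf_bijective : Function.Bijective (toInf hs) := by
  constructor
  · rintro ⟨a, b, α⟩ ⟨c, e, β⟩ h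
    have h1 : tr m a b * dg m α = tr m c e * dg m β := congrArg (fun g ↦ (g.1).1) h
    have h2 := congrArg (fun g ↦ g • P m (0 : F) 0) h1
    simp only [mul_smul, dg_smul_P hs, mul_zero, tr_smul_zero hs] at h2
    obtain ⟨rfl, rfl⟩ := P_inj h2
    have h3 := dg_inj (mul_left_cancel h1)
    rw [h3]
  · rintro ⟨⟨g, hg⟩, h1⟩
    obtain ⟨a, b, α, h⟩ := stab_inf hs h4 hq hg h1
    refine ⟨(a, b, α), ?_⟩
    apply Subtype.ext
    apply Subtype.ext
    exact h.symm

theorem card_stab_inf : Nat.card (MulAction.stabilizer (Sz F m) (suzukiPointInfinity F)) =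
    (Fintype.card F) ^ 2 * (Fintype.card F - 1) := by
  classical
  rw [← Nat.card_congr (Equiv.ofBijective _ (toInf_bijective hs h4 hq))]
  rw [Nat.card_prod, Nat.card_prod, Nat.card_eq_fintype_card, Nat.card_eq_fintype_card, Fintype.card_units]
  ring

/-- The points of the ovoid. -/
noncomputable def ovEquiv : Option (F × F) ≃ suzukiOvoid F m :=
  Equiv.ofBijective
    (fun o ↦ match o with
      | none => ⟨suzukiPointInfinity F, mem_ovoid.2 (Or.inl rfl)⟩
      | some t => ⟨P m t.1 t.2, mem_ovoid.2 (Or.inr ⟨_, _, rfl⟩)⟩)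
    (by
      constructor
      · rintro (_ | ⟨a, b⟩) (_ | ⟨c, e⟩) h
        · rfl
        · exact absurd (congrArg Subtype.val h).symm (P_ne_inf _ _)
        · exact absurd (congrArg Subtype.val h) (P_ne_inf _ _)
        · obtain ⟨rfl, rfl⟩ := P_inj (congrArg Subtype.val h)
          rfl
      · rintro ⟨p, hp⟩
        rcases mem_ovoid.1 hp with rfl | ⟨x, y, rfl⟩
        · exact ⟨none, rfl⟩
        · exact ⟨some (x, y), rfl⟩)

theorem card_ovoid : Nat.card (suzukiOvoid F m) = (Fintype.card F) ^ 2 + 1 := by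
  classical
  rw [← Nat.card_congr (ovEquiv (F := F) (m := m))]
  rw [Nat.card_eq_fintype_card, Fintype.card_option, Fintype.card_prod]
  ring

theorem orbit_eq : MulAction.orbit (Sz F m) (suzukiPointInfinity F) = suzukiOvoid F m := by
  ext p
  constructor
  · rintro ⟨⟨g, hg⟩, rfl⟩
    exact smul_mem_ovoid hg (mem_ovoid.2 (Or.inl rfl))
  · intro hp
    obtain ⟨g, hg, hgp⟩ := exists_to_inf hs hp
    refine ⟨⟨g⁻¹, inv_mem hg⟩, ?_⟩
    change g⁻¹ • suzukiPointInfinity F = p
    rw [← hgp, inv_smul_smul]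

theorem card_Sz : Nat.card (Sz F m) =
    (Fintype.card F) ^ 2 * ((Fintype.card F) ^ 2 + 1) * (Fintype.card F - 1) := by
  have h1 := Nat.card_congr (MulAction.orbitEquivQuotientStabilizer (Sz F m) (suzukiPointInfinity F))
  have h2 := Subgroup.card_eq_card_quotient_mul_card_subgroup (MulAction.stabilizer (Sz F m) (suzukiPointInfinity F))
  rw [← h1, card_stab_inf hs h4 hq] at h2
  have h3 : Nat.card (MulAction.orbit (Sz F m) (suzukiPointInfinity F)) = (Fintype.card F) ^ 2 + 1 := by
    rw [orbit_eq hs h4 hq]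
    exact card_ovoid hs h4 hq
  rw [h3] at h2
  rw [h2]
  ring

end Main

end Cfsg.Agent.Lib.Suzuki
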