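import Cfsg.Agent.Lib.Suzuki2
import Cfsg.Agent.S0338

/-! The Suzuki group as a Zassenhaus group. -/

set_option autoImplicit false
set_option linter.unusedSectionVars false
set_option linter.unusedVariables false
set_option linter.unusedSimpArgs false

namespace Cfsg.Agent.Lib.Suzuki

open Cfsg
open scoped Matrix MatrixGroups LinearAlgebra.Projectivization Pointwise

/-- A fixed-point-free automorphism of order two inverts. -/
theorem inv_of_fpf {N : Type*} [Group N] [Finite N] (φ : N →* N) (h2 : ∀ n, φ (φ n) = n)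
    (hfp : ∀ n, φ n = n → n = 1) (n : N) : φ n = n⁻¹ := by
  let ψ : N → N := fun k ↦ k⁻¹ * φ k
  have hinj : Function.Injective ψ := by
    intro k l h
    have h1 : φ (l * k⁻¹) = l * k⁻¹ := by
      rw [map_mul, map_inv]
      have h3 : k⁻¹ * φ k = l⁻¹ * φ l := h
      have h4 : φ k = k * (l⁻¹ * φ l) := by rw [← h3]; group
      rw [h4]
      group
    have h5 := hfp _ h1
    exact (mul_inv_eq_one.1 h5).symm
  obtain ⟨k, rfl⟩ := (Finite.injective_iff_surjective.1 hinj) n
  simp only [ψ, map_mul, map_inv, h2]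
  group

variable {F : Type*} [Field F] [Fintype F] {m : ℕ} [CharP F 2]
variable (hs : SqProp F m) (h4 : 4 ≤ 2 ^ (m + 1)) (hq : 2 ^ (m + 1) + 2 < Fintype.card F)
include hs h4 hq

theorem smul_val (g : Sz F m) (x : suzukiOvoid F m) : ((g • x : suzukiOvoid F m) : ℙ F (Fin 4 → F)) = g.1 • x.1 := rfl

/-- An element fixing three points is trivial. -/
theorem fix_three (g : Sz F m) (a b c : suzukiOvoid F m) (hab : a ≠ b) (hbc : b ≠ c) (hac : a ≠ c)
    (h1 : g • a = a) (h2 : g • b = b) (h3 : g • c = c) : g = 1 := by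
  have hab' : a.1 ≠ b.1 := fun h ↦ hab (Subtype.ext h)
  have hac' : a.1 ≠ c.1 := fun h ↦ hac (Subtype.ext h)
  have hbc' : b.1 ≠ c.1 := fun h ↦ hbc (Subtype.ext h)
  obtain ⟨k, hk, hka, hkb⟩ := exists_to_two hs a.2 b.2 hab'
  have h1' : g.1 • a.1 = a.1 := congrArg Subtype.val h1
  have h2' : g.1 • b.1 = b.1 := congrArg Subtype.val h2
  have h3' : g.1 • c.1 = c.1 := congrArg Subtype.val h3
  set t := k * g.1 * k⁻¹ with ht
  have htm : t ∈ Sz F m := mul_mem (mul_mem hk g.2) (inv_mem hk)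
  have e : ∀ p : ℙ F (Fin 4 → F), g.1 • p = p → t • (k • p) = k • p := by
    intro p hp
    rw [ht, ← mul_smul, show k * g.1 * k⁻¹ * k = k * g.1 by group, mul_smul, hp]
  obtain ⟨α, hα⟩ := two_pt hs h4 hq htm (by
      have := e _ h1'
      rwa [hka] at this) (by
      have := e _ h2'
      rwa [hkb] at this)
  have hc : k • c.1 ∈ suzukiOvoid F m := smul_mem_ovoid hk c.2
  rcases mem_ovoid.1 hc with h5 | ⟨x, y, h5⟩
  · exfalso
    rw [← hka] at h5
    exact hac' (smul_left_cancel k h5).symm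
  have h6 := e _ h3'
  rw [h5, hα, dg_smul_P hs] at h6
  obtain ⟨h7, h8⟩ := P_inj h6
  have hxy : ¬ (x = 0 ∧ y = 0) := by
    rintro ⟨rfl, rfl⟩
    apply hbc'
    rw [← hkb] at h5
    exact (smul_left_cancel k h5).symm
  have hα1 : (α : F) = 1 := by
    by_cases hx : x = 0
    · have hy : y ≠ 0 := fun hy ↦ hxy ⟨hx, hy⟩
      apply pow_succ_s_eq_one hs
      exact mul_right_cancel₀ hy (by rw [h8, one_mul])
    · exact mul_right_cancel₀ hx (by rw [h7, one_mul])
  have hα2 : α = 1 := Units.ext hα1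
  rw [hα2, dg_one] at hα
  apply Subtype.ext
  change g.1 = 1
  have h9 : k * g.1 * k⁻¹ = 1 := hα
  have h10 : g.1 = k⁻¹ * (k * g.1 * k⁻¹) * k := by group
  rw [h10, h9]
  group

theorem two_trans : MulAction.IsMultiplyPretransitive (Sz F m) (suzukiOvoid F m) 2 := by
  rw [MulAction.is_two_pretransitive_iff]
  intro a b c d hab hcd
  have hab' : a.1 ≠ b.1 := fun h ↦ hab (Subtype.ext h)
  have hcd' : c.1 ≠ d.1 := fun h ↦ hcd (Subtype.ext h)
  obtain ⟨g, hg, h1, h2⟩ := exists_to_two hs a.2 b.2 hab'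
  obtain ⟨k, hk, h3, h4'⟩ := exists_to_two hs c.2 d.2 hcd'
  refine ⟨⟨k⁻¹ * g, mul_mem (inv_mem hk) hg⟩, ?_, ?_⟩
  · apply Subtype.ext
    change (k⁻¹ * g) • a.1 = c.1
    rw [mul_smul, h1, ← h3, inv_smul_smul]
  · apply Subtype.ext
    change (k⁻¹ * g) • b.1 = d.1
    rw [mul_smul, h2, ← h4', inv_smul_smul]

theorem exists_third_pts : ∃ a b c : suzukiOvoid F m, a ≠ b ∧ b ≠ c ∧ a ≠ c := by
  classical
  have hc : 3 ≤ Nat.card (suzukiOvoid F m) := by
    rw [card_ovoid hs h4 hq]
    have : 1 ≤ (Fintype.card F) ^ 2 := Nat.one_le_pow _ _ Fintype.card_pos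
    have h5 : 2 ≤ Fintype.card F := Fintype.one_lt_card
    nlinarith
  have : Finite (suzukiOvoid F m) := Nat.finite_of_card_ne_zero (by omega)
  have hf := Fintype.ofFinite (suzukiOvoid F m)
  rw [Nat.card_eq_fintype_card] at hc
  obtain ⟨s', hs'⟩ := Finset.exists_subset_card_eq (s := Finset.univ (α := suzukiOvoid F m)) (n := 3) (by simpa using hc)
  obtain ⟨a, b, c, hab, hac, hbc, -⟩ := Finset.card_eq_three.1 hs'.2
  exact ⟨a, b, c, hab, hbc, hac⟩

theorem faithful : FaithfulSMul (Sz F m) (suzukiOvoid F m) := by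
  refine ⟨fun {g h} H ↦ ?_⟩
  have h1 : g⁻¹ * h = 1 := by
    obtain ⟨a, b, c, hab, hbc, hac⟩ := exists_third_pts hs h4 hq
    apply fix_three hs h4 hq _ a b c hab hbc hac
    · rw [mul_smul, ← H, inv_smul_smul]
    · rw [mul_smul, ← H, inv_smul_smul]
    · rw [mul_smul, ← H, inv_smul_smul]
  exact (inv_mul_eq_one.1 h1)

/-- The two special points as points of the ovoid. -/
def ptInf (F : Type*) [Field F] (m : ℕ) : suzukiOvoid F m := ⟨suzukiPointInfinity F, mem_ovoid.2 (Or.inl rfl)⟩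

/-- A point of the ovoid. -/
def ptP (m : ℕ) (x y : F) : suzukiOvoid F m := ⟨P m x y, mem_ovoid.2 (Or.inr ⟨x, y, rfl⟩)⟩

theorem fix_two_exists : ∃ g : Sz F m, g ≠ 1 ∧ ∃ a b : suzukiOvoid F m, a ≠ b ∧ g • a = a ∧ g • b = b := by
  classical
  have hcard : 2 < Fintype.card Fˣ := by
    rw [Fintype.card_units]
    omega
  obtain ⟨α, hα⟩ := Fintype.exists_ne_of_one_lt_card (by omega) (1 : Fˣ)
  refine ⟨⟨dg m α, dg_mem hs α⟩, ?_, ptInf F m, ptP m 0 0, ?_, ?_, ?_⟩
  · intro h
    have h1 : dg m α = 1 := congrArg Subtype.val h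
    rw [← dg_one (m := m)] at h1
    exact hα (dg_inj h1)
  · intro h
    exact P_ne_inf _ _ (congrArg Subtype.val h).symm
  · apply Subtype.ext
    exact dg_smul_inf α
  · apply Subtype.ext
    change dg m α • P m (0 : F) 0 = P m 0 0
    rw [dg_smul_P hs]
    simp

/-- No regular normal subgroup. -/
theorem no_regular (N : Subgroup (Sz F m)) (hN : N.Normal) (htr : MulAction.IsPretransitive N (suzukiOvoid F m)) :
    ∃ a : suzukiOvoid F m, MulAction.stabilizer N a ≠ ⊥ := by
  classical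
  by_contra hcon
  push Not at hcon
  have hfin : Finite (Sz F m) := inferInstance
  -- a fixed-point-free involution
  have hinvol : ∀ b : F, b ≠ 0 → ∀ n : N, (⟨tr m 0 b, tr_mem hs 0 b⟩ : Sz F m) * (n : Sz F m) * (⟨tr m 0 b, tr_mem hs 0 b⟩ : Sz F m)⁻¹ = (n : Sz F m)⁻¹ := by
    intro b hb
    set t : Sz F m := ⟨tr m 0 b, tr_mem hs 0 b⟩ with ht
    have ht2 : t * t = 1 := by
      apply Subtype.ext
      change tr m 0 b * tr m 0 b = 1
      rw [tr_mul hs]
      have h0 : (0 : F) ^ (2 ^ (m + 1)) = 0 := zero_pow (by positivity)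
      have e : b + b + (0 : F) ^ (2 ^ (m + 1)) * 0 = 0 := by
        rw [mul_zero, add_zero]
        exact CharTwo.add_self_eq_zero b
      rw [e, add_zero, tr_zero]
    have htinv : t⁻¹ = t := inv_eq_of_mul_eq_one_left ht2
    have htfix : ∀ a : suzukiOvoid F m, t • a = a → a = ptInf F m := by
      rintro ⟨p, hp⟩ h
      rcases mem_ovoid.1 hp with rfl | ⟨x, y, rfl⟩
      · rfl
      · exfalso
        have h1 : tr m 0 b • P m x y = P m x y := congrArg Subtype.val h
        rw [tr_smul_P hs] at h1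
        obtain ⟨-, h2⟩ := P_inj h1
        have h0 : (0 : F) ^ (2 ^ (m + 1)) = 0 := zero_pow (by positivity)
        rw [h0, zero_mul, add_zero] at h2
        exact hb (add_left_cancel (h2.trans (add_zero y).symm))
    have htinf : t • ptInf F m = ptInf F m := by
      apply Subtype.ext
      exact tr_smul_inf 0 b
    let φ : N →* N := (MulAut.conjNormal t : MulAut N).toMonoidHom
    have hφ : ∀ n : N, ((φ n : N) : Sz F m) = t * (n : Sz F m) * t⁻¹ := fun n ↦ MulAut.conjNormal_apply t n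
    have h2 : ∀ n, φ (φ n) = n := by
      intro n
      apply Subtype.ext
      rw [hφ, hφ, htinv, ← mul_assoc, ← mul_assoc, ht2, one_mul, mul_assoc, ht2, mul_one]
    have hfp : ∀ n, φ n = n → n = 1 := by
      intro n hn
      have h3 : t * (n : Sz F m) * t⁻¹ = n := by rw [← hφ, hn]
      have h5 : t • ((n : Sz F m) • ptInf F m) = (n : Sz F m) • ptInf F m := by
        have h6 : t * (n : Sz F m) = (n : Sz F m) * t := by
          calc t * (n : Sz F m) = (t * (n : Sz F m) * t⁻¹) * t := by group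
            _ = _ := by rw [h3]
        rw [← mul_smul, h6, mul_smul, htinf]
      have h7 := htfix _ h5
      have h8 : n ∈ MulAction.stabilizer N (ptInf F m) := h7
      rw [hcon] at h8
      simpa using h8
    intro n
    have := inv_of_fpf φ h2 hfp n
    rw [← hφ, this]
    rfl
  -- two involutions with a product that has no fixed point
  obtain ⟨b, hb0, hb1⟩ : ∃ b : F, b ≠ 0 ∧ b ≠ 1 := by
    have hc : 2 < Fintype.card F := by omega
    obtain ⟨b, -, h⟩ := Finset.exists_mem_notMem_of_card_lt_card (s := ({0, 1} : Finset F)) (t := Finset.univ) (by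
      have : ({0, 1} : Finset F).card ≤ 2 := Finset.card_le_two
      simp only [Finset.card_univ]
      omega)
    simp only [Finset.mem_insert, Finset.mem_singleton, not_or] at h
    exact ⟨b, h.1, h.2⟩
  obtain ⟨n, hn⟩ := htr.exists_smul_eq (ptInf F m) (ptP m 0 0)
  have h1 := hinvol 1 one_ne_zero n
  have h2 := hinvol b hb0 n
  set t₁ : Sz F m := ⟨tr m 0 1, tr_mem hs 0 1⟩ with ht₁
  set t₂ : Sz F m := ⟨tr m 0 b, tr_mem hs 0 b⟩ with ht₂
  have h3 : t₁ * t₂ * (n : Sz F m) = (n : Sz F m) * (t₁ * t₂) := by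
    have e1 : t₂ * (n : Sz F m) = (n : Sz F m)⁻¹ * t₂ := by
      rw [← h2]
      group
    have e2 : t₁ * (n : Sz F m)⁻¹ = (n : Sz F m) * t₁ := by
      have e3 : t₁ * (n : Sz F m)⁻¹ * t₁⁻¹ = (n : Sz F m) := by
        have h6 := congrArg (fun z ↦ z⁻¹) h1
        simp only [mul_inv_rev, inv_inv, mul_assoc] at h6
        simpa [mul_assoc] using h6
      calc t₁ * (n : Sz F m)⁻¹ = (t₁ * (n : Sz F m)⁻¹ * t₁⁻¹) * t₁ := by group
        _ = _ := by rw [e3]
    rw [mul_assoc, e1, ← mul_assoc, e2, mul_assoc]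
  have h5 : ((t₁ * t₂) • ((n : Sz F m) • ptInf F m)) = (n : Sz F m) • ptInf F m := by
    rw [← mul_smul, h3, mul_smul]
    congr 1
    apply Subtype.ext
    change (tr m 0 1 * tr m 0 b) • suzukiPointInfinity F = suzukiPointInfinity F
    rw [mul_smul, tr_smul_inf, tr_smul_inf]
  have h6 : (n : Sz F m) • ptInf F m = ptP m 0 0 := hn
  rw [h6] at h5
  have h7 : (tr m 0 1 * tr m 0 b) • P m (0 : F) 0 = P m 0 0 := congrArg Subtype.val h5
  rw [mul_smul, tr_smul_zero hs, tr_smul_P hs] at h7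
  obtain ⟨-, h8⟩ := P_inj h7
  have h0 : (0 : F) ^ (2 ^ (m + 1)) = 0 := zero_pow (by positivity)
  rw [h0, zero_mul, add_zero] at h8
  apply hb1
  have h2' : (2 : F) = 0 := two_eq
  linear_combination h8 - h2'

theorem isZassenhaus : IsZassenhausGroup (Sz F m) (suzukiOvoid F m) :=
  ⟨faithful hs h4 hq, two_trans hs h4 hq, fun g a b c hab hbc hac h1 h2 h3 ↦ fix_three hs h4 hq g a b c hab hbc hac h1 h2 h3,
    fix_two_exists hs h4 hq, fun N hN htr ↦ no_regular hs h4 hq N hN htr⟩

/-- The simplicity of the Suzuki groups. -/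
theorem isSimple_Sz : IsSimpleGroup (Sz F m) := by
  classical
  letI : Fintype (suzukiOvoid F m) := Fintype.ofFinite _
  refine Cfsg.Agent.S0338.result (isZassenhaus hs h4 hq) ?_
  rw [← Nat.card_eq_fintype_card, card_ovoid hs h4 hq]
  have h5 : 2 ∣ Fintype.card F := by
    have := FiniteField.even_card_of_char_two (F := F) (by
      exact ringChar.eq F 2)
    exact Nat.dvd_of_mod_eq_zero this
  have h6 : Even ((Fintype.card F) ^ 2) := by
    rw [pow_two]
    exact (even_iff_two_dvd.2 h5).mul_right _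
  exact h6.add_one

end Cfsg.Agent.Lib.Suzuki
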