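import Cfsg.Agent.Lib.Suzuki3
import Cfsg.Agent.Lib.SylowCount

/-! The Sylow 2-subgroups of the Suzuki groups. -/

set_option autoImplicit false
set_option linter.unusedSectionVars false
set_option linter.unusedVariables false
set_option linter.unusedSimpArgs false

namespace Cfsg.Agent.Lib.Suzuki

open Cfsg
open scoped Matrix MatrixGroups LinearAlgebra.Projectivization Pointwise commutatorElement

theorem transfer_center_comm {A B : Type*} [Group A] [Group B] (e : A ≃* B)
    (h : Subgroup.center B = commutator B) : Subgroup.center A = commutator A := by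
  have hc : (commutator A).map e.toMonoidHom = commutator B := by
    rw [_root_.commutator_def, _root_.commutator_def, Subgroup.map_commutator,
      Subgroup.map_top_of_surjective _ e.surjective]
  apply Subgroup.map_injective (f := e.toMonoidHom) e.injective
  rw [hc, ← h]
  ext y
  constructor
  · rintro ⟨x, hx, rfl⟩
    have hx : x ∈ Subgroup.center A := hx
    rw [Subgroup.mem_center_iff] at hx ⊢
    intro z
    obtain ⟨w, rfl⟩ := e.surjective z
    have := hx w
    change e w * e x = e x * e w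
    rw [← map_mul, ← map_mul, this]
  · intro hy
    obtain ⟨x, rfl⟩ := e.surjective y
    refine ⟨x, ?_, rfl⟩
    change x ∈ Subgroup.center A
    rw [Subgroup.mem_center_iff] at hy ⊢
    intro z
    have := hy (e z)
    apply e.injective
    rw [map_mul, map_mul, this]

variable {F : Type*} [Field F] [Fintype F] {m : ℕ} [CharP F 2]
variable (hs : SqProp F m)

/-- The translation subgroup. -/
def T (hs : SqProp F m) : Subgroup (Sz F m) where
  carrier := {g | ∃ a b, g.1 = tr m a b}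
  mul_mem' := by
    rintro g h ⟨a, b, h1⟩ ⟨c, e, h2⟩
    refine ⟨a + c, b + e + a ^ (2 ^ (m + 1)) * c, ?_⟩
    rw [← tr_mul hs, ← h1, ← h2]
    rfl
  one_mem' := ⟨0, 0, by rw [tr_zero]; rfl⟩
  inv_mem' := by
    rintro g ⟨a, b, h1⟩
    refine ⟨a, b + a ^ (2 ^ (m + 1)) * a, ?_⟩
    rw [← tr_inv hs, ← h1]
    rfl

/-- The elements of `T`. -/
def toT (hs : SqProp F m) (a b : F) : T hs := ⟨⟨tr m a b, tr_mem hs a b⟩, a, b, rfl⟩

theorem toT_surj (x : T hs) : ∃ a b, x = toT hs a b := by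
  obtain ⟨⟨g, hg⟩, a, b, h⟩ := x
  refine ⟨a, b, ?_⟩
  apply Subtype.ext
  apply Subtype.ext
  exact h

theorem toT_mul (a b c e : F) : toT hs a b * toT hs c e = toT hs (a + c) (b + e + a ^ (2 ^ (m + 1)) * c) := by
  apply Subtype.ext
  apply Subtype.ext
  exact tr_mul hs a b c e

theorem toT_zero : toT hs (0 : F) 0 = 1 := by
  apply Subtype.ext
  apply Subtype.ext
  exact tr_zero

theorem toT_inj {a b c e : F} (h : toT hs a b = toT hs c e) : a = c ∧ b = e := by
  have h1 : tr m a b = tr m c e := congrArg (fun x : T hs ↦ (x.1).1) h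
  have h2 := congrArg (fun g ↦ g • P m (0 : F) 0) h1
  simp only [tr_smul_zero hs] at h2
  exact P_inj h2

theorem card_T : Nat.card (T hs) = (Fintype.card F) ^ 2 := by
  have h : Function.Bijective (fun t : F × F ↦ toT hs t.1 t.2) := by
    constructor
    · rintro ⟨a, b⟩ ⟨c, e⟩ h
      obtain ⟨rfl, rfl⟩ := toT_inj hs h
      rfl
    · intro x
      obtain ⟨a, b, rfl⟩ := toT_surj hs x
      exact ⟨(a, b), rfl⟩
  rw [← Nat.card_congr (Equiv.ofBijective _ h), Nat.card_prod, Nat.card_eq_fintype_card]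
  ring

theorem zero_s : (0 : F) ^ (2 ^ (m + 1)) = 0 := zero_pow (by positivity)

theorem toT_sq (a b : F) : (toT hs a b) ^ 2 = toT hs 0 (a ^ (2 ^ (m + 1)) * a) := by
  have h2 : (2 : F) = 0 := two_eq
  rw [pow_two, toT_mul]
  have e1 : a + a = 0 := CharTwo.add_self_eq_zero a
  have e2 : b + b + a ^ (2 ^ (m + 1)) * a = a ^ (2 ^ (m + 1)) * a := by
    linear_combination b * h2
  rw [e1, e2]

theorem exponent_T : Monoid.exponent (T hs) = 4 := by
  have h2 : (2 : F) = 0 := two_eq
  have h1 : Monoid.exponent (T hs) ∣ 4 := by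
    apply Monoid.exponent_dvd_of_forall_pow_eq_one
    intro x
    obtain ⟨a, b, rfl⟩ := toT_surj hs x
    have h4 : (toT hs a b) ^ 4 = ((toT hs a b) ^ 2) ^ 2 := by rw [← pow_mul]
    rw [h4, toT_sq, toT_sq, zero_s (m := m)]
    simp [toT_zero]
  have h3 : ¬ Monoid.exponent (T hs) ∣ 2 := by
    intro h
    have h4 := Monoid.pow_exponent_eq_one (toT hs (1 : F) 0)
    obtain ⟨k, hk⟩ := h
    have h5 : (toT hs (1 : F) 0) ^ 2 = 1 := by
      rw [hk, pow_mul, h4, one_pow]
    rw [toT_sq, ← toT_zero hs] at h5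
    have := (toT_inj hs h5).2
    simp at this
  obtain ⟨k, hk, hk2⟩ := (Nat.dvd_prime_pow Nat.prime_two).1 (show Monoid.exponent (T hs) ∣ 2 ^ 2 from h1)
  interval_cases k
  · exfalso
    apply h3
    rw [hk2]
    simp
  · exfalso
    apply h3
    rw [hk2]
    simp
  · rw [hk2]
    norm_num

/-- The central subgroup of `T`. -/
def Z₀ (hs : SqProp F m) : Subgroup (T hs) where
  carrier := {x | ∃ b, x = toT hs 0 b}
  mul_mem' := by
    rintro _ _ ⟨b, rfl⟩ ⟨c, rfl⟩
    refine ⟨b + c, ?_⟩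
    rw [toT_mul, zero_s (m := m)]
    simp
  one_mem' := ⟨0, (toT_zero hs).symm⟩
  inv_mem' := by
    rintro _ ⟨b, rfl⟩
    refine ⟨b, ?_⟩
    rw [inv_eq_iff_mul_eq_one, toT_mul, zero_s (m := m)]
    have : b + b = 0 := CharTwo.add_self_eq_zero b
    simp [this, toT_zero]

theorem card_Z₀ : Nat.card (Z₀ hs) = Fintype.card F := by
  have h : Function.Bijective (fun b : F ↦ (⟨toT hs 0 b, b, rfl⟩ : Z₀ hs)) := by
    constructor
    · intro a b h
      have h1 : toT hs 0 a = toT hs 0 b := congrArg Subtype.val h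
      exact (toT_inj hs h1).2
    · rintro ⟨_, b, rfl⟩
      exact ⟨b, rfl⟩
  rw [← Nat.card_congr (Equiv.ofBijective _ h), Nat.card_eq_fintype_card]

theorem comm_toT (a b c e : F) : ⁅toT hs a b, toT hs c e⁆ = toT hs 0 (a ^ (2 ^ (m + 1)) * c + c ^ (2 ^ (m + 1)) * a) := by
  have h2 : (2 : F) = 0 := two_eq
  have key : ∀ {x y z : T hs}, x * y = z * (y * x) → ⁅x, y⁆ = z := by
    intro x y z h
    rw [commutatorElement_def, h]
    group
  apply key
  rw [toT_mul, toT_mul, toT_mul, zero_s (m := m), zero_mul, add_zero, zero_add]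
  congr 1
  · exact add_comm a c
  · linear_combination (-(c ^ (2 ^ (m + 1)) * a)) * h2

variable (hs₂ : 2 < Fintype.card F)
include hs hs₂

/-- An element other than `0, 1`. -/
theorem exists_t : ∃ t : F, t + t ^ (2 ^ (m + 1)) ≠ 0 := by
  classical
  obtain ⟨t, -, h⟩ := Finset.exists_mem_notMem_of_card_lt_card (s := ({0, 1} : Finset F)) (t := Finset.univ) (by
    have : ({0, 1} : Finset F).card ≤ 2 := Finset.card_le_two
    simp only [Finset.card_univ]
    omega)
  simp only [Finset.mem_insert, Finset.mem_singleton, not_or] at h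
  refine ⟨t, ?_⟩
  intro h1
  have h2' : (2 : F) = 0 := two_eq
  have h3 : t ^ (2 ^ (m + 1)) = t := by linear_combination h1 - t * h2'
  have h4 := hs t
  rw [h3, h3] at h4
  have h5 : t * (t - 1) = 0 := by linear_combination -h4
  rcases mul_eq_zero.1 h5 with h6 | h6
  · exact h.1 h6
  · exact h.2 (sub_eq_zero.1 h6)

theorem exists_root (b : F) (hb : b ≠ 0) : ∃ a : F, a ≠ 0 ∧ a ^ (2 ^ (m + 1) + 1) = b := by
  classical
  let f : Fˣ →* Fˣ := powMonoidHom (2 ^ (m + 1) + 1)
  have hinj : Function.Injective f := by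
    rw [injective_iff_map_eq_one]
    intro a ha
    apply Units.ext
    apply pow_succ_s_eq_one hs
    have := congrArg Units.val ha
    simpa [f] using this
  obtain ⟨a, ha⟩ := (Finite.injective_iff_surjective.1 hinj) (Units.mk0 b hb)
  refine ⟨a, a.ne_zero, ?_⟩
  have := congrArg Units.val ha
  simpa [f] using this

theorem comm_eq_Z₀ : commutator (T hs) = Z₀ hs := by
  have h2' : (2 : F) = 0 := two_eq
  apply le_antisymm
  · rw [_root_.commutator_def, Subgroup.commutator_le]
    intro x _ y _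
    obtain ⟨a, b, rfl⟩ := toT_surj hs x
    obtain ⟨c, e, rfl⟩ := toT_surj hs y
    rw [comm_toT]
    exact ⟨_, rfl⟩
  · rintro _ ⟨b, rfl⟩
    by_cases hb : b = 0
    · subst hb
      rw [toT_zero]
      exact one_mem _
    obtain ⟨t, ht⟩ := exists_t (m := m) hs hs₂
    obtain ⟨a, ha0, ha⟩ := exists_root hs hs₂ (b / (t + t ^ (2 ^ (m + 1)))) (div_ne_zero hb ht)
    have e : a ^ (2 ^ (m + 1)) * (a * t) + (a * t) ^ (2 ^ (m + 1)) * a = b := by
      have h5 : a ^ (2 ^ (m + 1)) * (a * t) + (a * t) ^ (2 ^ (m + 1)) * a = a ^ (2 ^ (m + 1) + 1) * (t + t ^ (2 ^ (m + 1))) := by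
        rw [mul_pow, pow_succ]
        ring
      rw [h5, ha]
      field_simp
    rw [← e, ← comm_toT hs a 0 (a * t) 0]
    exact Subgroup.commutator_mem_commutator (Subgroup.mem_top _) (Subgroup.mem_top _)

theorem center_eq_Z₀ : Subgroup.center (T hs) = Z₀ hs := by
  have h2' : (2 : F) = 0 := two_eq
  apply le_antisymm
  · intro x hx
    obtain ⟨a, b, rfl⟩ := toT_surj hs x
    have ha : a = 0 := by
      by_contra ha
      obtain ⟨t, ht⟩ := exists_t (m := m) hs hs₂
      have h1 := (Subgroup.mem_center_iff.1 hx) (toT hs (a * t) 0)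
      rw [toT_mul, toT_mul] at h1
      obtain ⟨-, h3⟩ := toT_inj hs h1
      have h4 : a ^ (2 ^ (m + 1) + 1) * (t + t ^ (2 ^ (m + 1))) = 0 := by
        rw [mul_pow] at h3
        rw [pow_succ]
        linear_combination h3 + (a ^ 2 ^ (m + 1) * a * t) * h2'
      rcases mul_eq_zero.1 h4 with h5 | h5
      · exact ha (eq_zero_of_pow_eq_zero h5)
      · exact ht h5
    subst ha
    exact ⟨b, rfl⟩
  · rintro _ ⟨b, rfl⟩
    rw [Subgroup.mem_center_iff]
    intro y
    obtain ⟨c, e, rfl⟩ := toT_surj hs y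
    rw [toT_mul, toT_mul, zero_s (m := m)]
    congr 1
    · simp
    · simp
      rw [add_comm]

omit hs hs₂ in
theorem card_Sz_split (hm : 1 ≤ m) (hF : Fintype.card F = 2 ^ (2 * m + 1)) :
    Nat.card (Sz F m) = 2 ^ (2 * (2 * m + 1)) *
      (((2 ^ (2 * m + 1)) ^ 2 + 1) * (2 ^ (2 * m + 1) - 1)) ∧
    ¬ 2 ∣ (((2 ^ (2 * m + 1)) ^ 2 + 1) * (2 ^ (2 * m + 1) - 1)) := by
  have hs := sqProp (m := m) hF
  constructor
  · rw [card_Sz hs (four_le hm) (s_lt hm hF), hF, pow_mul' 2 2 (2 * m + 1), mul_assoc]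
  · intro h
    rcases (Nat.prime_two.dvd_mul).1 h with h | h
    · have h1 : 2 ∣ (2 ^ (2 * m + 1)) ^ 2 := by
        apply dvd_pow _ (by norm_num)
        exact dvd_pow_self _ (by omega)
      have := (Nat.dvd_add_right h1).1 h
      omega
    · have h1 : 2 ∣ 2 ^ (2 * m + 1) := dvd_pow_self _ (by omega)
      have h2 : 1 ≤ 2 ^ (2 * m + 1) := Nat.one_le_two_pow
      omega

omit hs₂ in
/-- `T` is a Sylow `2`-subgroup. -/
noncomputable def sylowT (hm : 1 ≤ m) (hF : Fintype.card F = 2 ^ (2 * m + 1)) : Sylow 2 (Sz F m) :=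
  Sylow.ofCard (T hs) (by
    obtain ⟨h1, h2⟩ := card_Sz_split (F := F) hm hF
    rw [card_T, hF, h1]
    have hne : (((2 ^ (2 * m + 1)) ^ 2 + 1) * (2 ^ (2 * m + 1) - 1)) ≠ 0 := by
      rintro h
      rw [h] at h2
      exact h2 (dvd_zero _)
    rw [Nat.factorization_mul (by positivity) hne, Nat.Prime.factorization_pow Nat.prime_two]
    simp [Nat.factorization_eq_zero_of_not_dvd h2, pow_mul']
    )

end Cfsg.Agent.Lib.Suzuki
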