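import Mathlib

/-! Sylow subgroups of `GL₄(q)` for primes dividing `q² + 1`: the Singer cycle. -/

set_option autoImplicit false
set_option linter.unusedSectionVars false
set_option linter.unusedVariables false
set_option linter.unusedSimpArgs false

namespace Cfsg.Agent.Lib.SzSinger

open scoped Matrix MatrixGroups Pointwise

section General

variable {G : Type*} [Group G] [Finite G] {p : ℕ} [hp : Fact p.Prime]

/-- A subgroup containing a full Sylow `p`-subgroup contains a conjugate of each Sylow subgroup. -/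
theorem exists_conj_of_card (C : Subgroup G)
    (h : (Nat.card C).factorization p = (Nat.card G).factorization p) (S : Sylow p G) :
    ∃ g : G, ∀ x ∈ S, g * x * g⁻¹ ∈ C := by
  obtain ⟨S₀⟩ : Nonempty (Sylow p C) := inferInstance
  let S₁ : Subgroup G := (S₀ : Subgroup C).map C.subtype
  have hcard : Nat.card S₁ = p ^ (Nat.card G).factorization p := by
    rw [← h, ← Sylow.card_eq_multiplicity S₀]
    exact Nat.card_congr (Subgroup.equivMapOfInjective _ _ C.subtype_injective).toEquiv.symm
  let T : Sylow p G := Sylow.ofCard S₁ hcard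
  have hT : (T : Subgroup G) = S₁ := Sylow.coe_ofCard _ _
  obtain ⟨g, hg⟩ := MulAction.exists_smul_eq G S T
  refine ⟨g, fun x hx ↦ ?_⟩
  have h1 : g * x * g⁻¹ ∈ (T : Subgroup G) := by
    rw [← hg]
    exact Subgroup.smul_mem_pointwise_smul x (MulAut.conj g) S hx
  rw [hT] at h1
  obtain ⟨y, -, hy⟩ := h1
  rw [← hy]
  exact y.2

/-- If a cyclic subgroup contains a full Sylow `p`-subgroup, all `p`-subgroups are cyclic. -/
theorem sylow_cyclic_of_sub (C : Subgroup G) [IsCyclic C]
    (h : (Nat.card C).factorization p = (Nat.card G).factorization p) (S : Sylow p G) : IsCyclic S := by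
  obtain ⟨g, hg⟩ := exists_conj_of_card C h S
  let f : S →* C :=
    { toFun := fun x ↦ ⟨g * x.1 * g⁻¹, hg x.1 x.2⟩
      map_one' := by
        apply Subtype.ext
        simp
      map_mul' := fun x y ↦ by
        apply Subtype.ext
        change g * (x.1 * y.1) * g⁻¹ = (g * x.1 * g⁻¹) * (g * y.1 * g⁻¹)
        group }
  apply isCyclic_of_injective f
  intro x y hxy
  have h1 : g * x.1 * g⁻¹ = g * y.1 * g⁻¹ := congrArg Subtype.val hxy
  apply Subtype.ext
  simpa using h1

end General

/-- Embedding a `p`-group in a group with cyclic Sylow `p`-subgroups. -/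
theorem cyclic_of_hom {G H : Type*} [Group G] [Group H] [Finite H] {p : ℕ} [Fact p.Prime]
    (P : Subgroup G) (hP : IsPGroup p P) (φ : G →* H) (hφ : Function.Injective φ)
    (hc : ∀ S : Sylow p H, IsCyclic S) : IsCyclic P := by
  obtain ⟨S, hS⟩ := (hP.map φ).exists_le_sylow
  have := hc S
  let f : P →* S :=
    { toFun := fun x ↦ ⟨φ x.1, hS ⟨x.1, x.2, rfl⟩⟩
      map_one' := by
        apply Subtype.ext
        simp
      map_mul' := fun x y ↦ by
        apply Subtype.ext
        simp }
  apply isCyclic_of_injective f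
  intro x y hxy
  have h1 : φ x.1 = φ y.1 := congrArg Subtype.val hxy
  exact Subtype.ext (hφ h1)

/-- Multiplying by a factor prime to `p` does not change the `p`-part. -/
theorem factorization_mul_not_dvd {a b p : ℕ} (ha : a ≠ 0) (hb : ¬ p ∣ b) :
    (a * b).factorization p = a.factorization p := by
  have hb0 : b ≠ 0 := by
    rintro rfl
    exact hb (dvd_zero _)
  rw [Nat.factorization_mul ha hb0]
  simp [Nat.factorization_eq_zero_of_not_dvd hb]

section Arith

variable {q p : ℕ} [hp : Fact p.Prime]

theorem cast_sq (h : p ∣ q ^ 2 + 1) : ((q : ZMod p)) ^ 2 = -1 := by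
  have h1 : ((q ^ 2 + 1 : ℕ) : ZMod p) = 0 := (ZMod.natCast_eq_zero_iff _ _).2 h
  push_cast at h1
  linear_combination h1

theorem two_ne (hp2 : p ≠ 2) : (2 : ZMod p) ≠ 0 := by
  intro h
  have h1 : ((2 : ℕ) : ZMod p) = 0 := by exact_mod_cast h
  have h2 := (ZMod.natCast_eq_zero_iff _ _).1 h1
  exact hp2 ((Nat.prime_dvd_prime_iff_eq hp.out Nat.prime_two).1 h2)

theorem not_dvd_q4_sub (hp2 : p ≠ 2) (h : p ∣ q ^ 2 + 1) (hq : 1 ≤ q) (i : ℕ) (hi1 : 1 ≤ i) (hi : i ≤ 3) :
    ¬ p ∣ q ^ 4 - q ^ i := by
  intro hd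
  have hle : q ^ i ≤ q ^ 4 := Nat.pow_le_pow_right hq (by omega)
  have h1 : ((q ^ 4 - q ^ i : ℕ) : ZMod p) = 0 := (ZMod.natCast_eq_zero_iff _ _).2 hd
  rw [Nat.cast_sub hle] at h1
  push_cast at h1
  have h2 := cast_sq h
  have h3 := two_ne hp2
  set x : ZMod p := (q : ZMod p) with hx
  have h4 : x ^ 4 = 1 := by
    have : x ^ 4 = (x ^ 2) ^ 2 := by ring
    rw [this, h2]
    ring
  rw [h4] at h1
  apply h3
  interval_cases i
  · -- `x = 1`
    have h5 : x = 1 := by linear_combination -h1
    rw [h5] at h2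
    linear_combination h2
  · rw [h2] at h1
    linear_combination h1
  · have h6 : x ^ 3 = x ^ 2 * x := by ring
    rw [h6, h2] at h1
    have h5 : x = -1 := by linear_combination h1
    rw [h5] at h2
    linear_combination h2

/-- The `p`-part of `|GL₄(q)|` is the `p`-part of `q⁴ - 1`, for odd `p ∣ q² + 1`. -/
theorem factorization_gl4 (hp2 : p ≠ 2) (h : p ∣ q ^ 2 + 1) (hq : 2 ≤ q) :
    (∏ i : Fin 4, (q ^ 4 - q ^ (i : ℕ))).factorization p = (q ^ 4 - 1).factorization p := by
  rw [Fin.prod_univ_four]
  have h0 : q ^ 4 - 1 ≠ 0 := by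
    have : 2 ^ 4 ≤ q ^ 4 := Nat.pow_le_pow_left hq 4
    omega
  have hne : ∀ i : ℕ, 1 ≤ i → i ≤ 3 → q ^ 4 - q ^ i ≠ 0 := by
    intro i hi1 hi hz
    have := not_dvd_q4_sub hp2 h (by omega) i hi1 hi
    rw [hz] at this
    exact this (dvd_zero _)
  simp only [Fin.val_zero, Fin.val_one, Fin.val_two, pow_zero]
  have e3 : ((3 : Fin 4) : ℕ) = 3 := rfl
  rw [e3]
  rw [factorization_mul_not_dvd (mul_ne_zero (mul_ne_zero h0 (by simpa using hne 1 le_rfl (by norm_num))) (hne 2 (by norm_num) (by norm_num))) (not_dvd_q4_sub hp2 h (by omega) 3 (by norm_num) (by norm_num)),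
    factorization_mul_not_dvd (mul_ne_zero h0 (by simpa using hne 1 le_rfl (by norm_num))) (not_dvd_q4_sub hp2 h (by omega) 2 (by norm_num) (by norm_num)),
    factorization_mul_not_dvd h0 (by simpa using not_dvd_q4_sub hp2 h (by omega) 1 (by norm_num) (by norm_num))]

end Arith

section Field

variable {F K : Type*} [Field F] [Fintype F] [Field K] [Algebra F K] [Finite K]

/-- The regular representation of the units of a degree-four extension. -/
noncomputable def singer (b : Module.Basis (Fin 4) F K) : Kˣ →* GL (Fin 4) F :=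
  Units.map (Algebra.leftMulMatrix b).toRingHom.toMonoidHom

theorem singer_val (b : Module.Basis (Fin 4) F K) (k : Kˣ) :
    ((singer b k : GL (Fin 4) F) : Matrix (Fin 4) (Fin 4) F) = Algebra.leftMulMatrix b (k : K) := rfl

theorem singer_injective (b : Module.Basis (Fin 4) F K) : Function.Injective (singer b) := by
  intro x y h
  apply Units.ext
  apply Algebra.leftMulMatrix_injective b
  have := congrArg Units.val h
  simpa [singer_val] using this

theorem card_K (hK : Module.finrank F K = 4) : Nat.card K = (Fintype.card F) ^ 4 := by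
  rw [Module.natCard_eq_pow_finrank (K := F) (V := K), hK, Nat.card_eq_fintype_card]

theorem card_singer_range (b : Module.Basis (Fin 4) F K) (hK : Module.finrank F K = 4) :
    Nat.card (singer b).range = (Fintype.card F) ^ 4 - 1 := by
  rw [← Nat.card_congr (MonoidHom.ofInjective (singer_injective b)).toEquiv, Nat.card_units, card_K hK]

theorem factorization_singer (b : Module.Basis (Fin 4) F K) (hK : Module.finrank F K = 4) {p : ℕ}
    [Fact p.Prime] (hp2 : p ≠ 2) (h : p ∣ (Fintype.card F) ^ 2 + 1) :
    (Nat.card (singer b).range).factorization p = (Nat.card (GL (Fin 4) F)).factorization p := by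
  rw [card_singer_range b hK, Matrix.card_GL_field]
  exact (factorization_gl4 hp2 h Fintype.one_lt_card).symm

/-- The subfields of `K` over `F` containing an element of order `p` are trivial, if `p ∤ q² - 1`. -/
theorem eq_top_of_mem (hK : Module.finrank F K = 4) {p : ℕ} [hp : Fact p.Prime] (hp2 : p ≠ 2)
    (h : p ∣ (Fintype.card F) ^ 2 + 1) {k : K} (hk : k ^ p = 1) (hk1 : k ≠ 1)
    (L : IntermediateField F K) (hL : k ∈ L) : L = ⊤ := by
  have h1 := Module.finrank_mul_finrank F L K
  rw [hK] at h1
  have hd : Module.finrank F L ∣ 2 ^ 2 := ⟨Module.finrank L K, by rw [h1]; norm_num⟩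
  obtain ⟨j, hj, hj2⟩ := (Nat.dvd_prime_pow Nat.prime_two).1 hd
  have hfin : Finite L := Finite.of_injective (fun x : L ↦ (x : K)) Subtype.val_injective
  have hfin2 : Fintype L := Fintype.ofFinite L
  have hc : Nat.card L = (Fintype.card F) ^ (Module.finrank F L) := by
    rw [Module.natCard_eq_pow_finrank (K := F) (V := L), Nat.card_eq_fintype_card]
  have hpow : (⟨k, hL⟩ : L) ^ (Nat.card L) = ⟨k, hL⟩ := by
    rw [Nat.card_eq_fintype_card]
    exact FiniteField.pow_card _
  have hpow' : k ^ (Nat.card L) = k := congrArg Subtype.val hpow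
  set q := Fintype.card F with hq
  have hq1 : 2 ≤ q := Fintype.one_lt_card
  by_cases hj3 : j = 2
  · subst hj3
    haveI : Module.Finite F K := Module.Finite.of_finite
    exact IntermediateField.eq_of_le_of_finrank_eq (le_top : L ≤ ⊤)
      (by rw [IntermediateField.finrank_top', hK, hj2]; norm_num)
  · exfalso
    -- `k^(q^2) = k`
    have hkq : k ^ (q ^ 2) = k := by
      have hj4 : j = 0 ∨ j = 1 := by omega
      rcases hj4 with rfl | rfl
      · rw [hc, hj2] at hpow'
        simp only [pow_zero, pow_one] at hpow'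
        rw [pow_two, pow_mul, hpow', hpow']
      · rw [hc, hj2] at hpow'
        simpa using hpow'
    have hq2 : 1 ≤ q ^ 2 := Nat.one_le_pow _ _ (by omega)
    have h3 : k ^ (q ^ 2 - 1) = 1 := by
      have hk0 : k ≠ 0 := by
        rintro rfl
        rw [zero_pow hp.out.ne_zero] at hk
        exact zero_ne_one hk
      have : k ^ (q ^ 2 - 1) * k = k := by
        rw [← pow_succ, Nat.sub_add_cancel hq2, hkq]
      exact mul_right_cancel₀ hk0 (by rw [this, one_mul])
    have ho : orderOf k = p := orderOf_eq_prime hk hk1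
    have h4 : p ∣ q ^ 2 - 1 := by
      rw [← ho]
      exact orderOf_dvd_of_pow_eq_one h3
    have h5 : p ∣ 2 := by
      have : q ^ 2 + 1 = q ^ 2 - 1 + 2 := by omega
      rw [this] at h
      exact (Nat.dvd_add_right h4).1 h
    exact hp2 ((Nat.prime_dvd_prime_iff_eq hp.out Nat.prime_two).1 h5)

/-- A matrix commuting with the regular representation of `k` is a regular representation. -/
theorem exists_of_commute (b : Module.Basis (Fin 4) F K) (hK : Module.finrank F K = 4) {p : ℕ}
    [hp : Fact p.Prime] (hp2 : p ≠ 2)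
    (h : p ∣ (Fintype.card F) ^ 2 + 1) {k : K} (hk : k ^ p = 1) (hk1 : k ≠ 1)
    (A : Matrix (Fin 4) (Fin 4) F) (hA : A * Algebra.leftMulMatrix b k = Algebra.leftMulMatrix b k * A) :
    ∃ a : K, A = Algebra.leftMulMatrix b a := by
  classical
  set A' : Module.End F K := (LinearMap.toMatrixAlgEquiv b).symm A with hA'
  have hkey : ∀ y, A' (k * y) = k * A' y := by
    have h1 : A' * LinearMap.mulLeft F k = LinearMap.mulLeft F k * A' := by
      apply (LinearMap.toMatrixAlgEquiv b).injective
      rw [map_mul, map_mul, hA', AlgEquiv.apply_symm_apply]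
      have h2 : (LinearMap.toMatrixAlgEquiv b) (LinearMap.mulLeft F k) = Algebra.leftMulMatrix b k :=
        Algebra.toMatrix_lmul_eq b k
      rw [h2, hA]
    intro y
    exact congrArg (fun f : Module.End F K ↦ f y) h1
  let L : IntermediateField F K :=
    { carrier := {z | ∀ y, A' (z * y) = z * A' y}
      mul_mem' := by
        intro a c ha hc y
        change A' (a * c * y) = a * c * A' y
        rw [mul_assoc, ha, hc, mul_assoc]
      one_mem' := by
        intro y
        simp
      add_mem' := by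
        intro a c ha hc y
        change A' ((a + c) * y) = (a + c) * A' y
        rw [add_mul, map_add, ha, hc, add_mul]
      zero_mem' := by
        intro y
        simp
      algebraMap_mem' := by
        intro r y
        rw [← Algebra.smul_def, ← Algebra.smul_def, map_smul]
      inv_mem' := by
        intro a ha y
        change A' (a⁻¹ * y) = a⁻¹ * A' y
        by_cases ha0 : a = 0
        · subst ha0
          simp
        · have h3 := ha (a⁻¹ * y)
          rw [mul_inv_cancel_left₀ ha0] at h3
          rw [h3, inv_mul_cancel_left₀ ha0] }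
  have hL : L = ⊤ := eq_top_of_mem hK hp2 h hk hk1 L hkey
  have hall : ∀ z, ∀ y, A' (z * y) = z * A' y := by
    intro z
    have : z ∈ L := by
      rw [hL]
      exact IntermediateField.mem_top
    exact this
  refine ⟨A' 1, ?_⟩
  have h4 : A' = LinearMap.mulLeft F (A' 1) := by
    ext y
    have := hall y 1
    rw [mul_one] at this
    rw [this, LinearMap.mulLeft_apply, mul_comm]
  have h5 : A = (LinearMap.toMatrixAlgEquiv b) A' := by
    rw [hA', AlgEquiv.apply_symm_apply]
  have h6 : (LinearMap.toMatrixAlgEquiv b) (LinearMap.mulLeft F (A' 1)) = Algebra.leftMulMatrix b (A' 1) :=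
    Algebra.toMatrix_lmul_eq b (A' 1)
  rw [h5]
  conv_lhs => rw [h4]
  exact h6

end Field

section Main

variable {F : Type*} [Field F] [Fintype F]

/-- There is an extension of degree four. -/
theorem exists_ext : ∃ (K : Type) (_ : Field K) (_ : Algebra F K) (_ : Finite K),
    Module.finrank F K = 4 := by
  have hp : Fact (ringChar F).Prime := ⟨CharP.char_is_prime F _⟩
  have hne : NeZero 4 := ⟨by norm_num⟩
  have hfin : Finite (FiniteField.Extension F (ringChar F) 4) :=
    Module.finite_of_finite F
  exact ⟨FiniteField.Extension F (ringChar F) 4, inferInstance, inferInstance, hfin,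
    FiniteField.finrank_extension F (ringChar F) 4⟩

theorem sylow_cyclic_gl4_aux {K : Type*} [Field K] [Algebra F K] [Finite K] (hK : Module.finrank F K = 4)
    {p : ℕ} [hp : Fact p.Prime] (hp2 : p ≠ 2) (h : p ∣ (Fintype.card F) ^ 2 + 1)
    (S : Sylow p (GL (Fin 4) F)) : IsCyclic S := by
  let b : Module.Basis (Fin 4) F K := Module.finBasisOfFinrankEq F K hK
  have : IsCyclic (singer b).range := by
    haveI : IsCyclic Kˣ := inferInstance
    exact isCyclic_of_surjective (singer b).rangeRestrict (singer b).rangeRestrict_surjective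
  exact sylow_cyclic_of_sub (singer b).range (factorization_singer b hK hp2 h) S

theorem sylow_cyclic_gl4 {p : ℕ} [hp : Fact p.Prime] (hp2 : p ≠ 2) (h : p ∣ (Fintype.card F) ^ 2 + 1)
    (S : Sylow p (GL (Fin 4) F)) : IsCyclic S := by
  obtain ⟨K, i1, i2, i3, hK⟩ := exists_ext (F := F)
  exact sylow_cyclic_gl4_aux hK hp2 h S

theorem centralizer_comm_aux {K : Type*} [Field K] [Algebra F K] [Finite K] (hK : Module.finrank F K = 4)
    {p : ℕ} [hp : Fact p.Prime] (hp2 : p ≠ 2) (h : p ∣ (Fintype.card F) ^ 2 + 1)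
    (x : GL (Fin 4) F) (hx : x ^ p = 1) (hx1 : x ≠ 1) (A B : GL (Fin 4) F)
    (hA : A * x = x * A) (hB : B * x = x * B) : A * B = B * A := by
  let b : Module.Basis (Fin 4) F K := Module.finBasisOfFinrankEq F K hK
  have hpg : IsPGroup p (Subgroup.zpowers x) := by
    rintro ⟨y, n, rfl⟩
    refine ⟨1, ?_⟩
    apply Subtype.ext
    change (x ^ n) ^ (p ^ 1) = 1
    rw [pow_one, ← zpow_natCast, zpow_comm, zpow_natCast, hx, one_zpow]
  obtain ⟨S, hS⟩ := hpg.exists_le_sylow
  obtain ⟨g, hg⟩ := exists_conj_of_card (singer b).range (factorization_singer b hK hp2 h) S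
  obtain ⟨k, hk⟩ := hg x (hS (Subgroup.mem_zpowers x))
  have hk1 : (k : K) ≠ 1 := by
    intro h1
    have h2 : k = 1 := Units.ext h1
    rw [h2, map_one] at hk
    apply hx1
    have : g * x * g⁻¹ = 1 := hk.symm
    have h3 : x = g⁻¹ * (g * x * g⁻¹) * g := by group
    rw [h3, this]
    group
  have hkp : (k : K) ^ p = 1 := by
    have h3 : singer b (k ^ p) = 1 := by
      rw [map_pow, hk]
      have : (g * x * g⁻¹) ^ p = g * x ^ p * g⁻¹ := by
        rw [conj_pow]
      rw [this, hx]
      group
    have h4 : k ^ p = 1 := by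
      apply singer_injective b
      rw [h3, map_one]
    have := congrArg Units.val h4
    simpa using this
  have key : ∀ C : GL (Fin 4) F, C * x = x * C → ∃ a : K,
      ((g * C * g⁻¹ : GL (Fin 4) F) : Matrix (Fin 4) (Fin 4) F) = Algebra.leftMulMatrix b a := by
    intro C hC
    apply exists_of_commute b hK hp2 h hkp hk1
    have h3 : (g * C * g⁻¹) * singer b k = singer b k * (g * C * g⁻¹) := by
      rw [hk]
      calc g * C * g⁻¹ * (g * x * g⁻¹) = g * (C * x) * g⁻¹ := by group
        _ = g * (x * C) * g⁻¹ := by rw [hC]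
        _ = _ := by group
    have := congrArg Units.val h3
    simpa only [Units.val_mul, singer_val] using this
  obtain ⟨a, ha⟩ := key A hA
  obtain ⟨c, hc⟩ := key B hB
  have h5 : (g * A * g⁻¹) * (g * B * g⁻¹) = (g * B * g⁻¹) * (g * A * g⁻¹) := by
    apply Units.ext
    change (g * A * g⁻¹).1 * (g * B * g⁻¹).1 = (g * B * g⁻¹).1 * (g * A * g⁻¹).1
    rw [ha, hc, ← map_mul, ← map_mul, mul_comm]
  have h6 : g * (A * B) * g⁻¹ = g * (B * A) * g⁻¹ := by
    calc g * (A * B) * g⁻¹ = (g * A * g⁻¹) * (g * B * g⁻¹) := by group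
      _ = (g * B * g⁻¹) * (g * A * g⁻¹) := h5
      _ = _ := by group
  have h7 := mul_right_cancel h6
  exact mul_left_cancel h7

/-- The centraliser of an element of order `p` in `GL₄(q)`, `p` odd and `p ∣ q² + 1`, is abelian. -/
theorem centralizer_comm {p : ℕ} [hp : Fact p.Prime] (hp2 : p ≠ 2) (h : p ∣ (Fintype.card F) ^ 2 + 1)
    (x : GL (Fin 4) F) (hx : x ^ p = 1) (hx1 : x ≠ 1) (A B : GL (Fin 4) F)
    (hA : A * x = x * A) (hB : B * x = x * B) : A * B = B * A := by
  obtain ⟨K, i1, i2, i3, hK⟩ := exists_ext (F := F)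
  exact centralizer_comm_aux hK hp2 h x hx hx1 A B hA hB

end Main

end Cfsg.Agent.Lib.SzSinger
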