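import Cfsg.Agent.Lib.Suzuki4
import Cfsg.Agent.Lib.SzSinger

/-! Odd Sylow subgroups and centralisers in the Suzuki groups. -/

set_option autoImplicit false
set_option linter.unusedSectionVars false
set_option linter.unusedVariables false
set_option linter.unusedSimpArgs false

namespace Cfsg.Agent.Lib.Suzuki

open Cfsg
open scoped Matrix MatrixGroups LinearAlgebra.Projectivization Pointwise commutatorElement

variable {F : Type*} [Field F] [Fintype F] {m : ℕ} [CharP F 2]
variable (hs : SqProp F m)

/-- The diagonal homomorphism. -/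
noncomputable def dgHom (hs : SqProp F m) : Fˣ →* Sz F m where
  toFun α := ⟨dg m α, dg_mem hs α⟩
  map_one' := Subtype.ext dg_one
  map_mul' α β := Subtype.ext (dg_mul α β)

theorem dgHom_injective : Function.Injective (dgHom hs) := by
  intro α β h
  exact dg_inj (congrArg Subtype.val h)

theorem card_dgHom_range : Nat.card (dgHom hs).range = Fintype.card F - 1 := by
  rw [← Nat.card_congr (MonoidHom.ofInjective (dgHom_injective hs)).toEquiv, Nat.card_units,
    Nat.card_eq_fintype_card]

instance : IsCyclic (dgHom hs).range :=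
  isCyclic_of_surjective (dgHom hs).rangeRestrict (dgHom hs).rangeRestrict_surjective

/-- The inclusion of the Suzuki group in `GL₄`. -/
noncomputable def toGL (F : Type*) [Field F] (m : ℕ) : Sz F m →* GL (Fin 4) F :=
  Matrix.SpecialLinearGroup.toGL.comp (Sz F m).subtype

theorem toGL_injective : Function.Injective (toGL F m) := by
  intro x y h
  exact Subtype.ext (Matrix.SpecialLinearGroup.toGL_injective h)

theorem isCyclic_sylow (hm : 1 ≤ m) (hF : Fintype.card F = 2 ^ (2 * m + 1)) {p : ℕ} [hp : Fact p.Prime]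
    (hp2 : p ≠ 2) (P : Sylow p (Sz F m)) : IsCyclic P := by
  have hs := sqProp (m := m) hF
  by_cases h : p ∣ (Fintype.card F) ^ 2 + 1
  · exact SzSinger.cyclic_of_hom (P : Subgroup (Sz F m)) P.isPGroup' (toGL F m) toGL_injective
      (fun S ↦ SzSinger.sylow_cyclic_gl4 hp2 h S)
  · refine SzSinger.sylow_cyclic_of_sub (dgHom hs).range ?_ P
    have hpq : ¬ p ∣ Fintype.card F := by
      intro hd
      rw [hF] at hd
      have := hp.out.dvd_of_dvd_pow hd
      exact hp2 ((Nat.prime_dvd_prime_iff_eq hp.out Nat.prime_two).1 this)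
    have hpq2 : ¬ p ∣ (Fintype.card F) ^ 2 := fun hd ↦ hpq (hp.out.dvd_of_dvd_pow hd)
    have hq : 2 ≤ Fintype.card F := Fintype.one_lt_card
    have h0 : Fintype.card F - 1 ≠ 0 := by omega
    rw [card_dgHom_range, card_Sz hs (four_le hm) (s_lt hm hF),
      show (Fintype.card F) ^ 2 * ((Fintype.card F) ^ 2 + 1) * (Fintype.card F - 1) =
        (Fintype.card F - 1) * ((Fintype.card F) ^ 2 * ((Fintype.card F) ^ 2 + 1)) by ring,
      SzSinger.factorization_mul_not_dvd h0]
    intro hd
    rcases (Nat.Prime.dvd_mul hp.out).1 hd with hd | hd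
    · exact hpq2 hd
    · exact h hd

end Cfsg.Agent.Lib.Suzuki
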