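import Cfsg.Agent.Lib.Suzuki5

/-! The Suzuki groups are CN-groups. -/

set_option autoImplicit false
set_option linter.unusedSectionVars false
set_option linter.unusedVariables false
set_option linter.unusedSimpArgs false

namespace Cfsg.Agent.Lib.Suzuki

open Cfsg
open scoped Matrix MatrixGroups LinearAlgebra.Projectivization Pointwise commutatorElement

/-- Nilpotency passes to a subgroup conjugated into a nilpotent subgroup. -/
theorem nilp_of_conj_le {G : Type*} [Group G] (S C : Subgroup G) [Group.IsNilpotent S] (k : G)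
    (h : ∀ g ∈ C, k * g * k⁻¹ ∈ S) : Group.IsNilpotent C := by
  let f : C →* S :=
    { toFun := fun g ↦ ⟨k * g.1 * k⁻¹, h g.1 g.2⟩
      map_one' := by
        apply Subtype.ext
        change k * 1 * k⁻¹ = 1
        group
      map_mul' := fun x y ↦ by
        apply Subtype.ext
        change k * (x.1 * y.1) * k⁻¹ = (k * x.1 * k⁻¹) * (k * y.1 * k⁻¹)
        group }
  have hinj : Function.Injective f := by
    intro x y hxy
    have h1 : k * x.1 * k⁻¹ = k * y.1 * k⁻¹ := congrArg Subtype.val hxy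
    apply Subtype.ext
    simpa using h1
  exact Subgroup.isNilpotent_of_ker_le_center f (by
    rw [(MonoidHom.ker_eq_bot_iff f).2 hinj]
    exact bot_le)

variable {F : Type*} [Field F] [Fintype F] {m : ℕ} [CharP F 2]
variable (hs : SqProp F m)
include hs

omit [Fintype F] in
theorem tr_dg_smul (a b x y : F) (α : Fˣ) : (tr m a b * dg m α) • P m x y =
    P m ((α : F) * x + a) ((α : F) ^ (2 ^ (m + 1) + 1) * y + b + a ^ (2 ^ (m + 1)) * ((α : F) * x)) := by
  rw [mul_smul, dg_smul_P hs, tr_smul_P hs]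

omit [Fintype F] in
theorem pow_s_ne_one {α : Fˣ} (hα : α ≠ 1) : (α : F) ^ (2 ^ (m + 1) + 1) ≠ 1 := by
  intro h
  exact hα (Units.ext (pow_succ_s_eq_one hs h))

omit [Fintype F] in
/-- Elements with a nontrivial diagonal part have an affine fixed point. -/
theorem second_fixed (a b : F) {α : Fˣ} (hα : α ≠ 1) :
    ∃ x y : F, (tr m a b * dg m α) • P m x y = P m x y := by
  have h2 : (2 : F) = 0 := two_eq
  have h1 : (α : F) + 1 ≠ 0 := by
    intro h
    apply hα
    apply Units.ext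
    have : (α : F) = 1 := by linear_combination h - h2
    exact this
  have h3 : (α : F) ^ (2 ^ (m + 1) + 1) + 1 ≠ 0 := by
    intro h
    apply pow_s_ne_one hs hα
    linear_combination h - h2
  obtain ⟨x, hx⟩ : ∃ x, x * ((α : F) + 1) = a := ⟨a / ((α : F) + 1), by field_simp⟩
  have hx1 : (α : F) * x + a = x := by
    linear_combination (-1) * hx + ((α : F) * x) * h2
  obtain ⟨y, hy⟩ : ∃ y, y * ((α : F) ^ (2 ^ (m + 1) + 1) + 1) = b + a ^ (2 ^ (m + 1)) * ((α : F) * x) :=
    ⟨(b + a ^ (2 ^ (m + 1)) * ((α : F) * x)) / ((α : F) ^ (2 ^ (m + 1) + 1) + 1), by field_simp⟩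
  have hy1 : (α : F) ^ (2 ^ (m + 1) + 1) * y + b + a ^ (2 ^ (m + 1)) * ((α : F) * x) = y := by
    linear_combination (-1) * hy + ((α : F) ^ (2 ^ (m + 1) + 1) * y) * h2
  exact ⟨x, y, by rw [tr_dg_smul hs, hx1, hy1]⟩

omit [Fintype F] in
theorem tr_dg_eq_one {c e : F} {β : Fˣ} (h : tr m c e * dg m β = 1) : β = 1 := by
  have h1 := tr_dg_smul hs c e 0 0 β
  rw [h, one_smul] at h1
  have h2 := (P_inj h1).1
  have h3 := tr_dg_smul hs c e 1 0 β
  rw [h, one_smul] at h3
  have h4 := (P_inj h3).1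
  simp at h2
  apply Units.ext
  simpa [← h2] using h4.symm

omit [Fintype F] in
/-- Nontrivial translations have no affine fixed points. -/
theorem tr_no_fixed {a b : F} (hab : ¬ (a = 0 ∧ b = 0)) (x y : F) : tr m a b • P m x y ≠ P m x y := by
  intro h
  rw [tr_smul_P hs] at h
  obtain ⟨h1, h2⟩ := P_inj h
  have ha : a = 0 := by simpa using h1
  subst ha
  apply hab
  refine ⟨rfl, ?_⟩
  rw [zero_pow (by positivity), zero_mul, add_zero] at h2
  simpa using h2

omit [Fintype F] in
theorem dg_no_fixed {γ : Fˣ} (hγ : γ ≠ 1) {x y : F} (h : dg m γ • P m x y = P m x y) : x = 0 ∧ y = 0 := by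
  rw [dg_smul_P hs] at h
  obtain ⟨h1, h2⟩ := P_inj h
  constructor
  · by_contra hx
    apply hγ
    apply Units.ext
    exact mul_right_cancel₀ hx (by rw [h1, Units.val_one, one_mul])
  · by_contra hy
    apply pow_s_ne_one hs hγ
    exact mul_right_cancel₀ hy (by rw [h2, one_mul])

variable (h4 : 4 ≤ 2 ^ (m + 1)) (hq : 2 ^ (m + 1) + 2 < Fintype.card F)
include h4 hq

/-- The centraliser of a translation consists of translations. -/
theorem comm_tr {a b : F} (hab : ¬ (a = 0 ∧ b = 0)) {g : SL(4, F)} (hg : g ∈ Sz F m)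
    (hc : g * tr m a b = tr m a b * g) : ∃ c e, g = tr m c e := by
  have hfix : ∀ p : ℙ F (Fin 4 → F), tr m a b • p = p → tr m a b • (g • p) = g • p := by
    intro p hp
    rw [← mul_smul, ← hc, mul_smul, hp]
  have h1 : g • suzukiPointInfinity F = suzukiPointInfinity F := by
    have h0 : g • suzukiPointInfinity F ∈ suzukiOvoid F m := smul_mem_ovoid hg (mem_ovoid.2 (Or.inl rfl))
    rcases mem_ovoid.1 h0 with h2 | ⟨x, y, h2⟩
    · exact h2
    · exfalso
      have h3 := hfix _ (tr_smul_inf a b)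
      rw [h2] at h3
      exact tr_no_fixed hs hab x y h3
  obtain ⟨c, e, β, rfl⟩ := stab_inf hs h4 hq hg h1
  by_cases hβ : β = 1
  · exact ⟨c, e, by rw [hβ, dg_one, mul_one]⟩
  exfalso
  obtain ⟨x, y, hxy⟩ := second_fixed hs c e hβ
  set g := tr m c e * dg m β with hgdef
  have h5 : g • (tr m a b • P m x y) = tr m a b • P m x y := by
    rw [← mul_smul, hc, mul_smul, hxy]
  obtain ⟨x', y', hxy'⟩ : ∃ x' y', tr m a b • P m x y = P m x' y' := ⟨_, _, tr_smul_P hs a b x y⟩
  rw [hxy'] at h5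
  have h6 := fix_three hs h4 hq ⟨g, hg⟩ (ptInf F m) (ptP m x y) (ptP m x' y')
    (fun h ↦ P_ne_inf x y (congrArg Subtype.val h).symm)
    (fun h ↦ by
      have h7 : P m x y = P m x' y' := congrArg Subtype.val h
      exact tr_no_fixed hs hab x y (by rw [hxy', h7]))
    (fun h ↦ P_ne_inf x' y' (congrArg Subtype.val h).symm)
    (Subtype.ext h1) (Subtype.ext hxy) (Subtype.ext h5)
  exact hβ (tr_dg_eq_one hs (congrArg Subtype.val h6))

/-- The centraliser of a nontrivial diagonal element consists of diagonal elements. -/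
theorem comm_dg {γ : Fˣ} (hγ : γ ≠ 1) {g : SL(4, F)} (hg : g ∈ Sz F m)
    (hc : g * dg m γ = dg m γ * g) : ∃ δ, g = dg m δ := by
  have h2' : (2 : F) = 0 := two_eq
  have hfix : ∀ p : ℙ F (Fin 4 → F), dg m γ • p = p → dg m γ • (g • p) = g • p := by
    intro p hp
    rw [← mul_smul, ← hc, mul_smul, hp]
  have hfix0 : dg m γ • P m (0 : F) 0 = P m (0 : F) 0 := by
    rw [dg_smul_P hs]
    simp
  have hc0 : ∀ p : ℙ F (Fin 4 → F), p ∈ suzukiOvoid F m → dg m γ • p = p →
      g • p = suzukiPointInfinity F ∨ g • p = P m (0 : F) 0 := by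
    intro p hp hpf
    have h0 : g • p ∈ suzukiOvoid F m := smul_mem_ovoid hg hp
    rcases mem_ovoid.1 h0 with h2 | ⟨x, y, h2⟩
    · exact Or.inl h2
    · right
      have h3 := hfix _ hpf
      rw [h2] at h3
      obtain ⟨rfl, rfl⟩ := dg_no_fixed hs hγ h3
      exact h2
  have hi := hc0 _ (mem_ovoid.2 (Or.inl rfl)) (dg_smul_inf γ)
  have h0 := hc0 _ (mem_ovoid.2 (Or.inr ⟨0, 0, rfl⟩)) hfix0
  have hne : P m (0 : F) 0 ≠ suzukiPointInfinity F := P_ne_inf _ _
  rcases hi with hi | hi
  · rcases h0 with h0 | h0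
    · exfalso
      apply hne
      exact smul_left_cancel g (by rw [h0, hi])
    · exact two_pt hs h4 hq hg hi h0
  · rcases h0 with h0 | h0
    · exfalso
      -- `g` swaps the two points
      have hg' : g * wS F ∈ Sz F m := mul_mem hg (wS_mem hs)
      obtain ⟨δ, hδ⟩ := two_pt hs h4 hq hg' (by rw [mul_smul, wS_smul_inf, h0])
        (by rw [mul_smul, wS_smul_zero, hi])
      have hg2 : g = dg m δ * wS F := by
        rw [← hδ, mul_assoc, wS_sq, mul_one]
      have hcomm : dg m γ * dg m δ = dg m δ * dg m γ := by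
        rw [← dg_mul, ← dg_mul, mul_comm]
      have h5 : wS F * dg m γ = dg m γ * wS F := by
        rw [hg2] at hc
        have h6 : dg m δ * (wS F * dg m γ) = dg m δ * (dg m γ * wS F) := by
          rw [← mul_assoc, hc, ← mul_assoc, ← mul_assoc, hcomm]
        exact mul_left_cancel h6
      have h5' : suzukiForm F * dgM m γ = dgM m γ * suzukiForm F := congrArg Subtype.val h5
      have h0' : (γ : F) ≠ 0 := γ.ne_zero
      have hr : (γ : F) ^ (2 ^ m) ≠ 0 := pow_ne_zero _ h0'
      have e1 := congrFun (congrFun h5' 1) 2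
      have e2 := congrFun (congrFun h5' 0) 3
      simp [suzukiForm, dgM, Matrix.mul_apply, Fin.sum_univ_four] at e1 e2
      -- `r⁻¹ = r` and `A⁻¹ = A`
      set r := (γ : F) ^ (2 ^ m) with hrdef
      have hr2 : r = 1 := by
        have h7 : (r + 1) ^ 2 = 0 := by
          have : r * r = 1 := by
            have h8 : r⁻¹ * r = r * r := by rw [e1]
            rw [inv_mul_cancel₀ hr] at h8
            exact h8.symm
          linear_combination this + (r + 1) * h2'
        have h9 : r + 1 = 0 := pow_eq_zero_iff (by norm_num) |>.1 h7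
        linear_combination h9 - h2'
      rw [hr2] at e2
      simp at e2
      have h10 : (γ : F) = 1 := by
        have h7 : ((γ : F) + 1) ^ 2 = 0 := by
          have : (γ : F) * (γ : F) = 1 := by
            have h8 : (γ : F)⁻¹ * (γ : F) = (γ : F) * (γ : F) := by rw [e2]
            rw [inv_mul_cancel₀ h0'] at h8
            exact h8.symm
          linear_combination this + ((γ : F) + 1) * h2'
        have h9 : (γ : F) + 1 = 0 := pow_eq_zero_iff (by norm_num) |>.1 h7
        linear_combination h9 - h2'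
      exact hγ (Units.ext h10)
    · exfalso
      apply hne
      exact smul_left_cancel g (by rw [h0, hi])

/-- Every nontrivial element with a fixed point is conjugate to a translation or a diagonal element. -/
theorem conj_of_fixed (y : Sz F m) (hy : y ≠ 1) (c : suzukiOvoid F m) (hc : y • c = c) :
    ∃ k : Sz F m, (∃ a b : F, ¬ (a = 0 ∧ b = 0) ∧ (k * y * k⁻¹).1 = tr m a b) ∨
      ∃ γ : Fˣ, γ ≠ 1 ∧ (k * y * k⁻¹).1 = dg m γ := by
  obtain ⟨k₀, hk₀, hk₀c⟩ := exists_to_inf hs c.2
  have hc' : y.1 • c.1 = c.1 := congrArg Subtype.val hc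
  have h1 : (k₀ * y.1 * k₀⁻¹) • suzukiPointInfinity F = suzukiPointInfinity F := by
    rw [← hk₀c, ← mul_smul]
    rw [show k₀ * y.1 * k₀⁻¹ * k₀ = k₀ * y.1 by group, mul_smul, hc']
  have hm1 : k₀ * y.1 * k₀⁻¹ ∈ Sz F m := mul_mem (mul_mem hk₀ y.2) (inv_mem hk₀)
  obtain ⟨a, b, α, hab⟩ := stab_inf hs h4 hq hm1 h1
  have hne1 : ∀ k : Sz F m, k * y * k⁻¹ ≠ 1 := by
    intro k hk
    apply hy
    have : y = k⁻¹ * (k * y * k⁻¹) * k := by group
    rw [this, hk]
    group
  by_cases hα : α = 1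
  · refine ⟨⟨k₀, hk₀⟩, Or.inl ⟨a, b, ?_, ?_⟩⟩
    · rintro ⟨rfl, rfl⟩
      apply hne1 ⟨k₀, hk₀⟩
      apply Subtype.ext
      change k₀ * y.1 * k₀⁻¹ = 1
      rw [hab, hα, dg_one, mul_one, tr_zero]
    · change k₀ * y.1 * k₀⁻¹ = tr m a b
      rw [hab, hα, dg_one, mul_one]
  · obtain ⟨x, z, hxz⟩ := second_fixed hs a b hα
    have hk1 : (tr m x z)⁻¹ * k₀ ∈ Sz F m := mul_mem (inv_mem (tr_mem hs x z)) hk₀
    set k := (tr m x z)⁻¹ * k₀ with hk
    have e : k * y.1 * k⁻¹ = (tr m x z)⁻¹ * (tr m a b * dg m α) * (tr m x z) := by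
      rw [← hab, hk]
      group
    have h2 : (k * y.1 * k⁻¹) • suzukiPointInfinity F = suzukiPointInfinity F := by
      rw [e, mul_smul, mul_smul, tr_smul_inf, ← hab, h1, tr_inv_smul_inf hs]
    have h3 : (k * y.1 * k⁻¹) • P m (0 : F) 0 = P m (0 : F) 0 := by
      rw [e, mul_smul, mul_smul, tr_smul_zero hs, hxz, tr_inv_smul hs]
    have hm2 : k * y.1 * k⁻¹ ∈ Sz F m := mul_mem (mul_mem hk1 y.2) (inv_mem hk1)
    obtain ⟨γ, hγ⟩ := two_pt hs h4 hq hm2 h2 h3
    refine ⟨⟨k, hk1⟩, Or.inr ⟨γ, ?_, hγ⟩⟩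
    rintro rfl
    apply hne1 ⟨k, hk1⟩
    apply Subtype.ext
    change k * y.1 * k⁻¹ = 1
    rw [hγ, dg_one]

/-- Elements with a fixed point have nilpotent centraliser, fixing a point. -/
theorem fixed_centralizer (y : Sz F m) (hy : y ≠ 1) (c : suzukiOvoid F m) (hc : y • c = c) :
    Group.IsNilpotent (Subgroup.centralizer ({y} : Set (Sz F m))) ∧
      ∃ d : suzukiOvoid F m, ∀ g ∈ Subgroup.centralizer ({y} : Set (Sz F m)), g • d = d := by
  classical
  obtain ⟨k, hk⟩ := conj_of_fixed hs h4 hq y hy c hc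
  have hcomm : ∀ g ∈ Subgroup.centralizer ({y} : Set (Sz F m)),
      (k * g * k⁻¹) * (k * y * k⁻¹) = (k * y * k⁻¹) * (k * g * k⁻¹) := by
    intro g hg
    have h1 : y * g = g * y := Subgroup.mem_centralizer_iff.1 hg y rfl
    calc (k * g * k⁻¹) * (k * y * k⁻¹) = k * (g * y) * k⁻¹ := by group
      _ = k * (y * g) * k⁻¹ := by rw [h1]
      _ = _ := by group
  have hpt : (∀ g ∈ Subgroup.centralizer ({y} : Set (Sz F m)), (k * g * k⁻¹) • ptInf F m = ptInf F m) →
      ∃ d : suzukiOvoid F m, ∀ g ∈ Subgroup.centralizer ({y} : Set (Sz F m)), g • d = d := by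
    intro h
    refine ⟨k⁻¹ • ptInf F m, fun g hg ↦ ?_⟩
    have h1 := h g hg
    calc g • k⁻¹ • ptInf F m = (k⁻¹ * (k * g * k⁻¹)) • ptInf F m := by
          rw [← mul_smul]
          congr 1
          group
      _ = k⁻¹ • ptInf F m := by rw [mul_smul, h1]
  rcases hk with ⟨a, b, hab, hy'⟩ | ⟨γ, hγ, hy'⟩
  · have hmem : ∀ g ∈ Subgroup.centralizer ({y} : Set (Sz F m)), k * g * k⁻¹ ∈ T hs := by
      intro g hg
      have h1 := congrArg Subtype.val (hcomm g hg)
      have h2 : (k * g * k⁻¹).1 * (k * y * k⁻¹).1 = (k * y * k⁻¹).1 * (k * g * k⁻¹).1 := h1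
      rw [hy'] at h2
      exact comm_tr hs h4 hq hab (k * g * k⁻¹).2 h2
    haveI : Group.IsNilpotent (T hs) := by
      have hp : IsPGroup 2 (T hs) := by
        obtain ⟨n, -, hn⟩ := FiniteField.card F 2
        apply IsPGroup.of_card (n := (n : ℕ) * 2)
        rw [card_T, hn, pow_mul]
      exact hp.isNilpotent
    refine ⟨nilp_of_conj_le (T hs) _ k hmem, hpt fun g hg ↦ ?_⟩
    obtain ⟨c, e, h⟩ := hmem g hg
    apply Subtype.ext
    change (k * g * k⁻¹).1 • suzukiPointInfinity F = suzukiPointInfinity F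
    rw [h, tr_smul_inf]
  · have hmem : ∀ g ∈ Subgroup.centralizer ({y} : Set (Sz F m)), k * g * k⁻¹ ∈ (dgHom hs).range := by
      intro g hg
      have h1 := congrArg Subtype.val (hcomm g hg)
      have h2 : (k * g * k⁻¹).1 * (k * y * k⁻¹).1 = (k * y * k⁻¹).1 * (k * g * k⁻¹).1 := h1
      rw [hy'] at h2
      obtain ⟨δ, hδ⟩ := comm_dg hs h4 hq hγ (k * g * k⁻¹).2 h2
      exact ⟨δ, Subtype.ext hδ.symm⟩
    haveI : Group.IsNilpotent (dgHom hs).range := by
      letI := IsCyclic.commGroup (α := (dgHom hs).range)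
      exact CommGroup.isNilpotent
    refine ⟨nilp_of_conj_le (dgHom hs).range _ k hmem, hpt fun g hg ↦ ?_⟩
    obtain ⟨δ, h⟩ := hmem g hg
    apply Subtype.ext
    change (k * g * k⁻¹).1 • suzukiPointInfinity F = suzukiPointInfinity F
    rw [← h]
    exact dg_smul_inf δ

/-- The Suzuki groups are CN-groups. -/
theorem isCN (hF : Fintype.card F = 2 ^ (2 * m + 1)) : IsCNGroup (Sz F m) := by
  classical
  intro x hx
  by_cases hfix : ∃ c : suzukiOvoid F m, x • c = c
  · obtain ⟨c, hc⟩ := hfix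
    exact (fixed_centralizer hs h4 hq x hx c hc).1
  push Not at hfix
  have hord : orderOf x ≠ 1 := by rwa [Ne, orderOf_eq_one_iff]
  have hn0 : orderOf x ≠ 0 := (orderOf_pos x).ne'
  set r := (orderOf x).minFac with hr
  have hrp : r.Prime := Nat.minFac_prime hord
  haveI : Fact r.Prime := ⟨hrp⟩
  have hrd : r ∣ orderOf x := Nat.minFac_dvd _
  set y := x ^ (orderOf x / r) with hy
  have hyo : orderOf y = r := orderOf_pow_orderOf_div hn0 hrd
  have hy1 : y ≠ 1 := by
    intro h
    rw [h, orderOf_one] at hyo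
    exact hrp.one_lt.ne hyo
  have hyr : y ^ r = 1 := by
    rw [← hyo]
    exact pow_orderOf_eq_one y
  have hxy : x ∈ Subgroup.centralizer ({y} : Set (Sz F m)) := by
    rw [Subgroup.mem_centralizer_iff]
    rintro _ rfl
    exact ((Commute.refl x).pow_left _).eq
  have hle : ∀ g ∈ Subgroup.centralizer ({x} : Set (Sz F m)), y * g = g * y := by
    intro g hg
    have h1 : x * g = g * x := Subgroup.mem_centralizer_iff.1 hg x rfl
    have h2 : Commute x g := h1
    exact (h2.pow_left _).eq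
  have hnf : ∀ c : suzukiOvoid F m, y • c ≠ c := by
    intro c hc
    obtain ⟨-, d, hd⟩ := fixed_centralizer hs h4 hq y hy1 c hc
    exact hfix d (hd x hxy)
  have hpg : IsPGroup r (Subgroup.zpowers y) := by
    rintro ⟨z, n, rfl⟩
    refine ⟨1, ?_⟩
    apply Subtype.ext
    change (y ^ n) ^ (r ^ 1) = 1
    rw [pow_one, ← zpow_natCast, zpow_comm, zpow_natCast, hyr, one_zpow]
  have hc : Nat.card (suzukiOvoid F m) = (Fintype.card F) ^ 2 + 1 := card_ovoid hs h4 hq
  haveI : Finite (suzukiOvoid F m) := Nat.finite_of_card_ne_zero (by omega)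
  have hmod := hpg.card_modEq_card_fixedPoints (suzukiOvoid F m)
  have hemp : Nat.card (MulAction.fixedPoints (Subgroup.zpowers y) (suzukiOvoid F m)) = 0 := by
    rw [Nat.card_eq_zero]
    left
    constructor
    rintro ⟨c, hc⟩
    exact hnf c (hc ⟨y, Subgroup.mem_zpowers y⟩)
  rw [hemp, hc] at hmod
  have hrd2 : r ∣ (Fintype.card F) ^ 2 + 1 := (Nat.modEq_zero_iff_dvd).1 hmod
  have hr2 : r ≠ 2 := by
    intro h
    rw [h, hF] at hrd2
    have h1 : 2 ∣ (2 ^ (2 * m + 1)) ^ 2 := by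
      apply dvd_pow _ (by norm_num)
      exact dvd_pow_self _ (by omega)
    have := (Nat.dvd_add_right h1).1 hrd2
    omega
  have hcomm : ∀ A ∈ Subgroup.centralizer ({x} : Set (Sz F m)),
      ∀ B ∈ Subgroup.centralizer ({x} : Set (Sz F m)), A * B = B * A := by
    intro A hA B hB
    have hA' := hle A hA
    have hB' := hle B hB
    apply toGL_injective (F := F) (m := m)
    rw [map_mul, map_mul]
    apply SzSinger.centralizer_comm hr2 hrd2 (toGL F m y)
    · rw [← map_pow, hyr, map_one]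
    · intro h
      apply hy1
      apply toGL_injective (F := F) (m := m)
      rw [h, map_one]
    · rw [← map_mul, ← map_mul, hA']
    · rw [← map_mul, ← map_mul, hB']
  letI : CommGroup (Subgroup.centralizer ({x} : Set (Sz F m))) :=
    { (inferInstance : Group (Subgroup.centralizer ({x} : Set (Sz F m)))) with
      mul_comm := fun a b ↦ Subtype.ext (hcomm a.1 a.2 b.1 b.2) }
  exact CommGroup.isNilpotent

end Cfsg.Agent.Lib.Suzuki
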