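import Cfsg.Agent.Lib.Suzuki6

/-! Further structure of the Suzuki groups: generation, real elements, maximality of Borel subgroups. -/

set_option autoImplicit false
set_option linter.unusedSectionVars false
set_option linter.unusedVariables false
set_option linter.unusedSimpArgs false

namespace Cfsg.Agent.Lib.Suzuki

open Cfsg
open scoped Matrix MatrixGroups LinearAlgebra.Projectivization Pointwise commutatorElement

variable {F : Type*} [Field F] [Fintype F] {m : ℕ} [CharP F 2]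
variable (hs : SqProp F m)
include hs

omit [Fintype F] in
/-- There is no `t` with `t^s + t = 1`. -/
theorem no_artin {t : F} (h : t ^ (2 ^ (m + 1)) + t = 1) : False := by
  have h2 : (2 : F) = 0 := two_eq
  have h3 : (t ^ (2 ^ (m + 1)) + t) ^ (2 ^ (m + 1)) = 1 := by rw [h, one_pow]
  rw [frob, hs] at h3
  have h5 : t * (t + 1) = 0 := by
    linear_combination h3 - h + t * h2
  rcases mul_eq_zero.1 h5 with h6 | h6
  · rw [h6, zero_pow (by positivity)] at h
    simp at h
  · have h7 : t = 1 := by linear_combination h6 - h2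
    rw [h7] at h
    simp at h

/-- A translation conjugate to its inverse is central. -/
theorem real_tr {a b : F} (hab : ¬ (a = 0 ∧ b = 0)) {x : SL(4, F)} (hx : x ∈ Sz F m)
    (h4 : 4 ≤ 2 ^ (m + 1)) (hq : 2 ^ (m + 1) + 2 < Fintype.card F)
    (hc : x * tr m a b * x⁻¹ = (tr m a b)⁻¹) : a = 0 := by
  by_contra ha
  have h2 : (2 : F) = 0 := two_eq
  rw [tr_inv hs] at hc
  have hab' : ¬ (a = 0 ∧ b + a ^ (2 ^ (m + 1)) * a = 0) := fun h ↦ ha h.1
  have hcomm : x * tr m a b = tr m a (b + a ^ (2 ^ (m + 1)) * a) * x := by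
    rw [← hc]
    group
  have h1 : x • suzukiPointInfinity F = suzukiPointInfinity F := by
    have h0 : x • suzukiPointInfinity F ∈ suzukiOvoid F m := smul_mem_ovoid hx (mem_ovoid.2 (Or.inl rfl))
    rcases mem_ovoid.1 h0 with h3 | ⟨u, v, h3⟩
    · exact h3
    · exfalso
      have h5 : tr m a (b + a ^ (2 ^ (m + 1)) * a) • (x • suzukiPointInfinity F) = x • suzukiPointInfinity F := by
        rw [← mul_smul, ← hcomm, mul_smul, tr_smul_inf]
      rw [h3] at h5
      exact tr_no_fixed hs hab' u v h5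
  obtain ⟨c, e, β, rfl⟩ := stab_inf hs h4 hq hx h1
  have h6 := congrArg (fun g ↦ g • P m (0 : F) 0) hcomm
  simp only [mul_smul] at h6
  rw [tr_smul_P hs, dg_smul_P hs, tr_smul_P hs, dg_smul_P hs, tr_smul_P hs, tr_smul_P hs] at h6
  obtain ⟨h7, h8⟩ := P_inj h6
  simp only [mul_zero, zero_add, add_zero] at h7 h8
  have hβ : (β : F) = 1 := by
    apply mul_right_cancel₀ ha
    linear_combination h7
  rw [hβ] at h8
  simp only [one_pow, one_mul] at h8
  apply no_artin (m := m) hs (t := c / a)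
  have ha2 : a ^ (2 ^ (m + 1)) ≠ 0 := pow_ne_zero _ ha
  rw [div_pow]
  field_simp
  linear_combination h8 + (a ^ (2 ^ (m + 1)) * c) * h2

variable (h4 : 4 ≤ 2 ^ (m + 1)) (hq : 2 ^ (m + 1) + 2 < Fintype.card F)
include h4 hq

/-- Elements agreeing on the affine points are equal. -/
theorem eq_of_agree {g₁ g₂ : SL(4, F)} (h₁ : g₁ ∈ Sz F m) (h₂ : g₂ ∈ Sz F m)
    (h : ∀ x y : F, g₁ • P m x y = g₂ • P m x y) : g₁ = g₂ := by
  have hk : g₁⁻¹ * g₂ ∈ Sz F m := mul_mem (inv_mem h₁) h₂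
  have hfix : ∀ x y : F, (g₁⁻¹ * g₂) • P m x y = P m x y := by
    intro x y
    rw [mul_smul, ← h, inv_smul_smul]
  have h3 := fix_three hs h4 hq ⟨g₁⁻¹ * g₂, hk⟩ (ptP m (0 : F) 0) (ptP m (1 : F) 0) (ptP m (0 : F) 1)
    (fun h ↦ by
      have := (P_inj (congrArg Subtype.val h)).1
      exact zero_ne_one this)
    (fun h ↦ by
      have := (P_inj (congrArg Subtype.val h)).1
      exact one_ne_zero this)
    (fun h ↦ by
      have := (P_inj (congrArg Subtype.val h)).2
      exact zero_ne_one this)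
    (Subtype.ext (hfix 0 0)) (Subtype.ext (hfix 1 0)) (Subtype.ext (hfix 0 1))
  have h5 : g₁⁻¹ * g₂ = 1 := congrArg Subtype.val h3
  exact (inv_mul_eq_one.1 h5)

/-- Conjugation of translations by diagonal elements. -/
theorem dg_tr_conj (δ : Fˣ) (a b : F) :
    dg m δ * tr m a b = tr m ((δ : F) * a) ((δ : F) ^ (2 ^ (m + 1) + 1) * b) * dg m δ := by
  apply eq_of_agree hs h4 hq (mul_mem (dg_mem hs δ) (tr_mem hs a b)) (mul_mem (tr_mem hs _ _) (dg_mem hs δ))
  intro x y
  rw [mul_smul, mul_smul, tr_smul_P hs, dg_smul_P hs, dg_smul_P hs, tr_smul_P hs]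
  congr 1
  · ring
  · rw [mul_pow, pow_succ (δ : F) (2 ^ (m + 1))]
    ring

omit hs h4 hq in
/-- Conjugation of the diagonal elements by `w`. -/
theorem dg_wS (δ : Fˣ) : dg m δ * wS F = wS F * dg m δ⁻¹ := by
  have h0 : (δ : F) ≠ 0 := δ.ne_zero
  have hr : (δ : F) ^ (2 ^ m) ≠ 0 := pow_ne_zero _ h0
  apply Subtype.ext
  change dgM m δ * suzukiForm F = suzukiForm F * dgM m δ⁻¹
  ext i j
  fin_cases i <;> fin_cases j <;> simp [dgM, suzukiForm, Matrix.mul_apply, Fin.sum_univ_four] <;> ring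

/-! ### Group-level notation -/

omit h4 hq in
/-- Translations as elements of the Suzuki group. -/
def trS (hs : SqProp F m) (a b : F) : Sz F m := ⟨tr m a b, tr_mem hs a b⟩

omit h4 hq in
/-- The element `w` of the Suzuki group. -/
def wSz (hs : SqProp F m) : Sz F m := ⟨wS F, wS_mem hs⟩

omit h4 hq in
theorem trS_mul (a b c e : F) : trS hs a b * trS hs c e = trS hs (a + c) (b + e + a ^ (2 ^ (m + 1)) * c) :=
  Subtype.ext (tr_mul hs a b c e)

omit h4 hq in
theorem trS_inv (a b : F) : (trS hs a b)⁻¹ = trS hs a (b + a ^ (2 ^ (m + 1)) * a) :=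
  Subtype.ext (tr_inv hs a b)

omit h4 hq in
theorem trS_zero : trS hs (0 : F) 0 = 1 := Subtype.ext tr_zero

omit h4 hq in
theorem wSz_sq : wSz hs * wSz hs = 1 := Subtype.ext wS_sq

theorem dgS_trS (δ : Fˣ) (a b : F) : dgHom hs δ * trS hs a b =
    trS hs ((δ : F) * a) ((δ : F) ^ (2 ^ (m + 1) + 1) * b) * dgHom hs δ :=
  Subtype.ext (dg_tr_conj hs h4 hq δ a b)

omit h4 hq in
theorem dgS_w (δ : Fˣ) : dgHom hs δ * wSz hs = wSz hs * dgHom hs δ⁻¹ :=
  Subtype.ext (dg_wS δ)

omit h4 hq in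
theorem comm_trS (a b c e : F) : ⁅trS hs a b, trS hs c e⁆ =
    trS hs 0 (a ^ (2 ^ (m + 1)) * c + c ^ (2 ^ (m + 1)) * a) :=
  congrArg Subtype.val (comm_toT hs a b c e)

/-- A subgroup containing all the translations, diagonal elements and `w` is everything. -/
theorem top_of_all (K : Subgroup (Sz F m)) (hT : ∀ a b, trS hs a b ∈ K) (hd : ∀ δ, dgHom hs δ ∈ K)
    (hw : wSz hs ∈ K) : K = ⊤ := by
  rw [eq_top_iff]
  intro g _
  rcases decomp hs h4 hq g.2 with ⟨a, b, α, h⟩ | ⟨a, b, c, e, α, h⟩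
  · have : g = trS hs a b * dgHom hs α := Subtype.ext h
    rw [this]
    exact K.mul_mem (hT a b) (hd α)
  · have : g = trS hs a b * wSz hs * (trS hs c e * dgHom hs α) := Subtype.ext h
    rw [this]
    exact K.mul_mem (K.mul_mem (hT a b) hw) (K.mul_mem (hT c e) (hd α))

/-- A subgroup containing a translation for each first coordinate contains all translations. -/
theorem all_tr_mem (K : Subgroup (Sz F m)) (h : ∀ a : F, a ≠ 0 → ∃ b, trS hs a b ∈ K) :
    ∀ a b, trS hs a b ∈ K := by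
  have h2 : (2 : F) = 0 := two_eq
  have hs₂ : 2 < Fintype.card F := (Nat.le_add_left 2 _).trans_lt hq
  have hZ : ∀ b, trS hs 0 b ∈ K := by
    intro b
    by_cases hb : b = 0
    · subst hb
      rw [trS_zero]
      exact K.one_mem
    obtain ⟨t, ht⟩ := exists_t (m := m) hs hs₂
    have ht0 : t ≠ 0 := by
      rintro rfl
      apply ht
      rw [zero_pow (by positivity), add_zero]
    obtain ⟨a, ha, hroot⟩ := exists_root hs hs₂ (b / (t + t ^ (2 ^ (m + 1)))) (div_ne_zero hb ht)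
    obtain ⟨b₁, h₁⟩ := h a ha
    obtain ⟨b₂, h₂⟩ := h (a * t) (mul_ne_zero ha ht0)
    have hc : ⁅trS hs a b₁, trS hs (a * t) b₂⁆ ∈ K := by
      rw [commutatorElement_def]
      exact K.mul_mem (K.mul_mem (K.mul_mem h₁ h₂) (K.inv_mem h₁)) (K.inv_mem h₂)
    rw [comm_trS] at hc
    have e : a ^ (2 ^ (m + 1)) * (a * t) + (a * t) ^ (2 ^ (m + 1)) * a = b := by
      have h5 : a ^ (2 ^ (m + 1) + 1) * (t + t ^ (2 ^ (m + 1))) = b := by
        rw [hroot]
        field_simp
      rw [mul_pow, ← h5, pow_succ]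
      ring
    rwa [e] at hc
  intro a b
  by_cases ha : a = 0
  · subst ha
    exact hZ b
  obtain ⟨b₀, h0⟩ := h a ha
  have h3 := K.mul_mem h0 (hZ (b + b₀))
  rw [trS_mul] at h3
  have e1 : a + 0 = a := add_zero a
  have e2 : b₀ + (b + b₀) + a ^ (2 ^ (m + 1)) * 0 = b := by
    linear_combination b₀ * h2
  rwa [e1, e2] at h3

/-- The Suzuki groups are generated by two elements. -/
theorem two_gen : ∃ a b : Sz F m, Subgroup.closure ({a, b} : Set (Sz F m)) = ⊤ := by
  classical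
  have h2 : (2 : F) = 0 := two_eq
  have hs₂ : 2 < Fintype.card F := (Nat.le_add_left 2 _).trans_lt hq
  obtain ⟨γ, hγ⟩ := IsCyclic.exists_generator (α := Fˣ)
  refine ⟨dgHom hs γ⁻¹, wSz hs * trS hs 1 0, ?_⟩
  set K := Subgroup.closure ({dgHom hs γ⁻¹, wSz hs * trS hs 1 0} : Set (Sz F m)) with hK
  have hx : dgHom hs γ⁻¹ ∈ K := Subgroup.subset_closure (by simp)
  have hb : wSz hs * trS hs 1 0 ∈ K := Subgroup.subset_closure (by simp)
  have hQ : ∀ c : Fˣ, wSz hs * trS hs (c : F) 0 ∈ K := by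
    intro c
    obtain ⟨n, rfl⟩ : ∃ n : ℕ, γ ^ n = c := by
      have h3 : c ∈ Submonoid.powers γ := (mem_powers_iff_mem_zpowers).2 (hγ c)
      exact h3
    induction n with
    | zero => simpa using hb
    | succ n ih =>
      have e : dgHom hs γ⁻¹ * (wSz hs * trS hs ((γ ^ n : Fˣ) : F) 0) * dgHom hs γ⁻¹ =
          wSz hs * trS hs ((γ ^ (n + 1) : Fˣ) : F) 0 := by
        have e1 := dgS_w hs γ⁻¹
        rw [inv_inv] at e1
        have e2 := dgS_trS hs h4 hq γ ((γ ^ n : Fˣ) : F) 0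
        rw [mul_zero] at e2
        calc dgHom hs γ⁻¹ * (wSz hs * trS hs ((γ ^ n : Fˣ) : F) 0) * dgHom hs γ⁻¹
            = (dgHom hs γ⁻¹ * wSz hs) * trS hs ((γ ^ n : Fˣ) : F) 0 * dgHom hs γ⁻¹ := by group
          _ = wSz hs * (dgHom hs γ * trS hs ((γ ^ n : Fˣ) : F) 0) * dgHom hs γ⁻¹ := by rw [e1]; group
          _ = wSz hs * (trS hs ((γ : F) * ((γ ^ n : Fˣ) : F)) 0 * dgHom hs γ) * dgHom hs γ⁻¹ := by rw [e2]
          _ = wSz hs * trS hs ((γ : F) * ((γ ^ n : Fˣ) : F)) 0 * (dgHom hs γ * dgHom hs γ⁻¹) := by group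
          _ = _ := by
            rw [← map_mul, mul_inv_cancel, map_one, mul_one, pow_succ' γ n, Units.val_mul]
      rw [← e]
      exact K.mul_mem (K.mul_mem hx ih) hx
  have hfirst : ∀ a : F, a ≠ 0 → ∃ b, trS hs a b ∈ K := by
    intro a ha
    obtain ⟨c, hc⟩ : ∃ c : F, c ∉ ({0, a} : Finset F) := by
      by_contra hcon
      push Not at hcon
      have h3 : Fintype.card F ≤ ({0, a} : Finset F).card := by
        rw [← Finset.card_univ]
        exact Finset.card_le_card (fun x _ ↦ hcon x)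
      have h5 : ({0, a} : Finset F).card ≤ 2 := Finset.card_le_two
      omega
    simp only [Finset.mem_insert, Finset.mem_singleton, not_or] at hc
    have hd : a + c ≠ 0 := by
      intro h3
      apply hc.2
      linear_combination h3 - a * h2
    have h5 := K.mul_mem (K.inv_mem (hQ (Units.mk0 c hc.1))) (hQ (Units.mk0 (a + c) hd))
    simp only [Units.val_mk0] at h5
    have e : (wSz hs * trS hs c 0)⁻¹ * (wSz hs * trS hs (a + c) 0) = (trS hs c 0)⁻¹ * trS hs (a + c) 0 := by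
      group
    rw [e, trS_inv, trS_mul] at h5
    have e2 : c + (a + c) = a := by linear_combination c * h2
    rw [e2] at h5
    exact ⟨_, h5⟩
  have hT := all_tr_mem hs h4 hq K hfirst
  have hw : wSz hs ∈ K := by
    have h5 := K.mul_mem hb (K.inv_mem (hT 1 0))
    rwa [mul_inv_cancel_right] at h5
  have hd : ∀ δ, dgHom hs δ ∈ K := by
    intro δ
    obtain ⟨z, rfl⟩ := hγ δ
    have e : (γ ^ z : Fˣ) = (γ⁻¹) ^ (-z) := by simp
    change dgHom hs (γ ^ z) ∈ K
    rw [e, map_zpow]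
    exact K.zpow_mem hx _
  exact top_of_all hs h4 hq K hT hd hw

/-! ### Real elements in Sylow `2`-subgroups -/

omit h4 hq in
theorem exists_conj_T (hm : 1 ≤ m) (hF : Fintype.card F = 2 ^ (2 * m + 1)) (P : Sylow 2 (Sz F m)) :
    ∃ k : Sz F m, ∀ g, g ∈ (P : Subgroup (Sz F m)) ↔ k * g * k⁻¹ ∈ T hs := by
  obtain ⟨k, hk⟩ := MulAction.exists_smul_eq (Sz F m) P (sylowT hs hm hF)
  refine ⟨k, fun g ↦ ?_⟩
  have hS : ((sylowT hs hm hF : Sylow 2 (Sz F m)) : Subgroup (Sz F m)) = T hs := Sylow.coe_ofCard _ _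
  rw [← hS, ← hk, Sylow.coe_subgroup_smul]
  exact (Subgroup.smul_mem_pointwise_smul_iff (a := MulAut.conj k)).symm

/-- A nontrivial element of a Sylow `2`-subgroup is conjugate to its inverse iff it has order `2`. -/
theorem real_iff (hm : 1 ≤ m) (hF : Fintype.card F = 2 ^ (2 * m + 1)) (P : Sylow 2 (Sz F m))
    (g : Sz F m) (hg : g ∈ (P : Subgroup (Sz F m))) (h1 : g ≠ 1) : IsConj g g⁻¹ ↔ orderOf g = 2 := by
  have h2 : (2 : F) = 0 := two_eq
  constructor
  · intro h
    obtain ⟨x, hx⟩ := isConj_iff.1 h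
    obtain ⟨k, hk⟩ := exists_conj_T hs hm hF P
    obtain ⟨a, b, hab⟩ := (hk g).1 hg
    have hne : ¬ (a = 0 ∧ b = 0) := by
      rintro ⟨rfl, rfl⟩
      rw [tr_zero] at hab
      apply h1
      have h3 : k * g * k⁻¹ = 1 := Subtype.ext hab
      have h5 : g = k⁻¹ * (k * g * k⁻¹) * k := by group
      rw [h5, h3]
      group
    have hc : (k * x * k⁻¹) * (k * g * k⁻¹) * (k * x * k⁻¹)⁻¹ = (k * g * k⁻¹)⁻¹ := by
      calc (k * x * k⁻¹) * (k * g * k⁻¹) * (k * x * k⁻¹)⁻¹ = k * (x * g * x⁻¹) * k⁻¹ := by group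
        _ = k * g⁻¹ * k⁻¹ := by rw [hx]
        _ = _ := by group
    have hc' : (k * x * k⁻¹).1 * tr m a b * (k * x * k⁻¹).1⁻¹ = (tr m a b)⁻¹ := by
      rw [← hab]
      exact congrArg Subtype.val hc
    have ha := real_tr hs hne (k * x * k⁻¹).2 h4 hq hc'
    subst ha
    have hsq : (k * g * k⁻¹) * (k * g * k⁻¹) = 1 := by
      apply Subtype.ext
      change (k * g * k⁻¹).1 * (k * g * k⁻¹).1 = 1
      rw [hab, tr_mul hs]
      rw [zero_pow (by positivity), zero_mul, add_zero, add_zero, show b + b = 0 by linear_combination b * h2,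
        tr_zero]
    have hsq2 : g ^ 2 = 1 := by
      have h5 : k * (g * g) * k⁻¹ = 1 := by
        rw [← hsq]
        group
      have h6 : g * g = 1 := by
        have h7 : g * g = k⁻¹ * (k * (g * g) * k⁻¹) * k := by group
        rw [h7, h5]
        group
      rw [pow_two, h6]
    exact orderOf_eq_prime hsq2 h1
  · intro h
    have h3 : g ^ 2 = 1 := by
      rw [← h]
      exact pow_orderOf_eq_one g
    have h5 : g⁻¹ = g := by
      rw [inv_eq_iff_mul_eq_one, ← pow_two, h3]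
    rw [h5]

end Cfsg.Agent.Lib.Suzuki
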