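import Cfsg.Agent.Lib.Suzuki7

/-! Maximality of the Borel subgroups of the Suzuki groups. -/

set_option autoImplicit false
set_option linter.unusedSectionVars false
set_option linter.unusedVariables false
set_option linter.unusedSimpArgs false

namespace Cfsg.Agent.Lib.Suzuki

open Cfsg
open scoped Matrix MatrixGroups LinearAlgebra.Projectivization Pointwise commutatorElement

variable {F : Type*} [Field F] [Fintype F] {m : ℕ} [CharP F 2]
variable (hs : SqProp F m)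
include hs

omit [Fintype F] in
theorem pow_one_add_eq_one {u : F} (h : u ^ (2 ^ m + 1) = 1) : u = 1 := by
  have h2 : (2 : F) = 0 := two_eq
  have hu : u ≠ 0 := by
    rintro rfl
    simp at h
  have hv : u ^ (2 ^ m) * u = 1 := by rw [← pow_succ, h]
  set v := u ^ (2 ^ m) with hvdef
  have hv0 : v ≠ 0 := fun h0 ↦ by
    rw [h0, zero_mul] at hv
    exact zero_ne_one hv
  have h3 : u ^ (2 ^ (m + 1)) = v ^ 2 := by
    rw [hvdef, ← pow_mul, pow_succ]
  have h5 := hs u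
  rw [h3, ← pow_mul, mul_comm, pow_mul] at h5
  have h6 : v ^ (2 ^ (m + 1)) * v ^ 2 = 1 := by
    rw [← h3, ← mul_pow, mul_comm]
    rw [show u * v = 1 by rw [mul_comm]; exact hv, one_pow]
  have h7 : u ^ 4 = u ^ 2 := by
    have h8 : v ^ 4 * u ^ 4 = 1 := by
      rw [show v ^ 4 * u ^ 4 = (v * u) ^ 4 by ring, hv, one_pow]
    calc u ^ 4 = (v ^ (2 ^ (m + 1)) * v ^ 2) ^ 2 * u ^ 4 := by rw [h6]; ring
      _ = (v ^ (2 ^ (m + 1))) ^ 2 * (v ^ 4 * u ^ 4) := by ring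
      _ = u ^ 2 := by rw [h5, h8, mul_one]
  have h9 : (u + 1) ^ 2 = 0 := by
    have h10 : u ^ 2 = 1 := by
      have h11 : u ^ 2 * (u ^ 2 - 1) = 0 := by linear_combination h7
      rcases mul_eq_zero.1 h11 with h12 | h12
      · exact absurd (pow_eq_zero_iff (two_ne_zero)|>.1 h12) hu
      · linear_combination h12
    linear_combination h10 + (u + 1) * h2
  have h13 : u + 1 = 0 := pow_eq_zero_iff (two_ne_zero) |>.1 h9
  linear_combination h13 - h2

theorem exists_s_root (τ : F) : ∃ b : F, b ^ (2 ^ (m + 1)) = τ := by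
  have h2 : (2 : F) = 0 := two_eq
  have hinj : Function.Injective (fun b : F ↦ b ^ (2 ^ (m + 1))) := by
    intro x y h
    have h1 : (x + y) ^ (2 ^ (m + 1)) = 0 := by
      rw [frob]
      have h1' : x ^ 2 ^ (m + 1) = y ^ 2 ^ (m + 1) := h
      rw [h1']
      linear_combination (y ^ 2 ^ (m + 1)) * h2
    have h3 : x + y = 0 := pow_eq_zero_iff (by positivity) |>.1 h1
    linear_combination h3 - y * h2
  exact (Finite.injective_iff_surjective.1 hinj) τ

omit [Fintype F] in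
/-- The explicit word, applied to the first basis vector. -/
theorem Y_e0 {b : F} (hb : b ≠ 0) :
    (wS F * (tr m (b / b ^ (2 ^ (m + 1))) 0)⁻¹ * (wS F * tr m 0 b * wS F) * tr m (b / b ^ (2 ^ (m + 1))) 0) •
      (![1, 0, 0, 0] : Fin 4 → F) = ![b ^ (2 ^ (m + 1)), 0, 0, 0] := by
  have h2 : (2 : F) = 0 := two_eq
  have hbs : b ^ (2 ^ (m + 1)) ≠ 0 := pow_ne_zero _ hb
  set c := b / b ^ (2 ^ (m + 1)) with hc
  have hc1 : c * b ^ (2 ^ (m + 1)) = b := by
    rw [hc]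
    field_simp
  have hcs : c ^ (2 ^ (m + 1)) * b ^ 2 = b ^ (2 ^ (m + 1)) := by
    rw [hc, div_pow, hs b]
    field_simp
  have hB : c ^ (2 ^ (m + 1)) * c * b = 1 := by
    have h3 : c ^ (2 ^ (m + 1)) * c * b * b ^ (2 ^ (m + 1)) * b = b ^ (2 ^ (m + 1)) * b := by
      calc c ^ (2 ^ (m + 1)) * c * b * b ^ (2 ^ (m + 1)) * b
          = (c ^ (2 ^ (m + 1)) * b ^ 2) * (c * b ^ (2 ^ (m + 1))) := by ring
        _ = b ^ (2 ^ (m + 1)) * b := by rw [hcs, hc1]
    have h5 : b ^ (2 ^ (m + 1)) * b ≠ 0 := mul_ne_zero hbs hb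
    apply mul_right_cancel₀ h5
    linear_combination h3
  clear_value c
  have e1 : tr m c 0 • (![1, 0, 0, 0] : Fin 4 → F) = ![1, 0, 0, 0] := by
    rw [tr_mulVec]
    funext i
    fin_cases i <;> simp
  have e2 : wS F • (![1, 0, 0, 0] : Fin 4 → F) = ![0, 0, 0, 1] := by
    rw [wS_mulVec]
    funext i
    fin_cases i <;> simp
  have e3 : tr m 0 b • (![0, 0, 0, 1] : Fin 4 → F) = ![b ^ (2 ^ (m + 1)), b, 0, 1] := by
    rw [tr_mulVec]
    have h0 : (0 : F) ^ (2 ^ (m + 1)) = 0 := zero_pow (by positivity)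
    funext i
    fin_cases i <;> simp [h0]
  have e4 : wS F • (![b ^ (2 ^ (m + 1)), b, 0, 1] : Fin 4 → F) = ![1, 0, b, b ^ (2 ^ (m + 1))] := by
    rw [wS_mulVec]
    funext i
    fin_cases i <;> simp
  have e5 : (tr m c 0)⁻¹ • (![1, 0, b, b ^ (2 ^ (m + 1))] : Fin 4 → F) = ![0, 0, 0, b ^ (2 ^ (m + 1))] := by
    rw [tr_inv hs, tr_mulVec]
    have h6 : (c ^ (2 ^ (m + 1)) * c) ^ (2 ^ (m + 1)) * b ^ (2 ^ (m + 1)) = 1 := by
      rw [← mul_pow, hB, one_pow]
    funext i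
    fin_cases i
    · simp
      linear_combination h6 + (1 + (c ^ (2 ^ (m + 1)) * c) * b + (c * (c ^ (2 ^ (m + 1)) * c)) * b ^ (2 ^ (m + 1))) * h2
    · simp
      linear_combination (c ^ (2 ^ (m + 1))) * hc1 + (c ^ (2 ^ (m + 1)) * b) * h2
    · simp
      linear_combination hc1 + b * h2
    · simp
  have e6 : wS F • (![0, 0, 0, b ^ (2 ^ (m + 1))] : Fin 4 → F) = ![b ^ (2 ^ (m + 1)), 0, 0, 0] := by
    rw [wS_mulVec]
    funext i
    fin_cases i <;> simp
  simp only [mul_smul]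
  rw [e1, e2, e3, e4, e5, e6]

variable (h4 : 4 ≤ 2 ^ (m + 1)) (hq : 2 ^ (m + 1) + 2 < Fintype.card F)
include h4 hq

/-- A subgroup containing the translations and `w` contains the diagonal elements. -/
theorem dg_mem_of (M : Subgroup (Sz F m)) (hT : ∀ a b, trS hs a b ∈ M) (hw : wSz hs ∈ M) (δ : Fˣ) :
    dgHom hs δ ∈ M := by
  have h2 : (2 : F) = 0 := two_eq
  have hδ0 : (δ : F) ≠ 0 := δ.ne_zero
  obtain ⟨b, hb⟩ := exists_s_root hs ((δ : F) ^ (2 ^ m + 1))
  have hb0 : b ≠ 0 := by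
    rintro rfl
    rw [zero_pow (by positivity)] at hb
    exact pow_ne_zero _ hδ0 hb.symm
  have hbs : b ^ (2 ^ (m + 1)) ≠ 0 := pow_ne_zero _ hb0
  have hY0 := Y_e0 (m := m) hs hb0
  obtain ⟨c, hc⟩ : ∃ c, c = b / b ^ (2 ^ (m + 1)) := ⟨_, rfl⟩
  rw [← hc] at hY0
  have hc0 : c ≠ 0 := by
    rw [hc]
    exact div_ne_zero hb0 hbs
  have hc1 : c * b ^ (2 ^ (m + 1)) = b := by
    rw [hc]
    field_simp
  have hcs : c ^ (2 ^ (m + 1)) * b ^ 2 = b ^ (2 ^ (m + 1)) := by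
    rw [hc, div_pow, hs b]
    field_simp
  have hB : c ^ (2 ^ (m + 1)) * c * b = 1 := by
    have h3 : c ^ (2 ^ (m + 1)) * c * b * b ^ (2 ^ (m + 1)) * b = b ^ (2 ^ (m + 1)) * b := by
      calc c ^ (2 ^ (m + 1)) * c * b * b ^ (2 ^ (m + 1)) * b
          = (c ^ (2 ^ (m + 1)) * b ^ 2) * (c * b ^ (2 ^ (m + 1))) := by ring
        _ = b ^ (2 ^ (m + 1)) * b := by rw [hcs, hc1]
    have h5 : b ^ (2 ^ (m + 1)) * b ≠ 0 := mul_ne_zero hbs hb0
    apply mul_right_cancel₀ h5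
    linear_combination h3
  let Y : Sz F m := wSz hs * (trS hs c 0)⁻¹ * (wSz hs * trS hs 0 b * wSz hs) * trS hs c 0
  have hYM : Y ∈ M :=
    M.mul_mem (M.mul_mem (M.mul_mem hw (M.inv_mem (hT c 0))) (M.mul_mem (M.mul_mem hw (hT 0 b)) hw)) (hT c 0)
  have hY1 : Y.1 = wS F * (tr m c 0)⁻¹ * (wS F * tr m 0 b * wS F) * tr m c 0 := rfl
  have hf1 : fS m (0 : F) b = b ^ (2 ^ (m + 1)) := by
    simp [fS]
  have hf2 : fS m c (0 : F) = c ^ (2 ^ (m + 1) + 2) := by
    simp [fS]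
  have hf2' : c ^ (2 ^ (m + 1) + 2) ≠ 0 := pow_ne_zero _ hc0
  have hinf : Y.1 • suzukiPointInfinity F = suzukiPointInfinity F := by
    rw [hY1]
    simp only [mul_smul]
    rw [tr_smul_inf, wS_smul_inf, tr_smul_zero hs, wS_smul_P hs (by rw [hf1]; exact hbs), hf1, ← hc, zero_div,
      tr_inv_smul hs, wS_smul_zero]
  have hzero : Y.1 • P m (0 : F) 0 = P m (0 : F) 0 := by
    have e1 : c / c ^ (2 ^ (m + 1) + 2) = b := by
      rw [div_eq_iff hf2']
      calc c = c * (c ^ (2 ^ (m + 1)) * c * b) := by rw [hB, mul_one]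
        _ = _ := by ring
    have e2 : tr m 0 b • P m (0 : F) b = P m (0 : F) 0 := by
      rw [tr_smul_P hs]
      rw [zero_pow (by positivity), zero_mul, add_zero, add_zero, show b + b = 0 by linear_combination b * h2]
    rw [hY1]
    simp only [mul_smul]
    rw [tr_smul_zero hs, wS_smul_P hs (by rw [hf2]; exact hf2'), hf2, e1, zero_div, e2, wS_smul_zero,
      tr_inv_smul_inf hs, wS_smul_inf]
  obtain ⟨h, hh⟩ := two_pt hs h4 hq Y.2 hinf hzero
  rw [← hY1, hh, dg_mulVec] at hY0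
  have h6 := congrFun hY0 0
  simp at h6
  have h7 : (h : F) ^ (2 ^ m + 1) = (δ : F) ^ (2 ^ m + 1) := by
    rw [← hb, ← h6]
    ring
  have h8 : (h : F) / (δ : F) = 1 := by
    apply pow_one_add_eq_one hs
    rw [div_pow, h7, div_self (pow_ne_zero _ hδ0)]
  have h9 : h = δ := by
    apply Units.ext
    rw [div_eq_iff hδ0, one_mul] at h8
    exact h8
  have h10 : Y = dgHom hs δ := by
    apply Subtype.ext
    rw [hh, h9]
    rfl
  rw [← h10]
  exact hYM

theorem top_of_T_wS (M : Subgroup (Sz F m)) (hT : ∀ a b, trS hs a b ∈ M) (hw : wSz hs ∈ M) : M = ⊤ :=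
  top_of_all hs h4 hq M hT (dg_mem_of hs h4 hq M hT hw) hw

/-- A subgroup containing the translations and moving infinity is everything. -/
theorem top_of_T_not_stab (M : Subgroup (Sz F m)) (hT : ∀ a b, trS hs a b ∈ M) (g : Sz F m) (hg : g ∈ M)
    (hn : g.1 • suzukiPointInfinity F ≠ suzukiPointInfinity F) : M = ⊤ := by
  rcases decomp hs h4 hq g.2 with ⟨a, b, α, h⟩ | ⟨a, b, c, e, α, h⟩
  · exfalso
    apply hn
    rw [h, mul_smul, dg_smul_inf, tr_smul_inf]
  have hg1 : g = trS hs a b * wSz hs * (trS hs c e * dgHom hs α) := Subtype.ext h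
  obtain ⟨y, hy⟩ : IsSquare (α : F) := isSquare_of_charTwo' (α : F)
  have hy0 : y ≠ 0 := by
    rintro rfl
    rw [zero_mul] at hy
    exact α.ne_zero hy
  set α' : Fˣ := Units.mk0 y hy0 with hα'
  have hα2 : α' * α' = α := by
    apply Units.ext
    rw [Units.val_mul, hy]
    rfl
  -- `w * dg α ∈ M`
  have hw₀ : wSz hs * dgHom hs α ∈ M := by
    have e1 := dgS_trS hs h4 hq α⁻¹ c e
    have e2 : trS hs c e * dgHom hs α = dgHom hs α * trS hs (((α⁻¹ : Fˣ) : F) * c) (((α⁻¹ : Fˣ) : F) ^ (2 ^ (m + 1) + 1) * e) := by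
      have e3 : dgHom hs α⁻¹ * (trS hs c e * dgHom hs α) = trS hs (((α⁻¹ : Fˣ) : F) * c) (((α⁻¹ : Fˣ) : F) ^ (2 ^ (m + 1) + 1) * e) := by
        rw [← mul_assoc, e1, mul_assoc, ← map_mul, inv_mul_cancel, map_one, mul_one]
      rw [← e3, ← mul_assoc, ← map_mul, mul_inv_cancel, map_one, one_mul]
    rw [e2] at hg1
    have e3 : wSz hs * dgHom hs α = (trS hs a b)⁻¹ * g * (trS hs (((α⁻¹ : Fˣ) : F) * c) (((α⁻¹ : Fˣ) : F) ^ (2 ^ (m + 1) + 1) * e))⁻¹ := by
      rw [hg1]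
      group
    rw [e3]
    exact M.mul_mem (M.mul_mem (M.inv_mem (hT a b)) hg) (M.inv_mem (hT _ _))
  set D := dgHom hs α' with hD
  have hDinv : D⁻¹ = dgHom hs α'⁻¹ := by
    rw [hD, map_inv]
  let M' : Subgroup (Sz F m) := M.comap (MulAut.conj D⁻¹).toMonoidHom
  have hM' : ∀ x, x ∈ M' ↔ D⁻¹ * x * D ∈ M := by
    intro x
    change (MulAut.conj D⁻¹) x ∈ M ↔ _
    rw [MulAut.conj_apply, inv_inv]
  have hT' : ∀ a b, trS hs a b ∈ M' := by
    intro a b
    rw [hM', hDinv]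
    have e1 := dgS_trS hs h4 hq α'⁻¹ a b
    rw [e1, mul_assoc, ← hDinv, hD, ← map_inv, ← map_mul, inv_mul_cancel, map_one, mul_one]
    exact hT _ _
  have hw' : wSz hs ∈ M' := by
    rw [hM', hDinv]
    have e1 := dgS_w hs α'⁻¹
    rw [inv_inv] at e1
    rw [e1, mul_assoc, hD, ← map_mul, hα2]
    exact hw₀
  have htop := top_of_T_wS hs h4 hq M' hT' hw'
  rw [eq_top_iff]
  intro x _
  have h1 : D * x * D⁻¹ ∈ M' := by
    rw [htop]
    exact Subgroup.mem_top _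
  rw [hM'] at h1
  have e : D⁻¹ * (D * x * D⁻¹) * D = x := by group
  rwa [e] at h1

/-! ### The normaliser of `T` -/

theorem conj_T_of_stab (g : Sz F m) (hg : g.1 • suzukiPointInfinity F = suzukiPointInfinity F) (x : Sz F m)
    (hx : x ∈ T hs) : g * x * g⁻¹ ∈ T hs := by
  obtain ⟨c, e, α, h⟩ := stab_inf hs h4 hq g.2 hg
  obtain ⟨a, b, hab⟩ := hx
  have hg1 : g = trS hs c e * dgHom hs α := Subtype.ext h
  have hx1 : x = trS hs a b := Subtype.ext hab
  have e1 := dgS_trS hs h4 hq α a b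
  have hmem : ∀ u v, trS hs u v ∈ T hs := fun u v ↦ ⟨u, v, rfl⟩
  have e2 : g * x * g⁻¹ = trS hs c e * trS hs ((α : F) * a) ((α : F) ^ (2 ^ (m + 1) + 1) * b) * (trS hs c e)⁻¹ := by
    rw [hg1, hx1, mul_assoc (trS hs c e), e1]
    group
  rw [e2]
  exact mul_mem (mul_mem (hmem _ _) (hmem _ _)) (inv_mem (hmem _ _))

theorem mem_normalizer_of_stab (g : Sz F m) (hg : g.1 • suzukiPointInfinity F = suzukiPointInfinity F) :
    g ∈ Subgroup.normalizer ((T hs : Subgroup (Sz F m)) : Set (Sz F m)) := by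
  rw [Subgroup.mem_normalizer_iff]
  intro x
  constructor
  · exact conj_T_of_stab hs h4 hq g hg x
  · intro hx
    have hg' : (g⁻¹).1 • suzukiPointInfinity F = suzukiPointInfinity F := by
      change g.1⁻¹ • suzukiPointInfinity F = suzukiPointInfinity F
      rw [inv_smul_eq_iff, hg]
    have h1 := conj_T_of_stab hs h4 hq g⁻¹ hg' _ hx
    have e : g⁻¹ * (g * x * g⁻¹) * g⁻¹⁻¹ = x := by group
    rwa [e] at h1

theorem stab_of_mem_normalizer (g : Sz F m)
    (hg : g ∈ Subgroup.normalizer ((T hs : Subgroup (Sz F m)) : Set (Sz F m))) :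
    g.1 • suzukiPointInfinity F = suzukiPointInfinity F := by
  rw [Subgroup.mem_normalizer_iff] at hg
  have h1 := (hg (trS hs 0 1)).1 ⟨0, 1, rfl⟩
  obtain ⟨a, b, hab⟩ := h1
  have hne : ¬ (a = 0 ∧ b = 0) := by
    rintro ⟨rfl, rfl⟩
    rw [tr_zero] at hab
    have h3 : g * trS hs 0 1 * g⁻¹ = 1 := Subtype.ext hab
    have h5 : trS hs 0 1 = (1 : Sz F m) := by
      have h6 : trS hs 0 1 = g⁻¹ * (g * trS hs 0 1 * g⁻¹) * g := by group
      rw [h6, h3]
      group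
    rw [← trS_zero hs] at h5
    have h7 : tr m (0 : F) 1 = tr m 0 0 := congrArg Subtype.val h5
    have h8 := congrArg (fun z ↦ z • P m (0 : F) 0) h7
    simp only [tr_smul_zero hs] at h8
    exact one_ne_zero (P_inj h8).2
  have h0 : g.1 • suzukiPointInfinity F ∈ suzukiOvoid F m := smul_mem_ovoid g.2 (mem_ovoid.2 (Or.inl rfl))
  rcases mem_ovoid.1 h0 with h3 | ⟨x, y, h3⟩
  · exact h3
  · exfalso
    have h5 : (g * trS hs 0 1 * g⁻¹).1 • (g.1 • suzukiPointInfinity F) = g.1 • suzukiPointInfinity F := by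
      change (g.1 * tr m 0 1 * g.1⁻¹) • (g.1 • suzukiPointInfinity F) = g.1 • suzukiPointInfinity F
      rw [← mul_smul]
      rw [show g.1 * tr m 0 1 * g.1⁻¹ * g.1 = g.1 * tr m 0 1 by group, mul_smul, tr_smul_inf]
    rw [hab, h3] at h5
    exact tr_no_fixed hs hne x y h5

theorem top_of_T_not_norm (M : Subgroup (Sz F m)) (hT : T hs ≤ M)
    (hn : ¬ M ≤ Subgroup.normalizer ((T hs : Subgroup (Sz F m)) : Set (Sz F m))) : M = ⊤ := by
  obtain ⟨g, hg, hgn⟩ := SetLike.not_le_iff_exists.1 hn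
  exact top_of_T_not_stab hs h4 hq M (fun a b ↦ hT ⟨a, b, rfl⟩) g hg
    (fun h ↦ hgn (mem_normalizer_of_stab hs h4 hq g h))

theorem wSz_not_mem_normalizer : wSz hs ∉ Subgroup.normalizer ((T hs : Subgroup (Sz F m)) : Set (Sz F m)) := by
  intro h
  have h1 := stab_of_mem_normalizer hs h4 hq _ h
  have h3 : wS F • suzukiPointInfinity F = suzukiPointInfinity F := h1
  rw [wS_smul_inf (m := m)] at h3
  exact P_ne_inf _ _ h3

omit hs h4 hq [CharP F 2] [Fintype F] in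
/-- Transfer of the normaliser under conjugation. -/
theorem conj_norm {G : Type*} [Group G] (P Q : Subgroup G) (k : G) (h : ∀ g, g ∈ P ↔ k * g * k⁻¹ ∈ Q) (g : G) :
    g ∈ Subgroup.normalizer (P : Set G) ↔ k * g * k⁻¹ ∈ Subgroup.normalizer (Q : Set G) := by
  rw [Subgroup.mem_normalizer_iff, Subgroup.mem_normalizer_iff]
  constructor
  · intro H y
    have h1 := H (k⁻¹ * y * k)
    have e1 : k * (k⁻¹ * y * k) * k⁻¹ = y := by group
    have e2 : k * (g * (k⁻¹ * y * k) * g⁻¹) * k⁻¹ = k * g * k⁻¹ * y * (k * g * k⁻¹)⁻¹ := by group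
    have h2 := h (k⁻¹ * y * k)
    have h3 := h (g * (k⁻¹ * y * k) * g⁻¹)
    rw [e1] at h2
    rw [e2] at h3
    change y ∈ Q ↔ _
    change k⁻¹ * y * k ∈ (P : Set G) ↔ g * (k⁻¹ * y * k) * g⁻¹ ∈ (P : Set G) at h1
    rw [← h2, ← h3]
    exact h1
  · intro H y
    have h1 := H (k * y * k⁻¹)
    have e2 : k * g * k⁻¹ * (k * y * k⁻¹) * (k * g * k⁻¹)⁻¹ = k * (g * y * g⁻¹) * k⁻¹ := by group
    rw [e2] at h1
    have h2 := h y
    have h3 := h (g * y * g⁻¹)
    change y ∈ P ↔ _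
    change k * y * k⁻¹ ∈ (Q : Set G) ↔ k * (g * y * g⁻¹) * k⁻¹ ∈ (Q : Set G) at h1
    rw [h2, h3]
    exact h1

/-- The normaliser of a Sylow `2`-subgroup is a maximal subgroup, the unique one containing it. -/
theorem coatom_normalizer (hm : 1 ≤ m) (hF : Fintype.card F = 2 ^ (2 * m + 1)) (P : Sylow 2 (Sz F m)) :
    IsCoatom (Subgroup.normalizer ((P : Subgroup (Sz F m)) : Set (Sz F m))) ∧
    ∀ M : Subgroup (Sz F m), IsCoatom M → (P : Subgroup (Sz F m)) ≤ M →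
      M = Subgroup.normalizer ((P : Subgroup (Sz F m)) : Set (Sz F m)) := by
  obtain ⟨k, hk⟩ := exists_conj_T hs hm hF P
  have hnorm := conj_norm (P : Subgroup (Sz F m)) (T hs) k hk
  have hH : ∀ M : Subgroup (Sz F m), (P : Subgroup (Sz F m)) ≤ M →
      ¬ M ≤ Subgroup.normalizer ((P : Subgroup (Sz F m)) : Set (Sz F m)) → M = ⊤ := by
    intro M hPM hn
    let M' : Subgroup (Sz F m) := M.comap (MulAut.conj k⁻¹).toMonoidHom
    have hM' : ∀ x, x ∈ M' ↔ k⁻¹ * x * k ∈ M := by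
      intro x
      change (MulAut.conj k⁻¹) x ∈ M ↔ _
      rw [MulAut.conj_apply, inv_inv]
    have hT' : T hs ≤ M' := by
      intro x hx
      rw [hM']
      apply hPM
      rw [hk]
      have e : k * (k⁻¹ * x * k) * k⁻¹ = x := by group
      rwa [e]
    have hn' : ¬ M' ≤ Subgroup.normalizer ((T hs : Subgroup (Sz F m)) : Set (Sz F m)) := by
      intro hle
      apply hn
      intro g hg
      rw [hnorm]
      apply hle
      rw [hM']
      have e : k⁻¹ * (k * g * k⁻¹) * k = g := by group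
      rwa [e]
    have htop := top_of_T_not_norm hs h4 hq M' hT' hn'
    rw [eq_top_iff]
    intro x _
    have h1 : k * x * k⁻¹ ∈ M' := by
      rw [htop]
      exact Subgroup.mem_top _
    rw [hM'] at h1
    have e : k⁻¹ * (k * x * k⁻¹) * k = x := by group
    rwa [e] at h1
  have hne : Subgroup.normalizer ((P : Subgroup (Sz F m)) : Set (Sz F m)) ≠ ⊤ := by
    intro h
    have h1 : k⁻¹ * wSz hs * k ∈ Subgroup.normalizer ((P : Subgroup (Sz F m)) : Set (Sz F m)) := by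
      rw [h]
      exact Subgroup.mem_top _
    rw [hnorm] at h1
    have e : k * (k⁻¹ * wSz hs * k) * k⁻¹ = wSz hs := by group
    rw [e] at h1
    exact wSz_not_mem_normalizer hs h4 hq h1
  have hPN : (P : Subgroup (Sz F m)) ≤ Subgroup.normalizer ((P : Subgroup (Sz F m)) : Set (Sz F m)) :=
    Subgroup.le_normalizer
  have hco : IsCoatom (Subgroup.normalizer ((P : Subgroup (Sz F m)) : Set (Sz F m))) := by
    refine ⟨hne, fun M hM ↦ ?_⟩
    exact hH M (hPN.trans hM.le) (fun hle ↦ (not_le_of_gt hM) hle)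
  refine ⟨hco, fun M hM hPM ↦ ?_⟩
  by_cases hle : M ≤ Subgroup.normalizer ((P : Subgroup (Sz F m)) : Set (Sz F m))
  · rcases eq_or_lt_of_le hle with h | h
    · exact h
    · exact absurd (hM.2 _ h) hne
  · exact absurd (hH M hPM hle) hM.1

end Cfsg.Agent.Lib.Suzuki
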