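import Cfsg.Agent.Lib.Suzuki8

/-! The Suzuki group as the group of `g ∈ Sp₄` with `g* = g^θ`. -/

set_option autoImplicit false
set_option linter.unusedSectionVars false
set_option linter.unusedVariables false
set_option linter.unusedSimpArgs false

namespace Cfsg.Agent.Lib.Suzuki

open Cfsg Cfsg.Lie
open scoped Matrix MatrixGroups LinearAlgebra.Projectivization Pointwise commutatorElement

section Mats

variable {F : Type*} [Field F]

/-- Cauchy--Binet for `2 × 2` minors in dimension four. -/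
theorem minor_mul (g h : Matrix (Fin 4) (Fin 4) F) (k l i j : Fin 4) :
    (g * h) k i * (g * h) l j - (g * h) l i * (g * h) k j =
      (g k 0 * g l 1 - g l 0 * g k 1) * (h 0 i * h 1 j - h 1 i * h 0 j) +
      (g k 0 * g l 2 - g l 0 * g k 2) * (h 0 i * h 2 j - h 2 i * h 0 j) +
      (g k 1 * g l 3 - g l 1 * g k 3) * (h 1 i * h 3 j - h 3 i * h 1 j) +
      (g k 2 * g l 3 - g l 2 * g k 3) * (h 2 i * h 3 j - h 3 i * h 2 j) +
      (g k 0 * g l 3 - g l 0 * g k 3) * (h 0 i * h 3 j - h 3 i * h 0 j) +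
      (g k 1 * g l 2 - g l 1 * g k 2) * (h 1 i * h 2 j - h 2 i * h 1 j) := by
  simp only [Matrix.mul_apply, Fin.sum_univ_four]
  ring

/-- The matrix of the form. -/
theorem altForm4_eq (u v : Fin 4 → F) : altForm4 u v = u ⬝ᵥ (suzukiForm F *ᵥ v) := by
  simp [altForm4, suzukiForm, dotProduct, Matrix.mulVec, Fin.sum_univ_four]

theorem suzukiForm_sq : suzukiForm F * suzukiForm F = 1 := by
  ext i j
  fin_cases i <;> fin_cases j <;> simp [suzukiForm, Matrix.mul_apply, Fin.sum_univ_four]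

theorem mem_Sp4_iff (g : GL (Fin 4) F) :
    g ∈ Sp4 F ↔ (g : Matrix (Fin 4) (Fin 4) F)ᵀ * suzukiForm F * (g : Matrix (Fin 4) (Fin 4) F) = suzukiForm F := by
  have key : ∀ u v, altForm4 ((g : Matrix (Fin 4) (Fin 4) F) *ᵥ u) ((g : Matrix (Fin 4) (Fin 4) F) *ᵥ v) =
      u ⬝ᵥ (((g : Matrix (Fin 4) (Fin 4) F)ᵀ * suzukiForm F * (g : Matrix (Fin 4) (Fin 4) F)) *ᵥ v) := by
    intro u v
    rw [altForm4_eq, Matrix.mul_assoc, ← Matrix.mulVec_mulVec, ← Matrix.mulVec_mulVec,
      Matrix.dotProduct_mulVec u, Matrix.vecMul_transpose]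
  change (∀ u v, altForm4 ((g : Matrix (Fin 4) (Fin 4) F) *ᵥ u) ((g : Matrix (Fin 4) (Fin 4) F) *ᵥ v) = altForm4 u v) ↔ _
  constructor
  · intro h
    ext i j
    have h1 := h (Pi.single i 1) (Pi.single j 1)
    rw [key, altForm4_eq] at h1
    simpa [Matrix.mulVec_single_one] using h1
  · intro h u v
    rw [key, h, altForm4_eq]

/-- The relations on rows. -/
theorem row_rel (g : Matrix (Fin 4) (Fin 4) F) (h : gᵀ * suzukiForm F * g = suzukiForm F) :
    g * suzukiForm F * gᵀ = suzukiForm F := by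
  have h1 : (suzukiForm F * gᵀ * suzukiForm F) * g = 1 := by
    calc (suzukiForm F * gᵀ * suzukiForm F) * g = suzukiForm F * (gᵀ * suzukiForm F * g) := by
          simp only [Matrix.mul_assoc]
      _ = 1 := by rw [h, suzukiForm_sq]
  have h2 : g * (suzukiForm F * gᵀ * suzukiForm F) = 1 := mul_eq_one_comm.1 h1
  calc g * suzukiForm F * gᵀ = g * (suzukiForm F * gᵀ * suzukiForm F) * suzukiForm F := by
        simp only [Matrix.mul_assoc, suzukiForm_sq, Matrix.mul_one]
    _ = suzukiForm F := by rw [h2, Matrix.one_mul]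

theorem col_entry (g : Matrix (Fin 4) (Fin 4) F) (h : gᵀ * suzukiForm F * g = suzukiForm F) (i j : Fin 4) :
    g 0 i * g 3 j + g 1 i * g 2 j + g 2 i * g 1 j + g 3 i * g 0 j = suzukiForm F i j := by
  rw [← h]
  simp [Matrix.mul_apply, Fin.sum_univ_four, suzukiForm]
  ring

theorem row_entry (g : Matrix (Fin 4) (Fin 4) F) (h : gᵀ * suzukiForm F * g = suzukiForm F) (i j : Fin 4) :
    g i 0 * g j 3 + g i 1 * g j 2 + g i 2 * g j 1 + g i 3 * g j 0 = suzukiForm F i j := by
  rw [← row_rel g h]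
  simp [Matrix.mul_apply, Fin.sum_univ_four, suzukiForm]
  ring

/-- The map `g ↦ g*` is multiplicative on `Sp₄` in characteristic two. -/
theorem star4_mul [CharP F 2] (g h : Matrix (Fin 4) (Fin 4) F) (hg : gᵀ * suzukiForm F * g = suzukiForm F)
    (hh : hᵀ * suzukiForm F * h = suzukiForm F) : star4 (g * h) = star4 g * star4 h := by
  have h2 : (2 : F) = 0 := two_eq
  have hkey : ∀ k l i j : Fin 4, suzukiForm F k l = 0 → suzukiForm F i j = 0 →
      (g * h) k i * (g * h) l j - (g * h) l i * (g * h) k j =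
      (g k 0 * g l 1 - g l 0 * g k 1) * (h 0 i * h 1 j - h 1 i * h 0 j) +
      (g k 0 * g l 2 - g l 0 * g k 2) * (h 0 i * h 2 j - h 2 i * h 0 j) +
      (g k 1 * g l 3 - g l 1 * g k 3) * (h 1 i * h 3 j - h 3 i * h 1 j) +
      (g k 2 * g l 3 - g l 2 * g k 3) * (h 2 i * h 3 j - h 3 i * h 2 j) := by
    intro k l i j hkl hij
    rw [minor_mul]
    have h3 := row_entry g hg k l
    have h5 := col_entry h hh i j
    rw [hkl] at h3
    rw [hij] at h5
    set A := g k 0 * g l 3 - g l 0 * g k 3 with hA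
    set B := g k 1 * g l 2 - g l 1 * g k 2 with hB
    set C := h 0 i * h 3 j - h 3 i * h 0 j with hC
    set D := h 1 i * h 2 j - h 2 i * h 1 j with hD
    have e1 : A + B = 0 := by
      rw [hA, hB]
      linear_combination h3 - (g l 0 * g k 3 + g l 1 * g k 2) * h2
    have e2 : C + D = 0 := by
      rw [hC, hD]
      linear_combination h5 - (h 3 i * h 0 j + h 2 i * h 1 j) * h2
    have e3 : A * C + B * D = 0 := by
      have e4 : B = -A := by linear_combination e1
      have e5 : D = -C := by linear_combination e2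
      rw [e4, e5]
      linear_combination (A * C) * h2
    linear_combination e3
  have hz : ∀ p : Fin 4, suzukiForm F (pairOf p).1 (pairOf p).2 = 0 := by
    intro p
    fin_cases p <;> simp [pairOf, suzukiForm]
  ext p r
  rw [Matrix.mul_apply, Fin.sum_univ_four]
  exact hkey (pairOf p).1 (pairOf p).2 (pairOf r).1 (pairOf r).2 (hz p) (hz r)

end Mats

section Gens

variable {F : Type*} [Field F] {m : ℕ} [CharP F 2]
variable (hs : SqProp F m)

/-- The defining conditions on matrices. -/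
def IsX (m : ℕ) (g : Matrix (Fin 4) (Fin 4) F) : Prop :=
  gᵀ * suzukiForm F * g = suzukiForm F ∧ star4 g = g.map (fun x ↦ x ^ (2 ^ (m + 1)))

/-- The power map as a ring homomorphism. -/
def frobS (F : Type*) [Field F] (m : ℕ) [CharP F 2] : F →+* F where
  toFun x := x ^ (2 ^ (m + 1))
  map_one' := one_pow _
  map_mul' x y := mul_pow x y _
  map_zero' := zero_pow (by positivity)
  map_add' := frob

theorem IsX.mul {g h : Matrix (Fin 4) (Fin 4) F} (hg : IsX m g) (hh : IsX m h) : IsX m (g * h) := by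
  constructor
  · calc (g * h)ᵀ * suzukiForm F * (g * h) = hᵀ * (gᵀ * suzukiForm F * g) * h := by
          simp only [Matrix.transpose_mul, Matrix.mul_assoc]
      _ = suzukiForm F := by rw [hg.1, hh.1]
  · rw [star4_mul g h hg.1 hh.1, hg.2, hh.2]
    exact (Matrix.map_mul (f := frobS F m)).symm

theorem isX_w : IsX m (suzukiForm F) := by
  have h2 : (2 : F) = 0 := two_eq
  constructor
  · ext i j
    fin_cases i <;> fin_cases j <;> simp [suzukiForm, Matrix.mul_apply, Fin.sum_univ_four]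
  · ext p r
    have h0 : (0 : F) ^ (2 ^ (m + 1)) = 0 := zero_pow (by positivity)
    fin_cases p <;> fin_cases r <;> simp [star4, pairOf, suzukiForm, h0] <;> linear_combination (-1 : F) * h2

include hs in
theorem isX_tr (a b : F) : IsX m (trM m a b) := by
  have h2 : (2 : F) = 0 := two_eq
  have h0 : (0 : F) ^ (2 ^ (m + 1)) = 0 := zero_pow (by positivity)
  have e1 : (b + a ^ (2 ^ (m + 1)) * a) ^ (2 ^ (m + 1)) = b ^ (2 ^ (m + 1)) + a ^ 2 * a ^ (2 ^ (m + 1)) := by
    rw [frob, mul_pow, hs]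
  have e2 : (a ^ (2 ^ (m + 1)) * a ^ 2 + a * b + b ^ (2 ^ (m + 1))) ^ (2 ^ (m + 1)) =
      a ^ 2 * (a ^ (2 ^ (m + 1))) ^ 2 + a ^ (2 ^ (m + 1)) * b ^ (2 ^ (m + 1)) + b ^ 2 := by
    rw [frob, frob, mul_pow, mul_pow, hs, hs, ← pow_mul, ← pow_mul, mul_comm 2]
  constructor
  · ext i j
    fin_cases i <;> fin_cases j <;> simp [trM, suzukiForm, Matrix.mul_apply, Fin.sum_univ_four] <;>
      first
        | linear_combination a * h2
        | linear_combination (a ^ (2 ^ (m + 1))) * h2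
        | linear_combination (b + a ^ (2 ^ (m + 1)) * a) * h2
        | linear_combination (a ^ (2 ^ (m + 1)) * a ^ 2 + 2 * a * b + b ^ (2 ^ (m + 1))) * h2
  · ext p r
    fin_cases p <;> fin_cases r <;> simp [star4, pairOf, trM, h0, e1, e2, hs] <;>
      first
        | linear_combination (-(a ^ (2 ^ (m + 1)) * a ^ 2 + b ^ (2 ^ (m + 1)))) * h2
        | linear_combination (-((a ^ (2 ^ (m + 1))) ^ 2 * a ^ 2 + a ^ (2 ^ (m + 1)) * b ^ (2 ^ (m + 1)))) * h2
        | linear_combination -(hs a)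
        | linear_combination (-(b ^ (2 ^ (m + 1)))) * h2

include hs in
theorem isX_dg (α : Fˣ) : IsX m (dgM m α) := by
  have h2 : (2 : F) = 0 := two_eq
  have h0 : (0 : F) ^ (2 ^ (m + 1)) = 0 := zero_pow (by positivity)
  have hα : (α : F) ≠ 0 := α.ne_zero
  obtain ⟨r, hr⟩ : ∃ r, r = (α : F) ^ (2 ^ m) := ⟨_, rfl⟩
  have hr0 : r ≠ 0 := by
    rw [hr]
    exact pow_ne_zero _ hα
  have hr2 : (α : F) ^ (2 ^ (m + 1)) = r ^ 2 := by
    rw [hr, ← pow_mul, pow_succ]
  have e0 : r ^ (2 ^ (m + 1)) = α := by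
    have h3 := hs (α : F)
    rw [hr2, ← pow_mul, mul_comm, pow_mul] at h3
    have h5 : (r ^ (2 ^ (m + 1)) + (α : F)) ^ 2 = 0 := by
      linear_combination h3 + ((α : F) ^ 2 + r ^ (2 ^ (m + 1)) * (α : F)) * h2
    have h6 : r ^ (2 ^ (m + 1)) + (α : F) = 0 := pow_eq_zero_iff (two_ne_zero) |>.1 h5
    linear_combination h6 - (α : F) * h2
  have e1 : ((α : F) * r) ^ (2 ^ (m + 1)) = (α : F) * r * r := by
    rw [mul_pow, e0, hr2]
    ring
  have e2 : (r⁻¹) ^ (2 ^ (m + 1)) = (α : F)⁻¹ := by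
    rw [inv_pow, e0]
  have e3 : (r⁻¹ * (α : F)⁻¹) ^ (2 ^ (m + 1)) = r⁻¹ * r⁻¹ * (α : F)⁻¹ := by
    rw [mul_pow, e2, inv_pow, hr2]
    field_simp
  have hM : dgM m α = Matrix.diagonal ![(α : F) * r, r, r⁻¹, r⁻¹ * (α : F)⁻¹] := by
    rw [dgM, ← hr]
    congr 1
    funext i
    fin_cases i <;> simp
  rw [hM]
  constructor
  · ext i j
    fin_cases i <;> fin_cases j <;> simp [suzukiForm, Matrix.mul_apply, Fin.sum_univ_four] <;> field_simp
  · ext p q
    fin_cases p <;> fin_cases q <;> simp [star4, pairOf, Matrix.diagonal, h0, e0, e1, e2, e3] <;> field_simp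

omit hs in
/-- The key identity of the ovoid. -/
theorem ovoid_eq (u0 u1 u2 u3 v0 v1 v2 v3 p r t : F)
    (hB : u0 * v2 - u2 * v0 = t) (hC : u1 * v3 - u3 * v1 = r) (hD : u2 * v3 - u3 * v2 = p)
    (hE : u0 * v3 + u1 * v2 + u2 * v1 + u3 * v0 = 0) :
    u0 * u3 * p = t * u3 ^ 2 + u1 * u2 * p + u2 ^ 2 * r := by
  have h2 : (2 : F) = 0 := two_eq
  subst hB hC hD
  linear_combination (u2 * u3) * hE + (- u0 * u3 ^ 2 * v2 - u1 * u2 ^ 2 * v3) * h2

omit hs in
theorem zero_of_pow {x : F} (h : x ^ (2 ^ (m + 1)) = 0) : x = 0 := eq_zero_of_pow_eq_zero h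

/-- The first column of an element satisfying the conditions is a point of the ovoid. -/
theorem isX_inf (g : SL(4, F)) (hg : IsX m g.1) : g • suzukiPointInfinity F ∈ suzukiOvoid F m := by
  have h2 : (2 : F) = 0 := two_eq
  have hstar := hg.2
  have hcol := col_entry g.1 hg.1 0 1
  simp [suzukiForm] at hcol
  have hA := congrFun (congrFun hstar 0) 0
  have hB := congrFun (congrFun hstar 1) 0
  have hC := congrFun (congrFun hstar 2) 0
  have hD := congrFun (congrFun hstar 3) 0
  simp [star4, pairOf] at hA hB hC hD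
  have hne : g • (![1, 0, 0, 0] : Fin 4 → F) ≠ 0 := by
    intro h
    have h3 : (![1, 0, 0, 0] : Fin 4 → F) = g⁻¹ • (g • (![1, 0, 0, 0] : Fin 4 → F)) := by
      rw [inv_smul_smul]
    rw [h, smul_zero] at h3
    have := congrFun h3 0
    simp at this
  have hval : g • (![1, 0, 0, 0] : Fin 4 → F) = ![g.1 0 0, g.1 1 0, g.1 2 0, g.1 3 0] := by
    change g.1 *ᵥ (![1, 0, 0, 0] : Fin 4 → F) = _
    funext i
    fin_cases i <;> simp [Matrix.mulVec, dotProduct, Fin.sum_univ_four]
  rw [suzukiPointInfinity, smul_mk' _ _ hne]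
  rw [mem_ovoid]
  set u0 := g.1 0 0
  set u1 := g.1 1 0
  set u2 := g.1 2 0
  set u3 := g.1 3 0
  set v0 := g.1 0 1
  set v1 := g.1 1 1
  set v2 := g.1 2 1
  set v3 := g.1 3 1
  have hstar' := ovoid_eq u0 u1 u2 u3 v0 v1 v2 v3 _ _ _ hB hC hD hcol
  by_cases hu3 : u3 = 0
  · left
    rw [hu3, zero_pow (by positivity)] at hD
    rw [hu3] at hC
    simp only [zero_mul, sub_zero] at hC hD
    have hu2 : u2 = 0 := by
      by_contra hu2
      have hv3 : v3 = 0 := by
        rcases mul_eq_zero.1 hD with h | h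
        · exact absurd h hu2
        · exact h
      rw [hv3, mul_zero] at hC
      exact hu2 (zero_of_pow (m := m) hC.symm)
    rw [hu2, zero_pow (by positivity)] at hC
    rw [hu2, hu3] at hcol
    rw [hu2] at hB
    simp only [zero_mul, add_zero, sub_zero] at hB hcol
    have hu1 : u1 = 0 := by
      by_contra hu1
      have hv3 : v3 = 0 := by
        rcases mul_eq_zero.1 hC with h | h
        · exact absurd h hu1
        · exact h
      rw [hv3, mul_zero, zero_add] at hcol
      have hv2 : v2 = 0 := by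
        rcases mul_eq_zero.1 hcol with h | h
        · exact absurd h hu1
        · exact h
      rw [hv2, mul_zero] at hB
      exact hu1 (zero_of_pow (m := m) hB.symm)
    have hu0 : u0 ≠ 0 := by
      intro hu0
      apply hne
      rw [hval, hu0, hu1, hu2, hu3]
      funext i
      fin_cases i <;> simp
    apply (Projectivization.mk_eq_mk_iff' F _ _ _ _).2
    refine ⟨u0, ?_⟩
    rw [hval, hu1, hu2, hu3]
    funext i
    fin_cases i <;> simp [hu0]
  · right
    refine ⟨u2 / u3, u1 / u3, ?_⟩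
    apply (Projectivization.mk_eq_mk_iff' F _ _ _ _).2
    refine ⟨u3, ?_⟩
    rw [hval]
    have hs3 : u3 ^ (2 ^ (m + 1)) ≠ 0 := pow_ne_zero _ hu3
    funext i
    fin_cases i
    · simp [vP, fS]
      rw [pow_add, div_pow u2 u3 (2 ^ (m + 1)), div_pow u1 u3 (2 ^ (m + 1))]
      generalize u3 ^ (2 ^ (m + 1)) = p0 at hstar' hs3
      generalize u1 ^ (2 ^ (m + 1)) = t0 at hstar'
      generalize u2 ^ (2 ^ (m + 1)) = r0 at hstar'
      field_simp
      linear_combination -hstar'
    · simp [vP]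
      field_simp
    · simp [vP]
      field_simp
    · simp [vP]

include hs in
/-- Elements satisfying the conditions preserve the ovoid. -/
theorem isX_mem [Fintype F] (g : SL(4, F)) (hg : IsX m g.1) : g ∈ Sz F m := by
  apply mem_Sz_of_subset
  intro p hp
  rcases mem_ovoid.1 hp with rfl | ⟨x, y, rfl⟩
  · exact isX_inf g hg
  · have h1 : P m x y = (tr m x y * wS F) • suzukiPointInfinity F := by
      rw [mul_smul, wS_smul_inf (m := m), tr_smul_zero hs]
    rw [h1, ← mul_smul, ← mul_assoc]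
    apply isX_inf
    exact (hg.mul (isX_tr hs x y)).mul isX_w

omit hs in
theorem det_of_isX (g : GL (Fin 4) F) (hg : IsX m (g : Matrix (Fin 4) (Fin 4) F)) :
    (g : Matrix (Fin 4) (Fin 4) F).det = 1 := by
  have h2 : (2 : F) = 0 := two_eq
  have h3 := congrArg Matrix.det hg.1
  rw [Matrix.det_mul, Matrix.det_mul, Matrix.det_transpose] at h3
  have h5 : (suzukiForm F).det ≠ 0 := by
    intro h0
    have h6 := congrArg Matrix.det (suzukiForm_sq (F := F))
    rw [Matrix.det_mul, h0, Matrix.det_one, zero_mul] at h6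
    exact zero_ne_one h6
  have h6 : (g : Matrix (Fin 4) (Fin 4) F).det * (g : Matrix (Fin 4) (Fin 4) F).det = 1 := by
    apply mul_right_cancel₀ h5
    linear_combination h3
  have h7 : ((g : Matrix (Fin 4) (Fin 4) F).det + 1) ^ 2 = 0 := by
    linear_combination h6 + ((g : Matrix (Fin 4) (Fin 4) F).det + 1) * h2
  have h8 := pow_eq_zero_iff (two_ne_zero) |>.1 h7
  linear_combination h8 - h2

end Gens

section Iso

variable {F : Type*} [Field F] [Fintype F] {m : ℕ} [CharP F 2]
variable (hs : SqProp F m) (h4 : 4 ≤ 2 ^ (m + 1)) (hq : 2 ^ (m + 1) + 2 < Fintype.card F)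
include hs h4 hq

/-- Elements of the Suzuki group in `GL₄` lie in the Lie-theoretic model. -/
theorem range_eq : (toGL F m).range = Lie.Sz F (2 ^ (m + 1)) := by
  apply le_antisymm
  · rintro _ ⟨x, rfl⟩
    have hgen : ∀ g : SL(4, F), IsX m g.1 → Matrix.SpecialLinearGroup.toGL g ∈ Lie.Sz F (2 ^ (m + 1)) := by
      intro g hg
      exact Subgroup.subset_closure ⟨(mem_Sp4_iff _).2 hg.1, hg.2⟩
    have htr : ∀ a b, Matrix.SpecialLinearGroup.toGL (tr m a b) ∈ Lie.Sz F (2 ^ (m + 1)) :=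
      fun a b ↦ hgen _ (isX_tr hs a b)
    have hdg : ∀ α, Matrix.SpecialLinearGroup.toGL (dg m α) ∈ Lie.Sz F (2 ^ (m + 1)) :=
      fun α ↦ hgen _ (isX_dg hs α)
    have hw : Matrix.SpecialLinearGroup.toGL (wS F) ∈ Lie.Sz F (2 ^ (m + 1)) := hgen _ isX_w
    rcases decomp hs h4 hq x.2 with ⟨a, b, α, h⟩ | ⟨a, b, c, e, α, h⟩
    · have e1 : toGL F m x = Matrix.SpecialLinearGroup.toGL (tr m a b) * Matrix.SpecialLinearGroup.toGL (dg m α) := by
        rw [← map_mul, ← h]
        rfl
      rw [e1]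
      exact mul_mem (htr a b) (hdg α)
    · have e1 : toGL F m x = Matrix.SpecialLinearGroup.toGL (tr m a b) * Matrix.SpecialLinearGroup.toGL (wS F) *
          (Matrix.SpecialLinearGroup.toGL (tr m c e) * Matrix.SpecialLinearGroup.toGL (dg m α)) := by
        rw [← map_mul, ← map_mul, ← map_mul, ← h]
        rfl
      rw [e1]
      exact mul_mem (mul_mem (htr a b) hw) (mul_mem (htr c e) (hdg α))
  · rw [Lie.Sz, Subgroup.closure_le]
    rintro g ⟨hg1, hg2⟩
    have hX : IsX m (g : Matrix (Fin 4) (Fin 4) F) := ⟨(mem_Sp4_iff _).1 hg1, hg2⟩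
    let g' : SL(4, F) := ⟨g, det_of_isX g hX⟩
    have hg' : g' ∈ Sz F m := isX_mem hs g' hX
    refine ⟨⟨g', hg'⟩, ?_⟩
    apply Units.ext
    rfl

/-- The two models of the Suzuki group are isomorphic. -/
noncomputable def szIso : Sz F m ≃* Lie.Sz F (2 ^ (m + 1)) :=
  (MonoidHom.ofInjective (toGL_injective (F := F) (m := m))).trans
    (MulEquiv.subgroupCongr (range_eq hs h4 hq))

theorem isSimple_Lie : IsSimpleGroup (Lie.Sz F (2 ^ (m + 1))) := by
  haveI := isSimple_Sz hs h4 hq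
  exact (szIso hs h4 hq).symm.isSimpleGroup

end Iso

end Cfsg.Agent.Lib.Suzuki
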