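import Mathlib

set_option autoImplicit false
open scoped Pointwise

namespace Cfsg.Agent.Lib.SylowTI

variable {G : Type*} [Group G] {p : ℕ} [Fact p.Prime]

theorem mem_conj_smul {a x : G} {R : Subgroup G} : x ∈ MulAut.conj a • R ↔ a⁻¹ * x * a ∈ R := by
  rw [Subgroup.mem_pointwise_smul_iff_inv_smul_mem]
  simp [MulAut.smul_def, MulAut.conj_inv_apply]

theorem coe_smul (a : G) (P : Sylow p G) :
    ((a • P : Sylow p G) : Subgroup G) = MulAut.conj a • (P : Subgroup G) := rfl

theorem mem_smul {a x : G} {R : Sylow p G} : x ∈ ((a • R : Sylow p G) : Subgroup G) ↔ a⁻¹ * x * a ∈ (R : Subgroup G) := by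
  rw [coe_smul, mem_conj_smul]

theorem smul_eq_self_iff {a : G} {R : Sylow p G} :
    a • R = R ↔ a ∈ Subgroup.normalizer ((R : Subgroup G) : Set G) :=
  Sylow.smul_eq_iff_mem_normalizer

variable [Finite G]

/-- The TI condition on one Sylow subgroup means: any two distinct Sylow subgroups meet trivially. -/
theorem ti_pairwise (P : Sylow p G)
    (hTI : ∀ g : G, g ∉ Subgroup.normalizer ((P : Subgroup G) : Set G) →
      (P : Subgroup G) ⊓ (MulAut.conj g • (P : Subgroup G)) = ⊥)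
    (R S : Sylow p G) (h : R ≠ S) : (R : Subgroup G) ⊓ (S : Subgroup G) = ⊥ := by
  obtain ⟨a, rfl⟩ := MulAction.exists_smul_eq G P R
  obtain ⟨b, rfl⟩ := MulAction.exists_smul_eq G P S
  have hg : a⁻¹ * b ∉ Subgroup.normalizer ((P : Subgroup G) : Set G) := by
    intro hn
    apply h
    have := smul_eq_self_iff.2 hn
    rw [mul_smul, inv_smul_eq_iff] at this
    exact this.symm
  have h0 := hTI _ hg
  rw [eq_bot_iff]
  intro x hx
  rw [Subgroup.mem_inf, mem_smul, mem_smul] at hx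
  have h1 : a⁻¹ * x * a ∈ (P : Subgroup G) ⊓ (MulAut.conj (a⁻¹ * b) • (P : Subgroup G)) := by
    rw [Subgroup.mem_inf, mem_conj_smul]
    refine ⟨hx.1, ?_⟩
    have : (a⁻¹ * b)⁻¹ * (a⁻¹ * x * a) * (a⁻¹ * b) = b⁻¹ * x * b := by group
    rw [this]; exact hx.2
  rw [h0, Subgroup.mem_bot] at h1
  have : x = a * (a⁻¹ * x * a) * a⁻¹ := by group
  rw [this, h1]; simp

/-- converse form -/
theorem ti_of_pairwise (P : Sylow p G)
    (h : ∀ R S : Sylow p G, R ≠ S → (R : Subgroup G) ⊓ (S : Subgroup G) = ⊥) (g : G)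
    (hg : g ∉ Subgroup.normalizer ((P : Subgroup G) : Set G)) :
    (P : Subgroup G) ⊓ (MulAut.conj g • (P : Subgroup G)) = ⊥ := by
  have : g • P ≠ P := fun e => hg (smul_eq_self_iff.1 e)
  exact h P (g • P) this.symm

theorem eq_of_le_normalizer (P Q : Sylow p G)
    (h : (Q : Subgroup G) ≤ Subgroup.normalizer ((P : Subgroup G) : Set G)) : Q = P := by
  have hp : IsPGroup p (((Q : Subgroup G) ⊔ (P : Subgroup G) : Subgroup G)) :=
    Q.2.to_sup_of_normal_right' P.2 h
  have h1 := P.3 hp le_sup_right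
  have h2 : (Q : Subgroup G) ≤ P := by
    have := le_sup_left (a := (Q : Subgroup G)) (b := (P : Subgroup G))
    rwa [h1] at this
  have h3 := Q.3 P.2 h2
  exact Sylow.ext h3.symm

/-- A `p`-element of the normalizer of a Sylow subgroup lies in it. -/
theorem mem_of_pelt_normalizer (P : Sylow p G) {g : G}
    (hg : g ∈ Subgroup.normalizer ((P : Subgroup G) : Set G)) {a : ℕ} (hpow : g ^ (p ^ a) = 1) :
    g ∈ (P : Subgroup G) := by
  have hZ : IsPGroup p (Subgroup.zpowers g) := by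
    rw [IsPGroup.iff_card]
    have : orderOf g ∣ p ^ a := orderOf_dvd_of_pow_eq_one hpow
    obtain ⟨k, -, hk⟩ := (Nat.dvd_prime_pow (Fact.out)).1 this
    exact ⟨k, by rw [Nat.card_zpowers, hk]⟩
  have hle : Subgroup.zpowers g ≤ Subgroup.normalizer ((P : Subgroup G) : Set G) := by
    rw [Subgroup.zpowers_le]; exact hg
  have hp := hZ.to_sup_of_normal_right' P.2 hle
  have h1 := P.3 hp le_sup_right
  have h2 : Subgroup.zpowers g ≤ (P : Subgroup G) := by
    have := le_sup_left (a := Subgroup.zpowers g) (b := (P : Subgroup G))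
    rwa [h1] at this
  exact h2 (Subgroup.mem_zpowers g)

/-- `p`-elements lie in some Sylow subgroup. -/
theorem exists_sylow_of_pelt {g : G} {a : ℕ} (hpow : g ^ (p ^ a) = 1) :
    ∃ P : Sylow p G, g ∈ (P : Subgroup G) := by
  have hZ : IsPGroup p (Subgroup.zpowers g) := by
    rw [IsPGroup.iff_card]
    have : orderOf g ∣ p ^ a := orderOf_dvd_of_pow_eq_one hpow
    obtain ⟨k, -, hk⟩ := (Nat.dvd_prime_pow (Fact.out)).1 this
    exact ⟨k, by rw [Nat.card_zpowers, hk]⟩
  obtain ⟨P, hP⟩ := hZ.exists_le_sylow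
  exact ⟨P, hP (Subgroup.mem_zpowers g)⟩

/-- A subgroup containing a Sylow subgroup for every prime is the whole group. -/
theorem eq_top_of_forall_sylow_le (L : Subgroup G)
    (h : ∀ q : ℕ, q.Prime → ∀ y : G, (∃ b : ℕ, orderOf y = q ^ b) → y ∈ L) : L = ⊤ := by
  rw [← Subgroup.index_eq_one]
  by_contra hne
  obtain ⟨q, hq, hdvd⟩ := Nat.exists_prime_and_dvd hne
  haveI : Fact q.Prime := ⟨hq⟩
  obtain ⟨Q⟩ : Nonempty (Sylow q G) := inferInstance
  have hle : (Q : Subgroup G) ≤ L := by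
    intro y hy
    apply h q hq y
    have := (IsPGroup.iff_orderOf.1 Q.2) ⟨y, hy⟩
    obtain ⟨k, hk⟩ := this
    exact ⟨k, by simpa using hk⟩
  have h1 : L.index ∣ (Q : Subgroup G).index := Subgroup.index_dvd_of_le hle
  exact Q.not_dvd_index (hdvd.trans h1)

theorem mem_of_pow_mem_of_coprime {H : Subgroup G} {g : G} {u v : ℕ} (hu : g ^ u ∈ H) (hv : g ^ v ∈ H)
    (huv : u.Coprime v) : g ∈ H := by
  have h := Nat.gcd_eq_gcd_ab u v
  rw [huv.gcd_eq_one] at h
  have h1 : g = (g ^ u) ^ (Nat.gcdA u v) * (g ^ v) ^ (Nat.gcdB u v) := by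
    rw [← zpow_natCast, ← zpow_natCast, ← zpow_mul, ← zpow_mul, ← zpow_add, ← h]
    simp
  rw [h1]
  exact H.mul_mem (H.zpow_mem hu _) (H.zpow_mem hv _)

theorem eq_top_of_forall_exists_sylow_le (L : Subgroup G)
    (h : ∀ q : ℕ, ∀ hq : q.Prime, haveI : Fact q.Prime := ⟨hq⟩; ∃ Q : Sylow q G, (Q : Subgroup G) ≤ L) :
    L = ⊤ := by
  rw [← Subgroup.index_eq_one]
  by_contra hne
  obtain ⟨q, hq, hdvd⟩ := Nat.exists_prime_and_dvd hne
  haveI : Fact q.Prime := ⟨hq⟩
  obtain ⟨Q, hle⟩ := h q hq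
  have h1 : L.index ∣ (Q : Subgroup G).index := Subgroup.index_dvd_of_le hle
  exact Q.not_dvd_index (hdvd.trans h1)

/-- size of a conjugacy class -/
theorem card_class [DecidableEq G] [Fintype G] (x : G) :
    (Finset.univ.image (fun g : G => g * x * g⁻¹)).card =
      (Subgroup.centralizer ({x} : Set G)).index := by
  have key : ∀ a b : G, a * x * a⁻¹ = b * x * b⁻¹ ↔ a⁻¹ * b ∈ Subgroup.centralizer ({x} : Set G) := by
    intro a b
    rw [Subgroup.mem_centralizer_singleton_iff]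
    constructor
    · intro h
      have : a⁻¹ * b * x = a⁻¹ * (b * x * b⁻¹) * b := by group
      rw [this, ← h]; group
    · intro h
      have : b * x * b⁻¹ = a * (a⁻¹ * b * x) * b⁻¹ := by group
      rw [this, h]; group
  let f : G ⧸ Subgroup.centralizer ({x} : Set G) →
      ↥(Finset.univ.image (fun g : G => g * x * g⁻¹)) :=
    Quotient.lift (fun g => ⟨g * x * g⁻¹, Finset.mem_image.2 ⟨g, Finset.mem_univ _, rfl⟩⟩)
      (fun a b hab => Subtype.ext ((key a b).2 (QuotientGroup.leftRel_apply.1 hab)))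
  have hf : Function.Bijective f := by
    constructor
    · intro a b
      induction a using QuotientGroup.induction_on with | _ a => ?_
      induction b using QuotientGroup.induction_on with | _ b => ?_
      intro h
      have h1 : a * x * a⁻¹ = b * x * b⁻¹ := congrArg Subtype.val h
      exact QuotientGroup.eq.2 ((key a b).1 h1)
    · rintro ⟨y, hy⟩
      obtain ⟨g, -, rfl⟩ := Finset.mem_image.1 hy
      exact ⟨QuotientGroup.mk g, rfl⟩
  have := Nat.card_eq_of_bijective f hf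
  rw [Subgroup.index, this, Nat.card_eq_fintype_card, Fintype.card_coe]

end Cfsg.Agent.Lib.SylowTI
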