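import Mathlib

set_option autoImplicit false

namespace Cfsg.Agent.Lib.SymIndex

open Equiv Equiv.Perm

/-- Arithmetic behind the transposition count. -/
theorem arith_aux : ∀ k : ℕ, 4 ≤ k → 2 ^ k * k.factorial < (2 * k - 2).factorial * 2 := by
  intro k hk
  induction k, hk using Nat.le_induction with
  | base => decide
  | succ k hk ih =>
    have e1 : 2 * (k + 1) - 2 = (2 * k - 2) + 2 := by omega
    rw [e1, Nat.factorial_succ (2 * k - 2 + 1), Nat.factorial_succ (2 * k - 2), Nat.factorial_succ k, pow_succ]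
    have e2 : 2 * k - 2 + 1 + 1 = 2 * k := by omega
    have e3 : 2 * k - 2 + 1 = 2 * k - 1 := by omega
    rw [e2, e3]
    have h3 : 2 * (k + 1) ≤ 2 * k * (2 * k - 1) := by
      obtain ⟨j, rfl⟩ : ∃ j, k = j + 4 := ⟨k - 4, by omega⟩
      have : 2 * (j + 4) - 1 = 2 * j + 7 := by omega
      rw [this]
      nlinarith
    calc 2 ^ k * 2 * ((k + 1) * k.factorial) = (2 * (k + 1)) * (2 ^ k * k.factorial) := by ring
      _ < (2 * (k + 1)) * ((2 * k - 2).factorial * 2) := Nat.mul_lt_mul_of_pos_left ih (by omega)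
      _ ≤ (2 * k * (2 * k - 1)) * ((2 * k - 2).factorial * 2) := Nat.mul_le_mul_right _ h3
      _ = 2 * k * ((2 * k - 1) * (2 * k - 2).factorial) * 2 := by ring

theorem arith_main (n k : ℕ) (hn : n ≠ 6) (hk1 : 1 ≤ k) (hk : 2 * k ≤ n)
    (h : (n - 2).factorial * 2 = (n - 2 * k).factorial * 2 ^ k * k.factorial) : k = 1 := by
  by_contra hne
  obtain ⟨m, rfl⟩ : ∃ m, n = m + 2 * k := ⟨n - 2 * k, by omega⟩
  have e0 : m + 2 * k - 2 * k = m := by omega
  rw [e0] at h
  have hmpos := Nat.factorial_pos m
  rcases (show k = 2 ∨ k = 3 ∨ 4 ≤ k by omega) with rfl | rfl | hk4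
  · have e1 : m + 2 * 2 - 2 = m + 2 := by omega
    rw [e1, Nat.factorial_succ (m + 1), Nat.factorial_succ m] at h
    have : (m + 1 + 1) * (m + 1) = 4 := by
      have h2 : m.factorial * ((m + 1 + 1) * (m + 1)) = m.factorial * 4 := by
        simp only [Nat.factorial] at h
        nlinarith
      exact Nat.eq_of_mul_eq_mul_left hmpos h2
    rcases m with _ | _ | m
    · omega
    · omega
    · nlinarith
  · have e1 : m + 2 * 3 - 2 = m + 4 := by omega
    rw [e1, Nat.factorial_succ (m + 3), Nat.factorial_succ (m + 2), Nat.factorial_succ (m + 1), Nat.factorial_succ m] at h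
    have : (m + 3 + 1) * ((m + 2 + 1) * ((m + 1 + 1) * (m + 1))) = 24 := by
      have h2 : m.factorial * ((m + 3 + 1) * ((m + 2 + 1) * ((m + 1 + 1) * (m + 1)))) = m.factorial * 24 := by
        simp only [Nat.factorial] at h
        nlinarith
      exact Nat.eq_of_mul_eq_mul_left hmpos h2
    rcases m with _ | m
    · omega
    · nlinarith [Nat.zero_le m, mul_nonneg (Nat.zero_le m) (Nat.zero_le m)]
  · have h1 := arith_aux k hk4
    have h2 : m.factorial * (2 * k - 2).factorial ≤ (m + (2 * k - 2)).factorial :=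
      Nat.factorial_mul_factorial_dvd_factorial_add m (2 * k - 2) |> Nat.le_of_dvd (Nat.factorial_pos _)
    have e1 : m + 2 * k - 2 = m + (2 * k - 2) := by omega
    rw [e1] at h
    have h3 : m.factorial * (2 ^ k * k.factorial) < m.factorial * ((2 * k - 2).factorial * 2) :=
      Nat.mul_lt_mul_of_pos_left h1 hmpos
    have h4 : m.factorial * (2 * k - 2).factorial * 2 ≤ (m + (2 * k - 2)).factorial * 2 :=
      Nat.mul_le_mul_right _ h2
    nlinarith

variable {Ω : Type*} [Fintype Ω] [DecidableEq Ω]

theorem stab_index (x : Ω) : (MulAction.stabilizer (Equiv.Perm Ω) x).index = Fintype.card Ω := by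
  rw [MulAction.index_stabilizer_of_transitive, Nat.card_eq_fintype_card]

theorem card_stab (x : Ω) (H : Subgroup (Equiv.Perm Ω)) (hH : H.index = Fintype.card Ω) :
    Nat.card H = Nat.card (MulAction.stabilizer (Equiv.Perm Ω) x) := by
  have hpos : 0 < Fintype.card Ω := Fintype.card_pos_iff.mpr ⟨x⟩
  have h1 := H.card_mul_index
  have h2 := (MulAction.stabilizer (Equiv.Perm Ω) x).card_mul_index
  rw [hH] at h1
  rw [stab_index] at h2
  exact Nat.eq_of_mul_eq_mul_right hpos (h1.trans h2.symm)

theorem eq_of_le_stab (x : Ω) (H : Subgroup (Equiv.Perm Ω)) (hH : H.index = Fintype.card Ω)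
    (hle : H ≤ MulAction.stabilizer (Equiv.Perm Ω) x) : H = MulAction.stabilizer (Equiv.Perm Ω) x :=
  Subgroup.eq_of_le_of_card_ge hle (card_stab x H hH).ge

theorem eq_of_stab_le (x : Ω) (H : Subgroup (Equiv.Perm Ω)) (hH : H.index = Fintype.card Ω)
    (hle : MulAction.stabilizer (Equiv.Perm Ω) x ≤ H) : H = MulAction.stabilizer (Equiv.Perm Ω) x :=
  (Subgroup.eq_of_le_of_card_ge hle (card_stab x H hH).le).symm

/-- Cardinality of H. -/
theorem card_H (H : Subgroup (Equiv.Perm Ω)) (hH : H.index = Fintype.card Ω)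
    (hpos : 0 < Fintype.card Ω) : Nat.card H = (Fintype.card Ω - 1).factorial := by
  have h1 := H.card_mul_index
  rw [hH, Nat.card_eq_fintype_card (α := Equiv.Perm Ω), Fintype.card_perm] at h1
  have h2 : (Fintype.card Ω).factorial = (Fintype.card Ω - 1).factorial * Fintype.card Ω := by
    rw [mul_comm]
    exact (Nat.mul_factorial_pred (by omega)).symm
  rw [h2] at h1
  exact Nat.eq_of_mul_eq_mul_right hpos h1

/-- The combinatorial heart: if disjoint swaps are never both outside `H`, then all swaps avoiding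
some point are in `H`. -/
theorem exists_center (H : Subgroup (Equiv.Perm Ω)) (hn : 4 ≤ Fintype.card Ω)
    (hdisj : ∀ a b c d : Ω, a ≠ b → c ≠ d → a ≠ c → a ≠ d → b ≠ c → b ≠ d →
      swap a b ∈ H ∨ swap c d ∈ H) :
    ∃ x : Ω, ∀ a b : Ω, a ≠ x → b ≠ x → swap a b ∈ H := by
  by_contra hcon
  push Not at hcon
  obtain ⟨x₀⟩ : Nonempty Ω := Fintype.card_pos_iff.mp (by omega)
  -- first edge
  obtain ⟨a, b, hax, hbx, hab⟩ := hcon x₀
  have habne : a ≠ b := by
    rintro rfl
    rw [swap_self] at hab
    exact hab H.one_mem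
  -- an edge avoiding a contains b
  obtain ⟨c, d, hca, hda, hcd⟩ := hcon a
  have hcdne : c ≠ d := by
    rintro rfl
    rw [swap_self] at hcd
    exact hcd H.one_mem
  obtain ⟨e, f, heb, hfb, hef⟩ := hcon b
  have hefne : e ≠ f := by
    rintro rfl
    rw [swap_self] at hef
    exact hef H.one_mem
  have key : ∀ p q r s : Ω, swap p q ∉ H → swap r s ∉ H → p = r ∨ p = s ∨ q = r ∨ q = s := by
    intro p q r s h1 h2
    by_contra hh
    push Not at hh
    obtain ⟨h3, h4, h5, h6⟩ := hh
    have hpq : p ≠ q := by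
      rintro rfl
      rw [swap_self] at h1
      exact h1 H.one_mem
    have hrs : r ≠ s := by
      rintro rfl
      rw [swap_self] at h2
      exact h2 H.one_mem
    rcases hdisj p q r s hpq hrs h3 h4 h5 h6 with h | h
    · exact h1 h
    · exact h2 h
  -- the edge {c,d} contains b (meets {a,b}, avoids a)
  -- normalise: get a third point t with swap b t, swap a t outside H
  obtain ⟨t, htb, hta, hbt⟩ : ∃ t, t ≠ b ∧ t ≠ a ∧ swap b t ∉ H := by
    have h1 := key a b c d hab hcd
    rcases h1 with h | h | h | h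
    · exact absurd h.symm hca
    · exact absurd h.symm hda
    · subst h
      exact ⟨d, hcdne.symm, hda, hcd⟩
    · subst h
      refine ⟨c, hcdne, hca, ?_⟩
      rwa [swap_comm]
  obtain ⟨t', ht'a, ht'b, hat'⟩ : ∃ t', t' ≠ a ∧ t' ≠ b ∧ swap a t' ∉ H := by
    have h1 := key a b e f hab hef
    rcases h1 with h | h | h | h
    · subst h
      exact ⟨f, hefne.symm, hfb, hef⟩
    · subst h
      refine ⟨e, hefne, heb, ?_⟩
      rwa [swap_comm]
    · exact absurd h.symm heb
    · exact absurd h.symm hfb
  -- these two edges meet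
  have htt : t = t' := by
    rcases key b t a t' hbt hat' with h | h | h | h
    · exact absurd h.symm habne
    · exact absurd h.symm ht'b
    · exact absurd h hta
    · exact h
  subst htt
  -- a fourth point
  obtain ⟨u, hua, hub, hut⟩ : ∃ u, u ≠ a ∧ u ≠ b ∧ u ≠ t := by
    by_contra hno
    push Not at hno
    have hsub : (Finset.univ : Finset Ω) ⊆ {a, b, t} := by
      intro u _
      by_cases h1 : u = a
      · simp [h1]
      · by_cases h2 : u = b
        · simp [h2]
        · simp [hno u h1 h2]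
    have := Finset.card_le_card hsub
    rw [Finset.card_univ] at this
    have h3 : ({a, b, t} : Finset Ω).card ≤ 3 := Finset.card_le_three
    omega
  have h1 : swap a u ∈ H := by
    rcases hdisj a u b t hua.symm htb.symm habne hta.symm hub hut with h | h
    · exact h
    · exact absurd h hbt
  have h2 : swap b u ∈ H := by
    rcases hdisj b u a t hub.symm hta.symm habne.symm htb.symm hua hut with h | h
    · exact h
    · exact absurd h hat'
  have h3 : swap a b = swap a u * swap b u * swap a u := by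
    have := swap_mul_swap_mul_swap (x := b) (y := u) (z := a) hub.symm habne.symm
    rw [swap_comm u a] at this
    exact this.symm
  rw [h3] at hab
  exact hab (H.mul_mem (H.mul_mem h1 h2) h1)

/-- If all swaps avoiding `x` lie in `H` then the stabilizer of `x` lies in `H`. -/
theorem stab_le_of_swaps (H : Subgroup (Equiv.Perm Ω)) (x : Ω)
    (h : ∀ a b : Ω, a ≠ x → b ≠ x → swap a b ∈ H) :
    MulAction.stabilizer (Equiv.Perm Ω) x ≤ H := by
  intro g hg
  have hgx : g x = x := hg
  -- restrict to the complement of x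
  have hp : ∀ y, (fun z => z ≠ x) (g y) ↔ (fun z => z ≠ x) y := by
    intro y
    change g y ≠ x ↔ y ≠ x
    constructor
    · intro h1 h2
      apply h1
      rw [h2, hgx]
    · intro h1 h2
      apply h1
      apply g.injective
      rw [h2, hgx]
  let g' : Equiv.Perm {z // z ≠ x} := g.subtypePerm hp
  have hg' : Equiv.Perm.ofSubtype g' = g := by
    apply Equiv.Perm.ofSubtype_subtypePerm
    intro y hy hyx
    apply hy
    rw [hyx]
    exact hgx
  rw [← hg']
  -- closure of swaps
  have hclos : Subgroup.closure {σ : Equiv.Perm {z // z ≠ x} | σ.IsSwap} = ⊤ := Equiv.Perm.closure_isSwap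
  have hmem : g' ∈ Subgroup.closure {σ : Equiv.Perm {z // z ≠ x} | σ.IsSwap} := by
    rw [hclos]; trivial
  have hle : Subgroup.closure {σ : Equiv.Perm {z // z ≠ x} | σ.IsSwap} ≤
      H.comap (Equiv.Perm.ofSubtype (p := fun z => z ≠ x)) := by
    rw [Subgroup.closure_le]
    rintro σ ⟨a, b, -, rfl⟩
    change Equiv.Perm.ofSubtype (swap a b) ∈ H
    rw [Equiv.Perm.ofSubtype_swap_eq]
    exact h _ _ a.2 b.2
  exact hle hmem

/-- The action on the cosets of a subgroup of index `n`, and a swap goes to a swap. -/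
theorem swap_image_isSwap (H : Subgroup (Equiv.Perm Ω)) (hH : H.index = Fintype.card Ω)
    (h5 : 5 ≤ Fintype.card Ω) (h6 : Fintype.card Ω ≠ 6)
    (X : Type*) [Fintype X] [DecidableEq X] (hX : Fintype.card X = Fintype.card Ω)
    (φ : Equiv.Perm Ω →* Equiv.Perm X) (hφ : Function.Bijective φ)
    (t : Equiv.Perm Ω) (ht : t.IsSwap) : (φ t).IsSwap := by
  classical
  set n := Fintype.card Ω with hn
  set u := φ t with hu
  have ht2 : t ^ 2 = 1 := by
    rw [← ht.orderOf]
    exact pow_orderOf_eq_one t
  have hu2 : u ^ 2 = 1 := by rw [hu, ← map_pow, ht2, map_one]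
  have hu1 : u ≠ 1 := by
    intro h
    have h1 : t = 1 := hφ.1 (by rw [map_one, ← hu, h])
    rw [h1] at ht
    obtain ⟨a, b, hab, hs⟩ := ht
    have := Equiv.congr_fun hs a
    simp at this
    exact hab this
  -- cycle type of u
  have hall : ∀ a ∈ u.cycleType, a = 2 := by
    intro a ha
    have h1 : a ∣ orderOf u := Equiv.Perm.dvd_of_mem_cycleType ha
    have h2 : orderOf u ∣ 2 := orderOf_dvd_of_pow_eq_one hu2
    have h3 := Equiv.Perm.two_le_of_mem_cycleType ha
    have h4 := Nat.le_of_dvd (by norm_num) (h1.trans h2)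
    omega
  obtain ⟨k, hk⟩ : ∃ k, u.cycleType = Multiset.replicate k 2 :=
    ⟨_, Multiset.eq_replicate_card.mpr hall⟩
  have hk1 : 1 ≤ k := by
    by_contra hk0
    have : k = 0 := by omega
    subst this
    rw [Multiset.replicate_zero, Equiv.Perm.cycleType_eq_zero] at hk
    exact hu1 hk
  have hsum : 2 * k ≤ n := by
    have := Equiv.Perm.sum_cycleType_le u
    rw [hk, Multiset.sum_replicate, smul_eq_mul, hX] at this
    linarith
  -- the classes
  have hcard : (Finset.univ.filter (fun g : Equiv.Perm Ω => g.cycleType = {2})).card =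
      (Finset.univ.filter (fun v : Equiv.Perm X => v.cycleType = Multiset.replicate k 2)).card := by
    apply Finset.card_bij (fun g _ => φ g)
    · intro g hg
      have hg' : g.cycleType = {2} := (Finset.mem_filter.mp hg).2
      refine Finset.mem_filter.mpr ⟨Finset.mem_univ _, ?_⟩
      have hc : IsConj g t := by
        rw [Equiv.Perm.isConj_iff_cycleType_eq, hg', Equiv.Perm.isSwap_iff_cycleType.mp ht]
      obtain ⟨w, hw⟩ := isConj_iff.mp hc
      rw [← hk, hu, ← hw, map_mul, map_mul, map_inv, Equiv.Perm.cycleType_conj]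
    · intro a _ b _ h
      exact hφ.1 h
    · intro v hv
      have hv' : v.cycleType = Multiset.replicate k 2 := (Finset.mem_filter.mp hv).2
      have hc : IsConj u v := by
        rw [Equiv.Perm.isConj_iff_cycleType_eq, hv', hk]
      obtain ⟨w, hw⟩ := isConj_iff.mp hc
      obtain ⟨w', rfl⟩ := hφ.2 w
      refine ⟨w' * t * w'⁻¹, Finset.mem_filter.mpr ⟨Finset.mem_univ _, ?_⟩, ?_⟩
      · rw [Equiv.Perm.cycleType_conj]
        exact Equiv.Perm.isSwap_iff_cycleType.mp ht
      · rw [map_mul, map_mul, map_inv, ← hu, hw]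
  have hpos : 0 < (Finset.univ.filter (fun g : Equiv.Perm Ω => g.cycleType = {2})).card := by
    apply Finset.card_pos.mpr
    exact ⟨t, Finset.mem_filter.mpr ⟨Finset.mem_univ _, Equiv.Perm.isSwap_iff_cycleType.mp ht⟩⟩
  have f1 := Equiv.Perm.card_of_cycleType_mul_eq Ω ({2} : Multiset ℕ)
  have f2 := Equiv.Perm.card_of_cycleType_mul_eq X (Multiset.replicate k 2)
  have hcond1 : (({2} : Multiset ℕ).sum ≤ Fintype.card Ω ∧ ∀ a ∈ ({2} : Multiset ℕ), 2 ≤ a) := by
    simp only [Multiset.sum_singleton, Multiset.mem_singleton, forall_eq, le_refl, and_true]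
    omega
  have hcond2 : ((Multiset.replicate k 2).sum ≤ Fintype.card X ∧ ∀ a ∈ (Multiset.replicate k 2), 2 ≤ a) := by
    refine ⟨?_, fun a ha => ?_⟩
    · rw [Multiset.sum_replicate, smul_eq_mul, hX]
      linarith
    · rw [Multiset.eq_of_mem_replicate ha]
  rw [if_pos hcond1] at f1
  rw [if_pos hcond2, hX, ← hcard, ← f1] at f2
  have h1 := Nat.eq_of_mul_eq_mul_left hpos f2
  -- evaluate the two products
  have e1 : (({2} : Multiset ℕ).sum) = 2 := by simp
  have e2 : (({2} : Multiset ℕ).prod) = 2 := by simp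
  have e3 : (∏ m ∈ ({2} : Multiset ℕ).toFinset, (({2} : Multiset ℕ).count m).factorial) = 1 := by
    simp
  have e4 : ((Multiset.replicate k 2).sum) = 2 * k := by
    rw [Multiset.sum_replicate, smul_eq_mul, mul_comm]
  have e5 : ((Multiset.replicate k 2).prod) = 2 ^ k := by
    rw [Multiset.prod_replicate]
  have e6 : (∏ m ∈ (Multiset.replicate k 2).toFinset, ((Multiset.replicate k 2).count m).factorial) = k.factorial := by
    rw [Multiset.toFinset_replicate, if_neg (by omega), Finset.prod_singleton, Multiset.count_replicate_self]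
  rw [e1, e2, e3, e4, e5, e6, mul_one] at h1
  have hk1' : k = 1 := arith_main n k h6 hk1 hsum (by rw [h1]) 
  subst hk1'
  rw [Equiv.Perm.isSwap_iff_cycleType, hk]
  rfl

/-- Large degree. -/
theorem exists_large (H : Subgroup (Equiv.Perm Ω)) (hH : H.index = Fintype.card Ω)
    (h5 : 5 ≤ Fintype.card Ω) (h6 : Fintype.card Ω ≠ 6) :
    ∃ x : Ω, H = MulAction.stabilizer (Equiv.Perm Ω) x := by
  classical
  let X := Equiv.Perm Ω ⧸ H
  haveI : Fintype X := Fintype.ofFinite _
  have hX : Fintype.card X = Fintype.card Ω := by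
    rw [← hH, Subgroup.index_eq_card, Nat.card_eq_fintype_card]
  let φ : Equiv.Perm Ω →* Equiv.Perm X := MulAction.toPermHom (Equiv.Perm Ω) X
  have hnat5 : 5 ≤ Nat.card Ω := by rwa [Nat.card_eq_fintype_card]
  have hinj : Function.Injective φ := by
    rw [← MonoidHom.ker_eq_bot_iff, ← Subgroup.normalCore_eq_ker]
    by_contra hne
    have hnt : Nontrivial H.normalCore := (Subgroup.nontrivial_iff_ne_bot _).mpr hne
    haveI : H.normalCore.Normal := Subgroup.normalCore_normal H
    have hA := Equiv.Perm.alternatingGroup_le_of_normal hnat5 hnt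
    have hle : alternatingGroup Ω ≤ H := hA.trans (Subgroup.normalCore_le H)
    have hnt2 : Nontrivial Ω := Fintype.one_lt_card_iff_nontrivial.mp (by omega)
    have hdvd := Subgroup.index_dvd_of_le hle
    rw [alternatingGroup.index_eq_two, hH] at hdvd
    have := Nat.le_of_dvd (by norm_num) hdvd
    omega
  have hbij : Function.Bijective φ := by
    rw [Fintype.bijective_iff_injective_and_card]
    refine ⟨hinj, ?_⟩
    rw [Fintype.card_perm, Fintype.card_perm, hX]
  have hswap : ∀ t : Equiv.Perm Ω, t.IsSwap → (φ t).IsSwap := fun t ht =>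
    swap_image_isSwap H hH h5 h6 X hX φ hbij t ht
  let c₀ : X := QuotientGroup.mk 1
  have hmove : ∀ t : Equiv.Perm Ω, t ∉ H → φ t c₀ ≠ c₀ := by
    intro t ht h
    apply ht
    have h1 : (QuotientGroup.mk (t * 1) : X) = QuotientGroup.mk 1 := h
    rw [QuotientGroup.eq] at h1
    simpa using h1
  have hform : ∀ t : Equiv.Perm Ω, t.IsSwap → t ∉ H → ∃ y, y ≠ c₀ ∧ φ t = swap c₀ y := by
    intro t ht htH
    obtain ⟨p, q, hpq, hs⟩ := hswap t ht
    have hm := hmove t htH
    rw [hs] at hm ⊢
    by_cases hp : c₀ = p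
    · subst hp
      exact ⟨q, hpq.symm, rfl⟩
    · by_cases hq : c₀ = q
      · subst hq
        exact ⟨p, hpq, swap_comm _ _⟩
      · exact absurd (swap_apply_of_ne_of_ne hp hq) hm
  have hdisj : ∀ a b c d : Ω, a ≠ b → c ≠ d → a ≠ c → a ≠ d → b ≠ c → b ≠ d →
      swap a b ∈ H ∨ swap c d ∈ H := by
    intro a b c d hab hcd hac had hbc hbd
    by_contra hcon
    push Not at hcon
    obtain ⟨h1, h2⟩ := hcon
    obtain ⟨y, hy, hφ1⟩ := hform _ ⟨a, b, hab, rfl⟩ h1
    obtain ⟨y', hy', hφ2⟩ := hform _ ⟨c, d, hcd, rfl⟩ h2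
    have hcomm : swap a b * swap c d = swap c d * swap a b := by
      have : Equiv.Perm.Disjoint (swap a b) (swap c d) := by
        intro z
        by_cases hz1 : z = a
        · right
          subst hz1
          exact swap_apply_of_ne_of_ne hac had
        · by_cases hz2 : z = b
          · right
            subst hz2
            exact swap_apply_of_ne_of_ne hbc hbd
          · left
            exact swap_apply_of_ne_of_ne hz1 hz2
      exact this.commute
    have hcomm2 : swap c₀ y * swap c₀ y' = swap c₀ y' * swap c₀ y := by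
      rw [← hφ1, ← hφ2, ← map_mul, ← map_mul, hcomm]
    have hyy : y = y' := by
      by_contra hne
      have h3 := Equiv.congr_fun hcomm2 c₀
      simp only [Equiv.Perm.mul_apply, swap_apply_left] at h3
      rw [swap_apply_of_ne_of_ne hy'.symm.symm (Ne.symm hne), swap_apply_of_ne_of_ne hy hne] at h3
      exact hne h3.symm
    subst hyy
    have h4 : swap a b = swap c d := hinj (by rw [hφ1, hφ2])
    have h5 := Equiv.congr_fun h4 a
    rw [swap_apply_left, swap_apply_of_ne_of_ne hac had] at h5
    exact hab h5.symm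
  obtain ⟨x, hx⟩ := exists_center H (by omega) hdisj
  exact ⟨x, eq_of_stab_le x H hH (stab_le_of_swaps H x hx)⟩

/-- Small degree: an element of prime order `p` in degree `p + 1` with normal cyclic group. -/
theorem exists_small (H : Subgroup (Equiv.Perm Ω)) (hH : H.index = Fintype.card Ω)
    (p : ℕ) (hp : p.Prime) (hn : Fintype.card Ω = p + 1) (hp3 : p ≤ 3) :
    ∃ x : Ω, H = MulAction.stabilizer (Equiv.Perm Ω) x := by
  classical
  haveI : Fact p.Prime := ⟨hp⟩
  have hcardH := card_H H hH (by omega)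
  rw [hn, Nat.add_sub_cancel] at hcardH
  have hdvd : p ∣ Nat.card H := by
    rw [hcardH]
    exact Nat.dvd_factorial hp.pos le_rfl
  obtain ⟨c, hc⟩ := exists_prime_orderOf_dvd_card' (G := H) p hdvd
  have hcG : orderOf (c : Equiv.Perm Ω) = p := by
    rw [← hc]
    exact Subgroup.orderOf_coe c
  -- exactly one fixed point
  obtain ⟨m, hm⟩ := Equiv.Perm.cycleType_prime_order (σ := (c : Equiv.Perm Ω)) (by rw [hcG]; exact hp)
  have hsupp : ((c : Equiv.Perm Ω).support).card = (m + 1) * p := by
    rw [← Equiv.Perm.sum_cycleType, hm, hcG, Multiset.sum_replicate, smul_eq_mul]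
  have hle : ((c : Equiv.Perm Ω).support).card ≤ p + 1 := by
    rw [← hn]
    exact Finset.card_le_univ _
  have hm0 : m = 0 := by
    by_contra hne
    have h1 : 2 * p ≤ (m + 1) * p := Nat.mul_le_mul_right _ (by omega)
    have h2 := hp.two_le
    omega
  subst hm0
  have hcompl : ((c : Equiv.Perm Ω).support)ᶜ.card = 1 := by
    rw [Finset.card_compl, hsupp, hn]
    omega
  obtain ⟨x, hx⟩ := Finset.card_eq_one.mp hcompl
  have hfix : ∀ y, (c : Equiv.Perm Ω) y = y ↔ y = x := by
    intro y
    have : y ∈ ((c : Equiv.Perm Ω).support)ᶜ ↔ y = x := by rw [hx]; simp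
    rw [← this]
    simp
  refine ⟨x, eq_of_le_stab x H hH ?_⟩
  -- normality of the cyclic subgroup
  have hcn : (Subgroup.zpowers c).Normal := by
    have h1 := (Subgroup.zpowers c).card_mul_index
    rw [Nat.card_zpowers, hc, hcardH] at h1
    have hp23 : p = 2 ∨ p = 3 := by
      have := hp.two_le
      omega
    rcases hp23 with rfl | rfl
    · have : (Subgroup.zpowers c).index = 1 := by
        have h3 : 2 * (Subgroup.zpowers c).index = 2 * 1 := by rw [h1]; rfl
        exact Nat.eq_of_mul_eq_mul_left (by norm_num) h3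
      rw [Subgroup.index_eq_one.mp this]
      infer_instance
    · have : (Subgroup.zpowers c).index = 2 := by
        norm_num [Nat.factorial] at h1
        omega
      exact Subgroup.normal_of_index_eq_two this
  intro h hh
  change h x = x
  have hconj := hcn.conj_mem c (Subgroup.mem_zpowers c) ⟨h⁻¹, H.inv_mem hh⟩
  obtain ⟨k, hk⟩ := hconj
  have hk' : (c : Equiv.Perm Ω) ^ k = h⁻¹ * (c : Equiv.Perm Ω) * h := by
    have := congrArg Subtype.val hk
    simpa using this
  have hcx : (c : Equiv.Perm Ω) x = x := (hfix x).mpr rfl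
  have hcxk : ((c : Equiv.Perm Ω) ^ k) x = x := by
    have : x ∈ Function.fixedPoints (c : Equiv.Perm Ω) := hcx
    exact Equiv.Perm.zpow_apply_eq_self_of_apply_eq_self hcx k
  rw [hk'] at hcxk
  have h2 : (c : Equiv.Perm Ω) (h x) = h x := by
    have h3 : h⁻¹ ((c : Equiv.Perm Ω) (h x)) = x := hcxk
    have h4 := congrArg h h3
    simpa using h4
  have h5 := (hfix (h x)).mp h2
  exact h5

/-- Main theorem. -/
theorem main5911 (h6 : Fintype.card Ω ≠ 6) (H : Subgroup (Equiv.Perm Ω)) (hH : H.index = Fintype.card Ω) :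
    ∃ x : Ω, H = MulAction.stabilizer (Equiv.Perm Ω) x := by
  classical
  have hpos : 0 < Fintype.card Ω := by
    rw [← hH]
    exact Nat.pos_of_ne_zero Subgroup.index_ne_zero_of_finite
  by_cases h5 : 5 ≤ Fintype.card Ω
  · exact exists_large H hH h5 h6
  have hcases : Fintype.card Ω = 1 ∨ Fintype.card Ω = 2 ∨ Fintype.card Ω = 3 ∨ Fintype.card Ω = 4 := by omega
  rcases hcases with h | h | h | h
  · obtain ⟨x⟩ : Nonempty Ω := Fintype.card_pos_iff.mp hpos
    refine ⟨x, eq_of_le_stab x H hH ?_⟩
    have hc := card_H H hH hpos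
    rw [h] at hc
    have hbot : H = ⊥ := Subgroup.eq_bot_of_card_eq _ (by simpa using hc)
    rw [hbot]
    exact bot_le
  · obtain ⟨x⟩ : Nonempty Ω := Fintype.card_pos_iff.mp hpos
    refine ⟨x, eq_of_le_stab x H hH ?_⟩
    have hc := card_H H hH hpos
    rw [h] at hc
    have hbot : H = ⊥ := Subgroup.eq_bot_of_card_eq _ (by simpa using hc)
    rw [hbot]
    exact bot_le
  · exact exists_small H hH 2 Nat.prime_two h (by norm_num)
  · exact exists_small H hH 3 Nat.prime_three h le_rfl

/-- Subgroups of small index. -/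
theorem main5944 (n : ℕ) (hn : n ≠ 4) (H : Subgroup (Equiv.Perm (Fin n))) (hH : H ≠ ⊤)
    (hA : H ≠ alternatingGroup (Fin n)) : n ≤ H.index := by
  classical
  by_contra hlt
  push Not at hlt
  have hm0 : H.index ≠ 0 := Subgroup.index_ne_zero_of_finite
  have key : H.index ≤ 2 := by
    by_cases hn3 : n ≤ 3
    · omega
    have hn5 : 5 ≤ Nat.card (Fin n) := by
      rw [Nat.card_fin]; omega
    let X := Equiv.Perm (Fin n) ⧸ H
    haveI : Fintype X := Fintype.ofFinite _
    have hX : Fintype.card X = H.index := by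
      rw [Subgroup.index_eq_card, Nat.card_eq_fintype_card]
    let φ : Equiv.Perm (Fin n) →* Equiv.Perm X := MulAction.toPermHom (Equiv.Perm (Fin n)) X
    have hne : H.normalCore ≠ ⊥ := by
      intro hbot
      have hinj : Function.Injective φ := by
        rw [← MonoidHom.ker_eq_bot_iff, ← Subgroup.normalCore_eq_ker]
        exact hbot
      have h1 := Fintype.card_le_of_injective φ hinj
      rw [Fintype.card_perm, Fintype.card_perm, Fintype.card_fin, hX] at h1
      have h2 := Nat.factorial_lt (n := H.index) (m := n) (Nat.pos_of_ne_zero hm0) |>.mpr hlt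
      omega
    have hnt : Nontrivial H.normalCore := (Subgroup.nontrivial_iff_ne_bot _).mpr hne
    haveI : H.normalCore.Normal := Subgroup.normalCore_normal H
    have hA2 := Equiv.Perm.alternatingGroup_le_of_normal hn5 hnt
    have hle : alternatingGroup (Fin n) ≤ H := hA2.trans (Subgroup.normalCore_le H)
    have hnt2 : Nontrivial (Fin n) := Fin.nontrivial_iff_two_le.mpr (by omega)
    have hdvd := Subgroup.index_dvd_of_le hle
    rw [alternatingGroup.index_eq_two] at hdvd
    exact Nat.le_of_dvd (by norm_num) hdvd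
  have : H.index = 1 ∨ H.index = 2 := by omega
  rcases this with h | h
  · exact hH (Subgroup.index_eq_one.mp h)
  · exact hA (Equiv.Perm.eq_alternatingGroup_of_index_eq_two h)

end Cfsg.Agent.Lib.SymIndex
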