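import Cfsg.Agent.Lib.PGroupBasic
import Cfsg.Agent.Lib.Order8
import Cfsg.Agent.Lib.Dihedral
import Cfsg.Agent.Lib.Quaternion

/-!
# Taussky: 2-groups with abelianization of order four and exponent two
-/

set_option autoImplicit false
set_option linter.all false

namespace Cfsg.Agent.Lib.Taussky

open scoped commutatorElement

section Fix

variable {S : Type*} [Group S] [Finite S]

theorem card_fix_le (A : Subgroup S) [hAn : A.Normal] (hA : ∀ a ∈ A, ∀ b ∈ A, a * b = b * a) (hA2 : A.index = 2)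
    (hD : (commutator S).index = 4) (x : S) (hx : x ∉ A) :
    Nat.card ↥(A ⊓ Subgroup.centralizer ({x} : Set S)) ≤ 2 := by
  classical
  letI : CommGroup A := { (inferInstance : Group A) with mul_comm := fun a b => Subtype.ext (hA a a.2 b b.2) }
  let σ : A →* A := (MulAut.conjNormal x : MulAut A).toMonoidHom
  let φ : A →* A := σ / MonoidHom.id A
  have hφ : ∀ c : A, ((φ c : A) : S) = x * c * x⁻¹ * (c : S)⁻¹ := by
    intro c
    have h1 : φ c = σ c * c⁻¹ := by
      show σ c / c = _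
      rw [div_eq_mul_inv]
    rw [h1]
    rfl
  let R : Subgroup S := φ.range.map A.subtype
  have hRA : R ≤ A := Subgroup.map_subtype_le _
  have hx2 : x * x ∈ A := by
    rw [Subgroup.mul_mem_iff_of_index_two hA2]
  have hmemR : ∀ c : A, x * c * x⁻¹ * (c : S)⁻¹ ∈ R := by
    intro c
    rw [← hφ]
    exact ⟨φ c, ⟨c, rfl⟩, rfl⟩
  haveI hRn : R.Normal := by
    refine ⟨?_⟩
    rintro _ ⟨_, ⟨c, rfl⟩, rfl⟩ s
    show s * ((φ c : A) : S) * s⁻¹ ∈ R
    by_cases hs : s ∈ A
    · have h1 : s * ((φ c : A) : S) * s⁻¹ = ((φ c : A) : S) := by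
        rw [hA s hs _ (φ c).2]
        group
      rw [h1]
      exact ⟨φ c, ⟨c, rfl⟩, rfl⟩
    · have ha : x⁻¹ * s ∈ A := by
        rw [Subgroup.mul_mem_iff_of_index_two hA2]
        simp [hx, hs]
      have e0 : s = x * (x⁻¹ * s) := by group
      have h1 : s * ((φ c : A) : S) * s⁻¹ = x * ((φ c : A) : S) * x⁻¹ := by
        have h2 : (x⁻¹ * s) * ((φ c : A) : S) = ((φ c : A) : S) * (x⁻¹ * s) := hA _ ha _ (φ c).2
        calc s * ((φ c : A) : S) * s⁻¹ = x * ((x⁻¹ * s) * ((φ c : A) : S)) * (x⁻¹ * s)⁻¹ * x⁻¹ := by group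
          _ = x * (((φ c : A) : S) * (x⁻¹ * s)) * (x⁻¹ * s)⁻¹ * x⁻¹ := by rw [h2]
          _ = _ := by group
      rw [h1, hφ]
      have h3 := hmemR c⁻¹
      have e1 : x * (c⁻¹ : A) * x⁻¹ * ((c⁻¹ : A) : S)⁻¹ = (x * (c : S)⁻¹ * x⁻¹) * c := by
        simp
      rw [e1] at h3
      have hxc : x * (c : S)⁻¹ * x⁻¹ ∈ A := hAn.conj_mem _ (A.inv_mem c.2) x
      have h4 := hA _ hxc _ c.2
      rw [h4] at h3
      have h5 : (x * x) * (c : S) = (c : S) * (x * x) := hA _ hx2 _ c.2
      have e2 : x * (x * (c : S) * x⁻¹ * (c : S)⁻¹) * x⁻¹ = (c : S) * (x * (c : S)⁻¹ * x⁻¹) := by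
        calc x * (x * (c : S) * x⁻¹ * (c : S)⁻¹) * x⁻¹ = ((x * x) * (c : S)) * (x * x)⁻¹ * (x * (c : S)⁻¹ * x⁻¹) := by group
          _ = ((c : S) * (x * x)) * (x * x)⁻¹ * (x * (c : S)⁻¹ * x⁻¹) := by rw [h5]
          _ = _ := by group
      rw [e2]
      exact h3
  have hDR : commutator S ≤ R := by
    have hxc : ∀ c ∈ A, Commute ((x : S) : S ⧸ R) ((c : S) : S ⧸ R) := by
      intro c hc
      have h1 := hmemR ⟨c, hc⟩
      have h2 : ((x * c * x⁻¹ * c⁻¹ : S) : S ⧸ R) = 1 := (QuotientGroup.eq_one_iff _).2 h1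
      have h3 : ((x : S) : S ⧸ R) * ((c : S) : S ⧸ R) * ((x : S) : S ⧸ R)⁻¹ * ((c : S) : S ⧸ R)⁻¹ = 1 := h2
      show ((x : S) : S ⧸ R) * ((c : S) : S ⧸ R) = ((c : S) : S ⧸ R) * ((x : S) : S ⧸ R)
      calc ((x : S) : S ⧸ R) * ((c : S) : S ⧸ R) = (((x : S) : S ⧸ R) * ((c : S) : S ⧸ R) * ((x : S) : S ⧸ R)⁻¹ * ((c : S) : S ⧸ R)⁻¹) * (((c : S) : S ⧸ R) * ((x : S) : S ⧸ R)) := by group
        _ = _ := by rw [h3, one_mul]
    have hcc : ∀ c ∈ A, ∀ d ∈ A, Commute ((c : S) : S ⧸ R) ((d : S) : S ⧸ R) := by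
      intro c hc d hd
      show ((c * d : S) : S ⧸ R) = ((d * c : S) : S ⧸ R)
      rw [hA c hc d hd]
    have hdec : ∀ g : S, g ∈ A ∨ ∃ a ∈ A, g = x * a := by
      intro g
      by_cases hg : g ∈ A
      · exact Or.inl hg
      · right
        refine ⟨x⁻¹ * g, ?_, by group⟩
        rw [Subgroup.mul_mem_iff_of_index_two hA2]
        simp [hx, hg]
    have hall : ∀ g g' : S, Commute ((g : S) : S ⧸ R) ((g' : S) : S ⧸ R) := by
      intro g g'
      rcases hdec g with hg | ⟨a, ha, rfl⟩ <;> rcases hdec g' with hg' | ⟨b, hb, rfl⟩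
      · exact hcc g hg g' hg'
      · rw [QuotientGroup.mk_mul]
        exact ((hxc g hg).symm).mul_right (hcc g hg b hb)
      · rw [QuotientGroup.mk_mul]
        exact ((hxc g' hg')).mul_left (hcc a ha g' hg')
      · rw [QuotientGroup.mk_mul, QuotientGroup.mk_mul]
        refine Commute.mul_left ?_ ?_
        · exact Commute.mul_right (Commute.refl _) (hxc b hb)
        · exact Commute.mul_right (hxc a ha).symm (hcc a ha b hb)
    rw [commutator_def, Subgroup.commutator_le]
    intro g _ g' _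
    apply (QuotientGroup.eq_one_iff _).1
    have h1 : ((⁅g, g'⁆ : S) : S ⧸ R) = ((g : S) : S ⧸ R) * ((g' : S) : S ⧸ R) * ((g : S) : S ⧸ R)⁻¹ * ((g' : S) : S ⧸ R)⁻¹ := rfl
    rw [h1, (hall g g').eq]
    group
  -- counting
  have h1 : Nat.card φ.ker * φ.ker.index = Nat.card A := Subgroup.card_mul_index _
  have h2 : φ.ker.index = Nat.card φ.range := Subgroup.index_ker φ
  have h3 : Nat.card R = Nat.card φ.range := Subgroup.card_map_of_injective A.subtype_injective
  have h4 : Nat.card A * A.index = Nat.card S := Subgroup.card_mul_index A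
  have h5 : Nat.card (commutator S) * (commutator S).index = Nat.card S := Subgroup.card_mul_index _
  have h6 : Nat.card (commutator S) ≤ Nat.card R := Subgroup.card_le_of_le hDR
  have h7 : Nat.card φ.ker ≤ 2 := by
    rw [hA2] at h4
    rw [hD] at h5
    rw [h2] at h1
    have hpos : 0 < Nat.card φ.range := Nat.card_pos
    by_contra hcon
    push_neg at hcon
    have : 3 * Nat.card φ.range ≤ Nat.card φ.ker * Nat.card φ.range := Nat.mul_le_mul_right _ hcon
    omega
  refine le_trans ?_ h7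
  let f : ↥(A ⊓ Subgroup.centralizer ({x} : Set S)) → φ.ker := fun y => ⟨⟨y, y.2.1⟩, by
    rw [MonoidHom.mem_ker]
    apply Subtype.ext
    rw [hφ]
    have h8 : (y : S) * x = x * y := Subgroup.mem_centralizer_singleton_iff.1 y.2.2
    show x * (y : S) * x⁻¹ * (y : S)⁻¹ = 1
    rw [← h8]
    group⟩
  apply Nat.card_le_card_of_injective f
  intro y y' he
  have h8 := congrArg (fun w : φ.ker => (((w : A) : S))) he
  exact Subtype.ext h8

theorem fix_unique (A : Subgroup S) [hAn : A.Normal] (hA : ∀ a ∈ A, ∀ b ∈ A, a * b = b * a) (hA2 : A.index = 2)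
    (hD : (commutator S).index = 4) (x : S) (hx : x ∉ A) {u v : S} (hu : u ∈ A) (hv : v ∈ A)
    (hux : u * x = x * u) (hvx : v * x = x * v) (hu1 : u ≠ 1) (hv1 : v ≠ 1) : u = v := by
  classical
  by_contra hne
  have h1 := card_fix_le A hA hA2 hD x hx
  let F := ↥(A ⊓ Subgroup.centralizer ({x} : Set S))
  let u' : F := ⟨u, hu, Subgroup.mem_centralizer_singleton_iff.2 hux⟩
  let v' : F := ⟨v, hv, Subgroup.mem_centralizer_singleton_iff.2 hvx⟩
  letI : Fintype F := Fintype.ofFinite _
  have h2 : ({1, u', v'} : Finset F).card = 3 := by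
    rw [Finset.card_eq_three]
    refine ⟨1, u', v', ?_, ?_, ?_, rfl⟩
    · intro h
      exact hu1 (congrArg Subtype.val h).symm
    · intro h
      exact hv1 (congrArg Subtype.val h).symm
    · intro h
      exact hne (congrArg Subtype.val h)
  have h3 := Finset.card_le_univ ({1, u', v'} : Finset F)
  rw [h2, ← Nat.card_eq_fintype_card] at h3
  have h4 : Nat.card F ≤ 2 := h1
  omega

end Fix

section Classify

variable {S : Type*} [Group S] [Finite S]

/-- The target of the classification. -/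
def Target (S : Type*) [Group S] : Prop :=
  (∃ k : ℕ, Nonempty (S ≃* DihedralGroup (2 ^ (k + 2)))) ∨
    (∃ k : ℕ, Nat.card S = 2 ^ (k + 4) ∧ ∃ a b : S, orderOf a = 2 ^ (k + 3) ∧ orderOf b = 2 ∧
      b * a * b⁻¹ = a ^ (2 ^ (k + 2) - 1)) ∨
    (∃ k : ℕ, Nonempty (S ≃* QuaternionGroup (2 ^ (k + 1))))

theorem classify (hS : IsPGroup 2 S) (hD : (commutator S).index = 4) (a : S) (hA2 : (Subgroup.zpowers a).index = 2)
    (hne : Nat.card S ≠ 4) : Target S := by
  classical
  haveI hfact : Fact (Nat.Prime 2) := ⟨Nat.prime_two⟩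
  let A := Subgroup.zpowers a
  haveI hAn : A.Normal := Subgroup.normal_of_index_eq_two hA2
  have hAc : ∀ u ∈ A, ∀ v ∈ A, u * v = v * u := by
    intro u hu v hv
    obtain ⟨i, rfl⟩ := Subgroup.mem_zpowers_iff.1 hu
    obtain ⟨j, rfl⟩ := Subgroup.mem_zpowers_iff.1 hv
    exact (Commute.refl a).zpow_zpow i j
  obtain ⟨n, hn⟩ := IsPGroup.iff_orderOf.1 hS a
  have hcardA : Nat.card A = 2 ^ n := by rw [Nat.card_zpowers, hn]
  have hcardS : Nat.card S = 2 * 2 ^ n := by
    rw [← Subgroup.card_mul_index A, hcardA, hA2, mul_comm]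
  have hDd : 4 ∣ Nat.card S := by
    rw [← Subgroup.card_mul_index (commutator S), hD]
    exact dvd_mul_left _ _
  have hn2 : 2 ≤ n := by
    rcases n with _ | _ | n
    · rw [hcardS] at hDd
      norm_num at hDd
    · rw [hcardS] at hne
      norm_num at hne
    · omega
  obtain ⟨x, hx⟩ : ∃ x, x ∉ A := by
    by_contra hcon
    push_neg at hcon
    have h1 : A = ⊤ := eq_top_iff.2 fun g _ => hcon g
    rw [show (Subgroup.zpowers a).index = A.index from rfl, h1, Subgroup.index_top] at hA2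
    omega
  -- the exponent
  obtain ⟨r, hr⟩ : ∃ r : ℕ, a ^ r = x * a * x⁻¹ := by
    have h1 : x * a * x⁻¹ ∈ A := hAn.conj_mem a (Subgroup.mem_zpowers a) x
    exact mem_powers_iff_mem_zpowers.2 h1
  have hconj : ∀ m : ℕ, x * a ^ m * x⁻¹ = a ^ (r * m) := by
    intro m
    rw [pow_mul, hr, conj_pow]
  have hx2 : x * x ∈ A := Subgroup.mul_self_mem_of_index_two hA2 x
  have hrr : a ^ (r * r) = a ^ 1 := by
    have h1 : x * (x * a * x⁻¹) * x⁻¹ = a := by
      have h2 : (x * x) * a = a * (x * x) := hAc _ hx2 _ (Subgroup.mem_zpowers a)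
      calc x * (x * a * x⁻¹) * x⁻¹ = ((x * x) * a) * (x * x)⁻¹ := by group
        _ = (a * (x * x)) * (x * x)⁻¹ := by rw [h2]
        _ = a := by group
    rw [← hr, hconj r] at h1
    rw [h1, pow_one]
  have hmod : r * r ≡ 1 [MOD 2 ^ n] := by
    have h1 := pow_eq_pow_iff_modEq.1 hrr
    rwa [hn] at h1
  have hpow_eq : ∀ {u v : ℕ}, u ≡ v [MOD 2 ^ n] → a ^ u = a ^ v := by
    intro u v huv
    apply pow_eq_pow_iff_modEq.2
    rwa [hn]
  have ha0 : a ^ (2 ^ n) = 1 := by rw [← hn]; exact pow_orderOf_eq_one a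
  have hne1 : ∀ m : ℕ, 0 < m → m < 2 ^ n → a ^ m ≠ 1 := by
    intro m h0 hm
    exact pow_ne_one_of_lt_orderOf h0.ne' (by rw [hn]; exact hm)
  have h2pos : ∀ m, 0 < 2 ^ m := fun m => Nat.pos_of_ne_zero (by positivity)
  -- `r` is odd
  have h2n : 2 ∣ 2 ^ n := dvd_pow_self 2 (by omega)
  have hrodd : r % 2 = 1 := by
    have h1 : r * r ≡ 1 [MOD 2] := hmod.of_dvd h2n
    have h2 : (r * r) % 2 = 1 := h1
    rcases Nat.mod_two_eq_zero_or_one r with h3 | h3
    · rw [Nat.mul_mod, h3] at h2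
      simp at h2
    · exact h3
  obtain ⟨m, rfl⟩ : ∃ m, n = m + 2 := ⟨n - 2, by omega⟩
  have e1 : 2 ^ (m + 2) = 4 * 2 ^ m := by ring
  have e2 : 2 ^ (m + 1) = 2 * 2 ^ m := by ring
  let z := a ^ (2 ^ (m + 1))
  have hz2 : z * z = 1 := by
    show a ^ (2 ^ (m + 1)) * a ^ (2 ^ (m + 1)) = 1
    rw [← pow_add, show 2 ^ (m + 1) + 2 ^ (m + 1) = 2 ^ (m + 2) by rw [e1, e2]; ring, ha0]
  have hz1 : z ≠ 1 := hne1 _ (h2pos _) (by rw [e1, e2]; have := h2pos m; omega)
  have hzA : z ∈ A := Subgroup.pow_mem _ (Subgroup.mem_zpowers a) _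
  have hzx : z * x = x * z := by
    have h1 : x * z * x⁻¹ = z := by
      show x * a ^ (2 ^ (m + 1)) * x⁻¹ = a ^ (2 ^ (m + 1))
      rw [hconj]
      apply hpow_eq
      obtain ⟨w, hw⟩ : ∃ w, r = 2 * w + 1 := ⟨r / 2, by omega⟩
      rw [hw, e1, e2]
      have e3 : (2 * w + 1) * (2 * 2 ^ m) = w * (4 * 2 ^ m) + 2 * 2 ^ m := by ring
      rw [e3]
      exact Nat.ModEq.symm (by
        unfold Nat.ModEq
        rw [Nat.add_mod, Nat.mul_mod_left]
        simp)
    exact (mul_inv_eq_iff_eq_mul.1 h1).symm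
  -- `r` is `3` modulo `4`
  have hr4 : r % 4 = 3 := by
    by_contra hcon
    have hr41 : r % 4 = 1 := by omega
    let u := a ^ (2 ^ m)
    have huA : u ∈ A := Subgroup.pow_mem _ (Subgroup.mem_zpowers a) _
    have hu1 : u ≠ 1 := hne1 _ (h2pos _) (by rw [e1]; have := h2pos m; omega)
    have hux : u * x = x * u := by
      have h1 : x * u * x⁻¹ = u := by
        show x * a ^ (2 ^ m) * x⁻¹ = a ^ (2 ^ m)
        rw [hconj]
        apply hpow_eq
        obtain ⟨w, hw⟩ : ∃ w, r = 4 * w + 1 := ⟨r / 4, by omega⟩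
        rw [hw, e1]
        have e3 : (4 * w + 1) * 2 ^ m = w * (4 * 2 ^ m) + 2 ^ m := by ring
        rw [e3]
        exact Nat.ModEq.symm (by
          unfold Nat.ModEq
          rw [Nat.add_mod, Nat.mul_mod_left]
          simp)
      exact (mul_inv_eq_iff_eq_mul.1 h1).symm
    have huz := fix_unique A hAc hA2 hD x hx huA hzA hux hzx hu1 hz1
    have h3 : a ^ (2 ^ m) = a ^ (2 ^ (m + 1)) := huz
    have h4 : a ^ (2 ^ m) = a ^ (2 * 2 ^ m) := by rw [h3, e2]
    have h5 := pow_injOn_Iio_orderOf (x := a) (x₁ := 2 ^ m) (x₂ := 2 * 2 ^ m)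
      (by rw [Set.mem_Iio, hn, e1]; have := h2pos m; omega)
      (by rw [Set.mem_Iio, hn, e1]; have := h2pos m; omega) h4
    have := h2pos m
    omega
  -- `2^(m+1)` divides `r + 1`
  have hdvd : 2 ^ (m + 1) ∣ r + 1 := by
    obtain ⟨s, hs⟩ : ∃ s, r = 4 * s + 3 := ⟨r / 4, by omega⟩
    have h1 : 2 ^ (m + 2) ∣ r * r - 1 := (Nat.modEq_iff_dvd' (by rw [hs]; nlinarith)).1 hmod.symm
    have e3 : r * r - 1 = 2 * ((2 * s + 1) * (r + 1)) := by
      rw [hs]
      have : (4 * s + 3) * (4 * s + 3) = 2 * ((2 * s + 1) * (4 * s + 3 + 1)) + 1 := by ring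
      omega
    rw [e3, pow_succ' 2 (m + 1)] at h1
    have h2 : 2 ^ (m + 1) ∣ (2 * s + 1) * (r + 1) := Nat.dvd_of_mul_dvd_mul_left (by norm_num) h1
    have h3 : Nat.Coprime (2 ^ (m + 1)) (2 * s + 1) := Nat.Coprime.pow_left _ (by simp)
    exact h3.dvd_of_dvd_mul_left h2
  obtain ⟨t, ht⟩ := hdvd
  have hax : x * a * x⁻¹ * a = z ^ t := by
    rw [← hr, ← pow_succ, ht, pow_mul]
  have hx2z : x * x = 1 ∨ x * x = z := by
    by_cases h1 : x * x = 1
    · exact Or.inl h1
    · right
      have h2 : (x * x) * x = x * (x * x) := by group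
      exact fix_unique A hAc hA2 hD x hx hx2 hzA h2 hzx h1 hz1
  have hxA : ∀ i : ℕ, x ≠ a ^ i := fun i hi => hx (hi ▸ Subgroup.pow_mem _ (Subgroup.mem_zpowers a) _)
  have hxz : x ∉ Subgroup.zpowers a := hx
  have hcard' : Nat.card S = 2 * 2 ^ (m + 2) := hcardS
  rcases Nat.even_or_odd t with ht2 | ht2
  · -- inversion
    have hzt : z ^ t = 1 := by
      obtain ⟨w, rfl⟩ := ht2
      rw [← two_mul, pow_mul, pow_two, hz2, one_pow]
    rw [hzt] at hax
    have hinv : x * a * x⁻¹ = a⁻¹ := eq_inv_of_mul_eq_one_left hax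
    rcases hx2z with h1 | h1
    · left
      refine ⟨m, ?_⟩
      haveI : NeZero (2 ^ (m + 2)) := ⟨pow_ne_zero _ two_ne_zero⟩
      exact Cfsg.Agent.Lib.Dihedral.nonempty_mulEquiv_dihedral _ a x hn (by rw [pow_two]; exact h1) hinv hxz hcard'
    · right; right
      refine ⟨m, ?_⟩
      haveI : NeZero (2 ^ (m + 1)) := ⟨pow_ne_zero _ two_ne_zero⟩
      exact Cfsg.Agent.Lib.Quaternion.nonempty_mulEquiv_quaternion _ a x (by rw [hn]; ring) h1 hinv hxz
        (by rw [hcard']; ring)
  · -- the semidihedral case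
    have hzt : z ^ t = z := by
      obtain ⟨w, rfl⟩ := ht2
      rw [pow_succ, pow_mul, pow_two, hz2, one_pow, one_mul]
    rw [hzt] at hax
    -- `m ≥ 1`
    obtain ⟨l, rfl⟩ : ∃ l, m = l + 1 := by
      rcases m with _ | l
      · exfalso
        obtain ⟨w, rfl⟩ := ht2
        norm_num at ht
        omega
      · exact ⟨l, rfl⟩
    right; left
    refine ⟨l, by rw [hcard']; ring, ?_⟩
    have hexpo : x * a * x⁻¹ = a ^ (2 ^ (l + 2) - 1) := by
      have h1 : a ^ (2 ^ (l + 2) - 1) * a = z := by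
        rw [← pow_succ]
        congr 1
        exact Nat.sub_add_cancel (Nat.one_le_iff_ne_zero.2 (by positivity))
      exact mul_right_cancel (hax.trans h1.symm)
    have horder : orderOf a = 2 ^ (l + 3) := hn
    rcases hx2z with h1 | h1
    · refine ⟨a, x, horder, ?_, hexpo⟩
      apply orderOf_eq_prime (by rw [pow_two]; exact h1)
      rintro rfl
      exact hx (Subgroup.one_mem _)
    · refine ⟨a, x * a, horder, ?_, ?_⟩
      · apply orderOf_eq_prime
        · have hza : z * a = a * z := hAc _ hzA _ (Subgroup.mem_zpowers a)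
          have hinvz : x * a * x⁻¹ = z * a⁻¹ := by
            rw [← hax]
            group
          calc (x * a) ^ 2 = (x * a * x⁻¹) * (x * x) * a := by rw [pow_two]; group
            _ = (z * a⁻¹) * z * a := by rw [hinvz, h1]
            _ = (z * a⁻¹) * (z * a) := by group
            _ = (z * a⁻¹) * (a * z) := by rw [hza]
            _ = z * z := by group
            _ = 1 := hz2
        · intro h2
          apply hx
          have h3 : x = a⁻¹ := eq_inv_of_mul_eq_one_left h2
          rw [h3]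
          exact Subgroup.inv_mem _ (Subgroup.mem_zpowers a)
      · have e4 : x * a * a * (x * a)⁻¹ = x * a * x⁻¹ := by group
        rw [e4]
        exact hexpo

end Classify

section Induct

universe u

/-- Klein abelianization. -/
def K4 (S : Type*) [Group S] : Prop := (commutator S).index = 4 ∧ ∀ g : S, g ^ 2 ∈ commutator S

theorem K4_quot {S : Type*} [Group S] [Finite S] (T : Subgroup S) [T.Normal] (hTD : T ≤ commutator S) (h : K4 S) :
    K4 (S ⧸ T) := by
  have hsurj : Function.Surjective (QuotientGroup.mk' T) := QuotientGroup.mk'_surjective T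
  have hc : commutator (S ⧸ T) = (commutator S).map (QuotientGroup.mk' T) := by
    rw [commutator_def, commutator_def, Subgroup.map_commutator, Subgroup.map_top_of_surjective _ hsurj]
  constructor
  · rw [hc, ← Subgroup.index_comap_of_surjective _ hsurj, Subgroup.comap_map_eq_self (by rwa [QuotientGroup.ker_mk'])]
    exact h.1
  · intro g
    obtain ⟨g, rfl⟩ := QuotientGroup.mk_surjective g
    rw [hc]
    exact ⟨g ^ 2, h.2 g, rfl⟩

theorem exists_cyclic (n : ℕ) : ∀ (S : Type u) [Group S] [Finite S], Nat.card S = n → IsPGroup 2 S → K4 S →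
    Nat.card S = 4 ∨ ∃ a : S, (Subgroup.zpowers a).index = 2 := by
  induction n using Nat.strong_induction_on with
  | _ n ih =>
    intro S _ _ hn hS hK
    classical
    haveI hfact : Fact (Nat.Prime 2) := ⟨Nat.prime_two⟩
    obtain ⟨hD, hsq⟩ := hK
    by_cases hD0 : commutator S = ⊥
    · left
      rw [hD0, Subgroup.index_bot] at hD
      exact hD
    have hcard : Nat.card (commutator S) * 4 = Nat.card S := by
      rw [← hD]
      exact Subgroup.card_mul_index _
    have hDcard : 2 ≤ Nat.card (commutator S) := by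
      have := (Subgroup.one_lt_card_iff_ne_bot (commutator S)).2 hD0
      omega
    by_cases h8 : Nat.card S = 8
    · right
      have hncomm : ¬ ∀ a b : S, a * b = b * a := by
        intro hcomm
        apply hD0
        rw [eq_bot_iff, commutator_def, Subgroup.commutator_le]
        intro g _ g' _
        rw [Subgroup.mem_bot, commutatorElement_eq_one_iff_mul_comm]
        exact hcomm g g'
      obtain ⟨a, ha⟩ := Cfsg.Agent.Lib.Order8.exists_order_four h8 hncomm
      refine ⟨a, ?_⟩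
      have h1 := Subgroup.card_mul_index (Subgroup.zpowers a)
      rw [Nat.card_zpowers, ha, h8] at h1
      omega
    right
    obtain ⟨z₀, hz₀D, hz₀1, hz₀c⟩ := Cfsg.Agent.Lib.PGroupBasic.exists_ne_one_mem_center_of_normal hS (commutator S) hD0
    obtain ⟨e, he⟩ := IsPGroup.iff_orderOf.1 hS z₀
    obtain ⟨e', rfl⟩ : ∃ e', e = e' + 1 := by
      rcases e with _ | e'
      · rw [pow_zero, orderOf_eq_one_iff] at he
        exact absurd he hz₀1
      · exact ⟨e', rfl⟩
    let z := z₀ ^ (2 ^ e')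
    have hz1 : z ≠ 1 := pow_ne_one_of_lt_orderOf (pow_ne_zero _ two_ne_zero) (by
      rw [he, pow_succ]
      have : 0 < 2 ^ e' := Nat.pos_of_ne_zero (by positivity)
      omega)
    have hz2 : z ^ 2 = 1 := by
      show (z₀ ^ (2 ^ e')) ^ 2 = 1
      rw [← pow_mul, ← pow_succ, ← he]
      exact pow_orderOf_eq_one z₀
    have hzo : orderOf z = 2 := orderOf_eq_prime hz2 hz1
    have hzD : z ∈ commutator S := Subgroup.pow_mem _ hz₀D _
    have hzc : z ∈ Subgroup.center S := Subgroup.pow_mem _ hz₀c _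
    let T := Subgroup.zpowers z
    have hTc : T ≤ Subgroup.center S := Subgroup.zpowers_le.2 hzc
    haveI hTn : T.Normal := ⟨fun t ht g => by
      rw [(Subgroup.mem_center_iff.1 (hTc ht) g)]
      simpa using ht⟩
    have hTD : T ≤ commutator S := Subgroup.zpowers_le.2 hzD
    have hTcard : Nat.card T = 2 := by
      rw [Nat.card_zpowers, hzo]
    have hbar : Nat.card (S ⧸ T) * 2 = Nat.card S := by
      rw [← hTcard, ← Subgroup.card_eq_card_quotient_mul_card_subgroup]
    have hTmem : ∀ t ∈ T, t = 1 ∨ t = z := by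
      intro t ht
      obtain ⟨k, hk⟩ := mem_powers_iff_mem_zpowers.2 ht
      have hk' : z ^ k = t := hk
      rw [← hk', ← pow_mod_orderOf, hzo]
      rcases Nat.mod_two_eq_zero_or_one k with h | h
      · left
        rw [h, pow_zero]
      · right
        rw [h, pow_one]
    have hlt : Nat.card (S ⧸ T) < n := by
      have : 0 < Nat.card (S ⧸ T) := Nat.card_pos
      omega
    rcases ih _ hlt (S ⧸ T) rfl (hS.to_quotient T) (K4_quot T hTD ⟨hD, hsq⟩) with h4 | ⟨bb, hbb⟩
    · exfalso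
      omega
    obtain ⟨b, rfl⟩ := QuotientGroup.mk_surjective bb
    have hsurj : Function.Surjective (QuotientGroup.mk' T) := QuotientGroup.mk'_surjective T
    let A : Subgroup S := (Subgroup.zpowers (b : S ⧸ T)).comap (QuotientGroup.mk' T)
    have hAidx : A.index = 2 := by
      show ((Subgroup.zpowers (b : S ⧸ T)).comap (QuotientGroup.mk' T)).index = 2
      rw [Subgroup.index_comap_of_surjective _ hsurj]
      exact hbb
    haveI hAn : A.Normal := Subgroup.normal_of_index_eq_two hAidx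
    have hmemA : ∀ c ∈ A, ∃ j : ℕ, ∃ t ∈ T, c = b ^ j * t := by
      intro c hc
      obtain ⟨j, hj⟩ := mem_powers_iff_mem_zpowers.2 hc
      refine ⟨j, (b ^ j)⁻¹ * c, ?_, by group⟩
      apply QuotientGroup.eq.1
      rw [QuotientGroup.mk_pow]
      exact hj
    have hcen : ∀ t ∈ T, ∀ g : S, g * t = t * g := fun t ht g => Subgroup.mem_center_iff.1 (hTc ht) g
    have hAc : ∀ c ∈ A, ∀ d ∈ A, c * d = d * c := by
      intro c hc d hd
      obtain ⟨i, t, ht, rfl⟩ := hmemA c hc
      obtain ⟨j, u, hu, rfl⟩ := hmemA d hd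
      have h1 : Commute (b ^ i * t) (b ^ j * u) := by
        refine Commute.mul_left (Commute.mul_right ((Commute.refl b).pow_pow i j) ?_) (Commute.mul_right ?_ ?_)
        · exact (hcen u hu _)
        · exact (hcen t ht _).symm
        · exact (hcen u hu _)
      exact h1
    have hbA : b ∈ A := by
      show (b : S ⧸ T) ∈ Subgroup.zpowers (b : S ⧸ T)
      exact Subgroup.mem_zpowers _
    have hTA : T ≤ A := by
      intro t ht
      show (t : S ⧸ T) ∈ Subgroup.zpowers (b : S ⧸ T)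
      rw [(QuotientGroup.eq_one_iff t).2 ht]
      exact Subgroup.one_mem _
    obtain ⟨x, hx⟩ : ∃ x, x ∉ A := by
      by_contra hcon
      push_neg at hcon
      have h1 : A = ⊤ := eq_top_iff.2 fun g _ => hcon g
      rw [h1, Subgroup.index_top] at hAidx
      omega
    -- the order of `b`
    obtain ⟨s, hs⟩ := IsPGroup.iff_card.1 hS
    have hbord : 4 ∣ orderOf b := by
      have h1 : orderOf (b : S ⧸ T) * 2 = Nat.card (S ⧸ T) := by
        have h2 := Subgroup.card_mul_index (Subgroup.zpowers (b : S ⧸ T))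
        rwa [Nat.card_zpowers, hbb] at h2
      have h2 : orderOf (b : S ⧸ T) * 4 = Nat.card S := by omega
      have hs4 : 4 ≤ s := by
        by_contra hcon
        have hs3 : s ≤ 3 := by omega
        interval_cases s <;> omega
      have h3 : orderOf (b : S ⧸ T) = 2 ^ (s - 2) := by
        have h4 : 2 ^ s = 2 ^ (s - 2) * 4 := by
          conv_lhs => rw [show s = (s - 2) + 2 by omega, pow_add]
          norm_num
        rw [hs, h4] at h2
        exact Nat.eq_of_mul_eq_mul_right (by norm_num) h2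
      have h4 : 4 ∣ orderOf (b : S ⧸ T) := by
        rw [h3, show s - 2 = (s - 4) + 2 by omega, pow_add]
        exact dvd_mul_left _ _
      exact h4.trans (orderOf_map_dvd (QuotientGroup.mk' T) b)
    obtain ⟨n', hn'⟩ := IsPGroup.iff_orderOf.1 hS b
    obtain ⟨m, rfl⟩ : ∃ m, n' = m + 2 := by
      rcases n' with _ | _ | m
      · rw [hn'] at hbord
        norm_num at hbord
      · rw [hn'] at hbord
        norm_num at hbord
      · exact ⟨m, rfl⟩
    let i := b ^ (2 ^ (m + 1))
    have h2pos : ∀ m, 0 < 2 ^ m := fun m => Nat.pos_of_ne_zero (by positivity)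
    have hi1 : i ≠ 1 := pow_ne_one_of_lt_orderOf (pow_ne_zero _ two_ne_zero) (by
      rw [hn', pow_succ 2 (m + 1)]
      have := h2pos (m + 1)
      omega)
    have hi2 : i * i = 1 := by
      show b ^ (2 ^ (m + 1)) * b ^ (2 ^ (m + 1)) = 1
      rw [← pow_add, show 2 ^ (m + 1) + 2 ^ (m + 1) = 2 ^ (m + 2) by rw [pow_succ 2 (m + 1)]; ring, ← hn']
      exact pow_orderOf_eq_one b
    have hiA : i ∈ A := Subgroup.pow_mem _ hbA _
    have hxb : x * b * x⁻¹ ∈ A := hAn.conj_mem b hbA x
    obtain ⟨r, t, ht, hrt⟩ := hmemA _ hxb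
    have ht2 : t * t = 1 := by
      rcases hTmem t ht with rfl | rfl
      · simp
      · rw [← pow_two]; exact hz2
    have hxb2 : x * (b ^ 2) * x⁻¹ = b ^ (2 * r) := by
      rw [← conj_pow, hrt, pow_two]
      calc (b ^ r * t) * (b ^ r * t) = (b ^ r * t) * (t * b ^ r) := by rw [hcen t ht (b ^ r)]
        _ = b ^ r * (t * t) * b ^ r := by group
        _ = b ^ r * b ^ r := by rw [ht2]; group
        _ = b ^ (2 * r) := by rw [two_mul, pow_add]
    have hxi : x * i * x⁻¹ = i ^ r := by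
      have e1 : i = (b ^ 2) ^ (2 ^ m) := by
        show b ^ (2 ^ (m + 1)) = _
        rw [← pow_mul, pow_succ' 2 m]
      rw [e1, ← conj_pow, hxb2, ← pow_mul, ← pow_mul, ← pow_mul]
      congr 1
      ring
    have hir : i ^ r = i := by
      rcases Nat.even_or_odd r with hr | hr
      · exfalso
        obtain ⟨w, rfl⟩ := hr
        rw [← two_mul, pow_mul, pow_two, hi2, one_pow] at hxi
        apply hi1
        have h3 : x * i = 1 * x := mul_inv_eq_iff_eq_mul.1 hxi
        rw [one_mul] at h3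
        exact mul_left_cancel (a := x) (by rw [h3, mul_one])
      · obtain ⟨w, rfl⟩ := hr
        rw [pow_succ, pow_mul, pow_two, hi2, one_pow, one_mul]
    have hix : i * x = x * i := by
      have h1 : x * i * x⁻¹ = i := hxi.trans hir
      exact (mul_inv_eq_iff_eq_mul.1 h1).symm
    have hiz : i = z := Cfsg.Agent.Lib.Taussky.fix_unique A hAc hAidx hD x hx hiA (hTA (Subgroup.mem_zpowers z)) hix
      (hcen z (Subgroup.mem_zpowers z) x).symm hi1 hz1
    have hzb : z ∈ Subgroup.zpowers b := by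
      rw [← hiz]
      exact Subgroup.pow_mem _ (Subgroup.mem_zpowers b) _
    have hAle : A ≤ Subgroup.zpowers b := by
      intro c hc
      obtain ⟨j, t', ht', rfl⟩ := hmemA c hc
      refine Subgroup.mul_mem _ (Subgroup.pow_mem _ (Subgroup.mem_zpowers b) _) ?_
      rcases hTmem t' ht' with rfl | rfl
      · exact Subgroup.one_mem _
      · exact hzb
    have hAeq : Subgroup.zpowers b = A := le_antisymm (Subgroup.zpowers_le.2 hbA) hAle
    exact ⟨b, by rw [hAeq]; exact hAidx⟩

theorem taussky {S : Type u} [Group S] [Finite S] (hS : IsPGroup 2 S) (hK : K4 S) : Nat.card S = 4 ∨ Target S := by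
  rcases exists_cyclic _ S rfl hS hK with h | ⟨a, ha⟩
  · exact Or.inl h
  · by_cases h4 : Nat.card S = 4
    · exact Or.inl h4
    · exact Or.inr (classify hS hK.1 a ha h4)

end Induct

end Cfsg.Agent.Lib.Taussky
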