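import Mathlib
import Cfsg.Agent.Lib.Critical
import Cfsg.Agent.Lib.FusionHyp
import Cfsg.Agent.Lib.FusionNormal
import Cfsg.Agent.Lib.FusionGT
import Cfsg.Agent.Lib.ThmOSparseB

/-! Automorphisms of order prime to `p` fixing elements of order `p` (and `4`). -/

set_option autoImplicit false
set_option linter.all false

namespace Cfsg.Agent.Lib.ThmCycHyp

open Cfsg
open scoped commutatorElement

/-- The exponent attached to the prime `p`. -/
def qp (p : ℕ) : ℕ := if p = 2 then 4 else p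

section Group

variable {G : Type*} [Group G]

theorem pow_mul_comm_aux {x y c : G} (h : y * x = x * y * c) (hcx : Commute c x) (hcy : Commute c y)
    (n : ℕ) : y ^ n * x = x * y ^ n * c ^ n := by
  induction n with
  | zero => simp
  | succ n ih =>
    have e1 : c * y ^ n = y ^ n * c := (hcy.pow_right n).eq
    calc y ^ (n + 1) * x = y * (y ^ n * x) := by rw [pow_succ']; group
      _ = y * (x * y ^ n * c ^ n) := by rw [ih]
      _ = (y * x) * y ^ n * c ^ n := by group
      _ = x * y * (c * y ^ n) * c ^ n := by rw [h]; group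
      _ = x * y * (y ^ n * c) * c ^ n := by rw [e1]
      _ = x * y ^ (n + 1) * c ^ (n + 1) := by
        rw [pow_succ' y n, pow_succ' c n]
        simp only [mul_assoc]

theorem mul_pow_aux {x y c : G} (h : y * x = x * y * c) (hcx : Commute c x) (hcy : Commute c y)
    (n : ℕ) : (x * y) ^ n = x ^ n * y ^ n * c ^ (n.choose 2) := by
  induction n with
  | zero => simp
  | succ n ih =>
    have hC : Commute (c ^ (n.choose 2)) x := hcx.pow_left _
    have hC' : Commute (c ^ (n.choose 2)) y := hcy.pow_left _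
    have hn : (n + 1).choose 2 = n + n.choose 2 := by
      rw [Nat.choose_succ_succ' n 1, Nat.choose_one_right]
    have e1 : c ^ n * y = y * c ^ n := (hcy.pow_left n).eq
    calc (x * y) ^ (n + 1) = (x * y) ^ n * (x * y) := pow_succ _ _
      _ = x ^ n * y ^ n * (c ^ (n.choose 2) * x) * y := by rw [ih]; group
      _ = x ^ n * y ^ n * (x * c ^ (n.choose 2)) * y := by rw [hC.eq]
      _ = x ^ n * (y ^ n * x) * c ^ (n.choose 2) * y := by group
      _ = x ^ n * (x * y ^ n * c ^ n) * c ^ (n.choose 2) * y := by rw [pow_mul_comm_aux h hcx hcy]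
      _ = x ^ n * x * y ^ n * c ^ n * (c ^ (n.choose 2) * y) := by group
      _ = x ^ n * x * y ^ n * c ^ n * (y * c ^ (n.choose 2)) := by rw [hC'.eq]
      _ = x ^ n * x * y ^ n * (c ^ n * y) * c ^ (n.choose 2) := by group
      _ = x ^ n * x * y ^ n * (y * c ^ n) * c ^ (n.choose 2) := by rw [e1]
      _ = x ^ (n + 1) * y ^ (n + 1) * c ^ ((n + 1).choose 2) := by
        rw [hn, pow_add c, pow_succ x, pow_succ y]
        simp only [mul_assoc]

end Group

section Aut

variable {P : Type*} [Group P] {p : ℕ} [hp : Fact p.Prime]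

theorem fix_of_pow_fix (a : MulAut P) (ha : (orderOf a).Coprime p) {y : P} {k : ℕ}
    (h : (a ^ (p ^ k)) y = y) : a y = y := by
  obtain ⟨m, hm⟩ := exists_pow_eq_self_of_coprime (x := a) (n := p ^ k) (ha.symm.pow_left k)
  have h1 : ∀ n : ℕ, ((a ^ (p ^ k)) ^ n) y = y := by
    intro n
    induction n with
    | zero => rfl
    | succ n ih => rw [pow_succ, MulAut.mul_apply, h, ih]
  have h2 := h1 m
  rwa [hm] at h2

/-- The critical subgroup argument: a `p'`-automorphism fixing each invariant subgroup of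
small exponent is trivial. -/
theorem aut_fix_of_exponent [Finite P] (hP : IsPGroup p P) (a : MulAut P) (ha : (orderOf a).Coprime p)
    (h : ∀ R : Subgroup P, (∀ x ∈ R, a x ∈ R) → (∀ x ∈ R, x ^ qp p = 1) → ∀ x ∈ R, a x = x) : a = 1 := by
  have hpp : p.Prime := hp.out
  obtain ⟨H, hchar, hpow, hcomm, hC⟩ := Cfsg.Agent.Lib.Critical.exists_critical_aux hP
  haveI hHn : H.Normal := Subgroup.normal_of_characteristic H
  have haH : ∀ x ∈ H, a x ∈ H := fun x hx => (Subgroup.characteristic_iff_le_comap.1 hchar a) hx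
  set q := qp p with hq
  have hq0 : 0 < q := by
    rw [hq, qp]
    split_ifs
    · norm_num
    · exact hpp.pos
  -- commutators central in `H`, of order dividing `p`
  have hcen : ∀ x ∈ H, ∀ y ∈ H, ∃ c : P, y * x = x * y * c ∧ Commute c x ∧ Commute c y ∧ c ^ p = 1 := by
    intro x hx y hy
    set c := y⁻¹ * x⁻¹ * y * x with hc
    have hcm : c ∈ Cfsg.Agent.Lib.Critical.zc H := by
      have e : c = ⁅y⁻¹, x⁻¹⁆ := by
        rw [commutatorElement_def, hc]
        simp only [inv_inv]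
      rw [e]
      exact hcomm (Subgroup.commutator_mem_commutator (H.inv_mem hy) trivial)
    have hcx : Commute c x := ((Subgroup.mem_centralizer_iff.1 hcm.2) x hx).symm
    have hcy : Commute c y := ((Subgroup.mem_centralizer_iff.1 hcm.2) y hy).symm
    have he : y * x = x * y * c := by rw [hc]; group
    refine ⟨c, he, hcx, hcy, ?_⟩
    have h1 := pow_mul_comm_aux he hcx hcy p
    have h2 : x * y ^ p = y ^ p * x := (Subgroup.mem_centralizer_iff.1 (hpow y hy).2) x hx
    rw [← h2] at h1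
    have h3 : x * y ^ p * c ^ p = x * y ^ p := h1.symm
    simpa using h3
  have hdvd : p ∣ q.choose 2 := by
    rw [hq, qp]
    split_ifs with h2
    · subst h2
      decide
    · have h3 : 2 < p := lt_of_le_of_ne hpp.two_le (Ne.symm h2)
      exact hpp.dvd_choose_self (by norm_num) h3
  have hmulq : ∀ x ∈ H, ∀ y ∈ H, (x * y) ^ q = x ^ q * y ^ q := by
    intro x hx y hy
    obtain ⟨c, he, hcx, hcy, hcp⟩ := hcen x hx y hy
    rw [mul_pow_aux he hcx hcy q]
    obtain ⟨d, hd⟩ := hdvd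
    rw [hd, pow_mul, hcp, one_pow, mul_one]
  have hmulk : ∀ i : ℕ, ∀ x ∈ H, ∀ y ∈ H, (x * y) ^ (q ^ i) = x ^ (q ^ i) * y ^ (q ^ i) := by
    intro i
    induction i with
    | zero => intro x _ y _; simp
    | succ i ih =>
      intro x hx y hy
      rw [pow_succ, pow_mul, ih x hx y hy, hmulq _ (H.pow_mem hx _) _ (H.pow_mem hy _), ← pow_mul, ← pow_mul]
  -- the chain
  let B : ℕ → Subgroup P := fun i =>
    { carrier := {x | x ∈ H ∧ x ^ (q ^ i) = 1}
      one_mem' := ⟨H.one_mem, one_pow _⟩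
      mul_mem' := by
        rintro x y ⟨hx, hx1⟩ ⟨hy, hy1⟩
        exact ⟨H.mul_mem hx hy, by rw [hmulk i x hx y hy, hx1, hy1, one_mul]⟩
      inv_mem' := by
        rintro x ⟨hx, hx1⟩
        exact ⟨H.inv_mem hx, by rw [inv_pow, hx1, inv_one]⟩ }
  have hB : ∀ i x, x ∈ B i ↔ x ∈ H ∧ x ^ (q ^ i) = 1 := fun i x => Iff.rfl
  have hB1 : ∀ x ∈ B 1, a x = x := by
    refine h (B 1) ?_ ?_
    · rintro x ⟨hx, hx1⟩
      exact ⟨haH x hx, by rw [← map_pow, hx1, map_one]⟩
    · rintro x ⟨_, hx1⟩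
      simpa using hx1
  obtain ⟨n, hn⟩ := IsPGroup.iff_card.mp hP
  have hall : ∀ x ∈ H, x ∈ B (n + 1) := by
    intro x hx
    refine ⟨hx, ?_⟩
    have hpq : p ∣ q := by
      rw [hq, qp]
      split_ifs with h2
      · subst h2
        norm_num
      · exact dvd_rfl
    obtain ⟨d, hd⟩ := pow_dvd_pow_of_dvd hpq (n + 1)
    have h1 : x ^ p ^ (n + 1) = 1 := by
      have : x ^ Nat.card P = 1 := pow_card_eq_one'
      rw [hn] at this
      rw [pow_succ, pow_mul, this, one_pow]
    rw [hd, pow_mul, h1, one_pow]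
  have hchain := Cfsg.Agent.Lib.FusionNormal.pow_fix_of_chain hP a (fun i => B (i + 1)) n (by
      rintro i _ x ⟨hx, hx1⟩
      refine ⟨hx, ?_⟩
      rw [pow_succ q (i + 1), pow_mul, hx1, one_pow]) (by
      rintro i _ y ⟨hy, hy1⟩
      have hay := haH y hy
      refine ⟨H.mul_mem (H.inv_mem hy) hay, ?_⟩
      rw [hmulk (i + 1) _ (H.inv_mem hy) _ hay, inv_pow, ← map_pow]
      have hfix : a (y ^ q ^ (i + 1)) = y ^ q ^ (i + 1) := by
        apply hB1
        refine ⟨H.pow_mem hy _, ?_⟩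
        rw [pow_one, ← pow_mul, ← pow_succ]
        exact hy1
      rw [hfix, inv_mul_cancel]) 0 (by
      intro b hb
      rw [pow_zero, pow_one]
      exact hB1 b hb)
  obtain ⟨k', hk'⟩ := hchain
  refine Cfsg.Agent.Lib.Critical.aut_eq_one hP H hchar hC a ha fun x hx => ?_
  exact fix_of_pow_fix a ha (hk' x (hall x hx))

/-- Automorphisms moving elements inside conjugacy classes of a nilpotent overgroup. -/
theorem fix_of_conj {T : Type*} [Group T] [Finite T] (hT : IsPGroup p T) [Finite P] (hP : IsPGroup p P)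
    (ι : P →* T) (hι : Function.Injective ι) (a : MulAut P) (ha : (orderOf a).Coprime p)
    (R : Subgroup P) (hR : ∀ x ∈ R, a x ∈ R)
    (hconj : ∀ x ∈ R, ∃ s : T, ι (a x) = s * ι x * s⁻¹) : ∀ x ∈ R, a x = x := by
  haveI : Group.IsNilpotent T := hT.isNilpotent
  have htop : Subgroup.upperCentralSeries T (Group.nilpotencyClass T) = ⊤ := Subgroup.upperCentralSeries_nilpotencyClass
  let B : ℕ → Subgroup P := fun i => R ⊓ (Subgroup.upperCentralSeries T i).comap ι
  obtain ⟨k', hk'⟩ := Cfsg.Agent.Lib.FusionNormal.pow_fix_of_chain hP a B (Group.nilpotencyClass T) (by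
      intro i _ x hx
      exact ⟨hx.1, (Subgroup.upperCentralSeries_mono T (Nat.le_succ i)) hx.2⟩) (by
      rintro i _ y ⟨hy, hy2⟩
      refine ⟨R.mul_mem (R.inv_mem hy) (hR y hy), ?_⟩
      obtain ⟨s, hs⟩ := hconj y hy
      show ι (y⁻¹ * a y) ∈ Subgroup.upperCentralSeries T i
      rw [map_mul, map_inv, hs]
      have h1 : (ι y)⁻¹ ∈ Subgroup.upperCentralSeries T (i + 1) := Subgroup.inv_mem _ hy2
      have h2 := (mem_upperCentralSeries_succ_iff).1 h1 s
      have e : (ι y)⁻¹ * (s * ι y * s⁻¹) = ⁅(ι y)⁻¹, s⁆ := by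
        rw [commutatorElement_def]
        group
      rw [e]
      exact h2) 0 (by
      rintro b ⟨_, hb⟩
      have h1 : ι b ∈ Subgroup.upperCentralSeries T 0 := hb
      have h2 : ι b = 1 := by
        rw [Subgroup.upperCentralSeries_zero] at h1
        exact Subgroup.mem_bot.1 h1
      have h3 : b = 1 := hι (by rw [h2, map_one])
      subst h3
      simp)
  intro x hx
  refine fix_of_pow_fix a ha (hk' x ⟨hx, ?_⟩)
  show ι x ∈ Subgroup.upperCentralSeries T (Group.nilpotencyClass T)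
  rw [htop]
  trivial

end Aut

section Fusion

variable {Ω : Type*} [Group Ω] {S : Subgroup Ω} {p : ℕ} [hp : Fact p.Prime]

theorem autGroup_trivial [Finite S] (hS : IsPGroup p S) (F : FusionSystem S) (hF : F.IsSaturated p)
    (h : ∀ A B : Subgroup Ω, A ≤ (F.hyperfocalSubgroup p) → B ≤ (F.hyperfocalSubgroup p) → IsCyclic ↥A →
      (Nat.card ↥A = p ∨ Nat.card ↥A = 4) → IsCyclic ↥B → (Nat.card ↥B = p ∨ Nat.card ↥B = 4) →
      F.homSet A B ⊆ (innerFusionSystem S).Hom A)
    {Q : Subgroup Ω} (hQ : Q ≤ S) (α : MulAut Q) (hα : α ∈ F.autGroup Q) (hc : (orderOf α).Coprime p) :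
    α = 1 := by
  classical
  have hpp : p.Prime := hp.out
  set T := F.hyperfocalSubgroup p with hT
  have hTS : T ≤ S := Cfsg.Agent.Lib.FusionHyp.hyp_le F
  have hres : (⟨α, hα⟩ : F.autGroup Q) ∈ pResidual p (F.autGroup Q) := by
    refine Subgroup.subset_closure ?_
    show Nat.Coprime (orderOf (⟨α, hα⟩ : F.autGroup Q)) p
    rwa [Subgroup.orderOf_mk]
  have hdiff : ∀ x : Q, (x : Ω)⁻¹ * ((α x : Q) : Ω) ∈ T := fun x =>
    Cfsg.Agent.Lib.FusionHyp.mem_hyp_of_residual hQ ⟨α, hα⟩ hres x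
  have hαT : ∀ x : Q, (x : Ω) ∈ T → ((α x : Q) : Ω) ∈ T := by
    intro x hx
    have := T.mul_mem hx (hdiff x)
    simpa using this
  haveI hfinQ : Finite Q := Cfsg.Agent.Lib.FusionBasic.finite_of_le hQ
  have hQp : IsPGroup p Q := hS.to_le hQ
  have hR_S : Q ⊓ T ≤ S := inf_le_left.trans hQ
  haveI hfinR : Finite ↥(Q ⊓ T) := Cfsg.Agent.Lib.FusionBasic.finite_of_le hR_S
  have hRp : IsPGroup p ↥(Q ⊓ T) := hS.to_le hR_S
  -- the restriction
  let f : ↥(Q ⊓ T) →* ↥(Q ⊓ T) :=
    { toFun := fun x => ⟨(α ⟨x, x.2.1⟩ : Q), (α ⟨x, x.2.1⟩ : Q).2, hαT ⟨x, x.2.1⟩ x.2.2⟩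
      map_one' := by
        apply Subtype.ext
        show ((α 1 : Q) : Ω) = 1
        rw [map_one]
        rfl
      map_mul' := by
        intro x y
        apply Subtype.ext
        show ((α (⟨x, x.2.1⟩ * ⟨y, y.2.1⟩) : Q) : Ω) = _
        rw [map_mul]
        rfl }
  have hfv : ∀ x : ↥(Q ⊓ T), ((f x : ↥(Q ⊓ T)) : Ω) = ((α ⟨x, x.2.1⟩ : Q) : Ω) := fun _ => rfl
  have hfinj : Function.Injective f := by
    intro x y hxy
    have h1 : ((α ⟨x, x.2.1⟩ : Q) : Ω) = ((α ⟨y, y.2.1⟩ : Q) : Ω) := by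
      rw [← hfv, ← hfv, hxy]
    have h2 := α.injective (Subtype.ext h1)
    exact Subtype.ext (congrArg (fun z : Q => (z : Ω)) h2)
  let a : MulAut ↥(Q ⊓ T) := MulEquiv.ofBijective f (Finite.injective_iff_bijective.1 hfinj)
  have hav : ∀ x : ↥(Q ⊓ T), ((a x : ↥(Q ⊓ T)) : Ω) = ((α ⟨x, x.2.1⟩ : Q) : Ω) := fun _ => rfl
  have hpow : ∀ (n : ℕ) (x : ↥(Q ⊓ T)), (((a ^ n) x : ↥(Q ⊓ T)) : Ω) = (((α ^ n) ⟨x, x.2.1⟩ : Q) : Ω) := by
    intro n
    induction n with
    | zero => intro x; rfl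
    | succ n ih =>
      intro x
      rw [pow_succ, pow_succ, MulAut.mul_apply, MulAut.mul_apply, ih]
      rfl
  have ha : (orderOf a).Coprime p := by
    have h1 : a ^ orderOf α = 1 := by
      ext x
      rw [hpow, pow_orderOf_eq_one]
      rfl
    exact Nat.Coprime.coprime_dvd_left (orderOf_dvd_of_pow_eq_one h1) hc
  let ι : ↥(Q ⊓ T) →* S := Subgroup.inclusion hR_S
  have hι : Function.Injective ι := Subgroup.inclusion_injective hR_S
  have hSfin : IsPGroup p S := hS
  have ha1 : a = 1 := by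
    refine aut_fix_of_exponent hRp a ha fun R hR hexp => ?_
    refine fix_of_conj hSfin hRp ι hι a ha R hR fun y hy => ?_
    have hyq := hexp y hy
    by_cases hy1 : y = 1
    · refine ⟨1, ?_⟩
      subst hy1
      simp
    -- the order of `y`
    have horder : orderOf y = p ∨ orderOf y = 4 := by
      have hd : orderOf y ∣ qp p := orderOf_dvd_of_pow_eq_one hyq
      have hne : orderOf y ≠ 1 := fun e => hy1 (orderOf_eq_one_iff.1 e)
      rw [qp] at hd
      split_ifs at hd with h2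
      · subst h2
        have hle : orderOf y ≤ 4 := Nat.le_of_dvd (by norm_num) hd
        have hpos : 0 < orderOf y := orderOf_pos_iff.2 (isOfFinOrder_of_finite y)
        interval_cases orderOf y <;> simp_all
      · exact Or.inl (((Nat.dvd_prime hpp).1 hd).resolve_left hne)
    set x : Ω := (y : Ω) with hx
    have hordx : orderOf x = orderOf y := Subgroup.orderOf_coe y
    set y' : Q := ⟨x, y.2.1⟩ with hy'
    set z : Ω := ((α y' : Q) : Ω) with hz
    have hzy : z = ((a y : ↥(Q ⊓ T)) : Ω) := rfl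
    have hordz : orderOf z = orderOf y := by
      rw [hzy, Subgroup.orderOf_coe]
      exact orderOf_injective a.toMonoidHom a.injective y
    have hAQ : Subgroup.zpowers x ≤ Q := (Subgroup.zpowers_le).2 y.2.1
    have hAT : Subgroup.zpowers x ≤ T := (Subgroup.zpowers_le).2 y.2.2
    have hBT : Subgroup.zpowers z ≤ T := (Subgroup.zpowers_le).2 (by rw [hzy]; exact (a y).2.2)
    have hcardA : Nat.card (Subgroup.zpowers x) = p ∨ Nat.card (Subgroup.zpowers x) = 4 := by
      rw [Nat.card_zpowers, hordx]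
      exact horder
    have hcardB : Nat.card (Subgroup.zpowers z) = p ∨ Nat.card (Subgroup.zpowers z) = 4 := by
      rw [Nat.card_zpowers, hordz]
      exact horder
    have hmem : Q.subtype.comp α.toMonoidHom ∈ F.Hom Q := (Cfsg.Agent.Lib.FusionAut.mem_autGroup_iff F hQ).1 hα
    have hres' := Cfsg.Agent.Lib.FusionBasic.restrict_mem F hmem hAQ
    set φ : ↥(Subgroup.zpowers x) →* Ω := (Q.subtype.comp α.toMonoidHom).comp (Subgroup.inclusion hAQ) with hφ
    have hφmem : φ ∈ F.homSet (Subgroup.zpowers x) (Subgroup.zpowers z) := by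
      refine ⟨hres', ?_⟩
      rintro ⟨w, k, rfl⟩
      refine ⟨k, ?_⟩
      show z ^ k = ((α (Subgroup.inclusion hAQ ⟨x ^ k, ⟨k, rfl⟩⟩) : Q) : Ω)
      have e : Subgroup.inclusion hAQ ⟨x ^ k, ⟨k, rfl⟩⟩ = y' ^ k := Subtype.ext (by simp [hy'])
      rw [e, map_zpow]
      simp [hz]
    obtain ⟨-, g, hg, hgx⟩ := h _ _ hAT hBT inferInstance hcardA inferInstance hcardB hφmem
    refine ⟨⟨g, hg⟩, Subtype.ext ?_⟩
    have h5 := hgx ⟨x, Subgroup.mem_zpowers x⟩
    show ((a y : ↥(Q ⊓ T)) : Ω) = g * x * g⁻¹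
    rw [← hzy, ← h5]
    rfl
  -- the action on `Q`
  obtain ⟨m, hm⟩ := Cfsg.Agent.Lib.FusionNormal.pow_fix_of_stab hQp α (B := T.subgroupOf Q) (C := ⊤) le_top (by
      intro y _
      exact hdiff y) 0 (by
      intro b hb
      rw [pow_zero, pow_one]
      have h1 : a ⟨b, b.2, hb⟩ = ⟨b, b.2, hb⟩ := by rw [ha1]; rfl
      have h2 := congrArg (fun w : ↥(Q ⊓ T) => (w : Ω)) h1
      exact Subtype.ext h2)
  ext y
  have := fix_of_pow_fix α hc (hm y trivial)
  rw [this]
  rfl

theorem inner_of_cyclic [Finite S] (hS : IsPGroup p S) (F : FusionSystem S) (hF : F.IsSaturated p)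
    (h : ∀ A B : Subgroup Ω, A ≤ (F.hyperfocalSubgroup p) → B ≤ (F.hyperfocalSubgroup p) → IsCyclic ↥A →
      (Nat.card ↥A = p ∨ Nat.card ↥A = 4) → IsCyclic ↥B → (Nat.card ↥B = p ∨ Nat.card ↥B = 4) →
      F.homSet A B ⊆ (innerFusionSystem S).Hom A) (P : Subgroup Ω) :
    F.Hom P = (innerFusionSystem S).Hom P := by
  refine Cfsg.Agent.Lib.FusionGT.inner_of_autP hS hF (fun U hU => ?_) P
  haveI hfinQ : Finite U := Cfsg.Agent.Lib.FusionBasic.finite_of_le hU
  haveI : Finite (MulAut U) := Cfsg.Agent.Lib.FusionSat.mulAut_finite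
  refine Cfsg.Agent.Lib.ThmOSparseB.isPGroup_of_coprime_trivial fun g hg => ?_
  have h1 : orderOf (g : MulAut U) = orderOf g := Subgroup.orderOf_coe g
  exact Subtype.ext (autGroup_trivial hS F hF h hU g g.2 (h1 ▸ hg))

end Fusion

end Cfsg.Agent.Lib.ThmCycHyp
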