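import Cfsg.Agent.S0035
import Cfsg.Agent.Lib.FusionAlperin

/-!
Groups whose Sylow subgroup modulo a normal subgroup `Q` is a Frobenius complement:
the normal complement modulo `Q`, fixed points in cosets and first consequences.
-/

set_option autoImplicit false

universe u

namespace Cfsg.Agent.Lib.ThmOBase

open Cfsg

section Coset

variable {G : Type*} [Group G] [Finite G] {p : ℕ} [hp : Fact p.Prime]

theorem isPGroup_zpowers_of_pow {a : G} {n : ℕ} (ha : a ^ p ^ n = 1) : IsPGroup p ↥(Subgroup.zpowers a) := by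
  rintro ⟨y, hy⟩
  obtain ⟨m, rfl⟩ := Subgroup.mem_zpowers_iff.mp hy
  refine ⟨n, Subtype.ext ?_⟩
  show (a ^ m) ^ p ^ n = 1
  rw [← zpow_natCast, ← zpow_mul, mul_comm, zpow_mul, zpow_natCast, ha, one_zpow]

/-- A `p`-element fixing a coset of a normal subgroup of order prime to `p` fixes an element of it. -/
theorem fixed_coset (N : Subgroup G) [hN : N.Normal] (hNc : ¬ p ∣ Nat.card N) (a : G) {n : ℕ}
    (ha : a ^ p ^ n = 1) (s : G) (hs : s⁻¹ * (a * s * a⁻¹) ∈ N) :
    ∃ c ∈ N, a * (s * c) * a⁻¹ = s * c := by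
  classical
  haveI hP := isPGroup_zpowers_of_pow (p := p) ha
  -- all powers of `a` fix the coset
  let Y : Subgroup G := (Subgroup.centralizer ({(QuotientGroup.mk s : G ⧸ N)} : Set (G ⧸ N))).comap (QuotientGroup.mk' N)
  have hqa : ∀ y : G, y ∈ Y ↔ s⁻¹ * (y * s * y⁻¹) ∈ N := by
    intro y
    show (QuotientGroup.mk y : G ⧸ N) ∈ Subgroup.centralizer _ ↔ _
    rw [Subgroup.mem_centralizer_singleton_iff]
    rw [← QuotientGroup.mk_mul, ← QuotientGroup.mk_mul, QuotientGroup.eq]
    have h1 : (s * y)⁻¹ * (y * s) = (y⁻¹ * (s⁻¹ * (y * s * y⁻¹)) * y) := by group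
    constructor
    · intro h
      have h2 : y⁻¹ * (s⁻¹ * (y * s * y⁻¹)) * y ∈ N := by rw [← h1]; exact (N.inv_mem_iff).mp (by
        have : ((s * y)⁻¹ * (y * s))⁻¹ = (y * s)⁻¹ * (s * y) := by group
        rw [this]; exact h)
      have h3 := hN.conj_mem _ h2 y
      have h4 : y * (y⁻¹ * (s⁻¹ * (y * s * y⁻¹)) * y) * y⁻¹ = s⁻¹ * (y * s * y⁻¹) := by group
      rwa [h4] at h3
    · intro h
      have h2 := hN.conj_mem _ h y⁻¹
      have h3 : y⁻¹ * (s⁻¹ * (y * s * y⁻¹)) * y⁻¹⁻¹ = (s * y)⁻¹ * (y * s) := by group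
      rw [h3] at h2
      have : (y * s)⁻¹ * (s * y) = ((s * y)⁻¹ * (y * s))⁻¹ := by group
      rw [this]
      exact N.inv_mem h2
  have haY : a ∈ Y := (hqa a).mpr hs
  have hzY : Subgroup.zpowers a ≤ Y := (Subgroup.zpowers_le).mpr haY
  let Ω := {x : G // s⁻¹ * x ∈ N}
  have hinv : ∀ (y : ↥(Subgroup.zpowers a)) (x : Ω), s⁻¹ * ((y : G) * x.1 * (y : G)⁻¹) ∈ N := by
    intro y x
    have h1 := (hqa y).mp (hzY y.2)
    have h2 : s⁻¹ * ((y : G) * x.1 * (y : G)⁻¹) = (s⁻¹ * ((y : G) * s * (y : G)⁻¹)) * ((y : G) * (s⁻¹ * x.1) * (y : G)⁻¹) := by group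
    rw [h2]
    exact N.mul_mem h1 (hN.conj_mem _ x.2 _)
  letI : MulAction ↥(Subgroup.zpowers a) Ω :=
    { smul := fun y x => ⟨(y : G) * x.1 * (y : G)⁻¹, hinv y x⟩
      one_smul := fun x => Subtype.ext (by
        show ((1 : ↥(Subgroup.zpowers a)) : G) * x.1 * ((1 : ↥(Subgroup.zpowers a)) : G)⁻¹ = x.1
        simp)
      mul_smul := fun y y' x => Subtype.ext (by
        show ((y * y' : ↥(Subgroup.zpowers a)) : G) * x.1 * ((y * y' : ↥(Subgroup.zpowers a)) : G)⁻¹ = (y : G) * ((y' : G) * x.1 * (y' : G)⁻¹) * (y : G)⁻¹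
        simp [mul_assoc]) }
  have hcard : Nat.card Ω = Nat.card N := by
    refine Nat.card_congr ⟨fun x => ⟨s⁻¹ * x.1, x.2⟩, fun c => ⟨s * c.1, by simpa using c.2⟩, fun x => Subtype.ext (by simp), fun c => Subtype.ext (by simp)⟩
  have hne := hP.nonempty_fixed_point_of_prime_not_dvd_card Ω (by rw [hcard]; exact hNc)
  obtain ⟨x, hx⟩ := hne
  have hxa := hx ⟨a, Subgroup.mem_zpowers a⟩
  have hxa' : a * x.1 * a⁻¹ = x.1 := congrArg Subtype.val hxa
  refine ⟨s⁻¹ * x.1, x.2, ?_⟩
  rw [mul_inv_cancel_left]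
  exact hxa'

end Coset

section Omega

variable {L : Type*} [Group L] {p : ℕ} [hp : Fact p.Prime]

/-- An automorphism of an abelian `p`-group, of order prime to `p`, trivial on `Ω₁` is trivial. -/
theorem fix_of_fix_omega (Z : Subgroup L) (hZab : ∀ a ∈ Z, ∀ b ∈ Z, a * b = b * a) (hZp : IsPGroup p Z)
    (y : L) (hyN : ∀ w ∈ Z, y * w * y⁻¹ ∈ Z) (hyV : ∀ v ∈ Z, v ^ p = 1 → y * v * y⁻¹ = v) (n : ℕ)
    (hn : ∀ w ∈ Z, y ^ n * w * (y ^ n)⁻¹ = w) (hc : n.Coprime p) : ∀ w ∈ Z, y * w * y⁻¹ = w := by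
  have key : ∀ k : ℕ, ∀ w ∈ Z, w ^ p ^ k = 1 → y * w * y⁻¹ = w := by
    intro k
    induction k with
    | zero =>
      intro w _ h
      have : w = 1 := by simpa using h
      rw [this]; simp
    | succ k ih =>
      intro w hw h
      have hwp : w ^ p ∈ Z := Z.pow_mem hw p
      have h1 : y * w ^ p * y⁻¹ = w ^ p := by
        refine ih _ hwp ?_
        rw [← pow_mul, ← pow_succ']
        exact h
      set e := y * w * y⁻¹ * w⁻¹ with he
      have hyw : y * w * y⁻¹ ∈ Z := hyN w hw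
      have heZ : e ∈ Z := Z.mul_mem hyw (Z.inv_mem hw)
      have hcw : Commute (y * w * y⁻¹) w⁻¹ := hZab _ hyw _ (Z.inv_mem hw)
      have hep : e ^ p = 1 := by
        rw [he, hcw.mul_pow, conj_pow, h1, inv_pow, mul_inv_cancel]
      have hye : y * e * y⁻¹ = e := hyV e heZ hep
      have hyew : y * w * y⁻¹ = e * w := by rw [he]; group
      have hm : ∀ m : ℕ, y ^ m * w * (y ^ m)⁻¹ = e ^ m * w := by
        intro m
        induction m with
        | zero => simp
        | succ m ihm =>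
          have h3 : y ^ (m + 1) * w * (y ^ (m + 1))⁻¹ = y * (y ^ m * w * (y ^ m)⁻¹) * y⁻¹ := by
            rw [pow_succ']; group
          rw [h3, ihm]
          have h4 : y * (e ^ m * w) * y⁻¹ = (y * e ^ m * y⁻¹) * (y * w * y⁻¹) := by group
          rw [h4, ← conj_pow, hye, hyew]
          simp only [pow_succ, mul_assoc]
      have h5 : e ^ n = 1 := by
        have h6 := hm n
        rw [hn w hw] at h6
        exact (mul_eq_right.mp h6.symm)
      have h7 : orderOf e ∣ 1 := by
        have h8 := Nat.dvd_gcd (orderOf_dvd_of_pow_eq_one h5) (orderOf_dvd_of_pow_eq_one hep)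
        rwa [hc.gcd_eq_one] at h8
      have h9 : e = 1 := orderOf_eq_one_iff.mp (Nat.dvd_one.mp h7)
      rw [hyew, h9, one_mul]
  intro w hw
  obtain ⟨k, hk⟩ := hZp ⟨w, hw⟩
  refine key k w hw ?_
  simpa using congrArg (fun t : ↥Z => (t : L)) hk

end Omega

section TI

variable {L : Type*} [Group L] [Finite L] {p : ℕ} [hp : Fact p.Prime]

/-- Elements commuting with a nontrivial element of `T / Q` lie in `T`. -/
theorem mem_of_comm_mod (Q T : Subgroup L) (hQ : Q.Normal) (hQT : Q ≤ T)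
    (hTI : ∀ R : Subgroup L, Q < R → R ≤ T → Subgroup.normalizer (R : Set L) ≤ T)
    {a y : L} (haT : a ∈ T) (haQ : a ∉ Q) (hy : y * a * y⁻¹ * a⁻¹ ∈ Q) : y ∈ T := by
  haveI := hQ
  let π := QuotientGroup.mk' Q
  let R : Subgroup L := (Subgroup.zpowers (π a)).comap π
  have hcomm : Commute (π y) (π a) := by
    have h1 : π (y * a * y⁻¹ * a⁻¹) = 1 := by
      show (QuotientGroup.mk _ : L ⧸ Q) = 1
      rw [QuotientGroup.eq_one_iff]
      exact hy
    simp only [map_mul, map_inv] at h1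
    have h2 : π y * π a * (π y)⁻¹ = π a := mul_inv_eq_one.mp h1
    exact mul_inv_eq_iff_eq_mul.mp h2
  have hRQ : Q < R := by
    refine lt_of_le_of_ne ?_ ?_
    · intro q hq
      show π q ∈ Subgroup.zpowers (π a)
      have : π q = 1 := by
        show (QuotientGroup.mk _ : L ⧸ Q) = 1
        rw [QuotientGroup.eq_one_iff]
        exact hq
      rw [this]
      exact Subgroup.one_mem _
    · intro he
      apply haQ
      rw [he]
      exact Subgroup.mem_zpowers (π a)
  have hRT : R ≤ T := by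
    intro x hx
    obtain ⟨m, hm⟩ := Subgroup.mem_zpowers_iff.mp (show π x ∈ Subgroup.zpowers (π a) from hx)
    have h1 : π (a ^ m) = π x := by rw [map_zpow]; exact hm
    have h2 : (a ^ m)⁻¹ * x ∈ Q := QuotientGroup.eq.mp h1
    have h3 : x = a ^ m * ((a ^ m)⁻¹ * x) := by group
    rw [h3]
    exact T.mul_mem (T.zpow_mem haT m) (hQT h2)
  apply hTI R hRQ hRT
  rw [Subgroup.mem_normalizer_iff]
  intro x
  have hcz : ∀ u ∈ Subgroup.zpowers (π a), π y * u * (π y)⁻¹ = u := by
    intro u hu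
    obtain ⟨m, rfl⟩ := Subgroup.mem_zpowers_iff.mp hu
    have : Commute (π y) ((π a) ^ m) := hcomm.zpow_right m
    rw [this.eq, mul_inv_cancel_right]
  constructor
  · intro hx
    show π (y * x * y⁻¹) ∈ Subgroup.zpowers (π a)
    simp only [map_mul, map_inv]
    rw [hcz _ hx]
    exact hx
  · intro hx
    have h1 : π y * π x * (π y)⁻¹ ∈ Subgroup.zpowers (π a) := by
      have : π (y * x * y⁻¹) ∈ Subgroup.zpowers (π a) := hx
      simpa only [map_mul, map_inv] using this
    have h2 := hcz _ h1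
    have h3 : π y * π x * (π y)⁻¹ = π x :=
      mul_left_cancel (mul_right_cancel (h2.trans rfl))
    show π x ∈ Subgroup.zpowers (π a)
    rw [← h3]
    exact h1

/-- The normal complement of `T` modulo `Q`. -/
theorem exists_kernel (Q T : Subgroup L) (hQ : Q.Normal) (hQT : Q ≤ T) (hTp : IsPGroup p T)
    (hTi : ¬ p ∣ T.index)
    (hTI : ∀ R : Subgroup L, Q < R → R ≤ T → Subgroup.normalizer (R : Set L) ≤ T)
    (hlt : Q < T) (htop : T ≠ ⊤) :
    ∃ K : Subgroup L, K.Normal ∧ Q ≤ K ∧ K ⊓ T = Q ∧ K ⊔ T = ⊤ ∧ (∀ k ∈ K, k ^ T.index ∈ Q) := by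
  classical
  haveI := hQ
  let π := QuotientGroup.mk' Q
  have hπs : Function.Surjective π := QuotientGroup.mk'_surjective Q
  have hπq : ∀ x, π x = 1 ↔ x ∈ Q := fun x => by
    show (QuotientGroup.mk x : L ⧸ Q) = 1 ↔ _
    exact QuotientGroup.eq_one_iff x
  let H := T.map π
  have hcomap : H.comap π = T := by
    apply Subgroup.comap_map_eq_self
    intro x hx
    exact hQT ((hπq x).mp hx)
  have hmemH : ∀ x, π x ∈ H ↔ x ∈ T := by
    intro x
    constructor
    · intro h
      have : x ∈ H.comap π := h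
      rwa [hcomap] at this
    · intro h
      exact ⟨x, h, rfl⟩
  have hFrob : IsFrobeniusComplement H := by
    refine ⟨?_, ?_, ?_⟩
    · intro h
      obtain ⟨t, htT, htQ⟩ := SetLike.exists_of_lt hlt
      apply htQ
      rw [← hπq]
      have : π t ∈ H := ⟨t, htT, rfl⟩
      rw [h] at this
      exact this
    · intro h
      apply htop
      rw [eq_top_iff]
      intro x _
      rw [← hmemH, h]
      trivial
    · intro g hg
      obtain ⟨g₀, rfl⟩ := hπs g
      have hg₀ : g₀ ∉ T := fun h => hg ((hmemH g₀).mpr h)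
      let T' := T.map (MulAut.conj g₀).toMonoidHom
      have hmemT' : ∀ x, x ∈ T' ↔ g₀⁻¹ * x * g₀ ∈ T := by
        intro x
        constructor
        · rintro ⟨t, ht, rfl⟩
          simpa [mul_assoc] using ht
        · intro h
          exact ⟨_, h, by simp [mul_assoc]⟩
      have hQT' : Q ≤ T' := by
        intro q hq
        rw [hmemT']
        apply hQT
        have := hQ.conj_mem q hq g₀⁻¹
        simpa using this
      have hT'p : IsPGroup p T' := hTp.map _
      let R := T ⊓ T'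
      have hRQ : R = Q := by
        by_contra hne
        have hlt' : Q < R := lt_of_le_of_ne (le_inf hQT hQT') (Ne.symm hne)
        have hRT : R ≤ T := inf_le_left
        haveI : Finite ↥T' := inferInstance
        have hcase : R = T' := by
          by_contra hne2
          have hlt2 : R < T' := lt_of_le_of_ne inf_le_right hne2
          have h3 := Cfsg.Agent.Lib.FusionAlperin.lt_normalizerIn hT'p hlt2
          obtain ⟨y, hy, hyR⟩ := SetLike.exists_of_lt h3
          have hyT := hTI R hlt' hRT hy.2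
          exact hyR ⟨hyT, hy.1⟩
        have hT'T : T' ≤ T := hcase ▸ inf_le_left
        have hcard : Nat.card T' = Nat.card T := by
          exact Subgroup.card_map_of_injective (MulAut.conj g₀).injective
        have heq : T' = T := Subgroup.eq_of_le_of_card_ge hT'T hcard.ge
        apply hg₀
        apply hTI T hlt le_rfl
        rw [Subgroup.mem_normalizer_iff]
        intro x
        constructor
        · intro hx
          rw [← heq]
          exact ⟨x, hx, rfl⟩
        · intro hx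
          have h5 := (hmemT' _).mp (heq ▸ hx)
          simpa [mul_assoc] using h5
      rw [eq_bot_iff]
      intro h hh
      obtain ⟨hh1, hh2⟩ := Subgroup.mem_inf.mp hh
      obtain ⟨x, rfl⟩ := hπs h
      have hxT : x ∈ T := (hmemH x).mp hh1
      obtain ⟨u, hu, hue⟩ := (Subgroup.mem_smul_pointwise_iff_exists _ _ _).mp hh2
      obtain ⟨t, ht, rfl⟩ := hu
      have hue' : π g₀ * π t * (π g₀)⁻¹ = π x := hue
      have h6 : π (g₀ * t * g₀⁻¹) = π x := by
        simpa only [map_mul, map_inv] using hue'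
      have h7 : (g₀ * t * g₀⁻¹)⁻¹ * x ∈ Q := QuotientGroup.eq.mp h6
      have h8 : x ∈ T' := by
        have h9 : x = (g₀ * t * g₀⁻¹) * ((g₀ * t * g₀⁻¹)⁻¹ * x) := by group
        rw [h9]
        exact T'.mul_mem ⟨t, ht, rfl⟩ (hQT' h7)
      have h10 : x ∈ R := ⟨hxT, h8⟩
      rw [hRQ] at h10
      rw [(hπq x).mpr h10]
      exact Subgroup.one_mem _
  obtain ⟨N, hNset, hNn, hNc⟩ := Cfsg.Agent.S0035.result H hFrob
  refine ⟨N.comap π, hNn.comap π, ?_, ?_, ?_, ?_⟩
  · intro q hq
    show π q ∈ N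
    rw [(hπq q).mpr hq]
    exact N.one_mem
  · apply le_antisymm
    · rintro x ⟨hx1, hx2⟩
      rw [← hπq]
      have h1 : π x ∈ N := hx1
      have h2 : π x ∈ H := ⟨x, hx2, rfl⟩
      exact Subgroup.disjoint_def.mp hNc.disjoint h1 h2
    · refine le_inf ?_ hQT
      intro q hq
      show π q ∈ N
      rw [(hπq q).mpr hq]
      exact N.one_mem
  · rw [eq_top_iff]
    intro x _
    obtain ⟨⟨n, h⟩, he⟩ := hNc.2 (π x)
    have he' : (n : L ⧸ Q) * h = π x := he
    obtain ⟨t, ht, htπ⟩ := h.2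
    have h1 : x * t⁻¹ ∈ N.comap π := by
      show π (x * t⁻¹) ∈ N
      rw [map_mul, map_inv, ← he', ← htπ]
      simp only [mul_inv_cancel_right]
      exact n.2
    have h2 : x = x * t⁻¹ * t := by group
    rw [h2]
    exact Subgroup.mul_mem _ (Subgroup.mem_sup_left h1) (Subgroup.mem_sup_right ht)
  · intro k hk
    rw [← hπq, map_pow]
    have h1 : H.index = Nat.card N := hNc.index_eq_card
    have h2 : H.index = T.index := by
      rw [← hcomap, Subgroup.index_comap_of_surjective _ hπs]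
    rw [← h2, h1]
    have h3 : (⟨π k, hk⟩ : ↥N) ^ Nat.card N = 1 := pow_card_eq_one'
    have h4 := congrArg (fun y : ↥N => (y : L ⧸ Q)) h3
    simpa only [Subgroup.coe_pow, Subgroup.coe_one] using h4

end TI

end Cfsg.Agent.Lib.ThmOBase
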