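import Cfsg.Agent.Lib.ThmOFusF
import Cfsg.Agent.Lib.FusionGT
import Cfsg.Agent.Lib.FusionFactorModel
import Cfsg.Agent.Lib.FusionQuot

/-!
Control of fusion by the automizers of characteristic subgroups.
-/

set_option autoImplicit false

universe u

namespace Cfsg.Agent.Lib.ThmOChar

open Cfsg Cfsg.FusionSystem Cfsg.Agent.Lib.FusionBasic Cfsg.Agent.Lib.FusionAut
  Cfsg.Agent.Lib.FusionSat Cfsg.Agent.Lib.FusionModel Cfsg.Agent.Lib.FusionLocal
  Cfsg.Agent.Lib.FusionLocalModel Cfsg.Agent.Lib.FusionAlperin Cfsg.Agent.Lib.FusionJFactor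
  Cfsg.Agent.Lib.FusionNormal Cfsg.Agent.Lib.FusionJGen Cfsg.Agent.Lib.ThmOS3
  Cfsg.Agent.Lib.FusionFactor Cfsg.Agent.Lib.FusionNormSat
  Cfsg.Agent.Lib.FusionGT Cfsg.Agent.Lib.FusionQuot

section A

variable {Ω : Type u} [Group Ω] {S : Subgroup Ω} {p : ℕ} [Fact p.Prime]

/-- No automizer of a centric subgroup has a section of type `S₃`. -/
def NoS3c (F : FusionSystem S) : Prop :=
  ∀ Q : Subgroup Ω, F.IsCentric Q → ¬ Sec ↥(F.autGroup Q)

/-- The automizers of the nontrivial characteristic subgroups are `p`-groups. -/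
def CharP (p : ℕ) (F : FusionSystem S) : Prop :=
  ∀ Q : Subgroup Ω, Q ≤ S → Q ≠ ⊥ → (Q.subgroupOf S).Characteristic → IsPGroup p (F.autGroup Q)

theorem NoS3c.noS3 {F : FusionSystem S} (h : NoS3c F) : Cfsg.Agent.Lib.ThmOFus.NoS3 F :=
  fun Q _ hc => h Q hc

/-- Section freeness gives the absence of sections of type `S₃` in automizers. -/
theorem noS3c_of_free [Finite S] (hS : IsPGroup p S) {F : FusionSystem S} (hF : F.IsSaturated p) (hp : p = 2)
    (hfree : F.IsSectionFree p (Equiv.Perm (Fin 4))) : NoS3c F := by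
  subst hp
  intro Q hQc hsec
  obtain ⟨Q₁, hconj, hQ₁⟩ := exists_isConj_fullyNormalized F hQc.1
  have hQ₁c : F.IsCentric Q₁ := ⟨hQ₁.1, fun R hR => hQc.2 R (isConj_trans F hconj hR)⟩
  obtain ⟨ρ, hρ, hρr⟩ := hconj
  have hsec₁ : Sec ↥(F.autGroup Q₁) := by
    let f : ↥(F.autGroup Q) →* ↥(F.autGroup Q₁) :=
      ((MulAut.congr (isoOfRange hρ hρr)).toMonoidHom.comp (F.autGroup Q).subtype).codRestrict _
        (fun β => congr_mem_autGroup hρ hρr β.2)
    have hf : Function.Injective f := by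
      intro a b hab
      apply Subtype.ext
      exact (MulAut.congr (isoOfRange hρ hρr)).injective (congrArg Subtype.val hab)
    exact Sec.of_injective f hf hsec
  have hQ₁S : Q₁ ≤ S := hQ₁.1
  have hTS : normalizerIn S Q₁ ≤ S := inf_le_left
  haveI : Finite ↥(normalizerIn S Q₁) := finite_of_le hTS
  have hNs := isNormalizerSystem_normalizerSystem F Q₁ hQ₁S
  have hcons := isConstrained_normalizerSystem hS hF hQ₁ hQ₁c hNs
  obtain ⟨L, _, ι, hM⟩ := FusionModelExist.exists_model (hS.to_le hTS) _ hcons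
  have hfree' := hfree Q₁ hQ₁ hQ₁c _ hNs L ι hM
  obtain ⟨hfin, hreal, -, hcent⟩ := hM
  haveI := hfin
  have hle := le_normalizerIn hQ₁S
  obtain ⟨f, hf, -⟩ := Cfsg.Agent.Lib.ThmOFus.exists_autHom hreal hle
  have hA := autGroup_normalizerSystem hNs hQ₁S
  have hsec₂ : Sec ↥((normalizerSystem F Q₁ hQ₁S).autGroup Q₁) := by
    rw [hA]
    exact hsec₁
  have h1 := Sec.of_surjective f hf hsec₂
  have h2 := Sec.of_injective (Subgroup.subtype _) Subtype.val_injective h1
  exact hfree' (Cfsg.Agent.Lib.ThmOS4.involves_of_rel hcent (Cfsg.Agent.Lib.ThmOS4.claimC h2))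

end A

section B

variable {Ω : Type*} [Group Ω] {S : Subgroup Ω} {Ω' : Type*} [Group Ω'] {S' : Subgroup Ω'}

/-- A surjective morphism induces a surjection of automizers of subgroups above the kernel. -/
theorem exists_autHom_image [Finite S] {F : FusionSystem S} {F' : FusionSystem S'} {α : S →* Ω'}
    (hα : F.IsSurjectiveMorphism F' α) {R : Subgroup Ω} (hRS : R ≤ S)
    (hS₀R : (α.ker).map S.subtype ≤ R) :
    ∃ f : ↥(F.autGroup R) →* ↥(F'.autGroup (imageAlong α R)), Function.Surjective f := by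
  obtain ⟨⟨hαS, hmor⟩, hrange, hlift⟩ := hα
  have hS₀ := stronglyClosed_ker (F' := F') (α := α) ⟨hαS, hmor⟩
  have hfinR : Finite R := finite_of_le hRS
  set R' : Subgroup Ω' := imageAlong α R with hR'
  have hpre : preimageAlong α R' = R := preimage_image α hRS hS₀R
  have hR'S' : R' ≤ S' := by
    rintro _ ⟨x, -, rfl⟩
    exact hαS x
  have hmemR : ∀ (z : Ω) (hz : z ∈ S), z ∈ R ↔ α ⟨z, hz⟩ ∈ R' := by
    intro z hz
    conv_lhs => rw [← hpre]
    rw [mem_preimageAlong]
    exact ⟨fun ⟨_, h⟩ => h, fun h => ⟨hz, h⟩⟩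
  let π : ↥R →* ↥R' := (α.comp (Subgroup.inclusion hRS)).codRestrict R'
    (fun x => ⟨⟨x, hRS x.2⟩, x.2, rfl⟩)
  have hπv : ∀ x : R, ((π x : R') : Ω') = α ⟨x, hRS x.2⟩ := fun _ => rfl
  have hπs : Function.Surjective π := by
    rintro ⟨_, z, hz, rfl⟩
    exact ⟨⟨z, hz⟩, rfl⟩
  have hπker : ∀ x : R, π x = 1 ↔ (x : Ω) ∈ (α.ker).map S.subtype := by
    intro x
    rw [← mem_ker_map_iff α ⟨x, hRS x.2⟩]
    constructor
    · intro h
      exact congrArg Subtype.val h
    · intro h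
      exact Subtype.ext h
  have hA : ∀ β ∈ F.autGroup R, ∀ x, π x = 1 ↔ π (β x) = 1 := by
    intro β hβ x
    rw [hπker, hπker]
    exact (StronglyClosed.map_autGroup_iff hS₀ hRS hβ x).symm
  let Pi0 : ↥(F.autGroup R) →* MulAut ↥R' := inducedAutHom π hπs (F.autGroup R) hA
  have hPi0 : ∀ (β : ↥(F.autGroup R)) (x : R), Pi0 β (π x) = π ((β : MulAut R) x) :=
    fun β x => inducedAutHom_apply π hπs (F.autGroup R) hA β x
  have hmem : ∀ β : ↥(F.autGroup R), Pi0 β ∈ F'.autGroup R' := by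
    intro β
    rw [mem_autGroup_iff F' hR'S']
    have hβm := (mem_autGroup_iff F hRS).mp β.2
    obtain ⟨φ', hφ', h1, h2, h3, h4⟩ := hmor R _ hβm
    refine hom_of_eq hφ' fun y => ?_
    obtain ⟨x, rfl⟩ := hπs y
    have e : (R'.subtype.comp (Pi0 β).toMonoidHom) (π x) = ((Pi0 β (π x) : R') : Ω') := rfl
    rw [e, hPi0]
    exact (h4 x).symm
  have hsurj : ∀ γ ∈ F'.autGroup R', ∃ β : ↥(F.autGroup R), Pi0 β = γ := by
    intro γ hγ
    have hγm := (mem_autGroup_iff F' hR'S').mp hγ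
    obtain ⟨φ, hφ, h1, h2, h3, h4⟩ := hlift R' hR'S' _ hγm
    have hle : R ≤ preimageAlong α R' := hpre.ge
    have hφ₁ := restrict_mem F hφ hle
    have hv : ∀ x : R, (φ.comp (Subgroup.inclusion hle)) x ∈ R := by
      intro x
      have h5 := h4 (Subgroup.inclusion hle x)
      refine (hmemR _ (h2 _)).mpr ?_
      show α ⟨φ (Subgroup.inclusion hle x), h2 _⟩ ∈ R'
      rw [← h5]
      exact (γ _).2
    have hr : (φ.comp (Subgroup.inclusion hle)).range = R :=
      Subgroup.eq_of_le_of_card_ge (by rintro _ ⟨x, rfl⟩; exact hv x) (card_range_eq F hφ₁).ge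
    refine ⟨⟨isoOfRange hφ₁ hr, isoOfRange_mem_autGroup hφ₁ hr⟩, ?_⟩
    ext y
    obtain ⟨x, rfl⟩ := hπs y
    rw [hPi0]
    have h5 := h4 (Subgroup.inclusion hle x)
    exact h5.symm
  let Pi : ↥(F.autGroup R) →* ↥(F'.autGroup R') := Pi0.codRestrict _ hmem
  have hPis : Function.Surjective Pi := by
    rintro ⟨γ, hγ⟩
    obtain ⟨β, hβ⟩ := hsurj γ hγ
    exact ⟨β, Subtype.ext hβ⟩
  exact ⟨Pi, hPis⟩

theorem exists_autHom_preimage [Finite S] {F : FusionSystem S} {F' : FusionSystem S'} {α : S →* Ω'}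
    (hα : F.IsSurjectiveMorphism F' α) {Rb : Subgroup Ω'} (hRb : Rb ≤ S') :
    ∃ f : ↥(F.autGroup (preimageAlong α Rb)) →* ↥(F'.autGroup Rb), Function.Surjective f := by
  have h := exists_autHom_image hα (preimageAlong_le α Rb) (le_preimage α Rb)
  rw [image_preimage α (hα.2.1 ▸ hRb)] at h
  exact h

theorem isPGroup_aut_quot [Finite S] {p : ℕ} {F : FusionSystem S} {F' : FusionSystem S'} {α : S →* Ω'}
    (hα : F.IsSurjectiveMorphism F' α) {Rb : Subgroup Ω'} (hRb : Rb ≤ S')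
    (h : IsPGroup p (F.autGroup (preimageAlong α Rb))) : IsPGroup p (F'.autGroup Rb) := by
  obtain ⟨f, hf⟩ := exists_autHom_preimage hα hRb
  exact h.of_surjective f hf

theorem sec_aut_quot [Finite S] {F : FusionSystem S} {F' : FusionSystem S'} {α : S →* Ω'}
    (hα : F.IsSurjectiveMorphism F' α) {Rb : Subgroup Ω'} (hRb : Rb ≤ S')
    (h : Sec (F'.autGroup Rb)) : Sec (F.autGroup (preimageAlong α Rb)) := by
  obtain ⟨f, hf⟩ := exists_autHom_preimage hα hRb
  exact Sec.of_surjective f hf h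

end B

section C

variable {Ω : Type*} [Group Ω] {S : Subgroup Ω} {p : ℕ} [Fact p.Prime]

/-- Powers of an automorphism restricting to an automorphism of a subgroup. -/
theorem restrict_pow {U R : Subgroup Ω} (hUR : U ≤ R) (γ : MulAut R) (α : MulAut U)
    (h : ∀ x : U, ((γ (Subgroup.inclusion hUR x) : R) : Ω) = ((α x : U) : Ω)) (n : ℕ) (x : U) :
    (((γ ^ n) (Subgroup.inclusion hUR x) : R) : Ω) = (((α ^ n) x : U) : Ω) := by
  induction n generalizing x with
  | zero => rfl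
  | succ n ih =>
    have e1 : γ (Subgroup.inclusion hUR x) = Subgroup.inclusion hUR (α x) := Subtype.ext (h x)
    rw [pow_succ, pow_succ, MulAut.mul_apply, MulAut.mul_apply, e1, ih]

/-- A subgroup normal in the system and self-centralizing in `S`, with automizer a `p`-group. -/
theorem autP_of_normal_centric [Finite S] (hS : IsPGroup p S) {E : FusionSystem S} {Q : Subgroup Ω}
    (hQ : E.IsNormal Q) (hc : centralizerIn S Q ≤ Q) (hA : IsPGroup p (E.autGroup Q)) : AutP p E := by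
  intro U hU
  rintro ⟨α, hα⟩
  have hα' := (mem_autGroup_iff E hU).mp hα
  obtain ⟨ψ, hψ, hext, hmap⟩ := hQ.2 U _ hα'
  have hQS : Q ≤ S := hQ.1
  have hRS : U ⊔ Q ≤ S := sup_le hU hQS
  haveI hfinR : Finite ↥(U ⊔ Q) := finite_of_le hRS
  have hSN : S ≤ Subgroup.normalizer (Q : Set Ω) := StronglyClosed.le_normalizer (IsNormal.stronglyClosed hQ)
  have hr : ψ.range = U ⊔ Q := by
    refine range_sup_eq (φ := U.subtype.comp α.toMonoidHom) (P' := U) ?_ hext hmap
    ext y
    constructor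
    · rintro ⟨x, rfl⟩
      exact (α x).2
    · intro hy
      exact ⟨α.symm ⟨y, hy⟩, by simp⟩
  obtain ⟨h1, h2⟩ := (map_subgroupOf_sup_eq_iff ψ).mp hmap
  let γ : MulAut ↥(U ⊔ Q) := isoOfRange hψ hr
  have hγv : ∀ y, ((γ y : ↥(U ⊔ Q)) : Ω) = ψ y := fun _ => rfl
  -- the restriction to `Q`
  have hρ := restrict_mem E hψ (le_sup_right : Q ≤ U ⊔ Q)
  have hrQ : (ψ.comp (Subgroup.inclusion (le_sup_right : Q ≤ U ⊔ Q))).range = Q := by
    ext y
    constructor
    · rintro ⟨x, rfl⟩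
      exact h1 x x.2
    · intro hy
      obtain ⟨x, hx, e⟩ := h2 y hy
      exact ⟨⟨x, hx⟩, e⟩
  let δ : MulAut Q := isoOfRange hρ hrQ
  have hδ : δ ∈ E.autGroup Q := isoOfRange_mem_autGroup hρ hrQ
  obtain ⟨a, ha⟩ := hA ⟨δ, hδ⟩
  have ha' : δ ^ (p ^ a) = 1 := congrArg Subtype.val ha
  have hQfix : ∀ x : Q, (γ ^ (p ^ a)) (Subgroup.inclusion le_sup_right x) =
      Subgroup.inclusion le_sup_right x := by
    intro x
    apply Subtype.ext
    rw [restrict_pow le_sup_right γ δ (fun _ => rfl), ha']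
    rfl
  have hpR : IsPGroup p ↥(U ⊔ Q) := hS.to_le hRS
  obtain ⟨m, hm⟩ := Cfsg.Agent.Lib.FusionNormal.pow_fix_of_stab hpR (γ ^ (p ^ a))
    (B := Q.subgroupOf (U ⊔ Q)) (C := ⊤) le_top (by
      intro y _
      set β := γ ^ (p ^ a) with hβ
      show ((y⁻¹ * β y : ↥(U ⊔ Q)) : Ω) ∈ Q
      apply hc
      refine ⟨hRS (y⁻¹ * β y).2, Subgroup.mem_centralizer_iff.mpr ?_⟩
      intro q hq
      let q' : ↥(U ⊔ Q) := ⟨q, Subgroup.mem_sup_right hq⟩
      have hq1 : β q' = q' := hQfix ⟨q, hq⟩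
      have hconj : ((y * q' * y⁻¹ : ↥(U ⊔ Q)) : Ω) ∈ Q :=
        (Subgroup.mem_normalizer_iff.mp (hSN (hRS y.2)) q).mp hq
      have hq2 : β (y * q' * y⁻¹) = y * q' * y⁻¹ := hQfix ⟨_, hconj⟩
      rw [map_mul, map_mul, map_inv, hq1] at hq2
      have hq3 : q' * (y⁻¹ * β y) = (y⁻¹ * β y) * q' := by
        have e1 : q' = y⁻¹ * (y * q' * y⁻¹) * y := by group
        have e2 : y⁻¹ * (β y * q' * (β y)⁻¹) * y * (y⁻¹ * β y) = (y⁻¹ * β y) * q' := by group
        calc q' * (y⁻¹ * β y) = y⁻¹ * (y * q' * y⁻¹) * y * (y⁻¹ * β y) := by rw [← e1]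
          _ = y⁻¹ * (β y * q' * (β y)⁻¹) * y * (y⁻¹ * β y) := by rw [hq2]
          _ = (y⁻¹ * β y) * q' := e2
      exact congrArg Subtype.val hq3) 0 (by
      intro b hb
      rw [pow_zero, pow_one]
      exact hQfix ⟨b, hb⟩)
  refine ⟨a + m, Subtype.ext ?_⟩
  ext x
  show (((α ^ (p ^ (a + m))) x : U) : Ω) = x
  rw [← restrict_pow le_sup_left γ α hext, pow_add, pow_mul]
  exact congrArg Subtype.val (hm _ trivial)

/-- A subsystem has smaller automizers. -/
theorem autGroup_le_of_sub {E F : FusionSystem S} (h : ∀ (P : Subgroup Ω) (φ : P →* Ω), φ ∈ E.Hom P → φ ∈ F.Hom P)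
    {Q : Subgroup Ω} (hQ : Q ≤ S) : E.autGroup Q ≤ F.autGroup Q := by
  intro α hα
  rw [mem_autGroup_iff E hQ] at hα
  rw [mem_autGroup_iff F hQ]
  exact h _ _ hα

/-- The inner system, as a set equality, from the inclusion. -/
theorem hom_eq_inner {F : FusionSystem S}
    (h : ∀ (P : Subgroup Ω) (φ : P →* Ω), φ ∈ F.Hom P → φ ∈ (innerFusionSystem S).Hom P) (P : Subgroup Ω) :
    F.Hom P = (innerFusionSystem S).Hom P := by
  refine Set.Subset.antisymm (fun φ hφ => h P φ hφ) ?_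
  rintro φ ⟨hP, g, hg, e⟩
  exact hom_of_eq (F.conj_mem hP hg) (fun x => e x)

end C

section D

variable {Ω : Type u} [Group Ω] {S : Subgroup Ω} {p : ℕ} [Fact p.Prime]

theorem centralizerIn_Zf : centralizerIn S (Zf S) = S := by
  refine le_antisymm inf_le_left (fun x hx => ⟨hx, Subgroup.mem_centralizer_iff.mpr ?_⟩)
  intro z hz
  exact (mem_Zf.mp hz).2 x hx |>.symm

/-- `Z(S)` is receptive. -/
theorem receptive_Zf [Finite S] (hS : IsPGroup p S) {F : FusionSystem S} (hF : F.IsSaturated p) :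
    F.IsReceptive (Zf S) := by
  refine IsSaturated.fullyCentralized hS hF ⟨inf_le_left, fun Q _ => ?_⟩
  rw [centralizerIn_Zf]
  exact Subgroup.card_le_of_le inf_le_left

/-- The centralizer system of `Z(S)`, as a system over `S`. -/
theorem exists_central_system [Finite S] (hS : IsPGroup p S) {F : FusionSystem S} (hF : F.IsSaturated p) :
    ∃ E : FusionSystem S, (∀ P, E.Hom P = F.centralizerHom (Zf S) P) ∧ E.IsSaturated p := by
  have hZS : Zf S ≤ S := inf_le_left
  have hZfc : F.IsFullyCentralized (Zf S) := ⟨hZS, fun Q _ => by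
    rw [centralizerIn_Zf]
    exact Subgroup.card_le_of_le inf_le_left⟩
  have key : ∀ T : Subgroup Ω, T = centralizerIn S (Zf S) → ∃ E : FusionSystem T,
      (∀ P, E.Hom P = F.centralizerHom (Zf S) P) ∧ E.IsSaturated p := by
    rintro _ rfl
    exact ⟨centralizerSystem F (Zf S) hZS, isCentralizerSystem_centralizerSystem F _ hZS,
      isSaturated_centralizerSystem hS hF hZfc (isCentralizerSystem_centralizerSystem F _ hZS)⟩
  exact key S centralizerIn_Zf.symm

/-- `Z(S)` is normal in its centralizer system. -/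
theorem isNormal_Zf {F E : FusionSystem S} (hE : ∀ P, E.Hom P = F.centralizerHom (Zf S) P) :
    E.IsNormal (Zf S) := by
  have hZS : Zf S ≤ S := inf_le_left
  refine ⟨hZS, fun P φ hφ => ?_⟩
  rw [hE P] at hφ
  obtain ⟨-, hPC, -, ψ, hψ, hext, hfix⟩ := hφ
  have hPS : P ≤ S := hPC.trans inf_le_left
  have hle : (P ⊔ Zf S) ⊔ Zf S ≤ P ⊔ Zf S := sup_le le_rfl le_sup_right
  refine ⟨ψ, ?_, hext, ?_⟩
  · rw [hE]
    have hC : ∀ {x : Ω}, x ∈ S → x ∈ centralizerIn S (Zf S) := fun hx => centralizerIn_Zf.ge hx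
    refine ⟨hψ, fun x hx => hC ((sup_le hPS hZS) hx), fun x => hC (map_mem_S F hψ x),
      ψ.comp (Subgroup.inclusion hle), restrict_mem F hψ hle, fun x => rfl, fun x => hfix x⟩
  · rw [map_subgroupOf_sup_eq_iff]
    constructor
    · intro x hx
      have e : ψ ⟨x, Subgroup.mem_sup_right hx⟩ = x := hfix ⟨x, hx⟩
      rw [e]
      exact hx
    · intro y hy
      exact ⟨y, hy, hfix ⟨y, hy⟩⟩

/-- The normalizer system of a subgroup normalized by `S`, as a system over `S`. -/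
theorem exists_norm_system [Finite S] (hS : IsPGroup p S) {F : FusionSystem S} (hF : F.IsSaturated p)
    {Q : Subgroup Ω} (hQS : Q ≤ S) (hSN : S ≤ Subgroup.normalizer (Q : Set Ω)) :
    ∃ E : FusionSystem S, (∀ P, E.Hom P = F.normalizerHom Q P) ∧ E.IsSaturated p ∧ E.IsNormal Q ∧
      E.autGroup Q = F.autGroup Q := by
  have hN : normalizerIn S Q = S := inf_eq_left.mpr hSN
  have hQn : F.IsFullyNormalized Q := ⟨hQS, fun Y _ => by
    rw [hN]
    exact Subgroup.card_le_of_le inf_le_left⟩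
  have key : ∀ T : Subgroup Ω, T = normalizerIn S Q → ∃ E : FusionSystem T,
      (∀ P, E.Hom P = F.normalizerHom Q P) ∧ E.IsSaturated p ∧ E.IsNormal Q ∧
      E.autGroup Q = F.autGroup Q := by
    rintro _ rfl
    have h := isNormalizerSystem_normalizerSystem F Q hQS
    exact ⟨normalizerSystem F Q hQS, h, isSaturated_normalizerSystem hS hF hQn h,
      isNormal_normalizerSystem h hQS, autGroup_normalizerSystem h hQS⟩
  exact key S hN.symm

/-- A centric subgroup of the centralizer system of `Z(S)` containing `Z(S)` is centric. -/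
theorem centric_of_central [Finite S] (hS : IsPGroup p S) {F E : FusionSystem S} (hF : F.IsSaturated p)
    (hE : ∀ P, E.Hom P = F.centralizerHom (Zf S) P) {R : Subgroup Ω} (hZR : Zf S ≤ R)
    (hc : E.IsCentric R) : F.IsCentric R := by
  have hRS : R ≤ S := hc.1
  refine ⟨hRS, ?_⟩
  have hZS : Zf S ≤ S := inf_le_left
  have hrec : F.IsReceptive (Zf S) := receptive_Zf hS hF
  rintro _ ⟨ρ, hρ, rfl⟩
  have hρZ := restrict_mem F hρ hZR
  obtain ⟨X₁, hX₁⟩ : ∃ X₁, X₁ = (ρ.comp (Subgroup.inclusion hZR)).range := ⟨_, rfl⟩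
  obtain ⟨κ, hκ, hκ1, hκ2, hκ3⟩ := exists_inverse F hρZ hX₁.symm
  have hκr : κ.range = Zf S := by
    ext z
    constructor
    · rintro ⟨y, rfl⟩
      exact hκ2 y
    · intro hz
      have hmem : (ρ.comp (Subgroup.inclusion hZR)) ⟨z, hz⟩ ∈ X₁ := by
        rw [hX₁]
        exact ⟨_, rfl⟩
      exact ⟨⟨_, hmem⟩, hκ1 ⟨z, hz⟩ hmem⟩
  have hX₁R : X₁ ≤ ρ.range := by
    rw [hX₁]
    rintro _ ⟨x, rfl⟩
    exact ⟨_, rfl⟩
  obtain ⟨ψ, hψ, hψext, -⟩ := receptive_map_centralizer hrec hκ hκr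
  have hle := centralizerIn_le_extender S X₁ κ
  have hRC : ∀ x : R, ρ x ∈ centralizerIn S X₁ := by
    intro x
    refine ⟨map_mem_S F hρ x, Subgroup.mem_centralizer_iff.mpr ?_⟩
    intro w hw
    rw [hX₁] at hw
    obtain ⟨z, rfl⟩ := hw
    show ρ (Subgroup.inclusion hZR z) * ρ x = ρ x * ρ (Subgroup.inclusion hZR z)
    rw [← map_mul, ← map_mul]
    congr 1
    apply Subtype.ext
    exact (mem_Zf.mp z.2).2 x (hRS x.2) |>.symm
  obtain ⟨σ, hσ, hσv⟩ := exists_comp F hρ hψ (fun x => hle (hRC x))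
  have hfix : ∀ (z : Ω) (hz : z ∈ Zf S), σ ⟨z, hZR hz⟩ = z := by
    intro z hz
    have hmem : (ρ.comp (Subgroup.inclusion hZR)) ⟨z, hz⟩ ∈ X₁ := by
      rw [hX₁]
      exact ⟨_, rfl⟩
    rw [hσv]
    have e := hψext _ hmem (hle (hRC ⟨z, hZR hz⟩))
    have e2 := hκ1 ⟨z, hz⟩ hmem
    exact e.trans e2
  have hC : ∀ {x : Ω}, x ∈ S → x ∈ centralizerIn S (Zf S) := fun hx => centralizerIn_Zf.ge hx
  have hσE : σ ∈ E.Hom R := by
    rw [hE R]
    have hsup : R ⊔ Zf S ≤ R := sup_le le_rfl hZR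
    refine ⟨hσ, fun x hx => hC (hRS hx), fun x => hC (map_mem_S F hσ x),
      σ.comp (Subgroup.inclusion hsup), restrict_mem F hσ hsup, fun x => rfl, fun x => ?_⟩
    exact hfix x x.2
  have hcen := hc.2 σ.range ⟨σ, hσE, rfl⟩
  intro c hcc
  have hcX : c ∈ centralizerIn S X₁ := by
    refine ⟨hcc.1, Subgroup.mem_centralizer_iff.mpr ?_⟩
    intro w hw
    exact Subgroup.mem_centralizer_iff.mp hcc.2 w (hX₁R hw)
  have h1 : ψ ⟨c, hle hcX⟩ ∈ centralizerIn S σ.range := by
    refine ⟨map_mem_S F hψ _, Subgroup.mem_centralizer_iff.mpr ?_⟩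
    rintro _ ⟨x, rfl⟩
    rw [hσv, ← map_mul, ← map_mul]
    congr 1
    apply Subtype.ext
    exact Subgroup.mem_centralizer_iff.mp hcc.2 _ ⟨x, rfl⟩
  obtain ⟨x, hx⟩ := hcen h1
  rw [hσv] at hx
  have h2 := F.injective_of_mem hψ hx
  have h3 : ρ x = c := congrArg (fun w : ↥(extender S X₁ κ) => (w : Ω)) h2
  exact ⟨x, h3⟩

end D

section E

variable {Ω : Type u} [Group Ω] {S : Subgroup Ω} {p : ℕ} [Fact p.Prime]

/-- The factor system by a normal subgroup, on the quotient group. -/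
theorem exists_factor_data [Finite S] (hS : IsPGroup p S) {E : FusionSystem S} (hE : E.IsSaturated p)
    {X : Subgroup Ω} (hX : E.IsNormal X) :
    ∃ (Ω' : Type u) (_ : Group Ω') (θ : S →* Ω') (Eb : FusionSystem (⊤ : Subgroup Ω')),
      E.IsFactorSystem X θ Eb ∧ E.IsSurjectiveMorphism Eb θ ∧ Eb.IsSaturated p ∧
        Function.Surjective θ ∧ Finite (⊤ : Subgroup Ω') ∧ IsPGroup p (⊤ : Subgroup Ω') ∧
        (X ≠ ⊥ → Nat.card (⊤ : Subgroup Ω') < Nat.card S) := by
  have hS₀ : E.StronglyClosed X := IsNormal.stronglyClosed hX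
  have hNQ : S ≤ Subgroup.normalizer (X : Set Ω) := StronglyClosed.le_normalizer hS₀
  have hQN : X ≤ S := hX.1
  have hQ'n : (X.subgroupOf S).Normal := by
    refine Subgroup.Normal.mk ?_
    intro x hx g
    show ((g * x * g⁻¹ : S) : Ω) ∈ X
    have hx' : (x : Ω) ∈ X := hx
    exact (Subgroup.mem_normalizer_iff.mp (hNQ g.2) x).mp hx'
  let θ : S →* S ⧸ X.subgroupOf S := QuotientGroup.mk' (X.subgroupOf S)
  have hker : ∀ s : S, θ s = 1 ↔ (s : Ω) ∈ X := by
    intro s
    exact QuotientGroup.eq_one_iff s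
  have hθs : Function.Surjective θ := QuotientGroup.mk'_surjective _
  have hrange : θ.range = ⊤ := MonoidHom.range_eq_top.mpr hθs
  obtain ⟨Eb, hEb⟩ := exists_factorSystem E hS₀ θ hker hrange
  have hsurj := isSurjectiveMorphism_of_factor hS hE hS₀ hEb
  have hEbs := isSaturated_of_surjective hS hE hsurj
  haveI hfinQ : Finite (S ⧸ X.subgroupOf S) := Quotient.finite _
  have hp' : IsPGroup p (⊤ : Subgroup (S ⧸ X.subgroupOf S)) := by
    have h0 : IsPGroup p (S ⧸ X.subgroupOf S) := hS.of_surjective (QuotientGroup.mk' _)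
      (QuotientGroup.mk'_surjective _)
    exact h0.to_subgroup _
  refine ⟨_, _, θ, Eb, hEb, hsurj, hEbs, hθs, inferInstance, hp', fun hne => ?_⟩
  have hQ'ne : X.subgroupOf S ≠ ⊥ := by
    intro h
    apply hne
    rw [Subgroup.eq_bot_iff_forall]
    intro x hx
    have : (⟨x, hQN hx⟩ : S) ∈ X.subgroupOf S := hx
    rw [h, Subgroup.mem_bot] at this
    exact congrArg Subtype.val this
  rw [Subgroup.card_top]
  have h1 := Subgroup.card_eq_card_quotient_mul_card_subgroup (X.subgroupOf S)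
  have h2 : 1 < Nat.card (X.subgroupOf S) := by
    haveI : Nontrivial (X.subgroupOf S) := (Subgroup.nontrivial_iff_ne_bot _).2 hQ'ne
    exact Finite.one_lt_card
  have h3 : 0 < Nat.card (S ⧸ X.subgroupOf S) := Nat.card_pos
  rw [h1]
  nlinarith

/-- The full preimage of a characteristic subgroup under a surjection with characteristic kernel. -/
theorem char_preimage {Ω' : Type*} [Group Ω'] {θ : S →* Ω'} (hθ : Function.Surjective θ) {X : Subgroup Ω}
    (hker : ∀ s : S, θ s = 1 ↔ (s : Ω) ∈ X) (hXc : (X.subgroupOf S).Characteristic) {Qb : Subgroup Ω'}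
    (hQb : (Qb.subgroupOf (⊤ : Subgroup Ω')).Characteristic) :
    ((preimageAlong θ Qb).subgroupOf S).Characteristic := by
  rw [Subgroup.characteristic_iff_comap_eq]
  intro σ
  have hσ : ∀ x, θ x = 1 ↔ θ (σ x) = 1 := by
    intro x
    rw [hker, hker]
    have h := (Subgroup.characteristic_iff_comap_eq.mp hXc) σ
    have h2 : x ∈ (X.subgroupOf S).comap σ.toMonoidHom ↔ x ∈ X.subgroupOf S := by rw [h]
    exact h2.symm
  obtain ⟨σb, hσb⟩ := exists_inducedAut θ hθ σ hσ
  have hmem : ∀ y : Ω', σb y ∈ Qb ↔ y ∈ Qb := by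
    intro y
    have h := (Subgroup.characteristic_iff_comap_eq.mp hQb)
      (Subgroup.topEquiv.trans (σb.trans Subgroup.topEquiv.symm))
    have h2 : (⟨y, trivial⟩ : (⊤ : Subgroup Ω')) ∈
        (Qb.subgroupOf (⊤ : Subgroup Ω')).comap
          (Subgroup.topEquiv.trans (σb.trans Subgroup.topEquiv.symm)).toMonoidHom ↔
        (⟨y, trivial⟩ : (⊤ : Subgroup Ω')) ∈ Qb.subgroupOf (⊤ : Subgroup Ω') := by rw [h]
    exact h2
  ext s
  show ((σ s : S) : Ω) ∈ preimageAlong θ Qb ↔ (s : Ω) ∈ preimageAlong θ Qb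
  rw [mem_preimageAlong, mem_preimageAlong]
  constructor
  · rintro ⟨_, h⟩
    refine ⟨s.2, ?_⟩
    have e : (⟨((σ s : S) : Ω), (σ s).2⟩ : S) = σ s := rfl
    rw [e, ← hσb] at h
    exact (hmem _).mp h
  · rintro ⟨_, h⟩
    refine ⟨(σ s).2, ?_⟩
    have e : (⟨((σ s : S) : Ω), (σ s).2⟩ : S) = σ s := rfl
    rw [e, ← hσb]
    exact (hmem _).mpr h

theorem char_Zf : ((Zf S).subgroupOf S).Characteristic := by
  rw [Subgroup.characteristic_iff_comap_eq]
  intro σ
  ext s
  show ((σ s : S) : Ω) ∈ Zf S ↔ (s : Ω) ∈ Zf S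
  rw [mem_Zf, mem_Zf]
  constructor
  · rintro ⟨_, h⟩
    refine ⟨s.2, fun t ht => ?_⟩
    have h1 := h _ (σ ⟨t, ht⟩).2
    have h2 : σ ⟨t, ht⟩ * σ s = σ s * σ ⟨t, ht⟩ := Subtype.ext h1
    rw [← map_mul, ← map_mul] at h2
    exact congrArg Subtype.val (σ.injective h2)
  · rintro ⟨_, h⟩
    refine ⟨(σ s).2, fun t ht => ?_⟩
    obtain ⟨t', ht'⟩ := σ.surjective ⟨t, ht⟩
    have e : t = ((σ t' : S) : Ω) := by rw [ht']
    rw [e]
    have h1 := h _ t'.2
    have h2 : t' * s = s * t' := Subtype.ext h1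
    have h3 : σ t' * σ s = σ s * σ t' := by rw [← map_mul, ← map_mul, h2]
    exact congrArg Subtype.val h3

theorem char_Jf : ((Jf S).subgroupOf S).Characteristic := by
  have h : (Jf S).subgroupOf S = thompsonSubgroupA ↥S :=
    Subgroup.comap_map_eq_self_of_injective (Subgroup.subtype_injective S) _
  rw [h, Subgroup.characteristic_iff_map_eq]
  intro σ
  exact thompson_map_equiv σ

theorem char_self : (S.subgroupOf S).Characteristic := by
  rw [Subgroup.subgroupOf_self]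
  infer_instance

theorem preimage_ne_bot {Ω' : Type*} [Group Ω'] {θ : S →* Ω'} (hθ : Function.Surjective θ) {Qb : Subgroup Ω'}
    (hQb : Qb ≠ ⊥) : preimageAlong θ Qb ≠ ⊥ := by
  intro h
  apply hQb
  rw [Subgroup.eq_bot_iff_forall]
  intro y hy
  obtain ⟨s, rfl⟩ := hθ y
  have h1 : (s : Ω) ∈ preimageAlong θ Qb := (mem_preimageAlong θ Qb _).mpr ⟨s.2, hy⟩
  rw [h, Subgroup.mem_bot] at h1
  have h2 : s = 1 := Subtype.ext h1
  rw [h2, map_one]

/-- `C_S(J(S)) ≤ J(S)`. -/
theorem centralizerIn_Jf_le [Finite S] : centralizerIn S (Jf S) ≤ Jf S := by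
  obtain ⟨A, hA⟩ := mabs_nonempty S
  have hAJ : A ≤ Jf S := by
    rw [Jf_eq]
    exact le_sSup hA
  intro z hz
  exact hAJ (Cfsg.Agent.Lib.ThmOFus.mem_mabs_of_comm hA hz.1
    (fun r hr => Subgroup.mem_centralizer_iff.mp hz.2 r (hAJ hr)))

end E

section Main

/-- The main statement. -/
theorem charThm (p : ℕ) [Fact p.Prime] : ∀ (n : ℕ) (Ω : Type u) [Group Ω] (S : Subgroup Ω) (_ : Finite S)
    (F : FusionSystem S), Nat.card S = n → IsPGroup p S → F.IsSaturated p → (p = 2 → NoS3c F) → CharP p F →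
    ∀ (P : Subgroup Ω) (φ : P →* Ω), φ ∈ F.Hom P → φ ∈ (innerFusionSystem S).Hom P := by
  intro n
  induction n using Nat.strong_induction_on with
  | _ n ih =>
    intro Ω _ S hfin F hn hS hF hNo hCh P φ hφ
    by_cases hbot : S = ⊥
    · have h := inner_of_autP hS hF (fun U hU => isPGroup_autGroup_bot (le_bot_iff.mp (hU.trans hbot.le))) P
      rw [h] at hφ
      exact hφ
    have hZ : Zf S ≠ ⊥ := by
      intro h0
      haveI : Nontrivial S := (Subgroup.nontrivial_iff_ne_bot S).2 hbot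
      haveI := hS.center_nontrivial
      obtain ⟨z, hz⟩ := exists_ne (1 : Subgroup.center S)
      apply hz
      apply Subtype.ext
      apply Subtype.ext
      have hzz : (z : S).1 ∈ Zf S := by
        rw [mem_Zf]
        refine ⟨(z : S).2, fun s hs => ?_⟩
        have h1 := Subgroup.mem_center_iff.mp z.2 ⟨s, hs⟩
        exact congrArg Subtype.val h1
      rw [h0, Subgroup.mem_bot] at hzz
      exact hzz
    have hSle : ∀ {Q : Subgroup Ω}, Q ≤ S → Q ≠ ⊥ → (Q.subgroupOf S).Characteristic →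
        IsPGroup p (F.autGroup Q) := fun h1 h2 h3 => hCh _ h1 h2 h3
    refine Cfsg.Agent.Lib.ThmOFus.main_all p _ _ Ω S hfin F hS hF rfl rfl (fun h => (hNo h).noS3) ?_ ?_ P φ hφ
    · -- the centralizer of the centre
      intro P φ hφ
      obtain ⟨E, hE, hEs⟩ := exists_central_system hS hF
      have hsub : ∀ (P : Subgroup Ω) (φ : P →* Ω), φ ∈ E.Hom P → φ ∈ F.Hom P := by
        intro P φ h
        rw [hE P] at h
        exact h.1
      have hZn : E.IsNormal (Zf S) := isNormal_Zf hE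
      obtain ⟨Ω', _, θ, Eb, hfac, hsurj, hEbs, hθs, hfin', hS', hlt⟩ := exists_factor_data hS hEs hZn
      have hker := hfac.2.1
      have hZS : Zf S ≤ S := inf_le_left
      have hinn := ih _ (hn ▸ hlt hZ) Ω' ⊤ hfin' Eb rfl hS' hEbs (by
        intro h2 Rb hRbc hsec
        have hc := Cfsg.Agent.Lib.FusionFactorModel.preimage_isCentric hS hEs hZn hfac hRbc
        have hZR : Zf S ≤ preimageAlong θ Rb := le_preimageAlong_of_ker hker hZS Rb
        have hcF := centric_of_central hS hF hE hZR hc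
        have h3 := sec_aut_quot hsurj hRbc.1 hsec
        exact hNo h2 _ hcF (Sec.of_injective (Subgroup.inclusion (autGroup_le_of_sub hsub hc.1))
          (Subgroup.inclusion_injective _) h3)) (by
        intro Qb hQb hne hch
        have hQS := preimageAlong_le θ Qb
        have h1 := hCh _ hQS (preimage_ne_bot hθs hne) (char_preimage hθs hker char_Zf hch)
        exact isPGroup_aut_quot hsurj hQb (h1.to_le (autGroup_le_of_sub hsub hQS)))
      have hA : AutP p Eb := autP_of_inner hS' (hom_eq_inner hinn)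
      have hY := stepD hS hEs hZn hfac hA
      have hsupS : Zf S ⊔ centralizerIn S (Zf S) = S := by
        rw [centralizerIn_Zf]
        exact sup_eq_right.mpr hZS
      rw [hsupS] at hY
      have hAS : IsPGroup p (E.autGroup S) :=
        (hCh S le_rfl hbot char_self).to_le (autGroup_le_of_sub hsub le_rfl)
      have hin := inner_of_autP hS hEs (autP_of_normal_centric hS hY inf_le_left hAS) P
      rw [← hin, hE P]
      exact hφ
    · -- the normalizer of the Thompson subgroup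
      intro P φ hφ
      have hJS : Jf S ≤ S := Jf_le S
      have hJne : Jf S ≠ ⊥ := fun h0 => hZ (le_bot_iff.mp (Zf_le_Jf.trans h0.le))
      have hSN : S ≤ Subgroup.normalizer (Jf S : Set Ω) := by
        have := (normalizerIn_Jf_self (S := S)).ge
        exact this.trans inf_le_right
      obtain ⟨E, hE, hEs, hJn, hJA⟩ := exists_norm_system hS hF hJS hSN
      have hAJ : IsPGroup p (E.autGroup (Jf S)) := by
        rw [hJA]
        exact hCh _ hJS hJne char_Jf
      have hin := inner_of_autP hS hEs (autP_of_normal_centric hS hJn centralizerIn_Jf_le hAJ) P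
      rw [← hin, hE P]
      exact hφ

end Main

section Wrap

variable {Ω : Type u} [Group Ω] {S : Subgroup Ω} {p : ℕ} [Fact p.Prime]

/-- Final form of the criterion. -/
theorem inner_of_char [Finite S] (hS : IsPGroup p S) {F : FusionSystem S} (hF : F.IsSaturated p)
    (hp : p ≠ 2 ∨ F.IsSectionFree p (Equiv.Perm (Fin 4))) (h : CharP p F) (P : Subgroup Ω) :
    F.Hom P = (innerFusionSystem S).Hom P := by
  refine hom_eq_inner (charThm p _ Ω S ‹_› F rfl hS hF (fun h2 => ?_) h) P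
  rcases hp with hp | hp
  · exact absurd h2 hp
  · exact noS3c_of_free hS hF h2 hp

theorem normalizer_of_char {Ω' : Type*} [Group Ω'] {Qb : Subgroup Ω'}
    (hQb : (Qb.subgroupOf (⊤ : Subgroup Ω')).Characteristic) (g : Ω') :
    g ∈ Subgroup.normalizer (Qb : Set Ω') := by
  haveI hn : (Qb.subgroupOf (⊤ : Subgroup Ω')).Normal := Subgroup.normal_of_characteristic _
  have key : ∀ (g y : Ω'), y ∈ Qb → g * y * g⁻¹ ∈ Qb := by
    intro g y hy
    have h1 : (⟨y, trivial⟩ : (⊤ : Subgroup Ω')) ∈ Qb.subgroupOf (⊤ : Subgroup Ω') := hy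
    exact hn.conj_mem _ h1 ⟨g, trivial⟩
  rw [Subgroup.mem_normalizer_iff]
  intro y
  refine ⟨key g y, fun h => ?_⟩
  have := key g⁻¹ _ h
  have e : g⁻¹ * (g * y * g⁻¹) * g⁻¹⁻¹ = y := by group
  rwa [e] at this

/-- The sparse case. -/
theorem constrained_of_sparse [Finite S] (hS : IsPGroup p S) {F : FusionSystem S} (hF : F.IsSaturated p)
    (hsp : ∀ E : FusionSystem S, E.IsSaturated p → E.IsSubsystemOf F →
      (∀ P, E.Hom P = F.Hom P) ∨ (∀ P, E.Hom P = (innerFusionSystem S).Hom P))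
    (hp : p ≠ 2 ∨ F.IsSectionFree p (Equiv.Perm (Fin 4))) : F.IsConstrained p := by
  have hXn := isNormal_core F
  obtain ⟨Ω', _, θ, Eb, hfac, hsurj, hEbs, hθs, hfin', hS', -⟩ := exists_factor_data hS hF hXn
  have hker := hfac.2.1
  have hNo : p = 2 → NoS3c F := by
    intro h2
    rcases hp with hp | hp
    · exact absurd h2 hp
    · exact noS3c_of_free hS hF h2 hp
  have hinn := charThm p _ Ω' ⊤ hfin' Eb rfl hS' hEbs (by
    intro h2 Rb hRbc hsec
    have hc := Cfsg.Agent.Lib.FusionFactorModel.preimage_isCentric hS hF hXn hfac hRbc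
    exact hNo h2 _ hc (sec_aut_quot hsurj hRbc.1 hsec)) (by
    intro Qb hQb hne hch
    have hQS := preimageAlong_le θ Qb
    have hSN : S ≤ Subgroup.normalizer (preimageAlong θ Qb : Set Ω) := fun s hs =>
      mem_normalizer_lift θ (s := ⟨s, hs⟩) (normalizer_of_char hch _)
    obtain ⟨E, hE, hEs, hQn, hQA⟩ := exists_norm_system hS hF hQS hSN
    rcases hsp E hEs (fun P φ h => by
      rw [hE P] at h
      exact h.1) with he | he
    · exfalso
      have hQF : F.IsNormal (preimageAlong θ Qb) := by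
        refine ⟨hQS, fun P φ hφ => ?_⟩
        rw [← he P] at hφ
        obtain ⟨ψ, hψ, a, b⟩ := hQn.2 P φ hφ
        exact ⟨ψ, by rw [← he]; exact hψ, a, b⟩
      have hle := IsNormal.le_core hQF
      apply hne
      rw [Subgroup.eq_bot_iff_forall]
      intro y hy
      obtain ⟨s, rfl⟩ := hθs y
      exact (hker s).mpr (hle ((mem_preimageAlong θ Qb _).mpr ⟨s.2, hy⟩))
    · have hA := autP_of_inner hS he _ hQn.1
      rw [hQA] at hA
      exact isPGroup_aut_quot hsurj hQb hA)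
  have hA : AutP p Eb := autP_of_inner hS' (hom_eq_inner hinn)
  have hY := stepD hS hF hXn hfac hA
  have hle : F.core ⊔ centralizerIn S F.core ≤ F.core := IsNormal.le_core hY
  exact ⟨hF, F.core, hXn, isCentric_of_centralizer_le hXn (le_sup_right.trans hle)⟩

end Wrap

end Cfsg.Agent.Lib.ThmOChar
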