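import Cfsg.Agent.Lib.ThmOBase
import Cfsg.Agent.Lib.CoprimeSylow

/-!
Consequences of the normal complement: cosets, rank one of the abelian subgroups of `T / Q`,
and the descent to elements acting with a hyperplane of fixed points.
-/

set_option autoImplicit false

universe u

namespace Cfsg.Agent.Lib.ThmOCyc

open Cfsg Cfsg.Agent.Lib.ThmOBase

section K1

variable {L : Type*} [Group L] [Finite L] {p : ℕ} [hp : Fact p.Prime]

/-- An element of `T ∖ Q` acting trivially on `K C / C` forces `K ≤ C`. -/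
theorem K1 (Q T K C : Subgroup L) (hQ : Q.Normal) (hQT : Q ≤ T)
    (hTI : ∀ R : Subgroup L, Q < R → R ≤ T → Subgroup.normalizer (R : Set L) ≤ T)
    (hTp : IsPGroup p T) (hTi : ¬ p ∣ T.index) (hK : K.Normal) (hKT : K ⊓ T = Q)
    (hpow : ∀ k ∈ K, k ^ T.index ∈ Q) (hC : C.Normal) (hQC : Q ≤ C) {a : L} (haT : a ∈ T) (haQ : a ∉ Q)
    (h : ∀ k ∈ K, k * a * k⁻¹ * a⁻¹ ∈ C) : K ≤ C := by
  haveI := hQ
  let π := QuotientGroup.mk' Q
  have hπs : Function.Surjective π := QuotientGroup.mk'_surjective Q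
  have hπq : ∀ x, π x = 1 ↔ x ∈ Q := fun x => by
    show (QuotientGroup.mk x : L ⧸ Q) = 1 ↔ _
    exact QuotientGroup.eq_one_iff x
  let N := (C ⊓ K).map π
  haveI hCK : (C ⊓ K).Normal := by
    haveI := hC
    haveI := hK
    infer_instance
  haveI hNn : N.Normal := hCK.map π hπs
  have hNc : ¬ p ∣ Nat.card N := by
    intro hdvd
    obtain ⟨y, hy⟩ := exists_prime_orderOf_dvd_card' p hdvd
    obtain ⟨k, hk, hke⟩ := y.2
    have h1 : π (k ^ T.index) = 1 := (hπq _).mpr (hpow k hk.2)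
    have h2 : y ^ T.index = 1 := by
      apply Subtype.ext
      rw [Subgroup.coe_pow, ← hke, ← map_pow, h1]
      rfl
    have h3 := orderOf_dvd_of_pow_eq_one h2
    rw [hy] at h3
    exact hTi h3
  obtain ⟨n, hn⟩ := hTp ⟨a, haT⟩
  have han : a ^ p ^ n = 1 := by
    simpa using congrArg (fun t : ↥T => (t : L)) hn
  have hπa : (π a) ^ p ^ n = 1 := by rw [← map_pow, han, map_one]
  intro k hk
  have hs : (π k)⁻¹ * (π a * π k * (π a)⁻¹) ∈ N := by
    refine ⟨k⁻¹ * (a * k * a⁻¹), ⟨?_, ?_⟩, by simp⟩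
    · have h1 := h k⁻¹ (K.inv_mem hk)
      simpa [mul_assoc] using h1
    · have h1 : a * k * a⁻¹ ∈ K := hK.conj_mem k hk a
      exact K.mul_mem (K.inv_mem hk) h1
  obtain ⟨c, hc, hce⟩ := fixed_coset N hNc (π a) hπa (π k) hs
  obtain ⟨c₀, hc₀, rfl⟩ := hc
  have h3 : π (a * (k * c₀) * a⁻¹) = π (k * c₀) := by
    simpa only [map_mul, map_inv] using hce
  have h4 : (k * c₀) * a * (k * c₀)⁻¹ * a⁻¹ ∈ Q := by
    rw [← hπq]
    have h5 : π (k * c₀) * π a * (π (k * c₀))⁻¹ * (π a)⁻¹ = 1 := by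
      have h6 : π a * π (k * c₀) * (π a)⁻¹ = π (k * c₀) := by
        simpa only [map_mul, map_inv] using h3
      rw [mul_inv_eq_iff_eq_mul] at h6
      rw [← h6]
      group
    simpa only [map_mul, map_inv] using h5
  have h7 : k * c₀ ∈ T := mem_of_comm_mod Q T hQ hQT hTI haT haQ h4
  have h8 : k * c₀ ∈ K := K.mul_mem hk hc₀.2
  have h9 : k * c₀ ∈ Q := by
    rw [← hKT]
    exact ⟨h8, h7⟩
  have h10 : k = (k * c₀) * c₀⁻¹ := by group
  rw [h10]
  exact C.mul_mem (hQC h9) (C.inv_mem hc₀.1)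

end K1

section Rank2

variable {Z : Type*} [CommGroup Z] {p : ℕ} [hp : Fact p.Prime]

/-- The norm of an automorphism with `f^p = 1` without fixed points is trivial. -/
theorem norm_trivial (f : Z →* Z) (hf : ∀ v, f^[p] v = v) (hfix : ∀ v, f v = v → v = 1) (w : Z) :
    ∏ i ∈ Finset.range p, f^[i] w = 1 := by
  apply hfix
  rw [map_prod]
  have h1 : ∀ i, f (f^[i] w) = f^[i + 1] w := fun i => (Function.iterate_succ_apply' f i w).symm
  simp_rw [h1]
  have hp0 : 0 < p := (Fact.out : p.Prime).pos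
  obtain ⟨q, rfl⟩ : ∃ q, p = q + 1 := ⟨p - 1, by omega⟩
  rw [Finset.prod_range_succ, Finset.prod_range_succ' (fun i => f^[i] w), hf]
  rfl

theorem iter_reduce (β : Z →* Z) (hβ : ∀ v, β^[p] v = v) (n : ℕ) (w : Z) : β^[n] w = β^[n % p] w := by
  conv_lhs => rw [← Nat.mod_add_div n p]
  rw [Function.iterate_add_apply, Function.iterate_mul]
  have h1 : ∀ m : ℕ, (β^[p])^[m] w = w := by
    intro m
    exact Function.iterate_fixed (hβ w) m
  rw [h1]

theorem _root_.Nat.thmOCyc_gcd_eq_one {p i : ℕ} (hp : p.Prime) (hi : i < p) (h0 : i ≠ 0) : Nat.gcd p i = 1 :=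
  (Nat.Prime.coprime_iff_not_dvd hp).mpr (fun h => h0 (Nat.eq_zero_of_dvd_of_lt h hi))

theorem rank2_abelian (α β : Z →* Z) (hc : ∀ v, α (β v) = β (α v)) (hα : ∀ v, α^[p] v = v)
    (hβ : ∀ v, β^[p] v = v) (h1 : ∀ (j : ℕ) (v : Z), α (β^[j] v) = v → v = 1)
    (h2 : ∀ v, β v = v → v = 1) (w : Z) : w ^ p = 1 := by
  classical
  have hpp : p.Prime := Fact.out
  -- powers of the composite
  have hcomm : ∀ (j : ℕ) (v : Z), α (β^[j] v) = β^[j] (α v) := by
    intro j
    induction j with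
    | zero => intro v; rfl
    | succ j ih =>
      intro v
      rw [Function.iterate_succ_apply', Function.iterate_succ_apply', hc, ih]
  let f : ℕ → (Z →* Z) := fun j =>
    { toFun := fun v => α (β^[j] v)
      map_one' := by rw [iterate_map_one, map_one]
      map_mul' := fun a b => by rw [iterate_map_mul, map_mul] }
  have hfapply : ∀ j v, f j v = α (β^[j] v) := fun _ _ => rfl
  have hfpow : ∀ (j i : ℕ) (v : Z), (f j)^[i] v = α^[i] (β^[i * j] v) := by
    intro j i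
    induction i with
    | zero => intro v; simp
    | succ i ih =>
      intro v
      rw [Function.iterate_succ_apply', ih, hfapply]
      have h3 : β^[j] (α^[i] (β^[i * j] v)) = α^[i] (β^[j] (β^[i * j] v)) := by
        have : ∀ (k : ℕ) (u : Z), β^[j] (α^[k] u) = α^[k] (β^[j] u) := by
          intro k
          induction k with
          | zero => intro u; rfl
          | succ k ihk =>
            intro u
            rw [Function.iterate_succ_apply', Function.iterate_succ_apply', ← hcomm, ihk]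
        exact this _ _
      rw [h3, ← Function.iterate_succ_apply' α i, ← Function.iterate_add_apply]
      congr 2
      ring
  have hfinv : ∀ j v, (f j)^[p] v = v := by
    intro j v
    rw [hfpow, iter_reduce β hβ, Nat.mul_mod_right, Function.iterate_zero, id_eq, hα]
  have hnorm : ∀ j, ∏ i ∈ Finset.range p, α^[i] (β^[i * j] w) = 1 := by
    intro j
    have := norm_trivial (f j) (hfinv j) (h1 j) w
    simpa only [hfpow] using this
  have hβnorm : ∏ j ∈ Finset.range p, β^[j] w = 1 := norm_trivial β hβ h2 w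
  have htotal : ∏ j ∈ Finset.range p, ∏ i ∈ Finset.range p, α^[i] (β^[i * j] w) = 1 :=
    Finset.prod_eq_one fun j _ => hnorm j
  rw [Finset.prod_comm] at htotal
  have hmapprod : ∀ (i : ℕ) (F : ℕ → Z), α^[i] (∏ j ∈ Finset.range p, F j) = ∏ j ∈ Finset.range p, α^[i] (F j) := by
    intro i
    induction i with
    | zero => intro F; rfl
    | succ i ih =>
      intro F
      rw [Function.iterate_succ_apply', ih, map_prod]
      exact Finset.prod_congr rfl fun j _ => (Function.iterate_succ_apply' α i (F j)).symm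
  have hinner : ∀ i ∈ Finset.range p, i ≠ 0 → ∏ j ∈ Finset.range p, α^[i] (β^[i * j] w) = 1 := by
    intro i hi hi0
    have hi' : i < p := Finset.mem_range.mp hi
    have hcop : Nat.gcd p i = 1 := by
      exact (Nat.thmOCyc_gcd_eq_one hpp hi' hi0)
    rw [← hmapprod]
    have h5 : ∏ j ∈ Finset.range p, β^[i * j] w = 1 := by
      rw [← hβnorm]
      let m : ℕ → ℕ := fun j => (i * j) % p
      have hinj : Set.InjOn m (Finset.range p : Set ℕ) := by
        intro j hj j' hj' he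
        have h6 : i * j ≡ i * j' [MOD p] := he
        have h7 := Nat.ModEq.cancel_left_of_coprime hcop h6
        exact Nat.ModEq.eq_of_lt_of_lt h7 (Finset.mem_range.mp hj) (Finset.mem_range.mp hj')
      have himg : (Finset.range p).image m = Finset.range p := by
        apply Finset.eq_of_subset_of_card_le
        · intro c hc
          obtain ⟨j, _, rfl⟩ := Finset.mem_image.mp hc
          exact Finset.mem_range.mpr (Nat.mod_lt _ hpp.pos)
        · rw [Finset.card_image_of_injOn hinj]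
      conv_rhs => rw [← himg]
      rw [Finset.prod_image hinj]
      exact Finset.prod_congr rfl fun j _ => iter_reduce β hβ _ w
    rw [h5, iterate_map_one]
  rw [Finset.prod_eq_single_of_mem 0 (Finset.mem_range.mpr hpp.pos) hinner] at htotal
  simpa using htotal

end Rank2

section NoRank2

variable {X : Type*} [Group X] [Finite X] {p : ℕ} [hp : Fact p.Prime]

theorem no_rank2 (E N : Subgroup X) (hEp : IsPGroup p E) (hN : N.Normal) (hN1 : N ≠ ⊥) (hNc : ¬ p ∣ Nat.card N)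
    (hfp : ∀ f ∈ E, f ≠ 1 → ∀ k ∈ N, f * k * f⁻¹ = k → k = 1) {x y : X} (hxE : x ∈ E) (hyE : y ∈ E)
    (hx : x ^ p = 1) (hy : y ^ p = 1) (hxy : Commute x y) (hx1 : x ≠ 1) : y ∈ Subgroup.zpowers x := by
  classical
  by_contra hyx
  have hpp : p.Prime := Fact.out
  have hNc1 : Nat.card N ≠ 1 := by
    intro h
    exact hN1 (Subgroup.card_eq_one.mp h)
  obtain ⟨r, hr, hrd⟩ := Nat.exists_prime_and_dvd hNc1
  haveI : Fact r.Prime := ⟨hr⟩
  have hrp : r ≠ p := by
    rintro rfl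
    exact hNc hrd
  obtain ⟨R, -, hRN, hRr, hRc, hRinv⟩ := Cfsg.Agent.Lib.CoprimeSylow.exists_invariant_sylow_ge (r := r) E N ⊥ hEp hNc
    (fun a _ l hl => hN.conj_mem l hl a) bot_le IsPGroup.of_bot (by
      intro a _ x hx
      rw [Subgroup.mem_bot] at hx ⊢
      rw [hx]; simp)
  have hRne : Nontrivial ↥R := by
    have h1 : 1 ≤ (Nat.card N).factorization r :=
      (hr.dvd_iff_one_le_factorization Nat.card_pos.ne').mp hrd
    have h2 : 1 < Nat.card R := by
      rw [hRc]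
      exact Nat.one_lt_pow (by omega) hr.one_lt
    exact Finite.one_lt_card_iff_nontrivial.mp h2
  haveI := hRne
  haveI := hRr.center_nontrivial
  obtain ⟨w₀, hw₀⟩ := exists_ne (1 : ↥(Subgroup.center ↥R))
  let Zr : Subgroup X := R ⊓ Subgroup.centralizer (R : Set X)
  have hw₁ : ((w₀ : ↥R) : X) ∈ Zr := by
    refine ⟨(w₀ : ↥R).2, ?_⟩
    show ((w₀ : ↥R) : X) ∈ Subgroup.centralizer _
    rw [Subgroup.mem_centralizer_iff]
    intro h hh
    have := Subgroup.mem_center_iff.mp w₀.2 ⟨h, hh⟩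
    exact congrArg Subtype.val this
  have hZmem : ∀ f ∈ E, ∀ u ∈ Zr, f * u * f⁻¹ ∈ Zr := by
    intro f hf u hu
    refine ⟨hRinv f hf u hu.1, ?_⟩
    show f * u * f⁻¹ ∈ Subgroup.centralizer _
    rw [Subgroup.mem_centralizer_iff]
    intro h hh
    have h1 : f⁻¹ * h * f ∈ R := by
      have := hRinv f⁻¹ (E.inv_mem hf) h hh
      simpa using this
    have h2 := Subgroup.mem_centralizer_iff.mp hu.2 _ h1
    calc h * (f * u * f⁻¹) = f * ((f⁻¹ * h * f) * u) * f⁻¹ := by group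
      _ = f * (u * (f⁻¹ * h * f)) * f⁻¹ := by rw [h2]
      _ = f * u * f⁻¹ * h := by group
  letI instZ : CommGroup ↥Zr := { (inferInstance : Group ↥Zr) with
    mul_comm := fun a b => Subtype.ext (Subgroup.mem_centralizer_iff.mp b.2.2 a a.2.1) }
  let cj : (f : X) → f ∈ E → (↥Zr →* ↥Zr) := fun f hf =>
    { toFun := fun v => ⟨f * v * f⁻¹, hZmem f hf v v.2⟩
      map_one' := Subtype.ext (by simp)
      map_mul' := fun a b => Subtype.ext (by simp [mul_assoc]) }
  have cj_coe : ∀ (f : X) (hf : f ∈ E) (v : ↥Zr), ((cj f hf v : ↥Zr) : X) = f * v * f⁻¹ := fun _ _ _ => rfl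
  have cj_iter : ∀ (f : X) (hf : f ∈ E) (v : ↥Zr) (k : ℕ), (((cj f hf)^[k] v : ↥Zr) : X) = f ^ k * v * (f ^ k)⁻¹ := by
    intro f hf v k
    induction k with
    | zero => simp
    | succ k ih =>
      rw [Function.iterate_succ_apply', cj_coe f hf, ih, pow_succ']
      simp [mul_assoc]
  have hα : ∀ v, (cj x hxE)^[p] v = v := fun v => Subtype.ext (by rw [cj_iter x hxE, hx]; simp)
  have hβ : ∀ v, (cj y hyE)^[p] v = v := fun v => Subtype.ext (by rw [cj_iter y hyE, hy]; simp)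
  have hZN : ∀ v : ↥Zr, (v : X) ∈ N := fun v => hRN v.2.1
  have hy1 : y ≠ 1 := by
    intro h
    apply hyx
    rw [h]
    exact Subgroup.one_mem _
  have hne : ∀ j : ℕ, x * y ^ j ≠ 1 := by
    intro j he
    have hxe : x = (y ^ j)⁻¹ := eq_inv_of_mul_eq_one_left he
    by_cases hd : p ∣ j
    · obtain ⟨c, rfl⟩ := hd
      apply hx1
      rw [hxe, pow_mul, hy, one_pow, inv_one]
    · have hcop : Nat.Coprime j p := ((Nat.Prime.coprime_iff_not_dvd hpp).mpr hd).symm
      obtain ⟨u, hu⟩ := Nat.exists_mul_mod_eq_one_of_coprime hcop hpp.one_lt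
      apply hyx
      have h1 : y = (y ^ j) ^ u := by
        rw [← pow_mul, pow_eq_pow_mod (j * u) hy, hu.2, pow_one]
      have h2 : y ^ j = x⁻¹ := by rw [hxe, inv_inv]
      rw [h1, h2]
      exact Subgroup.pow_mem _ (Subgroup.inv_mem _ (Subgroup.mem_zpowers x)) _
  have hc' : ∀ v, cj x hxE (cj y hyE v) = cj y hyE (cj x hxE v) := by
    intro v
    apply Subtype.ext
    simp only [cj_coe]
    have h3 : x * (y * (v : X) * y⁻¹) * x⁻¹ = (x * y) * v * (x * y)⁻¹ := by group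
    have h4 : y * (x * (v : X) * x⁻¹) * y⁻¹ = (y * x) * v * (y * x)⁻¹ := by group
    rw [h3, h4, hxy.eq]
  have h1' : ∀ (j : ℕ) (v : ↥Zr), cj x hxE ((cj y hyE)^[j] v) = v → v = 1 := by
    intro j v hv
    have h3 : ((cj x hxE ((cj y hyE)^[j] v) : ↥Zr) : X) = (x * y ^ j) * v * (x * y ^ j)⁻¹ := by
      rw [cj_coe x hxE, cj_iter y hyE]
      group
    have h4 : (x * y ^ j) * v * (x * y ^ j)⁻¹ = v := by
      rw [← h3, hv]
    have h5 := hfp (x * y ^ j) (E.mul_mem hxE (E.pow_mem hyE j)) (hne j) v (hZN v) h4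
    exact Subtype.ext h5
  have h2' : ∀ v : ↥Zr, cj y hyE v = v → v = 1 := by
    intro v hv
    have h4 : y * v * y⁻¹ = v := congrArg Subtype.val hv
    exact Subtype.ext (hfp y hyE hy1 v (hZN v) h4)
  have hfin := rank2_abelian (cj x hxE) (cj y hyE) hc' hα hβ h1' h2' ⟨_, hw₁⟩
  have h5 : ((w₀ : ↥R) : X) ^ p = 1 := by
    have := congrArg Subtype.val hfin
    simpa using this
  obtain ⟨n, hn⟩ := hRr (w₀ : ↥R)
  have h6 : ((w₀ : ↥R) : X) ^ r ^ n = 1 := by
    have := congrArg Subtype.val hn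
    simpa using this
  have h7 : orderOf ((w₀ : ↥R) : X) ∣ 1 := by
    have h8 := Nat.dvd_gcd (orderOf_dvd_of_pow_eq_one h5) (orderOf_dvd_of_pow_eq_one h6)
    have h9 : Nat.gcd p (r ^ n) = 1 :=
      Nat.Coprime.pow_right n ((Nat.coprime_primes hpp hr).mpr (Ne.symm hrp))
    rwa [h9] at h8
  have h10 : ((w₀ : ↥R) : X) = 1 := orderOf_eq_one_iff.mp (Nat.dvd_one.mp h7)
  apply hw₀
  exact Subtype.ext (Subtype.ext h10)

theorem exists_gen (E : Subgroup X) (hEp : IsPGroup p E) (hab : ∀ a ∈ E, ∀ b ∈ E, a * b = b * a)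
    (hrank : ∀ x ∈ E, ∀ y ∈ E, x ^ p = 1 → y ^ p = 1 → x ≠ 1 → y ∈ Subgroup.zpowers x) :
    ∃ a ∈ E, ∀ b ∈ E, b ∈ Subgroup.zpowers a := by
  classical
  have hpp : p.Prime := Fact.out
  -- element of largest order
  obtain ⟨a₀, ha₀⟩ := Finite.exists_max (fun e : ↥E => orderOf (e : X))
  refine ⟨a₀, a₀.2, ?_⟩
  set a : X := (a₀ : X) with hadef
  have haE : a ∈ E := a₀.2
  have hordp : ∀ e ∈ E, ∃ l, orderOf e = p ^ l := by
    intro e he
    obtain ⟨l, hl⟩ := hEp ⟨e, he⟩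
    have h1 : e ^ p ^ l = 1 := by
      have := congrArg Subtype.val hl
      simpa using this
    obtain ⟨m, _, hm⟩ := (Nat.dvd_prime_pow hpp).mp (orderOf_dvd_of_pow_eq_one h1)
    exact ⟨m, hm⟩
  obtain ⟨k, hk⟩ := hordp a haE
  have hexp : ∀ e ∈ E, e ^ p ^ k = 1 := by
    intro e he
    obtain ⟨l, hl⟩ := hordp e he
    have h1 : orderOf e ≤ orderOf a := ha₀ ⟨e, he⟩
    rw [hl, hk] at h1
    have h2 : l ≤ k := (Nat.pow_le_pow_iff_right hpp.one_lt).mp h1
    have h3 : orderOf e ∣ p ^ k := by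
      rw [hl]
      exact pow_dvd_pow p h2
    exact orderOf_dvd_iff_pow_eq_one.mp h3
  by_contra hno
  push Not at hno
  -- a counterexample of smallest order
  let Cx := {b : ↥E // (b : X) ∉ Subgroup.zpowers a}
  obtain ⟨b₁, hb₁⟩ := hno
  haveI : Nonempty Cx := ⟨⟨⟨b₁, hb₁.1⟩, hb₁.2⟩⟩
  obtain ⟨b₀, hb₀⟩ := Finite.exists_min (fun e : Cx => orderOf ((e.1 : ↥E) : X))
  set b : X := ((b₀.1 : ↥E) : X) with hbdef
  have hbE : b ∈ E := b₀.1.2
  have hbn : b ∉ Subgroup.zpowers a := b₀.2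
  obtain ⟨l, hl⟩ := hordp b hbE
  have hl0 : l ≠ 0 := by
    rintro rfl
    rw [pow_zero, orderOf_eq_one_iff] at hl
    apply hbn
    rw [hl]
    exact Subgroup.one_mem _
  have hbp : b ^ p ∈ Subgroup.zpowers a := by
    by_contra hne
    have h1 : orderOf b ≤ orderOf (b ^ p) := hb₀ ⟨⟨b ^ p, E.pow_mem hbE p⟩, hne⟩
    have hdvd : p ∣ orderOf b := by
      rw [hl]
      exact dvd_pow_self p hl0
    rw [orderOf_pow_of_dvd hpp.ne_zero hdvd] at h1
    have h3 : orderOf b / p < orderOf b := Nat.div_lt_self (orderOf_pos b) hpp.one_lt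
    omega
  have hk0 : k ≠ 0 := by
    rintro rfl
    have := hexp b hbE
    simp only [pow_zero, pow_one] at this
    apply hbn
    rw [this]
    exact Subgroup.one_mem _
  obtain ⟨k', rfl⟩ : ∃ k', k = k' + 1 := ⟨k - 1, by omega⟩
  obtain ⟨i, hi⟩ := (mem_powers_iff_mem_zpowers.mpr hbp : b ^ p ∈ Submonoid.powers a)
  have h2 : (a ^ i) ^ p ^ k' = 1 := by
    have h3 : (a ^ i) = b ^ p := hi
    rw [h3, ← pow_mul, ← pow_succ']
    exact hexp b hbE
  have h4 : p ^ (k' + 1) ∣ i * p ^ k' := by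
    rw [← hk]
    apply orderOf_dvd_of_pow_eq_one
    rwa [pow_mul]
  have h5 : p ∣ i := by
    rw [pow_succ'] at h4
    exact Nat.dvd_of_mul_dvd_mul_right (pow_pos hpp.pos k') h4
  obtain ⟨i', rfl⟩ := h5
  set c := b * (a ^ i')⁻¹ with hc
  have hcE : c ∈ E := E.mul_mem hbE (E.inv_mem (E.pow_mem haE i'))
  have hcomm : Commute b (a ^ i')⁻¹ := hab _ hbE _ (E.inv_mem (E.pow_mem haE i'))
  have hcp : c ^ p = 1 := by
    have hi' : a ^ (p * i') = b ^ p := hi
    rw [hc, hcomm.mul_pow, inv_pow, ← pow_mul, mul_comm i' p, hi', mul_inv_cancel]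
  have ha₁E : a ^ p ^ k' ∈ E := E.pow_mem haE _
  have ha₁p : (a ^ p ^ k') ^ p = 1 := by
    rw [← pow_mul, ← pow_succ]
    exact hexp a haE
  have ha₁ne : a ^ p ^ k' ≠ 1 := by
    intro h
    have h6 := orderOf_dvd_of_pow_eq_one h
    rw [hk] at h6
    have h7 := Nat.pow_dvd_pow_iff_le_right hpp.one_lt |>.mp h6
    omega
  have hcz := hrank _ ha₁E _ hcE ha₁p hcp ha₁ne
  have hcz' : c ∈ Subgroup.zpowers a := by
    obtain ⟨m, hm⟩ := Subgroup.mem_zpowers_iff.mp hcz
    rw [← hm]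
    exact Subgroup.zpow_mem _ (Subgroup.pow_mem _ (Subgroup.mem_zpowers a) _) _
  apply hbn
  have h8 : b = c * a ^ i' := by rw [hc]; group
  rw [h8]
  exact Subgroup.mul_mem _ hcz' (Subgroup.pow_mem _ (Subgroup.mem_zpowers a) _)

end NoRank2

section Descent

variable {L : Type*} [Group L] [Finite L] {p : ℕ} [hp : Fact p.Prime]

/-- A `p`-element acting nontrivially on an elementary abelian group has a vector moved by a fixed vector. -/
theorem exists_moved (V : Subgroup L) (hVab : ∀ a ∈ V, ∀ b ∈ V, a * b = b * a) (hVexp : ∀ v ∈ V, v ^ p = 1)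
    (b : L) (hbN : ∀ v ∈ V, b * v * b⁻¹ ∈ V) {n : ℕ} (hb : b ^ p ^ n = 1) (hne : ∃ v ∈ V, b * v * b⁻¹ ≠ v) :
    ∃ v ∈ V, b * v * b⁻¹ * v⁻¹ ≠ 1 ∧ b * (b * v * b⁻¹ * v⁻¹) * b⁻¹ = b * v * b⁻¹ * v⁻¹ := by
  classical
  have hpp : p.Prime := Fact.out
  let U : Subgroup L :=
    { carrier := {w | ∃ v ∈ V, w = b * v * b⁻¹ * v⁻¹}
      one_mem' := ⟨1, V.one_mem, by simp⟩
      mul_mem' := by
        rintro _ _ ⟨v, hv, rfl⟩ ⟨v', hv', rfl⟩
        refine ⟨v * v', V.mul_mem hv hv', ?_⟩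
        have h1 := hVab _ (V.inv_mem hv) _ (hbN v' hv')
        have h2 := hVab _ (V.inv_mem hv) _ (V.inv_mem hv')
        calc b * v * b⁻¹ * v⁻¹ * (b * v' * b⁻¹ * v'⁻¹) = b * v * b⁻¹ * (v⁻¹ * (b * v' * b⁻¹)) * v'⁻¹ := by group
          _ = b * v * b⁻¹ * ((b * v' * b⁻¹) * v⁻¹) * v'⁻¹ := by rw [h1]
          _ = b * (v * v') * b⁻¹ * (v⁻¹ * v'⁻¹) := by group
          _ = b * (v * v') * b⁻¹ * (v'⁻¹ * v⁻¹) := by rw [h2]
          _ = b * (v * v') * b⁻¹ * (v * v')⁻¹ := by group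
      inv_mem' := by
        rintro _ ⟨v, hv, rfl⟩
        refine ⟨v⁻¹, V.inv_mem hv, ?_⟩
        have h1 := hVab _ (hbN v hv) _ (V.inv_mem hv)
        have h2 : (b * v * b⁻¹ * v⁻¹)⁻¹ = v * (b * v⁻¹ * b⁻¹) := by group
        rw [h2]
        have h3 := hVab _ hv _ (hbN _ (V.inv_mem hv))
        rw [h3]
        group }
  have hUV : U ≤ V := by
    rintro _ ⟨v, hv, rfl⟩
    exact V.mul_mem (hbN v hv) (V.inv_mem hv)
  have hUp : IsPGroup p U := by
    rintro ⟨w, hw⟩
    refine ⟨1, Subtype.ext ?_⟩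
    show w ^ p ^ 1 = 1
    rw [pow_one]
    exact hVexp w (hUV hw)
  have hzb := isPGroup_zpowers_of_pow (p := p) hb
  have hUinv : ∀ a ∈ Subgroup.zpowers b, ∀ l ∈ U, a * l * a⁻¹ ∈ U := by
    rintro a ha _ ⟨v, hv, rfl⟩
    obtain ⟨m, rfl⟩ := (mem_powers_iff_mem_zpowers.mpr ha : a ∈ Submonoid.powers b)
    have hzN : ∀ (m : ℕ), ∀ u ∈ V, b ^ m * u * (b ^ m)⁻¹ ∈ V := by
      intro m
      induction m with
      | zero => intro u hu; simpa using hu
      | succ m ih =>
        intro u hu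
        have h1 := hbN _ (ih u hu)
        have h2 : b ^ (m + 1) * u * (b ^ (m + 1))⁻¹ = b * (b ^ m * u * (b ^ m)⁻¹) * b⁻¹ := by
          rw [pow_succ']
          group
        rw [h2]
        exact h1
    refine ⟨_, hzN m v hv, ?_⟩
    show b ^ m * (b * v * b⁻¹ * v⁻¹) * (b ^ m)⁻¹ = b * (b ^ m * v * (b ^ m)⁻¹) * b⁻¹ * (b ^ m * v * (b ^ m)⁻¹)⁻¹
    have hc : b ^ m * b = b * b ^ m := ((Commute.refl b).pow_left m).eq
    generalize b ^ m = a at hc
    have h1 : b⁻¹ * a = a * b⁻¹ := by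
      rw [inv_mul_eq_iff_eq_mul, ← mul_assoc, ← hc, mul_assoc, mul_inv_cancel, mul_one]
    calc a * (b * v * b⁻¹ * v⁻¹) * a⁻¹ = (a * b) * v * b⁻¹ * v⁻¹ * a⁻¹ := by group
      _ = (b * a) * v * b⁻¹ * v⁻¹ * a⁻¹ := by rw [hc]
      _ = b * a * v * (a⁻¹ * (a * b⁻¹)) * v⁻¹ * a⁻¹ := by group
      _ = b * a * v * (a⁻¹ * (b⁻¹ * a)) * v⁻¹ * a⁻¹ := by rw [h1]
      _ = b * (a * v * a⁻¹) * b⁻¹ * (a * v * a⁻¹)⁻¹ := by group
  letI := Cfsg.Agent.Lib.CoprimeSylow.conjOn (Subgroup.zpowers b) U hUinv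
  obtain ⟨v, hv, hvne⟩ := hne
  have hU1 : b * v * b⁻¹ * v⁻¹ ∈ U := ⟨v, hv, rfl⟩
  have hUne : b * v * b⁻¹ * v⁻¹ ≠ 1 := by
    intro h
    apply hvne
    rwa [mul_inv_eq_one] at h
  have hcardU : p ∣ Nat.card U := by
    haveI : Nontrivial ↥U := ⟨⟨⟨_, hU1⟩, 1, fun h => hUne (congrArg Subtype.val h)⟩⟩
    obtain ⟨k, hk⟩ := IsPGroup.iff_card.mp hUp
    have hk0 : k ≠ 0 := by
      rintro rfl
      have h1 : Nat.card U = 1 := by simpa using hk
      have := Finite.one_lt_card (α := ↥U)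
      omega
    rw [hk]
    exact dvd_pow_self p hk0
  have hfix1 : (1 : ↥U) ∈ MulAction.fixedPoints ↥(Subgroup.zpowers b) ↥U := by
    intro g
    apply Subtype.ext
    show (g : L) * 1 * (g : L)⁻¹ = 1
    simp
  obtain ⟨w, hw, hwne⟩ := hzb.exists_fixed_point_of_prime_dvd_card_of_fixed_point ↥U hcardU hfix1
  obtain ⟨v', hv', hve⟩ := w.2
  refine ⟨v', hv', ?_, ?_⟩
  · rw [← hve]
    intro h
    exact hwne (Subtype.ext h.symm)
  · have h2 := hw ⟨b, Subgroup.mem_zpowers b⟩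
    have h3 : b * (w : L) * b⁻¹ = w := congrArg Subtype.val h2
    rw [← hve]
    exact h3

/-- Repeated conjugation by an element fixing the commutator. -/
theorem conj_pow_of_fixed (V : Subgroup L) (hVab : ∀ a ∈ V, ∀ b ∈ V, a * b = b * a) (b v w : L) (hv : v ∈ V) (hw : w ∈ V)
    (h1 : b * v * b⁻¹ = w * v) (h2 : b * w * b⁻¹ = w) (j : ℕ) : b ^ j * v * (b ^ j)⁻¹ = w ^ j * v := by
  induction j with
  | zero => simp
  | succ j ih =>
    have h3 : b ^ (j + 1) * v * (b ^ (j + 1))⁻¹ = b * (b ^ j * v * (b ^ j)⁻¹) * b⁻¹ := by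
      rw [pow_succ']
      group
    rw [h3, ih]
    have h4 : ∀ i : ℕ, b * w ^ i * b⁻¹ = w ^ i := by
      intro i
      rw [← conj_pow, h2]
    calc b * (w ^ j * v) * b⁻¹ = (b * w ^ j * b⁻¹) * (b * v * b⁻¹) := by group
      _ = w ^ j * (w * v) := by rw [h4, h1]
      _ = w ^ (j + 1) * v := by rw [pow_succ, mul_assoc]

/-- If the `p`-th power of a `p`-element has the same fixed points on an elementary abelian
group, the element acts trivially. -/
theorem trivial_of_same_fixed (V : Subgroup L) (hVab : ∀ a ∈ V, ∀ b ∈ V, a * b = b * a) (hVexp : ∀ v ∈ V, v ^ p = 1)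
    (b : L) (hbN : ∀ v ∈ V, b * v * b⁻¹ ∈ V) {n : ℕ} (hb : b ^ p ^ n = 1)
    (hsame : ∀ v ∈ V, b ^ p * v * (b ^ p)⁻¹ = v → b * v * b⁻¹ = v) (v : L) (hv : v ∈ V) : b * v * b⁻¹ = v := by
  by_contra hne
  obtain ⟨v', hv', h1, h2⟩ := exists_moved V hVab hVexp b hbN hb ⟨v, hv, hne⟩
  have hwV : b * v' * b⁻¹ * v'⁻¹ ∈ V := V.mul_mem (hbN v' hv') (V.inv_mem hv')
  have h3 := conj_pow_of_fixed V hVab b v' (b * v' * b⁻¹ * v'⁻¹) hv' hwV (by group) h2 p
  rw [hVexp _ hwV, one_mul] at h3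
  have h4 := hsame v' hv' h3
  apply h1
  rw [h4]
  simp

/-- The descent: from an element with a large fixed subgroup to one with `a^p ∈ Q`. -/
theorem descend (V Q T : Subgroup L) (hVab : ∀ a ∈ V, ∀ b ∈ V, a * b = b * a) (hVexp : ∀ v ∈ V, v ^ p = 1)
    (hV : V.Normal) (hTp : IsPGroup p T) (hQT : Q ≤ T)
    (hTC : T ⊓ Subgroup.centralizer (V : Set L) = Q) (m : ℕ) (b : L) (hbT : b ∈ T) (hb1 : b ^ p ^ (m + 1) ∈ Q)
    (hb2 : b ^ p ^ m ∉ Q) (hcard : Nat.card V ≤ p ^ (m + 1) * Nat.card ↥(V ⊓ Subgroup.centralizer ({b} : Set L))) :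
    ∃ a ∈ T, a ∈ Subgroup.zpowers b ∧ a ^ p ∈ Q ∧ a ∉ Q ∧
      Nat.card V ≤ p * Nat.card ↥(V ⊓ Subgroup.centralizer ({a} : Set L)) := by
  have hpp : p.Prime := Fact.out
  induction m generalizing b with
  | zero =>
    refine ⟨b, hbT, Subgroup.mem_zpowers b, by simpa using hb1, by simpa using hb2, by simpa using hcard⟩
  | succ m ih =>
    by_cases hle : Nat.card V ≤ p ^ (m + 1) * Nat.card ↥(V ⊓ Subgroup.centralizer ({b ^ p} : Set L))
    · obtain ⟨a, ha1, ha2, ha3⟩ := ih (b ^ p) (T.pow_mem hbT p) (by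
        rw [← pow_mul, ← pow_succ']
        exact hb1) (by
        rw [← pow_mul, ← pow_succ']
        exact hb2) hle
      refine ⟨a, ha1, ?_, ha3⟩
      have h2 : Subgroup.zpowers (b ^ p) ≤ Subgroup.zpowers b :=
        (Subgroup.zpowers_le).mpr (Subgroup.pow_mem _ (Subgroup.mem_zpowers b) p)
      exact h2 ha2
    · exfalso
      push Not at hle
      -- the two fixed subgroups coincide
      let C1 := V ⊓ Subgroup.centralizer ({b} : Set L)
      let C2 := V ⊓ Subgroup.centralizer ({b ^ p} : Set L)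
      have hC12 : C1 ≤ C2 := by
        intro v hv
        refine ⟨hv.1, ?_⟩
        show v ∈ Subgroup.centralizer _
        rw [Subgroup.mem_centralizer_singleton_iff]
        have h1 : v * b = b * v := Subgroup.mem_centralizer_singleton_iff.mp hv.2
        exact ((Commute.pow_right (h1 : Commute v b) p)).eq
      have hC2p : IsPGroup p C2 := by
        rintro ⟨w, hw⟩
        refine ⟨1, Subtype.ext ?_⟩
        show w ^ p ^ 1 = 1
        rw [pow_one]
        exact hVexp w hw.1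
      have hidx : Nat.card C2 = Nat.card C1 * (C1.subgroupOf C2).index := by
        have h1 := Subgroup.card_mul_index (C1.subgroupOf C2)
        rw [← h1, Nat.card_congr (Subgroup.subgroupOfEquivOfLe hC12).toEquiv]
      have hi1 : (C1.subgroupOf C2).index = 1 := by
        have hdvd : (C1.subgroupOf C2).index ∣ Nat.card C2 := Subgroup.index_dvd_card _
        obtain ⟨k, hk⟩ := IsPGroup.iff_card.mp hC2p
        rw [hk] at hdvd
        obtain ⟨j, _, hj⟩ := (Nat.dvd_prime_pow hpp).mp hdvd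
        cases j with
        | zero => simpa using hj
        | succ j =>
          exfalso
          have hC1pos : 0 < Nat.card C1 := Nat.card_pos
          have hpdvd : p ≤ (C1.subgroupOf C2).index := by
            rw [hj]
            exact Nat.le_of_dvd (pow_pos hpp.pos _) (dvd_pow_self p (Nat.succ_ne_zero j))
          have h5 : p ^ (m + 1) * Nat.card C2 < p ^ (m + 1 + 1) * Nat.card C1 := lt_of_lt_of_le hle hcard
          have h6 : Nat.card C2 ≥ Nat.card C1 * p := by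
            rw [hidx]
            exact Nat.mul_le_mul_left _ hpdvd
          have h7 : p ^ (m + 1 + 1) * Nat.card C1 ≤ p ^ (m + 1) * Nat.card C2 := by
            calc p ^ (m + 1 + 1) * Nat.card C1 = p ^ (m + 1) * (Nat.card C1 * p) := by rw [pow_succ]; ring
              _ ≤ _ := Nat.mul_le_mul_left _ h6
          omega
      have hC21 : C2 ≤ C1 := by
        have h1 : C1.subgroupOf C2 = ⊤ := Subgroup.index_eq_one.mp hi1
        intro v hv
        have h2 : (⟨v, hv⟩ : ↥C2) ∈ C1.subgroupOf C2 := by rw [h1]; trivial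
        exact h2
      -- hence `b` acts trivially
      obtain ⟨n, hn⟩ := hTp ⟨b, hbT⟩
      have hbn : b ^ p ^ n = 1 := by
        simpa only [Subgroup.coe_pow, Subgroup.coe_one] using congrArg Subtype.val hn
      have hbN : ∀ v ∈ V, b * v * b⁻¹ ∈ V := fun v hv => hV.conj_mem v hv b
      have hall := trivial_of_same_fixed V hVab hVexp b hbN hbn (by
        intro v hv he
        have h1 : v ∈ C2 := by
          refine ⟨hv, ?_⟩
          show v ∈ Subgroup.centralizer _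
          rw [Subgroup.mem_centralizer_singleton_iff]
          rw [mul_inv_eq_iff_eq_mul] at he
          exact he.symm
        have h2 := hC21 h1
        have h3 : v * b = b * v := Subgroup.mem_centralizer_singleton_iff.mp h2.2
        rw [← h3]
        simp)
      have hbC : b ∈ T ⊓ Subgroup.centralizer (V : Set L) := by
        refine ⟨hbT, ?_⟩
        show b ∈ Subgroup.centralizer _
        rw [Subgroup.mem_centralizer_iff]
        intro v hv
        have := hall v hv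
        rw [mul_inv_eq_iff_eq_mul] at this
        exact this.symm
      rw [hTC] at hbC
      apply hb2
      exact Q.pow_mem hbC _

end Descent

end Cfsg.Agent.Lib.ThmOCyc
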