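import Cfsg.Agent.Lib.ThmOBase

/-!
Sections of type `S₃` expressed through elements: an element inverted modulo a subgroup.
-/

set_option autoImplicit false

universe u

namespace Cfsg.Agent.Lib.ThmOS3

/-- Some section of `G` contains an element of order three inverted by another element. -/
def Sec (G : Type*) [Group G] : Prop :=
  ∃ (N : Subgroup G) (a y : G), (∀ n ∈ N, a * n * a⁻¹ ∈ N) ∧ (∀ n ∈ N, y * n * y⁻¹ ∈ N) ∧
    y ^ 3 ∈ N ∧ y ∉ N ∧ a * y * a⁻¹ * y ∈ N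

/-- An element of order three inverted by a `2`-element. -/
def RelS3 (G : Type*) [Group G] : Prop :=
  ∃ a y : G, (∃ m : ℕ, a ^ 2 ^ m = 1) ∧ y ^ 3 = 1 ∧ y ≠ 1 ∧ a * y * a⁻¹ = y⁻¹

theorem Sec.of_surjective {G G' : Type*} [Group G] [Group G'] (f : G →* G') (hf : Function.Surjective f)
    (h : Sec G') : Sec G := by
  obtain ⟨N, a, y, h1, h2, h3, h4, h5⟩ := h
  obtain ⟨a', rfl⟩ := hf a
  obtain ⟨y', rfl⟩ := hf y
  refine ⟨N.comap f, a', y', ?_, ?_, ?_, ?_, ?_⟩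
  · intro n hn
    simpa [Subgroup.mem_comap] using h1 _ hn
  · intro n hn
    simpa [Subgroup.mem_comap] using h2 _ hn
  · simpa [Subgroup.mem_comap] using h3
  · simpa [Subgroup.mem_comap] using h4
  · simpa [Subgroup.mem_comap] using h5

theorem Sec.of_injective {G G' : Type*} [Group G] [Group G'] (f : G →* G') (hf : Function.Injective f)
    (h : Sec G) : Sec G' := by
  obtain ⟨N, a, y, h1, h2, h3, h4, h5⟩ := h
  refine ⟨N.map f, f a, f y, ?_, ?_, ?_, ?_, ?_⟩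
  · rintro _ ⟨n, hn, rfl⟩
    exact ⟨_, h1 n hn, by simp⟩
  · rintro _ ⟨n, hn, rfl⟩
    exact ⟨_, h2 n hn, by simp⟩
  · exact ⟨_, h3, by simp⟩
  · rintro ⟨n, hn, he⟩
    rw [hf he] at hn
    exact h4 hn
  · exact ⟨_, h5, by simp⟩

theorem Sec.of_rel {G : Type*} [Group G] (h : RelS3 G) : Sec G := by
  obtain ⟨a, y, -, h2, h3, h4⟩ := h
  refine ⟨⊥, a, y, ?_, ?_, ?_, ?_, ?_⟩
  · intro n hn
    rw [Subgroup.mem_bot] at hn ⊢
    rw [hn]; simp
  · intro n hn
    rw [Subgroup.mem_bot] at hn ⊢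
    rw [hn]; simp
  · rw [Subgroup.mem_bot]; exact h2
  · rw [Subgroup.mem_bot]; exact h3
  · rw [Subgroup.mem_bot, h4]; simp

end Cfsg.Agent.Lib.ThmOS3
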