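import Mathlib
import Cfsg.Agent.Lib.ThmOS3
import Cfsg.Agent.Lib.SylowIn
import Cfsg.Agent.Lib.SchurZ2

/-!
From a section of type `S₃` to an element of order three inverted by a `2`-element, and from that to
a section isomorphic to `S₄`.
-/

set_option autoImplicit false

universe u

namespace Cfsg.Agent.Lib.ThmOS4

open Cfsg Cfsg.Agent.Lib.ThmOS3 Cfsg.Agent.Lib.ThmOBase

section C

variable {G : Type*} [Group G] [Finite G]

theorem norm_of_maps {H : Subgroup G} {g : G} (h : ∀ x ∈ H, g * x * g⁻¹ ∈ H) :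
    g ∈ Subgroup.normalizer (H : Set G) := by
  have hle : H.map (MulAut.conj g).toMonoidHom ≤ H := by
    rintro _ ⟨x, hx, rfl⟩
    exact h x hx
  have hc : Nat.card (H.map (MulAut.conj g).toMonoidHom) = Nat.card H :=
    Subgroup.card_map_of_injective (MulAut.conj g).injective
  have he : H.map (MulAut.conj g).toMonoidHom = H := Subgroup.eq_of_le_of_card_ge hle hc.ge
  rw [Subgroup.mem_normalizer_iff]
  intro x
  refine ⟨h x, fun hx => ?_⟩
  rw [← he] at hx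
  obtain ⟨x', hx', e⟩ := hx
  have : x' = x := by
    have e' : g * x' * g⁻¹ = g * x * g⁻¹ := e
    exact mul_left_cancel (mul_right_cancel e')
  exact this ▸ hx'

theorem fixed_coset' {p n : ℕ} [Fact p.Prime] (N : Subgroup G) (hNc : ¬ p ∣ Nat.card N) (a : G)
    (ha : a ^ p ^ n = 1) (hNa : a ∈ Subgroup.normalizer (N : Set G)) (s : G)
    (hNs : s ∈ Subgroup.normalizer (N : Set G)) (hs : s⁻¹ * (a * s * a⁻¹) ∈ N) :
    ∃ c ∈ N, a * (s * c) * a⁻¹ = s * c := by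
  let W : Subgroup G := Subgroup.normalizer (N : Set G)
  haveI : (N.subgroupOf W).Normal := Subgroup.normal_in_normalizer
  have hc : Nat.card (N.subgroupOf W) = Nat.card N :=
    Nat.card_congr (Subgroup.subgroupOfEquivOfLe Subgroup.le_normalizer).toEquiv
  obtain ⟨c, hc1, hc2⟩ := fixed_coset (p := p) (N.subgroupOf W) (by rw [hc]; exact hNc)
    (⟨a, hNa⟩ : W) (n := n) (Subtype.ext (by simpa using ha)) ⟨s, hNs⟩ (Subgroup.mem_subgroupOf.mpr hs)
  exact ⟨c, hc1, congrArg Subtype.val hc2⟩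

theorem claimC_normal (N : Subgroup G) [hN : N.Normal] (a y : G) (hy3 : y ^ 3 ∈ N) (hyN : y ∉ N)
    (hay : a * y * a⁻¹ * y ∈ N) : RelS3 G := by
  classical
  haveI : Fact (Nat.Prime 3) := ⟨Nat.prime_three⟩
  haveI : Fact (Nat.Prime 2) := ⟨Nat.prime_two⟩
  let π := QuotientGroup.mk' N
  have hπq : ∀ x, π x = 1 ↔ x ∈ N := fun x => by
    show (QuotientGroup.mk x : G ⧸ N) = 1 ↔ _
    exact QuotientGroup.eq_one_iff x
  obtain ⟨Y, hY⟩ : ∃ Y, Y = π y := ⟨_, rfl⟩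
  have hY3 : Y ^ 3 = 1 := by
    rw [hY, ← map_pow, hπq]
    exact hy3
  have hY1 : Y ≠ 1 := by
    rw [hY]
    intro h
    exact hyN ((hπq y).mp h)
  have hAY : π a * Y * (π a)⁻¹ = Y⁻¹ := by
    have h := (hπq _).mpr hay
    simp only [map_mul, map_inv] at h
    rw [← hY] at h
    exact eq_inv_of_mul_eq_one_left h
  let C : Subgroup (G ⧸ N) := Subgroup.zpowers Y
  let K : Subgroup G := C.comap π
  have hcomm : ∀ u ∈ C, ∀ v ∈ C, u * v = v * u := by
    rintro _ ⟨i, rfl⟩ _ ⟨j, rfl⟩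
    exact (Commute.refl Y).zpow_zpow i j
  have hInv : ∀ b, π b * Y * (π b)⁻¹ = Y⁻¹ → ∀ u ∈ C, π b * u * (π b)⁻¹ = u⁻¹ := by
    rintro b hb _ ⟨i, rfl⟩
    show π b * Y ^ i * (π b)⁻¹ = (Y ^ i)⁻¹
    rw [← conj_zpow, hb, inv_zpow]
  have hYC : Y ∈ C := Subgroup.mem_zpowers Y
  obtain ⟨P⟩ : Nonempty (Sylow 3 K) := inferInstance
  let D : Subgroup G := (P : Subgroup K).map K.subtype
  have hDK : D ≤ K := by
    rintro _ ⟨x, -, rfl⟩
    exact x.2
  have hD3 : IsPGroup 3 D := P.isPGroup'.map _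
  have haK : ∀ x ∈ K, a * x * a⁻¹ ∈ K := by
    intro x hx
    show π (a * x * a⁻¹) ∈ C
    rw [map_mul, map_mul, map_inv, hInv a hAY _ hx]
    exact C.inv_mem hx
  -- the Frattini argument
  let D' : Subgroup G := D.map (MulAut.conj a).toMonoidHom
  have hD'3 : IsPGroup 3 D' := hD3.map _
  have hT3 : IsPGroup 3 (D'.subgroupOf K) := hD'3.comap_of_injective K.subtype Subtype.val_injective
  obtain ⟨k, hk⟩ := Cfsg.Agent.Lib.SylowIn.exists_conj_mem_sylow P hT3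
  obtain ⟨a₁, ha₁⟩ : ∃ a₁, a₁ = (k : G) * a := ⟨_, rfl⟩
  have ha₁D : ∀ x ∈ D, a₁ * x * a₁⁻¹ ∈ D := by
    intro x hx
    have h1 : a * x * a⁻¹ ∈ K := haK x (hDK hx)
    have h2 : (⟨a * x * a⁻¹, h1⟩ : K) ∈ D'.subgroupOf K := ⟨x, hx, rfl⟩
    have h3 := hk _ h2
    have h4 : a₁ * x * a₁⁻¹ = ((k * ⟨a * x * a⁻¹, h1⟩ * k⁻¹ : K) : G) := by
      rw [ha₁]
      show (k : G) * a * x * ((k : G) * a)⁻¹ = (k : G) * (a * x * a⁻¹) * (k : G)⁻¹
      group
    rw [h4]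
    exact ⟨_, h3, rfl⟩
  have hkC : π (k : G) ∈ C := k.2
  have hA₁Y : π a₁ * Y * (π a₁)⁻¹ = Y⁻¹ := by
    rw [ha₁, map_mul, mul_inv_rev]
    calc π (k : G) * π a * Y * ((π a)⁻¹ * (π (k : G))⁻¹)
        = π (k : G) * (π a * Y * (π a)⁻¹) * (π (k : G))⁻¹ := by group
      _ = π (k : G) * Y⁻¹ * (π (k : G))⁻¹ := by rw [hAY]
      _ = Y⁻¹ := by
        rw [hcomm _ hkC _ (C.inv_mem hYC), mul_inv_cancel_right]
  -- the `2`-part of `a₁`
  obtain ⟨e, s, hs, hes⟩ := Nat.exists_eq_pow_mul_and_not_dvd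
    (orderOf_pos a₁).ne' 2 (by norm_num)
  obtain ⟨a₂, ha₂⟩ : ∃ a₂, a₂ = a₁ ^ s := ⟨_, rfl⟩
  have ha₂e : a₂ ^ 2 ^ e = 1 := by
    rw [ha₂, ← pow_mul, mul_comm, ← hes, pow_orderOf_eq_one]
  have hpowD : ∀ j : ℕ, ∀ x ∈ D, a₁ ^ j * x * (a₁ ^ j)⁻¹ ∈ D := by
    intro j
    induction j with
    | zero =>
      intro x hx
      simpa using hx
    | succ j ih =>
      intro x hx
      have h1 := ih _ (ha₁D x hx)
      have h2 : a₁ ^ (j + 1) * x * (a₁ ^ (j + 1))⁻¹ = a₁ ^ j * (a₁ * x * a₁⁻¹) * (a₁ ^ j)⁻¹ := by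
        rw [pow_succ]
        group
      rw [h2]
      exact h1
  have ha₂D : ∀ x ∈ D, a₂ * x * a₂⁻¹ ∈ D := by
    rw [ha₂]
    exact hpowD s
  have hA₂Y : π a₂ * Y * (π a₂)⁻¹ = Y⁻¹ := by
    have hsq : ∀ t : ℕ, π a₁ ^ (2 * t) * Y * (π a₁ ^ (2 * t))⁻¹ = Y := by
      intro t
      induction t with
      | zero => simp
      | succ t ih =>
        have e2 : 2 * (t + 1) = 2 * t + 1 + 1 := by ring
        rw [e2, pow_succ, pow_succ]
        calc π a₁ ^ (2 * t) * π a₁ * π a₁ * Y * (π a₁ ^ (2 * t) * π a₁ * π a₁)⁻¹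
            = π a₁ ^ (2 * t) * (π a₁ * (π a₁ * Y * (π a₁)⁻¹) * (π a₁)⁻¹) * (π a₁ ^ (2 * t))⁻¹ := by group
          _ = π a₁ ^ (2 * t) * (π a₁ * Y⁻¹ * (π a₁)⁻¹) * (π a₁ ^ (2 * t))⁻¹ := by rw [hA₁Y]
          _ = π a₁ ^ (2 * t) * Y * (π a₁ ^ (2 * t))⁻¹ := by
            rw [hInv a₁ hA₁Y _ (C.inv_mem hYC), inv_inv]
          _ = Y := ih
    obtain ⟨t, ht⟩ : ∃ t, s = 2 * t + 1 := by
      have : s % 2 = 1 := by omega
      exact ⟨s / 2, by omega⟩
    rw [ha₂, map_pow, ht, pow_succ]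
    calc π a₁ ^ (2 * t) * π a₁ * Y * (π a₁ ^ (2 * t) * π a₁)⁻¹
        = π a₁ ^ (2 * t) * (π a₁ * Y * (π a₁)⁻¹) * (π a₁ ^ (2 * t))⁻¹ := by group
      _ = π a₁ ^ (2 * t) * Y⁻¹ * (π a₁ ^ (2 * t))⁻¹ := by rw [hA₁Y]
      _ = (π a₁ ^ (2 * t) * Y * (π a₁ ^ (2 * t))⁻¹)⁻¹ := by group
      _ = Y⁻¹ := by rw [hsq t]
  -- the `3`-part of `y`
  obtain ⟨f, r, hr, hfr⟩ := Nat.exists_eq_pow_mul_and_not_dvd
    (orderOf_pos y).ne' 3 (by norm_num)
  have hy'K : y ^ r ∈ K := by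
    show π (y ^ r) ∈ C
    rw [map_pow, ← hY]
    exact C.pow_mem hYC r
  have hy'e : (⟨y ^ r, hy'K⟩ : K) ^ 3 ^ f = 1 := by
    apply Subtype.ext
    show (y ^ r) ^ 3 ^ f = 1
    rw [← pow_mul, mul_comm, ← hfr, pow_orderOf_eq_one]
  have hZ3 := isPGroup_zpowers_of_pow (p := 3) hy'e
  obtain ⟨k₂, hk₂⟩ := Cfsg.Agent.Lib.SylowIn.exists_conj_mem_sylow P hZ3
  have hk₂' := hk₂ _ (Subgroup.mem_zpowers _)
  obtain ⟨y₁, hy₁⟩ : ∃ y₁, y₁ = (k₂ : G) * y ^ r * (k₂ : G)⁻¹ := ⟨_, rfl⟩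
  have hy₁D : y₁ ∈ D := by
    rw [hy₁]
    exact ⟨_, hk₂', rfl⟩
  obtain ⟨U, hU⟩ : ∃ U, U = Y ^ r := ⟨_, rfl⟩
  have hUC : U ∈ C := hU ▸ C.pow_mem hYC r
  have hU1 : U ≠ 1 := by
    intro h
    rw [hU] at h
    have hg : Nat.gcd r 3 = 1 := by
      have := (Nat.Prime.coprime_iff_not_dvd Nat.prime_three).mpr hr
      rw [Nat.gcd_comm]
      exact this
    have h3 : Y ^ Nat.gcd r 3 = 1 := pow_gcd_eq_one.mpr ⟨h, hY3⟩
    rw [hg, pow_one] at h3
    exact hY1 h3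
  have hU3 : U ^ 3 = 1 := by
    rw [hU, ← pow_mul, mul_comm, pow_mul, hY3, one_pow]
  have hπy₁ : π y₁ = U := by
    rw [hy₁, map_mul, map_mul, map_inv, map_pow, ← hY, ← hU, hcomm _ k₂.2 _ hUC, mul_inv_cancel_right]
  -- the fixed point
  obtain ⟨b, hb⟩ : ∃ b, b = a₂ ^ 2 := ⟨_, rfl⟩
  have hbe : b ^ 2 ^ e = 1 := by
    rw [hb, ← pow_mul, mul_comm, pow_mul, ha₂e, one_pow]
  have hbD : ∀ x ∈ D, b * x * b⁻¹ ∈ D := by
    intro x hx
    have h1 := ha₂D _ (ha₂D x hx)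
    have e1 : b * x * b⁻¹ = a₂ * (a₂ * x * a₂⁻¹) * a₂⁻¹ := by
      rw [hb, pow_two]
      group
    rw [e1]
    exact h1
  let D₀ : Subgroup G := D ⊓ N
  have hD₀3 : IsPGroup 3 D₀ := hD3.to_le inf_le_left
  have hD₀c : ¬ 2 ∣ Nat.card D₀ := by
    obtain ⟨m, hm⟩ := IsPGroup.iff_card.mp hD₀3
    rw [hm]
    intro h
    have := Nat.Prime.dvd_of_dvd_pow Nat.prime_two h
    omega
  have hbN : b ∈ Subgroup.normalizer ((D₀ : Subgroup G) : Set G) :=
    norm_of_maps fun x hx => ⟨hbD x hx.1, hN.conj_mem x hx.2 b⟩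
  have hy₁N : y₁ ∈ Subgroup.normalizer ((D₀ : Subgroup G) : Set G) :=
    norm_of_maps fun x hx => ⟨D.mul_mem (D.mul_mem hy₁D hx.1) (D.inv_mem hy₁D), hN.conj_mem x hx.2 y₁⟩
  have hA₂U : π a₂ * U * (π a₂)⁻¹ = U⁻¹ := hInv a₂ hA₂Y U hUC
  have hBU : π b * U * (π b)⁻¹ = U := by
    rw [hb, map_pow, pow_two]
    calc π a₂ * π a₂ * U * (π a₂ * π a₂)⁻¹ = π a₂ * (π a₂ * U * (π a₂)⁻¹) * (π a₂)⁻¹ := by group
      _ = π a₂ * U⁻¹ * (π a₂)⁻¹ := by rw [hA₂U]
      _ = (π a₂ * U * (π a₂)⁻¹)⁻¹ := by group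
      _ = U := by rw [hA₂U, inv_inv]
  have hs₀ : y₁⁻¹ * (b * y₁ * b⁻¹) ∈ D₀ := by
    refine ⟨D.mul_mem (D.inv_mem hy₁D) (hbD _ hy₁D), ?_⟩
    show y₁⁻¹ * (b * y₁ * b⁻¹) ∈ N
    rw [← hπq]
    simp only [map_mul, map_inv]
    rw [hπy₁, hBU, inv_mul_cancel]
  obtain ⟨c, hc, hcfix⟩ := fixed_coset' (p := 2) (n := e) D₀ hD₀c b hbe hbN y₁ hy₁N hs₀
  obtain ⟨y₂, hy₂⟩ : ∃ y₂, y₂ = y₁ * c := ⟨_, rfl⟩
  rw [← hy₂] at hcfix
  have hy₂D : y₂ ∈ D := hy₂ ▸ D.mul_mem hy₁D hc.1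
  have hπy₂ : π y₂ = U := by
    rw [hy₂, map_mul, hπy₁, (hπq c).mpr hc.2, mul_one]
  obtain ⟨y₃, hy₃⟩ : ∃ y₃, y₃ = y₂ * (a₂ * y₂⁻¹ * a₂⁻¹) := ⟨_, rfl⟩
  have hy₃D : y₃ ∈ D := hy₃ ▸ D.mul_mem hy₂D (ha₂D _ (D.inv_mem hy₂D))
  have hy₃inv : a₂ * y₃ * a₂⁻¹ = y₃⁻¹ := by
    have h1 : b * y₂⁻¹ * b⁻¹ = y₂⁻¹ := by
      have h2 : b * y₂⁻¹ * b⁻¹ = (b * y₂ * b⁻¹)⁻¹ := by group
      rw [h2, hcfix]
    have h3 : a₂ * (a₂ * y₂⁻¹ * a₂⁻¹) * a₂⁻¹ = y₂⁻¹ := by
      have h4 : a₂ * (a₂ * y₂⁻¹ * a₂⁻¹) * a₂⁻¹ = b * y₂⁻¹ * b⁻¹ := by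
        rw [hb, pow_two]
        group
      rw [h4, h1]
    rw [hy₃]
    calc a₂ * (y₂ * (a₂ * y₂⁻¹ * a₂⁻¹)) * a₂⁻¹
        = a₂ * y₂ * a₂⁻¹ * (a₂ * (a₂ * y₂⁻¹ * a₂⁻¹) * a₂⁻¹) := by group
      _ = a₂ * y₂ * a₂⁻¹ * y₂⁻¹ := by rw [h3]
      _ = (y₂ * (a₂ * y₂⁻¹ * a₂⁻¹))⁻¹ := by group
  have hy₃1 : y₃ ≠ 1 := by
    intro h
    have h1 : π y₃ = U * U := by
      rw [hy₃, map_mul, map_mul, map_mul, map_inv, map_inv, hπy₂]
      have h2 : π a₂ * U⁻¹ * (π a₂)⁻¹ = U := by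
        have h3 : π a₂ * U⁻¹ * (π a₂)⁻¹ = (π a₂ * U * (π a₂)⁻¹)⁻¹ := by group
        rw [h3, hA₂U, inv_inv]
      rw [h2]
    rw [h, map_one] at h1
    apply hU1
    have h5 : U ^ 3 = U * (U * U) := by rw [pow_succ, pow_two, mul_assoc]
    rw [hU3, ← h1, mul_one] at h5
    exact h5.symm
  -- an element of order three
  obtain ⟨m₀, hm₀⟩ := hD3 ⟨y₃, hy₃D⟩
  have hm₀' : y₃ ^ 3 ^ m₀ = 1 := by
    simpa only [Subgroup.coe_pow, Subgroup.coe_one] using congrArg Subtype.val hm₀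
  have hex : ∃ m, y₃ ^ 3 ^ m = 1 := ⟨m₀, hm₀'⟩
  have hfind := Nat.find_spec hex
  have hne : Nat.find hex ≠ 0 := by
    intro h0
    rw [h0] at hfind
    simp at hfind
    exact hy₃1 hfind
  obtain ⟨m', hm'⟩ : ∃ m', Nat.find hex = m' + 1 := ⟨Nat.find hex - 1, by omega⟩
  have hmin := Nat.find_min hex (m := m') (by omega)
  refine ⟨a₂, y₃ ^ 3 ^ m', ⟨e, ha₂e⟩, ?_, hmin, ?_⟩
  · rw [hm', pow_succ, pow_mul] at hfind
    exact hfind
  · rw [← conj_pow, hy₃inv, inv_pow]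

theorem relS3_of_injective {G' : Type*} [Group G'] (f : G →* G') (hf : Function.Injective f)
    (h : RelS3 G) : RelS3 G' := by
  obtain ⟨a, y, ⟨m, hm⟩, h3, h1, hi⟩ := h
  refine ⟨f a, f y, ⟨m, ?_⟩, ?_, ?_, ?_⟩
  · rw [← map_pow, hm, map_one]
  · rw [← map_pow, h3, map_one]
  · intro he
    exact h1 (hf (he.trans (map_one f).symm))
  · rw [← map_inv, ← map_mul, ← map_mul, hi, map_inv]

theorem claimC (h : Sec G) : RelS3 G := by
  obtain ⟨N, a, y, h1, h2, h3, h4, h5⟩ := h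
  let W : Subgroup G := Subgroup.normalizer (N : Set G)
  haveI : (N.subgroupOf W).Normal := Subgroup.normal_in_normalizer
  have ha : a ∈ W := norm_of_maps h1
  have hy : y ∈ W := norm_of_maps h2
  have hW : RelS3 W := claimC_normal (N.subgroupOf W) ⟨a, ha⟩ ⟨y, hy⟩ (Subgroup.mem_subgroupOf.mpr h3)
    (fun h => h4 (Subgroup.mem_subgroupOf.mp h)) (Subgroup.mem_subgroupOf.mpr h5)
  exact relS3_of_injective W.subtype Subtype.val_injective hW

end C

section S4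

/-- A subgroup with a surjection to `S₄`. -/
def HasSec (G : Type*) [Group G] : Prop :=
  ∃ (K : Subgroup G) (f : ↥K →* Equiv.Perm (Fin 4)), Function.Surjective f

theorem HasSec.of_surjective {G G' : Type*} [Group G] [Group G'] (φ : G →* G') (hφ : Function.Surjective φ)
    (h : HasSec G') : HasSec G := by
  obtain ⟨K, f, hf⟩ := h
  exact ⟨K.comap φ, f.comp (φ.subgroupComap K), hf.comp (φ.subgroupComap_surjective_of_surjective K hφ)⟩

theorem HasSec.of_subgroup {G : Type*} [Group G] (H : Subgroup G) (h : HasSec H) : HasSec G := by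
  obtain ⟨K, f, hf⟩ := h
  let e : K ≃* K.map H.subtype := K.equivMapOfInjective H.subtype H.subtype_injective
  exact ⟨K.map H.subtype, f.comp e.symm.toMonoidHom, hf.comp e.symm.surjective⟩

theorem involves_of_hasSec {L : Type*} [Group L] (h : HasSec L) : Involves (Equiv.Perm (Fin 4)) L := by
  obtain ⟨K, f, hf⟩ := h
  let R : Subgroup L := f.ker.map K.subtype
  have hR : R.subgroupOf K = f.ker := Subgroup.comap_map_eq_self_of_injective K.subtype_injective _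
  haveI : (R.subgroupOf K).Normal := by
    rw [hR]
    infer_instance
  exact ⟨K, R, inferInstance,
    ⟨(QuotientGroup.quotientMulEquivOfEq hR).trans (QuotientGroup.quotientKerEquivOfSurjective f hf)⟩⟩

variable {G : Type u} [Group G] [Finite G]

/-- The final step: `G` is isomorphic to `S₄`. -/
theorem s4_final (Y : Subgroup G) [hYn : Y.Normal] (a y v₀ : G)
    (ha2 : a ^ 2 = 1) (hy3 : y ^ 3 = 1) (hay : a * y * a⁻¹ = y⁻¹)
    (hgen : Y ⊔ Subgroup.closure {a, y} = ⊤)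
    (hv₀ : v₀ ∈ Y) (hv₀1 : v₀ ≠ 1) (hav₀ : a * v₀ * a⁻¹ = v₀)
    (hYmem : ∀ u ∈ Y, u = 1 ∨ u = v₀ ∨ u = y * v₀ * y⁻¹ ∨ u = y * (y * v₀ * y⁻¹) * y⁻¹)
    (hcomm : ∀ u ∈ Y, ∀ w ∈ Y, u * w = w * u) (hsq : ∀ u ∈ Y, u ^ 2 = 1)
    (hfix : ∀ u ∈ Y, y * u * y⁻¹ = u → u = 1) : Nonempty (G ≃* Equiv.Perm (Fin 4)) := by
  classical
  haveI : Fact (Nat.Prime 3) := ⟨Nat.prime_three⟩
  haveI : Fact (Nat.Prime 2) := ⟨Nat.prime_two⟩
  have hy1 : y ≠ 1 := by
    intro h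
    apply hv₀1
    apply hfix v₀ hv₀
    rw [h]
    group
  have hyinv : y⁻¹ = y ^ 2 := by
    rw [inv_eq_iff_mul_eq_one, ← pow_succ']
    exact hy3
  have ha1 : a ≠ 1 := by
    intro h
    rw [h] at hay
    simp only [one_mul, inv_one, mul_one] at hay
    apply hy1
    have h2 : y ^ 2 = 1 := by
      calc y ^ 2 = y * y := pow_two y
        _ = y * y⁻¹ := by rw [← hay]
        _ = 1 := mul_inv_cancel y
    have h3 : y ^ 3 = y ^ 2 * y := pow_succ y 2
    rw [hy3, h2, one_mul] at h3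
    exact h3.symm
  obtain ⟨v₁, hv₁⟩ : ∃ v₁, v₁ = y * v₀ * y⁻¹ := ⟨_, rfl⟩
  obtain ⟨v₂, hv₂⟩ : ∃ v₂, v₂ = y * v₁ * y⁻¹ := ⟨_, rfl⟩
  rw [← hv₁, ← hv₂] at hYmem
  have hv₁Y : v₁ ∈ Y := hv₁ ▸ hYn.conj_mem _ hv₀ y
  have hv₂Y : v₂ ∈ Y := hv₂ ▸ hYn.conj_mem _ hv₁Y y
  have hv₁1 : v₁ ≠ 1 := by
    rw [hv₁]
    intro h
    apply hv₀1
    have : v₀ = y⁻¹ * (y * v₀ * y⁻¹) * y := by group
    rw [this, h]
    group
  have hv₂1 : v₂ ≠ 1 := by
    rw [hv₂]
    intro h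
    apply hv₁1
    have : v₁ = y⁻¹ * (y * v₁ * y⁻¹) * y := by group
    rw [this, h]
    group
  have hy₂v : y * v₂ * y⁻¹ = v₀ := by
    rw [hv₂, hv₁]
    calc y * (y * (y * v₀ * y⁻¹) * y⁻¹) * y⁻¹ = y ^ 3 * v₀ * (y ^ 3)⁻¹ := by
          rw [pow_succ y 2, pow_two]
          group
      _ = v₀ := by rw [hy3]; group
  have h01 : v₀ ≠ v₁ := fun h => hv₀1 (hfix v₀ hv₀ (by rw [← hv₁]; exact h.symm))
  have h12 : v₁ ≠ v₂ := fun h => hv₁1 (hfix v₁ hv₁Y (by rw [← hv₂]; exact h.symm))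
  have h02 : v₀ ≠ v₂ := fun h => hv₂1 (hfix v₂ hv₂Y (by rw [hy₂v]; exact h))
  have hcardY : Nat.card Y = 4 := by
    have hset : (Y : Set G) = (({1, v₀, v₁, v₂} : Finset G) : Set G) := by
      ext x
      simp only [Finset.coe_insert, Finset.coe_singleton, Set.mem_insert_iff, Set.mem_singleton_iff,
        SetLike.mem_coe]
      constructor
      · exact hYmem x
      · rintro (rfl | rfl | rfl | rfl)
        · exact Y.one_mem
        · exact hv₀
        · exact hv₁Y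
        · exact hv₂Y
    have h1 : Nat.card Y = (({1, v₀, v₁, v₂} : Finset G) : Set G).ncard := by
      rw [← hset]
      exact (Nat.card_coe_set_eq (Y : Set G))
    rw [h1, Set.ncard_coe_finset]
    rw [Finset.card_insert_of_notMem, Finset.card_insert_of_notMem, Finset.card_insert_of_notMem,
      Finset.card_singleton]
    · simpa using h12
    · simp [h01, h02]
    · simp only [Finset.mem_insert, Finset.mem_singleton, not_or]
      exact ⟨hv₀1.symm, hv₁1.symm, hv₂1.symm⟩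
  let H : Subgroup G := Subgroup.normalizer ((Subgroup.zpowers y : Subgroup G) : Set G)
  have hyH : y ∈ H := Subgroup.le_normalizer (Subgroup.mem_zpowers y)
  have haH : a ∈ H := by
    apply norm_of_maps
    rintro _ ⟨i, rfl⟩
    show a * y ^ i * a⁻¹ ∈ Subgroup.zpowers y
    rw [← conj_zpow, hay]
    exact Subgroup.zpow_mem _ (Subgroup.inv_mem _ (Subgroup.mem_zpowers y)) _
  have hz3 : ∀ z ∈ Subgroup.zpowers y, z ^ 3 = 1 := by
    rintro _ ⟨i, rfl⟩
    show (y ^ i) ^ 3 = 1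
    rw [← zpow_natCast, ← zpow_mul, mul_comm, zpow_mul, zpow_natCast, hy3, one_zpow]
  have hYH : Y ⊓ H = ⊥ := by
    rw [eq_bot_iff]
    rintro u ⟨huY, huH⟩
    have hu1 : u * y * u⁻¹ ∈ Subgroup.zpowers y :=
      (Subgroup.mem_normalizer_iff.mp huH y).mp (Subgroup.mem_zpowers y)
    have ht1 : u * y * u⁻¹ * y⁻¹ ∈ Subgroup.zpowers y :=
      Subgroup.mul_mem _ hu1 (Subgroup.inv_mem _ (Subgroup.mem_zpowers y))
    have ht2 : u * y * u⁻¹ * y⁻¹ ∈ Y := by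
      have e : u * y * u⁻¹ * y⁻¹ = u * (y * u⁻¹ * y⁻¹) := by group
      rw [e]
      exact Y.mul_mem huY (hYn.conj_mem _ (Y.inv_mem huY) y)
    have h3 := hz3 _ ht1
    have h2 := hsq _ ht2
    have h5 : (u * y * u⁻¹ * y⁻¹) ^ 3 = (u * y * u⁻¹ * y⁻¹) ^ 2 * (u * y * u⁻¹ * y⁻¹) := pow_succ _ 2
    rw [h3, h2, one_mul] at h5
    have h6 : u * y = y * u := by
      have h7 : u * y * u⁻¹ = y := by
        have := h5.symm
        exact mul_inv_eq_one.mp this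
      exact mul_inv_eq_iff_eq_mul.mp h7
    have h8 : y * u * y⁻¹ = u := by
      rw [← h6, mul_inv_cancel_right]
    rw [Subgroup.mem_bot]
    exact hfix u huY h8
  have hsup : Y ⊔ H = ⊤ := by
    rw [eq_top_iff, ← hgen]
    apply sup_le_sup_left
    rw [Subgroup.closure_le]
    rintro x (rfl | rfl)
    · exact haH
    · exact hyH
  have hcardG : Nat.card G = 4 * Nat.card H := by
    have h1 := Cfsg.Agent.Lib.SchurZ2.card_sup_mul_card_inf Y H (by
      rw [Subgroup.normalizer_eq_top_iff.mpr hYn]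
      exact le_top)
    rw [hsup, hYH, Subgroup.card_top, Subgroup.card_bot, mul_one, hcardY] at h1
    exact h1
  have hindex : Nat.card (G ⧸ H) = 4 := by
    have h1 := H.card_mul_index
    rw [hcardG] at h1
    have h2 : 0 < Nat.card H := Nat.card_pos
    have h3 : H.index = 4 := by nlinarith
    rw [← h3]
    rfl
  have h6 : 6 ∣ Nat.card H := by
    have h2 : 2 ∣ Nat.card H := by
      have : orderOf (⟨a, haH⟩ : H) = 2 := orderOf_eq_prime (Subtype.ext ha2) (fun h => ha1 (congrArg Subtype.val h))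
      rw [← this]
      exact orderOf_dvd_natCard _
    have h3 : 3 ∣ Nat.card H := by
      have : orderOf (⟨y, hyH⟩ : H) = 3 := orderOf_eq_prime (Subtype.ext hy3) (fun h => hy1 (congrArg Subtype.val h))
      rw [← this]
      exact orderOf_dvd_natCard _
    have : (2 * 3) ∣ Nat.card H := Nat.Coprime.mul_dvd_of_dvd_of_dvd (by norm_num) h2 h3
    exact this
  have hH6 : 6 ≤ Nat.card H := Nat.le_of_dvd Nat.card_pos h6
  -- the action is faithful
  let ρ := MulAction.toPermHom G (G ⧸ H)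
  have hρinj : Function.Injective ρ := by
    rw [injective_iff_map_eq_one]
    intro k hk
    have hk' : ∀ x : G ⧸ H, k • x = x := fun x => by
      have := congrArg (fun f : Equiv.Perm (G ⧸ H) => f x) hk
      exact this
    have hkcos : ∀ g : G, g⁻¹ * k * g ∈ H := by
      intro g
      have h1 := hk' (QuotientGroup.mk g)
      have h2 : (QuotientGroup.mk (k * g) : G ⧸ H) = QuotientGroup.mk g := h1
      have h3 := QuotientGroup.eq.mp h2.symm
      rw [mul_assoc]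
      exact h3
    have hkH : k ∈ H := by simpa using hkcos 1
    have hkc : ∀ u ∈ Y, k * u = u * k := by
      intro u hu
      have h1 := hkcos u
      have h2 : u⁻¹ * k * u * k⁻¹ ∈ H := H.mul_mem h1 (H.inv_mem hkH)
      have h3 : u⁻¹ * k * u * k⁻¹ ∈ Y := by
        have e : u⁻¹ * k * u * k⁻¹ = u⁻¹ * (k * u * k⁻¹) := by group
        rw [e]
        exact Y.mul_mem (Y.inv_mem hu) (hYn.conj_mem _ hu k)
      have h4 : u⁻¹ * k * u * k⁻¹ ∈ Y ⊓ H := ⟨h3, h2⟩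
      rw [hYH, Subgroup.mem_bot] at h4
      have h5 : u⁻¹ * k * u = k := mul_inv_eq_one.mp h4
      have h6 : k * u = u * k := by
        calc k * u = u * (u⁻¹ * k * u) := by group
          _ = u * k := by rw [h5]
      exact h6
    have hkmem : k ∈ Y ⊔ Subgroup.closure {a, y} := by
      rw [hgen]
      trivial
    obtain ⟨w, hw, h, hh, rfl⟩ := Subgroup.mem_sup_of_normal_left.mp hkmem
    have hcl : ∀ h ∈ Subgroup.closure ({a, y} : Set G), ∃ i : ℕ, h = y ^ i ∨ h = y ^ i * a := by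
      intro h hh
      have hay' : a * y = y⁻¹ * a := by
        calc a * y = a * y * a⁻¹ * a := by group
          _ = y⁻¹ * a := by rw [hay]
      have hay2 : a * y⁻¹ = y * a := by
        have h1 : a * y⁻¹ * a⁻¹ = y := by
          have h2 : a * y⁻¹ * a⁻¹ = (a * y * a⁻¹)⁻¹ := by group
          rw [h2, hay, inv_inv]
        calc a * y⁻¹ = a * y⁻¹ * a⁻¹ * a := by group
          _ = y * a := by rw [h1]
      have hainv : a⁻¹ = a := by
        rw [inv_eq_iff_mul_eq_one, ← pow_two]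
        exact ha2
      have haa : a * a = 1 := by rw [← pow_two]; exact ha2
      induction hh using Subgroup.closure_induction_right with
      | one => exact ⟨0, Or.inl (by simp)⟩
      | mul_right x hx z hz ih =>
        obtain ⟨i, hi | hi⟩ := ih
        · rcases hz with rfl | rfl
          · exact ⟨i, Or.inr (by rw [hi])⟩
          · exact ⟨i + 1, Or.inl (by rw [hi, pow_succ])⟩
        · rcases hz with rfl | rfl
          · exact ⟨i, Or.inl (by rw [hi, mul_assoc, haa, mul_one])⟩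
          · refine ⟨i + 2, Or.inr ?_⟩
            rw [hi, mul_assoc, hay', hyinv, ← mul_assoc, pow_add]
      | mul_inv_cancel x hx z hz ih =>
        obtain ⟨i, hi | hi⟩ := ih
        · rcases hz with rfl | rfl
          · exact ⟨i, Or.inr (by rw [hi, hainv])⟩
          · exact ⟨i + 2, Or.inl (by rw [hi, hyinv, pow_add])⟩
        · rcases hz with rfl | rfl
          · exact ⟨i, Or.inl (by rw [hi, hainv, mul_assoc, haa, mul_one])⟩
          · refine ⟨i + 1, Or.inr ?_⟩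
            rw [hi, mul_assoc, hay2, ← mul_assoc, pow_succ]
    have hhc : ∀ u ∈ Y, h * u * h⁻¹ = u := by
      intro u hu
      have h1 : w * h * u * (w * h)⁻¹ = u := by
        rw [hkc u hu, mul_inv_cancel_right]
      have h2 : h * u * h⁻¹ ∈ Y := hYn.conj_mem _ hu h
      have h3 : w * (h * u * h⁻¹) * w⁻¹ = h * u * h⁻¹ := by
        rw [hcomm w hw _ h2, mul_inv_cancel_right]
      rw [← h3]
      calc w * (h * u * h⁻¹) * w⁻¹ = w * h * u * (w * h)⁻¹ := by group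
        _ = u := h1
    have hpow1 : ∀ i : ℕ, y ^ i * v₀ * (y ^ i)⁻¹ = v₀ → y ^ i = 1 := by
      intro i hi
      have hmod : y ^ i = y ^ (i % 3) := by
        conv_lhs => rw [← Nat.div_add_mod i 3, pow_add, pow_mul, hy3, one_pow, one_mul]
      rw [hmod] at hi ⊢
      have hlt : i % 3 < 3 := Nat.mod_lt _ (by norm_num)
      interval_cases (i % 3)
      · simp
      · exfalso
        rw [pow_one] at hi
        exact hv₀1 (hfix v₀ hv₀ hi)
      · exfalso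
        apply hv₀1
        apply hfix v₀ hv₀
        calc y * v₀ * y⁻¹ = y * (y ^ 2 * v₀ * (y ^ 2)⁻¹) * y⁻¹ := by rw [hi]
          _ = y ^ 3 * v₀ * (y ^ 3)⁻¹ := by
            rw [pow_succ y 2, pow_two]
            group
          _ = v₀ := by rw [hy3]; group
    have hh1 : h = 1 := by
      obtain ⟨i, hi | hi⟩ := hcl h hh
      · rw [hi]
        apply hpow1
        rw [← hi]
        exact hhc v₀ hv₀
      · exfalso
        have h1 := hhc v₀ hv₀
        rw [hi] at h1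
        have h2 : y ^ i * a * v₀ * (y ^ i * a)⁻¹ = y ^ i * (a * v₀ * a⁻¹) * (y ^ i)⁻¹ := by group
        rw [h2, hav₀] at h1
        have h3 := hpow1 i h1
        rw [h3, one_mul] at hi
        have h4 := hhc v₁ hv₁Y
        rw [hi] at h4
        have h5 : a * v₁ * a⁻¹ = v₂ := by
          rw [hv₂, hv₁]
          have h5' : a * (y * v₀ * y⁻¹) * a⁻¹ = (a * y * a⁻¹) * (a * v₀ * a⁻¹) * (a * y * a⁻¹)⁻¹ := by group
          rw [h5', hay, hav₀, inv_inv]
          have hh' : y⁻¹ = y * y := by rw [hyinv, pow_two]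
          have h3' : (y * y)⁻¹ = y := by
            rw [inv_eq_iff_mul_eq_one, ← pow_two, ← pow_succ]
            exact hy3
          calc y⁻¹ * v₀ * y = (y * y) * v₀ * (y * y)⁻¹ := by rw [h3', ← hh']
            _ = y * (y * v₀ * y⁻¹) * y⁻¹ := by group
        exact h12 (h4.symm.trans h5)
    rw [hh1, mul_one] at hkH ⊢
    have : w ∈ Y ⊓ H := ⟨hw, hkH⟩
    rw [hYH, Subgroup.mem_bot] at this
    exact this
  have hcardP : Nat.card (Equiv.Perm (G ⧸ H)) = 24 := by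
    haveI := Fintype.ofFinite (G ⧸ H)
    rw [Nat.card_eq_fintype_card, Fintype.card_perm, ← Nat.card_eq_fintype_card, hindex]
    rfl
  have hbij : Function.Bijective ρ := hρinj.bijective_of_nat_card_le (by
    rw [hcardP, hcardG]
    omega)
  have e : G ⧸ H ≃ Fin 4 := Finite.equivFinOfCardEq hindex
  exact ⟨(MulEquiv.ofBijective ρ hbij).trans (Equiv.permCongrHom e)⟩

end S4

section S4Core

variable {G : Type u} [Group G] [Finite G]

theorem s4_min (Y : Subgroup G) [hYn : Y.Normal] (a y : G) (hY2 : IsPGroup 2 Y) (ha2 : a ^ 2 ∈ Y)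
    (hy3 : y ^ 3 = 1) (hay : a * y * a⁻¹ = y⁻¹) (hgen : Y ⊔ Subgroup.closure {a, y} = ⊤)
    (hv : ∃ v ∈ Y, y * v * y⁻¹ ≠ v)
    (hmin : ∀ R : Subgroup G, R.Normal → R ≠ ⊥ → R ≤ Y → ∀ v ∈ Y, v⁻¹ * (y * v * y⁻¹) ∈ R) :
    Nonempty (G ≃* Equiv.Perm (Fin 4)) := by
  classical
  haveI : Fact (Nat.Prime 2) := ⟨Nat.prime_two⟩
  have hgenN : ∀ R : Subgroup G, (∀ u ∈ Y, u ∈ Subgroup.normalizer (R : Set G)) →
      a ∈ Subgroup.normalizer (R : Set G) → y ∈ Subgroup.normalizer (R : Set G) → R.Normal := by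
    intro R h1 h2 h3
    rw [← Subgroup.normalizer_eq_top_iff, eq_top_iff, ← hgen]
    refine sup_le h1 ?_
    rw [Subgroup.closure_le]
    rintro x (rfl | rfl)
    · exact h2
    · exact h3
  have hya : y * a = a * y⁻¹ := by
    have h1 : a * y⁻¹ * a⁻¹ = y := by
      have h2 : a * y⁻¹ * a⁻¹ = (a * y * a⁻¹)⁻¹ := by group
      rw [h2, hay, inv_inv]
    calc y * a = a * y⁻¹ * a⁻¹ * a := by rw [h1]
      _ = a * y⁻¹ := by group
  have hfixA : ∀ z, y * z * y⁻¹ = z → y * (a * z * a⁻¹) * y⁻¹ = a * z * a⁻¹ := by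
    intro z hz
    have hz' : y⁻¹ * z * y = z := by
      calc y⁻¹ * z * y = y⁻¹ * (y * z * y⁻¹) * y := by rw [hz]
        _ = z := by group
    calc y * (a * z * a⁻¹) * y⁻¹ = (y * a) * z * (y * a)⁻¹ := by group
      _ = (a * y⁻¹) * z * (a * y⁻¹)⁻¹ := by rw [hya]
      _ = a * (y⁻¹ * z * y) * a⁻¹ := by group
      _ = a * z * a⁻¹ := by rw [hz']
  have hy3conj : ∀ x, y * (y * (y * x * y⁻¹) * y⁻¹) * y⁻¹ = x := by
    intro x
    calc y * (y * (y * x * y⁻¹) * y⁻¹) * y⁻¹ = y ^ 3 * x * (y ^ 3)⁻¹ := by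
          rw [pow_succ y 2, pow_two]
          group
      _ = x := by rw [hy3]; group
  let Z : Subgroup G :=
    { carrier := {z | z ∈ Y ∧ (∀ w ∈ Y, w * z = z * w) ∧ z ^ 2 = 1}
      mul_mem' := by
        rintro x z ⟨hx1, hx2, hx3⟩ ⟨hz1, hz2, hz3⟩
        refine ⟨Y.mul_mem hx1 hz1, fun w hw => ?_, ?_⟩
        · rw [← mul_assoc, hx2 w hw, mul_assoc, hz2 w hw, mul_assoc]
        · have hc : Commute x z := hz2 x hx1
          rw [hc.mul_pow, hx3, hz3, one_mul]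
      one_mem' := ⟨Y.one_mem, fun w _ => by simp, by simp⟩
      inv_mem' := by
        rintro x ⟨hx1, hx2, hx3⟩
        refine ⟨Y.inv_mem hx1, fun w hw => ?_, by rw [inv_pow, hx3, inv_one]⟩
        have h : Commute w x := hx2 w hw
        exact h.inv_right }
  have hZn : Z.Normal := by
    refine ⟨fun z hz g => ⟨hYn.conj_mem z hz.1 g, fun w hw => ?_, ?_⟩⟩
    · have hw' : g⁻¹ * w * g ∈ Y := by
        have := hYn.conj_mem w hw g⁻¹
        rwa [inv_inv] at this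
      have h1 := hz.2.1 _ hw'
      calc w * (g * z * g⁻¹) = g * (g⁻¹ * w * g * z) * g⁻¹ := by group
        _ = g * (z * (g⁻¹ * w * g)) * g⁻¹ := by rw [h1]
        _ = g * z * g⁻¹ * w := by group
    · rw [conj_pow, hz.2.2]
      group
  have hZne : Z ≠ ⊥ := by
    obtain ⟨v, hvY, hvne⟩ := hv
    have hv1 : v ≠ 1 := by
      rintro rfl
      simp at hvne
    haveI hnt : Nontrivial Y := ⟨⟨⟨v, hvY⟩, 1, fun h => hv1 (congrArg Subtype.val h)⟩⟩
    have hcn : Nontrivial (Subgroup.center Y) := hY2.center_nontrivial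
    have hcp : IsPGroup 2 (Subgroup.center Y) := hY2.to_subgroup _
    obtain ⟨k, hk⟩ := IsPGroup.iff_card.mp hcp
    have hk0 : k ≠ 0 := by
      rintro rfl
      have := Finite.one_lt_card (α := Subgroup.center Y)
      rw [hk] at this
      simp at this
    have h2 : 2 ∣ Nat.card (Subgroup.center Y) := by
      rw [hk]
      exact dvd_pow_self 2 hk0
    obtain ⟨z, hz⟩ := exists_prime_orderOf_dvd_card' 2 h2
    have hz2 : z ^ 2 = 1 := hz ▸ pow_orderOf_eq_one z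
    have hz1 : z ≠ 1 := by
      rintro rfl
      simp at hz
    have hzZ : (((z : Subgroup.center Y) : Y) : G) ∈ Z := by
      refine ⟨(z : Y).2, fun w hw => ?_, ?_⟩
      · exact congrArg Subtype.val (Subgroup.mem_center_iff.mp z.2 ⟨w, hw⟩)
      · have h3 := congrArg (fun t : Subgroup.center Y => ((t : Y) : G)) hz2
        simpa only [Subgroup.coe_pow, Subgroup.coe_one] using h3
    intro he
    rw [he, Subgroup.mem_bot] at hzZ
    apply hz1
    apply Subtype.ext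
    exact Subtype.ext hzZ
  have hfixZ : ∀ z ∈ Z, y * z * y⁻¹ = z → z = 1 := by
    let C : Subgroup G := Z ⊓ Subgroup.centralizer ({y} : Set G)
    have hCmem : ∀ z, z ∈ C ↔ z ∈ Z ∧ y * z * y⁻¹ = z := by
      intro z
      rw [Subgroup.mem_inf, Subgroup.mem_centralizer_singleton_iff]
      constructor
      · rintro ⟨h1, h2⟩
        exact ⟨h1, by rw [← h2, mul_inv_cancel_right]⟩
      · rintro ⟨h1, h2⟩
        exact ⟨h1, (mul_inv_eq_iff_eq_mul.mp h2).symm⟩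
    have hCn : C.Normal := by
      refine hgenN C (fun u hu => norm_of_maps fun z hz => ?_) (norm_of_maps fun z hz => ?_)
        (norm_of_maps fun z hz => ?_)
      · obtain ⟨hz1, hz2⟩ := (hCmem z).mp hz
        have : u * z * u⁻¹ = z := by
          rw [hz1.2.1 u hu, mul_inv_cancel_right]
        rw [this]
        exact hz
      · obtain ⟨hz1, hz2⟩ := (hCmem z).mp hz
        exact (hCmem _).mpr ⟨hZn.conj_mem z hz1 a, hfixA z hz2⟩
      · obtain ⟨hz1, hz2⟩ := (hCmem z).mp hz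
        rw [hz2]
        exact hz
    by_cases hCb : C = ⊥
    · intro z hz hz'
      have : z ∈ C := (hCmem z).mpr ⟨hz, hz'⟩
      rw [hCb] at this
      exact this
    · exfalso
      obtain ⟨v, hvY, hvne⟩ := hv
      have ht := hmin C hCn hCb (fun z hz => ((hCmem z).mp hz).1.1) v hvY
      obtain ⟨⟨-, -, ht2⟩, ht3⟩ := (hCmem _).mp ht
      obtain ⟨t, ht⟩ : ∃ t, t = v⁻¹ * (y * v * y⁻¹) := ⟨_, rfl⟩
      rw [← ht] at ht2 ht3
      have e1 : y * v * y⁻¹ = v * t := by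
        rw [ht]
        group
      have e2 : y * (y * v * y⁻¹) * y⁻¹ = v := by
        calc y * (y * v * y⁻¹) * y⁻¹ = y * (v * t) * y⁻¹ := by rw [e1]
          _ = (y * v * y⁻¹) * (y * t * y⁻¹) := by group
          _ = v * t * t := by rw [e1, ht3]
          _ = v := by rw [mul_assoc, ← pow_two, ht2, mul_one]
      have e3 := hy3conj v
      rw [e2] at e3
      exact hvne e3
  obtain ⟨z, hz, hz1⟩ := Z.bot_or_exists_ne_one.resolve_left hZne
  have hZa : ∀ x ∈ Z, a * x * a⁻¹ ∈ Z := fun x hx => hZn.conj_mem x hx a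
  have ha2c : ∀ x ∈ Z, a * (a * x * a⁻¹) * a⁻¹ = x := by
    intro x hx
    have h1 := hx.2.1 _ ha2
    calc a * (a * x * a⁻¹) * a⁻¹ = a ^ 2 * x * (a ^ 2)⁻¹ := by
          rw [pow_two]
          group
      _ = x := by rw [h1, mul_inv_cancel_right]
  have hinvZ : ∀ x ∈ Z, x⁻¹ = x := by
    intro x hx
    rw [inv_eq_iff_mul_eq_one, ← pow_two]
    exact hx.2.2
  obtain ⟨v₀, hv₀Z, hv₀1, hav₀⟩ : ∃ v₀ ∈ Z, v₀ ≠ 1 ∧ a * v₀ * a⁻¹ = v₀ := by
    by_cases hc : z * (a * z * a⁻¹) = 1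
    · refine ⟨z, hz, hz1, ?_⟩
      rw [eq_inv_of_mul_eq_one_right hc, hinvZ z hz]
    · refine ⟨z * (a * z * a⁻¹), Z.mul_mem hz (hZa z hz), hc, ?_⟩
      calc a * (z * (a * z * a⁻¹)) * a⁻¹ = (a * z * a⁻¹) * (a * (a * z * a⁻¹) * a⁻¹) := by group
        _ = (a * z * a⁻¹) * z := by rw [ha2c z hz]
        _ = z * (a * z * a⁻¹) := ((hZa z hz).2.1 z hz.1).symm
  obtain ⟨v₁, hv₁⟩ : ∃ v₁, v₁ = y * v₀ * y⁻¹ := ⟨_, rfl⟩
  obtain ⟨v₂, hv₂⟩ : ∃ v₂, v₂ = y * v₁ * y⁻¹ := ⟨_, rfl⟩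
  have hv₁Z : v₁ ∈ Z := hv₁ ▸ hZn.conj_mem _ hv₀Z y
  have hv₂Z : v₂ ∈ Z := hv₂ ▸ hZn.conj_mem _ hv₁Z y
  have hy₂ : y * v₂ * y⁻¹ = v₀ := by
    rw [hv₂, hv₁]
    exact hy3conj v₀
  have hZc : ∀ x ∈ Z, ∀ w ∈ Z, x * w = w * x := fun x hx w hw => hw.2.1 x hx.1
  have hyconj : ∀ p q, y * (p * q) * y⁻¹ = (y * p * y⁻¹) * (y * q * y⁻¹) := by
    intro p q
    group
  have h012 : v₀ * v₁ * v₂ = 1 := by
    apply hfixZ _ (Z.mul_mem (Z.mul_mem hv₀Z hv₁Z) hv₂Z)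
    rw [hyconj, hyconj, ← hv₁, ← hv₂, hy₂]
    rw [hZc _ (Z.mul_mem hv₁Z hv₂Z) _ hv₀Z, mul_assoc]
  have r01 : v₀ * v₁ = v₂ := by
    have h1 := eq_inv_of_mul_eq_one_left h012
    rwa [hinvZ v₂ hv₂Z] at h1
  have r12 : v₁ * v₂ = v₀ := by
    have h1 := congrArg (fun t => y * t * y⁻¹) r01
    simp only [hyconj] at h1
    rwa [← hv₁, ← hv₂, hy₂] at h1
  have r20 : v₂ * v₀ = v₁ := by
    have h1 := congrArg (fun t => y * t * y⁻¹) r12
    simp only [hyconj] at h1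
    rwa [← hv₂, hy₂, ← hv₁] at h1
  have r10 : v₁ * v₀ = v₂ := by rw [hZc _ hv₁Z _ hv₀Z, r01]
  have r21 : v₂ * v₁ = v₀ := by rw [hZc _ hv₂Z _ hv₁Z, r12]
  have r02 : v₀ * v₂ = v₁ := by rw [hZc _ hv₀Z _ hv₂Z, r20]
  have s0 : v₀ * v₀ = 1 := by rw [← pow_two]; exact hv₀Z.2.2
  have s1 : v₁ * v₁ = 1 := by rw [← pow_two]; exact hv₁Z.2.2
  have s2 : v₂ * v₂ = 1 := by rw [← pow_two]; exact hv₂Z.2.2
  have av₁ : a * v₁ * a⁻¹ = v₂ := by
    rw [hv₂, hv₁]
    have h5' : a * (y * v₀ * y⁻¹) * a⁻¹ = (a * y * a⁻¹) * (a * v₀ * a⁻¹) * (a * y * a⁻¹)⁻¹ := by group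
    rw [h5', hay, hav₀, inv_inv]
    have hh' : y⁻¹ = y * y := by
      rw [inv_eq_iff_mul_eq_one, ← pow_two, ← pow_succ']
      exact hy3
    have h3' : (y * y)⁻¹ = y := by
      rw [inv_eq_iff_mul_eq_one, ← pow_two, ← pow_succ]
      exact hy3
    calc y⁻¹ * v₀ * y = (y * y) * v₀ * (y * y)⁻¹ := by rw [h3', ← hh']
      _ = y * (y * v₀ * y⁻¹) * y⁻¹ := by group
  have av₂ : a * v₂ * a⁻¹ = v₁ := by
    rw [← av₁]
    exact ha2c v₁ hv₁Z
  let U : Subgroup G :=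
    { carrier := {x | x = 1 ∨ x = v₀ ∨ x = v₁ ∨ x = v₂}
      mul_mem' := by
        intro x w hx hw
        show x * w = 1 ∨ x * w = v₀ ∨ x * w = v₁ ∨ x * w = v₂
        rcases hx with hx | hx | hx | hx <;> rcases hw with hw | hw | hw | hw <;> rw [hx, hw] <;>
          simp only [one_mul, mul_one, s0, s1, s2, r01, r10, r12, r21, r20, r02, true_or, or_true]
      one_mem' := Or.inl rfl
      inv_mem' := by
        intro x hx
        show x⁻¹ = 1 ∨ x⁻¹ = v₀ ∨ x⁻¹ = v₁ ∨ x⁻¹ = v₂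
        rcases hx with hx | hx | hx | hx <;> rw [hx]
        · simp
        · rw [hinvZ v₀ hv₀Z]
          simp
        · rw [hinvZ v₁ hv₁Z]
          simp
        · rw [hinvZ v₂ hv₂Z]
          simp }
  have hUmem : ∀ x, x ∈ U ↔ x = 1 ∨ x = v₀ ∨ x = v₁ ∨ x = v₂ := fun x => Iff.rfl
  have hUZ : ∀ x ∈ U, x ∈ Z := by
    rintro x (h | h | h | h) <;> rw [h]
    · exact Z.one_mem
    · exact hv₀Z
    · exact hv₁Z
    · exact hv₂Z
  have hUn : U.Normal := by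
    refine hgenN U (fun u hu => norm_of_maps fun x hx => ?_) (norm_of_maps fun x hx => ?_)
      (norm_of_maps fun x hx => ?_)
    · have : u * x * u⁻¹ = x := by
        rw [(hUZ x hx).2.1 u hu, mul_inv_cancel_right]
      rw [this]
      exact hx
    · rcases hx with h | h | h | h <;> rw [h]
      · simp only [mul_one, mul_inv_cancel]
        exact U.one_mem
      · rw [hav₀]
        exact Or.inr (Or.inl rfl)
      · rw [av₁]
        exact Or.inr (Or.inr (Or.inr rfl))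
      · rw [av₂]
        exact Or.inr (Or.inr (Or.inl rfl))
    · rcases hx with h | h | h | h <;> rw [h]
      · simp only [mul_one, mul_inv_cancel]
        exact U.one_mem
      · rw [← hv₁]
        exact Or.inr (Or.inr (Or.inl rfl))
      · rw [← hv₂]
        exact Or.inr (Or.inr (Or.inr rfl))
      · rw [hy₂]
        exact Or.inr (Or.inl rfl)
  have hv₀U : v₀ ∈ U := Or.inr (Or.inl rfl)
  have hUne : U ≠ ⊥ := by
    intro he
    rw [he, Subgroup.mem_bot] at hv₀U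
    exact hv₀1 hv₀U
  have hU := hmin U hUn hUne (fun x hx => (hUZ x hx).1)
  have hfactor : ∀ v ∈ Y, ∃ u₀ ∈ U, y * (v * u₀) * y⁻¹ = v * u₀ := by
    intro v hvY
    have ht := hU v hvY
    obtain ⟨t, htd⟩ : ∃ t, t = v⁻¹ * (y * v * y⁻¹) := ⟨_, rfl⟩
    rw [← htd] at ht
    have e1 : y * v * y⁻¹ = v * t := by
      rw [htd]
      group
    rcases ht with h | h | h | h
    · refine ⟨1, U.one_mem, ?_⟩
      rw [mul_one, e1, h, mul_one]
    · refine ⟨v₁, Or.inr (Or.inr (Or.inl rfl)), ?_⟩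
      rw [hyconj, e1, h, ← hv₂, mul_assoc, r02]
    · refine ⟨v₂, Or.inr (Or.inr (Or.inr rfl)), ?_⟩
      rw [hyconj, e1, h, hy₂, mul_assoc, r10]
    · refine ⟨v₀, Or.inr (Or.inl rfl), ?_⟩
      rw [hyconj, e1, h, ← hv₁, mul_assoc, r21]
  -- `C_Y(y)`
  have hC10 : ∀ c ∈ Y, y * c * y⁻¹ = c → c = 1 := by
    let C₁ : Subgroup G := Y ⊓ Subgroup.centralizer ({y} : Set G)
    have hCmem : ∀ z, z ∈ C₁ ↔ z ∈ Y ∧ y * z * y⁻¹ = z := by
      intro z
      rw [Subgroup.mem_inf, Subgroup.mem_centralizer_singleton_iff]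
      constructor
      · rintro ⟨h1, h2⟩
        exact ⟨h1, by rw [← h2, mul_inv_cancel_right]⟩
      · rintro ⟨h1, h2⟩
        exact ⟨h1, (mul_inv_eq_iff_eq_mul.mp h2).symm⟩
    have hCn : C₁.Normal := by
      refine hgenN C₁ (fun u hu => norm_of_maps fun c hc => ?_) (norm_of_maps fun c hc => ?_)
        (norm_of_maps fun c hc => ?_)
      · obtain ⟨hc1, hc2⟩ := (hCmem c).mp hc
        obtain ⟨u₀, hu₀, e⟩ := hfactor u hu
        have hcu : c * u₀ = u₀ * c := ((hUZ u₀ hu₀).2.1 c hc1)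
        have e2 : u * c * u⁻¹ = (u * u₀) * c * (u * u₀)⁻¹ := by
          calc u * c * u⁻¹ = u * (u₀ * c * u₀⁻¹) * u⁻¹ := by
                rw [← hcu, mul_inv_cancel_right]
            _ = (u * u₀) * c * (u * u₀)⁻¹ := by group
        rw [e2]
        refine (hCmem _).mpr ⟨hYn.conj_mem c hc1 _, ?_⟩
        have e3 : y * ((u * u₀) * c * (u * u₀)⁻¹) * y⁻¹ =
            (y * (u * u₀) * y⁻¹) * (y * c * y⁻¹) * (y * (u * u₀) * y⁻¹)⁻¹ := by group
        rw [e3, e, hc2]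
      · obtain ⟨hc1, hc2⟩ := (hCmem c).mp hc
        exact (hCmem _).mpr ⟨hYn.conj_mem c hc1 a, hfixA c hc2⟩
      · obtain ⟨hc1, hc2⟩ := (hCmem c).mp hc
        rw [hc2]
        exact hc
    by_cases hCb : C₁ = ⊥
    · intro c hc hc'
      have : c ∈ C₁ := (hCmem c).mpr ⟨hc, hc'⟩
      rw [hCb] at this
      exact this
    · exfalso
      obtain ⟨v, hvY, hvne⟩ := hv
      have ht := hmin C₁ hCn hCb (fun z hz => ((hCmem z).mp hz).1) v hvY
      have ht2 := ((hCmem _).mp ht).2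
      have ht3 := hfixZ _ (hUZ _ (hU v hvY)) ht2
      apply hvne
      have h1 : y * v * y⁻¹ = v * (v⁻¹ * (y * v * y⁻¹)) := by group
      rw [h1, ht3, mul_one]
  have hYU : ∀ u ∈ Y, u ∈ U := by
    intro v hvY
    obtain ⟨u₀, hu₀, e⟩ := hfactor v hvY
    have h1 := hC10 _ (Y.mul_mem hvY (hUZ u₀ hu₀).1) e
    have h2 : v = u₀⁻¹ := eq_inv_of_mul_eq_one_left h1
    rw [h2]
    exact U.inv_mem hu₀
  have ha21 : a ^ 2 = 1 := by
    apply hC10 _ ha2
    rw [pow_two]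
    have h1 : y * (a * a) * y⁻¹ = (y * a) * a * y⁻¹ := by group
    have hya2 : y⁻¹ * a = a * y := by
      have h2 : a * y = y⁻¹ * a := by
        calc a * y = a * y * a⁻¹ * a := by group
          _ = y⁻¹ * a := by rw [hay]
      exact h2.symm
    rw [h1, hya, mul_assoc a y⁻¹ a, hya2, ← mul_assoc, mul_inv_cancel_right]
  refine s4_final Y a y v₀ ha21 hy3 hay hgen hv₀Z.1 hv₀1 hav₀ ?_ ?_ ?_ hC10
  · intro u hu
    rw [← hv₁, ← hv₂]
    exact hYU u hu
  · intro u hu w hw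
    exact (hUZ w (hYU w hw)).2.1 u hu
  · intro u hu
    exact (hUZ u (hYU u hu)).2.2

end S4Core

theorem s4_core : ∀ (n : ℕ) (G : Type u) [Group G] [Finite G], Nat.card G = n →
    ∀ (Y : Subgroup G) [Y.Normal] (a y : G), IsPGroup 2 Y → a ^ 2 ∈ Y → y ^ 3 = 1 → a * y * a⁻¹ = y⁻¹ →
      Y ⊔ Subgroup.closure {a, y} = ⊤ → (∃ v ∈ Y, y * v * y⁻¹ ≠ v) → HasSec G := by
  intro n
  induction n using Nat.strong_induction_on with
  | _ n ih =>
    intro G _ _ hn Y _ a y hY2 ha2 hy3 hay hgen hv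
    by_cases hmin : ∀ R : Subgroup G, R.Normal → R ≠ ⊥ → R ≤ Y → ∀ v ∈ Y, v⁻¹ * (y * v * y⁻¹) ∈ R
    · obtain ⟨e⟩ := s4_min Y a y hY2 ha2 hy3 hay hgen hv hmin
      exact ⟨⊤, e.toMonoidHom.comp (⊤ : Subgroup G).subtype, fun x => by
        obtain ⟨g, rfl⟩ := e.surjective x
        exact ⟨⟨g, trivial⟩, rfl⟩⟩
    · push Not at hmin
      obtain ⟨R, hRn, hRb, hRY, v, hvY, hvR⟩ := hmin
      haveI := hRn
      let π := QuotientGroup.mk' R
      have hπs : Function.Surjective π := QuotientGroup.mk'_surjective R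
      have hπq : ∀ x, π x = 1 ↔ x ∈ R := fun x => by
        show (QuotientGroup.mk x : G ⧸ R) = 1 ↔ _
        exact QuotientGroup.eq_one_iff x
      have hc : Nat.card (G ⧸ R) < n := by
        have h1 := Subgroup.card_eq_card_quotient_mul_card_subgroup R
        have h3 : 1 < Nat.card R := by
          have h4 : Nat.card R ≠ 1 := fun he => hRb ((Subgroup.eq_bot_iff_card R).mpr he)
          have h5 : 0 < Nat.card R := Nat.card_pos
          omega
        have h6 : 0 < Nat.card (G ⧸ R) := Nat.card_pos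
        rw [← hn, h1]
        nlinarith
      haveI : (Y.map π).Normal := Subgroup.Normal.map inferInstance π hπs
      refine HasSec.of_surjective π hπs (ih _ hc (G ⧸ R) rfl (Y.map π) (π a) (π y) (hY2.map π)
        ⟨_, ha2, map_pow π a 2⟩ (by rw [← map_pow, hy3, map_one]) (by
          rw [← map_inv, ← map_mul, ← map_mul, hay, map_inv]) ?_ ⟨π v, ⟨v, hvY, rfl⟩, ?_⟩)
      · have h1 := congrArg (Subgroup.map π) hgen
        rw [Subgroup.map_sup, MonoidHom.map_closure, Set.image_pair, ← MonoidHom.range_eq_map,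
          MonoidHom.range_eq_top.mpr hπs] at h1
        exact h1
      · intro he
        apply hvR
        rw [← hπq]
        have h2 : π (v⁻¹ * (y * v * y⁻¹)) = (π v)⁻¹ * (π y * π v * (π y)⁻¹) := by
          simp only [map_mul, map_inv]
        rw [h2, he, inv_mul_cancel]

theorem involves_of_rel {L : Type u} [Group L] [Finite L]
    (hQ : Subgroup.centralizer ((pCore 2 L : Subgroup L) : Set L) ≤ pCore 2 L) (h : RelS3 L) :
    Involves (Equiv.Perm (Fin 4)) L := by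
  classical
  haveI : Fact (Nat.Prime 2) := ⟨Nat.prime_two⟩
  apply involves_of_hasSec
  obtain ⟨a, y, ⟨m, ham⟩, hy3, hy1, hay⟩ := h
  haveI hQn := Cfsg.Agent.Lib.FusionAlperin.pCore_normal' (X := L) 2
  have hQp := Cfsg.Agent.Lib.FusionAlperin.isPGroup_pCore' (X := L) 2
  -- `y` acts nontrivially
  obtain ⟨v, hvQ, hvne⟩ : ∃ v ∈ pCore 2 L, y * v * y⁻¹ ≠ v := by
    by_contra hno
    push Not at hno
    have hyc : y ∈ Subgroup.centralizer ((pCore 2 L : Subgroup L) : Set L) := by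
      rw [Subgroup.mem_centralizer_iff]
      intro q hq
      have h1 := hno q hq
      exact (mul_inv_eq_iff_eq_mul.mp h1).symm
    have hyQ := hQ hyc
    obtain ⟨k, hk⟩ := hQp ⟨y, hyQ⟩
    have hk' : y ^ 2 ^ k = 1 := by
      simpa only [Subgroup.coe_pow, Subgroup.coe_one] using congrArg Subtype.val hk
    have hgcd : Nat.gcd (2 ^ k) 3 = 1 := by
      apply Nat.Coprime.pow_left
      norm_num
    have h3 : y ^ Nat.gcd (2 ^ k) 3 = 1 := pow_gcd_eq_one.mpr ⟨hk', hy3⟩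
    rw [hgcd, pow_one] at h3
    exact hy1 h3
  -- the group generated
  let Y₂ : Subgroup L := pCore 2 L ⊔ Subgroup.zpowers (a ^ 2)
  have hY₂p : IsPGroup 2 Y₂ := by
    have h1 : IsPGroup 2 (Subgroup.zpowers (a ^ 2)) := by
      apply isPGroup_zpowers_of_pow (n := m)
      rw [← pow_mul, mul_comm, pow_mul, ham, one_pow]
    exact hQp.to_sup_of_normal_left h1
  have ha2c : y * a ^ 2 * y⁻¹ = a ^ 2 := by
    have h1 : a⁻¹ * y * a = y⁻¹ := by
      have h2 : a * y⁻¹ * a⁻¹ = y := by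
        have h3 : a * y⁻¹ * a⁻¹ = (a * y * a⁻¹)⁻¹ := by group
        rw [h3, hay, inv_inv]
      calc a⁻¹ * y * a = a⁻¹ * (a * y⁻¹ * a⁻¹) * a := by rw [h2]
        _ = y⁻¹ := by group
    have hya : y * a = a * y⁻¹ := by
      calc y * a = a * (a⁻¹ * y * a) := by group
        _ = a * y⁻¹ := by rw [h1]
    have hy'a : y⁻¹ * a = a * y := by
      calc y⁻¹ * a = (a * y * a⁻¹) * a := by rw [hay]
        _ = a * y := by group
    rw [pow_two]
    calc y * (a * a) * y⁻¹ = (y * a) * a * y⁻¹ := by group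
      _ = a * (y⁻¹ * a) * y⁻¹ := by rw [hya]; group
      _ = a * (a * y) * y⁻¹ := by rw [hy'a]
      _ = a * a := by group
  have hnormY₂ : ∀ g, (∀ q ∈ pCore 2 L, g * q * g⁻¹ ∈ pCore 2 L) → g * a ^ 2 * g⁻¹ = a ^ 2 →
      g ∈ Subgroup.normalizer ((Y₂ : Subgroup L) : Set L) := by
    intro g h1 h2
    apply norm_of_maps
    have hle : Y₂ ≤ Y₂.comap (MulAut.conj g).toMonoidHom := by
      refine sup_le (fun q hq => ?_) ?_
      · exact Subgroup.mem_sup_left (h1 q hq)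
      · rw [Subgroup.zpowers_le]
        show g * a ^ 2 * g⁻¹ ∈ Y₂
        rw [h2]
        exact Subgroup.mem_sup_right (Subgroup.mem_zpowers _)
    exact fun x hx => hle hx
  let G₀ : Subgroup L := Y₂ ⊔ Subgroup.closure {a, y}
  have hY₂G : Y₂ ≤ G₀ := le_sup_left
  have haG : a ∈ G₀ := Subgroup.mem_sup_right (Subgroup.subset_closure (Or.inl rfl))
  have hyG : y ∈ G₀ := Subgroup.mem_sup_right (Subgroup.subset_closure (Or.inr rfl))
  have hG₀N : G₀ ≤ Subgroup.normalizer ((Y₂ : Subgroup L) : Set L) := by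
    refine sup_le Subgroup.le_normalizer ?_
    rw [Subgroup.closure_le]
    rintro x (rfl | rfl)
    · refine hnormY₂ _ (fun q hq => hQn.conj_mem q hq _) ?_
      rw [pow_two]
      group
    · exact hnormY₂ _ (fun q hq => hQn.conj_mem q hq _) ha2c
  haveI hYn : (Y₂.subgroupOf G₀).Normal := (Subgroup.normal_subgroupOf_iff_le_normalizer hY₂G).mpr hG₀N
  apply HasSec.of_subgroup G₀
  refine s4_core _ G₀ rfl (Y₂.subgroupOf G₀) ⟨a, haG⟩ ⟨y, hyG⟩
    (hY₂p.comap_of_injective G₀.subtype Subtype.val_injective) ?_ ?_ ?_ ?_ ?_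
  · apply Subgroup.mem_subgroupOf.mpr
    exact Subgroup.mem_sup_right (Subgroup.mem_zpowers _)
  · exact Subtype.ext hy3
  · exact Subtype.ext hay
  · apply Subgroup.map_injective G₀.subtype_injective
    rw [Subgroup.map_sup, MonoidHom.map_closure, Set.image_pair]
    have h1 : (Y₂.subgroupOf G₀).map G₀.subtype = Y₂ := by
      rw [Subgroup.map_subgroupOf_eq_of_le hY₂G]
    rw [h1, ← MonoidHom.range_eq_map, Subgroup.range_subtype]
    rfl
  · refine ⟨⟨v, hY₂G (Subgroup.mem_sup_left hvQ)⟩, Subgroup.mem_subgroupOf.mpr (Subgroup.mem_sup_left hvQ), ?_⟩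
    intro he
    exact hvne (congrArg Subtype.val he)

end Cfsg.Agent.Lib.ThmOS4
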