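import Cfsg.Agent.Lib.ThmOMain
import Cfsg.Agent.Lib.ThmOS4
import Cfsg.Agent.Lib.FusionJGen
import Cfsg.Agent.Lib.FusionModelUniq
import Cfsg.Agent.Lib.FusionNormSat
import Cfsg.Agent.Lib.FusionModelExist

/-!
Recursion for the normal complement theorem for fusion systems: basic transport statements and the
normalizer step.
-/

set_option autoImplicit false

universe u

namespace Cfsg.Agent.Lib.ThmOFus

open Cfsg Cfsg.FusionSystem Cfsg.Agent.Lib.FusionBasic Cfsg.Agent.Lib.FusionAut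
  Cfsg.Agent.Lib.FusionSat Cfsg.Agent.Lib.FusionModel Cfsg.Agent.Lib.FusionLocal
  Cfsg.Agent.Lib.FusionLocalModel Cfsg.Agent.Lib.FusionAlperin Cfsg.Agent.Lib.FusionJFactor
  Cfsg.Agent.Lib.FusionCenCtl Cfsg.Agent.Lib.FusionCenQuad Cfsg.Agent.Lib.FusionGrun
  Cfsg.Agent.Lib.FusionNormal Cfsg.Agent.Lib.FusionJGen Cfsg.Agent.Lib.ThmOS3 Cfsg.Agent.Lib.ThmOMain

section A

variable {Ω : Type u} [Group Ω] {S : Subgroup Ω} {p : ℕ}

/-- No section of type `S₃` in automizers of centric subgroups above the core. -/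
def NoS3 (F : FusionSystem S) : Prop :=
  ∀ Q : Subgroup Ω, F.core ≤ Q → F.IsCentric Q → ¬ Sec ↥(F.autGroup Q)

/-- The statement of the recursion. -/
def ThmP (S : Subgroup Ω) (F : FusionSystem S) (p : ℕ) : Prop :=
  (p = 2 → NoS3 F) →
  (∀ (P : Subgroup Ω) (φ : P →* Ω), φ ∈ F.centralizerHom (Zf S) P → φ ∈ (innerFusionSystem S).Hom P) →
  (∀ (P : Subgroup Ω) (φ : P →* Ω), φ ∈ F.normalizerHom (Jf S) P → φ ∈ (innerFusionSystem S).Hom P) →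
  ∀ (P : Subgroup Ω) (φ : P →* Ω), φ ∈ F.Hom P → φ ∈ (innerFusionSystem S).Hom P

theorem inner_mono {S' : Subgroup Ω} (h : S' ≤ S) {P : Subgroup Ω} {φ : P →* Ω}
    (hφ : φ ∈ (innerFusionSystem S').Hom P) : φ ∈ (innerFusionSystem S).Hom P := by
  obtain ⟨hP, g, hg, e⟩ := hφ
  exact ⟨hP.trans h, g, h hg, e⟩

theorem norm_of_values {H : Subgroup Ω} {s : Ω} (h1 : ∀ x ∈ H, s * x * s⁻¹ ∈ H)
    (h2 : ∀ y ∈ H, ∃ x ∈ H, s * x * s⁻¹ = y) : s ∈ Subgroup.normalizer (H : Set Ω) := by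
  rw [Subgroup.mem_normalizer_iff]
  intro x
  refine ⟨h1 x, fun hx => ?_⟩
  obtain ⟨x', hx', e⟩ := h2 _ hx
  have : x' = x := by
    have e2 : s * x' = s * x := mul_right_cancel e
    exact mul_left_cancel e2
  exact this ▸ hx'

/-- The extension of an inner map preserving `H` gives an inner map of `N_S(H)`. -/
theorem inner_of_ext {D H R : Subgroup Ω} {ψ : D →* Ω} (hψ : ψ ∈ (innerFusionSystem S).Hom D)
    (hHD : H ≤ D) (h1 : ∀ x (hx : x ∈ H), ψ ⟨x, hHD hx⟩ ∈ H)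
    (h2 : ∀ y ∈ H, ∃ x, ∃ hx : x ∈ H, ψ ⟨x, hHD hx⟩ = y)
    (hRD : R ≤ D) (hR : R ≤ normalizerIn S H) {χ : R →* Ω}
    (hχ : ∀ x : R, χ x = ψ (Subgroup.inclusion hRD x)) :
    χ ∈ (innerFusionSystem (normalizerIn S H)).Hom R := by
  obtain ⟨hD, s, hs, e⟩ := hψ
  refine ⟨hR, s, ⟨hs, ?_⟩, fun x => ?_⟩
  · apply norm_of_values
    · intro x hx
      have := h1 x hx
      rwa [e] at this
    · intro y hy
      obtain ⟨x, hx, e2⟩ := h2 y hy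
      rw [e] at e2
      exact ⟨x, hx, e2⟩
  · rw [hχ, e]
    rfl

theorem aut_mem_norm {F : FusionSystem S} {Q : Subgroup Ω} {β : Q →* Ω} (hβ : β ∈ F.Hom Q)
    (hr : β.range = Q) : β ∈ F.normalizerHom Q Q := by
  have hQS := source_le F hβ
  have hle : Q ⊔ Q ≤ Q := sup_le le_rfl le_rfl
  refine ⟨hβ, le_normalizerIn hQS, fun x => le_normalizerIn hQS (hr.le ⟨x, rfl⟩),
    β.comp (Subgroup.inclusion hle), restrict_mem F hβ hle, fun x => rfl, ?_⟩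
  rw [map_subgroupOf_sup_eq_iff]
  constructor
  · intro x hx
    exact hr.le ⟨_, rfl⟩
  · intro y hy
    have h : y ∈ β.range := hr.ge hy
    obtain ⟨x, rfl⟩ := h
    exact ⟨x, x.2, rfl⟩

theorem Jf_mono {T₁ T₂ X : Subgroup Ω} [Finite T₂] (h₁₂ : T₁ ≤ T₂) (hXT : X ≤ T₁)
    (h : Jf T₂ ≤ X) : Jf T₁ ≤ X := by
  have h1 : sSup (mabs T₂) ≤ T₁ := by
    rw [← Jf_eq]
    exact h.trans hXT
  rw [Jf_eq, sSup_mabs_eq_of_le h1 h₁₂, ← Jf_eq]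
  exact h

theorem Jf_mono_eq {T₁ T₂ X : Subgroup Ω} [Finite T₂] (h₁₂ : T₁ ≤ T₂) (hXT : X ≤ T₁)
    (h : Jf T₂ ≤ X) : Jf T₁ = Jf T₂ := by
  have h1 : sSup (mabs T₂) ≤ T₁ := by
    rw [← Jf_eq]
    exact h.trans hXT
  rw [Jf_eq, sSup_mabs_eq_of_le h1 h₁₂, ← Jf_eq]

/-- Case `J(S) ≤ X` with `X` normal in the system. -/
theorem case_J [Finite S] {F E : FusionSystem S} {X : Subgroup Ω} (hX : F.IsNormal X) (hJ : Jf S ≤ X)
    (hN : ∀ (P : Subgroup Ω) (φ : P →* Ω), φ ∈ F.normalizerHom (Jf S) P → φ ∈ E.Hom P)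
    (P : Subgroup Ω) (φ : P →* Ω) (hφ : φ ∈ F.Hom P) : φ ∈ E.Hom P := by
  obtain ⟨φ₁, hφ₁, hext, hmap⟩ := hX.2 P φ hφ
  obtain ⟨hm1, hm2⟩ := (map_subgroupOf_sup_eq_iff φ₁).mp hmap
  have hXS : X ≤ S := hX.1
  have hJJ : Jf X = Jf S := Jf_mono_eq hXS le_rfl hJ
  have hα : φ₁.comp (Subgroup.inclusion le_sup_right) ∈ F.Hom X := restrict_mem F hφ₁ le_sup_right
  have hαr : (φ₁.comp (Subgroup.inclusion (le_sup_right : X ≤ P ⊔ X))).range = X := by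
    ext y
    constructor
    · rintro ⟨x, rfl⟩
      exact hm1 x x.2
    · intro hy
      obtain ⟨x, hx, e⟩ := hm2 y hy
      exact ⟨⟨x, hx⟩, e⟩
  have hle : P ⊔ Jf S ≤ P ⊔ X := sup_le_sup_left hJ _
  have h1 := mem_norm hN rfl (restrict_mem F hφ₁ hle) (by
    rw [map_subgroupOf_sup_eq_iff]
    constructor
    · intro x hx
      have hx' : x ∈ Jf X := hJJ ▸ hx
      have := map_Jf hα hαr (y := ⟨x, hJ hx⟩) hx'
      rw [hJJ] at this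
      exact this
    · intro y hy
      have hy' : y ∈ Jf X := hJJ ▸ hy
      obtain ⟨y₀, hy₀, e⟩ := map_Jf_surj hα hαr hy'
      have hy₀' : (y₀ : Ω) ∈ Jf S := hJJ ▸ hy₀
      exact ⟨y₀, hy₀', e⟩)
  exact hom_of_eq h1 fun x => (hext x).symm

/-- Transporting a map along another map of the system. -/
theorem transport_hom {F : FusionSystem S} {A D : Subgroup Ω} {ζ : A →* Ω} (hζ : ζ ∈ F.Hom A)
    (hDA : D ≤ A) {ψ : D →* Ω} (hψ : ψ ∈ F.Hom D) (hv : ∀ d, ψ d ∈ A) :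
    ∃ ψ₃ ∈ F.Hom (ζ.comp (Subgroup.inclusion hDA)).range,
      ∀ d : D, ψ₃ ⟨ζ (Subgroup.inclusion hDA d), ⟨d, rfl⟩⟩ = ζ ⟨ψ d, hv d⟩ := by
  have hζ₁ := restrict_mem F hζ hDA
  obtain ⟨κ, hκ, hκ1, hκ2, hκ3⟩ := exists_inverse F hζ₁ rfl
  obtain ⟨χ₁, hχ₁, eχ₁⟩ := exists_comp F hκ hψ (fun y => hκ2 y)
  obtain ⟨χ, hχ, eχ⟩ := exists_comp F hχ₁ hζ (fun y => by rw [eχ₁]; exact hv _)
  refine ⟨χ, hχ, fun d => ?_⟩
  rw [eχ]
  have e1 : χ₁ ⟨ζ (Subgroup.inclusion hDA d), ⟨d, rfl⟩⟩ = ψ d := by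
    rw [eχ₁]
    congr 1
    exact Subtype.ext (hκ1 d ⟨d, rfl⟩)
  congr 1
  exact Subtype.ext e1

/-- A normal subgroup is preserved by every map whose source contains it. -/
theorem closed_surj [Finite S] {F : FusionSystem S} {X P : Subgroup Ω} (hX : F.IsNormal X) (hXP : X ≤ P)
    {φ : P →* Ω} (hφ : φ ∈ F.Hom P) : (φ.comp (Subgroup.inclusion hXP)).range = X :=
  (StronglyClosed.weaklyClosed (IsNormal.stronglyClosed hX)).2 _ (restrict_mem F hφ hXP)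

theorem closed_mem [Finite S] {F : FusionSystem S} {X P : Subgroup Ω} (hX : F.IsNormal X) (hXP : X ≤ P)
    {φ : P →* Ω} (hφ : φ ∈ F.Hom P) (x : Ω) (hx : x ∈ X) : φ ⟨x, hXP hx⟩ ∈ X := by
  have h := closed_surj hX hXP hφ
  rw [← h]
  exact ⟨⟨x, hx⟩, rfl⟩

theorem closed_ex [Finite S] {F : FusionSystem S} {X P : Subgroup Ω} (hX : F.IsNormal X) (hXP : X ≤ P)
    {φ : P →* Ω} (hφ : φ ∈ F.Hom P) (y : Ω) (hy : y ∈ X) : ∃ x, ∃ hx : x ∈ X, φ ⟨x, hXP hx⟩ = y := by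
  have h := closed_surj hX hXP hφ
  rw [← h] at hy
  obtain ⟨x, rfl⟩ := hy
  exact ⟨x, x.2, rfl⟩

/-- The condition `J(T) ≰ core` passes along maps of the system. -/
theorem Jcond_conj [Finite S] {F : FusionSystem S} {X T₁ T₂ : Subgroup Ω} (hX : F.IsNormal X)
    {ζ : T₁ →* Ω} (hζ : ζ ∈ F.Hom T₁) (hv : ∀ x, ζ x ∈ T₂) (hT₂ : T₂ ≤ S) (hXT : X ≤ T₁)
    (hJ : ¬ Jf T₁ ≤ X) : ¬ Jf T₂ ≤ X := by
  intro hJ₂
  apply hJ
  haveI : Finite T₂ := finite_of_le hT₂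
  have hrT : ζ.range ≤ T₂ := by
    rintro _ ⟨x, rfl⟩
    exact hv x
  have hXr : X ≤ ζ.range := by
    intro x hx
    obtain ⟨x₀, hx₀, e⟩ := closed_ex hX hXT hζ x hx
    exact ⟨_, e⟩
  have h1 : Jf ζ.range ≤ X := Jf_mono hrT hXr hJ₂
  intro x hx
  have h2 := map_Jf hζ rfl (y := ⟨x, Jf_le T₁ hx⟩) hx
  obtain ⟨x₀, hx₀, e⟩ := closed_ex hX hXT hζ _ (h1 h2)
  have h3 : (⟨x₀, hXT hx₀⟩ : T₁) = ⟨x, Jf_le T₁ hx⟩ := F.injective_of_mem hζ e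
  have h4 : x₀ = x := congrArg Subtype.val h3
  exact h4 ▸ hx₀

variable [Fact p.Prime]

/-- A centric subgroup of `N_F(H)` containing a fully normalized `H` is centric. -/
theorem centric_of_norm [Finite S] (hS : IsPGroup p S) {F : FusionSystem S} (hF : F.IsSaturated p)
    {H Q' : Subgroup Ω} (hHn : F.IsFullyNormalized H) (hHQ : H ≤ Q')
    (hc : (normalizerSystem F H hHn.1).IsCentric Q') : F.IsCentric Q' := by
  have hHS : H ≤ S := hHn.1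
  have hQ'T : Q' ≤ normalizerIn S H := hc.1
  have hQ'S : Q' ≤ S := hQ'T.trans inf_le_left
  refine ⟨hQ'S, ?_⟩
  rintro Q'' ⟨ρ, hρ, rfl⟩
  -- the image of `H`
  set X₁ := (ρ.comp (Subgroup.inclusion hHQ)).range with hX₁
  have hconj : F.IsConj X₁ H := isConj_symm F ⟨_, restrict_mem F hρ hHQ, rfl⟩
  obtain ⟨ζ, hζ, hv, hin, hsurj⟩ := IsSaturated.exists_normalizer_map hS hF hHn hconj
  have hX₁sub : ∀ x, ∀ hx : x ∈ H, ρ ⟨x, hHQ hx⟩ ∈ X₁ := fun x hx => ⟨⟨x, hx⟩, rfl⟩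
  -- `ρ(Q') ≤ N_S(X₁)`
  have hNorm : ∀ q : Q', ρ q ∈ normalizerIn S X₁ := by
    intro q
    refine ⟨map_mem_S F hρ q, ?_⟩
    show ρ q ∈ Subgroup.normalizer (X₁ : Set Ω)
    have hqH : (q : Ω) ∈ Subgroup.normalizer (H : Set Ω) := (hQ'T q.2).2
    have hqH' := Subgroup.mem_normalizer_iff.mp hqH
    apply norm_of_values
    · rintro _ ⟨⟨x, hx⟩, rfl⟩
      have h1 : (q : Ω) * x * (q : Ω)⁻¹ ∈ H := (hqH' x).mp hx
      refine ⟨⟨_, h1⟩, ?_⟩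
      show ρ ⟨(q : Ω) * x * (q : Ω)⁻¹, hHQ h1⟩ = _
      have e : (⟨(q : Ω) * x * (q : Ω)⁻¹, hHQ h1⟩ : Q') = q * ⟨x, hHQ hx⟩ * q⁻¹ := rfl
      rw [e, map_mul, map_mul, map_inv]
      rfl
    · rintro _ ⟨⟨x, hx⟩, rfl⟩
      have h1 : (q : Ω)⁻¹ * x * (q : Ω)⁻¹⁻¹ ∈ H := by
        have := (Subgroup.mem_normalizer_iff.mp (Subgroup.inv_mem _ hqH) x).mp hx
        exact this
      refine ⟨_, ⟨⟨_, h1⟩, rfl⟩, ?_⟩
      show ρ q * ρ ⟨(q : Ω)⁻¹ * x * (q : Ω)⁻¹⁻¹, hHQ h1⟩ * (ρ q)⁻¹ = ρ ⟨x, hHQ hx⟩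
      have e : (⟨(q : Ω)⁻¹ * x * (q : Ω)⁻¹⁻¹, hHQ h1⟩ : Q') = q⁻¹ * ⟨x, hHQ hx⟩ * q := by
        apply Subtype.ext
        show (q : Ω)⁻¹ * x * (q : Ω)⁻¹⁻¹ = (q : Ω)⁻¹ * x * q
        rw [inv_inv]
      rw [e, map_mul, map_mul, map_inv]
      group
  have hrange : ρ.range ≤ normalizerIn S X₁ := by
    rintro _ ⟨q, rfl⟩
    exact hNorm q
  -- the composition `σ = ζ ρ`
  obtain ⟨σ, hσ, eσ⟩ := exists_comp F hρ hζ hNorm
  have hσH : ∀ (x : Ω) (hx : x ∈ H), σ ⟨x, hHQ hx⟩ ∈ H := by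
    intro x hx
    rw [eσ]
    exact hin _ (hX₁sub x hx) _
  have hσHs : ∀ y ∈ H, ∃ x, ∃ hx : x ∈ H, σ ⟨x, hHQ hx⟩ = y := by
    intro y hy
    obtain ⟨x₁, hx₁, hN, e⟩ := hsurj y hy
    obtain ⟨⟨x, hx⟩, rfl⟩ := hx₁
    refine ⟨x, hx, ?_⟩
    rw [eσ]
    exact e
  have hle : Q' ⊔ H ≤ Q' := sup_le le_rfl hHQ
  have hσN : σ ∈ F.normalizerHom H Q' := by
    refine ⟨hσ, hQ'T, fun x => ?_, σ.comp (Subgroup.inclusion hle), restrict_mem F hσ hle, fun x => rfl, ?_⟩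
    · rw [eσ]
      exact hv _
    · rw [map_subgroupOf_sup_eq_iff]
      constructor
      · intro x hx
        exact hσH x hx
      · intro y hy
        obtain ⟨x, hx, e⟩ := hσHs y hy
        exact ⟨x, hx, e⟩
  have hc2 := hc.2 σ.range ⟨σ, hσN, rfl⟩
  rintro c ⟨hcS, hcC⟩
  have hcC' := Subgroup.mem_centralizer_iff.mp hcC
  -- `c` normalizes `X₁` and `ζ c` centralizes `σ(Q')`
  have hcN : c ∈ normalizerIn S X₁ := by
    refine ⟨hcS, ?_⟩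
    show c ∈ Subgroup.normalizer (X₁ : Set Ω)
    rw [Subgroup.mem_normalizer_iff]
    intro h
    have hh : ∀ h ∈ X₁, c * h * c⁻¹ = h := by
      rintro _ ⟨⟨x, hx⟩, rfl⟩
      have := hcC' _ (⟨⟨x, hHQ hx⟩, rfl⟩ : ρ ⟨x, hHQ hx⟩ ∈ ρ.range)
      show c * ρ ⟨x, hHQ hx⟩ * c⁻¹ = ρ ⟨x, hHQ hx⟩
      rw [← this, mul_inv_cancel_right]
    constructor
    · intro hm
      rw [hh h hm]
      exact hm
    · intro hm
      have h1 : (c⁻¹ * (c * h * c⁻¹) * c) = h := by group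
      have h2 : ∀ h' ∈ X₁, c⁻¹ * h' * c = h' := by
        intro h' hh'
        have := hh h' hh'
        calc c⁻¹ * h' * c = c⁻¹ * (c * h' * c⁻¹) * c := by rw [this]
          _ = h' := by group
      rw [← h1, h2 _ hm]
      exact hm
  have hζc : ζ ⟨c, hcN⟩ ∈ normalizerIn S H := hv _
  have hmem : ζ ⟨c, hcN⟩ ∈ σ.range := by
    apply hc2
    refine ⟨hζc, ?_⟩
    show ζ ⟨c, hcN⟩ ∈ Subgroup.centralizer ((σ.range : Subgroup Ω) : Set Ω)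
    rw [Subgroup.mem_centralizer_iff]
    rintro _ ⟨q, rfl⟩
    rw [eσ, ← map_mul, ← map_mul]
    congr 1
    exact Subtype.ext (hcC' _ ⟨q, rfl⟩)
  obtain ⟨q, hq⟩ := hmem
  rw [eσ] at hq
  have h5 := F.injective_of_mem hζ hq
  have h6 : ρ q = c := congrArg Subtype.val h5
  exact ⟨q, h6⟩

/-- `NoS3` passes to normalizer systems. -/
theorem noS3_inherit [Finite S] (hS : IsPGroup p S) {F : FusionSystem S} (hF : F.IsSaturated p)
    {H : Subgroup Ω} (hHn : F.IsFullyNormalized H) (hcH : F.core ≤ H) (h : NoS3 F) :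
    NoS3 (normalizerSystem F H hHn.1) := by
  intro R hR hRc hsec
  have hHS : H ≤ S := hHn.1
  have hNs := isNormalizerSystem_normalizerSystem F H hHS
  have hHcore : H ≤ (normalizerSystem F H hHS).core :=
    IsNormal.le_core (isNormal_normalizerSystem hNs hHS)
  have hHR : H ≤ R := hHcore.trans hR
  have hRF := centric_of_norm hS hF hHn hHR hRc
  refine h R (hcH.trans hHR) hRF ?_
  have hle : (normalizerSystem F H hHS).autGroup R ≤ F.autGroup R := by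
    intro α hα
    rw [mem_autGroup_iff _ hRc.1] at hα
    rw [mem_autGroup_iff F hRF.1]
    exact hα.1
  exact Sec.of_injective (Subgroup.inclusion hle) (Subgroup.inclusion_injective hle) hsec

end A

end Cfsg.Agent.Lib.ThmOFus
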