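import Cfsg.Agent.Lib.ThmOFusA

/-!
The normalizer step of the recursion and the case of a non-constrained system.
-/

set_option autoImplicit false

universe u

namespace Cfsg.Agent.Lib.ThmOFus

open Cfsg Cfsg.FusionSystem Cfsg.Agent.Lib.FusionBasic Cfsg.Agent.Lib.FusionAut
  Cfsg.Agent.Lib.FusionSat Cfsg.Agent.Lib.FusionModel Cfsg.Agent.Lib.FusionLocal
  Cfsg.Agent.Lib.FusionLocalModel Cfsg.Agent.Lib.FusionAlperin Cfsg.Agent.Lib.FusionJFactor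
  Cfsg.Agent.Lib.FusionCenCtl Cfsg.Agent.Lib.FusionCenQuad Cfsg.Agent.Lib.FusionGrun
  Cfsg.Agent.Lib.FusionNormal Cfsg.Agent.Lib.FusionJGen Cfsg.Agent.Lib.ThmOS3 Cfsg.Agent.Lib.ThmOMain

section B

variable {Ω : Type u} [Group Ω] {S : Subgroup Ω} {p : ℕ}

theorem mem_cent_Z {F E : FusionSystem S}
    (hC : ∀ (P : Subgroup Ω) (φ : P →* Ω), φ ∈ F.centralizerHom (Zf S) P → φ ∈ E.Hom P)
    {R : Subgroup Ω} {ψ : ↥(R ⊔ Zf S) →* Ω} (hψ : ψ ∈ F.Hom (R ⊔ Zf S))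
    (hfix : ∀ v : Zf S, ψ (Subgroup.inclusion le_sup_right v) = v) :
    ψ.comp (Subgroup.inclusion le_sup_left) ∈ E.Hom R := by
  have hsS : R ⊔ Zf S ≤ S := source_le F hψ
  have hRS : R ≤ S := le_sup_left.trans hsS
  have hcen : ∀ {x : Ω}, x ∈ S → x ∈ centralizerIn S (Zf S) := by
    intro x hx
    refine ⟨hx, ?_⟩
    show x ∈ Subgroup.centralizer ((Zf S : Subgroup Ω) : Set Ω)
    rw [Subgroup.mem_centralizer_iff]
    intro v hv
    exact ((mem_Zf.mp hv).2 x hx).symm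
  exact hC R _ ⟨restrict_mem F hψ le_sup_left, fun x hx => hcen (hRS hx),
    fun x => hcen (map_mem_S F hψ _), ψ, hψ, fun x => rfl, hfix⟩

theorem norm_sup {A B : Subgroup Ω} {g : Ω} (hA : g ∈ Subgroup.normalizer (A : Set Ω))
    (hB : g ∈ Subgroup.normalizer (B : Set Ω)) :
    g ∈ Subgroup.normalizer ((A ⊔ B : Subgroup Ω) : Set Ω) := by
  have key : ∀ g : Ω, g ∈ Subgroup.normalizer (A : Set Ω) → g ∈ Subgroup.normalizer (B : Set Ω) →
      ∀ h ∈ A ⊔ B, g * h * g⁻¹ ∈ A ⊔ B := by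
    intro g hA hB h hh
    have hle : A ⊔ B ≤ (A ⊔ B).comap (MulAut.conj g).toMonoidHom := by
      refine sup_le (fun a ha => ?_) (fun b hb => ?_)
      · exact Subgroup.mem_sup_left ((Subgroup.mem_normalizer_iff.mp hA a).mp ha)
      · exact Subgroup.mem_sup_right ((Subgroup.mem_normalizer_iff.mp hB b).mp hb)
    exact hle hh
  rw [Subgroup.mem_normalizer_iff]
  intro h
  refine ⟨key g hA hB h, fun hh => ?_⟩
  have := key g⁻¹ (Subgroup.inv_mem _ hA) (Subgroup.inv_mem _ hB) _ hh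
  have e : g⁻¹ * (g * h * g⁻¹) * g⁻¹⁻¹ = h := by group
  rwa [e] at this

theorem restrict_sup_onto {F : FusionSystem S} [Finite S] {A B D : Subgroup Ω} (hAD : A ≤ D) (hBD : B ≤ D)
    {ψ : D →* Ω} (hψ : ψ ∈ F.Hom D)
    (hA : ∀ x (hx : x ∈ A), ψ ⟨x, hAD hx⟩ ∈ A) (hB : ∀ x (hx : x ∈ B), ψ ⟨x, hBD hx⟩ ∈ B) :
    (∀ x (hx : x ∈ A ⊔ B), ψ ⟨x, (sup_le hAD hBD) hx⟩ ∈ A ⊔ B) ∧
      ∀ y ∈ A ⊔ B, ∃ x, ∃ hx : x ∈ A ⊔ B, ψ ⟨x, (sup_le hAD hBD) hx⟩ = y := by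
  have hDS : D ≤ S := source_le F hψ
  have hAB : A ⊔ B ≤ D := sup_le hAD hBD
  have h1 : ∀ w, (ψ.comp (Subgroup.inclusion hAB)) w ∈ A ⊔ B := by
    refine sup_values_mem (ψ.comp (Subgroup.inclusion hAB)) ?_ ?_
    · intro x hx
      exact Subgroup.mem_sup_left (hA x hx)
    · intro x hx
      exact Subgroup.mem_sup_right (hB x hx)
  refine ⟨fun x hx => h1 ⟨x, hx⟩, fun y hy => ?_⟩
  haveI : Finite ↥(A ⊔ B) := finite_of_le (hAB.trans hDS)
  have hr : (ψ.comp (Subgroup.inclusion hAB)).range = A ⊔ B := by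
    apply Subgroup.eq_of_le_of_card_ge
    · rintro _ ⟨w, rfl⟩
      exact h1 w
    · rw [card_range_eq F (restrict_mem F hψ hAB)]
  rw [← hr] at hy
  obtain ⟨w, rfl⟩ := hy
  exact ⟨w, w.2, rfl⟩

variable [Fact p.Prime]

theorem transport_hom' {F : FusionSystem S} {A D : Subgroup Ω} {ζ : A →* Ω} (hζ : ζ ∈ F.Hom A)
    (hDA : D ≤ A) {ψ : D →* Ω} (hψ : ψ ∈ F.Hom D) (hv : ∀ d, ψ d ∈ A) :
    ∃ (D' : Subgroup Ω) (ψ₃ : D' →* Ω), D' = (ζ.comp (Subgroup.inclusion hDA)).range ∧ ψ₃ ∈ F.Hom D' ∧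
      ∀ (d : D) (w : Ω) (hw : w ∈ D'), w = ζ (Subgroup.inclusion hDA d) → ψ₃ ⟨w, hw⟩ = ζ ⟨ψ d, hv d⟩ := by
  obtain ⟨ψ₃, hψ₃, e₃⟩ := transport_hom hζ hDA hψ hv
  refine ⟨_, ψ₃, rfl, hψ₃, ?_⟩
  rintro d _ hw rfl
  exact e₃ d

/-- The conjugation argument: a map preserving `H` and `J(N_S(H))`, with `N_S(H) < S`. -/
theorem b_step_aux [Finite S] (hS : IsPGroup p S) {F : FusionSystem S} (hF : F.IsSaturated p) {n : ℕ}
    (hB : ∀ Y : Subgroup Ω, F.IsFullyNormalized Y → F.core ≤ Y → Y ≠ F.core →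
      ¬ Jf (normalizerIn S Y) ≤ F.core → n + 1 ≤ Nat.card (normalizerIn S Y) →
      ∀ (P : Subgroup Ω) (φ : P →* Ω), φ ∈ F.normalizerHom Y P → φ ∈ (innerFusionSystem S).Hom P)
    {H T : Subgroup Ω} (hTdef : T = normalizerIn S H) (hHn : F.IsFullyNormalized H) (hcH : F.core ≤ H)
    (hJ : ¬ Jf T ≤ F.core) (hcard : n ≤ Nat.card T)
    (hTlt : T < S) {D : Subgroup Ω} (hDT : D ≤ T) (hHD : H ≤ D)
    (hJD : Jf T ≤ D) {ψ : D →* Ω} (hψ : ψ ∈ F.Hom D)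
    (hvT : ∀ d, ψ d ∈ T)
    (hm1 : ∀ x (hx : x ∈ H), ψ ⟨x, hHD hx⟩ ∈ H)
    (hm2 : ∀ y ∈ H, ∃ x, ∃ hx : x ∈ H, ψ ⟨x, hHD hx⟩ = y)
    (hj1 : ∀ x (hx : x ∈ Jf T), ψ ⟨x, hJD hx⟩ ∈ Jf T) :
    ∃ t ∈ T, ∀ d : D, ψ d = t * d * t⁻¹ := by
  have hX := isNormal_core F
  have hXS : F.core ≤ S := hX.1
  have hST : S ≤ Subgroup.normalizer (F.core : Set Ω) :=
    StronglyClosed.le_normalizer (IsNormal.stronglyClosed hX)
  have hHT : H ≤ T := hTdef ▸ le_normalizerIn hHn.1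
  have hcoreT : F.core ≤ T := hcH.trans hHT
  have hTS : T ≤ S := hTlt.le
  haveI hfT : Finite T := finite_of_le hTS
  obtain ⟨Y, hY⟩ : ∃ Y, Y = Jf T ⊔ F.core := ⟨_, rfl⟩
  have hYT : Y ≤ T := hY ▸ sup_le (Jf_le T) hcoreT
  have hYS : Y ≤ S := hYT.trans hTS
  have hTNY : normalizerIn S T ≤ normalizerIn S Y := by
    intro g hg
    refine ⟨hg.1, ?_⟩
    rw [hY]
    exact norm_sup ((normalizerIn_le_normalizerIn_Jf (S := S) T hg).2) (hST hg.1)
  have hTlt2 := lt_normalizerIn hS hTlt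
  have hTY : T ≤ normalizerIn S Y := hTlt2.le.trans hTNY
  haveI hfNT : Finite ↥(normalizerIn S T) := finite_of_le inf_le_left
  haveI hfNY : Finite ↥(normalizerIn S Y) := finite_of_le inf_le_left
  have hc1 : n + 1 ≤ Nat.card (normalizerIn S Y) := by
    have h1 : Nat.card T < Nat.card ↥(normalizerIn S T) :=
      lt_of_not_ge fun hge => hTlt2.ne (Subgroup.eq_of_le_of_card_ge hTlt2.le hge)
    have h2 : Nat.card ↥(normalizerIn S T) ≤ Nat.card ↥(normalizerIn S Y) :=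
      Subgroup.card_le_of_le hTNY
    omega
  have hJY : ¬ Jf (normalizerIn S Y) ≤ F.core := fun h => hJ (Jf_mono hTY hcoreT h)
  obtain ⟨Y', hconj, hY'⟩ := exists_isConj_fullyNormalized F hYS
  obtain ⟨ζ, hζ, hv, hin, hsurj⟩ := IsSaturated.exists_normalizer_map hS hF hY' hconj
  have hcoreNY : F.core ≤ normalizerIn S Y := hcoreT.trans hTY
  have hcoreY : F.core ≤ Y := hY ▸ le_sup_right
  have hcoreY' : F.core ≤ Y' := by
    intro c hc
    obtain ⟨c₀, hc₀, e⟩ := closed_ex hX hcoreNY hζ c hc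
    rw [← e]
    exact hin c₀ (hcoreY hc₀) _
  have hY'ne : Y' ≠ F.core := by
    intro he
    have h1 : Nat.card Y = Nat.card Y' := card_eq_of_isConj F hconj
    haveI : Finite Y := finite_of_le hYS
    have h2 : F.core = Y := by
      apply Subgroup.eq_of_le_of_card_ge hcoreY
      rw [h1, he]
    apply hJ
    rw [h2, hY]
    exact le_sup_left
  have hJY' : ¬ Jf (normalizerIn S Y') ≤ F.core := Jcond_conj hX hζ hv inf_le_left hcoreNY hJY
  have hc2 : n + 1 ≤ Nat.card (normalizerIn S Y') := hc1.trans (hY'.2 _ (isConj_symm F hconj))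
  have hBY := hB Y' hY' hcoreY' hY'ne hJY' hc2
  have hDA : D ≤ normalizerIn S Y := hDT.trans hTY
  have hvA : ∀ d, ψ d ∈ normalizerIn S Y := fun d => hTY (hvT d)
  obtain ⟨D', ψ₃, hD', hψ₃, e₃⟩ := transport_hom' hζ hDA hψ hvA
  -- `ψ` preserves `Y`
  have hcoreD : F.core ≤ D := hcH.trans hHD
  have hYD : Y ≤ D := hY ▸ sup_le hJD hcoreD
  have hY1 : ∀ x (hx : x ∈ Y), ψ ⟨x, hYD hx⟩ ∈ Y := by
    subst hY
    intro x hx
    exact (restrict_sup_onto hJD hcoreD hψ hj1 (fun x hx => closed_mem hX hcoreD hψ x hx)).1 x hx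
  have hY2 : ∀ y ∈ Y, ∃ x, ∃ hx : x ∈ Y, ψ ⟨x, hYD hx⟩ = y := by
    subst hY
    intro y hy
    exact (restrict_sup_onto hJD hcoreD hψ hj1 (fun x hx => closed_mem hX hcoreD hψ x hx)).2 y hy
  have hD'mem : ∀ d : D, ζ (Subgroup.inclusion hDA d) ∈ D' := fun d => hD' ▸ ⟨d, rfl⟩
  have hD'ex : ∀ w ∈ D', ∃ d : D, w = ζ (Subgroup.inclusion hDA d) := by
    intro w hw
    rw [hD'] at hw
    obtain ⟨d, rfl⟩ := hw
    exact ⟨d, rfl⟩
  have hY'D' : Y' ≤ D' := by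
    intro y hy
    obtain ⟨x, hx, hN, e⟩ := hsurj y hy
    rw [← e]
    exact hD'mem ⟨x, hYD hx⟩
  have hle : D' ⊔ Y' ≤ D' := sup_le le_rfl hY'D'
  have hmemN : ψ₃ ∈ F.normalizerHom Y' D' := by
    refine ⟨hψ₃, ?_, ?_, ψ₃.comp (Subgroup.inclusion hle), restrict_mem F hψ₃ hle, fun x => rfl, ?_⟩
    · intro w hw
      obtain ⟨d, rfl⟩ := hD'ex w hw
      exact hv _
    · rintro ⟨w, hw⟩
      obtain ⟨d, rfl⟩ := hD'ex w hw
      rw [e₃ d _ hw rfl]
      exact hv _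
    · rw [map_subgroupOf_sup_eq_iff]
      constructor
      · intro y hy
        obtain ⟨x, hx, hN, e⟩ := hsurj y hy
        show ψ₃ ⟨y, hY'D' hy⟩ ∈ Y'
        rw [e₃ ⟨x, hYD hx⟩ y (hY'D' hy) e.symm]
        exact hin _ (hY1 x hx) _
      · intro y hy
        obtain ⟨x, hx, hN, e⟩ := hsurj y hy
        obtain ⟨x₀, hx₀, e₀⟩ := hY2 x hx
        have hw : ζ (Subgroup.inclusion hDA ⟨x₀, hYD hx₀⟩) ∈ Y' := hin x₀ hx₀ _
        refine ⟨_, hw, ?_⟩
        show ψ₃ ⟨_, hY'D' hw⟩ = y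
        rw [e₃ ⟨x₀, hYD hx₀⟩ _ (hY'D' hw) rfl, ← e]
        congr 1
        exact Subtype.ext e₀
  obtain ⟨-, s, hs, es⟩ := hBY D' ψ₃ hmemN
  -- `H' = ζ(H)` and `s` normalizes it
  have hHA : H ≤ normalizerIn S Y := hHT.trans hTY
  obtain ⟨H', hH'⟩ : ∃ H', H' = (ζ.comp (Subgroup.inclusion hHA)).range := ⟨_, rfl⟩
  have hH'mem : ∀ (x : Ω) (hx : x ∈ H), ζ ⟨x, hHA hx⟩ ∈ H' := fun x hx => hH' ▸ ⟨⟨x, hx⟩, rfl⟩
  have hH'ex : ∀ w ∈ H', ∃ (x : Ω) (hx : x ∈ H), w = ζ ⟨x, hHA hx⟩ := by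
    intro w hw
    rw [hH'] at hw
    obtain ⟨x, rfl⟩ := hw
    exact ⟨x, x.2, rfl⟩
  have hesD : ∀ (d : D), s * ζ (Subgroup.inclusion hDA d) * s⁻¹ = ζ ⟨ψ d, hvA d⟩ := by
    intro d
    have h1 := es ⟨_, hD'mem d⟩
    rw [e₃ d _ (hD'mem d) rfl] at h1
    exact h1.symm
  have hsN : s ∈ Subgroup.normalizer (H' : Set Ω) := by
    apply norm_of_values
    · intro w hw
      obtain ⟨x, hx, rfl⟩ := hH'ex w hw
      have h1 := hesD ⟨x, hHD hx⟩
      have e1 : Subgroup.inclusion hDA ⟨x, hHD hx⟩ = ⟨x, hHA hx⟩ := rfl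
      rw [e1] at h1
      rw [h1]
      exact hH'mem _ (hm1 x hx)
    · intro w hw
      obtain ⟨x, hx, rfl⟩ := hH'ex w hw
      obtain ⟨x₀, hx₀, e₀⟩ := hm2 x hx
      refine ⟨_, hH'mem x₀ hx₀, ?_⟩
      have h1 := hesD ⟨x₀, hHD hx₀⟩
      have e1 : Subgroup.inclusion hDA ⟨x₀, hHD hx₀⟩ = ⟨x₀, hHA hx₀⟩ := rfl
      rw [e1] at h1
      rw [h1]
      congr 1
      exact Subtype.ext e₀
  -- `N_S(H') = ζ(T)`
  have hTTA : T ≤ normalizerIn S Y := hTY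
  have hζT := restrict_mem F hζ hTTA
  have hconjH : F.IsConj H H' := ⟨_, restrict_mem F hζ hHA, hH'.symm⟩
  have hcardH' : Nat.card ↥(normalizerIn S H') ≤ Nat.card T := by
    have := hHn.2 H' hconjH
    rw [← hTdef] at this
    exact this
  have hζNorm : (ζ.comp (Subgroup.inclusion hTTA)).range ≤ normalizerIn S H' := by
    rintro _ ⟨t, rfl⟩
    have htN := Subgroup.mem_normalizer_iff.mp
      ((hTdef ▸ t.2 : (t : Ω) ∈ normalizerIn S H).2 : (t : Ω) ∈ Subgroup.normalizer (H : Set Ω))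
    have htN' := Subgroup.mem_normalizer_iff.mp (Subgroup.inv_mem _
      ((hTdef ▸ t.2 : (t : Ω) ∈ normalizerIn S H).2 : (t : Ω) ∈ Subgroup.normalizer (H : Set Ω)))
    refine ⟨(hv _).1, ?_⟩
    show ζ (Subgroup.inclusion hTTA t) ∈ Subgroup.normalizer (H' : Set Ω)
    have hcomp : ∀ (x : Ω) (hx : x ∈ H) (hx' : (t : Ω) * x * (t : Ω)⁻¹ ∈ H),
        ζ (Subgroup.inclusion hTTA t) * ζ ⟨x, hHA hx⟩ * (ζ (Subgroup.inclusion hTTA t))⁻¹ =
          ζ ⟨(t : Ω) * x * (t : Ω)⁻¹, hHA hx'⟩ := by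
      intro x hx hx'
      rw [← map_inv, ← map_mul, ← map_mul]
      rfl
    apply norm_of_values
    · intro w hw
      obtain ⟨x, hx, rfl⟩ := hH'ex w hw
      have hx' := (htN x).mp hx
      rw [hcomp x hx hx']
      exact hH'mem _ hx'
    · intro w hw
      obtain ⟨x, hx, rfl⟩ := hH'ex w hw
      have hx' : (t : Ω)⁻¹ * x * (t : Ω)⁻¹⁻¹ ∈ H := (htN' x).mp hx
      have hx'' : (t : Ω) * ((t : Ω)⁻¹ * x * (t : Ω)⁻¹⁻¹) * (t : Ω)⁻¹ ∈ H := (htN _).mp hx'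
      refine ⟨_, hH'mem _ hx', ?_⟩
      rw [hcomp _ hx' hx'']
      congr 1
      apply Subtype.ext
      show (t : Ω) * ((t : Ω)⁻¹ * x * (t : Ω)⁻¹⁻¹) * (t : Ω)⁻¹ = x
      group
  haveI hfNH' : Finite ↥(normalizerIn S H') := finite_of_le inf_le_left
  have hEq : (ζ.comp (Subgroup.inclusion hTTA)).range = normalizerIn S H' := by
    apply Subgroup.eq_of_le_of_card_ge hζNorm
    rw [card_range_eq F hζT]
    exact hcardH'
  have hsR : s ∈ (ζ.comp (Subgroup.inclusion hTTA)).range := by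
    rw [hEq]
    exact ⟨hs, hsN⟩
  obtain ⟨t, ht⟩ := hsR
  refine ⟨t, t.2, fun d => ?_⟩
  have h1 := hesD d
  have hinj := F.injective_of_mem hζ
  have e2 : ζ ⟨ψ d, hvA d⟩ = ζ (Subgroup.inclusion hTTA t * Subgroup.inclusion hDA d * (Subgroup.inclusion hTTA t)⁻¹) := by
    rw [← h1, map_mul, map_mul, map_inv]
    rw [← ht]
    rfl
  exact congrArg Subtype.val (hinj e2)

/-- One step of the descending induction for normalizers. -/
theorem b_step [Finite S] (hS : IsPGroup p S) {F : FusionSystem S} (hF : F.IsSaturated p)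
    (hNoS : p = 2 → NoS3 F)
    (hC : ∀ (P : Subgroup Ω) (φ : P →* Ω), φ ∈ F.centralizerHom (Zf S) P → φ ∈ (innerFusionSystem S).Hom P)
    (hN : ∀ (P : Subgroup Ω) (φ : P →* Ω), φ ∈ F.normalizerHom (Jf S) P → φ ∈ (innerFusionSystem S).Hom P)
    (hIH : ∀ (S' : Subgroup Ω) (_ : Finite S') (F' : FusionSystem S'), IsPGroup p S' → F'.IsSaturated p →
      (Nat.card S' < Nat.card S ∨ (Nat.card S' = Nat.card S ∧ nonNormalCount F' < nonNormalCount F)) →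
      ThmP S' F' p) {n : ℕ}
    (hB : ∀ Y : Subgroup Ω, F.IsFullyNormalized Y → F.core ≤ Y → Y ≠ F.core →
      ¬ Jf (normalizerIn S Y) ≤ F.core → n + 1 ≤ Nat.card (normalizerIn S Y) →
      ∀ (P : Subgroup Ω) (φ : P →* Ω), φ ∈ F.normalizerHom Y P → φ ∈ (innerFusionSystem S).Hom P)
    {H : Subgroup Ω} (hHn : F.IsFullyNormalized H) (hcH : F.core ≤ H) (hne : H ≠ F.core)
    (hJ : ¬ Jf (normalizerIn S H) ≤ F.core) (hcard : n ≤ Nat.card (normalizerIn S H))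
    (P : Subgroup Ω) (φ : P →* Ω) (hφ : φ ∈ F.normalizerHom H P) : φ ∈ (innerFusionSystem S).Hom P := by
  by_cases hn : n + 1 ≤ Nat.card (normalizerIn S H)
  · exact hB H hHn hcH hne hJ hn P φ hφ
  have hHS : H ≤ S := hHn.1
  have hTS : normalizerIn S H ≤ S := inf_le_left
  haveI hfinT : Finite ↥(normalizerIn S H) := finite_of_le hTS
  have hNs := isNormalizerSystem_normalizerSystem F H hHS
  have hsat := Cfsg.Agent.Lib.FusionNormSat.isSaturated_normalizerSystem hS hF hHn hNs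
  have hnor : ¬ F.IsNormal H := fun h => hne (le_antisymm (IsNormal.le_core h) hcH)
  have hlt : Nat.card ↥(normalizerIn S H) < Nat.card S ∨
      (Nat.card ↥(normalizerIn S H) = Nat.card S ∧
        nonNormalCount (normalizerSystem F H hHS) < nonNormalCount F) := by
    by_cases hSS : normalizerIn S H = S
    · right
      refine ⟨by rw [hSS], nonNormalCount_lt hHS hSS hnor⟩
    · left
      have h1 : normalizerIn S H < S := lt_of_le_of_ne hTS hSS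
      exact lt_of_not_ge fun hge => h1.ne (Subgroup.eq_of_le_of_card_ge h1.le hge)
  have hgen := hIH _ hfinT (normalizerSystem F H hHS) (hS.to_le hTS) hsat hlt
  have hX := isNormal_core F
  have hHT : H ≤ normalizerIn S H := le_normalizerIn hHS
  refine inner_mono hTS (hgen (fun h2 => noS3_inherit hS hF hHn hcH (hNoS h2)) ?_ ?_ P φ hφ)
  · -- the centralizer
    rintro R χ ⟨hχ, hRC, hχv, ψ₁, hψ₁, hext₁, hfix₁⟩
    obtain ⟨hψ₁F, hleT, hvT, ψ₂, hψ₂, hext₂, hmap₂⟩ := hψ₁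
    obtain ⟨hm1, hm2⟩ := (map_subgroupOf_sup_eq_iff ψ₂).mp hmap₂
    have hZT : Zf S ≤ normalizerIn S H := fun z hz =>
      mem_normalizerIn_of_central (mem_Zf.mp hz).1 (mem_Zf.mp hz).2 hHS
    have hZZ := Zf_le_Zf hTS hZT
    have hZD : Zf S ≤ (R ⊔ Zf (normalizerIn S H)) ⊔ H := hZZ.trans (le_sup_right.trans le_sup_left)
    have hle : ((R ⊔ Zf (normalizerIn S H)) ⊔ H) ⊔ Zf S ≤ (R ⊔ Zf (normalizerIn S H)) ⊔ H :=
      sup_le le_rfl hZD
    have hψ₂' := restrict_mem F hψ₂ hle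
    have h1 := mem_cent_Z hC hψ₂' (fun v => by
      have e1 := hext₂ ⟨v, Subgroup.mem_sup_right (hZZ v.2)⟩
      have e2 := hfix₁ ⟨v, hZZ v.2⟩
      exact e1.trans e2)
    have hψin : ψ₂ ∈ (innerFusionSystem S).Hom _ := hom_of_eq h1 fun x => rfl
    have hRD : R ≤ (R ⊔ Zf (normalizerIn S H)) ⊔ H := le_sup_left.trans le_sup_left
    exact inner_of_ext hψin le_sup_right hm1 hm2 hRD (hRC.trans inf_le_left) (fun x =>
      (hext₁ x).symm.trans (hext₂ _).symm)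
  · -- the normalizer
    rintro R χ ⟨hχ, hRN, hχv, ψ₁, hψ₁, hext₁, hmap₁⟩
    obtain ⟨hψ₁F, hleT, hvT, ψ₂, hψ₂, hext₂, hmap₂⟩ := hψ₁
    obtain ⟨hm1, hm2⟩ := (map_subgroupOf_sup_eq_iff ψ₂).mp hmap₂
    obtain ⟨hj1, hj2⟩ := (map_subgroupOf_sup_eq_iff ψ₁).mp hmap₁
    have hRT : R ≤ normalizerIn S H := hRN.trans inf_le_left
    have hRD : R ≤ (R ⊔ Jf (normalizerIn S H)) ⊔ H := le_sup_left.trans le_sup_left
    have hJD : Jf (normalizerIn S H) ≤ (R ⊔ Jf (normalizerIn S H)) ⊔ H := le_sup_right.trans le_sup_left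
    have hDT : (R ⊔ Jf (normalizerIn S H)) ⊔ H ≤ normalizerIn S H :=
      sup_le (sup_le hRT (Jf_le _)) hHT
    have hv₂ : ∀ d, ψ₂ d ∈ normalizerIn S H := by
      refine sup_values_mem ψ₂ ?_ ?_
      · intro x hx
        have h1 := hext₂ ⟨x, hx⟩
        have e : Subgroup.inclusion (le_sup_left : R ⊔ Jf (normalizerIn S H) ≤ (R ⊔ Jf (normalizerIn S H)) ⊔ H)
            ⟨x, hx⟩ = ⟨x, Subgroup.mem_sup_left hx⟩ := rfl
        rw [e] at h1
        rw [h1]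
        exact hvT _
      · intro x hx
        exact hHT (hm1 x hx)
    have hψ₂χ : ∀ x : R, χ x = ψ₂ (Subgroup.inclusion hRD x) :=
      fun x => (hext₁ x).symm.trans (hext₂ _).symm
    by_cases hSS : normalizerIn S H = S
    · -- `N_S(H) = S`
      have hJJ : Jf (normalizerIn S H) = Jf S := by rw [hSS]
      have hle : ((R ⊔ Jf (normalizerIn S H)) ⊔ H) ⊔ Jf S ≤ (R ⊔ Jf (normalizerIn S H)) ⊔ H :=
        sup_le le_rfl (hJJ ▸ hJD)
      have hψ₂' := restrict_mem F hψ₂ hle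
      have h1 := mem_norm hN rfl hψ₂' (by
        rw [map_subgroupOf_sup_eq_iff]
        constructor
        · intro x hx
          have hx' : x ∈ Jf (normalizerIn S H) := hJJ ▸ hx
          have e1 := hext₂ ⟨x, Subgroup.mem_sup_right hx'⟩
          have h2 := hj1 x hx'
          rw [← e1] at h2
          have hsub : ∀ w, w ∈ Jf (normalizerIn S H) → w ∈ Jf S := fun w hw => by
            rw [← hJJ]
            exact hw
          exact hsub _ h2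
        · intro y hy
          have hy' : y ∈ Jf (normalizerIn S H) := hJJ ▸ hy
          obtain ⟨x, hx, e⟩ := hj2 y hy'
          have e1 := hext₂ ⟨x, Subgroup.mem_sup_right hx⟩
          have hx2 : x ∈ Jf S := by
            rw [← hJJ]
            exact hx
          refine ⟨x, hx2, ?_⟩
          rw [← e]
          exact e1)
      have hψin : ψ₂ ∈ (innerFusionSystem S).Hom _ := hom_of_eq h1 fun x => rfl
      exact inner_of_ext hψin le_sup_right hm1 hm2 hRD hRT hψ₂χ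
    · -- `N_S(H) < S`
      have hTlt : normalizerIn S H < S := lt_of_le_of_ne hTS hSS
      have hcard' : n ≤ Nat.card ↥(normalizerIn S H) := hcard
      obtain ⟨t, ht, e⟩ := b_step_aux hS hF hB rfl hHn hcH hJ hcard' hTlt hDT le_sup_right hJD hψ₂ hv₂ hm1 hm2
        (fun x hx => by
          have e1 := hext₂ ⟨x, Subgroup.mem_sup_right hx⟩
          have h2 := hj1 x hx
          rw [← e1] at h2
          exact h2)
      refine ⟨hRT, t, ht, fun x => ?_⟩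
      rw [hψ₂χ, e]
      rfl

end B

end Cfsg.Agent.Lib.ThmOFus
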