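import Cfsg.Agent.Lib.ThmOFusB

/-!
The case of a system whose core does not contain its centralizer in `S`.
-/

set_option autoImplicit false

universe u

namespace Cfsg.Agent.Lib.ThmOFus

open Cfsg Cfsg.FusionSystem Cfsg.Agent.Lib.FusionBasic Cfsg.Agent.Lib.FusionAut
  Cfsg.Agent.Lib.FusionSat Cfsg.Agent.Lib.FusionModel Cfsg.Agent.Lib.FusionLocal
  Cfsg.Agent.Lib.FusionLocalModel Cfsg.Agent.Lib.FusionAlperin Cfsg.Agent.Lib.FusionJFactor
  Cfsg.Agent.Lib.FusionCenCtl Cfsg.Agent.Lib.FusionCenQuad Cfsg.Agent.Lib.FusionGrun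
  Cfsg.Agent.Lib.FusionNormal Cfsg.Agent.Lib.FusionJGen Cfsg.Agent.Lib.ThmOS3 Cfsg.Agent.Lib.ThmOMain

section C

variable {Ω : Type u} [Group Ω] {S : Subgroup Ω} {p : ℕ}

theorem mem_mabs_of_comm {R A : Subgroup Ω} [Finite R] (hA : A ∈ mabs R) {z : Ω}
    (hzR : z ∈ R) (hzC : ∀ r ∈ A, r * z = z * r) : z ∈ A := by
  obtain ⟨hAR, hAc, hAm⟩ := hA
  have hB : A ⊔ Subgroup.zpowers z ≤ R := sup_le hAR ((Subgroup.zpowers_le).mpr hzR)
  have hBc : ∀ a ∈ A ⊔ Subgroup.zpowers z, ∀ b ∈ A ⊔ Subgroup.zpowers z, a * b = b * a := by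
    have hsup : A ⊔ Subgroup.zpowers z = Subgroup.closure ((A : Set Ω) ∪ {z}) := by
      rw [Subgroup.closure_union, Subgroup.closure_eq, Subgroup.zpowers_eq_closure]
    rw [hsup]
    apply Cfsg.Agent.Lib.Replacement.comm_closure'
    rintro x (hx | hx) y (hy | hy)
    · exact hAc x hx y hy
    · rw [Set.mem_singleton_iff] at hy
      subst hy
      exact hzC x hx
    · rw [Set.mem_singleton_iff] at hx
      subst hx
      exact (hzC y hy).symm
    · rw [Set.mem_singleton_iff] at hx hy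
      rw [hx, hy]
  have h1 := hAm _ hB hBc
  haveI : Finite ↥(A ⊔ Subgroup.zpowers z) :=
    Finite.of_injective (Subgroup.inclusion hB) (Subgroup.inclusion_injective hB)
  have h2 : A = A ⊔ Subgroup.zpowers z := Subgroup.eq_of_le_of_card_ge le_sup_left h1
  rw [h2]
  exact Subgroup.mem_sup_right (Subgroup.mem_zpowers z)

theorem exists_mul_of_mem_sup {A D : Subgroup Ω} (hA : A ≤ Subgroup.normalizer (D : Set Ω)) {g : Ω}
    (hg : g ∈ A ⊔ D) : ∃ a ∈ A, ∃ d ∈ D, g = a * d := by
  let K : Subgroup Ω :=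
    { carrier := {g | ∃ a ∈ A, ∃ d ∈ D, g = a * d}
      mul_mem' := by
        rintro _ _ ⟨a₁, h₁, d₁, k₁, rfl⟩ ⟨a₂, h₂, d₂, k₂, rfl⟩
        have h3 : a₂⁻¹ * d₁ * a₂⁻¹⁻¹ ∈ D :=
          (Subgroup.mem_normalizer_iff.mp (Subgroup.inv_mem _ (hA h₂)) d₁).mp k₁
        refine ⟨a₁ * a₂, A.mul_mem h₁ h₂, a₂⁻¹ * d₁ * a₂⁻¹⁻¹ * d₂, D.mul_mem h3 k₂, ?_⟩
        group
      one_mem' := ⟨1, A.one_mem, 1, D.one_mem, by simp⟩
      inv_mem' := by
        rintro _ ⟨a, h, d, k, rfl⟩
        have h3 : a * d⁻¹ * a⁻¹ ∈ D :=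
          (Subgroup.mem_normalizer_iff.mp (hA h) d⁻¹).mp (D.inv_mem k)
        refine ⟨a⁻¹, A.inv_mem h, a * d⁻¹ * a⁻¹, h3, ?_⟩
        group }
  have hle : A ⊔ D ≤ K := sup_le (fun a ha => ⟨a, ha, 1, D.one_mem, by simp⟩)
    (fun d hd => ⟨1, A.one_mem, d, hd, by simp⟩)
  exact hle hg

variable [Fact p.Prime]

theorem Jcond_of_nc [Finite S] (hS : IsPGroup p S) {F : FusionSystem S} {X P : Subgroup Ω}
    (hX : F.IsNormal X) (hXP : X ≤ P) (hPS : P ≤ S) (hnc : ¬ centralizerIn S X ≤ X) :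
    ¬ Jf (normalizerIn S P) ≤ X := by
  intro hJ
  have hTS : normalizerIn S P ≤ S := inf_le_left
  haveI : Finite ↥(normalizerIn S P) := finite_of_le hTS
  have hCT : ∀ g ∈ normalizerIn S P, (∀ x ∈ X, x * g = g * x) → g ∈ X := by
    intro g hg hc
    obtain ⟨A, hA⟩ := mabs_nonempty (normalizerIn S P)
    have hAX : A ≤ X := (le_sSup hA).trans (by
      rw [← Jf_eq]
      exact hJ)
    exact hAX (mem_mabs_of_comm hA hg (fun a ha => hc a (hAX ha)))
  apply hnc
  have hST := StronglyClosed.le_normalizer (IsNormal.stronglyClosed hX)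
  have hSD : S ≤ Subgroup.normalizer ((centralizerIn S X : Subgroup Ω) : Set Ω) := by
    have key : ∀ s ∈ S, ∀ d ∈ centralizerIn S X, s * d * s⁻¹ ∈ centralizerIn S X := by
      intro s hs d hd
      refine ⟨S.mul_mem (S.mul_mem hs hd.1) (S.inv_mem hs), ?_⟩
      show s * d * s⁻¹ ∈ Subgroup.centralizer (X : Set Ω)
      rw [Subgroup.mem_centralizer_iff]
      intro x hx
      have h1 : s⁻¹ * x * s⁻¹⁻¹ ∈ X :=
        (Subgroup.mem_normalizer_iff.mp (Subgroup.inv_mem _ (hST hs)) x).mp hx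
      have h2 := Subgroup.mem_centralizer_iff.mp hd.2 _ h1
      rw [inv_inv] at h2
      calc x * (s * d * s⁻¹) = s * (s⁻¹ * x * s * d) * s⁻¹ := by group
        _ = s * (d * (s⁻¹ * x * s)) * s⁻¹ := by rw [h2]
        _ = s * d * s⁻¹ * x := by group
    intro s hs
    apply ThmOFus.norm_of_values
    · exact key s hs
    · intro y hy
      refine ⟨s⁻¹ * y * s⁻¹⁻¹, key _ (S.inv_mem hs) y hy, ?_⟩
      group
  have hDP : centralizerIn S X ≤ P := by
    by_contra hne
    have hlt : P < P ⊔ centralizerIn S X := lt_of_le_of_ne le_sup_left fun he =>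
      hne (le_sup_right.trans he.symm.le)
    have hW : P ⊔ centralizerIn S X ≤ S := sup_le hPS inf_le_left
    haveI : Finite ↥(P ⊔ centralizerIn S X) := finite_of_le hW
    obtain ⟨g, hgW, hgP, hgN⟩ := exists_mem_normalizer_of_lt' (hS.to_le hW) hlt
    obtain ⟨a, ha, d, hd, rfl⟩ := exists_mul_of_mem_sup (hPS.trans hSD) hgW
    have hdN : d ∈ Subgroup.normalizer (P : Set Ω) := by
      have h1 : a⁻¹ * (a * d) ∈ Subgroup.normalizer (P : Set Ω) :=
        Subgroup.mul_mem _ (Subgroup.inv_mem _ (Subgroup.le_normalizer ha)) hgN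
      rwa [inv_mul_cancel_left] at h1
    have hdP : d ∉ P := fun h => hgP (P.mul_mem ha h)
    exact hdP (hXP (hCT d ⟨hd.1, hdN⟩ fun x hx => Subgroup.mem_centralizer_iff.mp hd.2 x hx))
  intro d hd
  exact hCT d ⟨hd.1, Subgroup.le_normalizer (hDP hd)⟩ fun x hx => Subgroup.mem_centralizer_iff.mp hd.2 x hx

/-- The case of a non-constrained system. -/
theorem nonconstrained_case [Finite S] (hS : IsPGroup p S) {F : FusionSystem S} (hF : F.IsSaturated p)
    (hN : ∀ (P : Subgroup Ω) (φ : P →* Ω), φ ∈ F.normalizerHom (Jf S) P → φ ∈ (innerFusionSystem S).Hom P)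
    (hBall : ∀ Y : Subgroup Ω, F.IsFullyNormalized Y → F.core ≤ Y → Y ≠ F.core →
      ¬ Jf (normalizerIn S Y) ≤ F.core →
      ∀ (P : Subgroup Ω) (φ : P →* Ω), φ ∈ F.normalizerHom Y P → φ ∈ (innerFusionSystem S).Hom P)
    (hnc : ¬ centralizerIn S F.core ≤ F.core)
    (P : Subgroup Ω) (φ : P →* Ω) (hφ : φ ∈ F.Hom P) : φ ∈ (innerFusionSystem S).Hom P := by
  let E := innerFusionSystem S
  let A : ℕ → Prop := fun n => ∀ P : Subgroup Ω, n ≤ Nat.card P → F.Hom P ⊆ E.Hom P
  have htop : A (Nat.card S + 1) := by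
    intro P hP φ hφ
    have := card_le_S (source_le F hφ)
    omega
  have hX := isNormal_core F
  have hdesc : ∀ n, A (n + 1) → A n := by
    intro n hA
    apply alperin_above hS hF E n
    intro P hPn hP α hα
    have hPS : P ≤ S := by
      rcases hP with rfl | h
      · exact le_rfl
      · exact h.1.1
    rw [mem_autGroup_iff F hPS] at hα
    rw [mem_autGroup_iff E hPS]
    have hr := Cfsg.Agent.Lib.FusionAlperin.range_subtype_comp α
    by_cases hPS' : P = S
    · subst hPS'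
      refine hN P _ ⟨hα, ?_, fun x => ?_, _, restrict_mem F hα (sup_le le_rfl (Jf_le P)), fun x => rfl, ?_⟩
      · rw [normalizerIn_Jf_self]
      · rw [normalizerIn_Jf_self]
        exact map_mem_S F hα x
      · rw [map_subgroupOf_sup_eq_iff]
        constructor
        · intro x hx
          exact map_Jf hα hr (y := ⟨x, Jf_le P hx⟩) hx
        · intro y hy
          obtain ⟨y₀, hy₀, e⟩ := map_Jf_surj hα hr hy
          exact ⟨y₀, hy₀, e⟩
    · have hess : F.IsEssential p P := by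
        rcases hP with h | h
        · exact absurd h hPS'
        · exact h
      obtain ⟨hc, hfn, -⟩ := hess
      by_cases hXP : F.core ≤ P
      · have hne : P ≠ F.core := by
          intro he
          apply hnc
          rw [← he]
          exact hc.2 P (isConj_refl F hPS)
        exact hBall P hfn hXP hne (Jcond_of_nc hS hX hXP hPS hnc) P _ (aut_mem_norm hα hr)
      · obtain ⟨φ₁, hφ₁, hext, -⟩ := hX.2 P _ hα
        have hW : P ⊔ F.core ≤ S := source_le F hφ₁
        haveI : Finite ↥(P ⊔ F.core) := finite_of_le hW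
        have hlt : P < P ⊔ F.core := lt_of_le_of_ne le_sup_left fun he =>
          hXP (le_sup_right.trans he.symm.le)
        have hcard : n + 1 ≤ Nat.card ↥(P ⊔ F.core) := by
          have h1 : Nat.card P < Nat.card ↥(P ⊔ F.core) :=
            lt_of_not_ge fun hge => hlt.ne (Subgroup.eq_of_le_of_card_ge hlt.le hge)
          omega
        have h1 := hA _ hcard hφ₁
        exact hom_of_eq (restrict_mem E h1 le_sup_left) fun x => (hext x).symm
  have hall : ∀ k n, n + k = Nat.card S + 1 → A n := by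
    intro k
    induction k with
    | zero =>
      intro n hn
      have : n = Nat.card S + 1 := by omega
      rw [this]
      exact htop
    | succ k ih =>
      intro n hn
      exact hdesc n (ih (n + 1) (by omega))
  exact hall (Nat.card S + 1) 0 (by omega) P (Nat.zero_le _) hφ

end C

end Cfsg.Agent.Lib.ThmOFus
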