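import Cfsg.Agent.Lib.ThmOFusD
import Cfsg.Agent.S0071
import Cfsg.Agent.S5076

/-!
The constrained case: local hypotheses of the group theorem in a model.
-/

set_option autoImplicit false

universe u

namespace Cfsg.Agent.Lib.ThmOFus

open Cfsg Cfsg.FusionSystem Cfsg.Agent.Lib.FusionBasic Cfsg.Agent.Lib.FusionAut
  Cfsg.Agent.Lib.FusionSat Cfsg.Agent.Lib.FusionModel Cfsg.Agent.Lib.FusionLocal
  Cfsg.Agent.Lib.FusionLocalModel Cfsg.Agent.Lib.FusionAlperin Cfsg.Agent.Lib.FusionJFactor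
  Cfsg.Agent.Lib.FusionCenCtl Cfsg.Agent.Lib.FusionCenQuad Cfsg.Agent.Lib.FusionGrun
  Cfsg.Agent.Lib.FusionNormal Cfsg.Agent.Lib.FusionJGen Cfsg.Agent.Lib.ThmOS3 Cfsg.Agent.Lib.ThmOMain

section E

variable {Ω : Type u} [Group Ω] {S : Subgroup Ω} {p : ℕ} [Fact p.Prime] {L : Type*} [Group L] [Finite L]

theorem hBL_of [Finite S] (hS : IsPGroup p S) {F : FusionSystem S} (hF : F.IsSaturated p) {ι : S →* L}
    (hreal : F.IsRealizedBy ι) {T Q : Subgroup L} (hT : T = ι.range) (hTp : IsPGroup p T)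
    (hcore : imageAlong ι F.core = Q) (hQc : Subgroup.centralizer (Q : Set L) ≤ Q)
    (hBall : ∀ Y : Subgroup Ω, F.IsFullyNormalized Y → F.core ≤ Y → Y ≠ F.core →
      ¬ Jf (normalizerIn S Y) ≤ F.core →
      ∀ (P : Subgroup Ω) (φ : P →* Ω), φ ∈ F.normalizerHom Y P → φ ∈ (innerFusionSystem S).Hom P)
    (PL : Subgroup L) (hQP : Q < PL) (hPT : PL ≤ T)
    (hJ : ¬ sSup (mabs (T ⊓ Subgroup.normalizer (PL : Set L))) ≤ Q) :
    IsPGroup p ↥(Subgroup.normalizer (PL : Set L)) := by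
  have hι := hreal.1
  have hX := isNormal_core F
  have hPr : PL ≤ ι.range := hT ▸ hPT
  obtain ⟨P, hP⟩ : ∃ P, P = preS ι PL := ⟨_, rfl⟩
  have hPS : P ≤ S := hP ▸ preS_le ι PL
  have himg : imageAlong ι P = PL := hP ▸ imageAlong_preS' hPr
  have hcP : F.core ≤ P := by
    intro c hc
    rw [hP, mem_preS ι PL (hX.1 hc)]
    apply hQP.le
    rw [← hcore]
    exact ⟨⟨c, hX.1 hc⟩, hc, rfl⟩
  have hPne : P ≠ F.core := by
    intro he
    rw [he, hcore] at himg
    exact hQP.ne himg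
  have hTS : normalizerIn S P ≤ S := inf_le_left
  have hJ₁ : ¬ Jf (normalizerIn S P) ≤ F.core := by
    intro h
    apply hJ
    have h1 := sSup_mabs_image_le hι hTS h
    rw [image_normalizerIn hι hPS, hcore, himg, ← hT] at h1
    exact h1
  obtain ⟨P', hconj, hP'⟩ := exists_isConj_fullyNormalized F hPS
  obtain ⟨ζ, hζ, hv, hin, hsurj⟩ := IsSaturated.exists_normalizer_map hS hF hP' hconj
  have hcT : F.core ≤ normalizerIn S P := hcP.trans (le_normalizerIn hPS)
  have hcP' : F.core ≤ P' := by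
    intro c hc
    obtain ⟨c₀, hc₀, e⟩ := closed_ex hX hcT hζ c hc
    rw [← e]
    exact hin c₀ (hcP hc₀) _
  have hP'ne : P' ≠ F.core := by
    intro he
    haveI : Finite P := finite_of_le hPS
    have h1 : Nat.card P = Nat.card P' := card_eq_of_isConj F hconj
    apply hPne
    symm
    apply Subgroup.eq_of_le_of_card_ge hcP
    rw [h1, he]
  have hJ' := Jcond_conj hX hζ hv inf_le_left hcT hJ₁
  have hB' := hBall P' hP' hcP' hP'ne hJ'
  have hP'S : P' ≤ S := hP'.1
  -- the key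
  have key : ∀ y ∈ Subgroup.normalizer ((imageAlong ι P' : Subgroup L) : Set L), y ∈ T := by
    intro y hy
    have hy' := Subgroup.mem_normalizer_iff.mp hy
    have hval : ∀ x, conjOn ι hP'S y x ∈ ι.range := by
      intro x
      rw [conjOn_apply]
      apply imageAlong_le_range ι P'
      exact (hy' _).mp ⟨⟨x, hP'S x.2⟩, x.2, rfl⟩
    have hβ := liftHom_conj_mem hreal hP'S y hval
    have hιβ := fun x => ι_liftHom hreal.1 (conjOn ι hP'S y) hval x
    have hβP : (liftHom hreal.1 (conjOn ι hP'S y) hval).range = P' := by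
      haveI : Finite P' := finite_of_le hP'S
      apply Subgroup.eq_of_le_of_card_ge
      · rintro _ ⟨x, rfl⟩
        have h1 := (hy' _).mp (⟨⟨x, hP'S x.2⟩, x.2, rfl⟩ : ι ⟨x, hP'S x.2⟩ ∈ imageAlong ι P')
        rw [← conjOn_apply, ← hιβ x] at h1
        exact (mem_imageAlong_iff hι _).mp h1
      · rw [card_range_eq F hβ]
    obtain ⟨-, s, hs, es⟩ := hB' P' _ (aut_mem_norm hβ hβP)
    have hcen : (ι ⟨s, hs⟩)⁻¹ * y ∈ Subgroup.centralizer (Q : Set L) := by
      rw [Subgroup.mem_centralizer_iff]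
      intro q hq
      rw [← hcore] at hq
      obtain ⟨t, ht, rfl⟩ := hq
      have ht' : (t : Ω) ∈ P' := hcP' ht
      have h1 := hιβ ⟨t, ht'⟩
      rw [conjOn_apply] at h1
      have h2 : (⟨liftHom hreal.1 (conjOn ι hP'S y) hval ⟨t, ht'⟩, liftHom_mem hreal.1 _ hval _⟩ : S) =
          ⟨s, hs⟩ * t * ⟨s, hs⟩⁻¹ := Subtype.ext (es ⟨t, ht'⟩)
      rw [h2, map_mul, map_mul, map_inv] at h1
      have e3 : (⟨(t : Ω), hP'S ht'⟩ : S) = t := rfl
      rw [e3] at h1
      calc ι t * ((ι ⟨s, hs⟩)⁻¹ * y) = (ι ⟨s, hs⟩)⁻¹ * (ι ⟨s, hs⟩ * ι t * (ι ⟨s, hs⟩)⁻¹) * y := by group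
        _ = (ι ⟨s, hs⟩)⁻¹ * (y * ι t * y⁻¹) * y := by rw [h1]
        _ = (ι ⟨s, hs⟩)⁻¹ * y * ι t := by group
    have h3 : (ι ⟨s, hs⟩)⁻¹ * y ∈ T := hQP.le.trans hPT (hQc hcen)
    have h4 : y = ι ⟨s, hs⟩ * ((ι ⟨s, hs⟩)⁻¹ * y) := by group
    rw [h4]
    exact T.mul_mem (hT ▸ ⟨_, rfl⟩) h3
  -- conjugation
  obtain ⟨ρ, hρ, hρr⟩ := hconj
  obtain ⟨hPS', hvρ, g, hg⟩ := exists_conj_of_mem hreal hρ
  have hI' : ∀ x, x ∈ imageAlong ι P' ↔ g⁻¹ * x * g ∈ PL := by
    intro x
    constructor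
    · rintro ⟨t, ht, rfl⟩
      have ht' : (t : Ω) ∈ ρ.range := by
        rw [hρr]
        exact ht
      obtain ⟨x₀, hx₀⟩ := ht'
      have h1 := hg x₀
      have e1 : (⟨ρ x₀, hvρ x₀⟩ : S) = t := Subtype.ext hx₀
      rw [e1] at h1
      rw [h1]
      have e2 : g⁻¹ * (g * ι ⟨x₀, hPS' x₀.2⟩ * g⁻¹) * g = ι ⟨x₀, hPS' x₀.2⟩ := by group
      rw [e2, ← himg]
      exact ⟨⟨x₀, hPS' x₀.2⟩, x₀.2, rfl⟩
    · intro hx
      rw [← himg] at hx
      obtain ⟨t, ht, e⟩ := hx
      have ht' : (t : Ω) ∈ P := ht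
      have h1 := hg ⟨t, ht'⟩
      have e3 : (⟨(t : Ω), hPS' ht'⟩ : S) = t := rfl
      rw [e3] at h1
      have e0 : ι t = g⁻¹ * x * g := e
      have e4 : x = g * ι t * g⁻¹ := by
        rw [e0]
        group
      rw [e4, ← h1]
      have hmemr : ρ ⟨t, ht'⟩ ∈ P' := hρr ▸ ⟨_, rfl⟩
      exact ⟨_, hmemr, rfl⟩
  intro y
  obtain ⟨y, hy⟩ := y
  have hy' := Subgroup.mem_normalizer_iff.mp hy
  have hw : g * y * g⁻¹ ∈ Subgroup.normalizer ((imageAlong ι P' : Subgroup L) : Set L) := by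
    rw [Subgroup.mem_normalizer_iff]
    intro x
    rw [hI', hI', hy']
    have e : g⁻¹ * (g * y * g⁻¹ * x * (g * y * g⁻¹)⁻¹) * g = y * (g⁻¹ * x * g) * y⁻¹ := by group
    rw [e]
  obtain ⟨k, hk⟩ := hTp ⟨_, key _ hw⟩
  refine ⟨k, Subtype.ext ?_⟩
  have hk' : (g * y * g⁻¹) ^ p ^ k = 1 := by
    simpa only [Subgroup.coe_pow, Subgroup.coe_one] using congrArg Subtype.val hk
  rw [conj_pow] at hk'
  have hk'' : y ^ p ^ k = 1 := by
    have h5 : g⁻¹ * (g * y ^ p ^ k * g⁻¹) * g = y ^ p ^ k := by group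
    rw [hk'] at h5
    rw [← h5]
    group
  simpa only [Subgroup.coe_pow, Subgroup.coe_one] using hk''

theorem noSecL [Finite S] {F : FusionSystem S} {ι : S →* L} (hreal : F.IsRealizedBy ι) {Q : Subgroup L}
    (hQn : Q.Normal) (hcore : imageAlong ι F.core = Q) (hQc : Subgroup.centralizer (Q : Set L) ≤ Q)
    (hQ2 : IsPGroup 2 Q) (hNo : NoS3 F) (hcentric : F.IsCentric F.core) : ¬ Sec L := by
  intro h
  obtain ⟨a, y, ⟨m, ha⟩, hy3, hy1, hay⟩ := Cfsg.Agent.Lib.ThmOS4.claimC h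
  have hX := isNormal_core F
  obtain ⟨f, -, hf⟩ := exists_autHom hreal hX.1
  have hN : ∀ g : L, g ∈ Subgroup.normalizer ((imageAlong ι F.core : Subgroup L) : Set L) := by
    intro g
    rw [hcore, Subgroup.normalizer_eq_top_iff.mpr hQn]
    trivial
  refine hNo _ le_rfl hcentric (Sec.of_rel ⟨f ⟨a, hN a⟩, f ⟨y, hN y⟩, ⟨m, ?_⟩, ?_, ?_, ?_⟩)
  · rw [← map_pow]
    have : (⟨a, hN a⟩ : ↥(Subgroup.normalizer ((imageAlong ι F.core : Subgroup L) : Set L))) ^ 2 ^ m = 1 :=
      Subtype.ext (by simpa only [Subgroup.coe_pow, Subgroup.coe_one] using ha)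
    rw [this, map_one]
  · rw [← map_pow]
    have : (⟨y, hN y⟩ : ↥(Subgroup.normalizer ((imageAlong ι F.core : Subgroup L) : Set L))) ^ 3 = 1 :=
      Subtype.ext (by simpa only [Subgroup.coe_pow, Subgroup.coe_one] using hy3)
    rw [this, map_one]
  · intro he
    have hycen : y ∈ Subgroup.centralizer (Q : Set L) := by
      rw [Subgroup.mem_centralizer_iff]
      intro q hq
      rw [← hcore] at hq
      obtain ⟨t, ht, rfl⟩ := hq
      have h1 := hf ⟨y, hN y⟩ ⟨t, ht⟩
      rw [he] at h1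
      have h2 : ι t = y * ι t * y⁻¹ := h1
      calc ι t * y = y * ι t * y⁻¹ * y := by rw [← h2]
        _ = y * ι t := by group
    have hyQ := hQc hycen
    obtain ⟨k, hk⟩ := hQ2 ⟨y, hyQ⟩
    have hk' : y ^ 2 ^ k = 1 := by
      simpa only [Subgroup.coe_pow, Subgroup.coe_one] using congrArg Subtype.val hk
    have hgcd : Nat.gcd (2 ^ k) 3 = 1 := by
      apply Nat.Coprime.pow_left
      norm_num
    have h3 : y ^ Nat.gcd (2 ^ k) 3 = 1 := pow_gcd_eq_one.mpr ⟨hk', hy3⟩
    rw [hgcd, pow_one] at h3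
    exact hy1 h3
  · rw [← map_mul, ← map_inv, ← map_mul, ← map_inv]
    congr 1
    exact Subtype.ext hay

end E

section K

variable {L : Type u} [Group L] [Finite L] {p : ℕ} [Fact p.Prime]

theorem realized_group (H : Subgroup L) : (groupFusionSystem H).IsRealizedBy H.subtype := by
  refine ⟨Subtype.val_injective, fun P hP φ hφ => ⟨?_, ?_⟩⟩
  · rintro ⟨-, -, g, hg⟩
    exact ⟨g, hg⟩
  · rintro ⟨g, hg⟩
    exact ⟨hP, hφ, g, hg⟩

/-- The normal complement in the quotient by `Q`. -/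
theorem exists_K (Q T : Subgroup L) [hQ : Q.Normal] (hQT : Q ≤ T) (hTp : IsPGroup p T) (hTi : ¬ p ∣ T.index)
    (hQne : Q ≠ ⊥)
    (hkey : ∀ R : Subgroup L, Q < R → R ≤ T → T ≤ Subgroup.normalizer (R : Set L) →
      Subgroup.normalizer (R : Set L) ≤ T)
    (hS3 : p = 2 → ¬ Sec L)
    (hIH : ∀ (S' : Subgroup (L ⧸ Q)) (_ : Finite S') (F' : FusionSystem S'), IsPGroup p S' →
      F'.IsSaturated p → Nat.card S' < Nat.card T → ThmP S' F' p) :
    ∃ K : Subgroup L, K.Normal ∧ K ⊔ T = ⊤ ∧ ∀ k ∈ K, k ^ T.index ∈ Q := by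
  classical
  let π := QuotientGroup.mk' Q
  have hπs : Function.Surjective π := QuotientGroup.mk'_surjective Q
  have hπq : ∀ x, π x = 1 ↔ x ∈ Q := fun x => by
    show (QuotientGroup.mk x : L ⧸ Q) = 1 ↔ _
    exact QuotientGroup.eq_one_iff x
  let H := T.map π
  have hcomap : H.comap π = T := by
    apply Subgroup.comap_map_eq_self
    intro x hx
    exact hQT ((hπq x).mp hx)
  have hmemH : ∀ x, π x ∈ H ↔ x ∈ T := by
    intro x
    constructor
    · intro h
      have : x ∈ H.comap π := h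
      rwa [hcomap] at this
    · intro h
      exact ⟨x, h, rfl⟩
  have hHindex : H.index = T.index := by
    rw [← hcomap, Subgroup.index_comap_of_surjective _ hπs]
  by_cases hbot : H = ⊥
  · refine ⟨⊤, inferInstance, top_sup_eq _, fun k _ => ?_⟩
    rw [← hπq, map_pow, ← hHindex, hbot, Subgroup.index_bot]
    exact pow_card_eq_one'
  have hHp : IsPGroup p H := hTp.map π
  have hHi : ¬ p ∣ H.index := hHindex ▸ hTi
  let Hs : Sylow p (L ⧸ Q) := hHp.toSylow hHi
  have hsat : (groupFusionSystem H).IsSaturated p := Cfsg.Agent.S5076.result p Hs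
  have hcard : Nat.card H < Nat.card T := by
    have h1 := card_map_mul_card_inf Q T
    have h2 : T ⊓ Q = Q := inf_eq_right.mpr hQT
    rw [h2] at h1
    have h3 : 1 < Nat.card Q := by
      have h4 : Nat.card Q ≠ 1 := fun he => hQne ((Subgroup.eq_bot_iff_card Q).mpr he)
      have h5 : 0 < Nat.card Q := Nat.card_pos
      omega
    have h6 : 0 < Nat.card H := Nat.card_pos
    have h7 : Nat.card H * Nat.card Q = Nat.card T := h1
    nlinarith
  have hgen := hIH H inferInstance (groupFusionSystem H) hHp hsat hcard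
  -- the key property
  have hW : ∀ W : Subgroup (L ⧸ Q), W ≠ ⊥ → W ≤ H → H ≤ Subgroup.normalizer (W : Set (L ⧸ Q)) →
      Subgroup.normalizer (W : Set (L ⧸ Q)) ≤ H := by
    intro W hne hWH hHW
    have hnorm : ∀ g, π g ∈ Subgroup.normalizer (W : Set (L ⧸ Q)) →
        g ∈ Subgroup.normalizer ((W.comap π : Subgroup L) : Set L) := by
      intro g hg
      rw [Subgroup.mem_normalizer_iff]
      intro w
      have h1 := (Subgroup.mem_normalizer_iff.mp hg) (π w)
      rw [Subgroup.mem_comap, Subgroup.mem_comap, map_mul, map_mul, map_inv]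
      exact h1
    have hQW : Q < W.comap π := by
      refine lt_of_le_of_ne ?_ ?_
      · intro q hq
        show π q ∈ W
        rw [(hπq q).mpr hq]
        exact W.one_mem
      · intro he
        rcases W.bot_or_exists_ne_one with h | ⟨w, hw, hw1⟩
        · exact hne h
        · obtain ⟨w₀, rfl⟩ := hπs w
          apply hw1
          rw [hπq, he]
          exact hw
    have hWT : W.comap π ≤ T := by
      intro w hw
      exact (hmemH w).mp (hWH hw)
    have hTW : T ≤ Subgroup.normalizer ((W.comap π : Subgroup L) : Set L) := by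
      intro t ht
      exact hnorm t (hHW ((hmemH t).mpr ht))
    have h1 := hkey _ hQW hWT hTW
    intro g hg
    obtain ⟨g₀, rfl⟩ := hπs g
    exact (hmemH g₀).mpr (h1 (hnorm g₀ hg))
  have hHT : Nontrivial H := by
    by_contra hn
    rw [not_nontrivial_iff_subsingleton] at hn
    apply hbot
    rw [eq_bot_iff]
    intro x hx
    have := Subsingleton.elim (⟨x, hx⟩ : H) 1
    exact congrArg Subtype.val this
  haveI : Nontrivial H := hHT
  have hZne : Zf H ≠ ⊥ := by
    intro he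
    have h1 : Nontrivial (Subgroup.center H) := hHp.center_nontrivial
    obtain ⟨⟨z, hz⟩, hz1⟩ := exists_ne (1 : Subgroup.center H)
    have hz' : (z : L ⧸ Q) ∈ Zf H := by
      rw [mem_Zf]
      refine ⟨z.2, fun s hs => ?_⟩
      have := (Subgroup.mem_center_iff.mp hz) ⟨s, hs⟩
      exact congrArg Subtype.val this
    rw [he, Subgroup.mem_bot] at hz'
    apply hz1
    apply Subtype.ext
    exact Subtype.ext hz'
  have hZH : Zf H ≤ H := inf_le_left
  have hHZ : H ≤ Subgroup.normalizer ((Zf H : Subgroup (L ⧸ Q)) : Set (L ⧸ Q)) := by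
    intro s hs
    have h1 : s ∈ normalizerIn H (Zf H) := by
      have h2 : H ≤ normalizerIn H (H ⊓ Subgroup.centralizer (H : Set (L ⧸ Q))) := by
        intro t ht
        refine ⟨ht, ?_⟩
        show t ∈ Subgroup.normalizer _
        apply ThmOFus.norm_of_values
        · intro x hx
          have hx' := mem_Zf.mp hx
          have e : t * x * t⁻¹ = x := by
            rw [hx'.2 t ht, mul_inv_cancel_right]
          rw [e]
          exact hx
        · intro y hy
          have hy' := mem_Zf.mp hy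
          refine ⟨y, hy, ?_⟩
          rw [hy'.2 t ht, mul_inv_cancel_right]
      exact h2 hs
    exact h1.2
  have hJne : Jf H ≠ ⊥ := fun he => hZne (by
    rw [eq_bot_iff, ← he]
    exact Zf_le_Jf)
  have hHJ : H ≤ Subgroup.normalizer ((Jf H : Subgroup (L ⧸ Q)) : Set (L ⧸ Q)) := by
    have h1 : normalizerIn H (Jf H) = H := normalizerIn_Jf_self
    intro s hs
    rw [← h1] at hs
    exact hs.2
  have hinner := hgen
    (fun hp2 R _ hRc hsec => by
      have hreal := realized_group H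
      obtain ⟨f, hf, -⟩ := exists_autHom hreal hRc.1
      have h1 := Sec.of_surjective f hf hsec
      have h2 := Sec.of_injective (Subgroup.subtype _) Subtype.val_injective h1
      exact hS3 hp2 (Sec.of_surjective π hπs h2))
    (by
      rintro R χ ⟨hχ, hRC, hχv, ψ, hψ, hext, hfix⟩
      obtain ⟨hle, hv, g, hg⟩ := hψ
      have hgN : g ∈ Subgroup.normalizer ((Zf H : Subgroup (L ⧸ Q)) : Set (L ⧸ Q)) := by
        have hfix' : ∀ z ∈ Zf H, g * z * g⁻¹ = z := by
          intro z hz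
          have h1 := hfix ⟨z, hz⟩
          rw [hg] at h1
          exact h1
        apply ThmOFus.norm_of_values
        · intro x hx
          rw [hfix' x hx]
          exact hx
        · intro y hy
          exact ⟨y, hy, hfix' y hy⟩
      refine ⟨hRC.trans inf_le_left, g, ?_, fun x => ?_⟩
      · exact hW _ hZne hZH hHZ hgN
      · rw [← hext, hg]
        rfl)
    (by
      rintro R χ ⟨hχ, hRN, hχv, ψ, hψ, hext, hmap⟩
      obtain ⟨hle, hv, g, hg⟩ := hψ
      obtain ⟨hm1, hm2⟩ := (map_subgroupOf_sup_eq_iff ψ).mp hmap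
      have hgN : g ∈ Subgroup.normalizer ((Jf H : Subgroup (L ⧸ Q)) : Set (L ⧸ Q)) := by
        apply ThmOFus.norm_of_values
        · intro x hx
          have h1 := hm1 x hx
          rw [hg] at h1
          exact h1
        · intro y hy
          obtain ⟨x, hx, e⟩ := hm2 y hy
          rw [hg] at e
          exact ⟨x, hx, e⟩
      refine ⟨hRN.trans inf_le_left, g, ?_, fun x => ?_⟩
      · exact hW _ hJne (Jf_le H) hHJ hgN
      · rw [← hext, hg]
        rfl)
  -- the Frobenius criterion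
  have hFrob : ∃ N : Subgroup (L ⧸ Q), N.Normal ∧ N.IsComplement' H := by
    refine (Cfsg.Agent.S0071.result Hs).mpr ?_
    intro Q₁ hQ₁ g hg hgc
    have hg' := Subgroup.mem_normalizer_iff.mp hg
    have hQ₁H : Q₁ ≤ H := hQ₁
    have hmem : (MulAut.conj g).toMonoidHom.comp Q₁.subtype ∈ (groupFusionSystem H).Hom Q₁ :=
      ⟨hQ₁H, fun x => hQ₁H ((hg' _).mp x.2), g, fun x => rfl⟩
    obtain ⟨-, t, ht, et⟩ := hinner Q₁ _ hmem
    have et' : ∀ x ∈ Q₁, g * x * g⁻¹ = t * x * t⁻¹ := fun x hx => et ⟨x, hx⟩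
    have hpow : ∀ (k : ℕ), ∀ x ∈ Q₁, g ^ k * x * (g ^ k)⁻¹ = t ^ k * x * (t ^ k)⁻¹ := by
      intro k
      induction k with
      | zero =>
        intro x _
        simp
      | succ k ih =>
        intro x hx
        have h1 : g * x * g⁻¹ ∈ Q₁ := (hg' x).mp hx
        calc g ^ (k + 1) * x * (g ^ (k + 1))⁻¹ = g ^ k * (g * x * g⁻¹) * (g ^ k)⁻¹ := by
              rw [pow_succ]
              group
          _ = t ^ k * (g * x * g⁻¹) * (t ^ k)⁻¹ := ih _ h1
          _ = t ^ k * (t * x * t⁻¹) * (t ^ k)⁻¹ := by rw [et' x hx]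
          _ = t ^ (k + 1) * x * (t ^ (k + 1))⁻¹ := by
              rw [pow_succ]
              group
    obtain ⟨e, he⟩ := hHp ⟨t, ht⟩
    have he' : t ^ p ^ e = 1 := by
      simpa only [Subgroup.coe_pow, Subgroup.coe_one] using congrArg Subtype.val he
    have hord : orderOf t ∣ p ^ e := orderOf_dvd_of_pow_eq_one he'
    have hcop : Nat.Coprime (orderOf g) (orderOf t) :=
      Nat.Coprime.coprime_dvd_right hord (Nat.Coprime.pow_right e hgc)
    obtain ⟨u, hu⟩ := exists_pow_eq_self_of_coprime hcop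
    rw [Subgroup.mem_centralizer_iff]
    intro x hx
    have h1 := hpow (orderOf g) x hx
    rw [pow_orderOf_eq_one] at h1
    have h2 : x = t ^ orderOf g * x * (t ^ orderOf g)⁻¹ := by simpa using h1
    have hcomm : Commute (t ^ orderOf g) x := by
      show t ^ orderOf g * x = x * t ^ orderOf g
      calc t ^ orderOf g * x = t ^ orderOf g * x * (t ^ orderOf g)⁻¹ * t ^ orderOf g := by group
        _ = x * t ^ orderOf g := by rw [← h2]
    have hcomm2 : Commute t x := by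
      rw [← hu]
      exact hcomm.pow_left u
    have h3 := et' x hx
    have h4 : t * x * t⁻¹ = x := by
      rw [hcomm2.eq]
      group
    rw [h4] at h3
    calc x * g = g * x * g⁻¹ * g := by rw [h3]
      _ = g * x := by group
  obtain ⟨N, hNn, hNc⟩ := hFrob
  refine ⟨N.comap π, hNn.comap π, ?_, ?_⟩
  · rw [eq_top_iff]
    intro x _
    obtain ⟨⟨n, h⟩, he⟩ := hNc.2 (π x)
    have he' : (n : L ⧸ Q) * h = π x := he
    obtain ⟨t, ht, htπ⟩ := h.2
    have h1 : x * t⁻¹ ∈ N.comap π := by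
      show π (x * t⁻¹) ∈ N
      rw [map_mul, map_inv, ← he', ← htπ]
      simp only [mul_inv_cancel_right]
      exact n.2
    have h2 : x = x * t⁻¹ * t := by group
    rw [h2]
    exact Subgroup.mul_mem _ (Subgroup.mem_sup_left h1) (Subgroup.mem_sup_right ht)
  · intro k hk
    rw [← hπq, map_pow]
    have h1 : H.index = Nat.card N := hNc.index_eq_card
    rw [← hHindex, h1]
    have h3 : (⟨π k, hk⟩ : ↥N) ^ Nat.card N = 1 := pow_card_eq_one'
    have h4 := congrArg (fun y : ↥N => (y : L ⧸ Q)) h3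
    simpa only [Subgroup.coe_pow, Subgroup.coe_one] using h4

end K

section Constrained

variable {Ω : Type u} [Group Ω] {S : Subgroup Ω} {p : ℕ} [Fact p.Prime]

/-- The constrained case. -/
theorem constrained_case [Finite S] (hS : IsPGroup p S) {F : FusionSystem S} (hF : F.IsSaturated p)
    (hNoS : p = 2 → NoS3 F)
    (hC : ∀ (P : Subgroup Ω) (φ : P →* Ω), φ ∈ F.centralizerHom (Zf S) P → φ ∈ (innerFusionSystem S).Hom P)
    (hIH : ∀ (Ω' : Type u) [Group Ω'] (S' : Subgroup Ω') (_ : Finite S') (F' : FusionSystem S'),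
      IsPGroup p S' → F'.IsSaturated p → Nat.card S' < Nat.card S → ThmP S' F' p)
    (hBall : ∀ Y : Subgroup Ω, F.IsFullyNormalized Y → F.core ≤ Y → Y ≠ F.core →
      ¬ Jf (normalizerIn S Y) ≤ F.core →
      ∀ (P : Subgroup Ω) (φ : P →* Ω), φ ∈ F.normalizerHom Y P → φ ∈ (innerFusionSystem S).Hom P)
    (hJ : ¬ Jf S ≤ F.core) (hcc : centralizerIn S F.core ≤ F.core)
    (P : Subgroup Ω) (φ : P →* Ω) (hφ : φ ∈ F.Hom P) : φ ∈ (innerFusionSystem S).Hom P := by
  have hX := isNormal_core F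
  have hcentric : F.IsCentric F.core := by
    refine ⟨hX.1, ?_⟩
    rintro _ ⟨ψ, hψ, rfl⟩
    rw [(StronglyClosed.weaklyClosed (IsNormal.stronglyClosed hX)).2 ψ hψ]
    exact hcc
  have hcons : F.IsConstrained p := ⟨hF, F.core, hX, hcentric⟩
  obtain ⟨L, _, ι, hM⟩ := FusionModelExist.exists_model hS F hcons
  have hcoreEq := Cfsg.Agent.Lib.FusionModelUniq.preS_pCore_eq_core hM
  obtain ⟨hfin, hreal, ⟨T, hT⟩, hcent⟩ := hM
  haveI := hfin
  have hι := hreal.1
  haveI hQn := pCore_normal' (X := L) p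
  have hQp := isPGroup_pCore' (X := L) p
  have hQT : pCore p L ≤ (T : Subgroup L) := pCore_le_sylow' T
  have hcore : imageAlong ι F.core = pCore p L := by
    rw [← hcoreEq]
    exact imageAlong_preS' (hT ▸ hQT)
  have himgS : imageAlong ι S = (T : Subgroup L) := by
    rw [hT]
    ext y
    constructor
    · rintro ⟨t, -, rfl⟩
      exact ⟨t, rfl⟩
    · rintro ⟨t, rfl⟩
      exact ⟨t, t.2, rfl⟩
  have hJL : ¬ sSup (mabs (T : Subgroup L)) ≤ pCore p L := by
    intro h
    apply hJ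
    apply Jf_le_of_image hι le_rfl hX.1
    rw [himgS, hcore]
    exact h
  have hBL := hBL_of hS hF hreal hT T.isPGroup' hcore hcent hBall
  have hS3L : p = 2 → ¬ Sec L := fun h2 =>
    noSecL hreal hQn hcore hcent (h2 ▸ hQp) (hNoS h2) hcentric
  have hQne : pCore p L ≠ ⊥ := by
    intro h
    apply hJL
    intro x _
    apply hcent
    rw [h, Subgroup.mem_centralizer_iff]
    intro q hq
    have : q = 1 := hq
    rw [this, one_mul, mul_one]
  have hkey : ∀ R : Subgroup L, pCore p L < R → R ≤ (T : Subgroup L) →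
      (T : Subgroup L) ≤ Subgroup.normalizer (R : Set L) → Subgroup.normalizer (R : Set L) ≤ T := by
    intro R hQR hRT hTR
    have h1 := hBL R hQR hRT (by rwa [inf_eq_left.mpr hTR])
    exact (T.is_maximal' h1 hTR).le
  have hcardT : Nat.card (T : Subgroup L) = Nat.card S := by
    rw [hT]
    exact Nat.card_congr (MonoidHom.ofInjective hι).toEquiv.symm
  obtain ⟨K, hKn, hKT, hKpow⟩ := exists_K (pCore p L) (T : Subgroup L) hQT T.isPGroup' T.not_dvd_index hQne hkey hS3L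
    (fun S' hS'f F' hS'p hS's hc => hIH _ S' hS'f F' hS'p hS's (hcardT ▸ hc))
  by_cases hz : ∃ z : Ω, ∃ hz : z ∈ Zf S, ∃ g, g * ι ⟨z, (mem_Zf.mp hz).1⟩ ≠ ι ⟨z, (mem_Zf.mp hz).1⟩ * g
  · exfalso
    obtain ⟨z, hzZ, hzg⟩ := hz
    have hzT : ι ⟨z, (mem_Zf.mp hzZ).1⟩ ∈ (T : Subgroup L) := by
      rw [hT]
      exact ⟨_, rfl⟩
    have hzc : ∀ t ∈ (T : Subgroup L), t * ι ⟨z, (mem_Zf.mp hzZ).1⟩ = ι ⟨z, (mem_Zf.mp hzZ).1⟩ * t := by
      intro t ht
      rw [hT] at ht
      obtain ⟨t₀, rfl⟩ := ht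
      rw [← map_mul, ← map_mul]
      congr 1
      exact Subtype.ext ((mem_Zf.mp hzZ).2 t₀ t₀.2)
    exact hJL (thmO (pCore p L) (T : Subgroup L) K hQn hQT hcent T.isPGroup' T.not_dvd_index hBL hKn hKT hKpow
      hzT hzc hzg hS3L)
  · push Not at hz
    obtain ⟨hPS, hv, g, hg⟩ := exists_conj_of_mem hreal hφ
    have hZS : Zf S ≤ S := inf_le_left
    have hsup : P ⊔ Zf S ≤ S := sup_le hPS hZS
    have hfixg : ∀ (z : Ω) (hz' : z ∈ Zf S), g * ι ⟨z, hZS hz'⟩ * g⁻¹ = ι ⟨z, hZS hz'⟩ := by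
      intro z hz'
      rw [hz z hz' g, mul_inv_cancel_right]
    have hval : ∀ x, conjOn ι hsup g x ∈ ι.range := by
      refine sup_values_mem (conjOn ι hsup g) ?_ ?_
      · intro x hx
        rw [conjOn_apply]
        exact ⟨_, hg ⟨x, hx⟩⟩
      · intro z hz'
        rw [conjOn_apply]
        exact ⟨⟨z, hZS hz'⟩, (hfixg z hz').symm⟩
    have hψ := liftHom_conj_mem hreal hsup g hval
    have hιψ := fun x => ι_liftHom hreal.1 (conjOn ι hsup g) hval x
    have hcen : ∀ {x : Ω}, x ∈ S → x ∈ centralizerIn S (Zf S) := by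
      intro x hx
      refine ⟨hx, ?_⟩
      show x ∈ Subgroup.centralizer ((Zf S : Subgroup Ω) : Set Ω)
      rw [Subgroup.mem_centralizer_iff]
      intro v hv
      exact ((mem_Zf.mp hv).2 x hx).symm
    refine hC P φ ⟨hφ, fun x hx => hcen (hPS hx), fun x => hcen (hv x), _, hψ, fun x => ?_, fun v => ?_⟩
    · apply eq_of_ι_eq hι (liftHom_mem hι _ hval _) (hv x)
      rw [hιψ, conjOn_apply]
      exact (hg x).symm
    · apply eq_of_ι_eq hι (liftHom_mem hι _ hval _) (hZS v.2)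
      rw [hιψ, conjOn_apply]
      exact hfixg v v.2

end Constrained

end Cfsg.Agent.Lib.ThmOFus
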