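import Cfsg.Agent.Lib.ThmOFusE

/-!
The main induction for the normal complement theorem for fusion systems.
-/

set_option autoImplicit false

universe u

namespace Cfsg.Agent.Lib.ThmOFus

open Cfsg Cfsg.FusionSystem Cfsg.Agent.Lib.FusionBasic Cfsg.Agent.Lib.FusionAut
  Cfsg.Agent.Lib.FusionSat Cfsg.Agent.Lib.FusionModel Cfsg.Agent.Lib.FusionLocal
  Cfsg.Agent.Lib.FusionLocalModel Cfsg.Agent.Lib.FusionAlperin Cfsg.Agent.Lib.FusionJFactor
  Cfsg.Agent.Lib.FusionCenCtl Cfsg.Agent.Lib.FusionCenQuad Cfsg.Agent.Lib.FusionGrun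
  Cfsg.Agent.Lib.FusionNormal Cfsg.Agent.Lib.FusionJGen Cfsg.Agent.Lib.ThmOS3 Cfsg.Agent.Lib.ThmOMain

section F

variable {Ω : Type u} [Group Ω] {S : Subgroup Ω} {p : ℕ} [Fact p.Prime]

theorem main_step [Finite S] (hS : IsPGroup p S) {F : FusionSystem S} (hF : F.IsSaturated p)
    (hIH : ∀ (Ω' : Type u) [Group Ω'] (S' : Subgroup Ω') (_ : Finite S') (F' : FusionSystem S'),
      IsPGroup p S' → F'.IsSaturated p → Nat.card S' < Nat.card S → ThmP S' F' p)
    (hIH2 : ∀ (S' : Subgroup Ω) (_ : Finite S') (F' : FusionSystem S'), IsPGroup p S' → F'.IsSaturated p →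
      (Nat.card S' = Nat.card S ∧ nonNormalCount F' < nonNormalCount F) → ThmP S' F' p) : ThmP S F p := by
  intro hNoS hC hN
  by_cases hJ : Jf S ≤ F.core
  · exact case_J (isNormal_core F) hJ hN
  have hIH3 : ∀ (S' : Subgroup Ω) (_ : Finite S') (F' : FusionSystem S'), IsPGroup p S' → F'.IsSaturated p →
      (Nat.card S' < Nat.card S ∨ (Nat.card S' = Nat.card S ∧ nonNormalCount F' < nonNormalCount F)) →
      ThmP S' F' p := by
    intro S' h1 F' h2 h3 h4
    rcases h4 with h4 | h4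
    · exact hIH Ω S' h1 F' h2 h3 h4
    · exact hIH2 S' h1 F' h2 h3 h4
  let B : ℕ → Prop := fun n => ∀ Y : Subgroup Ω, F.IsFullyNormalized Y → F.core ≤ Y → Y ≠ F.core →
      ¬ Jf (normalizerIn S Y) ≤ F.core → n ≤ Nat.card (normalizerIn S Y) →
      ∀ (P : Subgroup Ω) (φ : P →* Ω), φ ∈ F.normalizerHom Y P → φ ∈ (innerFusionSystem S).Hom P
  have htop : B (Nat.card S + 1) := by
    intro Y _ _ _ _ hc
    have := card_le_S (S := S) (P := normalizerIn S Y) inf_le_left
    omega
  have hdesc : ∀ n, B (n + 1) → B n := by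
    intro n hB Y hY h1 h2 h3 h4 P φ hφ
    exact b_step hS hF hNoS hC hN hIH3 hB hY h1 h2 h3 h4 P φ hφ
  have hall : ∀ k n, n + k = Nat.card S + 1 → B n := by
    intro k
    induction k with
    | zero =>
      intro n hn
      have : n = Nat.card S + 1 := by omega
      rw [this]
      exact htop
    | succ k ih =>
      intro n hn
      exact hdesc n (ih (n + 1) (by omega))
  have hBall : ∀ Y : Subgroup Ω, F.IsFullyNormalized Y → F.core ≤ Y → Y ≠ F.core →
      ¬ Jf (normalizerIn S Y) ≤ F.core →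
      ∀ (P : Subgroup Ω) (φ : P →* Ω), φ ∈ F.normalizerHom Y P → φ ∈ (innerFusionSystem S).Hom P :=
    fun Y h1 h2 h3 h4 => hall (Nat.card S + 1) 0 (by omega) Y h1 h2 h3 h4 (Nat.zero_le _)
  by_cases hcc : centralizerIn S F.core ≤ F.core
  · exact constrained_case hS hF hNoS hC hIH hBall hJ hcc
  · exact nonconstrained_case hS hF hN hBall hcc

end F

theorem main_all (p : ℕ) [Fact p.Prime] : ∀ (n m : ℕ) (Ω : Type u) [Group Ω] (S : Subgroup Ω) (_ : Finite S)
    (F : FusionSystem S), IsPGroup p S → F.IsSaturated p → Nat.card S = n → nonNormalCount F = m →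
    ThmP S F p := by
  intro n
  induction n using Nat.strong_induction_on with
  | _ n ihn =>
    intro m
    induction m using Nat.strong_induction_on with
    | _ m ihm =>
      intro Ω _ S hfin F hS hF hn hm
      refine main_step hS hF ?_ ?_
      · intro Ω' _ S' hfin' F' hS' hF' hlt
        exact ihn _ (hn ▸ hlt) _ Ω' S' hfin' F' hS' hF' rfl rfl
      · rintro S' hfin' F' hS' hF' ⟨h1, h2⟩
        exact ihm _ (hm ▸ h2) Ω S' hfin' F' hS' hF' (h1.trans hn) rfl

section G

variable {Ω : Type u} [Group Ω] {S : Subgroup Ω} {p : ℕ} [Fact p.Prime]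

/-- Section freeness gives the absence of sections of type `S₃` in automizers. -/
theorem noS3_of_free [Finite S] (hS : IsPGroup p S) {F : FusionSystem S} (hF : F.IsSaturated p) (hp : p = 2)
    (hfree : F.IsSectionFree p (Equiv.Perm (Fin 4))) : NoS3 F := by
  subst hp
  intro Q _ hQc hsec
  obtain ⟨Q₁, hconj, hQ₁⟩ := exists_isConj_fullyNormalized F hQc.1
  have hQ₁c : F.IsCentric Q₁ := ⟨hQ₁.1, fun R hR => hQc.2 R (isConj_trans F hconj hR)⟩
  obtain ⟨ρ, hρ, hρr⟩ := hconj
  have hsec₁ : Sec ↥(F.autGroup Q₁) := by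
    let f : ↥(F.autGroup Q) →* ↥(F.autGroup Q₁) :=
      ((MulAut.congr (isoOfRange hρ hρr)).toMonoidHom.comp (F.autGroup Q).subtype).codRestrict _
        (fun β => congr_mem_autGroup hρ hρr β.2)
    have hf : Function.Injective f := by
      intro a b hab
      apply Subtype.ext
      exact (MulAut.congr (isoOfRange hρ hρr)).injective (congrArg Subtype.val hab)
    exact Sec.of_injective f hf hsec
  have hQ₁S : Q₁ ≤ S := hQ₁.1
  have hTS : normalizerIn S Q₁ ≤ S := inf_le_left
  haveI : Finite ↥(normalizerIn S Q₁) := finite_of_le hTS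
  have hNs := isNormalizerSystem_normalizerSystem F Q₁ hQ₁S
  have hcons := isConstrained_normalizerSystem hS hF hQ₁ hQ₁c hNs
  obtain ⟨L, _, ι, hM⟩ := FusionModelExist.exists_model (hS.to_le hTS) _ hcons
  have hfree' := hfree Q₁ hQ₁ hQ₁c _ hNs L ι hM
  obtain ⟨hfin, hreal, -, hcent⟩ := hM
  haveI := hfin
  have hle := le_normalizerIn hQ₁S
  obtain ⟨f, hf, -⟩ := exists_autHom hreal hle
  have hA := autGroup_normalizerSystem hNs hQ₁S
  have hsec₂ : Sec ↥((normalizerSystem F Q₁ hQ₁S).autGroup Q₁) := by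
    rw [hA]
    exact hsec₁
  have h1 := Sec.of_surjective f hf hsec₂
  have h2 := Sec.of_injective (Subgroup.subtype _) Subtype.val_injective h1
  exact hfree' (Cfsg.Agent.Lib.ThmOS4.involves_of_rel hcent (Cfsg.Agent.Lib.ThmOS4.claimC h2))

end G

end Cfsg.Agent.Lib.ThmOFus
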