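import Mathlib
import Cfsg.Agent.Lib.ThmOS3

/-!
Two transvections on a vector space over a prime field: the unipotent case, the sign case for odd
primes and the case of characteristic two.
-/

set_option autoImplicit false

universe u

namespace Cfsg.Agent.Lib.ThmOTrans

open Cfsg Cfsg.Agent.Lib.ThmOBase Cfsg.Agent.Lib.ThmOS3

section Linear

variable {p : ℕ} [hp : Fact p.Prime] {M : Type*} [AddCommGroup M] [Module (ZMod p) M]

theorem phi_self_zero (A : Module.End (ZMod p) M) (φ : M →ₗ[ZMod p] ZMod p) (u : M) (hu : u ≠ 0)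
    (hA : ∀ v, A v = v + φ v • u) (hpow : A ^ p = 1) : φ u = 0 := by
  have h1 : ∀ n : ℕ, (A ^ n) u = (1 + φ u) ^ n • u := by
    intro n
    induction n with
    | zero => simp
    | succ n ih =>
      rw [pow_succ', Module.End.mul_apply, ih, map_smul, hA, pow_succ]
      module
  have h2 := h1 p
  rw [hpow, Module.End.one_apply, ZMod.pow_card] at h2
  have h3 : φ u • u = 0 := by
    have h4 : u + φ u • u = u := by
      conv_rhs => rw [h2]
      module
    simpa using h4
  exact (smul_eq_zero.mp h3).resolve_right hu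

/-- The expansion of powers of `1 + D` with `D³ = 0`. -/
theorem pow_of_cube_zero (X : Module.End (ZMod p) M)
    (h : ∀ v, (X - 1) ((X - 1) ((X - 1) v)) = 0) (n : ℕ) (v : M) :
    (X ^ n) v = v + (n : ZMod p) • (X - 1) v + ((n.choose 2 : ℕ) : ZMod p) • (X - 1) ((X - 1) v) := by
  have hX : ∀ y, X y = y + (X - 1) y := by
    intro y
    simp
  induction n generalizing v with
  | zero => simp
  | succ n ih =>
    rw [pow_succ', Module.End.mul_apply, ih, map_add, map_add, map_smul, map_smul]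
    rw [hX v, hX ((X - 1) v), hX ((X - 1) ((X - 1) v)), h v]
    have hc : (n + 1).choose 2 = n + n.choose 2 := by
      rw [Nat.choose_succ_succ' n 1, Nat.choose_one_right]
    rw [hc]
    push_cast
    module

theorem pow_eq_one_of_cube_zero (X : Module.End (ZMod p) M)
    (h : ∀ v, (X - 1) ((X - 1) ((X - 1) v)) = 0) : X ^ (p ^ 2) = 1 := by
  have hpp : p.Prime := Fact.out
  ext v
  rw [pow_of_cube_zero X h, Module.End.one_apply]
  have h1 : ((p ^ 2 : ℕ) : ZMod p) = 0 := by
    rw [ZMod.natCast_eq_zero_iff]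
    exact dvd_pow_self p two_ne_zero
  have h2 : (((p ^ 2).choose 2 : ℕ) : ZMod p) = 0 := by
    rw [ZMod.natCast_eq_zero_iff]
    apply Nat.Prime.dvd_choose_pow hpp two_ne_zero
    have := hpp.two_le
    nlinarith
  rw [h1, h2]
  simp

/-- The unipotent case: `D³ = 0` for the product of a transvection and the inverse of another,
when the product of the cross terms vanishes. -/
theorem cube_zero_of_cross (X : Module.End (ZMod p) M) (φ ψ : M →ₗ[ZMod p] ZMod p) (u w : M)
    (hφu : φ u = 0) (hψw : ψ w = 0)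
    (hX : ∀ v, X v = v + (-φ v) • u + (ψ v - φ v * ψ u) • w) (hcross : φ w * ψ u = 0) (v : M) :
    (X - 1) ((X - 1) ((X - 1) v)) = 0 := by
  have hD : ∀ y, (X - 1) y = (-φ y) • u + (ψ y - φ y * ψ u) • w := by
    intro y
    simp only [LinearMap.sub_apply, Module.End.one_apply, hX]
    module
  have hDu : (X - 1) u = ψ u • w := by
    rw [hD, hφu]
    module
  have hDw : (X - 1) w = (-φ w) • u := by
    rw [hD, hψw, hcross]
    module
  have hDDu : (X - 1) ((X - 1) u) = 0 := by
    rw [hDu, map_smul, hDw, smul_smul]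
    have : ψ u * -φ w = 0 := by linear_combination -hcross
    rw [this, zero_smul]
  have hDDw : (X - 1) ((X - 1) w) = 0 := by
    rw [hDw, map_smul, hDu, smul_smul]
    have : -φ w * ψ u = 0 := by linear_combination -hcross
    rw [this, zero_smul]
  rw [hD v, map_add, map_smul, map_smul, map_add, map_smul, map_smul, hDDu, hDDw]
  simp

/-- The odd case: the square of a suitable product acts as `-1` on `u` and commutes with the transvection. -/
theorem sign_square (A B' : Module.End (ZMod p) M) (φ ψ' : M →ₗ[ZMod p] ZMod p) (u w : M)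
    (hφu : φ u = 0) (hψw : ψ' w = 0) (hA : ∀ v, A v = v + φ v • u) (hB : ∀ v, B' v = v + ψ' v • w)
    (hc : φ w * ψ' u = -2) :
    ((A * B') ^ 2) u = -u ∧ ∀ v, ((A * B') ^ 2) (A v) = A (((A * B') ^ 2) v) := by
  have hG : ∀ v, (A * B') v = v + ψ' v • w + (φ v + ψ' v * φ w) • u := by
    intro v
    rw [Module.End.mul_apply, hB, hA, map_add, map_smul]
    simp only [smul_eq_mul]
  have hS : ∀ v, ((A * B') ^ 2) v = v + (φ w * ψ' v) • u + (ψ' u * φ v) • w := by
    intro v
    rw [pow_two, Module.End.mul_apply, hG v, hG]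
    simp only [map_add, map_smul, smul_eq_mul, hφu, hψw, mul_zero, add_zero, zero_add]
    have e1 : ∀ c₁ c₂ c₃ c₄ : ZMod p, c₁ = φ w * ψ' v → c₂ = ψ' u * φ v →
        v + ψ' v • w + (φ v + ψ' v * φ w) • u + (ψ' v + (φ v + ψ' v * φ w) * ψ' u) • w + c₃ • u + c₄ • w = v + c₁ • u + c₂ • w → True := by
      intros; trivial
    have e2 : (φ v + ψ' v * φ w) + ((φ v + ψ' v * φ w) + (ψ' v + (φ v + ψ' v * φ w) * ψ' u) * φ w) = φ w * ψ' v := by
      linear_combination (φ v + ψ' v * φ w) * hc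
    have e3 : ψ' v + (ψ' v + (φ v + ψ' v * φ w) * ψ' u) = ψ' u * φ v := by
      linear_combination (ψ' v) * hc
    rw [← e2]
    conv_rhs => rw [← e3]
    module
  constructor
  · rw [hS, hφu, hc]
    module
  · intro v
    rw [hS (A v), hS v, hA v, hA (v + _ + _)]
    simp only [map_add, map_smul, smul_eq_mul, hφu, mul_zero, add_zero]
    module

end Linear

theorem zmod2_eq_one : ∀ c : ZMod 2, c ≠ 0 → c = 1 := by decide

theorem zmod2_add_self : ∀ c : ZMod 2, c + c = 0 := by decide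

section Step6

variable {L : Type*} [Group L] [Finite L] {p : ℕ} [hp : Fact p.Prime]
  {M : Type*} [AddCommGroup M] [Module (ZMod p) M]

/-- A normal subgroup modulo `Q` without `p`-torsion has order prime to `p`. -/
theorem not_dvd_card_map (Q C : Subgroup L) [Q.Normal] (hCp : ∀ y ∈ C, y ^ p ∈ Q → y ∈ Q) :
    ¬ p ∣ Nat.card ↥(C.map (QuotientGroup.mk' Q)) := by
  intro hdvd
  obtain ⟨y, hy⟩ := exists_prime_orderOf_dvd_card' p hdvd
  obtain ⟨y₀, hy₀, hye⟩ := y.2
  have h1 : y ^ p = 1 := by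
    rw [← hy]
    exact pow_orderOf_eq_one y
  have h2 : (QuotientGroup.mk' Q) (y₀ ^ p) = 1 := by
    rw [map_pow, hye]
    have := congrArg Subtype.val h1
    simpa only [Subgroup.coe_pow, Subgroup.coe_one] using this
  have h3 : y₀ ^ p ∈ Q := (QuotientGroup.eq_one_iff _).mp h2
  have h4 := hCp y₀ hy₀ h3
  have h5 : (y : L ⧸ Q) = 1 := by
    rw [← hye]
    exact (QuotientGroup.eq_one_iff _).mpr h4
  have h6 : y = 1 := Subtype.ext h5
  rw [h6, orderOf_one] at hy
  exact (Fact.out : p.Prime).one_lt.ne hy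

/-- The final step: two transvections generate too much. -/
theorem step6 (ρ : L →* Module.End (ZMod p) M) (Q K : Subgroup L) (hQ : Q.Normal) (hQρ : Q ≤ ρ.ker)
    (hK : K.Normal) {n : ℕ} (hpow : ∀ k ∈ K, k ^ n ∈ Q) (hn : ¬ p ∣ n)
    (hCp : ∀ y ∈ ρ.ker, y ^ p ∈ Q → y ∈ Q)
    {a : L} (hap : a ^ p ∈ Q)
    (hNa : ∀ y : L, y * a * y⁻¹ * a⁻¹ ∈ Q → ∃ e : ℕ, y ^ p ^ e = 1)
    (φ : M →ₗ[ZMod p] ZMod p) (u : M) (hu : u ≠ 0) (hA : ∀ v, ρ a v = v + φ v • u)
    {k : L} (hk : k ∈ K) (hx : k * a * k⁻¹ * a⁻¹ ∉ ρ.ker)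
    (hS3 : p = 2 → ¬ Sec L) : False := by
  classical
  haveI := hQ
  have hpp : p.Prime := Fact.out
  have hρQ : ∀ q ∈ Q, ρ q = 1 := fun q hq => hQρ hq
  have hApow : ρ a ^ p = 1 := by rw [← map_pow]; exact hρQ _ hap
  have hφu : φ u = 0 := phi_self_zero (ρ a) φ u hu hA hApow
  have hk1 : ∀ (g : L) (v : M), ρ g (ρ g⁻¹ v) = v := by
    intro g v
    rw [← Module.End.mul_apply, ← map_mul, mul_inv_cancel, map_one, Module.End.one_apply]
  have hk2 : ∀ (g : L) (v : M), ρ g⁻¹ (ρ g v) = v := by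
    intro g v
    rw [← Module.End.mul_apply, ← map_mul, inv_mul_cancel, map_one, Module.End.one_apply]
  set b := k * a * k⁻¹ with hb
  let w := ρ k u
  let ψ : M →ₗ[ZMod p] ZMod p := φ.comp (ρ k⁻¹)
  have hψ : ∀ v, ψ v = φ (ρ k⁻¹ v) := fun v => rfl
  have hBform : ∀ v, ρ b v = v + ψ v • w := by
    intro v
    have h1 : ρ b = ρ k * ρ a * ρ k⁻¹ := by rw [hb, map_mul, map_mul]
    rw [h1, Module.End.mul_apply, Module.End.mul_apply, hA, map_add, hk1, map_smul]
    rfl
  have hψw : ψ w = 0 := by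
    rw [hψ]
    show φ (ρ k⁻¹ (ρ k u)) = 0
    rw [hk2, hφu]
  have hAinv : ∀ v, ρ a⁻¹ v = v + (-φ v) • u := by
    intro v
    have h1 : ρ a (v + (-φ v) • u) = v := by
      rw [map_add, map_smul, hA, hA u, hφu]
      module
    have h2 := hk2 a (v + (-φ v) • u)
    rw [h1] at h2
    exact h2
  have hXform : ∀ v, ρ (b * a⁻¹) v = v + (-φ v) • u + (ψ v - φ v * ψ u) • w := by
    intro v
    rw [map_mul, Module.End.mul_apply, hAinv, hBform, map_add, map_smul]
    simp only [smul_eq_mul]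
    module
  have hxK : b * a⁻¹ ∈ K := by
    have h1 : a * k⁻¹ * a⁻¹ ∈ K := hK.conj_mem _ (K.inv_mem hk) a
    have h2 : b * a⁻¹ = k * (a * k⁻¹ * a⁻¹) := by rw [hb]; group
    rw [h2]
    exact K.mul_mem hk h1
  have hXn : ρ (b * a⁻¹) ^ n = 1 := by
    rw [← map_pow]
    exact hρQ _ (hpow _ hxK)
  have hx' : ρ (b * a⁻¹) ≠ 1 := fun h => hx h
  by_cases hcross : φ w * ψ u = 0
  · -- the unipotent case
    have h1 := pow_eq_one_of_cube_zero (ρ (b * a⁻¹))
      (cube_zero_of_cross _ φ ψ u w hφu hψw hXform hcross)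
    have h2 := pow_gcd_eq_one.mpr ⟨h1, hXn⟩
    have h3 : Nat.gcd (p ^ 2) n = 1 :=
      Nat.Coprime.pow_left 2 ((Nat.Prime.coprime_iff_not_dvd hpp).mpr hn)
    rw [h3, pow_one] at h2
    exact hx' h2
  by_cases hp2 : p = 2
  · -- characteristic two
    subst hp2
    apply hS3 rfl
    have hα : φ w = 1 := zmod2_eq_one _ (left_ne_zero_of_mul hcross)
    have hβ : ψ u = 1 := zmod2_eq_one _ (right_ne_zero_of_mul hcross)
    set X := ρ (b * a⁻¹) with hXdef
    have hXu : X u = u + w := by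
      rw [hXform, hφu, hβ]
      module
    have hXw : X w = (-1 : ZMod 2) • u := by
      rw [hXform, hψw, hα, hβ]
      module
    have hXsm : ∀ (y : M) (c d : ZMod 2), X (y + c • u + d • w) = X y + c • (u + w) + d • ((-1 : ZMod 2) • u) := by
      intro y c d
      rw [map_add, map_add, map_smul, map_smul, hXu, hXw]
    have hX3 : ∀ v, X (X (X v)) = v := by
      intro v
      have e1 : X v = v + (-φ v) • u + (ψ v - φ v * 1) • w := by
        rw [hXform, hβ]
      set c := -φ v
      set d := ψ v - φ v * 1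
      have e2 : X (X v) = v + (c + c - d) • u + (d + c) • w := by
        rw [e1, hXsm, e1]
        module
      have e3 : X (X (X v)) = v + ((c + c) - (d + d)) • u + (c + c) • w := by
        rw [e2, hXsm, e1]
        module
      rw [e3, zmod2_add_self c, zmod2_add_self d]
      simp
    have hX3' : X ^ 3 = 1 := by
      ext v
      have h1 : X ^ 3 = X * X * X := by rw [pow_succ, pow_two]
      rw [h1, Module.End.mul_apply, Module.End.mul_apply, hX3, Module.End.one_apply]
    let π := QuotientGroup.mk' Q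
    have hπq : ∀ x, π x = 1 ↔ x ∈ Q := fun x => QuotientGroup.eq_one_iff x
    set x := b * a⁻¹ with hxdef
    have hm1 : π x ^ n = 1 := by
      rw [← map_pow, hπq]
      exact hpow _ hxK
    set m := orderOf (π x) with hmdef
    have hmQ : x ^ m ∈ Q := by
      rw [← hπq, map_pow, hmdef, pow_orderOf_eq_one]
    have hXm : X ^ m = 1 := by
      rw [hXdef, ← map_pow]
      exact hρQ _ hmQ
    have h3m : 3 ∣ m := by
      by_contra h3
      have h4 := pow_gcd_eq_one.mpr ⟨hX3', hXm⟩
      have h5 : Nat.gcd 3 m = 1 := (Nat.Prime.coprime_iff_not_dvd Nat.prime_three).mpr h3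
      rw [h5, pow_one] at h4
      exact hx' h4
    have hm0 : 0 < m := orderOf_pos _
    obtain ⟨r, hr⟩ := h3m
    have hr0 : r ≠ 0 := by
      rintro rfl
      omega
    have hrm : r < m := by omega
    have hy3 : (x ^ r) ^ 3 ∈ Q := by
      rw [← pow_mul, mul_comm r 3, ← hr]
      exact hmQ
    have hyQ : x ^ r ∉ Q := by
      rw [← hπq, map_pow]
      exact pow_ne_one_of_lt_orderOf hr0 hrm
    have ha2 : π a * π a = 1 := by
      rw [← map_mul, hπq, ← pow_two]
      exact hap
    have hb2 : π b * π b = 1 := by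
      rw [← map_mul, hπq]
      have h1 : b * b = k * a ^ 2 * k⁻¹ := by
        rw [hb, pow_two]
        group
      rw [h1]
      exact hQ.conj_mem _ hap k
    have haI : (π a)⁻¹ = π a := inv_eq_of_mul_eq_one_left ha2
    have hbI : (π b)⁻¹ = π b := inv_eq_of_mul_eq_one_left hb2
    have hxbar : π x = π b * π a := by
      rw [hxdef, map_mul, map_inv, haI]
    have hinv : π a * π x * (π a)⁻¹ = (π x)⁻¹ := by
      rw [hxbar, mul_inv_rev, haI, hbI]
      calc π a * (π b * π a) * π a = π a * π b * (π a * π a) := by group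
        _ = π a * π b := by rw [ha2, mul_one]
    refine ⟨Q, a, x ^ r, fun q hq => hQ.conj_mem q hq a, fun q hq => hQ.conj_mem q hq _, hy3, hyQ, ?_⟩
    rw [← hπq, map_mul, map_mul, map_mul, map_inv, map_pow, ← conj_pow, hinv, inv_pow, inv_mul_cancel]
  · -- the odd case
    have hodd : Odd p := hpp.odd_of_ne_two hp2
    let j : ℕ := ((-2) * (φ w * ψ u)⁻¹ : ZMod p).val
    haveI : NeZero p := ⟨hpp.ne_zero⟩
    have hj : (j : ZMod p) * (φ w * ψ u) = -2 := by
      show ((((-2) * (φ w * ψ u)⁻¹ : ZMod p).val : ℕ) : ZMod p) * _ = _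
      rw [ZMod.natCast_zmod_val, mul_assoc, inv_mul_cancel₀ hcross, mul_one]
    have hBj : ∀ (i : ℕ) (v : M), (ρ b ^ i) v = v + ((i : ZMod p) * ψ v) • w := by
      intro i
      induction i with
      | zero => intro v; simp
      | succ i ih =>
        intro v
        rw [pow_succ', Module.End.mul_apply, ih, hBform, map_add, map_smul, hψw]
        push_cast
        simp only [smul_eq_mul, mul_zero, add_zero]
        module
    let ψ' : M →ₗ[ZMod p] ZMod p := (j : ZMod p) • ψ
    have hψ' : ∀ v, ψ' v = (j : ZMod p) * ψ v := fun v => rfl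
    have hB' : ∀ v, ρ (b ^ j) v = v + ψ' v • w := by
      intro v
      rw [map_pow, hBj]
      rfl
    have hψ'w : ψ' w = 0 := by rw [hψ', hψw, mul_zero]
    have hc' : φ w * ψ' u = -2 := by
      rw [hψ', ← hj]
      ring
    obtain ⟨hS1, hS2⟩ := sign_square (ρ a) (ρ (b ^ j)) φ ψ' u w hφu hψ'w hA hB' hc'
    set s₀ := (a * b ^ j) ^ 2 with hs₀
    have hρs : ρ s₀ = (ρ a * ρ (b ^ j)) ^ 2 := by
      rw [hs₀, map_pow, map_mul]
    rw [← hρs] at hS1 hS2
    have hcomm : ρ s₀ * ρ a = ρ a * ρ s₀ := by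
      ext v
      exact hS2 v
    let π := QuotientGroup.mk' Q
    have hπq : ∀ x, π x = 1 ↔ x ∈ Q := fun x => QuotientGroup.eq_one_iff x
    have hπs : Function.Surjective π := QuotientGroup.mk'_surjective Q
    let N := (ρ.ker).map π
    haveI hNn : N.Normal := (MonoidHom.normal_ker ρ).map π hπs
    have hNc : ¬ p ∣ Nat.card N := not_dvd_card_map Q ρ.ker hCp
    have hπa : (π a) ^ p ^ 1 = 1 := by
      rw [pow_one, ← map_pow, hπq]
      exact hap
    have hs : (π s₀)⁻¹ * (π a * π s₀ * (π a)⁻¹) ∈ N := by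
      refine ⟨s₀⁻¹ * (a * s₀ * a⁻¹), ?_, by simp only [map_mul, map_inv]⟩
      show ρ (s₀⁻¹ * (a * s₀ * a⁻¹)) = 1
      have e1 : ρ (s₀⁻¹ * (a * s₀ * a⁻¹)) = ρ s₀⁻¹ * (ρ a * ρ s₀ * ρ a⁻¹) := by
        simp only [map_mul]
      rw [e1, ← hcomm]
      have e2 : ρ s₀ * ρ a * ρ a⁻¹ = ρ s₀ := by
        rw [mul_assoc, ← map_mul, mul_inv_cancel, map_one, mul_one]
      rw [e2, ← map_mul, inv_mul_cancel, map_one]
    obtain ⟨c, hc, hce⟩ := fixed_coset N hNc (π a) hπa (π s₀) hs
    obtain ⟨c₀, hc₀, rfl⟩ := hc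
    have hg : (s₀ * c₀) * a * (s₀ * c₀)⁻¹ * a⁻¹ ∈ Q := by
      rw [← hπq]
      have h6 : π a * π (s₀ * c₀) * (π a)⁻¹ = π (s₀ * c₀) := by
        simpa only [map_mul, map_inv] using hce
      have h7 : π (s₀ * c₀) * π a * (π (s₀ * c₀))⁻¹ * (π a)⁻¹ = 1 := by
        rw [mul_inv_eq_iff_eq_mul] at h6
        rw [← h6]
        group
      simpa only [map_mul, map_inv] using h7
    obtain ⟨e, he⟩ := hNa _ hg
    have hρg : ρ (s₀ * c₀) = ρ s₀ := by
      rw [map_mul, show ρ c₀ = 1 from hc₀, mul_one]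
    have hσ : ∀ i : ℕ, (ρ s₀ ^ i) u = (-1 : ZMod p) ^ i • u := by
      intro i
      induction i with
      | zero => simp
      | succ i ih =>
        rw [pow_succ', Module.End.mul_apply, ih, map_smul, hS1, pow_succ]
        module
    have h8 : (ρ s₀ ^ p ^ e) u = u := by
      rw [← hρg, ← map_pow, he, map_one, Module.End.one_apply]
    rw [hσ, Odd.neg_one_pow (hodd.pow)] at h8
    have h9 : (2 : ZMod p) • u = 0 := by
      have h10 : (2 : ZMod p) • u = u - (-1 : ZMod p) • u := by module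
      rw [h10, h8, sub_self]
    have h2ne : (2 : ZMod p) ≠ 0 := by
      intro h
      have h11 : ((2 : ℕ) : ZMod p) = 0 := by exact_mod_cast h
      rw [ZMod.natCast_eq_zero_iff] at h11
      have := Nat.le_of_dvd (by norm_num) h11
      have := hpp.two_le
      exact hp2 (by omega)
    exact hu ((smul_eq_zero.mp h9).resolve_left h2ne)

end Step6

end Cfsg.Agent.Lib.ThmOTrans
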