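import Mathlib
import Cfsg.Agent.Lib.ThmOCyc
import Cfsg.Agent.Lib.ThmOTrans
import Cfsg.Agent.Lib.FusionJFactor
import Cfsg.Agent.Lib.SchurZ2

/-!
The group theorem behind the normal `p`-complement theorem for fusion systems.
-/

set_option autoImplicit false

universe u

namespace Cfsg.Agent.Lib.ThmOMain

open Cfsg Cfsg.Agent.Lib.ThmOBase Cfsg.Agent.Lib.ThmOCyc Cfsg.Agent.Lib.ThmOTrans Cfsg.Agent.Lib.ThmOS3
open Cfsg.Agent.Lib.FusionJFactor

section Bridge

variable {L : Type u} [Group L] {p : ℕ} [hp : Fact p.Prime]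

/-- The action on an elementary abelian group as a linear representation. -/
theorem bridge_aux2 {W : Type u} [CommGroup W] [Finite W] [instM : Module (ZMod p) (Additive W)] (act : L →* MulAut W) :
    ∃ (ρ : L →* Module.End (ZMod p) (Additive W)),
      (∀ g, g ∈ ρ.ker ↔ ∀ v : W, act g v = v) ∧
      ∀ a, (∃ v, act a v ≠ v) → Nat.card W ≤ p * Nat.card {v : W // act a v = v} →
        ∃ (φ : Additive W →ₗ[ZMod p] ZMod p) (u : Additive W), u ≠ 0 ∧ ∀ v, ρ a v = v + φ v • u := by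
  classical
  have hpp : p.Prime := Fact.out
  let cg : L → (Additive W →+ Additive W) := fun g => MonoidHom.toAdditive (act g).toMonoidHom
  have hcg : ∀ (g : L) (v : Additive W), cg g v = Additive.ofMul (act g (Additive.toMul v)) := fun _ _ => rfl
  let ρ : L →* Module.End (ZMod p) (Additive W) :=
    { toFun := fun g => AddMonoidHom.toZModLinearMap p (cg g)
      map_one' := by
        refine LinearMap.ext fun v => ?_
        rw [Module.End.one_apply]
        apply Additive.toMul.injective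
        show act 1 (Additive.toMul v) = Additive.toMul v
        rw [map_one]
        rfl
      map_mul' := fun g h => by
        refine LinearMap.ext fun v => ?_
        apply Additive.toMul.injective
        show act (g * h) (Additive.toMul v) = act g (act h (Additive.toMul v))
        rw [map_mul]
        rfl }
  have hρ : ∀ (g : L) (v : Additive W), Additive.toMul (ρ g v) = act g (Additive.toMul v) :=
    fun _ _ => rfl
  have hker : ∀ g, g ∈ ρ.ker ↔ ∀ v : W, act g v = v := by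
    intro g
    rw [MonoidHom.mem_ker]
    constructor
    · intro h v
      have h1 := hρ g (Additive.ofMul v)
      rw [h] at h1
      exact h1.symm
    · intro h
      refine LinearMap.ext fun v => ?_
      apply Additive.toMul.injective
      rw [hρ, h]
      rfl
  refine ⟨ρ, hker, fun a ha hcard => ?_⟩
  haveI hMod : Module.Finite (ZMod p) (Additive W) := Module.Finite.of_finite
  let D : Additive W →ₗ[ZMod p] Additive W := ρ a - 1
  have hD : ∀ v, D v = ρ a v - v := fun v => rfl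
  have hcardW : ∀ U : Submodule (ZMod p) (Additive W), Nat.card U = p ^ Module.finrank (ZMod p) U := by
    intro U
    letI := Fintype.ofFinite U
    rw [Nat.card_eq_fintype_card, Module.card_eq_pow_finrank (K := ZMod p), ZMod.card]
  have hcardM : Nat.card W = p ^ Module.finrank (ZMod p) (Additive W) := by
    letI := Fintype.ofFinite (Additive W)
    have h1 : Nat.card W = Nat.card (Additive W) := rfl
    rw [h1, Nat.card_eq_fintype_card, Module.card_eq_pow_finrank (K := ZMod p), ZMod.card]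
  have hcardK : Nat.card {v : W // act a v = v} = Nat.card (LinearMap.ker D) := by
    apply Nat.card_congr
    refine ⟨fun x => ⟨Additive.ofMul x.1, ?_⟩, fun y => ⟨Additive.toMul y.1, ?_⟩, ?_, ?_⟩
    · rw [LinearMap.mem_ker, hD, sub_eq_zero]
      apply Additive.toMul.injective
      rw [hρ]
      exact x.2
    · have h1 := y.2
      rw [LinearMap.mem_ker, hD, sub_eq_zero] at h1
      have h2 := hρ a y.1
      rw [h1] at h2
      exact h2.symm
    · intro x
      rfl
    · intro y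
      rfl
  have hrank : Module.finrank (ZMod p) (LinearMap.range D) ≤ 1 := by
    have h1 := LinearMap.finrank_range_add_finrank_ker D
    rw [hcardK, hcardM, hcardW, ← pow_succ'] at hcard
    have h2 := (Nat.pow_le_pow_iff_right hpp.one_lt).mp hcard
    omega
  have hDne : ∃ v, D v ≠ 0 := by
    obtain ⟨v, hv⟩ := ha
    refine ⟨Additive.ofMul v, fun h => hv ?_⟩
    rw [hD, sub_eq_zero] at h
    have h2 := hρ a (Additive.ofMul v)
    rw [h] at h2
    exact h2.symm
  obtain ⟨v₀, hv₀⟩ := hDne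
  let u : Additive W := D v₀
  have hu : u ≠ 0 := hv₀
  let u' : ↥(LinearMap.range D) := ⟨u, v₀, rfl⟩
  have hu' : u' ≠ 0 := fun h => hu (congrArg Subtype.val h)
  haveI : Nontrivial ↥(LinearMap.range D) := ⟨⟨u', 0, hu'⟩⟩
  have hr1 : Module.finrank (ZMod p) (LinearMap.range D) = 1 := by
    have h1 : 0 < Module.finrank (ZMod p) (LinearMap.range D) := Module.finrank_pos
    omega
  have hspan := (finrank_eq_one_iff_of_nonzero' u' hu').mp hr1
  choose c hc using fun v : Additive W => hspan ⟨D v, v, rfl⟩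
  have hc' : ∀ v, c v • u = D v := fun v => congrArg Subtype.val (hc v)
  have hinj : Function.Injective fun t : ZMod p => t • u := smul_left_injective (ZMod p) hu
  let φ : Additive W →ₗ[ZMod p] ZMod p :=
    { toFun := c
      map_add' := fun x y => by
        apply hinj
        show c (x + y) • u = (c x + c y) • u
        rw [hc', add_smul, hc', hc', map_add]
      map_smul' := fun t x => by
        apply hinj
        show c (t • x) • u = (t * c x) • u
        rw [hc', mul_smul, hc', map_smul] }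
  refine ⟨φ, u, hu, fun v => ?_⟩
  have h1 : φ v • u = D v := hc' v
  rw [h1, hD]
  abel

/-- The action on an elementary abelian group as a linear representation. -/
theorem bridge_aux {W : Type u} [CommGroup W] [Finite W] (hexp : ∀ v : W, v ^ p = 1) (act : L →* MulAut W) :
    ∃ (M : Type u) (_ : AddCommGroup M) (_ : Module (ZMod p) M) (ρ : L →* Module.End (ZMod p) M),
      (∀ g, g ∈ ρ.ker ↔ ∀ v : W, act g v = v) ∧
      ∀ a, (∃ v, act a v ≠ v) → Nat.card W ≤ p * Nat.card {v : W // act a v = v} →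
        ∃ (φ : M →ₗ[ZMod p] ZMod p) (u : M), u ≠ 0 ∧ ∀ v, ρ a v = v + φ v • u := by
  have hexp' : ∀ x : Additive W, p • x = 0 := fun x => hexp (Additive.toMul x)
  letI instM : Module (ZMod p) (Additive W) := AddCommGroup.zmodModule hexp'
  obtain ⟨ρ, h1, h2⟩ := bridge_aux2 (L := L) (p := p) (W := W) act
  exact ⟨Additive W, inferInstance, instM, ρ, h1, h2⟩

/-- The action on an elementary abelian normal subgroup as a linear representation. -/
theorem bridge [Finite L] (V : Subgroup L) (hV : V.Normal) (hVab : ∀ a ∈ V, ∀ b ∈ V, a * b = b * a)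
    (hVexp : ∀ v ∈ V, v ^ p = 1) :
    ∃ (M : Type u) (_ : AddCommGroup M) (_ : Module (ZMod p) M) (ρ : L →* Module.End (ZMod p) M),
      (∀ g, g ∈ ρ.ker ↔ g ∈ Subgroup.centralizer (V : Set L)) ∧
      ∀ a, a ∉ Subgroup.centralizer (V : Set L) →
        Nat.card V ≤ p * Nat.card ↥(V ⊓ Subgroup.centralizer ({a} : Set L)) →
        ∃ (φ : M →ₗ[ZMod p] ZMod p) (u : M), u ≠ 0 ∧ ∀ v, ρ a v = v + φ v • u := by
  classical
  letI instV : CommGroup ↥V := { (inferInstance : Group ↥V) with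
    mul_comm := fun a b => Subtype.ext (hVab a a.2 b b.2) }
  haveI := hV
  obtain ⟨M, i1, i2, ρ, h1, h2⟩ := bridge_aux (L := L) (W := ↥V) (p := p)
    (fun v => Subtype.ext (hVexp _ v.2)) (MulAut.conjNormal (H := V))
  have hact : ∀ (g : L) (v : ↥V), ((MulAut.conjNormal (H := V) g v : ↥V) : L) = g * (v : L) * g⁻¹ :=
    fun g v => MulAut.conjNormal_apply g v
  have hfix : ∀ (g : L) (v : ↥V), MulAut.conjNormal (H := V) g v = v ↔ (v : L) * g = g * v := by
    intro g v
    rw [Subtype.ext_iff, hact, mul_inv_eq_iff_eq_mul, eq_comm]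
  refine ⟨M, i1, i2, ρ, fun g => ?_, fun a ha hcard => ?_⟩
  · rw [h1, Subgroup.mem_centralizer_iff]
    constructor
    · intro h v hv
      exact ((hfix g ⟨v, hv⟩).mp (h ⟨v, hv⟩)).symm ▸ rfl
    · intro h v
      exact (hfix g v).mpr (h v v.2)
  · apply h2 a
    · by_contra hno
      push Not at hno
      apply ha
      rw [Subgroup.mem_centralizer_iff]
      intro v hv
      exact (hfix a ⟨v, hv⟩).mp (hno ⟨v, hv⟩)
    · have h3 : Nat.card {v : ↥V // MulAut.conjNormal (H := V) a v = v} =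
          Nat.card ↥(V ⊓ Subgroup.centralizer ({a} : Set L)) := by
        apply Nat.card_congr
        refine ⟨fun x => ⟨x.1, x.1.2, ?_⟩, fun y => ⟨⟨y.1, y.2.1⟩, ?_⟩, fun _ => rfl, fun _ => rfl⟩
        · show (x.1 : L) ∈ Subgroup.centralizer _
          rw [Subgroup.mem_centralizer_singleton_iff]
          exact (hfix a x.1).mp x.2
        · exact (hfix a _).mpr (Subgroup.mem_centralizer_singleton_iff.mp y.2.2)
      rw [h3]
      exact hcard

end Bridge

section Main

variable {L : Type u} [Group L] [Finite L] {p : ℕ} [hp : Fact p.Prime]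

/-- An element centralizing `a` modulo `Q` normalizes `Q⟨a⟩`. -/
theorem normalizes_preimage (Q : Subgroup L) [Q.Normal] (a y : L) (hy : y * a * y⁻¹ * a⁻¹ ∈ Q) :
    y ∈ Subgroup.normalizer
      (((Subgroup.zpowers (QuotientGroup.mk' Q a)).comap (QuotientGroup.mk' Q) : Subgroup L) : Set L) := by
  let π := QuotientGroup.mk' Q
  have hcomm : Commute (π y) (π a) := by
    have h1 : π (y * a * y⁻¹ * a⁻¹) = 1 := by
      show (QuotientGroup.mk _ : L ⧸ Q) = 1
      rw [QuotientGroup.eq_one_iff]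
      exact hy
    simp only [map_mul, map_inv] at h1
    have h2 : π y * π a * (π y)⁻¹ = π a := mul_inv_eq_one.mp h1
    exact mul_inv_eq_iff_eq_mul.mp h2
  rw [Subgroup.mem_normalizer_iff]
  intro x
  have hcz : ∀ u ∈ Subgroup.zpowers (π a), π y * u * (π y)⁻¹ = u := by
    intro u hu
    obtain ⟨m, rfl⟩ := Subgroup.mem_zpowers_iff.mp hu
    have : Commute (π y) ((π a) ^ m) := hcomm.zpow_right m
    rw [this.eq, mul_inv_cancel_right]
  constructor
  · intro hx
    show π (y * x * y⁻¹) ∈ Subgroup.zpowers (π a)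
    simp only [map_mul, map_inv]
    rw [hcz _ hx]
    exact hx
  · intro hx
    have h1 : π y * π x * (π y)⁻¹ ∈ Subgroup.zpowers (π a) := by
      have : π (y * x * y⁻¹) ∈ Subgroup.zpowers (π a) := hx
      simpa only [map_mul, map_inv] using this
    have h2 := hcz _ h1
    have h3 : π y * π x * (π y)⁻¹ = π x :=
      mul_left_cancel (mul_right_cancel (h2.trans rfl))
    show π x ∈ Subgroup.zpowers (π a)
    rw [← h3]
    exact h1

/-- An element of `T ∖ Q` without fixed points on `K/Q` acting trivially on `KC/C` forces `K ≤ C`. -/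
theorem K1' (Q K C : Subgroup L) (hQ : Q.Normal) (hK : K.Normal) {n : ℕ} (hpow : ∀ k ∈ K, k ^ n ∈ Q) (hn : ¬ p ∣ n)
    (hC : C.Normal) (hQC : Q ≤ C) {a : L} {e : ℕ} (ha : a ^ p ^ e = 1)
    (hfix : ∀ y ∈ K, y * a * y⁻¹ * a⁻¹ ∈ Q → y ∈ Q)
    (h : ∀ k ∈ K, k * a * k⁻¹ * a⁻¹ ∈ C) : K ≤ C := by
  haveI := hQ
  let π := QuotientGroup.mk' Q
  have hπq : ∀ x, π x = 1 ↔ x ∈ Q := fun x => QuotientGroup.eq_one_iff x
  have hπs : Function.Surjective π := QuotientGroup.mk'_surjective Q
  haveI hCK : (C ⊓ K).Normal := by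
    haveI := hC
    haveI := hK
    infer_instance
  haveI hNn : ((C ⊓ K).map π).Normal := hCK.map π hπs
  have hcop : Nat.gcd n p = 1 := ((Nat.Prime.coprime_iff_not_dvd (Fact.out : p.Prime)).mpr hn).symm
  have hNc : ¬ p ∣ Nat.card ↥((C ⊓ K).map π) := by
    apply not_dvd_card_map Q (C ⊓ K)
    intro y hy hyp
    rw [← hπq]
    have h1 : π y ^ n = 1 := by rw [← map_pow, hπq]; exact hpow y hy.2
    have h2 : π y ^ p = 1 := by rw [← map_pow, hπq]; exact hyp
    have h3 := pow_gcd_eq_one.mpr ⟨h1, h2⟩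
    rwa [hcop, pow_one] at h3
  have hπa : (π a) ^ p ^ e = 1 := by rw [← map_pow, ha, map_one]
  intro k hk
  have hs : (π k)⁻¹ * (π a * π k * (π a)⁻¹) ∈ (C ⊓ K).map π := by
    refine ⟨k⁻¹ * (a * k * a⁻¹), ⟨?_, ?_⟩, by simp only [map_mul, map_inv]⟩
    · have h1 := h k⁻¹ (K.inv_mem hk)
      simpa [mul_assoc] using h1
    · have h1 : a * k * a⁻¹ ∈ K := hK.conj_mem k hk a
      exact K.mul_mem (K.inv_mem hk) h1
  obtain ⟨c, hc, hce⟩ := fixed_coset _ hNc (π a) hπa (π k) hs
  obtain ⟨c₀, hc₀, rfl⟩ := hc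
  have h4 : (k * c₀) * a * (k * c₀)⁻¹ * a⁻¹ ∈ Q := by
    rw [← hπq]
    have h5 : π (k * c₀) * π a * (π (k * c₀))⁻¹ * (π a)⁻¹ = 1 := by
      have h6 : π a * π (k * c₀) * (π a)⁻¹ = π (k * c₀) := by
        simpa only [map_mul, map_inv] using hce
      rw [mul_inv_eq_iff_eq_mul] at h6
      rw [← h6]
      group
    simpa only [map_mul, map_inv] using h5
  have h9 : k * c₀ ∈ Q := hfix _ (K.mul_mem hk hc₀.2) h4
  have h10 : k = (k * c₀) * c₀⁻¹ := by group
  rw [h10]
  exact C.mul_mem (hQC h9) (C.inv_mem hc₀.1)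

theorem card_map_mul_card_inf (Q A : Subgroup L) [Q.Normal] :
    Nat.card ↥(A.map (QuotientGroup.mk' Q)) * Nat.card ↥(A ⊓ Q) = Nat.card A := by
  let f : ↥A →* L ⧸ Q := (QuotientGroup.mk' Q).comp A.subtype
  have h1 : f.range = A.map (QuotientGroup.mk' Q) := by
    rw [MonoidHom.range_comp, Subgroup.range_subtype]
  have h2 : Nat.card f.ker = Nat.card ↥(A ⊓ Q) := by
    apply Nat.card_congr
    refine ⟨fun x => ⟨x.1.1, x.1.2, ?_⟩, fun y => ⟨⟨y.1, y.2.1⟩, ?_⟩, fun _ => rfl, fun _ => rfl⟩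
    · have h3 : f x.1 = 1 := x.2
      exact (QuotientGroup.eq_one_iff _).mp h3
    · show (QuotientGroup.mk y.1 : L ⧸ Q) = 1
      exact (QuotientGroup.eq_one_iff _).mpr y.2.2
  have h3 := f.ker.card_mul_index
  rw [Subgroup.index_ker, h1, h2] at h3
  rw [mul_comm]
  exact h3

/-- The group theorem. -/
theorem thmO (Q T K : Subgroup L) (hQ : Q.Normal) (hQT : Q ≤ T)
    (hQc : Subgroup.centralizer (Q : Set L) ≤ Q) (hTp : IsPGroup p T) (hTi : ¬ p ∣ T.index)
    (hB : ∀ P : Subgroup L, Q < P → P ≤ T → ¬ sSup (mabs (T ⊓ Subgroup.normalizer (P : Set L))) ≤ Q →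
      IsPGroup p ↥(Subgroup.normalizer (P : Set L)))
    (hK : K.Normal) (hKT' : K ⊔ T = ⊤) (hpow : ∀ k ∈ K, k ^ T.index ∈ Q)
    {z : L} (hzT : z ∈ T) (hzc : ∀ t ∈ T, t * z = z * t) (hznc : ∃ g, g * z ≠ z * g)
    (hS3 : p = 2 → ¬ Sec L) : sSup (mabs T) ≤ Q := by
  classical
  by_contra hJ
  haveI := hQ
  haveI := hK
  have hpp : p.Prime := Fact.out
  have hAex : ∃ A ∈ mabs T, ¬ A ≤ Q := by
    by_contra hno
    push Not at hno
    exact hJ (sSup_le hno)
  obtain ⟨A, hA, hAQ⟩ := hAex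
  obtain ⟨hAT, hAc, hAm⟩ := id hA
  have hQp : IsPGroup p Q := hTp.to_le hQT
  have hcop : Nat.gcd T.index p = 1 := ((Nat.Prime.coprime_iff_not_dvd hpp).mpr hTi).symm
  -- the centre of `Q` and its elements of order `p`
  let Zq : Subgroup L := Q ⊓ Subgroup.centralizer (Q : Set L)
  have hZab : ∀ a ∈ Zq, ∀ b ∈ Zq, a * b = b * a :=
    fun a ha b hb => Subgroup.mem_centralizer_iff.mp hb.2 a ha.1
  have hZp : IsPGroup p Zq := hQp.to_le inf_le_left
  have hZnorm : ∀ g : L, ∀ w ∈ Zq, g * w * g⁻¹ ∈ Zq := by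
    intro g w hw
    refine ⟨hQ.conj_mem w hw.1 g, ?_⟩
    show g * w * g⁻¹ ∈ Subgroup.centralizer _
    rw [Subgroup.mem_centralizer_iff]
    intro h hh
    have h1 : g⁻¹ * h * g ∈ Q := by
      have := hQ.conj_mem h hh g⁻¹
      simpa using this
    have h2 := Subgroup.mem_centralizer_iff.mp hw.2 _ h1
    calc h * (g * w * g⁻¹) = g * ((g⁻¹ * h * g) * w) * g⁻¹ := by group
      _ = g * (w * (g⁻¹ * h * g)) * g⁻¹ := by rw [h2]
      _ = g * w * g⁻¹ * h := by group
  let V : Subgroup L :=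
    { carrier := {v | v ∈ Zq ∧ v ^ p = 1}
      mul_mem' := fun {a b} ha hb => ⟨Zq.mul_mem ha.1 hb.1, by
        have : Commute a b := hZab a ha.1 b hb.1
        rw [this.mul_pow, ha.2, hb.2, one_mul]⟩
      one_mem' := ⟨Zq.one_mem, one_pow p⟩
      inv_mem' := fun {a} ha => ⟨Zq.inv_mem ha.1, by rw [inv_pow, ha.2, inv_one]⟩ }
  have hVZ : V ≤ Zq := fun v hv => hv.1
  have hVab : ∀ a ∈ V, ∀ b ∈ V, a * b = b * a := fun a ha b hb => hZab a ha.1 b hb.1
  have hVexp : ∀ v ∈ V, v ^ p = 1 := fun v hv => hv.2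
  have hV : V.Normal := ⟨fun v hv g => ⟨hZnorm g v hv.1, by rw [conj_pow, hv.2]; group⟩⟩
  let C : Subgroup L := Subgroup.centralizer (V : Set L)
  have hC : C.Normal := by
    refine ⟨fun c hc g => ?_⟩
    show g * c * g⁻¹ ∈ Subgroup.centralizer _
    rw [Subgroup.mem_centralizer_iff]
    intro v hv
    have h1 : g⁻¹ * v * g ∈ V := by
      have := hV.conj_mem v hv g⁻¹
      simpa using this
    have h2 := Subgroup.mem_centralizer_iff.mp hc _ h1
    calc v * (g * c * g⁻¹) = g * ((g⁻¹ * v * g) * c) * g⁻¹ := by group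
      _ = g * (c * (g⁻¹ * v * g)) * g⁻¹ := by rw [h2]
      _ = g * c * g⁻¹ * v := by group
  have hQC : Q ≤ C := by
    intro q hq
    show q ∈ Subgroup.centralizer _
    rw [Subgroup.mem_centralizer_iff]
    intro v hv
    exact (Subgroup.mem_centralizer_iff.mp (hVZ hv).2 q hq).symm
  -- `K` does not centralize `V`
  have hKC : ¬ K ≤ C := by
    intro hle
    obtain ⟨g, hg⟩ := hznc
    have hgm : g ∈ ((K ⊔ T : Subgroup L) : Set L) := by
      rw [hKT']
      trivial
    rw [Subgroup.normal_mul] at hgm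
    obtain ⟨k, hk, t, ht, rfl⟩ := Set.mem_mul.mp hgm
    have hfixk : ∀ w ∈ Zq, k * w * k⁻¹ = w := by
      refine fix_of_fix_omega Zq hZab hZp k (fun w hw => hZnorm k w hw) ?_ T.index ?_ hcop
      · intro v hv hvp
        have h1 := Subgroup.mem_centralizer_iff.mp (hle hk) v ⟨hv, hvp⟩
        rw [← h1]
        simp
      · intro w hw
        have h1 := Subgroup.mem_centralizer_iff.mp hw.2 _ (hpow k hk)
        rw [h1]
        simp
    have hzZ : z ∈ Zq := by
      have h1 : z ∈ Subgroup.centralizer (Q : Set L) := by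
        rw [Subgroup.mem_centralizer_iff]
        intro h hh
        exact hzc h (hQT hh)
      exact ⟨hQc h1, h1⟩
    apply hg
    have h2 := hfixk z hzZ
    rw [mul_inv_eq_iff_eq_mul] at h2
    calc k * t * z = k * (t * z) := by group
      _ = k * (z * t) := by rw [hzc t ht]
      _ = (k * z) * t := by group
      _ = z * k * t := by rw [h2]
      _ = z * (k * t) := by group
  -- `T ∩ C = Q`
  have hTC : T ⊓ C = Q := by
    by_contra hne
    have hlt : Q < T ⊓ C := lt_of_le_of_ne (le_inf hQT hQC) (Ne.symm hne)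
    have hTN : T ⊓ Subgroup.normalizer ((T ⊓ C : Subgroup L) : Set L) = T := by
      apply inf_eq_left.mpr
      intro t ht
      rw [Subgroup.mem_normalizer_iff]
      intro x
      constructor
      · intro hx
        exact ⟨T.mul_mem (T.mul_mem ht hx.1) (T.inv_mem ht), hC.conj_mem x hx.2 t⟩
      · intro hx
        have h1 : x = t⁻¹ * (t * x * t⁻¹) * t := by group
        rw [h1]
        refine ⟨T.mul_mem (T.mul_mem (T.inv_mem ht) hx.1) ht, ?_⟩
        have := hC.conj_mem _ hx.2 t⁻¹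
        simpa using this
    have hNp := hB (T ⊓ C) hlt inf_le_left (by rw [hTN]; exact hJ)
    -- a Sylow subgroup of `C`
    have hT₀p : IsPGroup p ↥((T ⊓ C).subgroupOf C) := by
      have h1 : IsPGroup p ↥(T ⊓ C) := hTp.to_le inf_le_left
      exact h1.comap_of_injective _ (Subgroup.subtype_injective C) |>.to_le (le_of_eq (by rfl))
    obtain ⟨R, hR⟩ := hT₀p.exists_le_sylow
    have hle0 : T ⊓ C ≤ (R : Subgroup C).map C.subtype := by
      intro x hx
      have h1 : (⟨x, hx.2⟩ : ↥C) ∈ (T ⊓ C).subgroupOf C := hx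
      exact ⟨_, hR h1, rfl⟩
    have hRmap : (R : Subgroup C).map C.subtype = T ⊓ C := by
      obtain ⟨g, hg⟩ := Cfsg.Agent.Lib.SylowIn.exists_conj_mem_sylow (hTp.toSylow hTi)
        (T := (R : Subgroup C).map C.subtype) (R.isPGroup'.map _)
      have hle1 : ((R : Subgroup C).map C.subtype).map (MulAut.conj g).toMonoidHom ≤ T ⊓ C := by
        rintro _ ⟨x, hx, rfl⟩
        refine ⟨hg x hx, hC.conj_mem x ?_ g⟩
        obtain ⟨y, -, rfl⟩ := hx
        exact y.2
      have hcard : Nat.card ↥((R : Subgroup C).map C.subtype) ≤ Nat.card ↥(T ⊓ C) := by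
        have h1 : Nat.card ↥(((R : Subgroup C).map C.subtype).map (MulAut.conj g).toMonoidHom) =
            Nat.card ↥((R : Subgroup C).map C.subtype) :=
          Subgroup.card_map_of_injective (MulAut.conj g).injective
        rw [← h1]
        exact Subgroup.card_le_of_le hle1
      exact (Subgroup.eq_of_le_of_card_ge hle0 hcard).symm
    haveI := hC
    have hfr := Sylow.normalizer_sup_eq_top (N := C) R
    rw [hRmap] at hfr
    apply hKC
    intro k hk
    have hm : k ∈ ((Subgroup.normalizer ((T ⊓ C : Subgroup L) : Set L) ⊔ C : Subgroup L) : Set L) := by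
      rw [hfr]
      trivial
    rw [Subgroup.mul_normal] at hm
    obtain ⟨n, hn, c, hc, hnc⟩ := Set.mem_mul.mp hm
    obtain ⟨e, he⟩ := hNp ⟨n, hn⟩
    have he' : n ^ p ^ e = 1 := by
      simpa only [Subgroup.coe_pow, Subgroup.coe_one] using congrArg Subtype.val he
    let πC := QuotientGroup.mk' C
    have hπC : ∀ x, πC x = 1 ↔ x ∈ C := fun x => QuotientGroup.eq_one_iff x
    have h1 : πC k = πC n := by
      rw [← hnc, map_mul, (hπC c).mpr hc, mul_one]
    have h2 : πC k ^ p ^ e = 1 := by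
      rw [h1, ← map_pow, he', map_one]
    have h3 : πC k ^ T.index = 1 := by
      rw [← map_pow, hπC]
      exact hQC (hpow k hk)
    have h4 := pow_gcd_eq_one.mpr ⟨h3, h2⟩
    have h5 : Nat.gcd T.index (p ^ e) = 1 := Nat.Coprime.pow_right e hcop
    rw [h5, pow_one, hπC] at h4
    exact h4
  -- `C / Q` has no `p`-torsion
  have hCp : ∀ y ∈ C, y ^ p ∈ Q → y ∈ Q := by
    intro y hy hyp
    obtain ⟨e, he⟩ := hQp ⟨y ^ p, hyp⟩
    have he' : (y ^ p) ^ p ^ e = 1 := by
      simpa only [Subgroup.coe_pow, Subgroup.coe_one] using congrArg Subtype.val he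
    have hye : y ^ p ^ (e + 1) = 1 := by
      rw [pow_succ', pow_mul]
      exact he'
    have hzy : IsPGroup p ↥(Subgroup.zpowers y) := isPGroup_zpowers_of_pow hye
    have hP2 : IsPGroup p ↥(Subgroup.zpowers y ⊔ Q) :=
      IsPGroup.to_sup_of_normal_right' hzy hQp (by
        rw [Subgroup.normalizer_eq_top_iff.mpr hQ]
        exact le_top)
    obtain ⟨g, hg⟩ := Cfsg.Agent.Lib.SylowIn.exists_conj_mem_sylow (hTp.toSylow hTi) hP2
    have h1 : g * y * g⁻¹ ∈ T := hg y (Subgroup.mem_sup_left (Subgroup.mem_zpowers y))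
    have h2 : g * y * g⁻¹ ∈ T ⊓ C := ⟨h1, hC.conj_mem y hy g⟩
    rw [hTC] at h2
    have h3 := hQ.conj_mem _ h2 g⁻¹
    have h4 : g⁻¹ * (g * y * g⁻¹) * g⁻¹⁻¹ = y := by group
    rwa [h4] at h3
  -- elements of `A` outside `Q`
  have hfixA : ∀ a ∈ A, a ∉ Q → ∀ y : L, y * a * y⁻¹ * a⁻¹ ∈ Q → ∃ e : ℕ, y ^ p ^ e = 1 := by
    intro a ha haQ y hy
    let π := QuotientGroup.mk' Q
    let P₁ : Subgroup L := (Subgroup.zpowers (π a)).comap π
    have hP₁Q : Q < P₁ := by
      refine lt_of_le_of_ne ?_ ?_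
      · intro q hq
        show π q ∈ Subgroup.zpowers (π a)
        have : π q = 1 := (QuotientGroup.eq_one_iff q).mpr hq
        rw [this]
        exact Subgroup.one_mem _
      · intro he
        apply haQ
        rw [he]
        exact Subgroup.mem_zpowers (π a)
    have hP₁T : P₁ ≤ T := by
      intro x hx
      obtain ⟨m, hm⟩ := Subgroup.mem_zpowers_iff.mp (show π x ∈ Subgroup.zpowers (π a) from hx)
      have h1 : π (a ^ m) = π x := by rw [map_zpow]; exact hm
      have h2 : (a ^ m)⁻¹ * x ∈ Q := QuotientGroup.eq.mp h1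
      have h3 : x = a ^ m * ((a ^ m)⁻¹ * x) := by group
      rw [h3]
      exact T.mul_mem (T.zpow_mem (hAT ha) m) (hQT h2)
    have hAN : A ≤ T ⊓ Subgroup.normalizer (P₁ : Set L) := by
      intro b hb
      refine ⟨hAT hb, normalizes_preimage Q a b ?_⟩
      rw [hAc b hb a ha]
      simp
    have hJ₁ : ¬ sSup (mabs (T ⊓ Subgroup.normalizer (P₁ : Set L))) ≤ Q := by
      intro hle
      apply hAQ
      refine le_trans (le_sSup ?_) hle
      exact ⟨hAN, hAc, fun B hB hBc => hAm B (hB.trans inf_le_left) hBc⟩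
    have hNp := hB P₁ hP₁Q hP₁T hJ₁
    obtain ⟨e, he⟩ := hNp ⟨y, normalizes_preimage Q a y hy⟩
    exact ⟨e, by simpa only [Subgroup.coe_pow, Subgroup.coe_one] using congrArg Subtype.val he⟩
  have hfixA' : ∀ a ∈ A, a ∉ Q → ∀ y ∈ K, y * a * y⁻¹ * a⁻¹ ∈ Q → y ∈ Q := by
    intro a ha haQ y hy hya
    obtain ⟨e, he⟩ := hfixA a ha haQ y hya
    let π := QuotientGroup.mk' Q
    have hπq : ∀ x, π x = 1 ↔ x ∈ Q := fun x => QuotientGroup.eq_one_iff x
    rw [← hπq]
    have h1 : π y ^ p ^ e = 1 := by rw [← map_pow, he, map_one]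
    have h2 : π y ^ T.index = 1 := by rw [← map_pow, hπq]; exact hpow y hy
    have h3 := pow_gcd_eq_one.mpr ⟨h2, h1⟩
    rwa [Nat.Coprime.pow_right e hcop, pow_one] at h3
  -- the image of `A` is cyclic
  let π := QuotientGroup.mk' Q
  have hπq : ∀ x, π x = 1 ↔ x ∈ Q := fun x => QuotientGroup.eq_one_iff x
  have hπs : Function.Surjective π := QuotientGroup.mk'_surjective Q
  haveI hNn : (K.map π).Normal := hK.map π hπs
  have hN1 : K.map π ≠ ⊥ := by
    intro h
    apply hKC
    intro k hk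
    have h1 : π k ∈ K.map π := ⟨k, hk, rfl⟩
    rw [h] at h1
    exact hQC ((hπq k).mp h1)
  have hNc : ¬ p ∣ Nat.card ↥(K.map π) := by
    apply not_dvd_card_map Q K
    intro y hy hyp
    rw [← hπq]
    have h1 : π y ^ T.index = 1 := by rw [← map_pow, hπq]; exact hpow y hy
    have h2 : π y ^ p = 1 := by rw [← map_pow, hπq]; exact hyp
    have h3 := pow_gcd_eq_one.mpr ⟨h1, h2⟩
    rwa [hcop, pow_one] at h3
  have hEp : IsPGroup p ↥(A.map π) := (hTp.to_le hAT).map π
  have hfp : ∀ f ∈ A.map π, f ≠ 1 → ∀ k ∈ K.map π, f * k * f⁻¹ = k → k = 1 := by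
    rintro _ ⟨a, ha, rfl⟩ hf _ ⟨k, hk, rfl⟩ hfk
    have haQ : a ∉ Q := fun h => hf ((hπq a).mpr h)
    rw [hπq]
    apply hfixA' a ha haQ k hk
    rw [← hπq]
    simp only [map_mul, map_inv]
    rw [mul_inv_eq_iff_eq_mul] at hfk
    rw [← hfk]
    group
  have hrank : ∀ x ∈ A.map π, ∀ y ∈ A.map π, x ^ p = 1 → y ^ p = 1 → x ≠ 1 → y ∈ Subgroup.zpowers x := by
    intro x hx y hy hxp hyp hx1
    refine no_rank2 (A.map π) (K.map π) hEp hNn hN1 hNc hfp hx hy hxp hyp ?_ hx1
    obtain ⟨a, ha, rfl⟩ := hx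
    obtain ⟨b, hb, rfl⟩ := hy
    show π a * π b = π b * π a
    rw [← map_mul, hAc a ha b hb, map_mul]
  have hab : ∀ x ∈ A.map π, ∀ y ∈ A.map π, x * y = y * x := by
    rintro _ ⟨a, ha, rfl⟩ _ ⟨b, hb, rfl⟩
    show π a * π b = π b * π a
    rw [← map_mul, hAc a ha b hb, map_mul]
  obtain ⟨_, ⟨a₁, ha₁, rfl⟩, hgen⟩ := exists_gen (A.map π) hEp hab hrank
  have hEz : A.map π = Subgroup.zpowers (π a₁) := by
    apply le_antisymm
    · exact fun b hb => hgen b hb
    · exact (Subgroup.zpowers_le).mpr ⟨a₁, ha₁, rfl⟩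
  obtain ⟨l, hl⟩ := IsPGroup.iff_card.mp hEp
  have hord : orderOf (π a₁) = p ^ l := by
    rw [← hl, hEz, Nat.card_zpowers]
  obtain ⟨a₀, ha₀, ha₀Q⟩ := SetLike.not_le_iff_exists.mp hAQ
  have hl0 : l ≠ 0 := by
    rintro rfl
    have h1 : π a₀ ∈ A.map π := ⟨a₀, ha₀, rfl⟩
    rw [hEz, Subgroup.mem_zpowers_iff] at h1
    rw [pow_zero, orderOf_eq_one_iff] at hord
    obtain ⟨i, hi⟩ := h1
    apply ha₀Q
    rw [← hπq, ← hi, hord, one_zpow]
  obtain ⟨m, rfl⟩ : ∃ m, l = m + 1 := ⟨l - 1, by omega⟩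
  have hb1 : a₁ ^ p ^ (m + 1) ∈ Q := by
    rw [← hπq, map_pow, ← hord, pow_orderOf_eq_one]
  have hb2 : a₁ ^ p ^ m ∉ Q := by
    rw [← hπq, map_pow]
    apply pow_ne_one_of_lt_orderOf (pow_pos hpp.pos m).ne'
    rw [hord]
    exact Nat.pow_lt_pow_right hpp.one_lt (Nat.lt_succ_self m)
  -- the offender inequality
  have hcard : Nat.card V ≤ p ^ (m + 1) * Nat.card ↥(V ⊓ Subgroup.centralizer ({a₁} : Set L)) := by
    let H := A ⊓ Q
    have hVle : V ≤ Q := fun v hv => (hVZ hv).1
    have hBT : V ⊔ H ≤ T := sup_le (hVle.trans hQT) (inf_le_left.trans hAT)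
    have hBc : ∀ x ∈ V ⊔ H, ∀ y ∈ V ⊔ H, x * y = y * x := by
      have h1 : ∀ x ∈ V ⊔ H, (∀ h ∈ H, h * x = x * h) ∧ ∀ v ∈ V, v * x = x * v := by
        intro x hx
        have hle : V ⊔ H ≤ Subgroup.centralizer ((H : Set L) ∪ (V : Set L)) := by
          refine sup_le ?_ ?_
          · intro v hv
            rw [Subgroup.mem_centralizer_iff]
            rintro t (ht | ht)
            · exact (Subgroup.mem_centralizer_iff.mp (hVZ hv).2 t ht.2)
            · exact hVab t ht v hv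
          · intro h hh
            rw [Subgroup.mem_centralizer_iff]
            rintro t (ht | ht)
            · exact hAc t ht.1 h hh.1
            · exact (Subgroup.mem_centralizer_iff.mp (hVZ ht).2 h hh.2).symm
        have h2 := Subgroup.mem_centralizer_iff.mp (hle hx)
        exact ⟨fun h hh => h2 h (Or.inl hh), fun v hv => h2 v (Or.inr hv)⟩
      intro x hx y hy
      have hle : V ⊔ H ≤ Subgroup.centralizer ({y} : Set L) := by
        refine sup_le ?_ ?_
        · intro v hv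
          rw [Subgroup.mem_centralizer_singleton_iff]
          exact (h1 y hy).2 v hv
        · intro h hh
          rw [Subgroup.mem_centralizer_singleton_iff]
          exact (h1 y hy).1 h hh
      exact Subgroup.mem_centralizer_singleton_iff.mp (hle hx)
    have hc0 := hAm _ hBT hBc
    have hc1 := Cfsg.Agent.Lib.SchurZ2.card_sup_mul_card_inf V H (by
      rw [Subgroup.normalizer_eq_top_iff.mpr hV]
      exact le_top)
    have hc2 := card_map_mul_card_inf Q A
    rw [hl] at hc2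
    have hc3 : Nat.card ↥(V ⊓ H) ≤ Nat.card ↥(V ⊓ Subgroup.centralizer ({a₁} : Set L)) := by
      apply Subgroup.card_le_of_le
      intro v hv
      refine ⟨hv.1, ?_⟩
      show v ∈ Subgroup.centralizer _
      rw [Subgroup.mem_centralizer_singleton_iff]
      exact hAc v hv.2.1 a₁ ha₁
    have hHpos : 0 < Nat.card H := Nat.card_pos
    have h5 : Nat.card V * Nat.card H ≤ p ^ (m + 1) * Nat.card ↥(V ⊓ Subgroup.centralizer ({a₁} : Set L)) * Nat.card H := by
      calc Nat.card V * Nat.card H = Nat.card ↥(V ⊔ H) * Nat.card ↥(V ⊓ H) := hc1.symm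
        _ ≤ Nat.card A * Nat.card ↥(V ⊓ Subgroup.centralizer ({a₁} : Set L)) := Nat.mul_le_mul hc0 hc3
        _ = (p ^ (m + 1) * Nat.card H) * Nat.card ↥(V ⊓ Subgroup.centralizer ({a₁} : Set L)) := by rw [hc2]
        _ = _ := by ring
    exact Nat.le_of_mul_le_mul_right h5 hHpos
  obtain ⟨a₂, ha₂T, ha₂z, ha₂p, ha₂Q, hcard₂⟩ := descend V Q T hVab hVexp hV hTp hQT hTC m a₁ (hAT ha₁) hb1 hb2 hcard
  have ha₂A : a₂ ∈ A := (Subgroup.zpowers_le.mpr ha₁) ha₂z
  have ha₂C : a₂ ∉ C := fun h => ha₂Q (hTC ▸ ⟨ha₂T, h⟩)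
  obtain ⟨M, i1, i2, ρ, hker, hind⟩ := bridge (L := L) (p := p) V hV hVab hVexp
  obtain ⟨φ, u, hu, hform⟩ := hind a₂ ha₂C hcard₂
  obtain ⟨e₂, he₂⟩ := hTp ⟨a₂, ha₂T⟩
  have he₂' : a₂ ^ p ^ e₂ = 1 := by
    simpa only [Subgroup.coe_pow, Subgroup.coe_one] using congrArg Subtype.val he₂
  have hex : ∃ k ∈ K, k * a₂ * k⁻¹ * a₂⁻¹ ∉ C := by
    by_contra hno
    push Not at hno
    exact hKC (K1' Q K C hQ hK hpow hTi hC hQC he₂' (hfixA' a₂ ha₂A ha₂Q) hno)
  obtain ⟨k, hk, hkx⟩ := hex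
  exact step6 ρ Q K hQ (fun q hq => (hker q).mpr (hQC hq)) hK hpow hTi
    (fun y hy hyp => hCp y ((hker y).mp hy) hyp) ha₂p (hfixA a₂ ha₂A ha₂Q) φ u hu hform hk
    (fun h => hkx ((hker _).mp h)) hS3

end Main

end Cfsg.Agent.Lib.ThmOMain
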