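import Cfsg.Agent.Lib.ThmOChar

/-!
Minimal non-inner saturated subsystems.
-/

set_option autoImplicit false

universe u

namespace Cfsg.Agent.Lib.ThmOSparse

open Cfsg Cfsg.FusionSystem Cfsg.Agent.Lib.FusionBasic Cfsg.Agent.Lib.FusionAut
  Cfsg.Agent.Lib.FusionSat Cfsg.Agent.Lib.FusionGT

variable {Ω : Type u} [Group Ω] {S : Subgroup Ω} {p : ℕ} [Fact p.Prime]

/-- The total space of a fusion system: all its maps. -/
def total (E : FusionSystem S) : Set (Σ P : Subgroup Ω, P →* Ω) := {x | x.2 ∈ E.Hom x.1}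

/-- The set of homomorphisms with values in `S` from subgroups of `S`. -/
def ambient (S : Subgroup Ω) : Set (Σ P : Subgroup Ω, P →* Ω) := {x | x.1 ≤ S ∧ ∀ y : x.1, x.2 y ∈ S}

theorem finite_ambient [Finite S] : (ambient S).Finite := by
  classical
  have hfinP : {P : Subgroup Ω | P ≤ S}.Finite :=
    finite_setOf_le
  -- reduce to a finite union over subgroups
  have hsub : ambient S ⊆ ⋃ P ∈ {P : Subgroup Ω | P ≤ S}, (Sigma.mk P) ''
      {φ : P →* Ω | ∀ y : P, φ y ∈ S} := by
    rintro ⟨P, φ⟩ ⟨h1, h2⟩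
    simp only [Set.mem_iUnion]
    exact ⟨P, h1, φ, h2, rfl⟩
  refine Set.Finite.subset (hfinP.biUnion fun P hP => Set.Finite.image _ ?_) hsub
  have hPS : P ≤ S := hP
  haveI : Finite P := finite_of_le hPS
  let e : {φ : P →* Ω | ∀ y : P, φ y ∈ S} → (P → S) := fun φ y => ⟨φ.1 y, φ.2 y⟩
  have he : Function.Injective e := by
    intro a b hab
    apply Subtype.ext
    ext y
    exact congrArg (fun f : P → S => ((f y : S) : Ω)) hab
  haveI : Finite {φ : P →* Ω | ∀ y : P, φ y ∈ S} := Finite.of_injective e he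
  exact Set.toFinite _

theorem total_subset (E : FusionSystem S) : total E ⊆ ambient S := fun x hx =>
  ⟨source_le E hx, fun y => map_mem_S E hx y⟩

/-- A non-inner saturated subsystem minimal with this property. -/
theorem exists_minimal [Finite S] {F : FusionSystem S} (hF : F.IsSaturated p)
    (hne : ¬ ∀ P : Subgroup Ω, F.Hom P = (innerFusionSystem S).Hom P) :
    ∃ E : FusionSystem S, E ≤ F ∧ E.IsSaturated p ∧ (¬ ∀ P : Subgroup Ω, E.Hom P = (innerFusionSystem S).Hom P) ∧
      ∀ E' : FusionSystem S, E'.IsSaturated p → E' ≤ E →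
        (∀ P, E'.Hom P = E.Hom P) ∨ (∀ P, E'.Hom P = (innerFusionSystem S).Hom P) := by
  classical
  have key : ∀ (n : ℕ) (E : FusionSystem S), E ≤ F → E.IsSaturated p →
      (¬ ∀ P : Subgroup Ω, E.Hom P = (innerFusionSystem S).Hom P) → (total E).ncard = n →
      ∃ E₁ : FusionSystem S, E₁ ≤ F ∧ E₁.IsSaturated p ∧
        (¬ ∀ P : Subgroup Ω, E₁.Hom P = (innerFusionSystem S).Hom P) ∧
        ∀ E' : FusionSystem S, E'.IsSaturated p → E' ≤ E₁ →
          (∀ P, E'.Hom P = E₁.Hom P) ∨ (∀ P, E'.Hom P = (innerFusionSystem S).Hom P) := by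
    intro n
    induction n using Nat.strong_induction_on with
    | _ n ih =>
      intro E hEF hEs hEn hcard
      by_cases hmin : ∀ E' : FusionSystem S, E'.IsSaturated p → E' ≤ E →
          (∀ P, E'.Hom P = E.Hom P) ∨ (∀ P, E'.Hom P = (innerFusionSystem S).Hom P)
      · exact ⟨E, hEF, hEs, hEn, hmin⟩
      push Not at hmin
      obtain ⟨E', hE's, hE'E, hne1, hne2⟩ := hmin
      obtain ⟨Q, hQ⟩ := hne1
      have hsub : total E' ⊆ total E := fun x hx => hE'E x.1 hx
      have hfin : (total E).Finite := finite_ambient.subset (total_subset E)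
      have hss : total E' ⊂ total E := by
        refine ⟨hsub, fun h => hQ ?_⟩
        refine Set.Subset.antisymm (hE'E Q) (fun φ hφ => ?_)
        exact h (show (⟨Q, φ⟩ : Σ P : Subgroup Ω, P →* Ω) ∈ total E from hφ)
      have hlt : (total E').ncard < n := hcard ▸ Set.ncard_lt_ncard hss hfin
      refine ih _ hlt E' (fun P => (hE'E P).trans (hEF P)) hE's ?_ rfl
      intro h
      obtain ⟨P, hP⟩ := hne2
      exact hP (h P)
  exact key _ F (fun _ => Set.Subset.rfl) hF hne rfl

/-- A non-inner saturated system contains a non-inner constrained saturated subsystem. -/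
theorem exists_constrained [Finite S] (hS : IsPGroup p S) (hp : p ≠ 2) {F : FusionSystem S}
    (hF : F.IsSaturated p) (hne : ∃ P : Subgroup Ω, F.Hom P ≠ (innerFusionSystem S).Hom P) :
    ∃ E : FusionSystem S, E ≤ F ∧ E.IsConstrained p ∧ ∃ P : Subgroup Ω, E.Hom P ≠ (innerFusionSystem S).Hom P := by
  obtain ⟨E, hEF, hEs, hEn, hmin⟩ := exists_minimal hF (by
    push Not
    exact hne)
  refine ⟨E, hEF, Cfsg.Agent.Lib.ThmOChar.constrained_of_sparse hS hEs (fun E' h1 h2 => hmin E' h1 h2) (Or.inl hp), ?_⟩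
  push Not at hEn
  exact hEn

end Cfsg.Agent.Lib.ThmOSparse
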