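import Cfsg.Agent.Lib.CdSmall
import Cfsg.Agent.Lib.CharResid
import Cfsg.Agent.Lib.CharLift
import Cfsg.Agent.Lib.SchurZ2
import Cfsg.Agent.Lib.H6Regular
import Cfsg.Agent.Lib.CharInflate

/-!
# Thompson's theorem on character degrees
-/

set_option autoImplicit false
set_option linter.all false

namespace Cfsg.Agent.Lib.ThompsonDeg

open Cfsg Cfsg.Agent.Lib.CharOps Cfsg.Agent.Lib.CharIrr Cfsg.Agent.Lib.CharAb Cfsg.Agent.Lib.CharBlockDefect
open scoped ComplexConjugate

universe u

/-- Existence of a normal `p`-complement, as in the statement. -/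
def NPC (p : ℕ) (G : Type u) [Group G] : Prop :=
  ∃ N : Subgroup G, N.Normal ∧ (Nat.card N).Coprime p ∧ ∃ k : ℕ, N.index = p ^ k

/-- The hypothesis of Thompson's theorem. -/
def Hyp (p : ℕ) (G : Type u) [Group G] : Prop :=
  ∀ χ : IrrCharacter G, charDegree (χ : G → ℂ) ≠ 1 → p ∣ charDegree (χ : G → ℂ)

section Det

variable {G : Type u} [Group G] [Fintype G]

theorem detChar_of_hom (l : G →* ℂˣ) (g : G) : detChar (fun x => (l x : ℂ)) g = l g := by
  have h1 : (fun x => (l x : ℂ)) = (repOfHom l).character := by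
    funext x
    exact (repOfHom_character l x).symm
  rw [h1, Cfsg.Agent.Lib.CharDet.detChar_of_rep]
  show LinearMap.det (((l g : ℂˣ) : ℂ) • (LinearMap.id : ℂ →ₗ[ℂ] ℂ)) = l g
  rw [LinearMap.det_smul, LinearMap.det_id]
  simp

theorem detOrder_one : detOrder (fun _ : G => (1 : ℂ)) = 1 := by
  have h1 : detChar (fun _ : G => (1 : ℂ)) = 1 := by
    funext g
    have := detChar_of_hom (1 : G →* ℂˣ) g
    simpa using this
  unfold detOrder
  rw [h1, orderOf_one]

/-- The index of the kernel of a linear character divides the order of its determinant. -/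
theorem index_ker_dvd_detOrder {χ : G → ℂ} (hχ : IsCharacter G χ) (h1 : χ 1 = 1) :
    (homOfDegreeOne hχ h1).ker.index ∣ detOrder χ := by
  set l := homOfDegreeOne hχ h1 with hl
  have hχl : χ = fun x => (l x : ℂ) := by
    funext x
    rfl
  have hdet : detChar χ = χ := by
    funext g
    rw [hχl, detChar_of_hom]
  have hmul : ∀ n : ℕ, χ ^ n = fun x => ((l x ^ n : ℂˣ) : ℂ) := by
    intro n
    induction n with
    | zero => funext x; simp
    | succ k ih =>
      funext x
      rw [pow_succ, Pi.mul_apply, ih, pow_succ]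
      push_cast
      conv_lhs => rw [hχl]
  have hfin : detOrder χ ≠ 0 ∨ True := Or.inr trivial
  rw [Subgroup.index_ker]
  haveI : IsCyclic l.range :=
    isCyclic_of_subgroup_isDomain ((Units.coeHom ℂ).comp l.range.subtype)
      (Units.val_injective.comp Subtype.val_injective)
  obtain ⟨z, hz⟩ := IsCyclic.exists_generator (α := l.range)
  have hcard := orderOf_eq_card_of_forall_mem_zpowers hz
  rw [← hcard]
  obtain ⟨g, hg⟩ := z.2
  have h2 : orderOf z = orderOf (z : ℂˣ) := (Subgroup.orderOf_coe z).symm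
  rw [h2, ← hg]
  apply orderOf_dvd_of_pow_eq_one
  unfold detOrder
  rw [hdet]
  have h3 := pow_orderOf_eq_one χ
  rw [hmul] at h3
  have h4 := congrFun h3 g
  apply Units.val_injective
  simpa using h4

end Det

section Sep

variable {T : Type u} [Group T] [Fintype T]

/-- Linear characters separate the points of the abelianization. -/
theorem mem_commutator_of_linear {u : T}
    (h : ∀ χ : IrrCharacter T, (χ : T → ℂ) 1 = 1 → (χ : T → ℂ) u = 1) : u ∈ commutator T := by
  classical
  by_contra hu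
  let A := Abelianization T
  letI : Fintype A := Fintype.ofFinite _
  let g : A := Abelianization.of u
  have hg : g ≠ 1 := by
    intro h0
    apply hu
    have : (u : T ⧸ commutator T) = 1 := h0
    exact (QuotientGroup.eq_one_iff u).1 this
  have h1 := column_orthogonality g 1
  have hnc : ¬ IsConj g 1 := fun hc => hg (isConj_one_right.1 hc.symm)
  rw [if_neg hnc] at h1
  have hA : ∀ a b : A, a * b = b * a := fun a b => mul_comm a b
  have hlin := commutative_iff_apply_one.1 hA
  have h2 : ∀ χ : IrrCharacter A, (χ : A → ℂ) g * conj ((χ : A → ℂ) 1) = 1 := by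
    intro χ
    rw [hlin χ, map_one, mul_one]
    have h3 : IsIrrCharacter T (fun x : T => (χ : A → ℂ) (x : T ⧸ commutator T)) :=
      Cfsg.Agent.Lib.CharInflate.isIrr_inflate (commutator T) χ.2
    exact h ⟨_, h3⟩ (hlin χ)
  simp only [h2] at h1
  rw [Finset.sum_const, nsmul_eq_mul, mul_one] at h1
  have h3 : (Finset.univ : Finset (IrrCharacter A)).card ≠ 0 := by
    rw [Finset.card_ne_zero]
    exact ⟨⟨fun _ => 1, Cfsg.Agent.Lib.CharIso.isIrr_one⟩, Finset.mem_univ _⟩
  exact h3 (by exact_mod_cast h1)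

end Sep

section Steps

variable {G : Type u} [Group G] [Fintype G] {p : ℕ}

/-- A constituent above an irreducible character of a normal subgroup. -/
theorem exists_over (T : Subgroup G) [T.Normal] [Fintype T] {θ : T → ℂ} (hθ : IsIrrCharacter T θ) :
    ∃ χ : G → ℂ, IsIrrCharacter G χ ∧ classInner (fun n : T => χ n) θ ≠ 0 ∧ ∃ e : ℕ, charDegree χ = charDegree θ * e ∧ e ∣ T.index := by
  have h1 : IsCharacter G (indFun T θ) := isCharacter_indFun _ (IsIrrCharacter.isCharacter' hθ)
  have hl1 : θ 1 ≠ 0 := degree_ne_zero hθ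
  have h2 : indFun T θ 1 ≠ 0 := by
    rw [indFun_one]
    exact mul_ne_zero (by exact_mod_cast Subgroup.index_ne_zero_of_finite) hl1
  obtain ⟨χ, hχ, hin⟩ := exists_constituent h1 h2
  rw [frobenius_reciprocity _ _ (IsCharacter.isClassFunction' (IsIrrCharacter.isCharacter' hχ))] at hin
  have hin2 : classInner (fun h : T => χ h) θ ≠ 0 := by
    intro h0
    apply hin
    rw [← classInner_conj, h0, map_zero]
  refine ⟨χ, hχ, hin2, ?_⟩
  obtain ⟨e, he, hed⟩ := Cfsg.Agent.Lib.CharLift.degree_dvd T hχ hθ hin2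
  refine ⟨e, ?_, hed⟩
  have h3 := charDegree_cast (IsIrrCharacter.isCharacter' hχ)
  have h4 := charDegree_cast (IsIrrCharacter.isCharacter' hθ)
  rw [he, ← h4] at h3
  exact_mod_cast h3

theorem hyp_sub (hp : p.Prime) (T : Subgroup G) [T.Normal] [Fintype T] (hidx : ¬ p ∣ T.index) (hdeg : Hyp p G) :
    Hyp p T := by
  intro θ hθ
  by_contra hnd
  obtain ⟨χ, hχ, -, e, he, hed⟩ := exists_over T θ.2
  have h1 : ¬ p ∣ charDegree χ := by
    rw [he]
    intro hh
    rcases (Nat.Prime.dvd_mul hp).1 hh with hh | hh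
    · exact hnd hh
    · exact hidx (hh.trans hed)
  have h2 : charDegree χ = 1 := by
    by_contra h3
    exact h1 (hdeg ⟨χ, hχ⟩ h3)
  rw [he] at h2
  exact hθ (Nat.eq_one_of_mul_eq_one_right h2)

theorem hyp_quot (M : Subgroup G) [M.Normal] (hdeg : Hyp p G) : Hyp p (G ⧸ M) := by
  intro θ hθ
  have h1 : IsIrrCharacter G (fun x : G => (θ : G ⧸ M → ℂ) (x : G ⧸ M)) :=
    Cfsg.Agent.Lib.CharInflate.isIrr_inflate M θ.2
  exact hdeg ⟨_, h1⟩ hθ

theorem npc_of_quot (M : Subgroup G) [M.Normal] (hM : (Nat.card M).Coprime p) (h : NPC p (G ⧸ M)) : NPC p G := by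
  obtain ⟨L, hLn, hLc, k, hk⟩ := h
  let L' := L.comap (QuotientGroup.mk' M)
  have hidx : L'.index = L.index := Subgroup.index_comap_of_surjective _ (QuotientGroup.mk'_surjective M)
  refine ⟨L', hLn.comap _, ?_, k, by rw [hidx, hk]⟩
  have h1 := L'.card_mul_index
  have h2 := L.card_mul_index
  have h3 := Subgroup.card_eq_card_quotient_mul_card_subgroup M
  rw [hidx] at h1
  have h4 : Nat.card L' = Nat.card L * Nat.card M := by
    have h5 : 0 < L.index := Nat.pos_of_ne_zero Subgroup.index_ne_zero_of_finite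
    apply Nat.eq_of_mul_eq_mul_right h5
    rw [h1, h3, ← h2]
    ring
  rw [h4]
  exact Nat.Coprime.mul_left hLc hM

theorem normal_map (hp : p.Prime) (T : Subgroup G) [hT : T.Normal] (M : Subgroup T) [hMn : M.Normal]
    (hM : (Nat.card M).Coprime p) {k : ℕ} (hk : M.index = p ^ k) : (M.map T.subtype).Normal := by
  constructor
  rintro _ ⟨m, hm, rfl⟩ g
  have hgm : g * (m : G) * g⁻¹ ∈ T := hT.conj_mem _ m.2 g
  let u : T := ⟨_, hgm⟩
  have h1 : orderOf u = orderOf m := by
    have h2 : orderOf u = orderOf (g * (m : G) * g⁻¹) := (Subgroup.orderOf_coe u).symm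
    have h3 : orderOf (g * (m : G) * g⁻¹) = orderOf (m : G) :=
      orderOf_injective (MulAut.conj g).toMonoidHom (MulAut.conj g).injective _
    rw [h2, h3]
    exact Subgroup.orderOf_coe m
  have h2 : orderOf m ∣ Nat.card M := by
    have := orderOf_dvd_natCard (⟨m, hm⟩ : M)
    rwa [Subgroup.orderOf_mk] at this
  have h3 : (orderOf u).Coprime p := by
    rw [h1]
    exact Nat.Coprime.coprime_dvd_left h2 hM
  have h4 : (p ^ k).Coprime (orderOf u) := (Nat.Coprime.pow_right k h3).symm
  obtain ⟨t, ht⟩ := exists_pow_eq_self_of_coprime h4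
  have h5 : u ^ (p ^ k) ∈ M := by
    rw [← hk]
    exact Subgroup.pow_index_mem M u
  have h6 : u ∈ M := by
    rw [← ht]
    exact M.pow_mem h5 t
  exact ⟨u, h6, rfl⟩

/-- The case where the kernel is a `p`-group. -/
theorem last_case (hp : p.Prime) (T : Subgroup G) [hT : T.Normal] (hTp : IsPGroup p T) (hidx : ¬ p ∣ T.index)
    (hdeg : Hyp p G) : NPC p G := by
  classical
  haveI : Fact p.Prime := ⟨hp⟩
  letI : Fintype T := Fintype.ofFinite _
  have hstep1 : ∀ (g : G) (x : T), ∃ hm : g * (x : G) * g⁻¹ * (x : G)⁻¹ ∈ T,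
      (⟨_, hm⟩ : T) ∈ commutator T := by
    intro g x
    have hm : g * (x : G) * g⁻¹ * (x : G)⁻¹ ∈ T := T.mul_mem (hT.conj_mem _ x.2 g) (T.inv_mem x.2)
    refine ⟨hm, ?_⟩
    apply mem_commutator_of_linear
    intro l hl1
    obtain ⟨χ, hχ, hin, e, he, hed⟩ := exists_over T l.2
    have hdl : charDegree (l : T → ℂ) = 1 := by
      unfold charDegree
      rw [hl1]
      simp
    rw [hdl, one_mul] at he
    have h1 : charDegree χ = 1 := by
      by_contra h3
      have h4 := hdeg ⟨χ, hχ⟩ h3
      have h5 : p ∣ charDegree χ := h4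
      rw [he] at h5
      exact hidx (h5.trans hed)
    have hχ' := IsIrrCharacter.isCharacter' hχ
    have hχ1 : χ 1 = 1 := by
      have := charDegree_cast hχ'
      rw [h1] at this
      simpa using this.symm
    let f := homOfDegreeOne hχ' hχ1
    have hres : (fun n : T => χ n) = (l : T → ℂ) := by
      have h2 : IsIrrCharacter T (fun n : T => (f (n : G) : ℂ)) :=
        isIrrCharacter_of_hom (f.comp T.subtype)
      have h3 : classInner (fun n : T => (f (n : G) : ℂ)) (l : T → ℂ) ≠ 0 := hin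
      rw [classInner_irr h2 l.2] at h3
      by_contra h4
      exact h3 (if_neg h4)
    have h5 := congrFun hres ⟨_, hm⟩
    rw [← h5]
    show ((f (g * (x : G) * g⁻¹ * (x : G)⁻¹) : ℂˣ) : ℂ) = 1
    have h6 : f (g * (x : G) * g⁻¹ * (x : G)⁻¹) = 1 := by
      rw [map_mul, map_mul, map_mul, map_inv, map_inv, mul_comm (f g)]
      group
    rw [h6]
    rfl
  obtain ⟨a, ha⟩ := IsPGroup.iff_card.1 hTp
  have hcop0 : Nat.Coprime (p ^ a) T.index :=
    Nat.Coprime.pow_left a ((Nat.Prime.coprime_iff_not_dvd hp).2 hidx)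
  have hcop : Nat.Coprime (Nat.card T) T.index := by rw [ha]; exact hcop0
  obtain ⟨C, hC⟩ := Subgroup.exists_right_complement'_of_coprime hcop
  have hCc : Nat.card C = T.index := by
    have h1 := hC.card_mul
    have h2 := T.card_mul_index
    have h3 : 0 < Nat.card T := Nat.card_pos
    apply Nat.eq_of_mul_eq_mul_left h3
    rw [h1, h2]
  have hCcop : (Nat.card C).Coprime p := by
    rw [hCc]
    exact ((Nat.Prime.coprime_iff_not_dvd hp).2 hidx).symm
  have hcen : C ≤ Subgroup.centralizer (T : Set G) := by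
    apply Cfsg.Agent.Lib.SchurZ2.le_centralizer_of_frattini C T
    · rw [Subgroup.normalizer_eq_top]
      exact le_top
    · have h1 : IsPGroup p (frattini T) := hTp.to_subgroup _
      obtain ⟨b, hb⟩ := IsPGroup.iff_card.1 h1
      rw [hb]
      exact Nat.Coprime.pow_right b hCcop
    · intro c _ k hk
      obtain ⟨hm, hm2⟩ := hstep1 c ⟨k, hk⟩
      have h2 : (⟨_, hm⟩ : T) ∈ frattini T := Cfsg.Agent.Lib.H6Regular.commutator_le_frattini hTp hm2
      exact ⟨_, h2, rfl⟩
  refine ⟨C, ?_, hCcop, a, ?_⟩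
  · constructor
    intro z hz g
    obtain ⟨⟨t, c⟩, rfl, -⟩ := hC.existsUnique g
    have h1 : (c : G) * z * (c : G)⁻¹ ∈ C := C.mul_mem (C.mul_mem c.2 hz) (C.inv_mem c.2)
    have h2 : (t : G) * ((c : G) * z * (c : G)⁻¹) = ((c : G) * z * (c : G)⁻¹) * (t : G) := by
      have := Subgroup.mem_centralizer_iff.1 (hcen h1) t t.2
      exact this
    have h3 : ((t : G) * (c : G)) * z * ((t : G) * (c : G))⁻¹ = (c : G) * z * (c : G)⁻¹ := by
      calc ((t : G) * (c : G)) * z * ((t : G) * (c : G))⁻¹ = ((t : G) * ((c : G) * z * (c : G)⁻¹)) * (t : G)⁻¹ := by group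
        _ = (c : G) * z * (c : G)⁻¹ := by rw [h2]; group
    show ((t : G) * (c : G)) * z * ((t : G) * (c : G))⁻¹ ∈ C
    rw [h3]
    exact h1
  · rw [hC.index_eq_card]
    exact ha

end Steps

/-- Thompson's theorem. -/
theorem thompson (p : ℕ) (hp : p.Prime) : ∀ (n : ℕ) (G : Type u) [Group G] [Fintype G], Nat.card G = n →
    Hyp p G → NPC p G := by
  intro n
  induction n using Nat.strong_induction_on with
  | _ n IH =>
  intro G _ _ hn hdeg
  classical
  haveI : Fact p.Prime := ⟨hp⟩
  let one : IrrCharacter G := ⟨fun _ => 1, Cfsg.Agent.Lib.CharIso.isIrr_one⟩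
  have hone1 : charDegree (one : G → ℂ) = 1 := by
    have := charDegree_cast (IsIrrCharacter.isCharacter' one.2)
    have h2 : (one : G → ℂ) 1 = 1 := rfl
    rw [h2] at this
    exact_mod_cast this
  by_cases hex : ∃ χ : IrrCharacter G, χ ≠ one ∧ ¬ p ∣ charDegree (χ : G → ℂ) ∧ ¬ p ∣ detOrder (χ : G → ℂ)
  · obtain ⟨χ, hχ1, hχd, hχo⟩ := hex
    have hd1 : charDegree (χ : G → ℂ) = 1 := by
      by_contra h
      exact hχd (hdeg χ h)
    have hχ' := IsIrrCharacter.isCharacter' χ.2
    have hχ11 : (χ : G → ℂ) 1 = 1 := by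
      have := charDegree_cast hχ'
      rw [hd1] at this
      simpa using this.symm
    let l := homOfDegreeOne hχ' hχ11
    let T : Subgroup G := l.ker
    haveI hTn : T.Normal := MonoidHom.normal_ker l
    have hTidx : ¬ p ∣ T.index := fun h => hχo (h.trans (index_ker_dvd_detOrder hχ' hχ11))
    have hTne : T ≠ ⊤ := by
      intro h
      apply hχ1
      apply Subtype.ext
      funext g
      have h1 : g ∈ T := h ▸ Subgroup.mem_top g
      have h2 : l g = 1 := h1
      show (χ : G → ℂ) g = 1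
      have h3 : (χ : G → ℂ) g = (l g : ℂˣ) := rfl
      rw [h3, h2]
      rfl
    letI : Fintype T := Fintype.ofFinite _
    have hTcard : Nat.card T < n := by
      rw [← hn]
      have h1 := T.card_mul_index
      have h2 : T.index ≠ 1 := fun h => hTne (Subgroup.index_eq_one.1 h)
      have h3 : 0 < T.index := Nat.pos_of_ne_zero Subgroup.index_ne_zero_of_finite
      have h4 : 0 < Nat.card T := Nat.card_pos
      rw [← h1]
      nlinarith [Nat.lt_of_le_of_ne h3 (Ne.symm h2)]
    obtain ⟨M, hMn, hMc, k, hMk⟩ := IH _ hTcard T rfl (hyp_sub hp T hTidx hdeg)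
    haveI := hMn
    have hM₀ : (M.map T.subtype).Normal := normal_map hp T M hMc hMk
    have hcM : Nat.card (M.map T.subtype) = Nat.card M :=
      Subgroup.card_map_of_injective T.subtype_injective
    by_cases hbot : M = ⊥
    · subst hbot
      have hT : IsPGroup p T := by
        apply IsPGroup.of_card (n := k)
        rw [← hMk]
        exact Subgroup.index_bot.symm
      exact last_case hp T hT hTidx hdeg
    · set M₀ := M.map T.subtype with hM₀def
      haveI := hM₀
      letI : Fintype (G ⧸ M₀) := Fintype.ofFinite _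
      have hM1 : 1 < Nat.card M₀ := by
        rw [hcM]
        haveI : Nontrivial M := (Subgroup.nontrivial_iff_ne_bot M).2 hbot
        exact Finite.one_lt_card
      have hqcard : Nat.card (G ⧸ M₀) < n := by
        rw [← hn, Subgroup.card_eq_card_quotient_mul_card_subgroup M₀]
        have h4 : 0 < Nat.card (G ⧸ M₀) := Nat.card_pos
        nlinarith
      have h5 := IH _ hqcard (G ⧸ M₀) rfl (hyp_quot M₀ hdeg)
      exact npc_of_quot M₀ (by rw [hcM]; exact hMc) h5
  · -- only the trivial character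
    have h1 := Cfsg.Agent.Lib.CharResid.residual_congr (G := G) p hp
    have hS : {χ : IrrCharacter G | ¬ p ∣ charDegree (χ : G → ℂ) ∧ ¬ p ∣ detOrder (χ : G → ℂ)} = {one} := by
      ext χ
      simp only [Set.mem_setOf_eq, Set.mem_singleton_iff]
      constructor
      · rintro ⟨h2, h3⟩
        by_contra h4
        exact hex ⟨χ, h4, h2, h3⟩
      · rintro rfl
        rw [hone1]
        have h2 : detOrder (one : G → ℂ) = 1 := detOrder_one
        rw [h2]
        exact ⟨fun h => hp.one_lt.ne' (Nat.dvd_one.1 h), fun h => hp.one_lt.ne' (Nat.dvd_one.1 h)⟩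
    rw [hS, finsum_mem_singleton, hone1] at h1
    have hK := Cfsg.Agent.Lib.CharResid.pResidual_normal (G := G) p
    obtain ⟨m, hm⟩ := Cfsg.Agent.Lib.CharResid.index_pResidual (G := G) p hp
    refine ⟨_, hK, ?_, m, hm⟩
    have h2 : ¬ p ∣ Nat.card (pResidual p G) := by
      intro h3
      have h4 : ((Nat.card (pResidual p G) : ℕ) : ℤ) ≡ 0 [ZMOD p] :=
        (Int.modEq_zero_iff_dvd).2 (by exact_mod_cast h3)
      have h5 : ((1 : ℕ) : ℤ) ^ 2 ≡ 0 [ZMOD p] := h1.symm.trans h4
      have h6 : (p : ℤ) ∣ 1 := by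
        have := (Int.modEq_zero_iff_dvd).1 h5
        simpa using this
      have h7 : p ∣ 1 := by exact_mod_cast h6
      exact hp.one_lt.ne' (Nat.dvd_one.1 h7)
    exact ((Nat.Prime.coprime_iff_not_dvd hp).2 h2).symm

end Cfsg.Agent.Lib.ThompsonDeg
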