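import Mathlib
import Cfsg.Agent.Lib.AmalgamChar
import Cfsg.Agent.Lib.PResidual

/-! Transfer of involutions into a Sylow `2`-subgroup. -/

namespace Cfsg.Agent.Lib.Transfer2

open Cfsg

variable {G : Type*} [Group G] [Finite G]

/-- A `2`-group acting: the count of an invariant set containing all fixed points has the parity of the whole set. -/
theorem card_parity_of_contains_fixed {P X : Type*} [Group P] [Finite P] [Finite X] [MulAction P X]
    (hP : IsPGroup 2 P) (Y : Set X) (hinv : ∀ (s : P) (c : X), c ∈ Y → s • c ∈ Y)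
    (hfix : ∀ c : X, c ∈ MulAction.fixedPoints P X → c ∈ Y) :
    Nat.card Y ≡ Nat.card X [MOD 2] := by
  haveI : Fact (Nat.Prime 2) := ⟨Nat.prime_two⟩
  let YS : SubMulAction P X := ⟨Y, fun s c hc => hinv s c hc⟩
  have h1 := hP.card_modEq_card_fixedPoints (α := YS)
  have h2 := hP.card_modEq_card_fixedPoints (α := X)
  have h3 : Nat.card (MulAction.fixedPoints P YS) = Nat.card (MulAction.fixedPoints P X) := by
    apply Nat.card_congr
    refine Equiv.ofBijective (fun c => ⟨(c.1 : X), fun s => by
      have := c.2 s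
      exact congrArg Subtype.val this⟩) ⟨?_, ?_⟩
    · rintro ⟨⟨a, _⟩, _⟩ ⟨⟨b, _⟩, _⟩ h
      have : a = b := congrArg Subtype.val h
      subst this
      rfl
    · rintro ⟨c, hc⟩
      exact ⟨⟨⟨c, hfix c hc⟩, fun s => Subtype.ext (hc s)⟩, rfl⟩
  have h4 : Nat.card Y = Nat.card YS := rfl
  rw [h4]
  exact h1.trans (by rw [h3]; exact h2.symm)

/-- The transfer of a central involution of `S` into `±1`. -/
theorem transfer_ne_one (S : Subgroup G) (hSp : IsPGroup 2 S) (hSodd : Odd S.index)
    (ϕ : S →* ℤˣ) {z : G} (hzS : z ∈ S) (hzc : z ∈ Subgroup.centralizer (S : Set G)) (hz2 : z ^ 2 = 1)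
    (hϕ : ϕ ⟨z, hzS⟩ = -1)
    (hN : ∀ g ∈ Subgroup.normalizer (S : Set G), g * z * g⁻¹ = z) :
    ϕ.transfer z ≠ 1 := by
  classical
  haveI : Fintype (G ⧸ S) := Fintype.ofFinite _
  -- the value function
  let fT : G → ℤˣ := fun x => if h : x⁻¹ * z * x ∈ S then ϕ ⟨x⁻¹ * z * x, h⟩ else 1
  have hfT : ∀ x (h : x⁻¹ * z * x ∈ S), fT x = ϕ ⟨x⁻¹ * z * x, h⟩ := fun x h => dif_pos h
  have hsmulfix : ∀ x : G, z • (QuotientGroup.mk x : G ⧸ S) = QuotientGroup.mk x ↔ x⁻¹ * z * x ∈ S := by
    intro x
    constructor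
    · intro h
      have h1 : ((z * x : G) : G ⧸ S) = x := h
      have h2 := QuotientGroup.eq.1 h1
      have h4 : z⁻¹ = z := by
        rw [sq] at hz2
        exact inv_eq_of_mul_eq_one_left hz2
      have h5 : (z * x)⁻¹ * x = x⁻¹ * z * x := by
        rw [mul_inv_rev, h4]
      rw [← h5]
      exact h2
    · intro h
      show ((z * x : G) : G ⧸ S) = x
      apply QuotientGroup.eq.2
      have h4 : z⁻¹ = z := by
        rw [sq] at hz2
        exact inv_eq_of_mul_eq_one_left hz2
      have : (z * x)⁻¹ * x = x⁻¹ * z * x := by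
        rw [mul_inv_rev, h4]
      rw [this]
      exact h
  have hfT_right : ∀ x : G, ∀ t ∈ S, fT (x * t) = fT x := by
    intro x t ht
    have h1 : (x * t)⁻¹ * z * (x * t) = t⁻¹ * (x⁻¹ * z * x) * t := by group
    have hiff : (x * t)⁻¹ * z * (x * t) ∈ S ↔ x⁻¹ * z * x ∈ S := by
      rw [h1]
      constructor
      · intro h
        have := S.mul_mem (S.mul_mem ht h) (S.inv_mem ht)
        simpa [mul_assoc] using this
      · intro h
        exact S.mul_mem (S.mul_mem (S.inv_mem ht) h) ht
    by_cases h : x⁻¹ * z * x ∈ S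
    · rw [hfT _ (hiff.mpr h), hfT _ h]
      have e : (⟨(x * t)⁻¹ * z * (x * t), hiff.mpr h⟩ : S) = (⟨t, ht⟩ : S)⁻¹ * ⟨x⁻¹ * z * x, h⟩ * ⟨t, ht⟩ :=
        Subtype.ext h1
      rw [e, map_mul, map_mul, mul_comm, ← mul_assoc, ← map_mul]
      simp
    · have h' : ¬ (x * t)⁻¹ * z * (x * t) ∈ S := fun h2 => h (hiff.mp h2)
      simp only [fT, dif_neg h, dif_neg h']
  have hfT_left : ∀ s ∈ S, ∀ x : G, fT (s * x) = fT x := by
    intro s hs x
    have h1 : s⁻¹ * z * s = z := by
      have := Subgroup.mem_centralizer_iff.mp hzc s hs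
      rw [mul_assoc, ← this]
      group
    have h2 : (s * x)⁻¹ * z * (s * x) = x⁻¹ * z * x := by
      calc (s * x)⁻¹ * z * (s * x) = x⁻¹ * (s⁻¹ * z * s) * x := by group
        _ = _ := by rw [h1]
    simp only [fT, h2]
  have hout : ∀ x : G, fT (Quotient.out (QuotientGroup.mk x : G ⧸ S)) = fT x := by
    intro x
    have h1 : (x⁻¹ * Quotient.out (QuotientGroup.mk x : G ⧸ S)) ∈ S := by
      have h2 : QuotientGroup.mk (Quotient.out (QuotientGroup.mk x : G ⧸ S)) = (QuotientGroup.mk x : G ⧸ S) :=
        QuotientGroup.out_eq' _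
      exact QuotientGroup.eq.mp h2.symm
    have h3 : Quotient.out (QuotientGroup.mk x : G ⧸ S) = x * (x⁻¹ * Quotient.out (QuotientGroup.mk x : G ⧸ S)) := by group
    rw [h3, hfT_right _ _ h1]
  let f : G ⧸ S → ℤˣ := fun c => fT (Quotient.out c)
  have hfmk : ∀ x : G, f (QuotientGroup.mk x) = fT x := hout
  -- the set of contributing cosets
  let Y : Set (G ⧸ S) := {c | z • c = c ∧ f c = -1}
  have hYinv : ∀ (s : S) (c : G ⧸ S), c ∈ Y → s • c ∈ Y := by
    rintro ⟨s, hs⟩ c ⟨hc1, hc2⟩
    induction c using QuotientGroup.induction_on with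
    | H x =>
    refine ⟨?_, ?_⟩
    · show z • ((s * x : G) : G ⧸ S) = ((s * x : G) : G ⧸ S)
      rw [hsmulfix]
      have h1 := (hsmulfix x).mp hc1
      have h2 : s⁻¹ * z * s = z := by
        have := Subgroup.mem_centralizer_iff.mp hzc s hs
        rw [mul_assoc, ← this]
        group
      have h3 : (s * x)⁻¹ * z * (s * x) = x⁻¹ * (s⁻¹ * z * s) * x := by group
      rw [h3, h2]
      exact h1
    · show f ((s * x : G) : G ⧸ S) = -1
      rw [hfmk, hfT_left s hs, ← hfmk]
      exact hc2
  have hYfix : ∀ c : G ⧸ S, c ∈ MulAction.fixedPoints S (G ⧸ S) → c ∈ Y := by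
    intro c hc
    induction c using QuotientGroup.induction_on with
    | H x =>
    have h1 : ∀ s ∈ S, x⁻¹ * s * x ∈ S := by
      intro s hs
      have h2 : ((s * x : G) : G ⧸ S) = x := hc ⟨s, hs⟩
      have h3 := QuotientGroup.eq.1 h2
      have h4 : x⁻¹ * s * x = ((s * x)⁻¹ * x)⁻¹ := by group
      rw [h4]
      exact S.inv_mem h3
    have hxN : x⁻¹ ∈ Subgroup.normalizer (S : Set G) := by
      have h2 : S.map (MulAut.conj x⁻¹).toMonoidHom ≤ S := by
        rintro _ ⟨s, hs, rfl⟩
        simpa using h1 s hs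
      have hc2 : Nat.card (S.map (MulAut.conj x⁻¹).toMonoidHom) = Nat.card S :=
        Subgroup.card_map_of_injective (MulAut.conj _).injective
      exact Cfsg.Agent.Lib.AmalgamChar.mem_normalizer_of_map_eq
        (Subgroup.eq_of_le_of_card_ge h2 hc2.ge)
    have hz' := hN _ hxN
    have hz'' : x⁻¹ * z * x = z := by simpa using hz'
    refine ⟨(hsmulfix x).mpr (by rw [hz'']; exact hzS), ?_⟩
    show f (QuotientGroup.mk x) = -1
    rw [hfmk, hfT x (by rw [hz'']; exact hzS)]
    have e : (⟨x⁻¹ * z * x, by rw [hz'']; exact hzS⟩ : S) = ⟨z, hzS⟩ := Subtype.ext hz''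
    rw [e, hϕ]
  have hYodd : Odd (Nat.card Y) := by
    have h1 := card_parity_of_contains_fixed hSp Y hYinv hYfix
    have h2 : Nat.card (G ⧸ S) = S.index := rfl
    rw [h2] at h1
    rw [Nat.odd_iff] at hSodd ⊢
    rw [Nat.ModEq] at h1
    omega
  -- the product formula
  have hform : ϕ.transfer z = ∏ c : G ⧸ S, if c ∈ Y then (-1 : ℤˣ) else 1 := by
    rw [MonoidHom.transfer_eq_prod_quotient_orbitRel_zpowers_quot]
    let Q := Quotient (MulAction.orbitRel (Subgroup.zpowers z) (G ⧸ S))
    let v : Q → ℤˣ := fun q => ϕ ⟨(Quotient.out (Quotient.out q))⁻¹ * z ^ Function.minimalPeriod (z • ·) (Quotient.out q) * Quotient.out (Quotient.out q),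
      QuotientGroup.out_conj_pow_minimalPeriod_mem S z (Quotient.out q)⟩
    change ∏ q : Q, v q = _
    -- fixed cosets are singleton orbits
    have hper1 : ∀ c : G ⧸ S, z • c = c → Function.minimalPeriod (z • ·) c = 1 := by
      intro c hc
      rw [Function.minimalPeriod_eq_one_iff_isFixedPt]
      exact hc
    have hper2 : ∀ c : G ⧸ S, z • c ≠ c → Function.minimalPeriod (z • ·) c = 2 := by
      intro c hc
      have h1 : Function.IsPeriodicPt (z • ·) 2 c := by
        show (z • ·)^[2] c = c
        simp only [Function.iterate_succ, Function.iterate_zero, Function.comp_apply, id]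
        rw [smul_smul, ← sq, hz2, one_smul]
      have h2 := h1.minimalPeriod_dvd
      have h3 : Function.minimalPeriod (z • ·) c ≠ 1 := by
        intro h
        rw [Function.minimalPeriod_eq_one_iff_isFixedPt] at h
        exact hc h
      have h4 := (Nat.dvd_prime Nat.prime_two).mp h2
      omega
    have hout_single : ∀ c : G ⧸ S, z • c = c →
        Quotient.out (Quotient.mk'' c : Q) = c := by
      intro c hc
      have h1 : (Quotient.mk'' (Quotient.out (Quotient.mk'' c : Q)) : Q) = Quotient.mk'' c :=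
        Quotient.out_eq' _
      have h2 := Quotient.exact' h1
      obtain ⟨w, hw⟩ := MulAction.orbitRel_apply.1 h2
      rw [← hw]
      obtain ⟨w, k, rfl⟩ := w
      show (z ^ k) • c = c
      exact MulAction.mem_stabilizer_iff.1 (Subgroup.zpow_mem _ (MulAction.mem_stabilizer_iff.2 hc) k)
    have hvfix : ∀ q : Q, z • Quotient.out q = Quotient.out q → v q = f (Quotient.out q) := by
      intro q hq
      have h1 := hper1 _ hq
      have h2 : (Quotient.out (Quotient.out q))⁻¹ * z * Quotient.out (Quotient.out q) ∈ S := by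
        have := (hsmulfix (Quotient.out (Quotient.out q)))
        rw [QuotientGroup.out_eq'] at this
        exact this.mp hq
      show ϕ _ = fT _
      rw [hfT _ h2]
      congr 1
      apply Subtype.ext
      simp only [h1, pow_one]
    have hvnon : ∀ q : Q, z • Quotient.out q ≠ Quotient.out q → v q = 1 := by
      intro q hq
      have h1 := hper2 _ hq
      show ϕ _ = 1
      have e : (⟨(Quotient.out (Quotient.out q))⁻¹ * z ^ Function.minimalPeriod (z • ·) (Quotient.out q) * Quotient.out (Quotient.out q),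
          QuotientGroup.out_conj_pow_minimalPeriod_mem S z (Quotient.out q)⟩ : S) = 1 := by
        apply Subtype.ext
        simp only [h1, hz2]
        simp
      rw [e, map_one]
    have hvals : ∀ u : ℤˣ, u = 1 ∨ u = -1 := Int.units_eq_one_or
    -- both sides as products over the cosets in `Y`
    calc ∏ q : Q, v q = ∏ q ∈ Finset.univ.filter (fun q : Q => Quotient.out q ∈ Y), v q := by
          symm
          apply Finset.prod_subset (Finset.filter_subset _ _)
          intro q _ hq
          rw [Finset.mem_filter, not_and] at hq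
          have hq' := hq (Finset.mem_univ q)
          by_cases hfx : z • Quotient.out q = Quotient.out q
          · rw [hvfix q hfx]
            rcases hvals (f (Quotient.out q)) with h | h
            · exact h
            · exact absurd ⟨hfx, h⟩ hq'
          · exact hvnon q hfx
      _ = ∏ c ∈ Finset.univ.filter (fun c : G ⧸ S => c ∈ Y), (-1 : ℤˣ) := by
          refine Finset.prod_bij (fun q _ => Quotient.out q) ?_ ?_ ?_ ?_
          · intro q hq
            rw [Finset.mem_filter] at hq ⊢
            exact ⟨Finset.mem_univ _, hq.2⟩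
          · intro a _ b _ h
            have h1 := Quotient.out_eq' a
            have h2 := Quotient.out_eq' b
            rw [← h1, ← h2, h]
          · intro c hc
            rw [Finset.mem_filter] at hc
            refine ⟨Quotient.mk'' c, ?_, hout_single c hc.2.1⟩
            rw [Finset.mem_filter]
            refine ⟨Finset.mem_univ _, ?_⟩
            rw [hout_single c hc.2.1]
            exact hc.2
          · intro q hq
            rw [Finset.mem_filter] at hq
            rw [hvfix q hq.2.1]
            exact hq.2.2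
      _ = ∏ c : G ⧸ S, if c ∈ Y then (-1 : ℤˣ) else 1 := by
          rw [Finset.prod_filter]
  rw [hform]
  have h5 : (∏ c : G ⧸ S, if c ∈ Y then (-1 : ℤˣ) else 1) = (-1) ^ (Nat.card Y) := by
    rw [Finset.prod_ite, Finset.prod_const_one, mul_one, Finset.prod_const]
    congr 1
    rw [Nat.card_eq_fintype_card, Fintype.card_subtype]
  rw [h5, hYodd.neg_one_pow]
  decide

/-- The transfer homomorphism into `±1` detects `O²(G) ≠ G`. -/
theorem pResidual_ne_top_of_hom (τ : G →* ℤˣ) {z : G} (hz : τ z ≠ 1) : pResidual 2 G ≠ ⊤ := by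
  intro htop
  have hle : pResidual 2 G ≤ τ.ker := by
    rw [pResidual, Subgroup.closure_le]
    rintro x hx
    rw [SetLike.mem_coe, MonoidHom.mem_ker]
    have h1 : (τ x) ^ 2 = 1 := by
      rcases Int.units_eq_one_or (τ x) with h | h <;> rw [h] <;> decide
    have hc : Nat.Coprime (orderOf x) 2 := by
      simpa using hx
    have h2 : (τ x) ^ orderOf x = 1 := by
      rw [← map_pow, pow_orderOf_eq_one, map_one]
    have h3 := Nat.Coprime.eq_one_of_dvd hc
    have h4 : orderOf (τ x) ∣ Nat.gcd (orderOf x) 2 :=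
      Nat.dvd_gcd (orderOf_dvd_of_pow_eq_one h2) (orderOf_dvd_of_pow_eq_one h1)
    rw [hc] at h4
    exact orderOf_eq_one_iff.mp (Nat.dvd_one.mp h4)
  apply hz
  have : z ∈ pResidual 2 G := by rw [htop]; trivial
  exact hle this

end Cfsg.Agent.Lib.Transfer2
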