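import Mathlib
import Cfsg.Agent.Lib.Hall
import Cfsg.Agent.Lib.FusionAlperin

/-! Finite groups with at most two conjugacy classes of maximal subgroups are solvable. -/

namespace Cfsg.Agent.Lib.TwoMaxClass

open scoped Pointwise

variable {G : Type*} [Group G] [Finite G]

theorem mem_conjS {g x : G} {M : Subgroup G} : x ∈ MulAut.conj g • M ↔ g⁻¹ * x * g ∈ M := by
  rw [Subgroup.mem_pointwise_smul_iff_inv_smul_mem, MulAut.smul_def, MulAut.conj_inv_apply]

theorem card_conjS (g : G) (M : Subgroup G) : Nat.card (MulAut.conj g • M : Subgroup G) = Nat.card M :=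
  Nat.card_congr (Subgroup.equivSMul (MulAut.conj g) M).symm.toEquiv

theorem index_conjS (g : G) (M : Subgroup G) : (MulAut.conj g • M : Subgroup G).index = M.index := by
  have h1 := Subgroup.card_mul_index (MulAut.conj g • M : Subgroup G)
  have h2 := Subgroup.card_mul_index M
  rw [card_conjS] at h1
  have hpos : 0 < Nat.card M := Nat.card_pos
  exact Nat.eq_of_mul_eq_mul_left hpos (h1.trans h2.symm)

theorem isCoatom_of_conjS {g : G} {M : Subgroup G} (h : IsCoatom (MulAut.conj g • M)) : IsCoatom M := by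
  refine ⟨?_, ?_⟩
  · rintro rfl
    apply h.1
    ext x; simp [mem_conjS]
  · intro K hK
    have hlt : MulAut.conj g • M < MulAut.conj g • K := by
      refine lt_of_le_of_ne ?_ ?_
      · intro x hx
        rw [mem_conjS] at hx ⊢
        exact hK.le hx
      · intro he
        apply hK.ne
        ext x
        have := congrArg (fun L => (g * x * g⁻¹) ∈ L) he
        simp only [mem_conjS, eq_iff_iff] at this
        have e : g⁻¹ * (g * x * g⁻¹) * g = x := by group
        rwa [e] at this
    have := h.2 _ hlt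
    ext x
    simp only [Subgroup.mem_top, iff_true]
    have h2 : g * x * g⁻¹ ∈ MulAut.conj g • K := by rw [this]; trivial
    rw [mem_conjS] at h2
    have e : g⁻¹ * (g * x * g⁻¹) * g = x := by group
    rwa [e] at h2

/-- Class formula in the form needed: a point fixed by everything and the others having
stabilizers of index divisible by `d`. -/
theorem dvd_card_sub_one {P X : Type*} [Group P] [Finite P] [MulAction P X] [Finite X] (d : ℕ) (x₀ : X)
    (hfix : ∀ u : P, u • x₀ = x₀) (h : ∀ x, x ≠ x₀ → d ∣ (MulAction.stabilizer P x).index) :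
    d ∣ Nat.card X - 1 := by
  classical
  haveI := Fintype.ofFinite (MulAction.orbitRel.Quotient P X)
  have e := MulAction.selfEquivSigmaOrbitsQuotientStabilizer P X
  set Ω := MulAction.orbitRel.Quotient P X with hΩ
  have hcard : Nat.card X = ∑ ω : Ω, (MulAction.stabilizer P (Quotient.out ω)).index := by
    rw [Nat.card_congr e, Nat.card_sigma]
    rfl
  let ω₀ : Ω := Quotient.mk'' x₀
  have hout : Quotient.out ω₀ = x₀ := by
    have : (Quotient.mk'' (Quotient.out ω₀) : Ω) = Quotient.mk'' x₀ := Quotient.out_eq' ω₀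
    have h3 := Quotient.exact' this
    obtain ⟨u, hu⟩ := h3
    have hu' : u • x₀ = Quotient.out ω₀ := hu
    rw [← hu', hfix]
  have hstab : (MulAction.stabilizer P (Quotient.out ω₀)).index = 1 := by
    rw [hout, Subgroup.index_eq_one]
    ext u
    simp [MulAction.mem_stabilizer_iff, hfix]
  rw [hcard, ← Finset.add_sum_erase Finset.univ _ (Finset.mem_univ ω₀), hstab, Nat.add_sub_cancel_left]
  apply Finset.dvd_sum
  intro ω hω
  apply h
  intro he
  apply (Finset.mem_erase.1 hω).1
  have h4 : (Quotient.mk'' (Quotient.out ω) : Ω) = ω := Quotient.out_eq' ω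
  rw [← h4, he]

theorem exists_sylow_between {p : ℕ} [Fact p.Prime] {M' : Subgroup G} (P' : Sylow p G)
    (hP' : (P' : Subgroup G) ≤ M') {T : Subgroup G} (hT : IsPGroup p T) (hTM : T ≤ M') :
    ∃ Q : Sylow p G, T ≤ Q ∧ (Q : Subgroup G) ≤ M' := by
  have hT' : IsPGroup p (T.subgroupOf M') := by
    have : T.subgroupOf M' ≃* T := Subgroup.subgroupOfEquivOfLe hTM
    exact IsPGroup.of_equiv hT this.symm
  obtain ⟨R, hR⟩ := hT'.exists_le_sylow
  obtain ⟨y, hy⟩ := MulAction.exists_smul_eq M' (P'.subtype hP') R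
  rw [Sylow.smul_subtype] at hy
  refine ⟨y • P', ?_, Sylow.smul_le hP' y⟩
  intro t ht
  have h1 : (⟨t, hTM ht⟩ : M') ∈ (R : Subgroup M') := hR (by simpa [Subgroup.mem_subgroupOf] using ht)
  rw [← hy, Sylow.coe_subtype, Subgroup.mem_subgroupOf] at h1
  exact h1

section Core

variable (M₁ M₂ : Subgroup G)

/-- Basic divisibility for subgroups of a conjugate of `M₁`. -/
theorem dvd_of_le_conj {d : ℕ} (hd : d ∣ M₁.index) {T : Subgroup G} {g : G}
    (hT : T ≤ MulAut.conj g • M₁) : Nat.card T * d ∣ Nat.card G := by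
  have h1 : Nat.card T ∣ Nat.card M₁ := by
    rw [← card_conjS g M₁]
    exact Subgroup.card_dvd_of_le hT
  rw [← Subgroup.card_mul_index M₁]
  exact mul_dvd_mul h1 hd

theorem key_bound (hOp : ∀ (p : ℕ) [Fact p.Prime] (T : Subgroup G), T.Normal → IsPGroup p T → T = ⊥)
    (hall : ∀ M : Subgroup G, IsCoatom M → ∃ g : G, M = MulAut.conj g • M₁ ∨ M = MulAut.conj g • M₂)
    {p : ℕ} [Fact p.Prime] (P : Sylow p G) (hP : (P : Subgroup G) ≤ M₂)
    {d : ℕ} (hd : d ∣ M₁.index) :
    ∀ (T : Subgroup G), IsPGroup p T → ∀ a b : G, MulAut.conj a • M₂ ≠ MulAut.conj b • M₂ →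
      T ≤ MulAut.conj a • M₂ → T ≤ MulAut.conj b • M₂ → Nat.card T * d ∣ Nat.card G := by
  classical
  intro T₀ hT₀ a₀ b₀ hab₀ hT₀a hT₀b
  by_contra hbig₀
  let S : Set (Subgroup G) := {T | IsPGroup p T ∧ ¬ Nat.card T * d ∣ Nat.card G ∧
    ∃ a b : G, MulAut.conj a • M₂ ≠ MulAut.conj b • M₂ ∧ T ≤ MulAut.conj a • M₂ ∧ T ≤ MulAut.conj b • M₂}
  have hS₀ : T₀ ∈ S := ⟨hT₀, hbig₀, a₀, b₀, hab₀, hT₀a, hT₀b⟩
  obtain ⟨T, -, hTmax⟩ := S.toFinite.exists_le_maximal hS₀
  obtain ⟨hTp, hTbig, a, b, hab, hTa, hTb⟩ := hTmax.prop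
  have hTne : T ≠ ⊥ := by
    rintro rfl
    apply hTbig
    simp only [Subgroup.card_bot, one_mul]
    rw [← Subgroup.card_mul_index M₁]
    exact Dvd.dvd.mul_left hd _
  have hNne : Subgroup.normalizer (T : Set G) ≠ ⊤ := by
    intro h
    exact hTne (hOp p T (Subgroup.normalizer_eq_top_iff.1 h) hTp)
  obtain ⟨M, hM, hNM⟩ := (eq_top_or_exists_le_coatom (Subgroup.normalizer (T : Set G))).resolve_left hNne
  have hTN : T ≤ Subgroup.normalizer (T : Set G) := Subgroup.le_normalizer
  obtain ⟨c, hc | hc⟩ := hall M hM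
  · exact hTbig (dvd_of_le_conj M₁ hd (hc ▸ hTN.trans hNM))
  -- all conjugates containing T coincide with M
  have claim : ∀ e : G, T ≤ MulAut.conj e • M₂ → MulAut.conj e • M₂ = M := by
    intro e hTe
    by_contra hne
    have hP' : ((e • P : Sylow p G) : Subgroup G) ≤ MulAut.conj e • M₂ := by
      rw [Sylow.coe_subgroup_smul]
      intro x hx
      rw [Subgroup.mem_pointwise_smul_iff_inv_smul_mem] at hx
      rw [Subgroup.mem_pointwise_smul_iff_inv_smul_mem]
      exact hP hx
    obtain ⟨Q, hTQ, hQM⟩ := exists_sylow_between (e • P) hP' hTp hTe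
    by_cases hTQe : T = (Q : Subgroup G)
    · -- Sylow case
      have hQM' : (Q : Subgroup G) ≤ M := hTQe ▸ (hTN.trans hNM)
      set u : G := c * e⁻¹ with hu
      have huM : MulAut.conj u • (MulAut.conj e • M₂) = M := by
        rw [hc, smul_smul, ← map_mul, hu]
        simp
      have hQu : ((u • Q : Sylow p G) : Subgroup G) ≤ M := by
        rw [Sylow.coe_subgroup_smul, ← huM]
        intro x hx
        rw [Subgroup.mem_pointwise_smul_iff_inv_smul_mem] at hx
        rw [Subgroup.mem_pointwise_smul_iff_inv_smul_mem]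
        exact hQM hx
      obtain ⟨y, hy⟩ := MulAction.exists_smul_eq M ((u • Q).subtype hQu) (Q.subtype hQM')
      rw [Sylow.smul_subtype] at hy
      have hy2 : (y : M) • (u • Q) = Q := Sylow.subtype_injective hy
      have hy3 : ((y : G) * u) • Q = Q := by
        rw [mul_smul]; exact hy2
      rw [Sylow.smul_eq_iff_mem_normalizer] at hy3
      have hy4 : (y : G) * u ∈ Subgroup.normalizer (T : Set G) := by
        rw [hTQe]; exact hy3
      have hyu : (y : G) * u ∈ M := hNM hy4
      have huM' : u ∈ M := by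
        have := M.mul_mem (M.inv_mem y.2) hyu
        simpa using this
      have h5 : MulAut.conj u • M = M := Subgroup.conj_smul_eq_self_of_mem huM'
      apply hne
      have h6 := huM
      rw [← h5] at h6
      have := smul_left_cancel _ h6
      rw [this]
    · -- normalizer growth
      have hlt : T < (Q : Subgroup G) := lt_of_le_of_ne hTQ hTQe
      obtain ⟨x, hxQ, hxT, hxN⟩ := Cfsg.Agent.Lib.FusionAlperin.exists_mem_normalizer_of_lt' Q.isPGroup' hlt
      let T₁ : Subgroup G := (Q : Subgroup G) ⊓ Subgroup.normalizer (T : Set G)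
      have hT₁p : IsPGroup p T₁ := Q.isPGroup'.to_le inf_le_left
      have hTT₁ : T ≤ T₁ := le_inf hTQ hTN
      have hbig : ¬ Nat.card T₁ * d ∣ Nat.card G := by
        intro hdv
        exact hTbig ((mul_dvd_mul_right (Subgroup.card_dvd_of_le hTT₁) d).trans hdv)
      have hT₁S : T₁ ∈ S := ⟨hT₁p, hbig, e, c, fun he => hne (he.trans hc.symm),
        inf_le_left.trans hQM, hc ▸ (inf_le_right.trans hNM)⟩
      exact hxT (hTmax.le_of_ge hT₁S hTT₁ ⟨hxQ, hxN⟩)
  exact hab ((claim a hTa).trans (claim b hTb).symm)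

theorem mul_pow_dvd_sylow {p : ℕ} [Fact p.Prime] (P : Sylow p G) {T : Subgroup G} (hT : IsPGroup p T) {k : ℕ}
    (h : Nat.card T * p ^ k ∣ Nat.card G) : Nat.card T * p ^ k ∣ Nat.card P := by
  obtain ⟨n, hn⟩ := IsPGroup.iff_card.1 hT
  rw [hn, ← pow_add] at h ⊢
  exact P.pow_dvd_card_of_pow_dvd_card h

theorem sylow_not_dvd {p : ℕ} [Fact p.Prime] (P : Sylow p G) {k : ℕ} (hk : k ≠ 0) :
    ¬ Nat.card P * p ^ k ∣ Nat.card G := by
  intro h
  have h1 := mul_pow_dvd_sylow P P.isPGroup' h
  have hpos : 0 < Nat.card P := Nat.card_pos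
  have h2 := Nat.le_of_dvd hpos h1
  have h3 : 1 < p ^ k := Nat.one_lt_pow hk (Fact.out : p.Prime).one_lt
  nlinarith

theorem normal_case (hOp : ∀ (p : ℕ) [Fact p.Prime] (T : Subgroup G), T.Normal → IsPGroup p T → T = ⊥)
    (hall : ∀ M : Subgroup G, IsCoatom M → ∃ g : G, M = MulAut.conj g • M₁ ∨ M = MulAut.conj g • M₂)
    (h1 : IsCoatom M₁) (h2 : IsCoatom M₂) (hn : M₂.Normal) : False := by
  have hm : M₁.index ≠ 1 := fun h => h1.1 (Subgroup.index_eq_one.1 h)
  let p := M₁.index.minFac
  haveI hp : Fact p.Prime := ⟨Nat.minFac_prime hm⟩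
  have hpm : p ^ 1 ∣ M₁.index := by rw [pow_one]; exact Nat.minFac_dvd _
  let P : Sylow p G := default
  have hpG : p ∣ Nat.card G := by
    rw [← Subgroup.card_mul_index M₁]
    exact Dvd.dvd.mul_left (Nat.minFac_dvd _) _
  have hPne : (P : Subgroup G) ≠ ⊥ := P.ne_bot_of_dvd_card hpG
  have hNne : Subgroup.normalizer ((P : Subgroup G) : Set G) ≠ ⊤ := fun h =>
    hPne (hOp p _ (Subgroup.normalizer_eq_top_iff.1 h) P.isPGroup')
  obtain ⟨M, hM, hNM⟩ := (eq_top_or_exists_le_coatom (Subgroup.normalizer ((P : Subgroup G) : Set G))).resolve_left hNne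
  have hPM : (P : Subgroup G) ≤ M := Subgroup.le_normalizer.trans hNM
  obtain ⟨c, hc | hc⟩ := hall M hM
  · exact sylow_not_dvd P one_ne_zero (dvd_of_le_conj M₁ hpm (hc ▸ hPM))
  have hc' : M = M₂ := by rw [hc]; exact Subgroup.Normal.conj_smul_eq_self c M₂
  rw [hc'] at hNM hPM
  have hf : Subgroup.normalizer ((P : Subgroup G) : Set G) ⊔ M₂ = ⊤ := Sylow.normalizer_sup_eq_top' P hPM
  rw [sup_eq_right.2 hNM] at hf
  exact h2.1 hf

theorem half (hOp : ∀ (p : ℕ) [Fact p.Prime] (T : Subgroup G), T.Normal → IsPGroup p T → T = ⊥)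
    (hall : ∀ M : Subgroup G, IsCoatom M → ∃ g : G, M = MulAut.conj g • M₁ ∨ M = MulAut.conj g • M₂)
    (h2 : IsCoatom M₂) (hn : ¬ M₂.Normal) : M₁.index ∣ M₂.index - 1 := by
  classical
  rw [Nat.dvd_iff_prime_pow_dvd_dvd]
  intro p k hp hpk
  rcases eq_or_ne k 0 with rfl | hk
  · simp
  haveI : Fact p.Prime := ⟨hp⟩
  let P : Sylow p G := default
  have hpG : p ∣ Nat.card G := by
    rw [← Subgroup.card_mul_index M₁]
    exact Dvd.dvd.mul_left ((dvd_pow_self p hk).trans hpk) _
  have hPne : (P : Subgroup G) ≠ ⊥ := P.ne_bot_of_dvd_card hpG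
  have hNne : Subgroup.normalizer ((P : Subgroup G) : Set G) ≠ ⊤ := fun h =>
    hPne (hOp p _ (Subgroup.normalizer_eq_top_iff.1 h) P.isPGroup')
  obtain ⟨M, hM, hNM⟩ := (eq_top_or_exists_le_coatom (Subgroup.normalizer ((P : Subgroup G) : Set G))).resolve_left hNne
  have hPM : (P : Subgroup G) ≤ M := Subgroup.le_normalizer.trans hNM
  obtain ⟨c, hc | hc⟩ := hall M hM
  · exact absurd (dvd_of_le_conj M₁ hpk (hc ▸ hPM)) (sylow_not_dvd P hk)
  -- a Sylow subgroup inside M₂
  let P₂ : Sylow p G := c⁻¹ • P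
  have hP₂ : (P₂ : Subgroup G) ≤ M₂ := by
    intro x hx
    have hx' : x ∈ MulAut.conj c⁻¹ • (P : Subgroup G) := by
      have := Sylow.coe_subgroup_smul (g := c⁻¹) (P := P)
      rw [← this]; exact hx
    rw [mem_conjS] at hx'
    have h3 := hPM hx'
    rw [hc, mem_conjS] at h3
    have e : c⁻¹ * (c⁻¹⁻¹ * x * c⁻¹) * c = x := by group
    rwa [inv_inv, show c⁻¹ * (c * x * c⁻¹) * c = x by group] at h3
  have hNM₂ : ∀ a : G, MulAut.conj a • M₂ = M₂ → a ∈ M₂ := by
    intro a ha
    by_contra hna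
    have hle : M₂ ≤ Subgroup.normalizer (M₂ : Set G) := Subgroup.le_normalizer
    have hlt : M₂ < Subgroup.normalizer (M₂ : Set G) := by
      refine lt_of_le_of_ne hle ?_
      intro he
      apply hna
      rw [he, Subgroup.mem_normalizer_iff]
      intro h
      constructor
      · intro hh
        have : a * h * a⁻¹ ∈ MulAut.conj a • M₂ := by
          rw [mem_conjS]; simpa [mul_assoc] using hh
        rwa [ha] at this
      · intro hh
        rw [← ha, mem_conjS] at hh
        simpa [mul_assoc] using hh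
    exact hn (Subgroup.normalizer_eq_top_iff.1 (h2.2 _ hlt))
  rw [Subgroup.index_eq_card]
  apply dvd_card_sub_one (P := (P₂ : Subgroup G)) (p ^ k) ((1 : G) : G ⧸ M₂)
  · intro u
    change ((u : G) • ((1 : G) : G ⧸ M₂)) = _
    rw [MulAction.Quotient.smul_coe, QuotientGroup.eq]
    simp only [smul_eq_mul, mul_one, inv_one, one_mul] 
    exact M₂.inv_mem (hP₂ u.2)
  · intro x hx
    obtain ⟨a, rfl⟩ := QuotientGroup.mk_surjective x
    have ha : a ∉ M₂ := by
      intro ha
      apply hx
      rw [QuotientGroup.eq]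
      simpa using ha
    let S := MulAction.stabilizer (P₂ : Subgroup G) ((a : G) : G ⧸ M₂)
    let T : Subgroup G := S.map (P₂ : Subgroup G).subtype
    have hTP : T ≤ (P₂ : Subgroup G) := by
      rintro _ ⟨u, -, rfl⟩
      exact u.2
    have hTp : IsPGroup p T := P₂.isPGroup'.to_le hTP
    have hT1 : T ≤ MulAut.conj (1 : G) • M₂ := by
      intro t ht
      rw [mem_conjS]
      simpa using hP₂ (hTP ht)
    have hTa : T ≤ MulAut.conj a • M₂ := by
      rintro _ ⟨u, hu, rfl⟩
      rw [mem_conjS]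
      have hu' : (u : G) • ((a : G) : G ⧸ M₂) = ((a : G) : G ⧸ M₂) := hu
      rw [MulAction.Quotient.smul_coe, QuotientGroup.eq] at hu'
      simp only [smul_eq_mul] at hu'
      have := M₂.inv_mem hu'
      simpa [mul_assoc] using this
    have hne : MulAut.conj a • M₂ ≠ MulAut.conj (1 : G) • M₂ := by
      intro he
      apply ha
      apply hNM₂
      rw [he]; simp
    have hdv := key_bound M₁ M₂ hOp hall P₂ hP₂ hpk T hTp a 1 hne hTa hT1
    have hdv2 := mul_pow_dvd_sylow P₂ hTp hdv
    have hcardT : Nat.card T = Nat.card S :=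
      Subgroup.card_map_of_injective (Subgroup.subtype_injective _)
    rw [hcardT] at hdv2
    have hcardS : Nat.card S * S.index = Nat.card P₂ := Subgroup.card_mul_index S
    rw [← hcardS] at hdv2
    exact Nat.dvd_of_mul_dvd_mul_left Nat.card_pos hdv2

theorem core (hOp : ∀ (p : ℕ) [Fact p.Prime] (T : Subgroup G), T.Normal → IsPGroup p T → T = ⊥)
    (hall : ∀ M : Subgroup G, IsCoatom M → ∃ g : G, M = MulAut.conj g • M₁ ∨ M = MulAut.conj g • M₂)
    (h1 : IsCoatom M₁) (h2 : IsCoatom M₂) : False := by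
  by_cases hn2 : M₂.Normal
  · exact normal_case M₁ M₂ hOp hall h1 h2 hn2
  have hall' : ∀ M : Subgroup G, IsCoatom M → ∃ g : G, M = MulAut.conj g • M₂ ∨ M = MulAut.conj g • M₁ := by
    intro M hM
    obtain ⟨g, hg⟩ := hall M hM
    exact ⟨g, hg.symm⟩
  by_cases hn1 : M₁.Normal
  · exact normal_case M₂ M₁ hOp hall' h2 h1 hn1
  have d1 := half M₁ M₂ hOp hall h2 hn2
  have d2 := half M₂ M₁ hOp hall' h1 hn1
  have i1 : M₁.index ≠ 1 := fun h => h1.1 (Subgroup.index_eq_one.1 h)
  have i2 : M₂.index ≠ 1 := fun h => h2.1 (Subgroup.index_eq_one.1 h)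
  have z1 : M₁.index ≠ 0 := Subgroup.index_ne_zero_of_finite
  have z2 : M₂.index ≠ 0 := Subgroup.index_ne_zero_of_finite
  have l1 := Nat.le_of_dvd (by omega) d1
  have l2 := Nat.le_of_dvd (by omega) d2
  omega

end Core

section Solv

universe u

theorem comap_coatom {G H : Type*} [Group G] [Group H] (f : G →* H) (hf : Function.Surjective f)
    {M : Subgroup H} (hM : IsCoatom M) : IsCoatom (M.comap f) := by
  refine ⟨?_, ?_⟩
  · intro h
    apply hM.1
    ext y
    obtain ⟨x, rfl⟩ := hf y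
    simp only [Subgroup.mem_top, iff_true]
    have : x ∈ M.comap f := by rw [h]; trivial
    exact this
  · intro K hK
    obtain ⟨x, hxK, hxM⟩ := SetLike.exists_of_lt hK
    have hlt : M < K.map f := by
      refine lt_of_le_of_ne ?_ ?_
      · intro y hy
        obtain ⟨z, rfl⟩ := hf y
        exact ⟨z, hK.le hy, rfl⟩
      · intro he
        apply hxM
        change f x ∈ M
        rw [he]
        exact ⟨x, hxK, rfl⟩
    have htop := hM.2 _ hlt
    ext g
    simp only [Subgroup.mem_top, iff_true]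
    have : f g ∈ K.map f := by rw [htop]; trivial
    obtain ⟨k, hk, hke⟩ := this
    have h1 : k⁻¹ * g ∈ M.comap f := by
      change f (k⁻¹ * g) ∈ M
      rw [map_mul, map_inv, hke]
      simp [M.one_mem]
    have := K.mul_mem hk (hK.le h1)
    simpa using this

theorem map_conjS {G H : Type*} [Group G] [Finite G] [Group H] [Finite H] (f : G →* H) (g : G) (M : Subgroup G) :
    (MulAut.conj g • M).map f = MulAut.conj (f g) • M.map f := by
  ext y
  rw [mem_conjS]
  constructor
  · rintro ⟨x, hx, rfl⟩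
    have hx' : x ∈ MulAut.conj g • M := hx
    rw [mem_conjS] at hx'
    exact ⟨_, hx', by simp⟩
  · rintro ⟨x, hx, hxe⟩
    refine ⟨g * x * g⁻¹, ?_, ?_⟩
    · change g * x * g⁻¹ ∈ MulAut.conj g • M
      rw [mem_conjS]
      have hx' : x ∈ M := hx
      simpa [mul_assoc] using hx'
    · simp only [map_mul, map_inv]
      rw [hxe]; group

theorem solvable_of_two : ∀ (n : ℕ) (G : Type u) [Group G] [Finite G] (M₁ M₂ : Subgroup G), Nat.card G = n →
    (∀ M : Subgroup G, IsCoatom M → ∃ g : G, M = MulAut.conj g • M₁ ∨ M = MulAut.conj g • M₂) →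
    Group.IsSolvable G := by
  intro n
  induction n using Nat.strong_induction_on with
  | _ n ih =>
    intro G _ _ M₁ M₂ hn hall
    by_cases hOp : ∀ (p : ℕ) [Fact p.Prime] (T : Subgroup G), T.Normal → IsPGroup p T → T = ⊥
    · by_cases hnt : Nontrivial G
      swap
      · rw [not_nontrivial_iff_subsingleton] at hnt
        infer_instance
      obtain ⟨M₀, hM₀, -⟩ := (eq_top_or_exists_le_coatom (⊥ : Subgroup G)).resolve_left bot_ne_top
      by_cases h1 : IsCoatom M₁
      · by_cases h2 : IsCoatom M₂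
        · exact (core M₁ M₂ hOp hall h1 h2).elim
        · refine (core M₁ M₁ hOp ?_ h1 h1).elim
          intro M hM
          obtain ⟨g, hg | hg⟩ := hall M hM
          · exact ⟨g, Or.inl hg⟩
          · exact absurd (isCoatom_of_conjS (hg ▸ hM)) h2
      · have hcl : ∀ M : Subgroup G, IsCoatom M → ∃ g : G, M = MulAut.conj g • M₂ := by
          intro M hM
          obtain ⟨g, hg | hg⟩ := hall M hM
          · exact absurd (isCoatom_of_conjS (hg ▸ hM)) h1
          · exact ⟨g, hg⟩
        obtain ⟨g, hg⟩ := hcl M₀ hM₀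
        have h2 : IsCoatom M₂ := isCoatom_of_conjS (hg ▸ hM₀)
        refine (core M₂ M₂ hOp ?_ h2 h2).elim
        intro M hM
        obtain ⟨g, hg⟩ := hcl M hM
        exact ⟨g, Or.inl hg⟩
    · push Not at hOp
      obtain ⟨p, hp, T, hTn, hTp, hTne⟩ := hOp
      haveI := hTn
      have hcard : Nat.card (G ⧸ T) < n := by
        have h1 := Subgroup.card_eq_card_quotient_mul_card_subgroup T
        have h2 : 1 < Nat.card T := by
          have : Nontrivial T := (Subgroup.nontrivial_iff_ne_bot T).2 hTne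
          exact Finite.one_lt_card
        have h3 : 0 < Nat.card (G ⧸ T) := Nat.card_pos
        rw [← hn, h1]
        nlinarith
      have hq : Group.IsSolvable (G ⧸ T) := by
        refine ih _ hcard (G ⧸ T) (M₁.map (QuotientGroup.mk' T)) (M₂.map (QuotientGroup.mk' T)) rfl ?_
        intro M hM
        have hM' := comap_coatom (QuotientGroup.mk' T) (QuotientGroup.mk'_surjective T) hM
        have hMe : (M.comap (QuotientGroup.mk' T)).map (QuotientGroup.mk' T) = M :=
          Subgroup.map_comap_eq_self_of_surjective (QuotientGroup.mk'_surjective T) M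
        obtain ⟨g, hg | hg⟩ := hall _ hM'
        · refine ⟨(QuotientGroup.mk' T) g, Or.inl ?_⟩
          rw [← hMe, hg, map_conjS]
        · refine ⟨(QuotientGroup.mk' T) g, Or.inr ?_⟩
          rw [← hMe, hg, map_conjS]
      haveI : Fact p.Prime := hp
      haveI : Group.IsNilpotent T := hTp.isNilpotent
      haveI : Group.IsSolvable T := inferInstance
      exact solvable_of_ker_le_range T.subtype (QuotientGroup.mk' T) (by simp)

end Solv

end Cfsg.Agent.Lib.TwoMaxClass
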