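import Cfsg.Agent.Lib.CharPOver
import Cfsg.Agent.Lib.WeaklyClosed
import Cfsg.Agent.Lib.CharPBasic

/-!
# Weakly closed subgroups with `C(Q) ≤ Q` and characteristic `p`
-/

set_option autoImplicit false
set_option linter.all false

namespace Cfsg.Agent.Lib.WCChar

open Subgroup Cfsg Cfsg.Agent.Lib Cfsg.Agent.Lib.CharPOver Cfsg.Agent.Lib.WeaklyClosed

variable {H : Type*} [Group H] [Finite H] {p : ℕ} [Fact p.Prime]

theorem le_normalizer_of_pgroup {Q R : Subgroup H} (hwc : IsWeaklyClosedSubgroup p Q)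
    (hR : IsPGroup p R) (hQR : Q ≤ R) : R ≤ normalizer (Q : Set H) := by
  obtain ⟨S, hS⟩ := hR.exists_le_sylow
  exact hS.trans (sylow_le_normalizer hwc (hQR.trans hS))

/-- A conjugate of `Q` inside a `p`-group containing `Q` equals `Q`. -/
theorem mem_normalizer_of_conj_le {Q R : Subgroup H} (hwc : IsWeaklyClosedSubgroup p Q)
    (hR : IsPGroup p R) (hQR : Q ≤ R) {g : H} (hg : Q.map (MulAut.conj g).toMonoidHom ≤ R) :
    g ∈ normalizer (Q : Set H) := by
  obtain ⟨S, hS⟩ := hR.exists_le_sylow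
  exact AmalgamChar.mem_normalizer_of_map_eq ((all_sylow hwc (hQR.trans hS)).2 g (hg.trans hS))

theorem pCoreOf_isPGroup (L : Subgroup H) : IsPGroup p (pCoreOf p L) :=
  (FitCore.pCore_isPGroup p).map _

theorem pCoreOf_le (L : Subgroup H) : pCoreOf p L ≤ L := Subgroup.map_subtype_le _

theorem core_normalizes {Q L : Subgroup H} (hQp : IsPGroup p Q) (hwc : IsWeaklyClosedSubgroup p Q)
    (hQL : Q ≤ L) : pCoreOf p L ≤ normalizer (Q : Set H) := by
  obtain ⟨T₀, hT₀⟩ := exists_sylow_in hQp hQL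
  have hQT : Q ≤ (T₀ : Subgroup L).map L.subtype := by
    intro q hq
    exact ⟨⟨q, hQL hq⟩, hT₀ hq, rfl⟩
  refine le_trans ?_ (le_normalizer_of_pgroup hwc (T₀.isPGroup'.map L.subtype) hQT)
  exact Subgroup.map_mono (PCore.pCore_le_sylow T₀)

theorem le_core {A L : Subgroup H} (hAp : IsPGroup p A) (hAL : A ≤ L) (hn : L ≤ normalizer (A : Set H)) :
    A ≤ pCoreOf p L := by
  intro a ha
  have hN : (A.subgroupOf L).Normal := (Subgroup.normal_subgroupOf_iff_le_normalizer hAL).2 hn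
  have h1 := FitCore.le_pCore p _ hN (hAp.comap_of_injective L.subtype L.subtype_injective)
  exact ⟨⟨a, hAL ha⟩, h1 ha, rfl⟩

theorem normalizer_le_normalizer_core (C : Subgroup H) :
    normalizer (C : Set H) ≤ normalizer (pCoreOf p C : Set H) := by
  intro x hx
  have key : ∀ x ∈ normalizer (C : Set H), ∀ a ∈ pCoreOf p C, x * a * x⁻¹ ∈ pCoreOf p C := by
    rintro x hx _ ⟨c, hc, rfl⟩
    have hmem : ∀ y ∈ normalizer (C : Set H), ∀ c : C, y * (c : H) * y⁻¹ ∈ C :=
      fun y hy c => (mem_normalizer_iff.1 hy c).1 c.2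
    let e : C ≃* C :=
      { toFun := fun c => ⟨x * c * x⁻¹, hmem x hx c⟩
        invFun := fun c => ⟨x⁻¹ * c * x, by
          have := hmem x⁻¹ (Subgroup.inv_mem _ hx) c
          simpa using this⟩
        left_inv := fun c => by
          apply Subtype.ext
          show x⁻¹ * (x * (c : H) * x⁻¹) * x = c
          group
        right_inv := fun c => by
          apply Subtype.ext
          show x * (x⁻¹ * (c : H) * x) * x⁻¹ = c
          group
        map_mul' := fun a b => by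
          apply Subtype.ext
          show x * ((a : H) * b) * x⁻¹ = (x * a * x⁻¹) * (x * b * x⁻¹)
          group }
    have h1 := PCore.pCore_map_equiv (p := p) e
    have h2 : e c ∈ pCore p C := by
      rw [← h1]; exact ⟨c, hc, rfl⟩
    exact ⟨e c, h2, rfl⟩
  apply Commutators.mem_normalizer_of_conj_mem (key x hx)
  intro a ha
  have := key x⁻¹ (Subgroup.inv_mem _ hx) a ha
  simpa using this

/-- An element of a group of characteristic `p` acting trivially on `O_p` modulo the centre lies in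
`O_p`. -/
theorem stab_le_core {X : Type*} [Group X] [Finite X]
    (hX : centralizer (pCore p X : Set X) ≤ pCore p X) (x : X)
    (hx : ∀ v ∈ pCore p X, x * v * x⁻¹ * v⁻¹ ∈ center X) : x ∈ pCore p X := by
  classical
  haveI hO : (pCore p X).Normal := FitCore.pCore_normal p
  have hOp : IsPGroup p (pCore p X) := FitCore.pCore_isPGroup p
  let D : Subgroup X :=
    { carrier := {x | ∀ v ∈ pCore p X, x * v * x⁻¹ * v⁻¹ ∈ center X}
      one_mem' := by
        intro v _
        simp [Subgroup.one_mem]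
      mul_mem' := by
        intro a b ha hb v hv
        have h1 := hb v hv
        have h2 := ha v hv
        have h3 : a * (b * v * b⁻¹ * v⁻¹) * a⁻¹ ∈ center X :=
          (inferInstance : (center X).Normal).conj_mem _ h1 a
        have h4 := (center X).mul_mem h3 h2
        have h5 : a * (b * v * b⁻¹ * v⁻¹) * a⁻¹ * (a * v * a⁻¹ * v⁻¹) = a * b * v * (a * b)⁻¹ * v⁻¹ := by
          group
        rwa [h5] at h4
      inv_mem' := by
        intro a ha v hv
        have hv' : a⁻¹ * v * a⁻¹⁻¹ ∈ pCore p X := hO.conj_mem v hv a⁻¹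
        have h1 := ha _ hv'
        have h2 : a * (a⁻¹ * v * a⁻¹⁻¹) * a⁻¹ * (a⁻¹ * v * a⁻¹⁻¹)⁻¹ = v * (a⁻¹ * v * a)⁻¹ := by
          group
        rw [h2] at h1
        have h3 := (center X).inv_mem h1
        have h4 : (v * (a⁻¹ * v * a)⁻¹)⁻¹ = a⁻¹ * v * a⁻¹⁻¹ * v⁻¹ := by
          group
        rwa [h4] at h3 }
  have hDn : D.Normal := by
    constructor
    intro a ha g v hv
    have hv' : g⁻¹ * v * g⁻¹⁻¹ ∈ pCore p X := hO.conj_mem v hv g⁻¹
    have h1 := ha _ hv'
    have h2 := (inferInstance : (center X).Normal).conj_mem _ h1 g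
    have h3 : g * (a * (g⁻¹ * v * g⁻¹⁻¹) * a⁻¹ * (g⁻¹ * v * g⁻¹⁻¹)⁻¹) * g⁻¹ =
        g * a * g⁻¹ * v * (g * a * g⁻¹)⁻¹ * v⁻¹ := by group
    rwa [h3] at h2
  have hDp : IsPGroup p D := by
    apply CharPBasic.isPGroup_of_forall_coprime
    intro c hc hco
    have hz : ∀ v ∈ pCore p X, c * v = v * c := by
      intro v hv
      set z := c * v * c⁻¹ * v⁻¹ with hzdef
      have hzc : z ∈ center X := hc v hv
      have hzO : z ∈ pCore p X :=
        (pCore p X).mul_mem (hO.conj_mem v hv c) ((pCore p X).inv_mem hv)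
      have h1 : c * v * c⁻¹ = z * v := by rw [hzdef]; group
      have h2 : c * z = z * c := ((Subgroup.mem_center_iff.1 hzc) c)
      have h3 : ∃ k, orderOf z = p ^ k := by
        obtain ⟨k, hk⟩ := hOp ⟨z, hzO⟩
        have h4 : z ^ p ^ k = 1 := by
          have := congrArg Subtype.val hk
          simpa using this
        have h5 := orderOf_dvd_of_pow_eq_one h4
        obtain ⟨m, -, hm⟩ := (Nat.dvd_prime_pow (Fact.out : p.Prime)).1 h5
        exact ⟨m, hm⟩
      have h6 : z = 1 := CharPBasic.eq_one_of_commutator_coprime h1 h2 hco h3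
      rw [h6, one_mul] at h1
      calc c * v = c * v * c⁻¹ * c := by group
        _ = v * c := by rw [h1]
    have hcO : c ∈ pCore p X := by
      apply hX
      rw [mem_centralizer_iff]
      intro v hv
      exact (hz v hv).symm
    exact CoprimeAct.eq_one_of_mem_pgroup_of_coprime hOp hcO hco
  exact FitCore.le_pCore p D hDn hDp hx

/-- The main statement, with an element `y`. -/
theorem main_of_elem {Q L : Subgroup H} (hQp : IsPGroup p Q)
    (hwc : IsWeaklyClosedSubgroup p Q) (hCQ : centralizer (Q : Set H) ≤ Q) (hQL : Q ≤ L) {y : H}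
    (hyY : y ∈ pCoreOf p L) (hyQ : y ∈ centralizer (Q : Set H))
    (hyc : CharIn p (centralizer ({y} : Set H))) :
    ⁅Q, centralizer (pCoreOf p L : Set H)⁆ ≤ Q ⊓ pCoreOf p L ∧
      IsPGroup p (centralizer (pCoreOf p L : Set H)) ∧ CharIn p L := by
  classical
  set Y := pCoreOf p L with hY
  have hYp : IsPGroup p Y := pCoreOf_isPGroup L
  have hYL : Y ≤ L := pCoreOf_le L
  have hLY : L ≤ normalizer (Y : Set H) := by
    intro x hx
    have hn := FitCore.pCore_normal (G := L) p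
    have key : ∀ x ∈ L, ∀ a ∈ Y, x * a * x⁻¹ ∈ Y := by
      rintro x hx _ ⟨c, hc, rfl⟩
      exact ⟨_, hn.conj_mem c hc ⟨x, hx⟩, rfl⟩
    apply Commutators.mem_normalizer_of_conj_mem (key x hx)
    intro a ha
    have := key x⁻¹ (L.inv_mem hx) a ha
    simpa using this
  have hYQ : Y ≤ normalizer (Q : Set H) := core_normalizes hQp hwc hQL
  have hyQ' : y ∈ Q := hCQ hyQ
  -- the subgroup `A = Y ∩ C(Q)`
  set A := Y ⊓ centralizer (Q : Set H) with hA
  have hAp : IsPGroup p A := hYp.to_le inf_le_left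
  have hyA : y ∈ A := ⟨hyY, hyQ⟩
  have hAc : ∀ a ∈ A, a * y = y * a := by
    intro a ha
    exact (mem_centralizer_iff.1 hyQ a (hCQ ha.2))
  have hNA : CharIn p (normalizer (A : Set H)) := char_of_central hAp hyA hAc hyc
  have hYA : Y ≤ normalizer (A : Set H) := by
    intro u hu
    have hu2 := hYQ hu
    have key : ∀ u ∈ Y, ∀ a ∈ A, u * a * u⁻¹ ∈ A := by
      rintro u hu a ⟨ha1, ha2⟩
      refine ⟨Y.mul_mem (Y.mul_mem hu ha1) (Y.inv_mem hu), mem_centralizer_iff.2 ?_⟩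
      intro q hq
      have h1 := hYQ (Y.inv_mem hu)
      have h2 : u⁻¹ * q * u⁻¹⁻¹ ∈ Q := (mem_normalizer_iff.1 h1 q).1 hq
      have h3 := mem_centralizer_iff.1 ha2 _ h2
      calc q * (u * a * u⁻¹) = u * ((u⁻¹ * q * u⁻¹⁻¹) * a) * u⁻¹ := by group
        _ = u * (a * (u⁻¹ * q * u⁻¹⁻¹)) * u⁻¹ := by rw [h3]
        _ = u * a * u⁻¹ * q := by group
    apply Commutators.mem_normalizer_of_conj_mem (key u hu)
    intro a ha
    have := key u⁻¹ (Y.inv_mem hu) a ha
    simpa using this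
  have hCA : centralizer (Y : Set H) ≤ normalizer (A : Set H) := by
    intro c hc
    apply H2Basic.mem_normalizer_of_forall_comm
    intro a ha
    exact (mem_centralizer_iff.1 hc a ha.1).symm
  have hNY : CharIn p (normalizer (Y : Set H)) := char_lift _ Y hNA hYA hYp hCA
  set C := centralizer (Y : Set H) with hC
  have hCN : C ≤ normalizer (Y : Set H) := by
    intro c hc
    apply H2Basic.mem_normalizer_of_forall_comm
    intro a ha
    exact (mem_centralizer_iff.1 hc a ha).symm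
  have hCchar : CharIn p C :=
    char_of_le_normal hCN (CompsLocal.centralizer_subgroupOf_normal Y) hNY
  -- `L` normalizes `C` and `V = O_p(C)`
  have hLC : L ≤ normalizer (C : Set H) := by
    intro x hx
    have key : ∀ x ∈ L, ∀ a ∈ C, x * a * x⁻¹ ∈ C := by
      intro x hx a ha
      rw [hC, mem_centralizer_iff]
      intro u hu
      have h1 := hLY (L.inv_mem hx)
      have h2 : x⁻¹ * u * x⁻¹⁻¹ ∈ Y := (mem_normalizer_iff.1 h1 u).1 hu
      have h3 := mem_centralizer_iff.1 ha _ h2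
      calc u * (x * a * x⁻¹) = x * ((x⁻¹ * u * x⁻¹⁻¹) * a) * x⁻¹ := by group
        _ = x * (a * (x⁻¹ * u * x⁻¹⁻¹)) * x⁻¹ := by rw [h3]
        _ = x * a * x⁻¹ * u := by group
    apply Commutators.mem_normalizer_of_conj_mem (key x hx)
    intro a ha
    have := key x⁻¹ (L.inv_mem hx) a ha
    simpa using this
  set V := pCoreOf p C with hV
  have hVp : IsPGroup p V := pCoreOf_isPGroup C
  have hVC : V ≤ C := pCoreOf_le C
  have hLV : L ≤ normalizer (V : Set H) := hLC.trans (normalizer_le_normalizer_core C)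
  have hQV : Q ≤ normalizer (V : Set H) := hQL.trans hLV
  have hQVp : IsPGroup p (Q ⊔ V : Subgroup H) := IsPGroup.to_sup_of_normal_right' hQp hVp hQV
  have hVQ : V ≤ normalizer (Q : Set H) := le_sup_right.trans (le_normalizer_of_pgroup hwc hQVp le_sup_left)
  -- `V ∩ L ≤ Y`
  have hVLY : V ⊓ L ≤ Y := by
    apply le_core (hVp.to_le inf_le_left) inf_le_right
    intro x hx
    have h1 := hLV hx
    apply Commutators.mem_normalizer_of_conj_mem
    · rintro a ⟨ha1, ha2⟩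
      exact ⟨(mem_normalizer_iff.1 h1 a).1 ha1, L.mul_mem (L.mul_mem hx ha2) (L.inv_mem hx)⟩
    · rintro a ⟨ha1, ha2⟩
      have h2 := hLV (L.inv_mem hx)
      have h3 := (mem_normalizer_iff.1 h2 a).1 ha1
      rw [inv_inv] at h3
      exact ⟨h3, L.mul_mem (L.mul_mem (L.inv_mem hx) ha2) hx⟩
  set Z := V ⊓ Y with hZ
  have hZc : ∀ c ∈ C, ∀ z ∈ Z, z * c = c * z := by
    intro c hc z hz
    exact mem_centralizer_iff.1 hc z hz.2
  have hQZ : ∀ q ∈ Q, ∀ z ∈ Z, q * z * q⁻¹ ∈ Z := by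
    rintro q hq z ⟨hz1, hz2⟩
    exact ⟨(mem_normalizer_iff.1 (hQV hq) z).1 hz1, (mem_normalizer_iff.1 (hLY (hQL hq)) z).1 hz2⟩
  -- commutators of `Q` with `V`
  have hcomm : ∀ q ∈ Q, ∀ v ∈ V, q * v * q⁻¹ * v⁻¹ ∈ Z := by
    intro q hq v hv
    have h1 : q * v * q⁻¹ * v⁻¹ ∈ V :=
      V.mul_mem ((mem_normalizer_iff.1 (hQV hq) v).1 hv) (V.inv_mem hv)
    have h2 : q * v * q⁻¹ * v⁻¹ ∈ Q := by
      have h3 : v * q⁻¹ * v⁻¹ ∈ Q := (mem_normalizer_iff.1 (hVQ hv) _).1 (Q.inv_mem hq)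
      have h4 := Q.mul_mem hq h3
      have h5 : q * (v * q⁻¹ * v⁻¹) = q * v * q⁻¹ * v⁻¹ := by group
      rwa [h5] at h4
    exact ⟨h1, hVLY ⟨h1, hQL h2⟩⟩
  -- `[Q, C] ≤ V`
  have hQCV : ∀ q ∈ Q, ∀ c ∈ C, q * c * q⁻¹ * c⁻¹ ∈ V := by
    intro q hq c hc
    have hxC : q * c * q⁻¹ * c⁻¹ ∈ C :=
      C.mul_mem ((mem_normalizer_iff.1 (hLC (hQL hq)) c).1 hc) (C.inv_mem hc)
    have h1 := stab_le_core hCchar ⟨_, hxC⟩ ?_
    · exact ⟨_, h1, rfl⟩
    · intro v hv
      have hv' : (v : H) ∈ V := ⟨v, hv, rfl⟩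
      have hcN := normalizer_le_normalizer_core (p := p) C (Subgroup.le_normalizer hc)
      have hv1 : c⁻¹ * (v : H) * c⁻¹⁻¹ ∈ V := (mem_normalizer_iff.1 (Subgroup.inv_mem _ hcN) _).1 hv'
      have hz1 := hcomm q⁻¹ (Q.inv_mem hq) _ hv1
      have hz1' := hZc c hc _ hz1
      set z₁ := q⁻¹ * (c⁻¹ * (v : H) * c⁻¹⁻¹) * q⁻¹⁻¹ * (c⁻¹ * (v : H) * c⁻¹⁻¹)⁻¹ with hz₁
      have hz2 := hcomm q hq v hv'
      have h3 : c * q⁻¹ * c⁻¹ * (v : H) * (c * q⁻¹ * c⁻¹)⁻¹ = z₁ * v := by
        calc c * q⁻¹ * c⁻¹ * (v : H) * (c * q⁻¹ * c⁻¹)⁻¹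
            = c * (q⁻¹ * (c⁻¹ * (v : H) * c⁻¹⁻¹) * q⁻¹⁻¹) * c⁻¹ := by group
          _ = c * (z₁ * (c⁻¹ * (v : H) * c⁻¹⁻¹)) * c⁻¹ := by rw [hz₁]; group
          _ = (c * z₁) * (c⁻¹ * v * c) * c⁻¹ := by group
          _ = (z₁ * c) * (c⁻¹ * v * c) * c⁻¹ := by rw [hz1']
          _ = z₁ * v := by group
      have h4 : (q * c * q⁻¹ * c⁻¹) * (v : H) * (q * c * q⁻¹ * c⁻¹)⁻¹ * (v : H)⁻¹ =
          (q * z₁ * q⁻¹) * (q * v * q⁻¹ * (v : H)⁻¹) := by
        calc (q * c * q⁻¹ * c⁻¹) * (v : H) * (q * c * q⁻¹ * c⁻¹)⁻¹ * (v : H)⁻¹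
            = q * (c * q⁻¹ * c⁻¹ * (v : H) * (c * q⁻¹ * c⁻¹)⁻¹) * q⁻¹ * (v : H)⁻¹ := by group
          _ = q * (z₁ * v) * q⁻¹ * (v : H)⁻¹ := by rw [h3]
          _ = _ := by group
      have h5 : (q * c * q⁻¹ * c⁻¹) * (v : H) * (q * c * q⁻¹ * c⁻¹)⁻¹ * (v : H)⁻¹ ∈ Z := by
        rw [h4]
        exact Z.mul_mem (hQZ q hq _ hz1) hz2
      rw [Subgroup.mem_center_iff]
      intro g
      apply Subtype.ext
      exact (hZc g g.2 _ h5).symm
  -- `C` normalizes `Q`
  have hCQn : C ≤ normalizer (Q : Set H) := by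
    intro c hc
    apply mem_normalizer_of_conj_le hwc hQVp le_sup_left
    rintro _ ⟨q, hq, rfl⟩
    have h1 := hQCV q⁻¹ (Q.inv_mem hq) c hc
    have h2 : (MulAut.conj c).toMonoidHom q = q * (q⁻¹ * c * q⁻¹⁻¹ * c⁻¹) := by
      show c * q * c⁻¹ = _
      group
    rw [h2]
    exact (Q ⊔ V).mul_mem ((le_sup_left : Q ≤ Q ⊔ V) hq) ((le_sup_right : V ≤ Q ⊔ V) h1)
  have hmem : ∀ q ∈ Q, ∀ c ∈ C, q * c * q⁻¹ * c⁻¹ ∈ Q ⊓ Y := by
    intro q hq c hc
    have h1 := hQCV q hq c hc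
    have h2 : q * c * q⁻¹ * c⁻¹ ∈ Q := by
      have h3 : c * q⁻¹ * c⁻¹ ∈ Q := (mem_normalizer_iff.1 (hCQn hc) _).1 (Q.inv_mem hq)
      have h4 := Q.mul_mem hq h3
      have h5 : q * (c * q⁻¹ * c⁻¹) = q * c * q⁻¹ * c⁻¹ := by group
      rwa [h5] at h4
    exact ⟨h2, hVLY ⟨h1, hQL h2⟩⟩
  have hCp : IsPGroup p C := by
    apply CharPBasic.isPGroup_of_forall_coprime
    intro c hc hco
    have hcQ : c ∈ Q := by
      apply hCQ
      rw [mem_centralizer_iff]
      intro q hq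
      -- `z = [c, q]`
      set z := c * q * c⁻¹ * q⁻¹ with hzdef
      have hz0 : z = (q * c * q⁻¹ * c⁻¹)⁻¹ := by rw [hzdef]; group
      have hzY : z ∈ Q ⊓ Y := by
        rw [hz0]
        exact (Q ⊓ Y).inv_mem (hmem q hq c hc)
      have h1 : c * q * c⁻¹ = z * q := by rw [hzdef]; group
      have h2 : c * z = z * c := (mem_centralizer_iff.1 hc z hzY.2).symm
      have h3 : ∃ k, orderOf z = p ^ k := by
        obtain ⟨k, hk⟩ := hQp ⟨z, hzY.1⟩
        have h4 : z ^ p ^ k = 1 := by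
          have := congrArg Subtype.val hk
          simpa using this
        have h5 := orderOf_dvd_of_pow_eq_one h4
        obtain ⟨m, -, hm⟩ := (Nat.dvd_prime_pow (Fact.out : p.Prime)).1 h5
        exact ⟨m, hm⟩
      have h6 : z = 1 := CharPBasic.eq_one_of_commutator_coprime h1 h2 hco h3
      rw [h6, one_mul] at h1
      calc q * c = (c * q * c⁻¹) * c := by rw [h1]
        _ = c * q := by group
    exact CoprimeAct.eq_one_of_mem_pgroup_of_coprime hQp hcQ hco
  refine ⟨?_, hCp, ?_⟩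
  · rw [Subgroup.commutator_le]
    intro q hq c hc
    exact hmem q hq c hc
  · intro x hx
    have hxC : (x : H) ∈ C := by
      rw [hC, mem_centralizer_iff]
      rintro _ ⟨u, hu, rfl⟩
      have := mem_centralizer_iff.1 hx u hu
      exact congrArg Subtype.val this
    have hLCp : C ⊓ L ≤ Y := by
      apply le_core (hCp.to_le inf_le_left) inf_le_right
      intro l hl
      apply Commutators.mem_normalizer_of_conj_mem
      · rintro a ⟨ha1, ha2⟩
        exact ⟨(mem_normalizer_iff.1 (hLC hl) a).1 ha1, L.mul_mem (L.mul_mem hl ha2) (L.inv_mem hl)⟩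
      · rintro a ⟨ha1, ha2⟩
        have h3 := (mem_normalizer_iff.1 (hLC (L.inv_mem hl)) a).1 ha1
        rw [inv_inv] at h3
        exact ⟨h3, L.mul_mem (L.mul_mem (L.inv_mem hl) ha2) hl⟩
    obtain ⟨u, hu, hux⟩ := hLCp ⟨hxC, x.2⟩
    have : u = x := Subtype.ext hux
    rwa [← this]

/-- `C_H(y)` has characteristic `p` if `H` has, for an element `y` of order `p`. -/
theorem char_centralizer (hH : centralizer (pCore p H : Set H) ≤ pCore p H) {y : H}
    (hyo : orderOf y = p) : CharIn p (centralizer ({y} : Set H)) := by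
  have h1 := CompsLocal.char_normalizer hH (zpowers y) (isPGroup_zpowers hyo)
  have hCN : centralizer ({y} : Set H) ≤ normalizer ((zpowers y : Subgroup H) : Set H) := by
    rw [← centralizer_zpowers]
    intro a ha
    exact H2Basic.mem_normalizer_of_forall_comm (fun b hb => (mem_centralizer_iff.1 ha b hb).symm)
  have hnn := CompsLocal.centralizer_subgroupOf_normal (zpowers y : Subgroup H)
  rw [centralizer_zpowers] at hnn
  exact char_of_le_normal hCN hnn h1

end Cfsg.Agent.Lib.WCChar
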