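import Mathlib
import Cfsg.Agent.Lib.Wielandt


/-!
The zipper lemma of Wielandt, and a sharpening of the subnormality criterion.
-/

set_option autoImplicit false
set_option linter.all false

namespace Cfsg.Agent.Lib.WielandtZip

open Cfsg.Agent.Lib.Wielandt

universe u

variable {G : Type u} [Group G]

/-- The zipper lemma: a subgroup that is not subnormal but is subnormal in all proper overgroups
lies in a unique maximal subgroup. -/
theorem zipper [Finite G] (A : Subgroup G) (hA : ¬ A.IsSubnormal)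
    (h1 : ∀ Y : Subgroup G, A ≤ Y → Y ≠ ⊤ → SN A Y) :
    ∀ K L : Subgroup G, IsCoatom K → IsCoatom L → A ≤ K → A ≤ L → K = L := by
  classical
  have h1' : ∀ (g : G) (Y : Subgroup G), A.map (MulAut.conj g).toMonoidHom ≤ Y → Y ≠ ⊤ →
      SN (A.map (MulAut.conj g).toMonoidHom) Y := by
    intro g Y hAY hY
    have hAY' : A ≤ Y.map (MulAut.conj g⁻¹).toMonoidHom := by
      intro a ha
      refine ⟨g * a * g⁻¹, hAY ⟨a, ha, rfl⟩, ?_⟩
      show g⁻¹ * (g * a * g⁻¹) * g⁻¹⁻¹ = a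
      group
    have hY' : Y.map (MulAut.conj g⁻¹).toMonoidHom ≠ ⊤ := by
      intro h
      apply hY
      rw [← map_conj_map_inv Y g, h]
      exact Subgroup.map_top_of_surjective _ (MulAut.conj g).surjective
    have h2 := sn_conj g (h1 _ hAY' hY')
    rwa [map_conj_map_inv] at h2
  -- uniqueness of the maximal subgroup containing `A`
  have huniq : ∀ K L : Subgroup G, IsCoatom K → IsCoatom L → A ≤ K → A ≤ L → K = L := by
    by_contra hcon
    push_neg at hcon
    obtain ⟨K₀, L₀, hK₀, hL₀, hAK₀, hAL₀, hne₀⟩ := hcon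
    let P : Set (Subgroup G × Subgroup G) :=
      {p | IsCoatom p.1 ∧ IsCoatom p.2 ∧ A ≤ p.1 ∧ A ≤ p.2 ∧ p.1 ≠ p.2}
    have hPne : P.Nonempty := ⟨(K₀, L₀), hK₀, hL₀, hAK₀, hAL₀, hne₀⟩
    obtain ⟨⟨K, L⟩, ⟨hK, hL, hAK, hAL, hne⟩, hmax⟩ :=
      Set.exists_max_image P (fun p => Nat.card (p.1 ⊓ p.2 : Subgroup G)) (Set.toFinite P) hPne
    simp only at hK hL hAK hAL hne hmax
    let D := K ⊓ L
    let F : Set (Subgroup G) := {X | (∃ g : G, X = A.map (MulAut.conj g).toMonoidHom) ∧ X ≤ D}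
    let Z := sSup F
    have hZD : Z ≤ D := sSup_le fun X hX => hX.2
    have hAD : A ≤ D := le_inf hAK hAL
    have hAZ : A ≤ Z := by
      refine le_sSup ⟨⟨1, ?_⟩, hAD⟩
      ext x
      simp
    have hconj : ∀ y : G, Z.map (MulAut.conj y).toMonoidHom ≤ D → Z.map (MulAut.conj y).toMonoidHom ≤ Z := by
      intro y hy
      rintro _ ⟨z, hz, rfl⟩
      have hle : Z ≤ Z.comap (MulAut.conj y).toMonoidHom := by
        apply sSup_le
        rintro X ⟨⟨g, rfl⟩, hX⟩ x hx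
        have hXZ : A.map (MulAut.conj g).toMonoidHom ≤ Z := le_sSup ⟨⟨g, rfl⟩, hX⟩
        have hmem : (A.map (MulAut.conj (y * g)).toMonoidHom) ∈ F := by
          refine ⟨⟨y * g, rfl⟩, ?_⟩
          rintro _ ⟨a, ha, rfl⟩
          apply hy
          refine ⟨(MulAut.conj g).toMonoidHom a, hXZ ⟨a, ha, rfl⟩, ?_⟩
          show y * (g * a * g⁻¹) * y⁻¹ = y * g * a * (y * g)⁻¹
          group
        obtain ⟨a, ha, rfl⟩ := hx
        have h3 : (A.map (MulAut.conj (y * g)).toMonoidHom) ≤ Z := le_sSup hmem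
        apply h3
        refine ⟨a, ha, ?_⟩
        show y * g * a * (y * g)⁻¹ = y * (g * a * g⁻¹) * y⁻¹
        group
      exact hle hz
    have hDZ : D ≤ Subgroup.normalizer (Z : Set G) := by
      intro d hd
      apply Cfsg.Agent.Lib.H5Basic.mem_normalizer_of_map_conj_le
      apply hconj
      rintro _ ⟨z, hz, rfl⟩
      exact D.mul_mem (D.mul_mem hd (hZD hz)) (D.inv_mem hd)
    have hB : ∀ K' : Subgroup G, D ≤ K' → K' ≠ ⊤ → ¬ K' ≤ D →
        ∃ x ∈ K', x ∉ D ∧ x ∈ Subgroup.normalizer (Z : Set G) := by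
      intro K' hDK' hK'top hK'D
      have hsnK : SN Z K' := by
        apply sn_sSup' K' F
        · intro Y hY
          exact hY.2.trans hDK'
        · rintro Y ⟨⟨g, rfl⟩, hY⟩
          exact h1' g K' (hY.trans hDK') hK'top
      let R : Set (Subgroup G) := {R | R ≤ K' ∧ Z ≤ R ∧ SN Z R ∧ D ≤ Subgroup.normalizer (R : Set G) ∧ ¬ R ≤ D}
      have hK'R : K' ∈ R := ⟨le_rfl, hZD.trans hDK', hsnK,
        hDK'.trans Subgroup.le_normalizer, hK'D⟩
      obtain ⟨R₀, -, hR₀⟩ := (Set.toFinite R).exists_le_minimal hK'R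
      obtain ⟨hR₀K, hZR₀, hsnR₀, hDR₀, hR₀D⟩ := hR₀.prop
      have hZne : Z ≠ R₀ := by
        intro h
        exact hR₀D (h ▸ hZD)
      have hlt := nc_lt hZR₀ hsnR₀ hZne
      have hncD : nc Z R₀ ≤ D := by
        by_contra hnc
        have hmem : nc Z R₀ ∈ R := ⟨hlt.le.trans hR₀K, le_nc _ _, sn_restrict hlt.le hsnR₀,
          le_normalizer_nc' hDZ hDR₀, hnc⟩
        have := hR₀.le_of_le hmem hlt.le
        exact absurd this (not_le_of_gt hlt)
      obtain ⟨x, hxR, hxD⟩ := SetLike.not_le_iff_exists.mp hR₀D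
      refine ⟨x, hR₀K hxR, hxD, ?_⟩
      apply Cfsg.Agent.Lib.H5Basic.mem_normalizer_of_map_conj_le
      apply hconj
      have h3 : Z.map (MulAut.conj x).toMonoidHom ≤ nc Z R₀ := le_sSup ⟨x, hxR, rfl⟩
      exact h3.trans hncD
    have hDK : D ≤ K := inf_le_left
    have hDL : D ≤ L := inf_le_right
    have hKD : ¬ K ≤ D := fun h => hne ((hK.le_iff_eq hL.1).mp (h.trans inf_le_right)).symm
    have hLD : ¬ L ≤ D := fun h => hne ((hL.le_iff_eq hK.1).mp (h.trans inf_le_left))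
    obtain ⟨x₁, hx₁K, hx₁D, hx₁N⟩ := hB K hDK hK.1 hKD
    obtain ⟨x₂, hx₂L, hx₂D, hx₂N⟩ := hB L hDL hL.1 hLD
    have hNtop : Subgroup.normalizer (Z : Set G) ≠ ⊤ := by
      intro h
      have hZn : Z.Normal := Subgroup.normalizer_eq_top_iff.mp h
      have hZtop : Z ≠ ⊤ := by
        intro h'
        exact hK.1 (top_le_iff.mp (h' ▸ hZD.trans hDK))
      have h3 := h1 Z hAZ hZtop
      have h4 : SN Z ⊤ := sn_of_isSubnormal (Subgroup.Normal.isSubnormal hZn) _
      exact hA (sn_top_iff.mp (sn_trans hAZ le_top h3 h4))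
    obtain ⟨M, hM, hNM⟩ := (eq_top_or_exists_le_coatom (Subgroup.normalizer (Z : Set G))).resolve_left hNtop
    have hAM : A ≤ M := hAZ.trans (Subgroup.le_normalizer.trans hNM)
    have hDM : D ≤ M := hDZ.trans hNM
    have hkey : ∀ K' : Subgroup G, IsCoatom K' → A ≤ K' → D ≤ K' → ∀ x ∈ K', x ∉ D →
        x ∈ Subgroup.normalizer (Z : Set G) → M = K' := by
      intro K' hK' hAK' hDK' x hxK' hxD hxN
      by_contra hMK'
      have h3 := hmax (M, K') ⟨hM, hK', hAM, hAK', hMK'⟩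
      simp only at h3
      have h4 : D ≤ M ⊓ K' := le_inf hDM hDK'
      have h5 : D = M ⊓ K' := Subgroup.eq_of_le_of_card_ge h4 h3
      exact hxD (h5 ▸ ⟨hNM hxN, hxK'⟩)
    exact hne ((hkey K hK hAK hDK x₁ hx₁K hx₁D hx₁N).symm.trans
      (hkey L hL hAL hDL x₂ hx₂L hx₂D hx₂N))
  exact huniq

end Cfsg.Agent.Lib.WielandtZip
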