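import Mathlib

set_option autoImplicit false

namespace Cfsg.Agent.Lib.WreathMax

open Equiv Equiv.Perm

variable {Ω β : Type*} [DecidableEq Ω]

/-- The stabilizer of the partition into fibres of `f`. -/
def Wr (f : Ω → β) : Subgroup (Equiv.Perm Ω) where
  carrier := {g | ∀ x y, f x = f y ↔ f (g x) = f (g y)}
  mul_mem' := by
    intro g h hg hh x y
    rw [hh x y, hg (h x) (h y)]
    rfl
  one_mem' := fun x y => Iff.rfl
  inv_mem' := by
    intro g hg x y
    rw [hg (g⁻¹ x) (g⁻¹ y)]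
    simp

omit [DecidableEq Ω] in
theorem mem_Wr (f : Ω → β) (g : Equiv.Perm Ω) :
    g ∈ Wr f ↔ ∀ x y, f x = f y ↔ f (g x) = f (g y) := Iff.rfl

omit [DecidableEq Ω] in
theorem closure_eq_Wr (f : Ω → β) :
    Subgroup.closure {g : Equiv.Perm Ω | ∀ x y : Ω, f x = f y ↔ f (g x) = f (g y)} = Wr f :=
  Subgroup.closure_eq (Wr f)

theorem swap_mem_Wr (f : Ω → β) (x y : Ω) (h : f x = f y) : swap x y ∈ Wr f := by
  have hk : ∀ z, f (swap x y z) = f z := by
    intro z
    by_cases h1 : z = x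
    · subst h1; simp [h]
    · by_cases h2 : z = y
      · subst h2; simp [h]
      · rw [swap_apply_of_ne_of_ne h1 h2]
  intro u v
  rw [hk, hk]

theorem exists_equiv {a b : ℕ} [Fintype Ω] (f : Ω → Fin b)
    (hf : ∀ i : Fin b, Nat.card {x : Ω // f x = i} = a) :
    ∃ e : Ω ≃ Fin b × Fin a, ∀ x, (e x).1 = f x := by
  let e₁ : ∀ i : Fin b, {x : Ω // f x = i} ≃ Fin a := fun i => Finite.equivFinOfCardEq (hf i)
  let e : Ω ≃ Fin b × Fin a := (Equiv.sigmaFiberEquiv f).symm.trans
    ((Equiv.sigmaCongrRight e₁).trans (Equiv.sigmaEquivProd _ _))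
  exact ⟨e, fun x => rfl⟩

theorem exists_pi {b : ℕ} (i j i' j' : Fin b) (hij : i ≠ j) (hij' : i' ≠ j') :
    ∃ π : Equiv.Perm (Fin b), π i = i' ∧ π j = j' := by
  refine ⟨swap (swap i i' j) j' * swap i i', ?_, ?_⟩
  · simp only [Perm.mul_apply, swap_apply_left]
    apply swap_apply_of_ne_of_ne
    · intro h
      have h2 : swap i i' j = swap i i' i := by rw [← h, swap_apply_left]
      exact hij ((swap i i').injective h2).symm
    · exact hij'
  · simp

/-- Transitivity on ordered cross pairs. -/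
theorem exists_move {a b : ℕ} [Fintype Ω] (f : Ω → Fin b)
    (hf : ∀ i : Fin b, Nat.card {x : Ω // f x = i} = a)
    (u v u' v' : Ω) (huv : f u ≠ f v) (huv' : f u' ≠ f v') :
    ∃ w ∈ Wr f, w u = u' ∧ w v = v' := by
  obtain ⟨e, he⟩ := exists_equiv f hf
  obtain ⟨π, h1, h2⟩ := exists_pi (f u) (f v) (f u') (f v') huv huv'
  let ρ : Fin b → Equiv.Perm (Fin a) := fun k =>
    if k = f u then swap (e u).2 (e u').2 else if k = f v then swap (e v).2 (e v').2 else 1
  let W : Fin b × Fin a ≃ Fin b × Fin a := Equiv.prodShear π ρ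
  have hW : ∀ p, W p = (π p.1, ρ p.1 p.2) := fun p => rfl
  let w : Equiv.Perm Ω := e.trans (W.trans e.symm)
  have hw : ∀ x, e (w x) = W (e x) := by
    intro x
    simp [w]
  have hfw : ∀ x, f (w x) = π (f x) := by
    intro x
    rw [← he (w x), hw, hW, he]
  refine ⟨w, ?_, ?_, ?_⟩
  · intro x y
    rw [hfw, hfw]
    exact π.injective.eq_iff.symm
  · apply e.injective
    rw [hw, hW]
    apply Prod.ext
    · simp only [he, h1]
    · simp only [he, ρ, if_true, swap_apply_left]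
  · apply e.injective
    rw [hw, hW]
    apply Prod.ext
    · simp only [he, h2]
    · simp only [he, ρ, if_neg huv.symm, if_true, swap_apply_left]

/-- The wreath product is maximal in the symmetric group. -/
theorem isCoatom_Wr {a b : ℕ} [Fintype Ω] (ha : 2 ≤ a) (hb : 2 ≤ b) (f : Ω → Fin b)
    (hf : ∀ i : Fin b, Nat.card {x : Ω // f x = i} = a) : IsCoatom (Wr f) := by
  classical
  -- points
  haveI : Nontrivial (Fin b) := Fin.nontrivial_iff_two_le.mpr hb
  have hfib : ∀ i : Fin b, ∃ x x' : Ω, x ≠ x' ∧ f x = i ∧ f x' = i := by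
    intro i
    have hlt : 1 < Nat.card {x : Ω // f x = i} := by rw [hf]; omega
    haveI := Finite.one_lt_card_iff_nontrivial.mp hlt
    obtain ⟨⟨x, hx⟩, ⟨x', hx'⟩, hne⟩ := exists_pair_ne {x : Ω // f x = i}
    exact ⟨x, x', fun h => hne (Subtype.ext h), hx, hx'⟩
  constructor
  · -- proper
    obtain ⟨i, j, hij⟩ := exists_pair_ne (Fin b)
    obtain ⟨x, x', hxx, hx, hx'⟩ := hfib i
    obtain ⟨y, _, _, hy, _⟩ := hfib j
    intro htop
    have hmem : swap x y ∈ Wr f := by rw [htop]; trivial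
    have h1 := (hmem x x').mp (by rw [hx, hx'])
    have hxy : x' ≠ y := by
      rintro rfl
      exact hij (hx'.symm.trans hy)
    rw [swap_apply_left, swap_apply_of_ne_of_ne hxx.symm hxy, hy, hx'] at h1
    exact hij h1.symm
  · intro M hM
    obtain ⟨g, hgM, hg⟩ := SetLike.exists_of_lt hM
    -- a cross swap in M
    obtain ⟨p, q, hpq, hsw⟩ : ∃ p q : Ω, f p ≠ f q ∧ swap p q ∈ M := by
      have h1 : ¬ ∀ x y, f x = f y ↔ f (g x) = f (g y) := hg
      push Not at h1
      obtain ⟨x, y, hxy⟩ := h1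
      rcases hxy with ⟨h2, h3⟩ | ⟨h2, h3⟩
      · refine ⟨g x, g y, h3, ?_⟩
        rw [swap_apply_apply]
        exact M.mul_mem (M.mul_mem hgM (hM.le (swap_mem_Wr f x y h2))) (M.inv_mem hgM)
      · refine ⟨x, y, h2, ?_⟩
        have := M.mul_mem (M.mul_mem (M.inv_mem hgM) (hM.le (swap_mem_Wr f (g x) (g y) h3))) (M.inv_mem (M.inv_mem hgM))
        rw [← swap_apply_apply] at this
        simpa using this
    rw [eq_top_iff, ← Equiv.Perm.closure_isSwap, Subgroup.closure_le]
    rintro σ ⟨u, v, huv, rfl⟩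
    by_cases hfuv : f u = f v
    · exact hM.le (swap_mem_Wr f u v hfuv)
    · obtain ⟨w, hw, h1, h2⟩ := exists_move f hf p q u v hpq hfuv
      have := M.mul_mem (M.mul_mem (hM.le hw) hsw) (M.inv_mem (hM.le hw))
      rw [← swap_apply_apply, h1, h2] at this
      exact this

end Cfsg.Agent.Lib.WreathMax
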