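import Mathlib
import Cfsg.Prelude
import Cfsg.Agent.Lib.ZStar

/-!
# The `Z*`-theorem for arbitrary 2-elements
-/

set_option autoImplicit false
set_option linter.all false

namespace Cfsg.Agent.Lib.ZStarElem

open Cfsg Cfsg.Agent.Lib.ZStar

universe u

section basics

variable {G : Type u} [Group G] [Finite G]

/-- A `p`-element of a subgroup containing a Sylow subgroup is conjugate into it inside the subgroup. -/
theorem exists_conj_mem_of_le {p : ℕ} [Fact p.Prime] (K : Subgroup G) (P : Sylow p G) (hP : (P : Subgroup G) ≤ K)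
    {w : G} (hwK : w ∈ K) (e : ℕ) (hw : w ^ (p ^ e) = 1) : ∃ c ∈ K, c⁻¹ * w * c ∈ (P : Subgroup G) := by
  let S' : Sylow p K := P.subtype hP
  let w' : K := ⟨w, hwK⟩
  have hw' : w' ^ (p ^ e) = 1 := Subtype.ext hw
  have hzp : IsPGroup p (Subgroup.zpowers w') := by
    rintro ⟨_, k, rfl⟩
    refine ⟨e, ?_⟩
    apply Subtype.ext
    show (w' ^ k) ^ (p ^ e) = 1
    rw [← zpow_natCast, ← zpow_mul, mul_comm, zpow_mul, zpow_natCast, hw', one_zpow]
  obtain ⟨R, hR⟩ := hzp.exists_le_sylow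
  obtain ⟨c, hc⟩ := MulAction.exists_smul_eq K S' R
  have h1 : w' ∈ (R : Sylow p K) := hR (Subgroup.mem_zpowers w')
  rw [← hc, Cfsg.Agent.Lib.SylowCount.mem_smul_sylow] at h1
  refine ⟨c, c.2, ?_⟩
  have h2 : (c⁻¹ * w' * c : K) ∈ (P : Subgroup G).subgroupOf K := by
    have := h1
    rwa [Sylow.coe_subtype] at this
  exact Subgroup.mem_subgroupOf.1 h2

/-- The 2-part trick: an element of `K S` of `p`-power order is conjugate into `S` by an element of `K`. -/
theorem exists_conj_of_sup {p : ℕ} [Fact p.Prime] (K : Subgroup G) [hK : K.Normal] (S : Sylow p G)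
    {w : G} (hwK : w ∈ K ⊔ (S : Subgroup G)) (e : ℕ) (hw : w ^ (p ^ e) = 1) :
    ∃ o ∈ K, o⁻¹ * w * o ∈ (S : Subgroup G) := by
  obtain ⟨c, hc, h⟩ := exists_conj_mem_of_le (K ⊔ (S : Subgroup G)) S le_sup_right hwK e hw
  obtain ⟨o, ho, s, hs, rfl⟩ := Subgroup.mem_sup_of_normal_left.1 hc
  refine ⟨o, ho, ?_⟩
  have e1 : o⁻¹ * w * o = s * ((o * s)⁻¹ * w * (o * s)) * s⁻¹ := by group
  rw [e1]
  exact (S : Subgroup G).mul_mem ((S : Subgroup G).mul_mem hs h) ((S : Subgroup G).inv_mem hs)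

theorem pow_two_pow_of_orderOf {x : G} {a : ℕ} (h : orderOf x = 2 ^ a) : x ^ (2 ^ a) = 1 := by
  rw [← h]
  exact pow_orderOf_eq_one x

/-- Two 2-subgroups of a subgroup `C` lie, after conjugating one by an element of `C`, in a common Sylow subgroup. -/
theorem common_sylow (C A B : Subgroup G) (hA : IsPGroup 2 A) (hB : IsPGroup 2 B) (hAC : A ≤ C) (hBC : B ≤ C) :
    ∃ u ∈ C, ∃ T : Sylow 2 G, A ≤ (T : Subgroup G) ∧ ∀ b ∈ B, u * b * u⁻¹ ∈ (T : Subgroup G) := by
  haveI : Fact (Nat.Prime 2) := ⟨Nat.prime_two⟩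
  have hA' : IsPGroup 2 (A.subgroupOf C) := hA.comap_of_injective C.subtype C.subtype_injective
  have hB' : IsPGroup 2 (B.subgroupOf C) := hB.comap_of_injective C.subtype C.subtype_injective
  obtain ⟨W, hW⟩ := hA'.exists_le_sylow
  obtain ⟨W', hW'⟩ := hB'.exists_le_sylow
  obtain ⟨u, hu⟩ := MulAction.exists_smul_eq C W' W
  have hWp : IsPGroup 2 ((W : Subgroup C).map C.subtype) := W.isPGroup'.map _
  obtain ⟨T, hT⟩ := hWp.exists_le_sylow
  refine ⟨u, u.2, T, ?_, ?_⟩
  · intro a ha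
    apply hT
    exact ⟨⟨a, hAC ha⟩, hW (Subgroup.mem_subgroupOf.2 ha), rfl⟩
  · intro b hb
    apply hT
    have h1 : (⟨b, hBC hb⟩ : C) ∈ (W' : Sylow 2 C) := hW' (Subgroup.mem_subgroupOf.2 hb)
    have h2 : u * (⟨b, hBC hb⟩ : C) * u⁻¹ ∈ (W : Sylow 2 C) := by
      rw [← hu, Cfsg.Agent.Lib.SylowCount.mem_smul_sylow]
      have e : u⁻¹ * (u * (⟨b, hBC hb⟩ : C) * u⁻¹) * u = (⟨b, hBC hb⟩ : C) := by group
      rw [e]
      exact h1
    exact ⟨_, h2, rfl⟩

/-- A strongly isolated element has an isolated involution among its powers. -/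
theorem isolated_pow (S : Sylow 2 G) {x : G} (hxS : x ∈ (S : Subgroup G))
    (hiso : ∀ g : G, g * x * g⁻¹ ∈ (S : Subgroup G) → g * x * g⁻¹ = x) {y : G} (k : ℕ) (hy : y = x ^ k)
    (hyo : orderOf y = 2) (e : ℕ) (hxe : x ^ (2 ^ e) = 1) :
    ∀ g : G, g * y * g⁻¹ ∈ (S : Subgroup G) → g * y * g⁻¹ = y := by
  haveI : Fact (Nat.Prime 2) := ⟨Nat.prime_two⟩
  -- `x` is central in `S`
  have hxZ : ∀ s ∈ (S : Subgroup G), s * x = x * s := by
    intro s hs
    have h1 := hiso s ((S : Subgroup G).mul_mem ((S : Subgroup G).mul_mem hs hxS) ((S : Subgroup G).inv_mem hs))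
    calc s * x = s * x * s⁻¹ * s := by group
      _ = x * s := by rw [h1]
  have hyS : y ∈ (S : Subgroup G) := by rw [hy]; exact (S : Subgroup G).pow_mem hxS k
  have hyZ : ∀ s ∈ (S : Subgroup G), s * y = y * s := by
    intro s hs
    rw [hy]
    have : Commute s x := hxZ s hs
    exact (this.pow_right k).eq
  intro g hg
  set y₁ := g * y * g⁻¹ with hy₁
  let C : Subgroup G := Subgroup.centralizer ({y₁} : Set G)
  have hxC : x ∈ C := Subgroup.mem_centralizer_singleton_iff.2 (hxZ y₁ hg).symm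
  let T : Sylow 2 G := g • S
  have hTC : (T : Subgroup G) ≤ C := by
    intro t ht
    have h1 : g⁻¹ * t * g ∈ (S : Subgroup G) := (Cfsg.Agent.Lib.SylowCount.mem_smul_sylow g t S).1 ht
    have h2 := hyZ _ h1
    apply Subgroup.mem_centralizer_singleton_iff.2
    rw [hy₁]
    calc t * (g * y * g⁻¹) = g * ((g⁻¹ * t * g) * y) * g⁻¹ := by group
      _ = g * (y * (g⁻¹ * t * g)) * g⁻¹ := by rw [h2]
      _ = g * y * g⁻¹ * t := by group
  obtain ⟨c, hc, h⟩ := exists_conj_mem_of_le C T hTC hxC e hxe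
  have h1 : g⁻¹ * (c⁻¹ * x * c) * g ∈ (S : Subgroup G) := (Cfsg.Agent.Lib.SylowCount.mem_smul_sylow g _ S).1 h
  have h2 := hiso (c * g)⁻¹ (by
    have e1 : (c * g)⁻¹ * x * (c * g)⁻¹⁻¹ = g⁻¹ * (c⁻¹ * x * c) * g := by group
    rwa [e1])
  have h3 : Commute (c * g)⁻¹ x := by
    show (c * g)⁻¹ * x = x * (c * g)⁻¹
    calc (c * g)⁻¹ * x = (c * g)⁻¹ * x * (c * g)⁻¹⁻¹ * (c * g)⁻¹ := by group
      _ = x * (c * g)⁻¹ := by rw [h2]
  have h4 : Commute (c * g)⁻¹ y := by rw [hy]; exact h3.pow_right k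
  have h5 : Commute (c * g) y := by
    have := h4.inv_left
    rwa [inv_inv] at this
  have h6 : c * y₁ * c⁻¹ = y₁ := by
    have h7 := Subgroup.mem_centralizer_singleton_iff.1 hc
    rw [h7]
    group
  have h8 : (c * g) * y * (c * g)⁻¹ = y := by
    rw [h5.eq]
    group
  have h9 : (c * g) * y * (c * g)⁻¹ = c * y₁ * c⁻¹ := by
    rw [hy₁]
    group
  rw [← h9] at h6
  exact h6.symm.trans h8

end basics

section induction

/-- **The `Z*`-theorem for 2-elements.** -/
theorem zstar_elem_aux (n : ℕ) : ∀ (G : Type u) [Group G] [Finite G], Nat.card G = n → ∀ (S : Sylow 2 G) (x : G),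
    x ∈ (S : Subgroup G) → (∀ g : G, g * x * g⁻¹ ∈ (S : Subgroup G) → g * x * g⁻¹ = x) →
    ∃ N : Subgroup G, N.Normal ∧ Odd (Nat.card N) ∧ ∀ g : G, g * x * g⁻¹ * x⁻¹ ∈ N := by
  induction n using Nat.strong_induction_on with
  | _ n ih =>
    intro G _ _ hn S x hxS hiso
    classical
    haveI : Fact (Nat.Prime 2) := ⟨Nat.prime_two⟩
    by_cases hx1 : x = 1
    · subst hx1
      refine ⟨⊥, inferInstance, by simp, fun g => ?_⟩
      rw [Subgroup.mem_bot]
      group
    -- a nontrivial normal subgroup of odd order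
    by_cases hO : ∃ K : Subgroup G, K.Normal ∧ Odd (Nat.card K) ∧ K ≠ ⊥
    · obtain ⟨K, hKn, hKo, hK⟩ := hO
      have hcard : Nat.card (G ⧸ K) < n := by
        rw [← hn]
        have h4 := Subgroup.card_eq_card_quotient_mul_card_subgroup K
        have h5 : 1 < Nat.card K := by
          by_contra h
          have h6 : Nat.card K = 1 := le_antisymm (by omega) Nat.card_pos
          exact hK ((Subgroup.card_eq_one).1 h6)
        have h7 : 0 < Nat.card (G ⧸ K) := Nat.card_pos
        rw [h4]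
        nlinarith
      let S' : Sylow 2 (G ⧸ K) := S.mapSurjective (QuotientGroup.mk'_surjective K)
      have hS' : ∀ s, s ∈ (S' : Subgroup (G ⧸ K)) ↔ ∃ t ∈ (S : Subgroup G), (t : G ⧸ K) = s := by
        intro s
        rw [Sylow.coe_mapSurjective]
        rfl
      have hxS' : ((x : G) : G ⧸ K) ∈ (S' : Subgroup (G ⧸ K)) := (hS' _).2 ⟨x, hxS, rfl⟩
      have hiso' : ∀ g : G ⧸ K, g * (x : G ⧸ K) * g⁻¹ ∈ (S' : Subgroup (G ⧸ K)) → g * (x : G ⧸ K) * g⁻¹ = x := by
        intro g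
        obtain ⟨g, rfl⟩ := QuotientGroup.mk_surjective g
        intro hg
        obtain ⟨t, ht, hte⟩ := (hS' _).1 hg
        set w := g * x * g⁻¹ with hw
        have hte' : t⁻¹ * w ∈ K := by
          rw [← QuotientGroup.eq]
          exact hte
        have hwK : w ∈ K ⊔ (S : Subgroup G) := by
          have : w = t * (t⁻¹ * w) := by group
          rw [this]
          exact Subgroup.mul_mem _ (Subgroup.mem_sup_right ht) (Subgroup.mem_sup_left hte')
        obtain ⟨e, he⟩ : ∃ e, x ^ (2 ^ e) = 1 := by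
          obtain ⟨e, he⟩ := (IsPGroup.iff_orderOf.1 S.isPGroup') ⟨x, hxS⟩
          refine ⟨e, ?_⟩
          rw [Subgroup.orderOf_mk] at he
          rw [← he]
          exact pow_orderOf_eq_one x
        have hwe : w ^ (2 ^ e) = 1 := by
          rw [hw, conj_pow, he]
          group
        obtain ⟨o, ho, h⟩ := exists_conj_of_sup K S hwK e hwe
        have h2 := hiso (o⁻¹ * g) (by
          have e1 : o⁻¹ * g * x * (o⁻¹ * g)⁻¹ = o⁻¹ * w * o := by rw [hw]; group
          rwa [e1])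
        have h3 : w = o * x * o⁻¹ := by
          have e1 : o⁻¹ * g * x * (o⁻¹ * g)⁻¹ = o⁻¹ * w * o := by rw [hw]; group
          rw [e1] at h2
          rw [← h2]
          group
        show ((w : G) : G ⧸ K) = x
        rw [h3, QuotientGroup.eq]
        have e3 : (o * x * o⁻¹)⁻¹ * x = o * (x⁻¹ * o⁻¹ * x) := by group
        rw [e3]
        exact K.mul_mem ho (by
          have := hKn.conj_mem o⁻¹ (K.inv_mem ho) x⁻¹
          simpa using this)
      obtain ⟨N, hNn, hNo, hN⟩ := ih _ hcard (G ⧸ K) rfl S' _ hxS' hiso'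
      refine ⟨N.comap (QuotientGroup.mk' K), hNn.comap _, ?_, fun g => ?_⟩
      · rw [card_comap_mk]
        exact hNo.mul hKo
      · have := hN (g : G ⧸ K)
        exact this
    push Not at hO
    have hO' : ∀ K : Subgroup G, K.Normal → Odd (Nat.card K) → K = ⊥ := hO
    -- the involution among the powers of `x`
    obtain ⟨a, ha⟩ := (IsPGroup.iff_orderOf.1 S.isPGroup') ⟨x, hxS⟩
    rw [Subgroup.orderOf_mk] at ha
    obtain ⟨b, rfl⟩ : ∃ b, a = b + 1 := by
      rcases a with _ | b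
      · rw [pow_zero] at ha
        exact absurd (orderOf_eq_one_iff.1 ha) hx1
      · exact ⟨b, rfl⟩
    set y := x ^ (2 ^ b) with hy
    have hyo : orderOf y = 2 := by
      rw [hy, orderOf_pow_of_dvd (by positivity) (by rw [ha]; exact pow_dvd_pow 2 (by omega)), ha, pow_succ]
      simp
    have hyi := isolated_pow S hxS hiso (2 ^ b) hy hyo (b + 1) (by rw [← ha]; exact pow_orderOf_eq_one x)
    have hyS : y ∈ (S : Subgroup G) := by rw [hy]; exact (S : Subgroup G).pow_mem hxS _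
    have hyiso := iso_of_isolated (isolated_of_sylow S y hyo hyS hyi)
    obtain ⟨N₀, hN₀n, hN₀o, hN₀⟩ := zstar y hyiso
    have hN₀b := hO' N₀ hN₀n hN₀o
    have hycen : ∀ g : G, g * y = y * g := by
      intro g
      have h3 := hN₀ g
      rw [hN₀b, Subgroup.mem_bot] at h3
      have hyy : y * y = 1 := by
        have := pow_orderOf_eq_one y
        rwa [hyo, pow_two] at this
      have hyi' : y⁻¹ = y := inv_eq_of_mul_eq_one_left hyy
      rw [hyi'] at h3
      have h4 : y * g * y = g := by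
        have := congrArg (· * g) h3
        simp only [one_mul, mul_assoc, inv_mul_cancel, mul_one] at this
        rw [← mul_assoc] at this
        exact this
      calc g * y = (y * g * y) * y := by rw [h4]
        _ = y * g * (y * y) := by group
        _ = y * g := by rw [hyy, mul_one]
    -- pass to the quotient by `⟨y⟩`
    have hyy : y * y = 1 := by
      have := pow_orderOf_eq_one y
      rwa [hyo, pow_two] at this
    have hy1 : y ≠ 1 := by
      intro e
      rw [e, orderOf_one] at hyo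
      omega
    let K : Subgroup G := Subgroup.zpowers y
    have hKS : K ≤ (S : Subgroup G) := (Subgroup.zpowers_le).2 hyS
    haveI hKn : K.Normal := by
      constructor
      intro a ha b
      obtain ⟨k, rfl⟩ := Subgroup.mem_zpowers_iff.1 ha
      have : b * y ^ k * b⁻¹ = y ^ k := by
        have h1 : Commute b y := hycen b
        rw [(h1.zpow_right k).eq]
        group
      rw [this]
      exact ha
    have hKc : Nat.card K = 2 := by
      rw [Nat.card_zpowers, hyo]
    have hcard : Nat.card (G ⧸ K) < n := by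
      rw [← hn]
      have h4 := Subgroup.card_eq_card_quotient_mul_card_subgroup K
      have h7 : 0 < Nat.card (G ⧸ K) := Nat.card_pos
      rw [h4, hKc]
      nlinarith
    let S' : Sylow 2 (G ⧸ K) := S.mapSurjective (QuotientGroup.mk'_surjective K)
    have hS' : ∀ s, s ∈ (S' : Subgroup (G ⧸ K)) ↔ ∃ t ∈ (S : Subgroup G), (t : G ⧸ K) = s := by
      intro s
      rw [Sylow.coe_mapSurjective]
      rfl
    have hmemS : ∀ w : G, (w : G ⧸ K) ∈ (S' : Subgroup (G ⧸ K)) → w ∈ (S : Subgroup G) := by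
      intro w hw
      obtain ⟨t, ht, hte⟩ := (hS' _).1 hw
      have hte' : t⁻¹ * w ∈ K := QuotientGroup.eq.1 hte
      have : w = t * (t⁻¹ * w) := by group
      rw [this]
      exact (S : Subgroup G).mul_mem ht (hKS hte')
    have hxS' : ((x : G) : G ⧸ K) ∈ (S' : Subgroup (G ⧸ K)) := (hS' _).2 ⟨x, hxS, rfl⟩
    have hiso' : ∀ g : G ⧸ K, g * (x : G ⧸ K) * g⁻¹ ∈ (S' : Subgroup (G ⧸ K)) → g * (x : G ⧸ K) * g⁻¹ = x := by
      intro g
      obtain ⟨g, rfl⟩ := QuotientGroup.mk_surjective g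
      intro hg
      have h1 := hiso g (hmemS (g * x * g⁻¹) hg)
      show ((g * x * g⁻¹ : G) : G ⧸ K) = x
      rw [h1]
    obtain ⟨N, hNn, hNo, hN⟩ := ih _ hcard (G ⧸ K) rfl S' _ hxS' hiso'
    let M : Subgroup G := N.comap (QuotientGroup.mk' K)
    haveI hMn : M.Normal := hNn.comap _
    have hMp : IsPGroup 2 M := comap_two_group hO' hyy hy1 hycen N hNn hNo
    have hMS : M ≤ (S : Subgroup G) := by
      have h1 : IsPGroup 2 (M ⊔ (S : Subgroup G) : Subgroup G) := hMp.to_sup_of_normal_left S.isPGroup'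
      have h2 := S.is_maximal' h1 le_sup_right
      rw [← h2]
      exact le_sup_left
    refine ⟨⊥, inferInstance, by simp, fun g => ?_⟩
    have h3 : g * x * g⁻¹ * x⁻¹ ∈ M := hN (g : G ⧸ K)
    have h4 : g * x * g⁻¹ ∈ (S : Subgroup G) := by
      have e1 : g * x * g⁻¹ = (g * x * g⁻¹ * x⁻¹) * x := by group
      rw [e1]
      exact (S : Subgroup G).mul_mem (hMS h3) hxS
    rw [Subgroup.mem_bot, hiso g h4, mul_inv_cancel]

end induction

/-- **The `Z*`-theorem for 2-elements.** -/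
theorem zstar_elem {G : Type u} [Group G] [Finite G] (S : Sylow 2 G) (x : G) (hxS : x ∈ (S : Subgroup G))
    (hiso : ∀ g : G, g * x * g⁻¹ ∈ (S : Subgroup G) → g * x * g⁻¹ = x) :
    ∃ N : Subgroup G, N.Normal ∧ Odd (Nat.card N) ∧ ∀ g : G, g * x * g⁻¹ * x⁻¹ ∈ N :=
  zstar_elem_aux _ G rfl S x hxS hiso

end Cfsg.Agent.Lib.ZStarElem
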