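import Mathlib
import Cfsg.Prelude
import Cfsg.Agent.Lib.ZStar
import Cfsg.Agent.Lib.SylowCount

/-!
# Invariant Sylow subgroups for isolated involutions
-/

set_option autoImplicit false
set_option linter.all false

namespace Cfsg.Agent.Lib.ZStarSyl

open Cfsg

theorem exists_fixed_of_odd {α : Type*} [Finite α] (hα : Odd (Nat.card α)) (f : α → α)
    (hf : Function.Involutive f) : ∃ a, f a = a := by
  classical
  haveI := Fintype.ofFinite α
  by_contra hne
  push Not at hne
  have h0 : ∑ a : α, (1 : ZMod 2) = 0 := by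
    refine Finset.sum_involution (fun a _ => f a) ?_ ?_ ?_ ?_
    · intro a _
      decide
    · intro a _ _
      exact hne a
    · intro a _
      exact Finset.mem_univ _
    · intro a _
      exact hf a
  simp only [Finset.sum_const, Finset.card_univ, nsmul_eq_mul, mul_one] at h0
  rw [ZMod.natCast_eq_zero_iff] at h0
  rw [Nat.card_eq_fintype_card] at hα
  exact (Nat.not_even_iff_odd.2 hα) (even_iff_two_dvd.2 h0)

theorem exists_pgroup_norm {Y : Type*} [Group Y] [Finite Y] (z : Y) (hzz : z * z = 1) (M : Subgroup Y)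
    [hMn : M.Normal] (hM : Odd (Nat.card M)) (hc : ∀ y : Y, z * y * z⁻¹ * y⁻¹ ∈ M) (p : ℕ) [hpf : Fact p.Prime]
    (hdvd : p ∣ Nat.card Y) :
    ∃ R : Subgroup Y, R ≠ ⊥ ∧ IsPGroup p R ∧ z ∈ Subgroup.normalizer (R : Set Y) := by
  have hzi : z⁻¹ = z := inv_eq_of_mul_eq_one_left hzz
  have hpp : p.Prime := hpf.out
  by_cases hpM : p ∣ Nat.card M
  · have hodd : Odd (Nat.card (Sylow p M)) := by
      have h1 : Nat.card (Sylow p M) ∣ Nat.card M := by
        obtain ⟨S⟩ : Nonempty (Sylow p M) := inferInstance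
        exact (Sylow.card_dvd_index S).trans (Subgroup.index_dvd_card _)
      exact Odd.of_dvd_nat hM h1
    let a : MulAut M := MulAut.conjNormal z
    have haa : a * a = 1 := by
      ext x
      simp only [a, MulAut.mul_apply, MulAut.conjNormal_apply, MulAut.one_apply]
      calc z * (z * (x : Y) * z⁻¹) * z⁻¹ = (z * z) * x * (z * z)⁻¹ := by group
        _ = x := by rw [hzz]; group
    obtain ⟨S, hS⟩ := exists_fixed_of_odd hodd (fun S => a • S) (by
      intro S
      show a • a • S = S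
      rw [smul_smul, haa, one_smul])
    replace hS : a • S = S := hS
    have hstep : ∀ s : M, s ∈ (S : Subgroup M) → a s ∈ (S : Subgroup M) := by
      intro s hs
      have h1 : a s ∈ ((a • S : Sylow p M) : Subgroup M) := by
        rw [Sylow.pointwise_smul_def]
        exact Subgroup.smul_mem_pointwise_smul _ _ _ hs
      rwa [hS] at h1
    refine ⟨(S : Subgroup M).map M.subtype, ?_, S.isPGroup'.map _, ?_⟩
    · intro hb
      rw [Subgroup.map_eq_bot_iff_of_injective _ M.subtype_injective] at hb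
      have h1 : p ^ 1 ∣ Nat.card (S : Subgroup M) :=
        S.pow_dvd_card_of_pow_dvd_card (by rwa [pow_one])
      rw [hb, Subgroup.card_bot, pow_one] at h1
      exact hpp.one_lt.ne' (Nat.dvd_one.1 h1)
    · rw [Subgroup.mem_normalizer_iff]
      have h1 : ∀ h : Y, h ∈ ((S : Subgroup M).map M.subtype : Subgroup Y) →
          z * h * z⁻¹ ∈ ((S : Subgroup M).map M.subtype : Subgroup Y) := by
        rintro h ⟨s, hs, rfl⟩
        refine ⟨a s, hstep s hs, ?_⟩
        simp [a, MulAut.conjNormal_apply]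
      intro h
      refine ⟨h1 h, fun hh => ?_⟩
      have h2 := h1 _ hh
      have h3 : z * (z * h * z⁻¹) * z⁻¹ = h := by
        calc z * (z * h * z⁻¹) * z⁻¹ = (z * z) * h * (z * z)⁻¹ := by group
          _ = h := by rw [hzz]; group
      rwa [h3] at h2
  · have h1 : p ∣ Nat.card (Y ⧸ M) := by
      have h2 := Subgroup.card_eq_card_quotient_mul_card_subgroup M
      rw [h2] at hdvd
      exact ((Nat.Prime.dvd_mul hpp).1 hdvd).resolve_right hpM
    obtain ⟨ybar, hy⟩ := exists_prime_orderOf_dvd_card' p h1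
    obtain ⟨y, rfl⟩ := QuotientGroup.mk_surjective ybar
    have hm0 : y⁻¹ * z * y * z⁻¹ ∈ M := by
      have h2 := M.inv_mem (hc y⁻¹)
      have h3 : (z * y⁻¹ * z⁻¹ * y⁻¹⁻¹)⁻¹ = y⁻¹ * z * y * z⁻¹ := by group
      rwa [h3] at h2
    have hmem : ∀ a : M, y⁻¹ * z * (y * a) * z⁻¹ ∈ M := by
      intro a
      have h2 := M.mul_mem hm0 (hMn.conj_mem a a.2 z)
      have h3 : y⁻¹ * z * y * z⁻¹ * (z * (a : Y) * z⁻¹) = y⁻¹ * z * (y * a) * z⁻¹ := by group
      rwa [h3] at h2
    let f : M → M := fun a => ⟨y⁻¹ * z * (y * a) * z⁻¹, hmem a⟩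
    obtain ⟨a, ha⟩ := exists_fixed_of_odd hM f (by
      intro a
      apply Subtype.ext
      show y⁻¹ * z * (y * (y⁻¹ * z * (y * a) * z⁻¹)) * z⁻¹ = a
      calc y⁻¹ * z * (y * (y⁻¹ * z * (y * a) * z⁻¹)) * z⁻¹ = y⁻¹ * (z * z) * y * a * (z * z)⁻¹ := by group
        _ = a := by rw [hzz]; group)
    have ha' : y⁻¹ * z * (y * a) * z⁻¹ = a := congrArg Subtype.val ha
    set y' : Y := y * a with hy'
    have hcom : z * y' = y' * z := by
      have h2 : z * y' * z⁻¹ = y' := by
        calc z * y' * z⁻¹ = y * (y⁻¹ * z * y' * z⁻¹) := by group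
          _ = y * a := by rw [ha']
      calc z * y' = (z * y' * z⁻¹) * z := by group
        _ = y' * z := by rw [h2]
    have hord : p ∣ orderOf y' := by
      have h2 : ((y' : Y) : Y ⧸ M) = (y : Y ⧸ M) := by
        rw [hy', QuotientGroup.mk_mul, (QuotientGroup.eq_one_iff (a : Y)).2 a.2, mul_one]
      rw [← hy, ← h2]
      exact orderOf_map_dvd (QuotientGroup.mk' M) y'
    have hfin : orderOf y' ≠ 0 := (orderOf_pos y').ne'
    set w : Y := y' ^ (orderOf y' / p) with hw
    have hwo : orderOf w = p := orderOf_pow_orderOf_div hfin hord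
    have hwz : Commute z w := (show Commute z y' from hcom).pow_right _
    refine ⟨Subgroup.zpowers w, ?_, ?_, ?_⟩
    · intro hb
      rw [Subgroup.zpowers_eq_bot] at hb
      rw [hb, orderOf_one] at hwo
      exact hpp.one_lt.ne hwo
    · refine IsPGroup.of_card (n := 1) ?_
      rw [Nat.card_zpowers, hwo, pow_one]
    · rw [Subgroup.mem_normalizer_iff]
      intro h
      have h2 : ∀ h : Y, h ∈ Subgroup.zpowers w → z * h * z⁻¹ = h := by
        rintro h ⟨i, rfl⟩
        have h3 : Commute z (w ^ i) := hwz.zpow_right i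
        show z * (w ^ i) * z⁻¹ = w ^ i
        rw [h3.eq]; group
      constructor
      · intro hh
        rwa [h2 h hh]
      · intro hh
        have h3 := h2 _ hh
        have h4 : z * (z * h * z⁻¹) * z⁻¹ = h := by
          calc z * (z * h * z⁻¹) * z⁻¹ = (z * z) * h * (z * z)⁻¹ := by group
            _ = h := by rw [hzz]; group
        rw [h3] at h4
        rwa [← h4]

/-- A maximal `z`-invariant `p`-subgroup is a Sylow subgroup, for an isolated involution `z`. -/
theorem isSylow_of_max {G : Type*} [Group G] [Finite G] (z : G) (hz : ZStar.Iso z) {p : ℕ} [hpf : Fact p.Prime]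
    (Q : Subgroup G) (hQ : IsPGroup p Q) (hzQ : z ∈ Subgroup.normalizer (Q : Set G))
    (hmax : ∀ R : Subgroup G, IsPGroup p R → z ∈ Subgroup.normalizer (R : Set G) → Q ≤ R → R = Q) :
    ∃ P : Sylow p G, (P : Subgroup G) = Q := by
  have hpp : p.Prime := hpf.out
  obtain ⟨P, hP⟩ := hQ.exists_le_sylow
  by_cases hp : p = 2
  · subst hp
    have hzmem : z ∈ Q := by
      have h2 : IsPGroup 2 (Subgroup.zpowers z) := by
        rw [IsPGroup.iff_card]
        refine ⟨1, ?_⟩
        rw [Nat.card_zpowers, pow_one]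
        have hz2 : z ^ 2 = 1 := by rw [pow_two]; exact hz.1
        exact orderOf_eq_prime hz2 hz.2.1
      have hle : Subgroup.zpowers z ≤ Subgroup.normalizer (Q : Set G) := (Subgroup.zpowers_le).2 hzQ
      have h3 := h2.to_sup_of_normal_right' hQ hle
      have h4 := hmax _ h3 (Subgroup.le_normalizer (Subgroup.mem_sup_left (Subgroup.mem_zpowers z))) le_sup_right
      rw [← h4]
      exact Subgroup.mem_sup_left (Subgroup.mem_zpowers z)
    exact ⟨P, hmax P P.isPGroup' (Subgroup.le_normalizer (hP hzmem)) hP⟩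
  by_cases hPQ : (P : Subgroup G) = Q
  · exact ⟨P, hPQ⟩
  exfalso
  have hlt : Q < P := lt_of_le_of_ne hP (Ne.symm hPQ)
  obtain ⟨y, hyP, hyQ, hyN⟩ := SylowCount.exists_mem_normalizer_of_lt P.isPGroup' hlt
  obtain ⟨N, hNn, hNodd, hNc⟩ := ZStar.zstar z hz
  let X : Subgroup G := Subgroup.normalizer (Q : Set G)
  let Q' : Subgroup X := Q.subgroupOf X
  haveI hQ'n : Q'.Normal := Subgroup.normal_in_normalizer
  let π : X →* X ⧸ Q' := QuotientGroup.mk' Q'
  have hπs : Function.Surjective π := QuotientGroup.mk'_surjective _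
  let M : Subgroup (X ⧸ Q') := (N.subgroupOf X).map π
  haveI hMn : M.Normal := Subgroup.Normal.map (Subgroup.Normal.subgroupOf hNn X) π hπs
  have hMo : Odd (Nat.card M) := by
    have h1 : Nat.card M ∣ Nat.card (N.subgroupOf X) := Subgroup.card_map_dvd _ π
    have h2 : Nat.card (N.subgroupOf X) ∣ Nat.card N := by
      have h3 : Nat.card (N.subgroupOf X) = Nat.card ((N.subgroupOf X).map X.subtype) :=
        (Subgroup.card_map_of_injective X.subtype_injective).symm
      rw [h3]
      refine Subgroup.card_dvd_of_le ?_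
      rintro _ ⟨x, hx, rfl⟩
      exact hx
    exact Odd.of_dvd_nat hNodd (h1.trans h2)
  let zX : X := ⟨z, hzQ⟩
  have hzz : π zX * π zX = 1 := by
    rw [← map_mul]
    have : zX * zX = 1 := Subtype.ext hz.1
    rw [this, map_one]
  have hMc : ∀ y : X ⧸ Q', π zX * y * (π zX)⁻¹ * y⁻¹ ∈ M := by
    intro y
    obtain ⟨x, rfl⟩ := hπs y
    refine ⟨zX * x * zX⁻¹ * x⁻¹, ?_, by simp only [map_mul, map_inv]⟩
    exact hNc x
  have hdvd : p ∣ Nat.card (X ⧸ Q') := by
    let yX : X := ⟨y, hyN⟩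
    have hne : π yX ≠ 1 := by
      intro h
      have h2 : yX ∈ Q' := (QuotientGroup.eq_one_iff yX).1 h
      exact hyQ h2
    obtain ⟨k, hk⟩ := (IsPGroup.iff_orderOf.1 P.isPGroup') ⟨y, hyP⟩
    have hk' : orderOf y = p ^ k := by
      rw [← Subgroup.orderOf_mk y hyP]; exact hk
    have h3 : orderOf (π yX) ∣ p ^ k := by
      rw [← hk', ← Subgroup.orderOf_mk y hyN]
      exact orderOf_map_dvd π yX
    obtain ⟨j, -, hj⟩ := (Nat.dvd_prime_pow hpp).1 h3
    have hj0 : j ≠ 0 := by
      rintro rfl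
      rw [pow_zero, orderOf_eq_one_iff] at hj
      exact hne hj
    have h4 : p ∣ orderOf (π yX) := by
      rw [hj]; exact dvd_pow_self p hj0
    exact h4.trans (orderOf_dvd_natCard _)
  obtain ⟨Rb, hRb, hRp, hRn⟩ := exists_pgroup_norm (π zX) hzz M hMo hMc p hdvd
  -- the preimage
  let R0 : Subgroup X := Rb.comap π
  let R : Subgroup G := R0.map X.subtype
  have hker : IsPGroup p (π.ker) := by
    have : π.ker = Q' := QuotientGroup.ker_mk' Q'
    rw [this]
    have h1 : IsPGroup p (Q'.map X.subtype) := by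
      refine hQ.to_le ?_
      rintro _ ⟨x, hx, rfl⟩
      exact hx
    exact h1.comap_of_injective X.subtype X.subtype_injective |>.to_le (by
      intro x hx
      exact ⟨x, hx, rfl⟩) |> fun h => h
  have hRG : IsPGroup p R := by
    have h1 : IsPGroup p R0 := hRp.comap_of_ker_isPGroup π hker
    exact h1.map _
  have hQR : Q ≤ R := by
    intro q hq
    have hqX : q ∈ X := (Subgroup.le_normalizer) hq
    refine ⟨⟨q, hqX⟩, ?_, rfl⟩
    show π ⟨q, hqX⟩ ∈ Rb
    have : π ⟨q, hqX⟩ = 1 := (QuotientGroup.eq_one_iff _).2 hq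
    rw [this]
    exact Rb.one_mem
  have hzR : z ∈ Subgroup.normalizer (R : Set G) := by
    rw [Subgroup.mem_normalizer_iff] at hRn ⊢
    have hzXi : zX⁻¹ = zX := Subtype.ext (inv_eq_of_mul_eq_one_left hz.1)
    have hstep : ∀ h : G, h ∈ R → z * h * z⁻¹ ∈ R := by
      rintro _ ⟨x, hx, rfl⟩
      refine ⟨zX * x * zX⁻¹, ?_, rfl⟩
      show π (zX * x * zX⁻¹) ∈ Rb
      rw [map_mul, map_mul, map_inv]
      exact (hRn (π x)).1 hx
    intro h
    refine ⟨hstep h, fun hh => ?_⟩
    have h2 := hstep _ hh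
    have h3 : z * (z * h * z⁻¹) * z⁻¹ = h := by
      calc z * (z * h * z⁻¹) * z⁻¹ = (z * z) * h * (z * z)⁻¹ := by group
        _ = h := by rw [hz.1]; group
    rwa [h3] at h2
  have hRQ := hmax R hRG hzR hQR
  -- contradiction: `Rb` is nontrivial
  obtain ⟨⟨r, hr⟩, hr1⟩ := (Subgroup.ne_bot_iff_exists_ne_one.1 hRb)
  obtain ⟨x, rfl⟩ := hπs r
  have hxR : (x : G) ∈ R := ⟨x, hr, rfl⟩
  rw [hRQ] at hxR
  have h1 : π x = 1 := (QuotientGroup.eq_one_iff x).2 hxR
  apply hr1
  exact Subtype.ext h1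

/-- A Sylow subgroup and a subgroup of `p`-power index generate by a product. -/
theorem sylow_mul_of_index {G : Type*} [Group G] [Finite G] {p : ℕ} [hpf : Fact p.Prime] (T : Sylow p G)
    (C : Subgroup G) {k : ℕ} (hC : C.index = p ^ k) (g : G) :
    ∃ t ∈ (T : Subgroup G), ∃ c ∈ C, g = t * c := by
  have hpp : p.Prime := hpf.out
  have h1 : ((T : Subgroup G) ⊓ C).relIndex T * (T : Subgroup G).index = ((T : Subgroup G) ⊓ C).index :=
    Subgroup.relIndex_mul_index inf_le_left
  have h2 : ((T : Subgroup G) ⊓ C).relIndex C * C.index = ((T : Subgroup G) ⊓ C).index :=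
    Subgroup.relIndex_mul_index inf_le_right
  rw [Subgroup.inf_relIndex_left] at h1
  have h3 : p ^ k ∣ C.relIndex T * (T : Subgroup G).index := by
    rw [h1, ← h2, hC]
    exact dvd_mul_left _ _
  have hcop : Nat.Coprime (p ^ k) (T : Subgroup G).index :=
    Nat.Coprime.pow_left _ ((Nat.Prime.coprime_iff_not_dvd hpp).2 T.not_dvd_index)
  have h4 : p ^ k ∣ C.relIndex T := hcop.dvd_of_dvd_mul_right h3
  have h5 : C.relIndex T ≠ 0 := by
    intro h0
    rw [h0, zero_mul] at h1
    exact Subgroup.index_ne_zero_of_finite h1.symm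
  have h6 : C.index ≤ C.relIndex T := by
    rw [hC]
    exact Nat.le_of_dvd (Nat.pos_of_ne_zero h5) h4
  let φ := Subgroup.quotientSubgroupOfEmbeddingOfLE C (le_top : (T : Subgroup G) ≤ ⊤)
  have hbij : Function.Bijective φ := by
    refine φ.injective.bijective_of_nat_card_le ?_
    have e1 : Nat.card ((⊤ : Subgroup G) ⧸ C.subgroupOf ⊤) = C.index := Subgroup.relIndex_top_right C
    have e2 : Nat.card ((T : Subgroup G) ⧸ C.subgroupOf T) = C.relIndex T := rfl
    rw [e1, e2]
    exact h6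
  obtain ⟨tb, htb⟩ := hbij.2 (QuotientGroup.mk (⟨g, trivial⟩ : (⊤ : Subgroup G)))
  obtain ⟨t, rfl⟩ := QuotientGroup.mk_surjective tb
  rw [Subgroup.quotientSubgroupOfEmbeddingOfLE_apply_mk, QuotientGroup.eq] at htb
  refine ⟨t, t.2, (t : G)⁻¹ * g, ?_, by group⟩
  exact htb

end Cfsg.Agent.Lib.ZStarSyl
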