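import Mathlib
import Cfsg.Prelude
import Cfsg.Agent.Lib.ZStarElem
import Cfsg.Agent.Lib.ZStarSyl
import Cfsg.Agent.Lib.SylowCount
import Cfsg.Agent.Lib.SolvCore

/-!
# Strongly closed 2-subgroups and the `Z*`-theorem
-/

set_option autoImplicit false
set_option linter.all false

namespace Cfsg.Agent.Lib.ZStarStrong

open Cfsg Cfsg.Agent.Lib

universe u

variable {G : Type u} [Group G] [Finite G]

theorem exists_conj_sylow (S : Sylow 2 G) (Q : Subgroup G) (hQ : IsPGroup 2 Q) :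
    ∃ x : G, ∀ q ∈ Q, x⁻¹ * q * x ∈ (S : Subgroup G) := by
  obtain ⟨P, hP⟩ := hQ.exists_le_sylow
  obtain ⟨x, hx⟩ := MulAction.exists_smul_eq G S P
  refine ⟨x, fun q hq => ?_⟩
  have h1 : q ∈ (x • S : Sylow 2 G) := by rw [hx]; exact hP hq
  exact (SylowCount.mem_smul_sylow x q S).1 h1

/-- A strongly closed subgroup is strongly closed in every 2-subgroup containing it. -/
theorem strong_of_le {S : Sylow 2 G} {A Q : Subgroup G} (hA : IsStronglyClosed A (S : Subgroup G))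
    (hQ : IsPGroup 2 Q) (hAQ : A ≤ Q) :
    ∀ b ∈ A, ∀ g : G, g * b * g⁻¹ ∈ Q → g * b * g⁻¹ ∈ A := by
  obtain ⟨x, hx⟩ := exists_conj_sylow S Q hQ
  have h1 : ∀ b ∈ A, x⁻¹ * b * x ∈ A := by
    intro b hb
    have h := hA.2 b hb x⁻¹ (by simpa using hx b (hAQ hb))
    simpa using h
  have h2 : ∀ b ∈ A, x * b * x⁻¹ ∈ A := by
    let f : A → A := fun b => ⟨x⁻¹ * b * x, h1 b b.2⟩
    have hf : Function.Injective f := by
      intro c d hcd
      have h3 : x⁻¹ * (c : G) * x = x⁻¹ * (d : G) * x := congrArg Subtype.val hcd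
      exact Subtype.ext (by simpa [mul_assoc] using h3)
    have hs := Finite.surjective_of_injective hf
    intro b hb
    obtain ⟨c, hc⟩ := hs ⟨b, hb⟩
    have h3 : x⁻¹ * (c : G) * x = b := congrArg Subtype.val hc
    have h4 : (c : G) = x * b * x⁻¹ := by rw [← h3]; group
    rw [← h4]
    exact c.2
  intro b hb g hg
  have h3 := hA.2 b hb (x⁻¹ * g) (by
    have h4 := hx _ hg
    have e : x⁻¹ * g * b * (x⁻¹ * g)⁻¹ = x⁻¹ * (g * b * g⁻¹) * x := by group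
    rwa [e])
  have h4 := h2 _ h3
  have e : x * (x⁻¹ * g * b * (x⁻¹ * g)⁻¹) * x⁻¹ = g * b * g⁻¹ := by group
  rwa [e] at h4

theorem pow_two_pow_of_mem_sylow (S : Sylow 2 G) {b : G} (hb : b ∈ (S : Subgroup G)) :
    ∃ k : ℕ, b ^ (2 ^ k) = 1 := by
  obtain ⟨k, hk⟩ := S.isPGroup' ⟨b, hb⟩
  exact ⟨k, congrArg Subtype.val hk⟩

theorem conj_mem_eq_one {S : Sylow 2 G} {A H : Subgroup G} (hA : IsStronglyClosed A (S : Subgroup G))
    (hAH : A ≤ Subgroup.normalizer (H : Set G)) (hdisj : A ⊓ H = ⊥) (b : G) (hb : b ∈ A) (y : G)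
    (hc : y * b * y⁻¹ ∈ H) : y * b * y⁻¹ = 1 := by
  let L : Subgroup G := H ⊔ A
  have hLN : L ≤ Subgroup.normalizer (H : Set G) := sup_le Subgroup.le_normalizer hAH
  have hAp : IsPGroup 2 A := S.isPGroup'.to_le hA.1
  have hA' : IsPGroup 2 (A.subgroupOf L) := hAp.comap_of_injective L.subtype L.subtype_injective |>.to_le (by
    intro x hx
    exact hx)
  obtain ⟨Q₀, hQ₀⟩ := hA'.exists_le_sylow
  let Q : Subgroup G := (Q₀ : Subgroup L).map L.subtype
  have hQp : IsPGroup 2 Q := Q₀.isPGroup'.map _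
  have hAQ : A ≤ Q := by
    intro x hx
    have hxL : x ∈ L := (le_sup_right : A ≤ L) hx
    exact ⟨⟨x, hxL⟩, hQ₀ hx, rfl⟩
  obtain ⟨k, hk⟩ := pow_two_pow_of_mem_sylow S (hA.1 hb)
  have hcL : y * b * y⁻¹ ∈ L := (le_sup_left : H ≤ L) hc
  have hw : (⟨y * b * y⁻¹, hcL⟩ : L) ^ (2 ^ k) = 1 := by
    apply Subtype.ext
    show (y * b * y⁻¹) ^ (2 ^ k) = 1
    rw [conj_pow, hk]
    group
  obtain ⟨c, -, hc₀⟩ := ZStarElem.exists_conj_mem_of_le (⊤ : Subgroup L) Q₀ le_top (Subgroup.mem_top _) k hw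
  have hcQ : (c : G)⁻¹ * (y * b * y⁻¹) * c ∈ Q := ⟨_, hc₀, rfl⟩
  have e : (c : G)⁻¹ * (y * b * y⁻¹) * c = ((c : G)⁻¹ * y) * b * ((c : G)⁻¹ * y)⁻¹ := by group
  have h1 : (c : G)⁻¹ * (y * b * y⁻¹) * c ∈ A := by
    rw [e] at hcQ ⊢
    exact strong_of_le hA hQp hAQ b hb _ hcQ
  have h2 : (c : G)⁻¹ * (y * b * y⁻¹) * c ∈ H := by
    have h3 := (Subgroup.mem_normalizer_iff.1 (hLN (L.inv_mem c.2)) (y * b * y⁻¹)).1 hc
    simpa using h3
  have h3 : (c : G)⁻¹ * (y * b * y⁻¹) * c ∈ A ⊓ H := ⟨h1, h2⟩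
  rw [hdisj, Subgroup.mem_bot] at h3
  have h4 : y * b * y⁻¹ = (c : G) * ((c : G)⁻¹ * (y * b * y⁻¹) * c) * (c : G)⁻¹ := by group
  rw [h4, h3]
  group

/-- Goldschmidt's lemma, without the assumption on the core. -/
theorem comm_mem_core {S : Sylow 2 G} {A H : Subgroup G} (hA : IsStronglyClosed A (S : Subgroup G))
    (hAH : A ≤ Subgroup.normalizer (H : Set G)) (hdisj : A ⊓ H = ⊥) (a : G) (ha : a ∈ A)
    (h : H) : ((h : G) * a * (h : G)⁻¹ * a⁻¹) ∈ (oddCore H).map H.subtype := by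
  let K : Subgroup G := H ⊔ Subgroup.zpowers a
  have haN : a ∈ Subgroup.normalizer (H : Set G) := hAH ha
  have hKN : K ≤ Subgroup.normalizer (H : Set G) :=
    sup_le Subgroup.le_normalizer ((Subgroup.zpowers_le).2 haN)
  have haK : a ∈ K := (le_sup_right : Subgroup.zpowers a ≤ K) (Subgroup.mem_zpowers a)
  have hcomm : ∀ g ∈ K, g * a * g⁻¹ * a⁻¹ ∈ H := by
    let T : Subgroup G :=
      { carrier := {g | g ∈ Subgroup.normalizer (H : Set G) ∧ g * a * g⁻¹ * a⁻¹ ∈ H}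
        one_mem' := ⟨Subgroup.one_mem _, by simp [H.one_mem]⟩
        mul_mem' := by
          rintro g₁ g₂ ⟨h1, h2⟩ ⟨h3, h4⟩
          refine ⟨Subgroup.mul_mem _ h1 h3, ?_⟩
          have h5 := H.mul_mem ((Subgroup.mem_normalizer_iff.1 h1 _).1 h4) h2
          have e : g₁ * (g₂ * a * g₂⁻¹ * a⁻¹) * g₁⁻¹ * (g₁ * a * g₁⁻¹ * a⁻¹) = g₁ * g₂ * a * (g₁ * g₂)⁻¹ * a⁻¹ := by
            group
          rwa [e] at h5
        inv_mem' := by
          rintro g ⟨h1, h2⟩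
          refine ⟨Subgroup.inv_mem _ h1, ?_⟩
          have h3 := (Subgroup.mem_normalizer_iff.1 (Subgroup.inv_mem _ h1) _).1 (H.inv_mem h2)
          have e : g⁻¹ * (g * a * g⁻¹ * a⁻¹)⁻¹ * g⁻¹⁻¹ = g⁻¹ * a * g⁻¹⁻¹ * a⁻¹ := by group
          rwa [e] at h3 }
    have hKT : K ≤ T := by
      refine sup_le ?_ ?_
      · intro h hh
        refine ⟨Subgroup.le_normalizer hh, ?_⟩
        have h1 := (Subgroup.mem_normalizer_iff.1 haN h⁻¹).1 (H.inv_mem hh)
        exact H.mul_mem hh h1 |> fun h2 => by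
          have e : h * (a * h⁻¹ * a⁻¹) = h * a * h⁻¹ * a⁻¹ := by group
          rwa [e] at h2
      · rw [Subgroup.zpowers_le]
        refine ⟨haN, ?_⟩
        simp [H.one_mem]
    intro g hg
    exact (hKT hg).2
  let x : K := ⟨a, haK⟩
  have hxp : IsPGroup 2 (Subgroup.zpowers x) := by
    obtain ⟨k, hk⟩ := pow_two_pow_of_mem_sylow S (hA.1 ha)
    rintro ⟨_, i, rfl⟩
    refine ⟨k, ?_⟩
    apply Subtype.ext
    show (x ^ i) ^ (2 ^ k) = 1
    have hx : x ^ (2 ^ k) = 1 := Subtype.ext hk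
    rw [← zpow_natCast, ← zpow_mul, mul_comm, zpow_mul, zpow_natCast, hx, one_zpow]
  obtain ⟨P₁, hP₁⟩ := hxp.exists_le_sylow
  have hxP : x ∈ (P₁ : Subgroup K) := hP₁ (Subgroup.mem_zpowers x)
  have hiso : ∀ g : K, g * x * g⁻¹ ∈ (P₁ : Subgroup K) → g * x * g⁻¹ = x := by
    intro g hg
    have hQ : IsPGroup 2 ((P₁ : Subgroup K).map K.subtype) := P₁.isPGroup'.map _
    obtain ⟨y, hy⟩ := exists_conj_sylow S _ hQ
    have h1 : y⁻¹ * a * y ∈ (S : Subgroup G) := hy _ ⟨x, hxP, rfl⟩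
    have h2 : y⁻¹ * ((g : G) * a * (g : G)⁻¹) * y ∈ (S : Subgroup G) := hy _ ⟨_, hg, rfl⟩
    have h3 : y⁻¹ * a * y ∈ A := by
      have h4 := hA.2 a ha y⁻¹ (by simpa using h1)
      simpa using h4
    have h4 : y⁻¹ * ((g : G) * a * (g : G)⁻¹) * y ∈ A := by
      have e : (y⁻¹ * (g : G)) * a * (y⁻¹ * (g : G))⁻¹ = y⁻¹ * ((g : G) * a * (g : G)⁻¹) * y := by group
      have h5 := hA.2 a ha (y⁻¹ * (g : G)) (by rwa [e])
      rwa [e] at h5
    have h5 := A.mul_mem h4 (A.inv_mem h3)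
    have e : y * ((y⁻¹ * ((g : G) * a * (g : G)⁻¹) * y) * (y⁻¹ * a * y)⁻¹) * y⁻¹ = (g : G) * a * (g : G)⁻¹ * a⁻¹ := by
      group
    have h6 := conj_mem_eq_one hA hAH hdisj _ h5 y (by rw [e]; exact hcomm g g.2)
    rw [e] at h6
    apply Subtype.ext
    show (g : G) * a * (g : G)⁻¹ = a
    exact mul_inv_eq_one.1 h6
  obtain ⟨N, hNn, hNo, hNc⟩ := ZStarElem.zstar_elem P₁ x hxP hiso
  let hK : K := ⟨h, (le_sup_left : H ≤ K) h.2⟩
  have h1 := hNc hK
  have h2 : ((h : G) * a * (h : G)⁻¹ * a⁻¹) ∈ H := hcomm _ hK.2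
  let W : Subgroup H := (N.map K.subtype).subgroupOf H
  have hWn : W.Normal := by
    refine ⟨fun n hn g => ?_⟩
    obtain ⟨m, hm, hmn⟩ := hn
    let gK : K := ⟨g, (le_sup_left : H ≤ K) g.2⟩
    refine ⟨gK * m * gK⁻¹, hNn.conj_mem m hm gK, ?_⟩
    show (g : G) * (m : G) * (g : G)⁻¹ = (g : G) * (n : G) * (g : G)⁻¹
    have : (m : G) = (n : G) := hmn
    rw [this]
  have hWo : Odd (Nat.card W) := by
    have e1 : Nat.card W = Nat.card (W.map H.subtype) := (Subgroup.card_map_of_injective H.subtype_injective).symm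
    have e2 : Nat.card (W.map H.subtype) ∣ Nat.card (N.map K.subtype) := by
      refine Subgroup.card_dvd_of_le ?_
      rintro _ ⟨n, hn, rfl⟩
      exact hn
    have e3 : Nat.card (N.map K.subtype) = Nat.card N := Subgroup.card_map_of_injective K.subtype_injective
    rw [e1]
    exact Odd.of_dvd_nat hNo (e3 ▸ e2)
  have hWle : W ≤ oddCore H := by
    show W ≤ pPrimeCore 2 H
    unfold pPrimeCore
    refine le_sSup ⟨hWn, ?_⟩
    exact Nat.Coprime.symm ((Nat.coprime_two_left).2 hWo)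
  refine ⟨⟨_, h2⟩, hWle ?_, rfl⟩
  exact ⟨_, h1, rfl⟩

/-- Glauberman's lemma for `Iso z`: two `z`-invariant Sylow subgroups are conjugate by `C(z)`. -/
theorem exists_centralizing_conj (z : G) (hz : ZStar.Iso z) {p : ℕ} [Fact p.Prime] (P T : Sylow p G)
    (hzP : z ∈ Subgroup.normalizer ((P : Subgroup G) : Set G))
    (hzT : z ∈ Subgroup.normalizer ((T : Subgroup G) : Set G)) :
    ∃ c : G, c * z = z * c ∧ c • P = T := by
  obtain ⟨g, hg⟩ := MulAction.exists_smul_eq G P T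
  have hzi : z⁻¹ = z := inv_eq_of_mul_eq_one_left hz.1
  -- `g⁻¹ z g` normalizes `P`
  have hz' : g⁻¹ * z * g ∈ Subgroup.normalizer ((P : Subgroup G) : Set G) := by
    rw [Subgroup.mem_normalizer_iff]
    intro x
    have h1 : ∀ y : G, y ∈ (P : Subgroup G) ↔ g * y * g⁻¹ ∈ (T : Subgroup G) := by
      intro y
      rw [← hg]
      have h := SylowCount.mem_smul_sylow g (g * y * g⁻¹) P
      have e : g⁻¹ * (g * y * g⁻¹) * g = y := by group
      rw [e] at h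
      exact h.symm
    rw [h1 x, h1 (g⁻¹ * z * g * x * (g⁻¹ * z * g)⁻¹), Subgroup.mem_normalizer_iff.1 hzT (g * x * g⁻¹)]
    have e : g * (g⁻¹ * z * g * x * (g⁻¹ * z * g)⁻¹) * g⁻¹ = z * (g * x * g⁻¹) * z⁻¹ := by group
    rw [e]
  set z' : G := g⁻¹ * z * g with hz'def
  have hz'2 : z' * z' = 1 := by
    calc z' * z' = g⁻¹ * (z * z) * g := by rw [hz'def]; group
      _ = 1 := by rw [hz.1]; group
  set r : G := z * z' with hr
  have hrN : r ∈ Subgroup.normalizer ((P : Subgroup G) : Set G) := Subgroup.mul_mem _ hzP hz'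
  have hzr : z * r * z = r⁻¹ := by
    have e1 : r⁻¹ = z' * z := by
      rw [hr, mul_inv_rev, inv_eq_of_mul_eq_one_left hz'2, hzi]
    rw [e1, hr]
    calc z * (z * z') * z = (z * z) * z' * z := by group
      _ = z' * z := by rw [hz.1, one_mul]
  have hodd : Odd (orderOf r) := by
    have h1 := hz.2.2 g⁻¹
    have e : z * (g⁻¹ * z * g⁻¹⁻¹) = r := by rw [hr, hz'def, inv_inv]
    rwa [e] at h1
  obtain ⟨l, hl⟩ := hodd
  have hrl : r ^ (2 * l + 1) = 1 := by rw [← hl]; exact pow_orderOf_eq_one r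
  have h2 := ZStar.dih_conj hz.1 hzr hrl
  have e2 : r⁻¹ * z = z' := by
    rw [hr, mul_inv_rev, hzi, inv_eq_of_mul_eq_one_left hz'2]
    calc z' * z * z = z' * (z * z) := by group
      _ = z' := by rw [hz.1, mul_one]
  rw [e2] at h2
  have hN : r ^ l ∈ Subgroup.normalizer ((P : Subgroup G) : Set G) := Subgroup.pow_mem _ hrN l
  refine ⟨g * r ^ l, ?_, ?_⟩
  · have h3 : (g * r ^ l) * z * (g * r ^ l)⁻¹ = z := by
      calc (g * r ^ l) * z * (g * r ^ l)⁻¹ = g * (r ^ l * z * (r ^ l)⁻¹) * g⁻¹ := by group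
        _ = g * z' * g⁻¹ := by rw [h2]
        _ = z := by rw [hz'def]; group
    calc g * r ^ l * z = ((g * r ^ l) * z * (g * r ^ l)⁻¹) * (g * r ^ l) := by group
      _ = z * (g * r ^ l) := by rw [h3]
  · -- `r ^ l` normalizes `P`
    have h4 : r ^ l • P = P := by
      apply Sylow.ext
      ext x
      have h := SylowCount.mem_smul_sylow (r ^ l) x P
      have h5 := Subgroup.mem_normalizer_iff.1 (Subgroup.inv_mem _ hN) x
      rw [inv_inv] at h5
      exact h.trans h5.symm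
    rw [mul_smul, h4, hg]

/-- Counting elements inverted by an involution in a subgroup of odd order. -/
theorem card_inverted (z : G) (hzz : z * z = 1) (P : Subgroup G)
    (hzP : z ∈ Subgroup.normalizer (P : Set G)) (hodd : ∀ x ∈ P, Odd (orderOf x)) :
    (P ⊓ Subgroup.centralizer ({z} : Set G)).relIndex P = Nat.card {x : G // x ∈ P ∧ z * x * z⁻¹ = x⁻¹} := by
  have hzi : z⁻¹ = z := inv_eq_of_mul_eq_one_left hzz
  have hσ : ∀ x ∈ P, z * x * z⁻¹ ∈ P := fun x hx => (Subgroup.mem_normalizer_iff.1 hzP x).1 hx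
  let K : Subgroup P := (P ⊓ Subgroup.centralizer ({z} : Set G)).subgroupOf P
  have hinv : ∀ a : G, z * (a * (z * a * z⁻¹)⁻¹) * z⁻¹ = (a * (z * a * z⁻¹)⁻¹)⁻¹ := by
    intro a
    rw [hzi]
    have e1 : (z * a * z)⁻¹ = z * a⁻¹ * z := by
      simp only [mul_inv_rev, hzi, mul_assoc]
    rw [e1]
    have e2 : (a * (z * a⁻¹ * z))⁻¹ = z * a * z * a⁻¹ := by
      simp only [mul_inv_rev, hzi, inv_inv, mul_assoc]
    rw [e2]
    calc z * (a * (z * a⁻¹ * z)) * z = z * a * z * a⁻¹ * (z * z) := by group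
      _ = z * a * z * a⁻¹ := by rw [hzz, mul_one]
  let φ : P → {x : G // x ∈ P ∧ z * x * z⁻¹ = x⁻¹} := fun a =>
    ⟨(a : G) * (z * (a : G) * z⁻¹)⁻¹, P.mul_mem a.2 (P.inv_mem (hσ _ a.2)), hinv _⟩
  have hφ : ∀ a b : P, φ a = φ b ↔ a⁻¹ * b ∈ K := by
    intro a b
    have e : φ a = φ b ↔ (a : G) * (z * (a : G) * z⁻¹)⁻¹ = (b : G) * (z * (b : G) * z⁻¹)⁻¹ := Subtype.ext_iff
    rw [e]
    show _ ↔ ((a : G)⁻¹ * (b : G)) ∈ P ⊓ Subgroup.centralizer ({z} : Set G)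
    rw [Subgroup.mem_inf, Subgroup.mem_centralizer_singleton_iff]
    have hP : (a : G)⁻¹ * (b : G) ∈ P := P.mul_mem (P.inv_mem a.2) b.2
    constructor
    · intro h
      refine ⟨hP, ?_⟩
      have h1 : (a : G)⁻¹ * (b : G) = (z * (a : G) * z⁻¹)⁻¹ * (z * (b : G) * z⁻¹) := by
        have h2 : (b : G) * (z * (b : G) * z⁻¹)⁻¹ * (z * (b : G) * z⁻¹) = b := by group
        rw [← h] at h2
        calc (a : G)⁻¹ * (b : G) = (a : G)⁻¹ * ((a : G) * (z * (a : G) * z⁻¹)⁻¹ * (z * (b : G) * z⁻¹)) := by rw [h2]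
          _ = _ := by group
      have h3 : (z * (a : G) * z⁻¹)⁻¹ * (z * (b : G) * z⁻¹) = z * ((a : G)⁻¹ * (b : G)) * z⁻¹ := by group
      rw [h3] at h1
      calc (a : G)⁻¹ * (b : G) * z = (z * ((a : G)⁻¹ * (b : G)) * z⁻¹) * z := by rw [← h1]
        _ = z * ((a : G)⁻¹ * (b : G)) := by group
    · rintro ⟨-, h⟩
      have h1 : z * ((a : G)⁻¹ * (b : G)) * z⁻¹ = (a : G)⁻¹ * (b : G) := by rw [← h]; group
      have h2 : (z * (a : G) * z⁻¹)⁻¹ * (z * (b : G) * z⁻¹) = (a : G)⁻¹ * (b : G) := by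
        rw [← h1]; group
      have h3 : (z * (b : G) * z⁻¹) = (z * (a : G) * z⁻¹) * ((a : G)⁻¹ * (b : G)) := by
        rw [← h2]; group
      rw [h3]
      group
  let f : P ⧸ K → {x : G // x ∈ P ∧ z * x * z⁻¹ = x⁻¹} :=
    Quotient.lift φ (by
      intro a b hab
      exact (hφ a b).2 (QuotientGroup.leftRel_apply.1 hab))
  have hinj : Function.Injective f := by
    intro a b
    induction a using QuotientGroup.induction_on with
    | H a =>
    induction b using QuotientGroup.induction_on with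
    | H b =>
    intro h
    exact QuotientGroup.eq.2 ((hφ a b).1 h)
  have hsurj : Function.Surjective f := by
    rintro ⟨x, hxP, hxi⟩
    obtain ⟨l, hl⟩ := hodd x hxP
    have hxl : x ^ (2 * l + 1) = 1 := by rw [← hl]; exact pow_orderOf_eq_one x
    have hxz : z * x * z = x⁻¹ := by rwa [hzi] at hxi
    let a : P := ⟨x ^ (l + 1), P.pow_mem hxP _⟩
    refine ⟨(a : P ⧸ K), ?_⟩
    apply Subtype.ext
    show x ^ (l + 1) * (z * x ^ (l + 1) * z⁻¹)⁻¹ = x
    have h1 := ZStar.dih_pow hzz hxz (l + 1)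
    rw [hzi, h1, inv_inv, ← pow_add]
    have e : l + 1 + (l + 1) = (2 * l + 1) + 1 := by ring
    rw [e, pow_succ, hxl, one_mul]
  exact Nat.card_eq_of_bijective f ⟨hinj, hsurj⟩

end Cfsg.Agent.Lib.ZStarStrong
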