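import Cfsg.Agent.S0035
import Cfsg.Prelude.Def_LieExceptional

/-! Zassenhaus groups: Frobenius kernels of point stabilisers, normal subgroups. -/

set_option autoImplicit false
set_option linter.unusedSectionVars false

namespace Cfsg.Agent.Lib.Zass

open Cfsg MulAction
open scoped Pointwise

/-- A transitive action in which non-identity elements fix at most one point: the Frobenius kernel. -/
theorem frob_action {L Ω : Type*} [Group L] [Finite L] [MulAction L Ω] (Y : Set Ω) (y : Ω) (hy : y ∈ Y)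
    (hinv : ∀ g : L, ∀ z ∈ Y, g • z ∈ Y) (htrans : ∀ z ∈ Y, ∃ g : L, g • y = z) (hne : ∃ z ∈ Y, z ≠ y)
    (hfix : ∃ g : L, g ≠ 1 ∧ g • y = y)
    (hfree : ∀ g : L, ∀ z ∈ Y, ∀ w ∈ Y, z ≠ w → g • z = z → g • w = w → g = 1) :
    ∃ K : Subgroup L, (∀ x, x ∈ K ↔ x = 1 ∨ ∀ z ∈ Y, x • z ≠ z) ∧ K.Normal ∧ ∀ z ∈ Y, ∃ k ∈ K, k • y = z := by
  classical
  let H : Subgroup L := stabilizer L y
  have hconj : ∀ (x g : L), x ∈ MulAut.conj g • H ↔ x • (g • y) = g • y := by
    intro x g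
    rw [Subgroup.mem_pointwise_smul_iff_inv_smul_mem]
    have : (MulAut.conj g)⁻¹ • x = g⁻¹ * x * g := by
      simp [MulAut.smul_def, MulAut.conj_inv_apply]
    rw [this, mem_stabilizer_iff, mul_smul, mul_smul, inv_smul_eq_iff]
  have hH : IsFrobeniusComplement H := by
    refine ⟨?_, ?_, ?_⟩
    · intro h
      obtain ⟨g, hg, hgy⟩ := hfix
      have : g ∈ H := hgy
      rw [h] at this
      exact hg (Subgroup.mem_bot.1 this)
    · intro h
      obtain ⟨z, hz, hzy⟩ := hne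
      obtain ⟨g, hg⟩ := htrans z hz
      have : g ∈ H := by rw [h]; trivial
      have h2 : g • y = y := this
      exact hzy (hg ▸ h2)
    · intro g hg
      rw [Subgroup.eq_bot_iff_forall]
      rintro x ⟨hx1, hx2⟩
      have h1 : x • y = y := hx1
      have h2 := (hconj x g).1 hx2
      refine hfree x y hy (g • y) (hinv g y hy) ?_ h1 h2
      intro h
      exact hg h.symm
  obtain ⟨K, hK, hKn, hc⟩ := Cfsg.Agent.S0035.result H hH
  refine ⟨K, ?_, hKn, ?_⟩
  · intro x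
    have hx : x ∈ K ↔ x ∈ frobeniusKernel H := by rw [← hK]; rfl
    rw [hx]
    constructor
    · rintro (h | h)
      · exact Or.inl h
      · right
        intro z hz hxz
        obtain ⟨g, rfl⟩ := htrans z hz
        exact h g ((hconj x g).2 hxz)
    · rintro (h | h)
      · exact Or.inl h
      · right
        intro g hg
        exact h (g • y) (hinv g y hy) ((hconj x g).1 hg)
  · intro z hz
    obtain ⟨g, rfl⟩ := htrans z hz
    obtain ⟨⟨k, h⟩, hkh⟩ := hc.2 g
    refine ⟨k, k.2, ?_⟩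
    have h1 : (k : L) * (h : L) = g := hkh
    rw [← h1, mul_smul]
    have h2 : (h : L) • y = y := h.2
    rw [h2]

variable {G Ω : Type*} [Group G] [MulAction G Ω]

/-- Data of a Zassenhaus group -/
structure ZData (G Ω : Type*) [Group G] [MulAction G Ω] : Prop where
  faithful : FaithfulSMul G Ω
  two : ∀ {a b c d : Ω}, a ≠ b → c ≠ d → ∃ g : G, g • a = c ∧ g • b = d
  three : ∀ g : G, ∀ a b c : Ω, a ≠ b → b ≠ c → a ≠ c → g • a = a → g • b = b → g • c = c → g = 1
  fix2 : ∃ g : G, g ≠ 1 ∧ ∃ a b : Ω, a ≠ b ∧ g • a = a ∧ g • b = b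

theorem zdata_of (hZ : IsZassenhausGroup G Ω) : ZData G Ω := by
  obtain ⟨h1, h2, h3, h4, -⟩ := hZ
  exact ⟨h1, fun h h' ↦ (is_two_pretransitive_iff.1 h2) h h', h3, h4⟩

namespace ZData

variable (hZ : ZData G Ω)
include hZ

theorem fix_of_ne {a b : Ω} (hab : a ≠ b) : ∃ g : G, g ≠ 1 ∧ g • a = a ∧ g • b = b := by
  obtain ⟨g, hg, c, d, hcd, hgc, hgd⟩ := hZ.fix2
  obtain ⟨k, hk1, hk2⟩ := hZ.two hcd hab
  refine ⟨k * g * k⁻¹, ?_, ?_, ?_⟩
  · intro h
    apply hg
    have : g = k⁻¹ * (k * g * k⁻¹) * k := by group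
    rw [this, h]; simp
  · rw [← hk1]; simp [mul_smul, hgc]
  · rw [← hk2]; simp [mul_smul, hgd]

theorem exists_third {a b : Ω} (hab : a ≠ b) : ∃ c : Ω, c ≠ a ∧ c ≠ b := by
  by_contra h
  push Not at h
  obtain ⟨g, hg, h1, h2⟩ := hZ.fix_of_ne hab
  apply hg
  have := hZ.faithful
  apply FaithfulSMul.eq_of_smul_eq_smul (α := Ω)
  intro c
  rw [one_smul]
  by_cases hc : c = a
  · rw [hc, h1]
  · rw [h c hc, h2]

/-- The point stabiliser has a Frobenius kernel. -/
theorem exists_kernel [Finite G] (a : Ω) {b : Ω} (hab : b ≠ a) :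
    ∃ F : Subgroup G, (∀ x, x ∈ F ↔ x • a = a ∧ (x = 1 ∨ ∀ c, c ≠ a → x • c ≠ c)) ∧
      ∀ c, c ≠ a → ∃ f ∈ F, f • b = c := by
  obtain ⟨c₀, hc₀a, hc₀b⟩ := hZ.exists_third hab.symm
  obtain ⟨K, hK, -, hKt⟩ := frob_action (L := stabilizer G a) {c : Ω | c ≠ a} b hab
    (by
      intro g z hz h
      apply hz
      have hg : (g : G) • a = a := g.2
      have h1 : (g : G) • z = a := h
      exact smul_left_cancel _ (h1.trans hg.symm))
    (by
      intro z hz
      obtain ⟨g, hg1, hg2⟩ := hZ.two (a := a) (b := b) (c := a) (d := z) hab.symm (Ne.symm hz)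
      exact ⟨⟨g, hg1⟩, hg2⟩)
    ⟨c₀, hc₀a, hc₀b⟩
    (by
      obtain ⟨g, hg, h1, h2⟩ := hZ.fix_of_ne hab.symm
      exact ⟨⟨g, h1⟩, fun h ↦ hg (congrArg Subtype.val h), h2⟩)
    (by
      intro g z hz w hw hzw h1 h2
      apply Subtype.ext
      exact hZ.three g a z w (Ne.symm hz) hzw (Ne.symm hw) g.2 h1 h2)
  refine ⟨K.map (stabilizer G a).subtype, ?_, ?_⟩
  · intro x
    constructor
    · rintro ⟨k, hk, rfl⟩
      refine ⟨k.2, ?_⟩
      rcases (hK k).1 hk with h | h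
      · left; rw [h]; rfl
      · right
        exact h
    · rintro ⟨h1, h2⟩
      refine ⟨⟨x, h1⟩, (hK _).2 ?_, rfl⟩
      rcases h2 with h | h
      · exact Or.inl (Subtype.ext h)
      · exact Or.inr h
  · intro c hc
    obtain ⟨k, hk, hkc⟩ := hKt c hc
    exact ⟨k, ⟨k, hk, rfl⟩, hkc⟩

/-- A normal subgroup moves any point to any other. -/
theorem normal_transitive {N : Subgroup G} (hNn : N.Normal) (hN : N ≠ ⊥) (a b : Ω) : ∃ x ∈ N, x • a = b := by
  by_cases hab : a = b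
  · exact ⟨1, one_mem _, by simp [hab]⟩
  obtain ⟨x, hx1⟩ := (Subgroup.ne_bot_iff_exists_ne_one.1 hN)
  have hf := hZ.faithful
  obtain ⟨c, hc⟩ : ∃ c : Ω, (x : G) • c ≠ c := by
    by_contra h
    push Not at h
    apply hx1
    apply Subtype.ext
    apply FaithfulSMul.eq_of_smul_eq_smul (α := Ω)
    intro c
    simp [h c]
  obtain ⟨g, h1, h2⟩ := hZ.two (a := c) (b := (x : G) • c) (c := a) (d := b) (Ne.symm hc) hab
  refine ⟨g * x * g⁻¹, hNn.conj_mem _ x.2 _, ?_⟩
  rw [← h1]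
  simp [mul_smul, ← h2]

/-- Nonidentity elements of `N` fixing two points give all of a Frobenius kernel. -/
theorem kernel_le [Finite G] {N : Subgroup G} (hNn : N.Normal)
    (hfix : ∀ a b : Ω, a ≠ b → ∃ h ∈ N, h ≠ 1 ∧ h • a = a ∧ h • b = b)
    {a b : Ω} (hab : b ≠ a) {x : G} (hxa : x • a = a) (hx : x = 1 ∨ ∀ c, c ≠ a → x • c ≠ c) : x ∈ N := by
  classical
  obtain ⟨F, hF, hFt⟩ := hZ.exists_kernel a hab
  obtain ⟨h, hhN, hh1, hha, hhb⟩ := hfix a b hab.symm
  have hxF : x ∈ F := (hF x).2 ⟨hxa, hx⟩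
  have hFa : ∀ f ∈ F, f • a = a := fun f hf ↦ ((hF f).1 hf).1
  -- conjugation by `h` preserves `F`
  have hconj : ∀ f ∈ F, h * f * h⁻¹ ∈ F := by
    intro f hf
    obtain ⟨h1, h2⟩ := (hF f).1 hf
    refine (hF _).2 ⟨?_, ?_⟩
    · have : h⁻¹ • a = a := by rw [inv_smul_eq_iff, hha]
      simp only [mul_smul, this, h1, hha]
    · rcases h2 with h2 | h2
      · left; simp [h2]
      · right
        intro c hc hcc
        apply h2 (h⁻¹ • c)
        · intro h3
          apply hc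
          rw [inv_smul_eq_iff, hha] at h3
          exact h3
        · have : (h * f * h⁻¹) • c = c := hcc
          simp only [mul_smul] at this
          rw [eq_inv_smul_iff]
          exact this
  let φ : F → F := fun f ↦ ⟨f * (h * (f : G)⁻¹ * h⁻¹), F.mul_mem f.2 (hconj _ (F.inv_mem f.2))⟩
  have hφ : Function.Injective φ := by
    intro f₁ f₂ h12
    have h3 : (f₁ : G) * (h * (f₁ : G)⁻¹ * h⁻¹) = f₂ * (h * (f₂ : G)⁻¹ * h⁻¹) := congrArg Subtype.val h12
    set y : G := (f₂ : G)⁻¹ * f₁ with hy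
    have hyF : y ∈ F := F.mul_mem (F.inv_mem f₂.2) f₁.2
    have hcomm : h * y = y * h := by
      have h4 : y * h * (f₁ : G)⁻¹ = h * (f₂ : G)⁻¹ := by
        have : (f₂ : G)⁻¹ * ((f₁ : G) * (h * (f₁ : G)⁻¹ * h⁻¹)) * h = h * (f₂ : G)⁻¹ := by
          rw [h3]; group
        rw [← this, hy]; group
      have h5 : y * h = h * (f₂ : G)⁻¹ * f₁ := by
        rw [← h4]; group
      rw [h5, hy]; group
    by_contra hne
    have hy1 : y ≠ 1 := by
      intro h6
      apply hne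
      apply Subtype.ext
      have : (f₂ : G)⁻¹ * f₁ = 1 := h6
      exact (inv_mul_eq_one.1 this).symm
    have hyb : y • b ≠ b := by
      rcases ((hF y).1 hyF).2 with h7 | h7
      · exact absurd h7 hy1
      · exact h7 b hab
    have hfix3 : h • (y • b) = y • b := by
      rw [← mul_smul, hcomm, mul_smul, hhb]
    have hya : y • b ≠ a := by
      intro h8
      have : y • b = y • a := by rw [h8, hFa y hyF]
      exact hab (smul_left_cancel _ this)
    exact hh1 (hZ.three h a b (y • b) hab.symm (Ne.symm hyb) (Ne.symm hya) hha hhb hfix3)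
  have hφs : Function.Surjective φ := Finite.surjective_of_injective hφ
  obtain ⟨f, hf⟩ := hφs ⟨x, hxF⟩
  have : x = f * (h * (f : G)⁻¹ * h⁻¹) := (congrArg Subtype.val hf).symm
  rw [this, ← mul_assoc, ← mul_assoc]
  exact N.mul_mem (hNn.conj_mem h hhN f) (N.inv_mem hhN)

/-- `N` contains nonidentity two-point stabilisers at all pairs, if it has a nonidentity one somewhere. -/
theorem fix_all {N : Subgroup G} (hNn : N.Normal) (h0 : ∃ h ∈ N, h ≠ 1 ∧ ∃ c d : Ω, c ≠ d ∧ h • c = c ∧ h • d = d)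
    (a b : Ω) (hab : a ≠ b) : ∃ h ∈ N, h ≠ 1 ∧ h • a = a ∧ h • b = b := by
  obtain ⟨h, hhN, hh1, c, d, hcd, hc, hd⟩ := h0
  obtain ⟨k, hk1, hk2⟩ := hZ.two hcd hab
  refine ⟨k * h * k⁻¹, hNn.conj_mem _ hhN _, ?_, ?_, ?_⟩
  · intro h3
    apply hh1
    have : h = k⁻¹ * (k * h * k⁻¹) * k := by group
    rw [this, h3]; simp
  · rw [← hk1]; simp [mul_smul, hc]
  · rw [← hk2]; simp [mul_smul, hd]

theorem exists_ne' (a : Ω) : ∃ b : Ω, b ≠ a := by
  obtain ⟨-, -, c, d, hcd, -, -⟩ := hZ.fix2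
  by_cases h : c = a
  · exact ⟨d, fun h' ↦ hcd (h.trans h'.symm)⟩
  · exact ⟨c, h⟩

/-- The kernel at every point moves any nonfixed point to any other. -/
theorem kernel_move [Finite G] {a b c : Ω} (hb : b ≠ a) (hc : c ≠ a) :
    ∃ f : G, f • a = a ∧ (f = 1 ∨ ∀ d, d ≠ a → f • d ≠ d) ∧ f • b = c := by
  obtain ⟨F, hF, hFt⟩ := hZ.exists_kernel a hb
  obtain ⟨f, hf, hfc⟩ := hFt c hc
  obtain ⟨h1, h2⟩ := (hF f).1 hf
  exact ⟨f, h1, h2, hfc⟩

/-- A normal subgroup containing two-point stabiliser elements is two-transitive. -/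
theorem two_of_fix [Finite G] {N : Subgroup G} (hNn : N.Normal) (hN : N ≠ ⊥)
    (hfix : ∀ a b : Ω, a ≠ b → ∃ h ∈ N, h ≠ 1 ∧ h • a = a ∧ h • b = b)
    {a b c d : Ω} (hab : a ≠ b) (hcd : c ≠ d) : ∃ x ∈ N, x • a = c ∧ x • b = d := by
  obtain ⟨x, hx, hxa⟩ := hZ.normal_transitive hNn hN a c
  have hb : x • b ≠ c := by
    rw [← hxa]
    intro h
    exact hab (smul_left_cancel _ h).symm
  obtain ⟨f, hfa, hf1, hfb⟩ := hZ.kernel_move hb (Ne.symm hcd)
  have hfN : f ∈ N := hZ.kernel_le hNn hfix hb hfa hf1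
  exact ⟨f * x, N.mul_mem hfN hx, by rw [mul_smul, hxa, hfa], by rw [mul_smul, hfb]⟩

/-- Regular normal subgroups of a two-transitive normal subgroup are normal. -/
theorem regular_normal [Finite G] {N M : Subgroup G} (hNn : N.Normal) (hMN : M ≤ N)
    (hNt : ∀ {a b c d : Ω}, a ≠ b → c ≠ d → ∃ x ∈ N, x • a = c ∧ x • b = d)
    (hMn : ∀ x ∈ M, ∀ n ∈ N, n * x * n⁻¹ ∈ M)
    (hMt : ∀ a b : Ω, ∃ x ∈ M, x • a = b)
    (hMs : ∀ x ∈ M, ∀ a : Ω, x • a = a → x = 1) : M.Normal := by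
  classical
  obtain ⟨-, -, a, b₀, hab₀, -, -⟩ := hZ.fix2
  have hf := hZ.faithful
  have huniq : ∀ x ∈ M, ∀ y ∈ M, x • a = y • a → x = y := by
    intro x hx y hy h
    have : y⁻¹ * x = 1 := hMs _ (M.mul_mem (M.inv_mem hy) hx) a (by rw [mul_smul, h, inv_smul_smul])
    exact (inv_mul_eq_one.1 this).symm
  -- conjugation is transitive on non-identity elements
  have hT : ∀ x ∈ M, ∀ y ∈ M, x ≠ 1 → y ≠ 1 → ∃ n ∈ N, n * x * n⁻¹ = y := by
    intro x hx y hy hx1 hy1
    have h1 : a ≠ x • a := fun h ↦ hx1 (hMs x hx a h.symm)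
    have h2 : a ≠ y • a := fun h ↦ hy1 (hMs y hy a h.symm)
    obtain ⟨n, hn, hna, hnb⟩ := hNt h1 h2
    refine ⟨n, hn, huniq _ (hMn x hx n hn) _ hy ?_⟩
    have : n⁻¹ • a = a := by rw [inv_smul_eq_iff, hna]
    simp only [mul_smul, this, hnb]
  -- an element of `M` different from one
  obtain ⟨x₀, hx₀, hx₀a⟩ := hMt a b₀
  have hx₀1 : x₀ ≠ 1 := by
    rintro rfl
    rw [one_smul] at hx₀a
    exact hab₀ hx₀a
  -- all non-identity elements have the same prime order
  obtain ⟨p, hp, hord⟩ : ∃ p : ℕ, p.Prime ∧ ∀ y ∈ M, y ≠ 1 → orderOf y = p := by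
    have hm : orderOf x₀ ≠ 1 := by
      rw [Ne, orderOf_eq_one_iff]; exact hx₀1
    have hm0 : 0 < orderOf x₀ := orderOf_pos x₀
    set p := (orderOf x₀).minFac with hp
    have hpp : p.Prime := Nat.minFac_prime hm
    have hdvd : p ∣ orderOf x₀ := Nat.minFac_dvd _
    let w : G := x₀ ^ (orderOf x₀ / p)
    have hw : orderOf w = p := by
      have := orderOf_pow_orderOf_div hm0.ne' hdvd
      exact this
    have hwM : w ∈ M := M.pow_mem hx₀ _
    have hw1 : w ≠ 1 := by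
      intro h
      rw [h, orderOf_one] at hw
      exact hpp.one_lt.ne hw
    refine ⟨p, hpp, ?_⟩
    intro y hy hy1
    obtain ⟨n, -, hn⟩ := hT w hwM y hy hw1 hy1
    rw [← hn, ← hw]
    exact orderOf_injective (MulAut.conj n).toMonoidHom (MulAut.conj n).injective w
  have hpF : Fact p.Prime := ⟨hp⟩
  have hMp : IsPGroup p M := by
    intro y
    refine ⟨1, ?_⟩
    by_cases hy : (y : G) = 1
    · have : y = 1 := Subtype.ext hy
      simp [this]
    · apply Subtype.ext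
      have := pow_orderOf_eq_one (y : G)
      rw [hord y y.2 hy] at this
      simpa using this
  have hnt : Nontrivial M := ⟨⟨⟨x₀, hx₀⟩, 1, fun h ↦ hx₀1 (congrArg Subtype.val h)⟩⟩
  have hcn := hMp.center_nontrivial
  obtain ⟨z, hz1⟩ := exists_ne (1 : Subgroup.center M)
  have hz1' : ((z : M) : G) ≠ 1 := fun h ↦ hz1 (Subtype.ext (Subtype.ext h))
  have hzc : ∀ y ∈ M, ((z : M) : G) * y = y * ((z : M) : G) := by
    intro y hy
    have := (Subgroup.mem_center_iff.1 z.2) ⟨y, hy⟩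
    exact (congrArg Subtype.val this).symm
  -- `M` is abelian
  have hab : ∀ x ∈ M, ∀ y ∈ M, x * y = y * x := by
    intro x hx y hy
    by_cases hx1 : x = 1
    · simp [hx1]
    obtain ⟨n, hn, rfl⟩ := hT _ z.1.2 x hx hz1' hx1
    have h3 : n⁻¹ * y * n⁻¹⁻¹ ∈ M := hMn y hy _ (N.inv_mem hn)
    have h4 := hzc _ h3
    have h5 : (n⁻¹ * y * n) = n⁻¹ * y * n⁻¹⁻¹ := by simp
    calc n * ((z : M) : G) * n⁻¹ * y = n * (((z : M) : G) * (n⁻¹ * y * n⁻¹⁻¹)) * n⁻¹ := by group
      _ = n * ((n⁻¹ * y * n⁻¹⁻¹) * ((z : M) : G)) * n⁻¹ := by rw [h4]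
      _ = y * (n * ((z : M) : G) * n⁻¹) := by group
  -- any conjugate is inside `M`
  refine ⟨fun u hu g ↦ ?_⟩
  set y := g * u * g⁻¹ with hy
  have hyN : y ∈ N := hNn.conj_mem _ (hMN hu) _
  let M₂ : Subgroup G := M.map (MulAut.conj g).toMonoidHom
  have hM₂ : ∀ v, v ∈ M₂ ↔ g⁻¹ * v * g ∈ M := by
    intro v
    constructor
    · rintro ⟨w, hw, rfl⟩
      simpa [MulAut.conj_apply, mul_assoc] using hw
    · intro hv
      refine ⟨_, hv, ?_⟩
      simp [MulAut.conj_apply, mul_assoc]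
  have hyM₂ : y ∈ M₂ := (hM₂ y).2 (by simpa [hy, mul_assoc] using hu)
  have hM₂N : ∀ v ∈ M₂, v ∈ N := by
    intro v hv
    have h1 := hNn.conj_mem _ (hMN ((hM₂ v).1 hv)) g
    have : g * (g⁻¹ * v * g) * g⁻¹ = v := by group
    rwa [this] at h1
  have hM₂n : ∀ v ∈ M₂, ∀ n ∈ N, n * v * n⁻¹ ∈ M₂ := by
    intro v hv n hn
    rw [hM₂]
    have h1 := hMn _ ((hM₂ v).1 hv) (g⁻¹ * n * g) (by
      have := hNn.conj_mem n hn g⁻¹
      simpa using this)
    have : g⁻¹ * (n * v * n⁻¹) * g = g⁻¹ * n * g * (g⁻¹ * v * g) * (g⁻¹ * n * g)⁻¹ := by group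
    rw [this]
    exact h1
  have hM₂s : ∀ v ∈ M₂, ∀ c : Ω, v • c = c → v = 1 := by
    intro v hv c hc
    have h1 := hMs _ ((hM₂ v).1 hv) (g⁻¹ • c) (by simp [mul_smul, hc])
    have : v = g * (g⁻¹ * v * g) * g⁻¹ := by group
    rw [this, h1]; simp
  obtain ⟨x, hx, hxy⟩ := hMt a (y • a)
  by_cases hcase : ∃ w, w ∈ M ∧ w ∈ M₂ ∧ w ≠ 1
  · obtain ⟨w, hwM, hwM₂, hw1⟩ := hcase
    by_cases hx1 : x = 1
    · have : y = 1 := hM₂s y hyM₂ a (by rw [← hxy, hx1, one_smul])
      rw [this]; exact M.one_mem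
    obtain ⟨n, hn, hnx⟩ := hT w hwM x hx hw1 hx1
    have hxM₂ : x ∈ M₂ := hnx ▸ hM₂n w hwM₂ n hn
    have h2 : x⁻¹ * y = 1 := hM₂s _ (M₂.mul_mem (M₂.inv_mem hxM₂) hyM₂) a (by rw [mul_smul, ← hxy, inv_smul_smul])
    have h3 : x = y := inv_mul_eq_one.1 h2
    rw [← h3]; exact hx
  · push Not at hcase
    -- commuting
    have hcomm : ∀ m ∈ M, m * y = y * m := by
      intro m hm
      have h1 : m * y * m⁻¹ * y⁻¹ ∈ M := by
        have := M.mul_mem hm (hMn _ (M.inv_mem hm) y hyN)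
        have h' : m * (y * m⁻¹ * y⁻¹) = m * y * m⁻¹ * y⁻¹ := by group
        rwa [h'] at this
      have h2 : m * y * m⁻¹ * y⁻¹ ∈ M₂ := by
        have := M₂.mul_mem (hM₂n y hyM₂ m (hMN hm)) (M₂.inv_mem hyM₂)
        exact this
      have h3 := hcase _ h1 h2
      have h4 : m * y * m⁻¹ = y := mul_inv_eq_one.1 h3
      exact mul_inv_eq_iff_eq_mul.1 h4
    have h5 : x⁻¹ * y = 1 := by
      apply FaithfulSMul.eq_of_smul_eq_smul (α := Ω)
      intro c
      rw [one_smul]
      obtain ⟨t, ht, rfl⟩ := hMt a c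
      have h6 : x⁻¹ * y * t = t * (x⁻¹ * y) := by
        have h7 := hcomm t ht
        have h8 := hab _ (M.inv_mem hx) t ht
        calc x⁻¹ * y * t = x⁻¹ * (y * t) := by rw [mul_assoc]
          _ = x⁻¹ * (t * y) := by rw [h7]
          _ = (x⁻¹ * t) * y := by rw [mul_assoc]
          _ = (t * x⁻¹) * y := by rw [h8]
          _ = t * (x⁻¹ * y) := by rw [mul_assoc]
      rw [← mul_smul, h6, mul_smul, mul_smul, ← hxy, inv_smul_smul]
    have h3 : x = y := inv_mul_eq_one.1 h5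
    rw [← h3]; exact hx

end ZData

/-- A nontrivial normal subgroup of a Zassenhaus group has a nonidentity element fixing two points. -/
theorem normal_fix_two [Finite Ω] (hZ : IsZassenhausGroup G Ω) (N : Subgroup G) (hNn : N.Normal) (hN : N ≠ ⊥) :
    ∃ h ∈ N, h ≠ 1 ∧ ∃ c d : Ω, c ≠ d ∧ h • c = c ∧ h • d = d := by
  classical
  have hD := zdata_of hZ
  have hf := hD.faithful
  have : Finite G := Finite.of_injective (MulAction.toPermHom G Ω) (MulAction.toPerm_injective)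
  obtain ⟨-, -, -, -, hlast⟩ := hZ
  by_contra hcon
  push Not at hcon
  have hcon' : ∀ h ∈ N, ∀ c d : Ω, c ≠ d → h • c = c → h • d = d → h = 1 := by
    intro h hh c d hcd h1 h2
    by_contra hne
    exact hcon h hh hne c d hcd h1 h2
  obtain ⟨a, b, hab⟩ : ∃ a b : Ω, a ≠ b := by
    obtain ⟨-, -, a, b, h, -, -⟩ := hD.fix2
    exact ⟨a, b, h⟩
  have hNtr : ∀ a b : Ω, ∃ x : N, x • a = b := by
    intro a b
    obtain ⟨x, hx, hxa⟩ := hD.normal_transitive hNn hN a b
    exact ⟨⟨x, hx⟩, hxa⟩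
  by_cases hs : ∃ g : N, g ≠ 1 ∧ g • a = a
  · obtain ⟨K, hK, hKn, hKt⟩ := frob_action (L := N) (Set.univ : Set Ω) a (Set.mem_univ a)
      (fun _ _ _ ↦ Set.mem_univ _) (fun z _ ↦ hNtr a z) ⟨b, Set.mem_univ b, Ne.symm hab⟩ hs
      (fun g z _ w _ hzw h1 h2 ↦ Subtype.ext (hcon' g g.2 z w hzw h1 h2))
    let K' : Subgroup G := K.map N.subtype
    have hK' : ∀ x, x ∈ K' ↔ x ∈ N ∧ (x = 1 ∨ ∀ z : Ω, x • z ≠ z) := by
      intro x
      constructor
      · rintro ⟨k, hk, rfl⟩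
        refine ⟨k.2, ?_⟩
        rcases (hK k).1 hk with h | h
        · left; rw [h]; rfl
        · right
          intro z
          exact h z (Set.mem_univ z)
      · rintro ⟨h1, h2⟩
        refine ⟨⟨x, h1⟩, (hK _).2 ?_, rfl⟩
        rcases h2 with h | h
        · exact Or.inl (Subtype.ext h)
        · exact Or.inr (fun z _ ↦ h z)
    have hK'n : K'.Normal := by
      refine ⟨fun u hu g ↦ ?_⟩
      obtain ⟨h1, h2⟩ := (hK' u).1 hu
      refine (hK' _).2 ⟨hNn.conj_mem _ h1 _, ?_⟩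
      rcases h2 with h2 | h2
      · left; simp [h2]
      · right
        intro z hz
        apply h2 (g⁻¹ • z)
        rw [eq_inv_smul_iff]
        simpa [mul_smul] using hz
    have htr : IsPretransitive K' Ω := by
      refine ⟨fun c d ↦ ?_⟩
      obtain ⟨k, hk, hk1⟩ := hKt c (Set.mem_univ c)
      obtain ⟨k2, hk2, hk3⟩ := hKt d (Set.mem_univ d)
      refine ⟨⟨k2 * k⁻¹, ⟨k2 * k⁻¹, K.mul_mem hk2 (K.inv_mem hk), rfl⟩⟩, ?_⟩
      change (((k2 * k⁻¹ : N) : G)) • c = d
      rw [← hk1, ← hk3]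
      change ((k2 * k⁻¹ : N) : G) • ((k : G) • a) = (k2 : G) • a
      simp [mul_smul]
    obtain ⟨c, hc⟩ := hlast K' hK'n htr
    apply hc
    rw [Subgroup.eq_bot_iff_forall]
    rintro ⟨x, hx⟩ hxc
    obtain ⟨-, h2⟩ := (hK' x).1 hx
    rcases h2 with h2 | h2
    · exact Subtype.ext h2
    · exact absurd hxc (h2 c)
  · push Not at hs
    have htr : IsPretransitive N Ω := ⟨hNtr⟩
    obtain ⟨c, hc⟩ := hlast N hNn htr
    apply hc
    rw [Subgroup.eq_bot_iff_forall]
    rintro x hxc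
    obtain ⟨y, hy⟩ := hNtr a c
    have h1 : y⁻¹ * x * y = 1 := by
      by_contra hne
      apply hne
      by_contra hne'
      refine hs _ hne' ?_
      have h2 : x • c = c := hxc
      rw [mul_smul, mul_smul, hy, h2, ← hy, inv_smul_smul]
    have : x = y * (y⁻¹ * x * y) * y⁻¹ := by group
    rw [this, h1]; simp

/-- A non-trivial normal subgroup of a Zassenhaus group is Zassenhaus. -/
theorem isZassenhaus_normal [Finite Ω] (hZ : IsZassenhausGroup G Ω) (N : Subgroup G) (hNn : N.Normal) (hN : N ≠ ⊥) :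
    IsZassenhausGroup N Ω := by
  classical
  have hD := zdata_of hZ
  have hf := hD.faithful
  have : Finite G := Finite.of_injective (MulAction.toPermHom G Ω) (MulAction.toPerm_injective)
  have h0 := normal_fix_two hZ N hNn hN
  obtain ⟨-, -, -, -, hlast⟩ := hZ
  have hfix := hD.fix_all hNn h0
  have hNt : ∀ {a b c d : Ω}, a ≠ b → c ≠ d → ∃ x ∈ N, x • a = c ∧ x • b = d :=
    fun h h' ↦ hD.two_of_fix hNn hN hfix h h'
  refine ⟨?_, ?_, ?_, ?_, ?_⟩
  · exact ⟨fun {x y} h ↦ Subtype.ext (FaithfulSMul.eq_of_smul_eq_smul (α := Ω) h)⟩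
  · rw [is_two_pretransitive_iff]
    intro a b c d hab hcd
    obtain ⟨x, hx, h1, h2⟩ := hNt hab hcd
    exact ⟨⟨x, hx⟩, h1, h2⟩
  · intro g a b c hab hbc hac h1 h2 h3
    exact Subtype.ext (hD.three g a b c hab hbc hac h1 h2 h3)
  · obtain ⟨h, hh, hh1, c, d, hcd, hc, hd⟩ := h0
    exact ⟨⟨h, hh⟩, fun h' ↦ hh1 (congrArg Subtype.val h'), c, d, hcd, hc, hd⟩
  · intro M hMn htr
    by_contra hcon
    push Not at hcon
    let M' : Subgroup G := M.map N.subtype
    have hM'N : M' ≤ N := by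
      rintro _ ⟨k, -, rfl⟩
      exact k.2
    have hM'n : ∀ x ∈ M', ∀ n ∈ N, n * x * n⁻¹ ∈ M' := by
      rintro _ ⟨k, hk, rfl⟩ n hn
      exact ⟨⟨n, hn⟩ * k * ⟨n, hn⟩⁻¹, hMn.conj_mem k hk _, rfl⟩
    have hM't : ∀ a b : Ω, ∃ x ∈ M', x • a = b := by
      intro a b
      obtain ⟨⟨x, hx⟩, hxa⟩ := htr.exists_smul_eq a b
      exact ⟨x, ⟨x, hx, rfl⟩, hxa⟩
    have hM's : ∀ x ∈ M', ∀ a : Ω, x • a = a → x = 1 := by
      rintro _ ⟨k, hk, rfl⟩ a hka
      have h1 : (⟨k, hk⟩ : M) ∈ stabilizer M a := hka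
      rw [hcon a] at h1
      have h2 : (⟨k, hk⟩ : M) = 1 := Subgroup.mem_bot.1 h1
      have h3 : k = 1 := congrArg Subtype.val h2
      simp [h3]
    have hM'norm := hD.regular_normal hNn hM'N hNt hM'n hM't hM's
    have htr' : IsPretransitive M' Ω := by
      refine ⟨fun a b ↦ ?_⟩
      obtain ⟨x, hx, hxa⟩ := hM't a b
      exact ⟨⟨x, hx⟩, hxa⟩
    obtain ⟨c, hc⟩ := hlast M' hM'norm htr'
    apply hc
    rw [Subgroup.eq_bot_iff_forall]
    rintro ⟨x, hx⟩ hxc
    exact Subtype.ext (hM's x hx c hxc)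

/-- A Zassenhaus group of odd degree is simple. -/
theorem isSimple_of_odd [Fintype Ω] (hZ : IsZassenhausGroup G Ω) (hodd : Odd (Fintype.card Ω)) : IsSimpleGroup G := by
  classical
  have hD := zdata_of hZ
  have hf := hD.faithful
  have : Finite G := Finite.of_injective (MulAction.toPermHom G Ω) (MulAction.toPerm_injective)
  -- involutions have a fixed point, and no two
  have hparity : ∀ w : G, w * w = 1 → ∃ c : Ω, w • c = c := by
    intro w hw
    let π : Function.End Ω := fun c ↦ w • c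
    have h1 : π ^ 2 ^ 1 = 1 := by
      funext c
      change w • (w • c) = c
      rw [← mul_smul, hw, one_smul]
    have h2 := Equiv.Perm.card_fixedPoints_modEq (p := 2) (n := 1) (f := π) h1
    by_contra hcon
    push Not at hcon
    have h3 : Fintype.card (Function.fixedPoints π) = 0 := by
      rw [Fintype.card_eq_zero_iff]
      refine ⟨fun c ↦ hcon c.1 c.2⟩
    rw [h3] at h2
    obtain ⟨k, hk⟩ := hodd
    rw [hk] at h2
    have : (2 * k + 1) % 2 = 0 % 2 := h2
    omega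
  have hnotwo : ∀ w : G, w * w = 1 → ∀ a b : Ω, a ≠ b → w • a = a → w • b = b → w = 1 := by
    intro w hw a b hab h1 h2
    let π : Function.End Ω := fun c ↦ w • c
    have h3 : π ^ 2 ^ 1 = 1 := by
      funext c
      change w • (w • c) = c
      rw [← mul_smul, hw, one_smul]
    have h4 := Equiv.Perm.card_fixedPoints_modEq (p := 2) (n := 1) (f := π) h3
    by_contra hne
    have hall : ∀ c : Ω, w • c = c → c = a ∨ c = b := by
      intro c hc
      by_contra h5
      push Not at h5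
      exact hne (hD.three w a b c hab (Ne.symm h5.2) (Ne.symm h5.1) h1 h2 hc)
    have h6 : Fintype.card (Function.fixedPoints π) = 2 := by
      rw [← Nat.card_eq_fintype_card, Nat.card_eq_two_iff]
      refine ⟨⟨a, h1⟩, ⟨b, h2⟩, fun h ↦ hab (congrArg Subtype.val h), ?_⟩
      ext ⟨c, hc⟩
      simp only [Set.mem_insert_iff, Set.mem_singleton_iff, Subtype.mk.injEq, Set.mem_univ, iff_true]
      rcases hall c hc with h | h
      · exact Or.inl (Subtype.ext h)
      · exact Or.inr (Subtype.ext h)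
    rw [h6] at h4
    obtain ⟨k, hk⟩ := hodd
    rw [hk] at h4
    have : (2 * k + 1) % 2 = 2 % 2 := h4
    omega
  obtain ⟨g₀, hg₀, -⟩ := hD.fix2
  have hnt : Nontrivial G := ⟨⟨g₀, 1, hg₀⟩⟩
  refine ⟨?_⟩
  · intro N hNn
    by_contra hcon
    push Not at hcon
    obtain ⟨hN, hNt⟩ := hcon
    have h0 := normal_fix_two hZ N hNn hN
    have hfix := hD.fix_all hNn h0
    obtain ⟨-, -, a, b, hab, -, -⟩ := hD.fix2
    -- every involution is in `N`
    have hinv_N : ∀ w : G, w * w = 1 → w ∈ N := by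
      intro w hw
      by_cases hw1 : w = 1
      · rw [hw1]; exact N.one_mem
      obtain ⟨c, hc⟩ := hparity w hw
      obtain ⟨d, hd⟩ := hD.exists_ne' c
      refine hD.kernel_le hNn hfix hd hc (Or.inr ?_)
      intro e he hwe
      exact hw1 (hnotwo w hw c e (Ne.symm he) hc hwe)
    -- the two point stabiliser has odd order
    let H : Subgroup G := stabilizer G a ⊓ stabilizer G b
    have hHmem : ∀ h, h ∈ H ↔ h • a = a ∧ h • b = b := fun h ↦ Iff.rfl
    have hHodd : Odd (Nat.card H) := by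
      rw [← Nat.not_even_iff_odd, even_iff_two_dvd]
      intro h2
      have : Fact (Nat.Prime 2) := ⟨Nat.prime_two⟩
      obtain ⟨w, hw⟩ := exists_prime_orderOf_dvd_card' 2 h2
      have h3 : (w : G) * w = 1 := by
        have := pow_orderOf_eq_one w
        rw [hw, pow_two] at this
        exact congrArg Subtype.val this
      have h4 := hnotwo w h3 a b hab ((hHmem _).1 w.2).1 ((hHmem _).1 w.2).2
      have h5 : w = 1 := Subtype.ext h4
      rw [h5, orderOf_one] at hw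
      omega
    -- an involution swapping the points
    obtain ⟨g, hga, hgb⟩ := hD.two (a := a) (b := b) (c := b) (d := a) hab (Ne.symm hab)
    obtain ⟨m, hm⟩ := hHodd
    have hg2 : g * g ∈ H := (hHmem _).2 ⟨by rw [mul_smul, hga, hgb], by rw [mul_smul, hgb, hga]⟩
    let v : G := g * (g * g) ^ m
    have hpow : ∀ (n : ℕ), (g * g) ^ n ∈ H := fun n ↦ H.pow_mem hg2 n
    have hva : v • a = b := by
      have : (g * g) ^ m • a = a := ((hHmem _).1 (hpow m)).1
      rw [mul_smul, this, hga]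
    have hvb : v • b = a := by
      have : (g * g) ^ m • b = b := ((hHmem _).1 (hpow m)).2
      rw [mul_smul, this, hgb]
    have hvv : v * v = 1 := by
      have h1 : (g * g) ^ Nat.card H = 1 := by
        have := pow_card_eq_one' (G := H) (x := ⟨g * g, hg2⟩)
        exact congrArg Subtype.val this
      have hc : Commute g ((g * g) ^ m) := ((Commute.refl g).mul_right (Commute.refl g)).pow_right m
      have h2 : v * v = (g * g) ^ (2 * m + 1) := by
        change g * (g * g) ^ m * (g * (g * g) ^ m) = _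
        have h3 : (g * g) ^ m * g = g * (g * g) ^ m := hc.eq.symm
        calc g * (g * g) ^ m * (g * (g * g) ^ m) = g * ((g * g) ^ m * g) * (g * g) ^ m := by simp only [mul_assoc]
          _ = (g * g) * ((g * g) ^ m * (g * g) ^ m) := by rw [h3]; simp only [mul_assoc]
          _ = (g * g) ^ (2 * m + 1) := by rw [← pow_add, pow_succ', two_mul]
      rw [h2, ← hm]
      exact h1
    have hv1 : v ≠ 1 := by
      intro h
      rw [h, one_smul] at hva
      exact hab hva
    obtain ⟨c, hc⟩ := hparity v hvv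
    have hca : c ≠ a := by
      intro h
      rw [h, hva] at hc
      exact hab hc.symm
    have hcb : c ≠ b := by
      intro h
      rw [h, hvb] at hc
      exact hab hc
    have hcuniq : ∀ e : Ω, v • e = e → e = c := by
      intro e he
      by_contra hne
      exact hv1 (hnotwo v hvv e c hne he hc)
    -- no fixed points on `H`
    have hcentral : ∀ h ∈ H, h * v = v * h → h = 1 := by
      intro h hh hcomm
      obtain ⟨h1, h2⟩ := (hHmem _).1 hh
      have h3 : h • c = c := hcuniq _ (by rw [← mul_smul, ← hcomm, mul_smul, hc])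
      exact hD.three h a b c hab (Ne.symm hcb) (Ne.symm hca) h1 h2 h3
    let φ : H → H := fun h ↦ ⟨(h : G)⁻¹ * (v * h * v), (hHmem _).2 (by
      obtain ⟨h1, h2⟩ := (hHmem _).1 h.2
      have ha : (h : G)⁻¹ • a = a := by rw [inv_smul_eq_iff, h1]
      have hb : (h : G)⁻¹ • b = b := by rw [inv_smul_eq_iff, h2]
      constructor
      · simp only [mul_smul, hva, h2, hvb, ha]
      · simp only [mul_smul, hvb, h1, hva, hb])⟩
    have hφ : Function.Injective φ := by
      intro h₁ h₂ h12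
      have h3 : (h₁ : G)⁻¹ * (v * h₁ * v) = (h₂ : G)⁻¹ * (v * h₂ * v) := congrArg Subtype.val h12
      have h4 : (h₁ : G)⁻¹ * v * h₁ = (h₂ : G)⁻¹ * v * h₂ := by
        have h5 := congrArg (· * v) h3
        simp only [mul_assoc, hvv, mul_one] at h5
        simpa [mul_assoc] using h5
      have h6 : (h₂ : G) * (h₁ : G)⁻¹ * v = v * ((h₂ : G) * (h₁ : G)⁻¹) := by
        have : (h₂ : G) * (h₁ : G)⁻¹ * v = h₂ * ((h₁ : G)⁻¹ * v * h₁) * (h₁ : G)⁻¹ := by group
        rw [this, h4]; group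
      have h7 := hcentral _ (H.mul_mem h₂.2 (H.inv_mem h₁.2)) h6
      apply Subtype.ext
      exact (mul_inv_eq_one.1 h7).symm
    have hφs : Function.Surjective φ := Finite.surjective_of_injective hφ
    have hHN : ∀ h, h ∈ H → h ∈ N := by
      intro h hh
      obtain ⟨h₀, hh₀⟩ := hφs ⟨h, hh⟩
      have h1 : (h₀ : G)⁻¹ * (v * h₀ * v) = h := congrArg Subtype.val hh₀
      have h2 : (h₀ : G)⁻¹ * v * h₀ ∈ N := by
        apply hinv_N
        have : (h₀ : G)⁻¹ * v * h₀ * ((h₀ : G)⁻¹ * v * h₀) = (h₀ : G)⁻¹ * (v * v) * h₀ := by group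
        rw [this, hvv]; simp
      have h3 := N.mul_mem h2 (hinv_N v hvv)
      have h4 : (h₀ : G)⁻¹ * v * h₀ * v = h := by rw [← h1]; group
      rwa [h4] at h3
    have hGa : ∀ g : G, g • a = a → g ∈ N := by
      intro g hg
      by_cases h1 : g • b = b
      · exact hHN g ((hHmem _).2 ⟨hg, h1⟩)
      have hgb' : g • b ≠ a := by
        intro h
        have : g • b = g • a := by rw [h, hg]
        exact hab (smul_left_cancel _ this).symm
      obtain ⟨f, hfa, hf1, hfb⟩ := hD.kernel_move (Ne.symm hab) hgb'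
      have hfN : f ∈ N := hD.kernel_le hNn hfix (Ne.symm hab) hfa hf1
      have h2 : f⁻¹ * g ∈ N := hHN _ ((hHmem _).2 ⟨by
        rw [mul_smul, hg, inv_smul_eq_iff, hfa], by rw [mul_smul, ← hfb, inv_smul_smul]⟩)
      have h3 := N.mul_mem hfN h2
      rwa [mul_inv_cancel_left] at h3
    apply hNt
    rw [Subgroup.eq_top_iff']
    intro g
    obtain ⟨x, hx, hxa⟩ := hD.normal_transitive hNn hN a (g • a)
    have h2 : x⁻¹ * g ∈ N := hGa _ (by rw [mul_smul, ← hxa, inv_smul_smul])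
    have h3 := N.mul_mem hx h2
    rwa [mul_inv_cancel_left] at h3

end Cfsg.Agent.Lib.Zass
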